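import Groth.Statements.S4907
import Groth.Agent.S0020
import Groth.Agent.EGA43.K123.RectDepth
import Groth.Agent.EGA43.K123.PdOpen
-- import your own Groth.Agent.* helpers here

set_option autoImplicit false
universe u
open CategoryTheory AlgebraicGeometry
open EGA43

namespace Groth.Agent.S4907

/-- Let X be a regular biequidimensional scheme (Noetherian, regular local rings, finite dimension, all
irreducible components of dimension dim X, and dim T = dim cl{y} + codim(cl{y}, T) for every closed
irreducible T and point y of T) and F a coherent O_X-module. Then the rectified depth x ↦ prof(F_x)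
+ dim cl{x} is lower semicontinuous: for every integer n the set of x with prof(F_x) + dim cl{x} ≥ n
is open. -/
theorem result (X : Scheme.{u}) [IsNoetherian X]
    (hreg : ∀ x : X, IsRegularLocalRing ↑(X.presheaf.stalk x))
    (hfin : topologicalKrullDim X < ⊤)
    (hcomp : ∀ C ∈ irreducibleComponents (X : Type u), topologicalKrullDim ↥C = topologicalKrullDim X)
    (hchain : ∀ (y : X) (T : Set X), IsClosed T → IsIrreducible T → y ∈ T →
      topologicalKrullDim ↥T = topologicalKrullDim ↥(closure ({y} : Set X)) + topologicalKrullDim ↥{t : X | t ∈ T ∧ t ⤳ y})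
    (F : X.Modules) (hF : Coh.IsCoh F) (n : ℕ) :
    IsOpen {x : X | (n : WithBot ℕ∞) ≤
      ((LocCoh.depth ↑(X.presheaf.stalk x) ↑(F.presheaf.stalk x) : ℕ∞) : WithBot ℕ∞) +
        topologicalKrullDim ↥(closure ({x} : Set X))} := by
  have hclos : ∀ x : X, 0 ≤ topologicalKrullDim ↥(closure ({x} : Set X)) := by
    intro x
    have : Nonempty ↥(closure ({x} : Set X)) := ⟨⟨x, subset_closure rfl⟩⟩
    exact K123.RectDepth.topologicalKrullDim_nonneg
  -- at points outside of the support the rectified depth is infinite
  have hout : ∀ x : X, x ∉ CohB1.support F → (n : WithBot ℕ∞) ≤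
      ((LocCoh.depth ↑(X.presheaf.stalk x) ↑(F.presheaf.stalk x) : ℕ∞) : WithBot ℕ∞) +
        topologicalKrullDim ↥(closure ({x} : Set X)) := by
    intro x hx
    have : Subsingleton (F.presheaf.stalk x) := not_not.mp hx
    rw [K123.RectDepth.depth_eq_top_of_subsingleton]
    calc (n : WithBot ℕ∞) ≤ (⊤ : WithBot ℕ∞) + 0 := by simp
      _ ≤ _ := add_le_add le_top (hclos x)
  by_cases hX : Nonempty X
  swap
  · convert isOpen_empty
    ext x
    exact (hX ⟨x⟩).elim
  obtain ⟨D, hD⟩ : ∃ D : ℕ, topologicalKrullDim X = D := by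
    have h0 : 0 ≤ topologicalKrullDim X := K123.RectDepth.topologicalKrullDim_nonneg
    generalize topologicalKrullDim X = d at *
    induction d using WithBot.recBotCoe with
    | bot => simp at h0
    | coe d =>
      induction d using ENat.recTopCoe with
      | top => exact absurd hfin (lt_irrefl _)
      | coe n => exact ⟨n, rfl⟩
  -- numerical data at the points of the support
  have hnum : ∀ x ∈ CohB1.support F, ∃ e s : ℕ,
      projectiveDimension (ModuleCat.of ↑(X.presheaf.stalk x) ↑(F.presheaf.stalk x)) = e ∧
      ((LocCoh.depth ↑(X.presheaf.stalk x) ↑(F.presheaf.stalk x) : ℕ∞) : WithBot ℕ∞) +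
        topologicalKrullDim ↥(closure ({x} : Set X)) = s ∧ s + e = D := by
    intro x hx
    have hmain := K123.RectDepth.main_eq hreg hcomp hchain F hF x hx
    have := hreg x
    have : Module.Finite (X.presheaf.stalk x) (F.presheaf.stalk x) :=
      Groth.Agent.CycB.CohStalk.finite_stalk F hF x
    have : Nontrivial (F.presheaf.stalk x) := not_subsingleton_iff_nontrivial.mp hx
    obtain ⟨e, d, h, he, hd, hh, hsum⟩ :=
      K123.RectDepth.exists_data (B := X.presheaf.stalk x) (F.presheaf.stalk x)
    have h0 := hclos x
    rw [he, hd, hD] at hmain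
    rw [hd]
    generalize topologicalKrullDim ↥(closure ({x} : Set X)) = c at *
    induction c using WithBot.recBotCoe with
    | bot => simp at h0
    | coe c =>
      induction c using ENat.recTopCoe with
      | top =>
        exfalso
        rw [show (((d : ℕ∞) : WithBot ℕ∞) + ((⊤ : ℕ∞) : WithBot ℕ∞) + (e : WithBot ℕ∞)) =
          (((d : ℕ∞) + ⊤ + (e : ℕ∞) : ℕ∞) : WithBot ℕ∞) from rfl] at hmain
        have hmain' : ((d : ℕ∞) + ⊤ + (e : ℕ∞) : ℕ∞) = (D : ℕ∞) := by exact_mod_cast hmain
        simp at hmain'
      | coe c =>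
        refine ⟨e, d + c, he, by push_cast; rfl, ?_⟩
        exact_mod_cast hmain
  by_cases hn : n ≤ D
  · convert K123.PdOpen.isOpen_pd_le F hF (D - n) using 1
    ext x
    by_cases hx : x ∈ CohB1.support F
    · obtain ⟨e, s, he, hs, hsum⟩ := hnum x hx
      rw [Set.mem_ofPred_eq, Set.mem_ofPred_eq, he, hs]
      have : n ≤ s ↔ e ≤ D - n := by omega
      exact_mod_cast this
    · refine ⟨fun _ => ?_, fun _ => hout x hx⟩
      have : Subsingleton (F.presheaf.stalk x) := not_not.mp hx
      have h1 : projectiveDimension
          (ModuleCat.of ↑(X.presheaf.stalk x) ↑(F.presheaf.stalk x)) = ⊥ := by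
        rw [projectiveDimension_eq_bot_iff, ModuleCat.isZero_iff_subsingleton]
        exact this
      rw [Set.mem_ofPred_eq, h1]
      exact bot_le
  · convert (Groth.Agent.S0020.result X F hF.2).isOpen_compl using 1
    ext x
    refine ⟨fun h hx => ?_, fun h => hout x h⟩
    obtain ⟨e, s, he, hs, hsum⟩ := hnum x hx
    rw [Set.mem_ofPred_eq, hs] at h
    have : n ≤ s := by exact_mod_cast h
    omega

end Groth.Agent.S4907
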