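import Groth.Statements.S4912
import Groth.Agent.EGA43.K124.SepArtin

set_option autoImplicit false
universe u
open CategoryTheory AlgebraicGeometry
open EGA43

namespace Groth.Agent.S4912

/-- Case Z_λ = X: let X be an Artinian scheme (Noetherian of dimension ≤ 0), u_i : F ⟶ G_i a separating
family of homomorphisms of quasi-coherent O_X-modules (a section of F over an open subset killed by
every u_i is zero) and g : X' ⟶ X a flat morphism; for instance X the spectrum of a field and g
arbitrary. Then the family (g^*u_i) on X' is separating. (The published statement allows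
homomorphisms into direct images (f_λ)_*G_λ; this row is the case Z_λ = X, to which the general case
reduces.) -/
theorem result {X X' : Scheme.{u}} [IsNoetherian X]
    (hX : topologicalKrullDim X ≤ 0) (F : X.Modules) [Coh.IsQCoh F] {ι : Type u}
    (G : ι → X.Modules) [∀ i, Coh.IsQCoh (G i)] (u : ∀ i, F ⟶ G i) (g : X' ⟶ X) [Flat g]
    (h : (∀ (V : (X).Opens) (t : ↑((F).presheaf.obj (Opposite.op V))), (∀ i, (Scheme.Modules.Hom.mapPresheaf (u i)).app (Opposite.op V) t = 0) → t = 0)) :
    (∀ (V : (X').Opens) (t : ↑(((Scheme.Modules.pullback g).obj F).presheaf.obj (Opposite.op V))), (∀ i, (Scheme.Modules.Hom.mapPresheaf ((Scheme.Modules.pullback g).map (u i))).app (Opposite.op V) t = 0) → t = 0) := by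
  refine K130.SepBasic.secInj_of_basis _ {V | IsAffineOpen V ∧ ∃ (x : X) (U : X.Opens),
    IsAffineOpen U ∧ x ∈ U ∧ (U : Set X) = {x} ∧ V ≤ g ⁻¹ᵁ U} ?_ ?_
  · intro V x hx
    obtain ⟨U, hU, hxU, hUx⟩ := K124.SepArtin.exists_affine_singleton hX (g x)
    obtain ⟨V', hV', hxV', hle⟩ := exists_isAffineOpen_mem_and_subset (X := X') (x := x)
      (U := V ⊓ g ⁻¹ᵁ U) ⟨hx, hxU⟩
    exact ⟨V', ⟨hV', g x, U, hU, hxU, hUx, hle.trans inf_le_right⟩, hxV', hle.trans inf_le_left⟩
  · rintro V ⟨hV, x, U, hU, hxU, hUx, e⟩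
    rw [K130.SepBasic.secInj_pullback_iff g e inferInstance (fun i => inferInstance) u hU hV]
    let _ : Algebra Γ(X, U) Γ(X', V) := (g.appLE U V e).hom.toAlgebra
    have : Module.Flat Γ(X, U) Γ(X', V) := g.flat_appLE hU hV e
    have : IsNoetherianRing Γ(X, U) := IsLocallyNoetherian.component_noetherian ⟨U, hU⟩
    have : Subsingleton (U : Set X) := by rw [hUx]; infer_instance
    have e1 : (PrimeSpectrum Γ(X, U)) ≃ (U : Set X) := by
      exact (Scheme.homeoOfIso hU.isoSpec).symm.toEquiv
    have : Subsingleton (PrimeSpectrum Γ(X, U)) := e1.subsingleton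
    have : Nonempty (PrimeSpectrum Γ(X, U)) := ⟨e1.symm ⟨x, hxU⟩⟩
    have : Nontrivial Γ(X, U) := PrimeSpectrum.nonempty_iff_nontrivial.1 this
    exact K124.SepArtin.lTensor_joint_injective_of_subsingleton _ (h U)

end Groth.Agent.S4912
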