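import Groth.Statements.S4914
-- import your own Groth.Agent.* helpers here

set_option autoImplicit false
open CategoryTheory AlgebraicGeometry
universe u v w
open EGA43

namespace Groth.Agent.S4914

/-- Let ψ : X → Y be a continuous map, x a point of X, and (Y_i) a locally finite covering of Y by
closed subsets. If for every index i with ψ x ∈ Y_i the restriction ψ⁻¹(Y_i) → Y_i of ψ is open at
x, then ψ is open at x. -/
theorem result {α : Type u} {β : Type v} {ι : Type w} [TopologicalSpace α]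
    [TopologicalSpace β] (ψ : α → β) (hψ : Continuous ψ) (x : α) (Y : ι → Set β) (hY : LocallyFinite Y)
    (hcl : ∀ i, IsClosed (Y i)) (hcov : ⋃ i, Y i = Set.univ)
    (h : ∀ i, ∀ hi : ψ x ∈ Y i, EGA43.IsOpenAt ((Y i).restrictPreimage ψ) ⟨x, hi⟩) :
    EGA43.IsOpenAt ψ x := by
  classical
  intro U hU
  obtain ⟨N, hN, hfin⟩ := hY (ψ x)
  -- for every index with `ψ x ∈ Y i`, the image of `U` contains a neighbourhood within `Y i`
  have key : ∀ i, ∃ W ∈ nhds (ψ x), W ∩ Y i ⊆ ψ '' U := by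
    intro i
    by_cases hi : ψ x ∈ Y i
    · have h1 : (Subtype.val ⁻¹' U : Set ↥(ψ ⁻¹' Y i)) ∈ nhds (⟨x, hi⟩ : ↥(ψ ⁻¹' Y i)) :=
        mem_nhds_subtype _ _ _ |>.2 ⟨U, hU, subset_rfl⟩
      have h2 := h i hi _ h1
      obtain ⟨W, hW, hWs⟩ := mem_nhds_subtype _ _ _ |>.1 h2
      refine ⟨W, hW, ?_⟩
      rintro y ⟨hyW, hyY⟩
      have h3 : (⟨y, hyY⟩ : ↥(Y i)) ∈ (Subtype.val ⁻¹' W : Set ↥(Y i)) := hyW
      obtain ⟨a, haU, ha⟩ := hWs h3
      exact ⟨a.1, haU, congrArg Subtype.val ha⟩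
    · exact ⟨(Y i)ᶜ, (hcl i).isOpen_compl.mem_nhds hi, fun y hy => absurd hy.2 hy.1⟩
  choose W hW hWs using key
  have h4 : N ∩ ⋂ i ∈ {i | (Y i ∩ N).Nonempty}, W i ∈ nhds (ψ x) :=
    Filter.inter_mem hN ((Filter.biInter_mem hfin).2 fun i _ => hW i)
  refine Filter.mem_of_superset h4 ?_
  rintro y ⟨hyN, hyW⟩
  obtain ⟨i, hi⟩ := Set.mem_iUnion.1 (hcov ▸ Set.mem_univ y : y ∈ ⋃ i, Y i)
  exact hWs i ⟨Set.mem_iInter₂.1 hyW i ⟨y, hi, hyN⟩, hi⟩

end Groth.Agent.S4914
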