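import Groth.Statements.S4916
-- import your own Groth.Agent.* helpers here

set_option autoImplicit false
open CategoryTheory AlgebraicGeometry
universe u v w
open EGA43

namespace Groth.Agent.S4916

/-- Let ψ : X → Y be a continuous map of topological spaces and y a point of Y. The set of points x of
the fibre ψ⁻¹(y) at which ψ is open is a closed subset of ψ⁻¹(y). -/
theorem result {α : Type u} {β : Type v} [TopologicalSpace α] [TopologicalSpace β]
    (ψ : α → β) (hψ : Continuous ψ) (y : β) :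
    IsClosed {x : ↥(ψ ⁻¹' {y}) | EGA43.IsOpenAt ψ x.1} := by
  rw [← isOpen_compl_iff, isOpen_iff_mem_nhds]
  rintro ⟨x, hx⟩ hxn
  have hxn' : ¬ EGA43.IsOpenAt ψ x := hxn
  unfold EGA43.IsOpenAt at hxn'
  push Not at hxn'
  obtain ⟨U, hU, hUn⟩ := hxn'
  refine mem_nhds_subtype _ _ _ |>.2 ⟨interior U, interior_mem_nhds.2 hU, ?_⟩
  rintro ⟨x', hx'⟩ hx'U hopen
  have hx1 : ψ x = y := hx
  have hx2 : ψ x' = y := hx'
  apply hUn
  rw [hx1, ← hx2]
  exact hopen U (mem_interior_iff_mem_nhds.1 hx'U)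

end Groth.Agent.S4916
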