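import Groth.Statements.S4917
import Groth.Agent.EGA43.K124.OpenDim

set_option autoImplicit false
open CategoryTheory AlgebraicGeometry
universe u v w
open EGA43

namespace Groth.Agent.S4917

/-- Assume Y is a locally Noetherian scheme and X is an irreducible scheme, and consider a dominant
morphism f : X ⟶ Y that is locally of finite type. Fix a point x of X and write y = f x. If, for
every irreducible component of the fibre X_y that contains x, the morphism f is open at the generic
point of that component, then f is equidimensional at x. -/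
theorem result {X Y : Scheme.{u}} [IsLocallyNoetherian Y]
    [IrreducibleSpace X] (f : X ⟶ Y) [LocallyOfFiniteType f] [IsDominant f] (x : X)
    (h : ∀ z : ↥(f.fiber (f.base x)), f.asFiber x ∈ closure {z} →
      (∀ z' : ↥(f.fiber (f.base x)), z ∈ closure {z'} → z' = z) →
      EGA43.IsOpenAt f.base ((f.fiberι (f.base x)).base z)) :
    EGA43.IsEquidimAt f x := by
  have hXn : IsLocallyNoetherian X := LocallyOfFiniteType.isLocallyNoetherian f
  have h' : ∀ z : X, z ⤳ x → f z = f x → (∀ z' : X, z' ⤳ z → f z' = f z → z' = z) →
    EGA43.IsOpenAt f z := K124.OpenDim.forall_fiber_iff.1 h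
  rw [Groth.Agent.Ega4fib.H174.EquidimCrit.isEquidimAt_iff_generic]
  obtain ⟨e, he⟩ := K124.OpenDim.exists_rtd_eq f (genericPoint X)
  refine ⟨e, fun ζ hζ hζx => ?_⟩
  obtain rfl : genericPoint X = ζ := hζ _ (genericPoint_specializes ζ)
  refine ⟨fun y hy => ?_, he, fun w hw hwx hfw => ?_⟩
  · have h1 : f (genericPoint X) ⤳ y := by
      rw [specializes_iff_mem_closure]
      have h2 : Set.range f ⊆ closure {f (genericPoint X)} := by
        rintro _ ⟨x', rfl⟩
        exact specializes_iff_mem_closure.1 ((genericPoint_specializes x').map f.continuous)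
      have h3 := closure_minimal h2 isClosed_closure
      rw [f.denseRange.closure_range] at h3
      exact h3 trivial
    exact (hy.antisymm h1).eq
  · obtain ⟨z, h1, h2, h3⟩ := Groth.Agent.Ega4fib.H174.Equidim.exists_maximal_fiber f w
    rw [← he]
    refine (Groth.Agent.VarietyA.LocDim.rtd_le_of_specializes f h1 h2).trans ?_
    refine K124.OpenDim.rtd_le_of_isOpenAt f h3 (h' z (h1.trans hwx) (h2.trans hfw) h3)
      (genericPoint_specializes z) ?_
    exact (Groth.Agent.Ega4fib.H114.GenComp.ringKrullDim_locQuot_generic
      (fun y' => genericPoint_specializes y')).ge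

end Groth.Agent.S4917
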