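import Groth.Statements.S4919
import Groth.Agent.EGA43.K124.OpenDim

set_option autoImplicit false
open CategoryTheory AlgebraicGeometry
universe u v w
open EGA43

namespace Groth.Agent.S4919

open Groth.Agent.CycB.RelDim Groth.Agent.Flat2D.RelDimClosure
open Groth.Agent.Ega4fib.H174.Equidim Groth.Agent.Ega4fib.H174.EquidimCrit

/-- A maximal irreducible subset of a fibre has a generic point, which is maximal in the fibre. -/
theorem exists_generic {X Y : Scheme.{u}} (f : X ⟶ Y) (y : Y) (Z : Set X)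
    (hZy : Z ⊆ f.base ⁻¹' {y}) (hZ : IsIrreducible Z)
    (hZmax : ∀ Z' : Set X, IsIrreducible Z' → Z' ⊆ f.base ⁻¹' {y} → Z ⊆ Z' → Z' = Z) :
    ∃ ζ : X, f ζ = y ∧ Z = closure {ζ} ∩ f ⁻¹' {y} ∧
      (∀ w : X, w ⤳ ζ → f w = f ζ → w = ζ) := by
  obtain ⟨ζ, hζ⟩ := QuasiSober.sober hZ.closure isClosed_closure
  have hspec : ∀ z ∈ Z, ζ ⤳ z := fun z hz => by
    rw [specializes_iff_mem_closure, hζ.def]; exact subset_closure hz
  have hfζ : f ζ = y := by
    obtain ⟨z, hz⟩ := hZ.nonempty
    have h1 : f ζ ⤳ y := by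
      have := (hspec z hz).map f.continuous
      rwa [show f z = y from hZy hz] at this
    have h2 : y ⤳ f ζ := by
      rw [specializes_iff_mem_closure]
      have h3 : ζ ∈ closure Z := by rw [← hζ.def]; exact subset_closure rfl
      have h4 := map_mem_closure f.continuous h3 (t := {y}) (fun z hz => hZy hz)
      exact h4
    exact (h1.antisymm h2).eq
  have hirr : ∀ w : X, f w = y → IsIrreducible (closure {w} ∩ f ⁻¹' {y}) := by
    intro w hw
    rw [← isIrreducible_iff_closure]
    have h1 : closure (closure {w} ∩ f ⁻¹' {y}) = closure {w} := by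
      apply Set.Subset.antisymm
      · exact closure_minimal Set.inter_subset_left isClosed_closure
      · exact closure_mono (Set.singleton_subset_iff.2 ⟨subset_closure rfl, hw⟩)
    rw [h1]
    exact isIrreducible_singleton.closure
  have hsub : ∀ w : X, f w = y → w ⤳ ζ → closure {w} ∩ f ⁻¹' {y} = Z := by
    intro w hw hwζ
    refine hZmax _ (hirr w hw) Set.inter_subset_right ?_
    intro z hz
    exact ⟨specializes_iff_mem_closure.1 (hwζ.trans (hspec z hz)), hZy hz⟩
  refine ⟨ζ, hfζ, (hsub ζ hfζ (specializes_refl ζ)).symm, fun w hw hfw => ?_⟩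
  have h1 := hsub w (hfw.trans hfζ) hw
  have h2 : w ∈ Z := by
    rw [← h1]; exact ⟨subset_closure rfl, hfw.trans hfζ⟩
  exact (hw.antisymm (hspec w h2)).eq

/-- Let Y be an irreducible locally Noetherian scheme with generic point η, f : X ⟶ Y a morphism locally
of finite type, y a point of Y and Z an irreducible component of the fibre f⁻¹(y) (a maximal
irreducible subset of f⁻¹(y), with the topology induced from X) such that f is open at the generic
point ζ of Z. Then there is an irreducible component X' of X containing Z and dominating Y such that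
the local dimension of X' ∩ f⁻¹(y) at ζ equals dim Z, and dim Z = dim (X' ∩ f⁻¹(η)). (The published
statement writes the middle term as the dimension of the whole of X' ∩ f⁻¹(y); its proof yields only
the local dimension at the generic point of Z, and the global equality can fail: for the
endomorphism (a, b) ↦ (ab, b² − b) of the affine plane over a field, the fibre over the origin is
the line b = 0 together with the isolated point (0, 1), at which the map is étale, hence open; with
Z that point, X' is the whole plane, X' ∩ f⁻¹(y) has dimension 1 and dim Z = 0. So the local form is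
stated here.) -/
theorem result {X Y : Scheme.{u}} [IrreducibleSpace Y]
    [IsLocallyNoetherian Y] (f : X ⟶ Y) [LocallyOfFiniteType f] (y : Y) (Z : Set X)
    (hZy : Z ⊆ f.base ⁻¹' {y}) (hZ : IsIrreducible Z)
    (hZmax : ∀ Z' : Set X, IsIrreducible Z' → Z' ⊆ f.base ⁻¹' {y} → Z ⊆ Z' → Z' = Z)
    (hopen : ∀ ζ ∈ Z, Z ⊆ closure {ζ} → EGA43.IsOpenAt f.base ζ) :
    ∃ X' ∈ irreducibleComponents (X : Type u), Z ⊆ X' ∧ Dense (f.base '' X') ∧
      (∀ ζ ∈ Z, Z ⊆ closure {ζ} → ∀ hζ : ζ ∈ X' ∩ f.base ⁻¹' {y},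
        FlatMor.localDim ↥(X' ∩ f.base ⁻¹' {y}) ⟨ζ, hζ⟩ = topologicalKrullDim ↥Z) ∧
      topologicalKrullDim ↥Z = topologicalKrullDim ↥(X' ∩ f.base ⁻¹' {genericPoint Y}) := by
  have hXn : IsLocallyNoetherian X := LocallyOfFiniteType.isLocallyNoetherian f
  obtain ⟨ζ, hfζ, rfl, hmax⟩ := exists_generic f y Z hZy hZ hZmax
  subst hfζ
  have hζZ : ζ ∈ closure {ζ} ∩ f ⁻¹' {f ζ} := ⟨subset_closure rfl, rfl⟩
  have hop : EGA43.IsOpenAt f ζ := hopen ζ hζZ Set.inter_subset_left
  obtain ⟨ξ, hξ, hξmax, hfξ, hrtd⟩ := K124.OpenDim.exists_component f ζ hmax hop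
  obtain ⟨n, hn, hn'⟩ := exists_dim_fib f ζ
  obtain ⟨m, hm, hm'⟩ := exists_dim_fib f ξ
  have hmn : m = n := by
    rw [hm, hn] at hrtd
    exact_mod_cast hrtd
  have hζX' : ζ ∈ closure {ξ} := specializes_iff_mem_closure.1 hξ
  refine ⟨closure {ξ}, mem_irreducibleComponents_iff.mpr ⟨ξ, hξmax, rfl⟩, ?_, ?_, ?_, ?_⟩
  · exact fun z hz => closure_minimal (Set.singleton_subset_iff.2 hζX') isClosed_closure hz.1
  · refine Dense.mono (s₁ := {genericPoint Y}) ?_ ?_
    · rintro _ rfl
      exact ⟨ξ, subset_closure rfl, hfξ⟩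
    · rw [dense_iff_closure_eq]
      exact genericPoint_closure Y
  · intro ζ₁ hζ₁ hle hζ₁'
    have h1 : ζ ⤳ ζ₁ := specializes_iff_mem_closure.2 hζ₁.1
    have h2 : ζ₁ ⤳ ζ := specializes_iff_mem_closure.2 (hle hζZ)
    obtain rfl : ζ = ζ₁ := (h1.antisymm h2).eq
    obtain ⟨k, hk, hk'⟩ := exists_localDim_fib f ξ (f ζ) ⟨ζ, hζX', rfl⟩
      (maximal_fib_mem f hξ fun w' _ h3 h4 => hmax w' h3 h4)
    have h3 : k = n := by
      rw [hn] at hk
      exact_mod_cast hk.symm
    rw [h3] at hk'
    exact hk'.trans hn'.symm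
  · rw [← hfξ]
    exact hn'.trans (by rw [← hmn]; exact hm'.symm)

end Groth.Agent.S4919
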