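import Groth.Statements.S4921
import Groth.Agent.EGA43.K124.FibreDims
import Groth.Agent.S0403

set_option autoImplicit false
open CategoryTheory AlgebraicGeometry
universe u v w
open EGA43

namespace Groth.Agent.S4921

/-- Let Y be a locally Noetherian scheme, f : X ⟶ Y a proper morphism and y a point of Y such that f is
open at every point of the fibre over y. Then the function z ↦ dim X_z is constant on a
neighbourhood of y. -/
theorem result {X Y : Scheme.{u}} [IsLocallyNoetherian Y] (f : X ⟶ Y)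
    [IsProper f] (y : Y) (h : ∀ x : X, f.base x = y → EGA43.IsOpenAt f.base x) :
    ∃ V ∈ nhds y, ∀ z ∈ V, topologicalKrullDim ↥(f.fiber z) = topologicalKrullDim ↥(f.fiber y) := by
  obtain ⟨V, hyV, -, hV⟩ := Groth.Agent.Ega4fib.H174.EquidimCrit.exists_opens_finite_maximal (X := Y) y
  have hopen := Groth.Agent.S0403.result f (topologicalKrullDim ↥(f.fiber y))
  refine ⟨V ∩ {s | topologicalKrullDim ↥(f.fiber s) ≤ topologicalKrullDim ↥(f.fiber y)},
    Filter.inter_mem (V.2.mem_nhds hyV) (hopen.mem_nhds (le_refl (topologicalKrullDim ↥(f.fiber y)))), ?_⟩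
  rintro z ⟨hzV, hz⟩
  refine le_antisymm hz ?_
  refine K124.FibreDims.dim_fiber_le_of_forall f f y z fun c hc hmax => ?_
  obtain ⟨η, hη, hηz⟩ := Groth.Agent.Ega4fib.H174.Equidim.exists_maximal_specializes z
  have hηy : η ⤳ y := hV η (hηz.mem_open V.2 hzV) hη
  obtain ⟨ζ, h1, h2, h3, h4⟩ := K124.OpenDim.exists_generization f c hmax (h c hc) η (by rwa [hc])
  have hcl : IsClosed (f '' closure {ζ}) := f.isClosedMap _ isClosed_closure
  have hz' : z ∈ f '' closure {ζ} := by
    have h5 : closure {η} ⊆ f '' closure {ζ} :=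
      closure_minimal (Set.singleton_subset_iff.2 ⟨ζ, subset_closure rfl, h2⟩) hcl
    exact h5 (specializes_iff_mem_closure.1 hηz)
  obtain ⟨w, hw, hwz⟩ := hz'
  obtain ⟨w', hw1, hw2, hw3, hw4⟩ := Groth.Agent.Ega4fib.H174.EquidimCrit.exists_maximal_fib f
    (specializes_iff_mem_closure.2 hw)
  refine ⟨w', hw3.trans hwz, ?_⟩
  rw [← h4]
  exact Groth.Agent.Ega4fib.H174.EquidimCrit.rtd_le_of_maximal_fib f hw1 hw4

end Groth.Agent.S4921
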