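import Groth.Statements.S4924
import Groth.Agent.EGA43.K124.ConstFibre

set_option autoImplicit false
open CategoryTheory AlgebraicGeometry
universe u v w
open EGA43

namespace Groth.Agent.S4924

open Groth.Agent.CycB.RelDim

theorem dim_inter_preimage {X Y : Scheme.{u}} (f : X ⟶ Y) (U : X.Opens) (s : Y) :
    topologicalKrullDim ↥((U : Set X) ∩ f ⁻¹' {s}) = topologicalKrullDim ↥((U.ι ≫ f).fiber s) := by
  rw [Groth.Agent.FlatA.FibreDim.topologicalKrullDim_fiber_eq]
  let φ : ↥((U.ι ≫ f) ⁻¹' {s}) → ↥((U : Set X) ∩ f ⁻¹' {s}) := fun u => ⟨u.1.1, u.1.2, u.2⟩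
  have h1 : Topology.IsInducing φ := by
    rw [← (Topology.IsInducing.subtypeVal (t := (U : Set X) ∩ f ⁻¹' {s})).of_comp_iff]
    exact (Topology.IsInducing.subtypeVal (t := (U : Set X))).comp Topology.IsInducing.subtypeVal
  have h2 : Function.Injective φ := by
    intro a b hab
    have h3 : (φ a).1 = (φ b).1 := congrArg Subtype.val hab
    exact Subtype.ext (Subtype.ext h3)
  have h3 : Function.Surjective φ := by
    rintro ⟨x, hx, hs⟩
    exact ⟨⟨⟨x, hx⟩, hs⟩, rfl⟩
  exact (IsHomeomorph.topologicalKrullDim_eq φ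
    (isHomeomorph_iff_isEmbedding_surjective.2 ⟨⟨h1, h2⟩, h3⟩)).symm

/-- Let Y be a locally Noetherian scheme, f : X ⟶ Y an open morphism of finite type and y a point of Y.
Then there is an open neighbourhood U of the fibre f⁻¹(y) in X such that the function z ↦ dim (U ∩
f⁻¹(z)) is constant on a neighbourhood of y. -/
theorem result {X Y : Scheme.{u}} [IsLocallyNoetherian Y]
    (f : X ⟶ Y) [LocallyOfFiniteType f] [QuasiCompact f] (hf : IsOpenMap f.base) (y : Y) :
    ∃ U : X.Opens, f.base ⁻¹' {y} ⊆ (U : Set X) ∧ ∃ V ∈ nhds y, ∀ z ∈ V,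
      topologicalKrullDim ↥((U : Set X) ∩ f.base ⁻¹' {z}) = topologicalKrullDim ↥((U : Set X) ∩ f.base ⁻¹' {y}) := by
  by_cases hy : ∃ x, f x = y
  · have hX : IsLocallyNoetherian X := LocallyOfFiniteType.isLocallyNoetherian f
    obtain ⟨n, hn⟩ : ∃ n : ℕ, topologicalKrullDim ↥(f.fiber y) = n := by
      obtain ⟨x, hx⟩ := hy
      have h1 := Groth.Agent.S1333.dim_ne_top f y
      have h0 : ((0 : ℕ) : WithBot ℕ∞) ≤ topologicalKrullDim ↥(f.fiber y) :=
        (K124.FibreDims.le_dim_fiber_iff f y 0).2 ⟨x, hx, by simp⟩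
      generalize topologicalKrullDim ↥(f.fiber y) = a at h1 h0
      induction a using WithBot.recBotCoe with
      | bot => simp at h0
      | coe a =>
        induction a using ENat.recTopCoe with
        | top => exact absurd rfl h1
        | coe a => exact ⟨a, rfl⟩
    let U : X.Opens := ⟨{x | FlatMor.fibreDimAt f x ≤ n}, Groth.Agent.S0402.result f n⟩
    have hU : ∀ x, f x = y → x ∈ U := by
      intro x hx
      refine Groth.Agent.VarietyA.LocDim.fibreDimAt_le f x n fun z _ hfz => ?_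
      exact (K124.FibreDims.dim_fiber_le_iff f y n).1 hn.le z (hfz.trans hx)
    have hg : IsOpenMap (U.ι ≫ f) := hf.comp U.ι.isOpenEmbedding.isOpenMap
    have h1 : ∀ s, topologicalKrullDim ↥((U.ι ≫ f).fiber s) ≤ n := by
      intro s
      rw [K124.FibreDims.dim_fiber_le_iff]
      intro z _
      obtain ⟨m, hm, hm'⟩ := Groth.Agent.VarietyA.LocDim.le_fibreDimAt f z.1 z.1 specializes_rfl rfl
      have h2 : FlatMor.fibreDimAt f z.1 ≤ n := z.2
      refine (Groth.Agent.VarietyA.LocDim.rtd_ι_comp U f z).trans_le ?_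
      rw [hm]
      exact_mod_cast hm'.trans h2
    have h2 : (n : WithBot ℕ∞) ≤ topologicalKrullDim ↥((U.ι ≫ f).fiber y) := by
      rw [K124.FibreDims.le_dim_fiber_iff]
      obtain ⟨z, hz, hnz⟩ := (K124.FibreDims.le_dim_fiber_iff f y n).1 hn.ge
      exact ⟨⟨z, hU z hz⟩, hz, hnz.trans_eq
        (Groth.Agent.VarietyA.LocDim.rtd_ι_comp U f ⟨z, hU z hz⟩).symm⟩
    have h3 := K124.ConstFibre.dim_const (U.ι ≫ f) hg y fun η _ _ => (h1 η).trans h2
    refine ⟨U, fun x hx => hU x hx, _, h3, fun z hz => ?_⟩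
    exact (dim_inter_preimage f U z).trans (hz.trans (dim_inter_preimage f U y).symm)
  · refine ⟨⊥, fun x hx => absurd ⟨x, hx⟩ hy, Set.univ, Filter.univ_mem, fun z _ => ?_⟩
    have h1 : (((⊥ : X.Opens) : Set X) ∩ f ⁻¹' {z}) = (((⊥ : X.Opens) : Set X) ∩ f ⁻¹' {y}) := by
      simp
    exact congrArg (fun S : Set X => topologicalKrullDim ↥S) h1

end Groth.Agent.S4924
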