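import Groth.Statements.S4925
import Groth.Agent.Ega43.UnivOpenAt

set_option autoImplicit false
open CategoryTheory AlgebraicGeometry
universe u v w
open EGA43

namespace Groth.Agent.S4925

/-- Let f : X ⟶ Y and g : Y ⟶ Z be morphisms of schemes and x a point of X. If f is universally open at
x and g is universally open at f x, then f ≫ g is universally open at x. -/
theorem result {X Y Z : Scheme.{u}} (f : X ⟶ Y) (g : Y ⟶ Z) (x : X)
    (hf : EGA43.IsUnivOpenAt f x) (hg : EGA43.IsUnivOpenAt g (f.base x)) :
    EGA43.IsUnivOpenAt (f ≫ g) x := by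
  intro Z' t x' hx'
  have h1 := CategoryTheory.IsPullback.of_bot' (h₁₁ := Limits.pullback.fst (f ≫ g) t) (v₁₂ := f)
    (IsPullback.of_hasPullback (f ≫ g) t) (IsPullback.of_hasPullback g t)
  have h2 := Groth.Agent.Ega43.UnivOpenAt.isOpenAt_of_isPullback hf h1 x' hx'
  have h3 := Groth.Agent.Ega43.UnivOpenAt.isOpenAt_of_isPullback hg
    (IsPullback.of_hasPullback g t)
    (((IsPullback.of_hasPullback g t).lift (Limits.pullback.fst (f ≫ g) t ≫ f)
      (Limits.pullback.snd (f ≫ g) t) (by rw [Category.assoc]; exact Limits.pullback.condition)) x') (by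
      rw [← Scheme.Hom.comp_apply, IsPullback.lift_fst, Scheme.Hom.comp_apply]
      exact congrArg _ hx')
  have h4 := Groth.Agent.Ega43.UnivOpenAt.isOpenAt_comp h2 h3
  have h5 : (IsPullback.of_hasPullback g t).lift (Limits.pullback.fst (f ≫ g) t ≫ f)
      (Limits.pullback.snd (f ≫ g) t) (by rw [Category.assoc]; exact Limits.pullback.condition) ≫
      Limits.pullback.snd g t = Limits.pullback.snd (f ≫ g) t := IsPullback.lift_snd _ _ _ _
  rw [← h5]
  exact h4

end Groth.Agent.S4925
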