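import Groth.Statements.S4928
import Groth.Agent.Ega43.UnivOpenAt
import Groth.Agent.Ega43.OpenAt

set_option autoImplicit false
open CategoryTheory AlgebraicGeometry
universe u v w
open EGA43

namespace Groth.Agent.S4928

open CategoryTheory.Limits in
/-- Let f : X ⟶ Y be locally of finite presentation, x a point of X, y = f x, and f₁ : X ×_Y Spec
O_{Y,y} ⟶ Spec O_{Y,y} the base change of f to the local scheme of Y at y. Then for every point x₁
of X ×_Y Spec O_{Y,y} projecting to x, f is universally open at x if and only if f₁ is universally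
open at x₁. -/
theorem result {X Y : Scheme.{u}} (f : X ⟶ Y) [LocallyOfFinitePresentation f]
    (x : X) (x₁ : ↥(pullback f (Y.fromSpecStalk (f.base x))))
    (hx₁ : (pullback.fst f (Y.fromSpecStalk (f.base x))).base x₁ = x) :
    EGA43.IsUnivOpenAt f x ↔ EGA43.IsUnivOpenAt (pullback.snd f (Y.fromSpecStalk (f.base x))) x₁ := by
  open Groth.Agent.Ega43.UnivOpenAt Groth.Agent.Ega43.OpenAt in
  refine ⟨fun h => isUnivOpenAt_of_isPullback h (IsPullback.of_hasPullback _ _) x₁ hx₁, fun h => ?_⟩
  intro Y' g x' hx'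
  change EGA43.IsOpenAt (pullback.snd f g) x'
  rw [Groth.Agent.Ega43.OpenAt.isOpenAt_iff_genAt]
  intro U hU z hz
  -- the local scheme of `Y'` at the image point, and its map to the local scheme of `Y`
  have key : ∀ (y₀ : Y) (y' : Y'), g y' = y₀ → ∃ h' : Spec (Y'.presheaf.stalk y') ⟶
      Spec (Y.presheaf.stalk y₀), h' ≫ Y.fromSpecStalk y₀ = Y'.fromSpecStalk y' ≫ g := by
    intro y₀ y' e
    subst e
    exact ⟨Spec.map (g.stalkMap y'), Scheme.SpecMap_stalkMap_fromSpecStalk g⟩
  have hy' : g (pullback.snd f g x') = f x := by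
    rw [← Scheme.Hom.comp_apply, ← pullback.condition, Scheme.Hom.comp_apply]
    exact congrArg _ hx'
  obtain ⟨h', hh'⟩ := key _ _ hy'
  have sq1 : IsPullback (pullback.fst (pullback.snd f g) (Y'.fromSpecStalk (pullback.snd f g x')) ≫
      pullback.fst f g) (pullback.snd (pullback.snd f g) (Y'.fromSpecStalk (pullback.snd f g x')))
      f (Y'.fromSpecStalk (pullback.snd f g x') ≫ g) :=
    ((IsPullback.of_hasPullback _ _).flip.paste_vert (IsPullback.of_hasPullback f g).flip).flip
  rw [← hh'] at sq1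
  have sq2 := IsPullback.of_right' sq1 (IsPullback.of_hasPullback f (Y.fromSpecStalk (f x)))
  obtain ⟨a, ha1, ha2⟩ := Scheme.Pullback.exists_preimage_pullback (f := pullback.snd f g)
    (g := Y'.fromSpecStalk (pullback.snd f g x')) x' (IsLocalRing.closedPoint _)
    Scheme.fromSpecStalk_closedPoint.symm
  set l := (IsPullback.of_hasPullback f (Y.fromSpecStalk (f x))).lift
    (pullback.fst (pullback.snd f g) (Y'.fromSpecStalk (pullback.snd f g x')) ≫ pullback.fst f g)
    (pullback.snd (pullback.snd f g) (Y'.fromSpecStalk (pullback.snd f g x')) ≫ h') (by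
      rw [sq1.w, Category.assoc]) with hl
  have hl1 : l ≫ pullback.fst f (Y.fromSpecStalk (f x)) =
      pullback.fst (pullback.snd f g) (Y'.fromSpecStalk (pullback.snd f g x')) ≫
        pullback.fst f g := IsPullback.lift_fst _ _ _ _
  have hla : l a = x₁ := by
    apply (pullback.fst f (Y.fromSpecStalk (f x))).isEmbedding.injective
    rw [← Scheme.Hom.comp_apply, hl1, Scheme.Hom.comp_apply, ha1]
    exact hx'.trans hx₁.symm
  have hopen := Groth.Agent.Ega43.UnivOpenAt.isOpenAt_of_isPullback h sq2 a hla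
  have hgen := Groth.Agent.Ega43.OpenAt.genAt_of_isOpenAt _ _ hopen
  have hzr : z ∈ Set.range (Y'.fromSpecStalk (pullback.snd f g x')) := by
    rw [Scheme.range_fromSpecStalk]; exact hz
  obtain ⟨z₀, rfl⟩ := hzr
  obtain ⟨w, hw, hwz⟩ := hgen
    (pullback.fst (pullback.snd f g) (Y'.fromSpecStalk (pullback.snd f g x')) ⁻¹ᵁ U) (by
      change pullback.fst (pullback.snd f g) (Y'.fromSpecStalk (pullback.snd f g x')) a ∈ U
      rw [ha1]; exact hU) z₀ (by
      rw [ha2]; exact IsLocalRing.specializes_closedPoint _)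
  refine ⟨pullback.fst (pullback.snd f g) (Y'.fromSpecStalk (pullback.snd f g x')) w, hw, ?_⟩
  rw [← Scheme.Hom.comp_apply, pullback.condition, Scheme.Hom.comp_apply, hwz]

end Groth.Agent.S4928
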