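import Groth.Statements.S4930
import Groth.Agent.S2587

set_option autoImplicit false
open CategoryTheory AlgebraicGeometry
universe u v w
open EGA43

namespace Groth.Agent.S4930

/-- A continuous map from an irreducible closed subset with generic point `z` to the spectrum of a
discrete valuation ring has dense image iff `z` does not go to the closed point. -/
lemma dense_image_iff {A : Type u} [CommRing A] [IsDomain A] [IsDiscreteValuationRing A]
    {P : Type u} [TopologicalSpace P] (s : P → PrimeSpectrum A) (hs : Continuous s) {Z : Set P}
    {z : P} (hz : IsGenericPoint z Z) :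
    Dense (s '' Z) ↔ s z ≠ IsLocalRing.closedPoint A := by
  have hzZ : z ∈ Z := by rw [← hz.def]; exact subset_closure rfl
  have hcl := IsLocalRing.isClosed_singleton_closedPoint A
  constructor
  · intro hd hc
    have h1 : s '' Z ⊆ {IsLocalRing.closedPoint A} := by
      rintro _ ⟨w, hw, rfl⟩
      have h2 : z ⤳ w := by
        rw [specializes_iff_mem_closure, hz.def]; exact hw
      have h3 := h2.map hs
      rw [hc, specializes_iff_mem_closure, hcl.closure_eq] at h3
      exact h3
    have h2 := (hd.mono h1).closure_eq
    rw [hcl.closure_eq] at h2
    have h3 : (⊥ : PrimeSpectrum A) ∈ ({IsLocalRing.closedPoint A} : Set (PrimeSpectrum A)) := by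
      rw [h2]
      trivial
    have h4 := congrArg PrimeSpectrum.asIdeal (Set.mem_singleton_iff.1 h3)
    exact IsDiscreteValuationRing.not_a_field A h4.symm
  · intro hne
    have h5 : s z = (⊥ : PrimeSpectrum A) :=
      PrimeSpectrum.ext (Groth.Agent.S2587.eq_bot_of_ne_closedPoint _ hne)
    refine Dense.mono (s₁ := {(⊥ : PrimeSpectrum A)}) ?_ ?_
    · rw [Set.singleton_subset_iff]
      exact ⟨z, hzZ, h5⟩
    · rw [dense_iff_closure_eq]
      refine Set.eq_univ_of_forall fun p => ?_
      rw [← specializes_iff_mem_closure]
      exact (PrimeSpectrum.le_iff_specializes _ _).1 bot_le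

open CategoryTheory.Limits in
/-- Let Y be a locally Noetherian scheme, f : X ⟶ Y a morphism locally of finite type and y a point of
Y. Then f is universally open at all points of the fibre over y if and only if, for every discrete
valuation ring A and every morphism g : Spec A ⟶ Y mapping the closed point to y, every irreducible
component of X ×_Y Spec A dominates Spec A. -/
theorem result {X Y : Scheme.{u}} [IsLocallyNoetherian Y] (f : X ⟶ Y)
    [LocallyOfFiniteType f] (y : Y) :
    (∀ x : X, f.base x = y → EGA43.IsUnivOpenAt f x) ↔
      ∀ (A : Type u) [CommRing A] [IsDomain A] [IsDiscreteValuationRing A] (g : Spec (CommRingCat.of A) ⟶ Y),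
        g.base (IsLocalRing.closedPoint A) = y →
        ∀ Z ∈ irreducibleComponents (↥(pullback f g) : Type u), Dense ((pullback.snd f g).base '' Z) := by
  constructor
  · intro H A _ _ _ g hg Z hZ
    have hZi : IsIrreducible Z := hZ.1
    have hZc : IsClosed Z := isClosed_of_mem_irreducibleComponents Z hZ
    obtain ⟨z, hz⟩ := QuasiSober.sober hZi hZc
    refine (dense_image_iff (A := A) (pullback.snd f g).base (pullback.snd f g).continuous hz).2 ?_
    intro hc
    have hx : f.base ((pullback.fst f g).base z) = y := by
      have h1 : f ((pullback.fst f g) z) = g ((pullback.snd f g) z) := by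
        rw [← Scheme.Hom.comp_apply, pullback.condition, Scheme.Hom.comp_apply]
      refine h1.trans ?_
      rw [← hg]
      exact congrArg _ hc
    obtain ⟨z', hz', hne⟩ := (Groth.Agent.S2587.result f ((pullback.fst f g).base z)).1
      (H _ hx) A g (hg.trans hx.symm) z rfl hc
    apply hne
    have h2 : closure {z'} ⊆ Z := by
      refine hZ.2 isIrreducible_singleton.closure ?_
      rw [← hz.def]
      exact closure_minimal (Set.singleton_subset_iff.2 (specializes_iff_mem_closure.1 hz'))
        isClosed_closure
    have h3 : z ⤳ z' := by
      rw [specializes_iff_mem_closure, hz.def]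
      exact h2 (subset_closure rfl)
    have h4 : z' = z := (hz'.antisymm h3).eq
    rw [h4]
    exact hc
  · intro H x hx
    rw [Groth.Agent.S2587.result]
    intro A _ _ _ g hg x' hx' hc
    have hg' : g.base (IsLocalRing.closedPoint A) = y := hg.trans hx
    have hZ := irreducibleComponent_mem_irreducibleComponents x'
    have hZi : IsIrreducible (irreducibleComponent x') := isIrreducible_irreducibleComponent
    have hZc : IsClosed (irreducibleComponent x') := isClosed_irreducibleComponent
    have hd := H A g hg' _ hZ
    obtain ⟨z, hz⟩ := QuasiSober.sober hZi hZc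
    refine ⟨z, ?_, ?_⟩
    · rw [specializes_iff_mem_closure, hz.def]
      exact mem_irreducibleComponent
    · exact (dense_image_iff (A := A) (pullback.snd f g).base (pullback.snd f g).continuous hz).1 hd

end Groth.Agent.S4930
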