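import Groth.Statements.S4931
import Groth.Agent.Ega43.UnivOpenAt
import Groth.Agent.Ega43.OpenUniv
import Groth.Agent.S2587

set_option autoImplicit false
open CategoryTheory AlgebraicGeometry
universe u v w
open EGA43

namespace Groth.Agent.S4931

open CategoryTheory.Limits in
/-- Suppose Y is a locally Noetherian scheme and the morphism f : X ⟶ Y is locally of finite type. The
morphism f is universally open exactly when the following holds: given any discrete valuation ring A
together with any morphism g : Spec A ⟶ Y, each irreducible component of the fibre product X ×_Y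
Spec A dominates Spec A (i.e. its image under the second projection is dense). -/
theorem result {X Y : Scheme.{u}} [IsLocallyNoetherian Y] (f : X ⟶ Y)
    [LocallyOfFiniteType f] :
    UniversallyOpen f ↔
      ∀ (A : Type u) [CommRing A] [IsDomain A] [IsDiscreteValuationRing A] (g : Spec (CommRingCat.of A) ⟶ Y),
        ∀ Z ∈ irreducibleComponents (↥(pullback f g) : Type u), Dense ((pullback.snd f g).base '' Z) := by
  have hbot : ∀ (A : Type u) [CommRing A] [IsDomain A] (p : ↥(Spec (CommRingCat.of A))),
      ((⊥ : PrimeSpectrum A) : ↥(Spec (CommRingCat.of A))) ⤳ p := fun A _ _ p =>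
    (PrimeSpectrum.le_iff_specializes (R := A) ⊥ p).mp bot_le
  constructor
  · intro hf A _ _ _ g Z hZ
    have hopen : IsOpenMap (pullback.snd f g) := (pullback.snd f g).isOpenMap
    have hgen := Groth.Agent.Ega43.OpenUniv.generalizingMap_of_isOpenMap _ hopen
    obtain ⟨z, hz⟩ := QuasiSober.sober hZ.1 (isClosed_of_mem_irreducibleComponents Z hZ)
    obtain ⟨z', hz', hz'η⟩ := hgen (hbot A ((pullback.snd f g) z))
    have hz'Z : z' ∈ Z := by
      have h1 : Z ⊆ closure {z'} := by
        rw [← hz.def]
        exact closure_minimal (Set.singleton_subset_iff.mpr (specializes_iff_mem_closure.mp hz'))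
          isClosed_closure
      exact hZ.2 isIrreducible_singleton.closure h1 (subset_closure rfl)
    rw [dense_iff_closure_eq, Set.eq_univ_iff_forall]
    intro p
    have h3 : (⊥ : PrimeSpectrum A) ∈ (pullback.snd f g).base '' Z := ⟨z', hz'Z, hz'η⟩
    exact closure_mono (Set.singleton_subset_iff.mpr h3)
      (specializes_iff_mem_closure.mp (hbot A p))
  · intro H
    rw [Groth.Agent.Ega43.UnivOpenAt.universallyOpen_iff_forall_isUnivOpenAt]
    intro x
    rw [Groth.Agent.S2587.result]
    intro A _ _ _ g _ x' _ _
    have hd := H A g (irreducibleComponent x') (irreducibleComponent_mem_irreducibleComponents x')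
    obtain ⟨z, hz⟩ := QuasiSober.sober (isIrreducible_irreducibleComponent (x := x'))
      isClosed_irreducibleComponent
    refine ⟨z, specializes_iff_mem_closure.mpr (by rw [hz.def]; exact mem_irreducibleComponent), ?_⟩
    intro hc
    have hcl : IsClosed ({IsLocalRing.closedPoint A} : Set ↥(Spec (CommRingCat.of A))) :=
      IsLocalRing.isClosed_singleton_closedPoint A
    have h1 : (pullback.snd f g).base '' (irreducibleComponent x') ⊆
        {IsLocalRing.closedPoint A} := by
      rintro _ ⟨w, hw, rfl⟩
      rw [← hz.def] at hw
      have h2 : IsLocalRing.closedPoint A ⤳ (pullback.snd f g) w := by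
        rw [← hc]
        exact (specializes_iff_mem_closure.mpr hw).map (pullback.snd f g).continuous
      exact h2.mem_closed hcl rfl
    have h3 := closure_mono h1
    rw [hd.closure_eq, hcl.closure_eq] at h3
    have h4 : (⊥ : PrimeSpectrum A) = IsLocalRing.closedPoint A := h3 (Set.mem_univ _)
    exact IsDiscreteValuationRing.not_a_field A (congrArg PrimeSpectrum.asIdeal h4).symm

end Groth.Agent.S4931
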