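import Groth.Statements.S4932
import Groth.Agent.EGA43.K125.ValDim
import Groth.Agent.S3388

set_option autoImplicit false
open CategoryTheory AlgebraicGeometry
universe u v w
open EGA43

namespace Groth.Agent.S4932

/-- Let A be a valuation ring (not necessarily discrete), X an irreducible scheme and f : X ⟶ Spec A a
dominant morphism of finite type. If the fibre X_0 of f over the closed point is nonempty, then dim
X_0 = dim X_1, where X_1 is the fibre over the generic point. -/
theorem result {A : Type u} [CommRing A] [IsDomain A]
    [ValuationRing A] {X : Scheme.{u}} [IrreducibleSpace X] (f : X ⟶ Spec (CommRingCat.of A))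
    [LocallyOfFiniteType f] [QuasiCompact f] [IsDominant f]
    (h0 : Nonempty ↥(f.fiber (IsLocalRing.closedPoint A))) :
    topologicalKrullDim ↥(f.fiber (IsLocalRing.closedPoint A)) =
      topologicalKrullDim ↥(f.fiber (genericPoint (Spec (CommRingCat.of A)))) := by
  apply le_antisymm
  · apply K125.ValDim.topologicalKrullDim_fiber_le
    intro x _ n hn
    obtain ⟨m, hm, hm'⟩ := K125.ValDim.exists_rtd_le_topologicalKrullDim f (genericPoint X) _
      (Groth.Agent.Ega43.ChevalleyCrit.map_genericPoint f)
    refine le_trans ?_ hm'
    have h1 := K125.ValRtd.rtd_le_of_specializes f (genericPoint_specializes x)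
    rw [hn, hm] at h1
    exact_mod_cast h1
  · obtain ⟨t⟩ := h0
    have hy : f (f.fiberι _ t) = IsLocalRing.closedPoint A := K125.ValDim.apply_fiberι f _ t
    exact (Groth.Agent.S3388.result f (f.fiberι _ t)).trans
      (K125.ValDim.fibreDimAt_le_topologicalKrullDim f _ _ hy)

end Groth.Agent.S4932
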