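import Groth.Statements.S4933
import Groth.Agent.EGA43.K125.DimConds

set_option autoImplicit false
open CategoryTheory AlgebraicGeometry
universe u v w
open EGA43

namespace Groth.Agent.S4933

/-- Let f : X ⟶ Y be a morphism locally of finite type, x a point of X which is a maximal point of its
fibre X_y, y = f x. Consider: a) f is universally open at x; b) for every irreducible component Y₀
of Y containing y, with generic point η, there is an irreducible component Z of X containing x and
dominating Y₀ such that dim_x(X_y) = dim_x(Z ∩ X_y) = dim(Z ∩ X_η); b') for every open neighbourhood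
U of x and every generization y' of y one has dim(U ∩ X_{y'}) ≥ dim_x(X_y). Then a) implies b'), and
b') implies b). (Subsets of X carry the induced topology; dim_x(U ∩ X_y) = dim_x(X_y). The published
statement asserts moreover that b) implies b'); that implication can fail, because a generization y'
of y need not lie under any point of U ∩ Z: for the finite birational morphism from the affine plane
onto the surface obtained from it by identifying two rational points p and q, at x = p condition b)
holds with all dimensions equal to 0, while for U the complement of a line L through q avoiding p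
and y' the image of the generic point of L the set U ∩ X_{y'} is empty. So only a) ⇒ b') and b') ⇒
b) are stated here.) -/
theorem result {X Y : Scheme.{u}} (f : X ⟶ Y) [LocallyOfFiniteType f]
    (x : X) (hmax : ∀ x' : X, f.base x' = f.base x → x ∈ closure {x'} → x' = x) :
    (EGA43.IsUnivOpenAt f x → (∀ U : X.Opens, x ∈ U → ∀ y' : Y, y' ⤳ f.base x →
        FlatMor.fibreDimAt f x ≤ topologicalKrullDim ↥((U : Set X) ∩ f.base ⁻¹' {y'}))) ∧
    ((∀ U : X.Opens, x ∈ U → ∀ y' : Y, y' ⤳ f.base x →
        FlatMor.fibreDimAt f x ≤ topologicalKrullDim ↥((U : Set X) ∩ f.base ⁻¹' {y'})) →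
      (∀ Y₀ ∈ irreducibleComponents (Y : Type u), f.base x ∈ Y₀ →
        ∃ Z ∈ irreducibleComponents (X : Type u), ∃ hx : x ∈ Z, closure (f.base '' Z) = Y₀ ∧
          ∀ η : Y, closure ({η} : Set Y) = Y₀ →
            FlatMor.fibreDimAt f x = FlatMor.localDim ↥(Z ∩ f.base ⁻¹' {f.base x}) ⟨x, ⟨hx, rfl⟩⟩ ∧
            FlatMor.localDim ↥(Z ∩ f.base ⁻¹' {f.base x}) ⟨x, ⟨hx, rfl⟩⟩ =
              topologicalKrullDim ↥(Z ∩ f.base ⁻¹' {η}))) := by
  constructor
  · intro H U hU y' hy'
    exact K125.DimConds.le_dim_opens_of_isUnivOpenAt f x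
      (fun z hz hfz => hmax z hfz (specializes_iff_mem_closure.mp hz)) H U hU y' hy'
  · intro H Y₀ hY₀ hxY₀
    obtain ⟨η, hηmax, rfl⟩ :=
      Groth.Agent.Ega4fib.H174.Equidim.mem_irreducibleComponents_iff.mp hY₀
    have hηx : η ⤳ f.base x := specializes_iff_mem_closure.mpr hxY₀
    obtain ⟨d, hd⟩ := Groth.Agent.Ega43.FibreDimFinite.exists_fibreDimAt_eq f x
    obtain ⟨ζ, hζ, hζx, hζη, hζd, hle⟩ := K125.DimConds.exists_component f x η hηmax d hd
      (fun U hU => hd ▸ H U hU η hηx)
    have h4 : closure (f.base '' closure {ζ}) = closure {f ζ} :=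
      Groth.Agent.Ega4fib.H174.Equidim.closure_image_closure_singleton f ζ
    obtain ⟨h5, h6⟩ := K125.DimConds.component_dims f x ζ hζx d hζd hle
    refine ⟨closure {ζ}, Groth.Agent.Ega4fib.H174.Equidim.mem_irreducibleComponents_iff.mpr
      ⟨ζ, hζ, rfl⟩, specializes_iff_mem_closure.mp hζx, by rw [h4, hζη], ?_⟩
    intro η' hη'
    rw [← hζη] at hη'
    exact ⟨hd.trans h5.symm, h5.trans (h6 η' hη').symm⟩

end Groth.Agent.S4933
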