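import Groth.Statements.S4937
import Groth.Agent.EGA43.K125.UnibranchQF
import Groth.Agent.Ega43.ChevalleyCrit
import Groth.Agent.S3404

set_option autoImplicit false
open CategoryTheory AlgebraicGeometry
universe u v w
open EGA43

namespace Groth.Agent.S4937

/-- Let X and Y be irreducible schemes and f : X ⟶ Y a dominant morphism which is locally of finite
presentation and locally quasi-finite. If x is a point of X whose image y = f x has unibranch local
ring O_{Y,y}, then f is open at x. (Stated for f locally of finite presentation, the class to which
the openness criterion by lifting of generizations used in the published argument applies; the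
published hypothesis is 'locally quasi-finite', which includes locally of finite type.) -/
theorem result {X Y : Scheme.{u}} [IrreducibleSpace X]
    [IrreducibleSpace Y] (f : X ⟶ Y) [LocallyOfFinitePresentation f] [LocallyQuasiFinite f] [IsDominant f]
    (x : X) (hy : CAlg2.IsUnibranch (Y.presheaf.stalk (f.base x))) : EGA43.IsOpenAt f.base x := by
  rw [(Groth.Agent.S3404.result f x).2 inferInstance]
  intro y' hy'
  have h1 : f (genericPoint X) = genericPoint Y :=
    Groth.Agent.Ega43.ChevalleyCrit.map_genericPoint f
  obtain ⟨x', -, hx', hx'y⟩ := K125.UnibranchQF.exists_specializes_of_isUnibranch f x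
    (f.quasiFiniteAt x) hy (genericPoint X) (genericPoint_specializes x) (by
      intro y hy
      rw [h1] at hy ⊢
      exact (hy.antisymm (genericPoint_specializes y)).eq) y' hy'
  exact ⟨x', hx', hx'y⟩

end Groth.Agent.S4937
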