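import Groth.Statements.S4938
import Groth.Agent.EGA43.K125.FibDims

set_option autoImplicit false
open CategoryTheory AlgebraicGeometry
universe u v w
open EGA43

namespace Groth.Agent.S4938

/-- Let Y be a locally Noetherian scheme, f : X ⟶ Y a morphism locally of finite type, and y a
geometrically unibranch point of Y, lying on the unique irreducible component Y₀ of Y with generic
point η. The following are equivalent: a) f is universally open at every point of X_y; b) every
point x of X_y lies on an irreducible component Z of X dominating Y₀ with dim_x(Z ∩ X_y) = dim(Z ∩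
X_η); b'') for every open subset U of X, dim(U ∩ X_η) ≥ dim(U ∩ X_y); c) f is open at every point of
X_y. (The published statement assumes Y locally Noetherian only for c) and also lists b′), the
pointwise form of b″) (for every x in X_y and every open U ∋ x, dim(U ∩ X_η) ≥ dim_x(U ∩ X_y)); over
the spectrum of an infinite product of copies of a field, the inclusion of a non-open closed point
satisfies b) and b″) but not a), so this row takes Y locally Noetherian throughout, and b′) is not
listed.) -/
theorem result {X Y : Scheme.{u}} [IsLocallyNoetherian Y] (f : X ⟶ Y)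
    [LocallyOfFiniteType f] (y : Y) (hy : CAlg2.IsGeomUnibranch (Y.presheaf.stalk y)) :
    List.TFAE [∀ x : X, f.base x = y → EGA43.IsUnivOpenAt f x,
      ∀ x : X, f.base x = y → ∀ Y₀ ∈ irreducibleComponents (Y : Type u), y ∈ Y₀ →
        ∃ Z ∈ irreducibleComponents (X : Type u), ∃ hx : x ∈ Z, closure (f.base '' Z) = Y₀ ∧
          ∀ η : Y, closure ({η} : Set Y) = Y₀ →
            FlatMor.localDim ↥(Z ∩ f.base ⁻¹' {f.base x}) ⟨x, ⟨hx, rfl⟩⟩ = topologicalKrullDim ↥(Z ∩ f.base ⁻¹' {η}),
      ∀ U : X.Opens, ∀ Y₀ ∈ irreducibleComponents (Y : Type u), y ∈ Y₀ → ∀ η : Y, closure ({η} : Set Y) = Y₀ →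
        topologicalKrullDim ↥((U : Set X) ∩ f.base ⁻¹' {y}) ≤ topologicalKrullDim ↥((U : Set X) ∩ f.base ⁻¹' {η}),
      ∀ x : X, f.base x = y → EGA43.IsOpenAt f.base x] := by
  have hnil : (nilradical (Y.presheaf.stalk y)).IsPrime := K125.TfaePt.nilradical_isPrime hy.1
  have hB : ∀ x : X, f x = y → (K125.TfaePt.CondB f x ↔
      ∀ Y₀ ∈ irreducibleComponents (Y : Type u), y ∈ Y₀ →
        ∃ Z ∈ irreducibleComponents (X : Type u), ∃ hx : x ∈ Z, closure (f.base '' Z) = Y₀ ∧
          ∀ η : Y, closure ({η} : Set Y) = Y₀ →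
            FlatMor.localDim ↥(Z ∩ f.base ⁻¹' {f.base x}) ⟨x, ⟨hx, rfl⟩⟩ =
              topologicalKrullDim ↥(Z ∩ f.base ⁻¹' {η})) := by
    rintro x rfl
    exact K125.TfaePt.condB_iff f x hnil
  tfae_have 1 → 3 := by
    intro h U Y₀ hY₀ hyY₀ η hη
    have hηy : η ⤳ y := by rw [specializes_iff_mem_closure, hη]; exact hyY₀
    exact K125.FibDims.dim_opens_le f y h U η hηy
  tfae_have 3 → 2 := by
    intro h x hx
    refine (hB x hx).mp ?_
    have hir : irreducibleComponent y ∈ irreducibleComponents (Y : Type u) :=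
      irreducibleComponent_mem_irreducibleComponents _
    obtain ⟨η, hη, hηmax⟩ := K125.TfaePt.exists_eq_closure hir
    refine K125.TfaePt.condB_of_le_dim f x η hηmax fun U hU => ?_
    refine (K125.FibDims.fibreDimAt_le_dim_opens f x U hU).trans ?_
    rw [hx]
    exact h U _ hir mem_irreducibleComponent η hη.symm
  tfae_have 2 → 1 := by
    intro h
    exact K125.FibDims.isUnivOpenAt_of_forall_condB f y hy fun x hx _ => (hB x hx).mpr (h x hx)
  tfae_have 1 → 4 := fun h x hx => K125.TfaePt.isOpenAt_of_isUnivOpenAt (h x hx)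
  tfae_have 4 → 1 := by
    intro h
    exact K125.FibDims.isUnivOpenAt_of_forall_condB f y hy fun x hx hmax =>
      K125.TfaePt.condB_of_isOpenAt f x hmax (h x hx)
  tfae_finish


end Groth.Agent.S4938
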