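import Groth.Statements.S4939
import Groth.Agent.EGA43.K125.EquidimPt
import Groth.Agent.S3397

set_option autoImplicit false
open CategoryTheory AlgebraicGeometry
universe u v w
open EGA43

namespace Groth.Agent.S4939

/-- Suppose Y is a locally Noetherian scheme and f : X ⟶ Y is locally of finite type; take a point x of
X whose image y = f x is geometrically unibranch on Y. Then these three conditions are equivalent:
a) f is equidimensional at x; b) O_{X,x} is an equidimensional local ring, and f is open at every
generic point of an irreducible component of the fibre X_y that contains x; c) O_{X,x} is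
equidimensional, and f is universally open at every such generic point of an irreducible component
of X_y passing through x. (Not formalized here is the additional claim that, when these hold,
restricting f to any reduced irreducible component of X through x gives a morphism equidimensional
at x and universally open at the points of the components of its fibre through x.) -/
theorem result {X Y : Scheme.{u}} [IsLocallyNoetherian Y] (f : X ⟶ Y)
    [LocallyOfFiniteType f] (x : X) (hy : CAlg2.IsGeomUnibranch (Y.presheaf.stalk (f.base x))) :
    List.TFAE [EGA43.IsEquidimAt f x,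
      EGA4.IsEquidim (X.presheaf.stalk x) ∧ (∀ z : ↥(f.fiber (f.base x)), f.asFiber x ∈ closure {z} →
        (∀ z' : ↥(f.fiber (f.base x)), z ∈ closure {z'} → z' = z) → EGA43.IsOpenAt f.base ((f.fiberι (f.base x)).base z)),
      EGA4.IsEquidim (X.presheaf.stalk x) ∧ (∀ z : ↥(f.fiber (f.base x)), f.asFiber x ∈ closure {z} →
        (∀ z' : ↥(f.fiber (f.base x)), z ∈ closure {z'} → z' = z) → EGA43.IsUnivOpenAt f ((f.fiberι (f.base x)).base z))] := by
  have hnil : (nilradical (Y.presheaf.stalk (f x))).IsPrime := K125.TfaePt.nilradical_isPrime hy.1
  have hfib : ∀ z : ↥(f.fiber (f.base x)), f ((f.fiberι (f.base x)).base z) = f x := by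
    intro z
    have : (f.fiberι (f.base x)).base z ∈ Set.range (f.fiberι (f x)) := ⟨z, rfl⟩
    rw [Scheme.Hom.range_fiberι] at this
    exact this
  have hsp : ∀ z : ↥(f.fiber (f.base x)), f.asFiber x ∈ closure {z} →
      (f.fiberι (f.base x)).base z ⤳ x := by
    intro z hz
    have := (specializes_iff_mem_closure.mpr hz).map (f.fiberι (f x)).continuous
    rwa [Scheme.Hom.fiberι_asFiber] at this
  have hmax : ∀ z : ↥(f.fiber (f.base x)),
      (∀ z' : ↥(f.fiber (f.base x)), z ∈ closure {z'} → z' = z) →
      ∀ w : X, w ⤳ (f.fiberι (f.base x)).base z → f w = f ((f.fiberι (f.base x)).base z) →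
        w = (f.fiberι (f.base x)).base z := by
    intro z hz w hw hfw
    rw [hfib] at hfw
    obtain ⟨w', rfl⟩ : w ∈ Set.range (f.fiberι (f x)) := by
      rw [Scheme.Hom.range_fiberι]
      exact hfw
    have h1 : w' ⤳ z := (f.fiberι (f x)).isEmbedding.isInducing.specializes_iff.mp hw
    have h2 := hz w' (specializes_iff_mem_closure.mp h1)
    rw [h2]
  tfae_have 1 → 3 := by
    intro h
    refine ⟨K125.EquidimPt.isEquidim_stalk_of_isEquidimAt f x hy h, fun z hz _ => ?_⟩
    refine K125.TfaePt.isUnivOpenAt_of_condB f _ ?_
      (K125.EquidimPt.condB_of_isEquidimAt f x h _ (hsp z hz) (hfib z))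
    rw [hfib]
    exact hy
  tfae_have 3 → 2 := fun h => ⟨h.1, fun z hz hz' =>
    K125.TfaePt.isOpenAt_of_isUnivOpenAt (h.2 z hz hz')⟩
  tfae_have 2 → 1 := by
    intro h
    exact S3397.result f x (K125.EquidimPt.isEquidim_of_isUnibranch hnil) h.1
      (by
        have hXN : IsLocallyNoetherian X := LocallyOfFiniteType.isLocallyNoetherian f
        exact S2559.result f x h.2)
  tfae_finish


end Groth.Agent.S4939
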