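import Groth.Statements.S4941
import Groth.Agent.Ega43.UnivOpenAt

set_option autoImplicit false
open CategoryTheory AlgebraicGeometry
universe u v w
open EGA43

namespace Groth.Agent.S4941

open CategoryTheory.Limits in
/-- Let v : Y₁ ⟶ Y be a surjective morphism of schemes whose underlying map is closed, f : X ⟶ Y a
morphism and x a point of X. If the base change f₁ : X ×_Y Y₁ ⟶ Y₁ is open at every point of X ×_Y
Y₁ lying over x, then f is open at x. -/
theorem result {X Y Y₁ : Scheme.{u}} (v : Y₁ ⟶ Y)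
    (hv : IsClosedMap v.base) [Surjective v] (f : X ⟶ Y) (x : X)
    (h : ∀ x₁ : ↥(pullback f v), (pullback.fst f v).base x₁ = x → EGA43.IsOpenAt (pullback.snd f v).base x₁) :
    EGA43.IsOpenAt f.base x := by
  apply Groth.Agent.Ega43.UnivOpenAt.isOpenAt_of_forall_isOpen
  intro U hU hxU
  have hV : IsClosed (v.base '' (interior (v.base ⁻¹' (f.base '' U)))ᶜ) :=
    hv _ isOpen_interior.isClosed_compl
  have hmem : f.base x ∉ v.base '' (interior (v.base ⁻¹' (f.base '' U)))ᶜ := by
    rintro ⟨y₁, hy₁, hy₁x⟩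
    apply hy₁
    obtain ⟨x₁, hx₁, hx₁'⟩ := Scheme.Pullback.exists_preimage_pullback (f := f) (g := v) x y₁
      hy₁x.symm
    have h1 := h x₁ hx₁ ((pullback.fst f v).base ⁻¹' U)
      ((pullback.fst f v).continuous.continuousAt.preimage_mem_nhds
        (by
          have : (pullback.fst f v) x₁ = x := hx₁
          rw [this]; exact hU.mem_nhds hxU))
    rw [mem_interior_iff_mem_nhds]
    have h2 : (pullback.snd f v).base x₁ = y₁ := hx₁'
    rw [h2] at h1
    refine Filter.mem_of_superset h1 ?_
    rintro _ ⟨w, hw, rfl⟩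
    refine ⟨(pullback.fst f v).base w, hw, ?_⟩
    exact (Scheme.Hom.comp_apply _ _ _).symm.trans
      ((congrArg (fun φ : pullback f v ⟶ Y => φ w) (pullback.condition (f := f) (g := v))).trans
        (Scheme.Hom.comp_apply _ _ _))
  refine Filter.mem_of_superset (hV.isOpen_compl.mem_nhds hmem) ?_
  intro y hy
  obtain ⟨y₁, rfl⟩ := v.surjective y
  by_contra hc
  apply hy
  refine ⟨y₁, fun h3 => hc ?_, rfl⟩
  have h4 : y₁ ∈ v.base ⁻¹' (f.base '' U) := interior_subset h3
  exact h4

end Groth.Agent.S4941
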