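import Groth.Statements.S4943
import Groth.Agent.EGA43.K126.EquidimSub
import Groth.Agent.Ega43.FibreDimFinite

set_option autoImplicit false
open CategoryTheory AlgebraicGeometry
universe u v w
open EGA43

namespace Groth.Agent.S4943

open TopologicalSpace Groth.Agent.CycB.RelDim Groth.Agent.Flat2D.RelDimClosure
open Groth.Agent.Ega4fib.H174.Equidim Groth.Agent.Ega4fib.H174.EquidimCrit

/-- Let Y be an irreducible locally Noetherian scheme, f : X ⟶ Y a morphism locally of finite type which
is equidimensional at the point x, y = f x and e = dim_x(X_y). Let X' be an irreducible closed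
subset of X containing x, with generic point x', and n a natural number such that codim(X', X) ≤ n
(the codimension being dim O_{X,x'}) and dim_x(X' ∩ X_y) ≤ e − n. Then codim(X', X) = n, dim_x(X' ∩
X_y) = e − n, and the restriction of f to X' with its reduced subscheme structure is equidimensional
at x. -/
theorem result {X Y : Scheme.{u}} [IrreducibleSpace Y]
    [IsLocallyNoetherian Y] (f : X ⟶ Y) [LocallyOfFiniteType f] (x : X) (hf : EGA43.IsEquidimAt f x)
    (X' : TopologicalSpace.Closeds X) (x' : X) (hx' : closure ({x'} : Set X) = (X' : Set X)) (hx : x ∈ X') (n : ℕ)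
    (hcodim : ringKrullDim (X.presheaf.stalk x') ≤ n)
    (hdim : FlatMor.localDim ↥((X' : Set X) ∩ f.base ⁻¹' {f.base x}) ⟨x, ⟨hx, rfl⟩⟩ + n ≤ FlatMor.fibreDimAt f x) :
    ringKrullDim (X.presheaf.stalk x') = n ∧
      FlatMor.localDim ↥((X' : Set X) ∩ f.base ⁻¹' {f.base x}) ⟨x, ⟨hx, rfl⟩⟩ + n = FlatMor.fibreDimAt f x ∧
      ∀ w : ↥(Scheme.IdealSheafData.vanishingIdeal X').subscheme,
        (Scheme.IdealSheafData.vanishingIdeal X').subschemeι.base w = x →
        EGA43.IsEquidimAt ((Scheme.IdealSheafData.vanishingIdeal X').subschemeι ≫ f) w := by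
  have hX : IsLocallyNoetherian X := LocallyOfFiniteType.isLocallyNoetherian f
  obtain rfl : X' = ⟨closure {x'}, isClosed_closure⟩ := Closeds.ext hx'.symm
  have h : x' ⤳ x := specializes_iff_mem_closure.mpr hx
  obtain ⟨e, c, d, t, he, ht, hd, -, hce, hcd, hne, hζ⟩ := K126.EquidimSub.numbers f x x' hf h
  have hL := localDim_fib_le_iff f h t
  obtain ⟨w, h1, h2, h3, h4⟩ := exists_maximal_fib f h
  have h5 := rtd_le_of_maximal_fib f h1 h4
  obtain ⟨m, hm, hm'⟩ := le_localDim_fib f h h1 h2 h3
  rw [ht, hm] at h5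
  have htm : t ≤ m := by exact_mod_cast h5
  change FlatMor.localDim (Fib f x' (f x)) ⟨x, specializes_iff_mem_closure.mp h, rfl⟩ + n ≤
    FlatMor.fibreDimAt f x at hdim
  change _ ∧ FlatMor.localDim (Fib f x' (f x)) ⟨x, specializes_iff_mem_closure.mp h, rfl⟩ + n =
    FlatMor.fibreDimAt f x ∧ _
  generalize FlatMor.localDim (Fib f x' (f x)) ⟨x, specializes_iff_mem_closure.mp h, rfl⟩ = L at *
  rw [he] at hdim ⊢
  have hLe : L ≤ e := le_trans (le_add_of_nonneg_right (by exact_mod_cast Nat.zero_le n)) hdim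
  obtain ⟨l, rfl⟩ := Groth.Agent.Ega43.FibreDimFinite.exists_nat_of_le
    (le_trans (by exact_mod_cast Nat.zero_le m) hm') hLe
  rw [hd] at hcodim ⊢
  have hml : m ≤ l := by exact_mod_cast hm'
  have hln : l + n ≤ e := by exact_mod_cast hdim
  have hdn : d ≤ n := by exact_mod_cast hcodim
  have hgen : f x' = genericPoint Y := by
    by_contra hne'
    have := hne hne'
    omega
  refine ⟨by exact_mod_cast (by omega : d = n), by exact_mod_cast (by omega : l + n = e), ?_⟩
  intro w₀ hw₀
  set j := (Scheme.IdealSheafData.vanishingIdeal (⟨closure {x'}, isClosed_closure⟩ : Closeds X)).subschemeι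
    with hj
  have hr : Set.range j = closure {x'} := by
    rw [hj, Scheme.IdealSheafData.range_subschemeι]
    exact Scheme.IdealSheafData.coe_support_vanishingIdeal _
  have hW : IsLocallyNoetherian (Scheme.IdealSheafData.vanishingIdeal
    (⟨closure {x'}, isClosed_closure⟩ : Closeds X)).subscheme := LocallyOfFiniteType.isLocallyNoetherian j
  rw [isEquidimAt_iff_generic]
  obtain ⟨ξ, hξ⟩ : x' ∈ Set.range j := by rw [hr]; exact subset_closure rfl
  refine ⟨t, fun ζ hmax hζw => ?_⟩
  have hjζ : j ζ = x' := by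
    have h6 : ξ ⤳ ζ := by
      refine j.isClosedEmbedding.isInducing.specializes_iff.mp ?_
      rw [hξ, specializes_iff_mem_closure]
      have h9 : j ζ ∈ Set.range j := ⟨ζ, rfl⟩
      rw [hr] at h9
      exact h9
    rw [← hmax ξ h6, hξ]
  refine ⟨?_, ?_, ?_⟩
  · intro y hy
    have h7 : (j ≫ f) ζ = genericPoint Y := by
      rw [Scheme.Hom.comp_apply, hjζ, hgen]
    rw [h7] at hy ⊢
    exact (hy.antisymm (genericPoint_specializes y)).eq
  · rw [rtd_comp_closedImmersion, hjζ, ht]
  · intro w' h6 h7 h8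
    rw [rtd_comp_closedImmersion]
    refine hL.1 (by exact_mod_cast (by omega : l ≤ t)) _ ?_ ?_ ?_
    · have := h6.map j.continuous
      rwa [hjζ] at this
    · have := h7.map j.continuous
      rwa [hw₀] at this
    · rw [Scheme.Hom.comp_apply, Scheme.Hom.comp_apply] at h8
      rw [h8]
      congr 1

end Groth.Agent.S4943
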