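import Groth.Statements.S4944
import Groth.Agent.EGA43.K126.QuasiSec

set_option autoImplicit false
open CategoryTheory AlgebraicGeometry
universe u v w
open EGA43

namespace Groth.Agent.S4944

open Groth.Agent.CycB.RelDim Groth.Agent.Ega4fib.H174.Equidim Groth.Agent.Ega4fib.H174.EquidimCrit

/-- Suppose Y is an irreducible, locally Noetherian scheme and f : X ⟶ Y is locally of finite type. Take
a point x of X at which f is equidimensional and which is closed in its fibre f⁻¹(f x). Then one can
find an irreducible reduced scheme T together with an immersion i : T ⟶ X whose image contains x,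
such that the composite T ⟶ Y is dominant and quasi-finite (meaning locally quasi-finite and of
finite type). -/
theorem result {X Y : Scheme.{u}} [IrreducibleSpace Y]
    [IsLocallyNoetherian Y] (f : X ⟶ Y) [LocallyOfFiniteType f] (x : X) (hf : EGA43.IsEquidimAt f x)
    (hcl : ∀ x' : X, f.base x' = f.base x → x ⤳ x' → x' = x) :
    ∃ (T : Scheme.{u}) (i : T ⟶ X), IsImmersion i ∧ IrreducibleSpace ↥T ∧ IsReduced T ∧ x ∈ Set.range i.base ∧
        LocallyOfFiniteType (i ≫ f) ∧ LocallyQuasiFinite (i ≫ f) ∧ QuasiCompact (i ≫ f) ∧ IsDominant (i ≫ f) := by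
  have hX : IsLocallyNoetherian X := LocallyOfFiniteType.isLocallyNoetherian f
  have hx0 : rtd f x = 0 := K126.QuasiSec.rtd_eq_zero_of_closed_in_fibre f x hcl
  obtain ⟨e, c, -, t, he, ht, -, hc, hce, -, -, -⟩ := K126.EquidimSub.numbers f x x hf specializes_rfl
  rw [hx0] at ht
  have ht0 : t = 0 := by exact_mod_cast ht.symm
  obtain ⟨x', h, hdim, hiso⟩ := K126.QuasiSec.exists_gen_minimal f x c hc
  obtain ⟨e', c', d', t', he', ht', hd', -, hce', -, hne, -⟩ := K126.EquidimSub.numbers f x x' hf h
  have hee : e = e' := by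
    rw [he] at he'
    exact_mod_cast he'
  have htt : t' = 0 := by
    obtain ⟨w, h1, h2, h3, h4⟩ := exists_maximal_fib f h
    have h5 := rtd_le_of_maximal_fib f h1 h4
    rw [hiso w h1 h2 h3, hx0, ht'] at h5
    have : t' ≤ 0 := by exact_mod_cast h5
    omega
  rw [hd'] at hdim
  have hdim' : d' ≤ c := by exact_mod_cast hdim
  have hgen : f x' = genericPoint Y := by
    by_contra hne'
    have := hne hne'
    omega
  obtain ⟨T, i, h1, h2, h3, h4, -, h5, h6, h7, h8⟩ := K126.QuasiSec.exists_quasiSection_of_gen f h hgen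
    fun w h1 h2 h3 => by rw [hiso w h1 h2 h3, hx0]
  exact ⟨T, i, h1, h2, h3, h4, h5, h6, h7, h8⟩

end Groth.Agent.S4944
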