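import Groth.Statements.S4945
import Groth.Agent.EGA43.K126.QuasiSec2
import Groth.Agent.S2559
import Groth.Agent.S4937
import Groth.Agent.S4934

set_option autoImplicit false
open CategoryTheory AlgebraicGeometry
universe u v w
open EGA43

namespace Groth.Agent.S4945

open Groth.Agent.CycB.RelDim Groth.Agent.Ega4fib.H174.Equidim Groth.Agent.Ega4fib.H174.EquidimCrit
  Groth.Agent.Ega43.UnivOpenAt

theorem isUnibranch_of_geom {A : Type u} [CommRing A] [IsLocalRing A] (h : CAlg2.IsGeomUnibranch A) :
    CAlg2.IsUnibranch A := h.1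

theorem isOpenAt_of_univ {X Y : Scheme.{u}} (f : X ⟶ Y) (x : X) (h : EGA43.IsUnivOpenAt f x) :
    EGA43.IsOpenAt f.base x :=
  isOpenAt_of_isPullback h (IsPullback.of_id_fst (f := f)) x rfl

/-- Let Y be an irreducible locally Noetherian scheme with generic point η, f : X ⟶ Y a morphism locally
of finite type and y a geometrically unibranch point of Y. The following are equivalent: a) f is
universally open at every point of X_y; b) f is open at every point of X_y; c) for every maximal
point z of X_y there is an irreducible component Z of X containing z and dominating Y with dim_z(Z ∩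
X_y) = dim(Z ∩ X_η); d) for every point x closed in X_y there are an irreducible reduced scheme T
and an immersion T ⟶ X with image containing x such that T ⟶ Y is quasi-finite and dominant. -/
theorem result {X Y : Scheme.{u}} [IrreducibleSpace Y]
    [IsLocallyNoetherian Y] (f : X ⟶ Y) [LocallyOfFiniteType f] (y : Y) (hy : CAlg2.IsGeomUnibranch (Y.presheaf.stalk y)) :
    List.TFAE [∀ x : X, f.base x = y → EGA43.IsUnivOpenAt f x,
      ∀ x : X, f.base x = y → EGA43.IsOpenAt f.base x,
      ∀ z : X, ∀ hzy : f.base z = y, (∀ z' : X, f.base z' = y → z ∈ closure {z'} → z' = z) →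
        ∃ Z ∈ irreducibleComponents (X : Type u), ∃ hz : z ∈ Z, Dense (f.base '' Z) ∧
          FlatMor.localDim ↥(Z ∩ f.base ⁻¹' {y}) ⟨z, ⟨hz, hzy⟩⟩ = topologicalKrullDim ↥(Z ∩ f.base ⁻¹' {genericPoint Y}),
      ∀ x : X, f.base x = y → (∀ x' : X, f.base x' = y → x ⤳ x' → x' = x) →
        ∃ (T : Scheme.{u}) (i : T ⟶ X), IsImmersion i ∧ IrreducibleSpace ↥T ∧ IsReduced T ∧ x ∈ Set.range i.base ∧
        LocallyOfFiniteType (i ≫ f) ∧ LocallyQuasiFinite (i ≫ f) ∧ QuasiCompact (i ≫ f) ∧ IsDominant (i ≫ f)] := by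
  have hX : IsLocallyNoetherian X := LocallyOfFiniteType.isLocallyNoetherian f
  have huniv : (Set.univ : Set Y) ∈ irreducibleComponents (Y : Type u) := by
    rw [irreducibleComponents_eq_singleton]
    rfl
  have hcomp : ∀ Y₀ ∈ irreducibleComponents (Y : Type u), Y₀ = Set.univ := by
    intro Y₀ h
    rw [irreducibleComponents_eq_singleton] at h
    exact h
  have hη : ∀ η : Y, closure ({η} : Set Y) = Set.univ → η = genericPoint Y := fun η h =>
    ((specializes_iff_mem_closure.mpr (by rw [h]; trivial) : η ⤳ genericPoint Y).antisymm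
      (genericPoint_specializes _)).eq
  tfae_have 1 → 2 := fun h x hx => isOpenAt_of_univ f x (h x hx)
  tfae_have 2 → 3 := by
    intro h z hzy hmax
    subst hzy
    have h34 := (Groth.Agent.S4934.result f z hmax hy).out 3 1 rfl rfl
    obtain ⟨Z, hZ, hzZ, hcl, hdim⟩ := h34.mp (h z rfl) Set.univ huniv trivial
    refine ⟨Z, hZ, hzZ, ?_, hdim _ ?_⟩
    · rw [dense_iff_closure_eq]
      exact hcl
    · exact genericPoint_closure Y
  tfae_have 3 → 1 := by
    intro h x hxy
    obtain ⟨z, hz1, hz2, hz3⟩ := exists_maximal_fiber f x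
    refine K126.ClosedFib.isUnivOpenAt_of_specializes f ?_ hz1 hz2
    have hzy : f.base z = y := hz2.trans hxy
    subst hzy
    have hmax : ∀ z' : X, f.base z' = f.base z → z ∈ closure {z'} → z' = z := fun z' h1 h2 =>
      hz3 z' (specializes_iff_mem_closure.mpr h2) h1
    obtain ⟨Z, hZ, hzZ, hcl, hdim⟩ := h z rfl hmax
    have h34 := (Groth.Agent.S4934.result f z hmax hy).out 1 0 rfl rfl
    refine h34.mp fun Y₀ hY₀ _ => ?_
    obtain rfl := hcomp Y₀ hY₀
    refine ⟨Z, hZ, hzZ, dense_iff_closure_eq.mp hcl, fun η hη' => ?_⟩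
    obtain rfl := hη η hη'
    exact hdim
  tfae_have 2 → 4 := by
    intro h x hxy hcl
    obtain ⟨c, hc⟩ := K126.QuasiSec.exists_dim_fibre_stalk f x
    refine K126.QuasiSec.exists_quasiSection_of_dim f x c hc ?_
      (K126.QuasiSec.rtd_eq_zero_of_closed_in_fibre f x fun x' h h' => hcl x' (Eq.trans h hxy) h')
    rw [← hc]
    exact (Groth.Agent.S2559.result f x fun z _ _ => h _ ((fiberι_mem_preimage f _ z).trans hxy)).ge
  tfae_have 4 → 1 := by
    intro h
    refine K126.ClosedFib.isUnivOpenAt_of_forall_closed_in_fibre f y fun x hxy hcl => ?_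
    obtain ⟨T, i, h1, h2, h3, ⟨t, rfl⟩, h5, h6, h7, h8⟩ := h x hxy hcl
    subst hxy
    refine isUnivOpenAt_of_comp i f t ?_
    have hfp : LocallyOfFinitePresentation (i ≫ f) := inferInstance
    have h9 := Groth.Agent.S4937.result (i ≫ f) t (isUnibranch_of_geom hy)
    have h34 := (Groth.Agent.S4934.result (i ≫ f) t (fun t' h10 h11 => ?_) hy).out 3 0 rfl rfl
    · exact h34.mp h9
    · have hd := (i ≫ f).isDiscrete_preimage_singleton ((i ≫ f) t)
      have := hd.to_subtype
      have h12 : (⟨t', h10⟩ : ((i ≫ f) ⁻¹' {(i ≫ f) t} : Set T)) ⤳ ⟨t, rfl⟩ :=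
        (subtype_specializes_iff _ _).mpr (specializes_iff_mem_closure.mpr h11)
      exact congrArg Subtype.val h12.eq
  tfae_finish

end Groth.Agent.S4945
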