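import Groth.Statements.S4947
import Groth.Agent.Sga67.SymAlg
import Groth.Agent.Sga67.BlowQuot
import Groth.Agent.CalgA.RegBasic
import Mathlib.RingTheory.Localization.AsSubring
import Mathlib.RingTheory.DiscreteValuationRing.TFAE

set_option autoImplicit false
universe u
open EGA43

namespace Groth.Agent.S4947

open IsLocalRing BlowUp

/-- The abstract step: `C` an intermediate Noetherian ring between `A` and its fraction field, `p` a prime
element of `C` such that `C/p` is a polynomial ring over the residue field of `A`. -/
theorem core (A : Type u) [CommRing A] [IsDomain A] [IsLocalRing A] (C : Type u) [CommRing C]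
    [IsDomain C] [IsNoetherianRing C] [Algebra A C] [Algebra C (FractionRing A)]
    [IsScalarTower A C (FractionRing A)] [IsFractionRing C (FractionRing A)] (p : C) (hp0 : p ≠ 0)
    (P : Ideal C) [hP : P.IsPrime] (hPp : P = Ideal.span {p})
    (hm : (maximalIdeal A).map (algebraMap A C) ≤ P) {ι : Type u}
    (e : (C ⧸ P) ≃+* MvPolynomial ι (ResidueField A))
    (he : ∀ a, e (Ideal.Quotient.mk P (algebraMap A C a)) = MvPolynomial.C (residue A a)) :
    ∃ (V : Subalgebra A (FractionRing A)) (_ : IsDomain V) (_ : IsDiscreteValuationRing V), IsFractionRing V (FractionRing A) ∧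
      (IsLocalRing.maximalIdeal V).comap (algebraMap A V) = IsLocalRing.maximalIdeal A ∧
      ∃ (φ : IsLocalRing.ResidueField A →+* IsLocalRing.ResidueField V),
        φ.comp (IsLocalRing.residue A) = (IsLocalRing.residue V).comp (algebraMap A V) ∧
        letI := φ.toAlgebra
        ∃ (ι : Type u) (t : ι → IsLocalRing.ResidueField V), AlgebraicIndependent (IsLocalRing.ResidueField A) t ∧
          IntermediateField.adjoin (IsLocalRing.ResidueField A) (Set.range t) = ⊤ := by
  let K := FractionRing A
  let V' : Subalgebra C K := Localization.subalgebra.ofField K P.primeCompl P.primeCompl_le_nonZeroDivisors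
  have hloc : IsLocalization.AtPrime V' P := Localization.subalgebra.isLocalization_ofField K P.primeCompl _
  let V : Subalgebra A K := V'.restrictScalars A
  let φ₀ : C →+* V := (algebraMap C K).codRestrict V (fun c => V'.algebraMap_mem c)
  let algCV : Algebra C V := φ₀.toAlgebra
  have hlocV : IsLocalization.AtPrime V P :=
    { map_units := fun y => IsLocalization.map_units (M := P.primeCompl) V' y
      surj := fun z => IsLocalization.surj (M := P.primeCompl) (S := V') z
      exists_of_eq := fun {x y} h => IsLocalization.exists_of_eq (M := P.primeCompl) (S := V') h }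
  have hdom : IsDomain V := inferInstance
  have hlr : IsLocalRing V := IsLocalization.AtPrime.isLocalRing V P
  have hno : IsNoetherianRing V := IsLocalization.isNoetherianRing P.primeCompl V inferInstance
  have tower : IsScalarTower A C V := IsScalarTower.of_algebraMap_eq' (by
    ext a
    exact IsScalarTower.algebraMap_apply A C K a)
  have hmax : (P.map (algebraMap C V)) = maximalIdeal V := IsLocalization.AtPrime.map_eq_maximalIdeal P V
  have hcomap : (maximalIdeal V).comap (algebraMap C V) = P := IsLocalization.AtPrime.under_maximalIdeal V P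
  have hinj : Function.Injective (algebraMap C V) :=
    IsLocalization.injective V P.primeCompl_le_nonZeroDivisors
  have hnf : ¬ IsField V := by
    rw [IsLocalRing.isField_iff_maximalIdeal_eq, ← hmax, hPp, Ideal.map_span, Set.image_singleton, Ideal.span_singleton_eq_bot]
    intro h
    exact hp0 (hinj (by rw [h, map_zero]))
  have hdvr : IsDiscreteValuationRing V := by
    refine ((IsDiscreteValuationRing.TFAE V hnf).out 0 4).2 ?_
    rw [← hmax, hPp, Ideal.map_span, Set.image_singleton]
    exact ⟨⟨_, rfl⟩⟩
  refine ⟨V, hdom, hdvr, inferInstance, ?_, ?_⟩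
  · refine ((IsLocalRing.eq_maximalIdeal (I := (maximalIdeal V).comap (algebraMap A V))) ?_)
    have h1 : maximalIdeal A ≤ (maximalIdeal V).comap (algebraMap A V) := by
      rw [← Ideal.map_le_iff_le_comap, IsScalarTower.algebraMap_eq A C V, ← Ideal.map_map, ← hmax]
      exact Ideal.map_mono hm
    have h2 : (maximalIdeal V).comap (algebraMap A V) ≠ ⊤ := Ideal.comap_ne_top _ (maximalIdeal.isMaximal V).ne_top
    rw [← (maximalIdeal.isMaximal A).eq_of_le h2 h1]
    exact maximalIdeal.isMaximal A
  · let ρ : C →+* ResidueField V := (residue V).comp (algebraMap C V)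
    have hker : RingHom.ker ρ = P := by
      rw [← RingHom.comap_ker, IsLocalRing.ker_residue, hcomap]
    let ρ' : C ⧸ P →+* ResidueField V := Ideal.Quotient.lift P ρ (fun c hc => by
      rw [← RingHom.mem_ker, hker]; exact hc)
    have hρ' : Function.Injective ρ' := RingHom.lift_injective_of_ker_le_ideal P _ hker.le
    let ψ : MvPolynomial ι (ResidueField A) →+* ResidueField V := ρ'.comp e.symm.toRingHom
    have hψ : Function.Injective ψ := hρ'.comp e.symm.injective
    have hψe : ∀ c, ψ (e (Ideal.Quotient.mk P c)) = ρ c := by
      intro c
      change ρ' (e.symm (e _)) = _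
      rw [e.symm_apply_apply]
      rfl
    refine ⟨ψ.comp MvPolynomial.C, ?_, ?_⟩
    · ext a
      change ψ (MvPolynomial.C (residue A a)) = residue V (algebraMap A V a)
      rw [← he, hψe, IsScalarTower.algebraMap_apply A C V]
      rfl
    · let _ := (ψ.comp MvPolynomial.C).toAlgebra
      let t : ι → ResidueField V := fun i => ψ (MvPolynomial.X i)
      have haev : ∀ q : MvPolynomial ι (ResidueField A), MvPolynomial.aeval t q = ψ q := by
        intro q
        have : (MvPolynomial.aeval t : MvPolynomial ι (ResidueField A) →ₐ[_] _).toRingHom = ψ := by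
          refine MvPolynomial.ringHom_ext (fun r => ?_) (fun i => ?_)
          · change MvPolynomial.aeval t (MvPolynomial.C r) = _
            rw [MvPolynomial.aeval_C]
            rfl
          · change MvPolynomial.aeval t (MvPolynomial.X i) = _
            rw [MvPolynomial.aeval_X]
        exact congrArg (fun g : MvPolynomial ι (ResidueField A) →+* _ => g q) this
      refine ⟨ι, t, ?_, ?_⟩
      · intro q r hqr
        rw [haev, haev] at hqr
        exact hψ hqr
      · rw [eq_top_iff]
        rintro z -
        obtain ⟨v, rfl⟩ := residue_surjective z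
        have hmem : ∀ c, ρ c ∈ IntermediateField.adjoin (ResidueField A) (Set.range t) := by
          intro c
          rw [← hψe, ← haev]
          refine IntermediateField.algebra_adjoin_le_adjoin _ _ ?_
          rw [Algebra.adjoin_range_eq_range_aeval]
          exact ⟨_, rfl⟩
        obtain ⟨c, s, rfl⟩ := IsLocalization.exists_mk'_eq P.primeCompl v
        have h1 : residue V (IsLocalization.mk' V c s) * ρ s = ρ c := by
          change residue V _ * residue V (algebraMap C V s) = residue V (algebraMap C V c)
          rw [← map_mul, IsLocalization.mk'_spec]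
        have h2 : ρ s ≠ 0 := by
          intro h
          rw [← RingHom.mem_ker, hker] at h
          exact s.2 h
        rw [eq_div_of_mul_eq h2 h1]
        exact div_mem (hmem _) (hmem _)

/-- Let A be a regular local ring which is not a field, K its fraction field and k its residue field.
Then there is a discrete valuation ring V between A and K, with fraction field K, dominating A,
whose residue field is a purely transcendental extension of k: for some ring map from k compatible
with A → V there is an algebraically independent family generating the residue field of V as a field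
over k. -/
theorem result (A : Type u) [CommRing A] [IsRegularLocalRing A]
    (hA : ¬ IsField A) :
    ∃ (V : Subalgebra A (FractionRing A)) (_ : IsDomain V) (_ : IsDiscreteValuationRing V), IsFractionRing V (FractionRing A) ∧
      (IsLocalRing.maximalIdeal V).comap (algebraMap A V) = IsLocalRing.maximalIdeal A ∧
      ∃ (φ : IsLocalRing.ResidueField A →+* IsLocalRing.ResidueField V),
        φ.comp (IsLocalRing.residue A) = (IsLocalRing.residue V).comp (algebraMap A V) ∧
        letI := φ.toAlgebra
        ∃ (ι : Type u) (t : ι → IsLocalRing.ResidueField V), AlgebraicIndependent (IsLocalRing.ResidueField A) t ∧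
          IntermediateField.adjoin (IsLocalRing.ResidueField A) (Set.range t) = ⊤ := by
  classical
  have hdomA : IsDomain A := Groth.Agent.CalgA.RegBasic.isDomain A
  let d : ℕ := (maximalIdeal A).spanFinrank
  have hd : ringKrullDim A = d := (IsRegularLocalRing.spanFinrank_maximalIdeal (R := A)).symm
  obtain ⟨f, hf⟩ : ∃ f : Fin d → A, Ideal.span (Set.range f) = maximalIdeal A := by
    obtain ⟨s, hs, hspan⟩ := (IsNoetherian.noetherian (maximalIdeal A)).exists_span_finset_card_eq_spanFinrank
    let ε := (Finset.equivFinOfCardEq hs).symm
    refine ⟨fun i => (ε i : A), ?_⟩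
    have : Set.range (fun i => (ε i : A)) = s := by
      ext y
      constructor
      · rintro ⟨i, rfl⟩
        exact (ε i).2
      · intro hy
        exact ⟨ε.symm ⟨y, hy⟩, by simp⟩
    rw [this]
    exact hspan
  have hreg : RingTheory.Sequence.IsRegular A (List.ofFn f) := by
    refine Groth.Agent.CalgA.RegBasic.isRegular_of_ofList_eq d A (List.ofFn f) (by simp) hd ?_
    rw [← hf, Ideal.ofList]
    congr 1
    ext y
    simp
  have hqr : CAlgX.IsQuasiRegular f :=
    Groth.Agent.Sga67.SymAlg.isQuasiRegular_of_isWeaklyRegular f hreg.toIsWeaklyRegular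
  have hd0 : 0 < d := by
    rw [Nat.pos_iff_ne_zero]
    intro h0
    apply hA
    rw [IsLocalRing.isField_iff_maximalIdeal_eq, ← hf]
    have : IsEmpty (Fin d) := by rw [h0]; infer_instance
    rw [Set.range_eq_empty, Ideal.span_empty]
  let k : Fin d := ⟨0, hd0⟩
  have hfk : f k ≠ 0 := by
    intro h0
    have h1 := hqr 1 (MvPolynomial.X k) (MvPolynomial.isHomogeneous_X A k) (by
      rw [MvPolynomial.eval_X, h0]; exact Submodule.zero_mem _) (Finsupp.single k 1)
    rw [MvPolynomial.coeff_X, if_pos rfl, hf] at h1
    exact (maximalIdeal.isMaximal A).ne_top ((Ideal.eq_top_iff_one _).2 h1)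
  let K := FractionRing A
  let C := affineAlgebra A (Ideal.span (Set.range f)) (f k)
  have hpow : Submonoid.powers (f k) ≤ nonZeroDivisors A :=
    powers_le_nonZeroDivisors_of_noZeroDivisors hfk
  have hdomL : IsDomain (Localization.Away (f k)) := IsLocalization.isDomain_localization hpow
  have hdomC : IsDomain C := inferInstance
  have hnC : IsNoetherianRing C := Algebra.FiniteType.isNoetherianRing A C
  let j : Localization.Away (f k) →ₐ[A] K := IsLocalization.liftAlgHom (M := Submonoid.powers (f k))
    (f := Algebra.ofId A K) (fun y => by
      have : (y : A) ≠ 0 := nonZeroDivisors.ne_zero (hpow y.2)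
      exact (IsUnit.mk0 _ (by
        rw [Ne, Algebra.ofId_apply, FaithfulSMul.algebraMap_eq_zero_iff]
        exact this)))
  have hj : Function.Injective j := by
    rw [injective_iff_map_eq_zero]
    intro z hz
    obtain ⟨⟨a, s⟩, hs⟩ := IsLocalization.surj (Submonoid.powers (f k)) z
    have h1 := congrArg j hs
    rw [map_mul, hz, zero_mul, AlgHom.commutes] at h1
    have h2 : a = 0 := IsFractionRing.injective A K (by rw [← h1, map_zero])
    simp only [h2, map_zero] at hs
    exact (IsLocalization.map_units (Localization.Away (f k)) s).mul_left_eq_zero.1 hs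
  let algCK : Algebra C K := (j.comp C.val).toRingHom.toAlgebra
  have tower : IsScalarTower A C K := IsScalarTower.of_algebraMap_eq' ((j.comp C.val).comp_algebraMap).symm
  have hCK : Function.Injective (algebraMap C K) := hj.comp Subtype.val_injective
  have hfs : FaithfulSMul C K := (faithfulSMul_iff_algebraMap_injective C K).2 hCK
  have hfrac : IsFractionRing C K := IsFractionRing.of_field C K fun z => by
    obtain ⟨a, b, hb, rfl⟩ := IsFractionRing.div_surjective (A := A) z
    exact ⟨algebraMap A C a, algebraMap A C b, by
      rw [← IsScalarTower.algebraMap_apply, ← IsScalarTower.algebraMap_apply]⟩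
  let p : C := algebraMap A C (f k)
  have hinjAC : Function.Injective (algebraMap A C) := by
    intro a b hab
    have := congrArg (algebraMap C K) hab
    rw [← IsScalarTower.algebraMap_apply, ← IsScalarTower.algebraMap_apply] at this
    exact IsFractionRing.injective A K this
  let e₀ := Groth.Agent.Sga67.BlowQuot.quotEquiv k hqr
  let P : Ideal C := Ideal.span {p}
  let ι : Type u := ULift.{u} {i : Fin d // i ≠ k}
  let q : (A ⧸ Ideal.span (Set.range f)) ≃+* ResidueField A := Ideal.quotEquivOfEq hf
  let e : (C ⧸ P) ≃+* MvPolynomial ι (ResidueField A) :=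
    e₀.trans ((MvPolynomial.mapEquiv _ q).trans
      (MvPolynomial.renameEquiv (ResidueField A) Equiv.ulift.symm).toRingEquiv)
  have he : ∀ a, e (Ideal.Quotient.mk P (algebraMap A C a)) = MvPolynomial.C (residue A a) := by
    intro a
    change (MvPolynomial.renameEquiv (ResidueField A) Equiv.ulift.symm)
      (MvPolynomial.mapEquiv _ q (e₀ (Ideal.Quotient.mk _ (algebraMap A C a)))) = _
    rw [Groth.Agent.Sga67.BlowQuot.quotEquiv_algebraMap k hqr a, MvPolynomial.mapEquiv_apply,
      MvPolynomial.map_C, MvPolynomial.renameEquiv_apply, MvPolynomial.rename_C]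
    rfl
  have hPprime : P.IsPrime := by
    rw [← Ideal.Quotient.isDomain_iff_prime]
    exact e.injective.isDomain e.toRingHom
  refine core A C p (fun h => hfk (hinjAC (by rw [map_zero]; exact h))) P rfl ?_ e he
  rw [← hf, Ideal.map_span, Ideal.span_le]
  rintro _ ⟨_, ⟨i, rfl⟩, rfl⟩
  rw [SetLike.mem_coe, ← Groth.Agent.Sga67.BlowQuot.fr_spec f k i]
  exact Ideal.mul_mem_right _ _ (Ideal.mem_span_singleton_self p)

end Groth.Agent.S4947
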