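import Groth.Statements.S4948
import Groth.Agent.S2559
import Groth.Agent.Flat2D.FiberStalk
import Mathlib.RingTheory.Flat.TorsionFree
import Mathlib.RingTheory.DedekindDomain.Dvr

set_option autoImplicit false
open CategoryTheory AlgebraicGeometry
universe u v w
open EGA43

namespace Groth.Agent.S4948

open IsLocalRing

/-- `π` is a nonzerodivisor of the Noetherian local ring `B` as soon as `B/π` is reduced and every minimal
prime of `π` contains a prime not containing `π`. -/
theorem eq_zero_of_mul_eq_zero {B : Type*} [CommRing B] [IsLocalRing B] [IsNoetherianRing B] (π : B)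
    (hπ : π ∈ maximalIdeal B) (hred : (Ideal.span {π}).IsRadical)
    (h : ∀ q ∈ (Ideal.span {π}).minimalPrimes, ∃ q' : Ideal B, q'.IsPrime ∧ q' ≤ q ∧ π ∉ q')
    (a : B) (ha : π * a = 0) : a = 0 := by
  have key : ∀ (a : B) (n : ℕ), π ^ n * a = 0 → ∃ a', a = π * a' ∧ π ^ (n + 1) * a' = 0 := by
    intro a n hn
    have h1 : a ∈ Ideal.span {π} := by
      rw [← hred.radical, ← Ideal.sInf_minimalPrimes, Submodule.mem_sInf]
      intro q hq
      obtain ⟨q', hq', hle, hπq'⟩ := h q hq
      apply hle
      have h2 : π ^ n * a ∈ q' := by rw [hn]; exact zero_mem _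
      exact (hq'.mem_or_mem h2).resolve_left fun h3 => hπq' (hq'.mem_of_pow_mem n h3)
    obtain ⟨a', rfl⟩ := Ideal.mem_span_singleton.1 h1
    exact ⟨a', rfl, by rw [pow_succ, mul_assoc]; exact hn⟩
  have key2 : ∀ (k : ℕ) (a : B) (n : ℕ), π ^ n * a = 0 → a ∈ maximalIdeal B ^ k := by
    intro k
    induction k with
    | zero => intro a n _; simp
    | succ k ih =>
      intro a n hn
      obtain ⟨a', rfl, ha'⟩ := key a n hn
      rw [pow_succ']
      exact Ideal.mul_mem_mul hπ (ih a' _ ha')
  have h3 : a ∈ ⨅ k : ℕ, maximalIdeal B ^ k := by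
    rw [Submodule.mem_iInf]
    exact fun k => key2 k a 1 (by rw [pow_one]; exact ha)
  rw [Ideal.iInf_pow_eq_bot_of_isLocalRing _ (maximalIdeal.isMaximal B).ne_top] at h3
  exact h3

/-- Consider a discrete valuation ring A and set Y = Spec A, whose closed point is y. Given a morphism f
: X ⟶ Y that is locally of finite type, and a point x lying in the fibre X_y, assume two things:
first, f is open at each generic point of an irreducible component of X_y passing through x; second,
X_y is reduced at x (that is, the local ring of the fibre at x is reduced). Under these assumptions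
f is flat at x. -/
theorem result {A : Type u} [CommRing A] [IsDomain A]
    [IsDiscreteValuationRing A] {X : Scheme.{u}} (f : X ⟶ Spec (CommRingCat.of A)) [LocallyOfFiniteType f] (x : X)
    (hx : f.base x = IsLocalRing.closedPoint A)
    (h : ∀ z : ↥(f.fiber (f.base x)), f.asFiber x ∈ closure {z} →
      (∀ z' : ↥(f.fiber (f.base x)), z ∈ closure {z'} → z' = z) → EGA43.IsOpenAt f.base ((f.fiberι (f.base x)).base z))
    (hred : _root_.IsReduced ((f.fiber (f.base x)).presheaf.stalk (f.asFiber x))) :
    (f.stalkMap x).hom.Flat := by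
  have hXN : IsLocallyNoetherian X := LocallyOfFiniteType.isLocallyNoetherian f
  let R := (Spec (CommRingCat.of A)).presheaf.stalk (f.base x)
  let B := X.presheaf.stalk x
  let _ : Algebra R B := (f.stalkMap x).hom.toAlgebra
  have hloc : IsLocalHom (algebraMap R B) := inferInstanceAs (IsLocalHom (f.stalkMap x).hom)
  obtain ⟨hRdom, hRdvr⟩ : ∃ _ : IsDomain R, IsDiscreteValuationRing R := by
    have key : ∀ y : Spec (CommRingCat.of A), y = IsLocalRing.closedPoint A →
        ∃ _ : IsDomain ((Spec (CommRingCat.of A)).presheaf.stalk y),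
          IsDiscreteValuationRing ((Spec (CommRingCat.of A)).presheaf.stalk y) := by
      rintro _ rfl
      let e : (A : Type u) ≃+* (Spec (CommRingCat.of A)).presheaf.stalk (IsLocalRing.closedPoint A) :=
        (stalkClosedPointIso (CommRingCat.of A)).symm.commRingCatIsoToRingEquiv
      have h1 : IsDomain ((Spec (CommRingCat.of A)).presheaf.stalk (IsLocalRing.closedPoint A)) :=
        e.symm.injective.isDomain e.symm.toRingHom
      exact ⟨h1, IsDiscreteValuationRing.RingEquivClass.isDiscreteValuationRing e⟩
    exact key _ hx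
  change Module.Flat R B
  obtain ⟨ϖ, hϖ⟩ := IsDiscreteValuationRing.exists_irreducible R
  have hmax : maximalIdeal R = Ideal.span {ϖ} := hϖ.maximalIdeal_eq
  obtain ⟨e⟩ := Groth.Agent.Flat2D.FiberStalk.nonempty_asFiber_stalkEquiv' f x
  have hI : (maximalIdeal R).map (algebraMap R B) = Ideal.span {algebraMap R B ϖ} := by
    rw [hmax, Ideal.map_span, Set.image_singleton]
  have hred' : (Ideal.span {algebraMap R B ϖ}).IsRadical := by
    rw [← hI, Ideal.isRadical_iff_quotient_reduced]
    exact isReduced_of_injective e e.injective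
  have hnonunit : algebraMap R B ϖ ∈ maximalIdeal B := by
    have h1 : ϖ ∈ maximalIdeal R := by rw [hmax]; exact Ideal.mem_span_singleton_self _
    exact map_nonunit (algebraMap R B) ϖ h1
  -- torsion free
  have hreg : ∀ b : B, algebraMap R B ϖ * b = 0 → b = 0 := by
    refine eq_zero_of_mul_eq_zero _ hnonunit hred' ?_
    intro q hq
    have hqp : q.IsPrime := hq.isPrime
    -- the two embeddings
    have hembX : Topology.IsEmbedding (X.fromSpecStalk x).base := (X.fromSpecStalk x).isEmbedding
    have hsq' : ∀ Q : Spec (X.presheaf.stalk x), f.base ((X.fromSpecStalk x).base Q) =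
        ((Spec (CommRingCat.of A)).fromSpecStalk (f.base x)).base ((Spec.map (f.stalkMap x)).base Q) := by
      intro Q
      have : (Spec.map (f.stalkMap x) ≫ (Spec (CommRingCat.of A)).fromSpecStalk (f.base x)).base Q =
          (X.fromSpecStalk x ≫ f).base Q := by
        rw [Scheme.SpecMap_stalkMap_fromSpecStalk]
      exact this.symm
    let 𝔮 : Spec (X.presheaf.stalk x) := ⟨q, hqp⟩
    have hclosed : ∀ Q : Spec (X.presheaf.stalk x), algebraMap R B ϖ ∈ PrimeSpectrum.asIdeal Q ↔
        f.base ((X.fromSpecStalk x).base Q) = f.base x := by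
      intro Q
      have h0 : (Spec.map (f.stalkMap x)).base Q = IsLocalRing.closedPoint R ↔
          algebraMap R B ϖ ∈ PrimeSpectrum.asIdeal Q := by
        constructor
        · intro hQ
          have h1 : ϖ ∈ PrimeSpectrum.asIdeal ((Spec.map (f.stalkMap x)).base Q) := by
            rw [hQ]
            change ϖ ∈ maximalIdeal R
            rw [hmax]; exact Ideal.mem_span_singleton_self _
          exact h1
        · intro hQ
          apply PrimeSpectrum.ext
          refine ((maximalIdeal.isMaximal R).eq_of_le (PrimeSpectrum.isPrime _).ne_top ?_).symm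
          rw [hmax, Ideal.span_singleton_le_iff_mem]
          exact hQ
      rw [← h0, hsq']
      constructor
      · intro hQ
        rw [hQ]
        exact Scheme.fromSpecStalk_closedPoint
      · intro hQ
        apply ((Spec (CommRingCat.of A)).fromSpecStalk (f.base x)).isEmbedding.injective
        exact hQ.trans Scheme.fromSpecStalk_closedPoint.symm
    let w : X := (X.fromSpecStalk x).base 𝔮
    have hfw : f.base w = f.base x := (hclosed 𝔮).1 (hq.le (Ideal.mem_span_singleton_self _))
    have hrange : ∀ w' : X, w' ⤳ x → ∃ Q : Spec (X.presheaf.stalk x),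
        (X.fromSpecStalk x).base Q = w' := by
      intro w' hw'
      have h2 := Scheme.range_fromSpecStalk (X := X) (x := x)
      have h3 : w' ∈ {y | y ⤳ x} := hw'
      rw [← h2] at h3
      exact h3
    have hwx : w ⤳ x := by
      have h2 := Scheme.range_fromSpecStalk (X := X) (x := x)
      have h3 : w ∈ Set.range (X.fromSpecStalk x) := ⟨𝔮, rfl⟩
      rw [h2] at h3
      exact h3
    have hle : ∀ Q : Spec (X.presheaf.stalk x), (X.fromSpecStalk x).base Q ⤳ w ↔
        PrimeSpectrum.asIdeal Q ≤ q := by
      intro Q
      rw [hembX.isInducing.specializes_iff, Groth.Agent.S2559.spec_specializes_iff]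
    -- the point of the fibre
    obtain ⟨z, hz⟩ : ∃ z : f.fiber (f.base x), (f.fiberι (f.base x)).base z = w := by
      have h1 : w ∈ Set.range (f.fiberι (f.base x)) := by
        rw [f.range_fiberι]
        exact hfw
      exact h1
    have hembF : Topology.IsEmbedding (f.fiberι (f.base x)).base := (f.fiberι (f.base x)).isEmbedding
    have hfib : ∀ z' : f.fiber (f.base x), f.base ((f.fiberι (f.base x)).base z') = f.base x :=
      fun z' => Groth.Agent.Flat2D.FiberStalk.apply_fiberι f (f.base x) z'
    have hasx : (f.fiberι (f.base x)).base (f.asFiber x) = x := f.fiberι_asFiber x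
    have hopen : EGA43.IsOpenAt f.base ((f.fiberι (f.base x)).base z) := by
      refine h z ?_ ?_
      · rw [← specializes_iff_mem_closure, ← hembF.isInducing.specializes_iff, hz, hasx]
        exact hwx
      · intro z' hz'
        rw [← specializes_iff_mem_closure, ← hembF.isInducing.specializes_iff, hz] at hz'
        apply hembF.injective
        rw [hz]
        obtain ⟨Q, hQ⟩ := hrange _ (hz'.trans hwx)
        have h1 : algebraMap R B ϖ ∈ PrimeSpectrum.asIdeal Q := by
          rw [hclosed, hQ, hfib]
        have h2 : PrimeSpectrum.asIdeal Q ≤ q := by rw [← hle, hQ]; exact hz'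
        have h3 : PrimeSpectrum.asIdeal Q = q := le_antisymm h2
          (hq.2 ⟨Q.isPrime, (Ideal.span_singleton_le_iff_mem _).2 h1⟩ h2)
        have h4 : Q = 𝔮 := PrimeSpectrum.ext h3
        rw [← hQ, h4]
    rw [hz] at hopen
    have hgen : (genericPoint (Spec (CommRingCat.of A))) ⤳ f.base w := genericPoint_specializes _
    have hgne : genericPoint (Spec (CommRingCat.of A)) ≠ f.base w := by
      rw [hfw, hx, genericPoint_eq_bot_of_affine]
      intro h1
      have h2 := congrArg PrimeSpectrum.asIdeal h1
      exact IsDiscreteValuationRing.not_a_field A h2.symm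
    by_contra hcon
    refine hgne (Groth.Agent.S2559.eq_of_isOpenAt f w hopen _ hgen ?_)
    intro w' hw' _
    obtain ⟨Q, rfl⟩ := hrange w' (hw'.trans hwx)
    have h1 : PrimeSpectrum.asIdeal Q ≤ q := (hle Q).1 hw'
    by_contra hne
    apply hcon
    refine ⟨PrimeSpectrum.asIdeal Q, Q.isPrime, h1, fun h2 => hne ?_⟩
    have h3 : PrimeSpectrum.asIdeal Q = q := le_antisymm h1
      (hq.2 ⟨Q.isPrime, (Ideal.span_singleton_le_iff_mem _).2 h2⟩ h1)
    have h4 : Q = 𝔮 := PrimeSpectrum.ext h3
    rw [h4]
  have htf : Module.IsTorsionFree R B := by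
    refine Module.IsTorsionFree.of_smul_eq_zero fun r b hrb => ?_
    by_cases hr : r = 0
    · exact Or.inl hr
    · right
      obtain ⟨n, u, rfl⟩ := IsDiscreteValuationRing.eq_unit_mul_pow_irreducible hr hϖ
      rw [Algebra.smul_def, map_mul, map_pow, mul_assoc] at hrb
      have h1 : algebraMap R B ϖ ^ n * b = 0 :=
        (u.isUnit.map (algebraMap R B)).mul_right_eq_zero.1 hrb
      clear hrb hr
      induction n with
      | zero => simpa using h1
      | succ n ih =>
        rw [pow_succ', mul_assoc] at h1
        exact ih (hreg _ h1)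
  infer_instance

end Groth.Agent.S4948
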