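import Groth.Statements.S4949
import Groth.Agent.Dual.H373.Core
import Groth.Agent.Dual.H373.QFFlat
import Groth.Agent.Flat2D.CMConverse
import Groth.Agent.Ega43.CMOpen
import Groth.Agent.Ega43.FibreDimFinite

set_option autoImplicit false
open CategoryTheory AlgebraicGeometry
universe u v w
open EGA43

namespace Groth.Agent.S4949

/-- Let f : X ⟶ Y be a morphism locally of finite presentation and x a point of X. The following are
equivalent: a) f is flat at x and the fibre X_{f x} is Cohen–Macaulay at x; b) there are an open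
neighbourhood U of x, a natural number n and a Y-morphism g from U to affine n-space over Y which is
locally quasi-finite and such that U is g-flat at x. (The published statement asks for g
quasi-finite, that is of finite type with finite fibres, hence quasi-compact; this row asks only
that g be locally quasi-finite, g being automatically locally of finite type here — the condition
the proof of b) ⇒ a) uses.) -/
theorem result {X Y : Scheme.{u}} (f : X ⟶ Y)
    [LocallyOfFinitePresentation f] (x : X) :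
    MoreMor.IsCMAt f x ↔ ∃ (n : ℕ) (U : X.Opens) (hx : x ∈ U) (g : (U : Scheme.{u}) ⟶ 𝔸(ULift.{u} (Fin n); Y)),
      g ≫ (𝔸(ULift.{u} (Fin n); Y) ↘ Y) = U.ι ≫ f ∧ LocallyQuasiFinite g ∧ (g.stalkMap ⟨x, hx⟩).hom.Flat := by
  constructor
  · intro h
    obtain ⟨d, hd⟩ := Groth.Agent.Ega43.FibreDimFinite.exists_fibreDimAt_eq f x
    obtain ⟨U, hxU, g, hg, hqf⟩ := Groth.Agent.Dual.H373.Core.exists_quasiFinite f x d hd
    refine ⟨d, U, hxU, g, hg, hqf, ?_⟩
    have h1 : LocallyOfFinitePresentation (g ≫ (𝔸(ULift.{u} (Fin d); Y) ↘ Y)) := by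
      rw [hg]; infer_instance
    refine Groth.Agent.Dual.H373.QFFlat.flat_stalkMap d g ⟨x, hxU⟩ ?_ ?_
    · rw [hg, Groth.Agent.Dual.H373.Core.fibreDimAt_comp]
      exact hd
    · rw [hg, Groth.Agent.Ega43.CMOpen.isCMAt_comp_iff]
      exact h
  · rintro ⟨n, U, hx, g, hg, hqf, hflat⟩
    have h1 : LocallyOfFiniteType (g ≫ (𝔸(ULift.{u} (Fin n); Y) ↘ Y)) := by
      rw [hg]; infer_instance
    have h2 := Groth.Agent.Flat2D.CMConverse.isCMAt_of_flat_lqf_comp _ g ⟨x, hx⟩ hflat
    have h3 : MoreMor.IsCMAt (g ≫ (𝔸(ULift.{u} (Fin n); Y) ↘ Y)) ⟨x, hx⟩ := by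
      rw [Groth.Agent.Flat2D.FiberStalk.moreMor_isCMAt_iff]
      refine ⟨?_, h2⟩
      rw [Scheme.Hom.stalkMap_comp]
      have : Flat (𝔸(ULift.{u} (Fin n); Y) ↘ Y) := Groth.Agent.Flat2D.DimFlat.flat_affineSpace _ Y
      exact RingHom.Flat.comp (Flat.stalkMap _ _) hflat
    rw [hg, Groth.Agent.Ega43.CMOpen.isCMAt_comp_iff] at h3
    exact h3

end Groth.Agent.S4949
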