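import Groth.Statements.S4950
import Groth.Agent.EGA43.K126.GeomPtsDvr

set_option autoImplicit false
open CategoryTheory AlgebraicGeometry
universe u v w
open EGA43

namespace Groth.Agent.S4950

open CategoryTheory.Limits in
/-- Let Y be a locally Noetherian scheme, f : X ⟶ Y a separated quasi-finite morphism, y a point of Y
and y' a generization of y distinct from y; write n(z) for the geometric number of points of the
fibre X_z. Then there are a discrete valuation ring A and a morphism g : Spec A ⟶ Y mapping the
closed point to y and the generic point to y', such that n(y) is the number of points of the fibre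
of X ×_Y Spec A ⟶ Spec A over the closed point and n(y') is the number of points of its fibre over
the generic point. -/
theorem result {X Y : Scheme.{u}} [IsLocallyNoetherian Y] (f : X ⟶ Y)
    [IsSeparated f] [LocallyQuasiFinite f] [LocallyOfFiniteType f] [QuasiCompact f] (y y' : Y) (hne : y' ≠ y)
    (hgen : y' ⤳ y) :
    ∃ (A : Type u) (_ : CommRing A) (_ : IsDomain A) (_ : IsDiscreteValuationRing A) (g : Spec (CommRingCat.of A) ⟶ Y),
      g.base (IsLocalRing.closedPoint A) = y ∧ g.base (genericPoint (Spec (CommRingCat.of A))) = y' ∧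
      MoreMor.nGeomConnComp f y = ENat.card ↥((pullback.snd f g).fiber (IsLocalRing.closedPoint A)) ∧
      MoreMor.nGeomConnComp f y' = ENat.card ↥((pullback.snd f g).fiber (genericPoint (Spec (CommRingCat.of A)))) := by
  have hlqf : LocallyQuasiFinite (f.fiberToSpecResidueField y') :=
    inferInstanceAs (LocallyQuasiFinite (pullback.snd f (Y.fromSpecResidueField y')))
  have hqc : QuasiCompact (f.fiberToSpecResidueField y') :=
    inferInstanceAs (QuasiCompact (pullback.snd f (Y.fromSpecResidueField y')))
  obtain ⟨L, _, φ, hfin, hL⟩ := K126.GeomPts.exists_splitting' (Y.residueField y') (Field.toIsField _)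
    (f.fiberToSpecResidueField y')
  have hφ : φ.hom.EssFiniteType := RingHom.FiniteType.essFiniteType (RingHom.Finite.finiteType hfin)
  obtain ⟨R, _, _, _, _, _, g, hg1, hg2⟩ :=
    Groth.Agent.Ega43.DvrScheme.exists_dvr_of_specializes hgen hne L φ hφ
  obtain ⟨V, _, _, _, ψ, hψl, hψi, hVs⟩ := K126.GeomPts.exists_strict R
  obtain ⟨ρ, hρ, hρi⟩ := K126.GeomPts.exists_residue_map (CommRingCat.of V)
    (genericPoint (Spec (CommRingCat.of V))) rfl
  have hinj : Function.Injective (ρ.hom.comp ψ) := hρi.comp hψi
  obtain ⟨θ, hθ⟩ : ∃ θ : CommRingCat.of L ⟶ (Spec (CommRingCat.of V)).residueField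
      (genericPoint (Spec (CommRingCat.of V))),
      CommRingCat.ofHom ψ ≫ ρ = CommRingCat.ofHom (algebraMap R L) ≫ θ := by
    refine ⟨CommRingCat.ofHom (IsFractionRing.lift (K := L) hinj), ?_⟩
    ext r
    exact (IsFractionRing.lift_algebraMap (K := L) hinj r).symm
  have hfac := K126.GeomPts.fac_of_comp g (CommRingCat.ofHom ψ) ρ (CommRingCat.ofHom (algebraMap R L)) θ hθ
    (Y.fromSpecResidueField y') φ hg2
  rw [hρ] at hfac
  have hcl : (Spec.map (CommRingCat.ofHom ψ) ≫ g) (IsLocalRing.closedPoint V) = y := by
    rw [Scheme.Hom.comp_apply]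
    have h1 : (Spec.map (CommRingCat.ofHom ψ)) (IsLocalRing.closedPoint V) = IsLocalRing.closedPoint R :=
      IsLocalRing.comap_closedPoint ψ
    exact (congrArg g h1).trans hg1
  have hgp : (Spec.map (CommRingCat.ofHom ψ) ≫ g) (genericPoint (Spec (CommRingCat.of V))) = y' := by
    have h1 := congrArg (fun u => u (default : Spec ((Spec (CommRingCat.of V)).residueField
      (genericPoint (Spec (CommRingCat.of V)))))) hfac
    simp only [Scheme.Hom.comp_apply, Scheme.fromSpecResidueField_apply] at h1
    rw [Scheme.Hom.comp_apply]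
    exact h1
  refine ⟨V, inferInstance, inferInstance, inferInstance, Spec.map (CommRingCat.ofHom ψ) ≫ g, hcl, hgp, ?_, ?_⟩
  · have h1 := K126.GeomPts.card_fiber_of_sepClosed f (Spec.map (CommRingCat.ofHom ψ) ≫ g)
      (IsLocalRing.closedPoint V) (K126.GeomPts.isSepClosed_closedPoint V)
    rwa [hcl] at h1
  · refine (K126.GeomPts.card_fiber_of_fac f y' _ _ _ (Spec.map θ ≫ Spec.map φ) hfac fun a b hpb => ?_).symm
    rw [hL _ (Field.toIsField _) θ a b hpb (default : Spec (Y.residueField y'))]
    have h4 : IsPullback (f.fiberι y') (f.fiberToSpecResidueField y') f (Y.fromSpecResidueField y') :=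
      IsPullback.of_hasPullback f (Y.fromSpecResidueField y')
    have h6 := Groth.Agent.Flat2D.GeomFib.nGeomConnComp_baseChange f _ _ _ h4
      (default : Spec (Y.residueField y'))
    rw [Scheme.fromSpecResidueField_apply] at h6
    exact h6

end Groth.Agent.S4950
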