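import Groth.Statements.S4951
import Mathlib

set_option autoImplicit false
universe u
open EGA43

namespace Groth.Agent.S4951

/-- Let X be a locally Noetherian topological space in which every irreducible closed subset has a
unique generic point (X quasi-sober and T₀), and Z a closed nowhere dense subset of X such that for
every point x of Z the set of generizations of x distinct from x is connected (possibly empty). If X
is connected, then X − Z is connected. (Uniqueness of generic points, automatic for the underlying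
space of a scheme, is needed: in the four-point space {u, v, z₁, z₂} whose open sets are ∅, {u},
{v}, {u, v} and the whole space, the closed nowhere dense set Z = {z₁, z₂} satisfies the hypothesis,
since z₂ is a generization of z₁ and conversely, yet X − Z = {u, v} is not connected.) -/
theorem result {X : Type u} [TopologicalSpace X]
    [QuasiSober X] [T0Space X] (hloc : ∀ x : X, ∃ U ∈ nhds x, TopologicalSpace.NoetherianSpace ↥U) [ConnectedSpace X]
    (Z : Set X) (hZ : IsClosed Z) (hZn : IsNowhereDense Z)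
    (hgen : ∀ x ∈ Z, IsPreconnected ({x' : X | x' ⤳ x} \ {x})) :
    IsConnected Zᶜ := by
  -- points of the closure of an open subset are specializations of points of it
  have key : ∀ (V : Set X), IsOpen V → ∀ x ∈ closure V, ∃ v ∈ V, v ⤳ x := by
    intro V hV x hx
    obtain ⟨N, hN, hNn⟩ := hloc x
    let A : Set X := N ∩ V
    have hxA : x ∈ closure A := by
      rw [mem_closure_iff_nhds] at hx ⊢
      intro t ht
      obtain ⟨w, hw1, hw2⟩ := hx (t ∩ N) (Filter.inter_mem ht hN)
      exact ⟨w, hw1.1, hw1.2, hw2⟩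
    have hAn : TopologicalSpace.NoetherianSpace ↥A :=
      (Topology.IsEmbedding.inclusion (Set.inter_subset_left : A ⊆ N)).isInducing.noetherianSpace
    have hfin := TopologicalSpace.NoetherianSpace.finite_irreducibleComponents (α := ↥A)
    have hAU : A = ⋃ C ∈ irreducibleComponents ↥A, (Subtype.val '' C : Set X) := by
      ext w
      simp only [Set.mem_iUnion]
      constructor
      · intro hw
        exact ⟨irreducibleComponent ⟨w, hw⟩,
          irreducibleComponent_mem_irreducibleComponents _, ⟨w, hw⟩, mem_irreducibleComponent, rfl⟩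
      · rintro ⟨C, -, z, -, rfl⟩
        exact z.2
    rw [hAU, hfin.closure_biUnion] at hxA
    simp only [Set.mem_iUnion] at hxA
    obtain ⟨C, hC, hxC⟩ := hxA
    have hCirr : IsIrreducible (Subtype.val '' C : Set X) :=
      hC.1.image _ continuous_subtype_val.continuousOn
    obtain ⟨v, hv⟩ := QuasiSober.sober hCirr.closure isClosed_closure
    refine ⟨v, ?_, ?_⟩
    · rw [hv.mem_open_set_iff hV]
      obtain ⟨w, hw⟩ := hCirr.nonempty
      refine ⟨w, subset_closure hw, ?_⟩
      obtain ⟨z, -, rfl⟩ := hw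
      exact z.2.2
    · rw [specializes_iff_mem_closure, hv.def]
      exact hxC
  have hdense : Dense Zᶜ := by
    rw [← interior_eq_empty_iff_dense_compl, ← hZ.closure_eq]
    exact hZn
  refine ⟨hdense.nonempty, ?_⟩
  rw [isPreconnected_iff_subset_of_disjoint]
  intro U V hU hV hUV hdis
  by_contra hcon
  push Not at hcon
  obtain ⟨hnU, hnV⟩ := hcon
  let U₁ : Set X := Zᶜ ∩ U
  let V₁ : Set X := Zᶜ ∩ V
  have hU₁ : IsOpen U₁ := hZ.isOpen_compl.inter hU
  have hV₁ : IsOpen V₁ := hZ.isOpen_compl.inter hV
  have hdis₁ : Disjoint U₁ V₁ := by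
    rw [Set.disjoint_left]
    rintro w ⟨h1, h2⟩ ⟨-, h3⟩
    have : w ∈ Zᶜ ∩ (U ∩ V) := ⟨h1, h2, h3⟩
    rw [hdis] at this
    exact this
  have hU₁n : U₁.Nonempty := by
    obtain ⟨w, hw1, hw2⟩ := Set.not_subset.mp hnV
    exact ⟨w, hw1, (hUV hw1).resolve_right hw2⟩
  have hV₁n : V₁.Nonempty := by
    obtain ⟨w, hw1, hw2⟩ := Set.not_subset.mp hnU
    exact ⟨w, hw1, (hUV hw1).resolve_left hw2⟩
  have hcov : closure U₁ ∪ closure V₁ = Set.univ := by
    rw [← closure_union, ← hdense.closure_eq]
    congr 1
    ext w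
    constructor
    · rintro (h | h) <;> exact h.1
    · intro hw
      rcases hUV hw with h | h
      · exact Or.inl ⟨hw, h⟩
      · exact Or.inr ⟨hw, h⟩
  have hUcV : Disjoint (closure U₁) V₁ := hdis₁.closure_left hV₁
  have hVcU : Disjoint U₁ (closure V₁) := hdis₁.closure_right hU₁
  let T : Set X := closure U₁ ∩ closure V₁
  have hT : IsClosed T := isClosed_closure.inter isClosed_closure
  have hTne : T.Nonempty := by
    have h1 := isPreconnected_closed_iff.mp (isPreconnected_univ (α := X)) (closure U₁) (closure V₁)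
      isClosed_closure isClosed_closure (by rw [hcov])
      (by rw [Set.univ_inter]; exact hU₁n.closure) (by rw [Set.univ_inter]; exact hV₁n.closure)
    rwa [Set.univ_inter] at h1
  have hTZ : T ⊆ Z := by
    intro w hw
    by_contra hwZ
    rcases hUV hwZ with h | h
    · exact Set.disjoint_left.mp hVcU ⟨hwZ, h⟩ hw.2
    · exact Set.disjoint_left.mp hUcV hw.1 ⟨hwZ, h⟩
  obtain ⟨t₀, ht₀⟩ := hTne
  -- a maximal point of `T`
  have hC := irreducibleComponent_mem_irreducibleComponents (⟨t₀, ht₀⟩ : ↥T)
  set C : Set ↥T := irreducibleComponent (⟨t₀, ht₀⟩ : ↥T) with hCdef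
  have hCirr : IsIrreducible (Subtype.val '' C : Set X) :=
    hC.1.image _ continuous_subtype_val.continuousOn
  have hCcl : IsClosed (Subtype.val '' C : Set X) :=
    hT.isClosedEmbedding_subtypeVal.isClosedMap _ isClosed_irreducibleComponent
  obtain ⟨x, hx⟩ := QuasiSober.sober hCirr hCcl
  have hxT : x ∈ T := by
    obtain ⟨z, -, hz⟩ := hx.mem
    rw [← hz]
    exact z.2
  have hmax : ∀ w ∈ T, w ⤳ x → w = x := by
    intro w hw hwx
    refine (Specializes.antisymm hwx ?_).eq
    let D : Set ↥T := closure {⟨w, hw⟩}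
    have hD : IsIrreducible D := isIrreducible_singleton.closure
    have hCD : C ⊆ D := by
      intro z hz
      change z ∈ closure {⟨w, hw⟩}
      rw [← specializes_iff_mem_closure, ← Topology.IsInducing.subtypeVal.specializes_iff]
      refine hwx.trans ?_
      rw [specializes_iff_mem_closure, hx.def]
      exact ⟨z, hz, rfl⟩
    have hDC : D ⊆ C := hC.2 hD hCD
    have h1 : (⟨w, hw⟩ : ↥T) ∈ C := hDC (subset_closure rfl)
    rw [specializes_iff_mem_closure, hx.def]
    exact ⟨⟨w, hw⟩, h1, rfl⟩
  have hG := hgen x (hTZ hxT)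
  rw [isPreconnected_closed_iff] at hG
  obtain ⟨u, hu, hux⟩ := key U₁ hU₁ x hxT.1
  obtain ⟨v, hv, hvx⟩ := key V₁ hV₁ x hxT.2
  have hne : ∀ w, w ∈ Zᶜ → w ≠ x := fun w hw h => hw (h ▸ hTZ hxT)
  obtain ⟨w, ⟨hw1, hw2⟩, hw3⟩ := hG (closure U₁) (closure V₁) isClosed_closure isClosed_closure
    (by rw [hcov]; exact Set.subset_univ _)
    ⟨u, ⟨hux, hne u hu.1⟩, subset_closure hu⟩ ⟨v, ⟨hvx, hne v hv.1⟩, subset_closure hv⟩
  exact hw2 (hmax w hw3 hw1)
end Groth.Agent.S4951
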