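import Groth.Statements.S4952
import Groth.Agent.EGA43.K127.SecComp

set_option autoImplicit false
open CategoryTheory AlgebraicGeometry
universe u v w
open EGA43

namespace Groth.Agent.S4952

/-- Let Y be a locally Noetherian scheme, f : X ⟶ Y a morphism locally of finite type and g : Y ⟶ X a
section of f; for z in Y let X_z^0 be the connected component of the fibre f⁻¹(z) containing g z (a
subset of X with the induced topology). Let y be a point of Y and y' a generization of y. (i) If
there is an irreducible component Z of f⁻¹(y') containing g y' with dim Z = dim X_{y'}^0, then dim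
X_y^0 ≥ dim X_{y'}^0. (ii) If moreover X_y^0 is irreducible and dim X_y^0 = dim X_{y'}^0, then X_y^0
is contained in the closure of X_{y'}^0 in X. -/
theorem result {X Y : Scheme.{u}} [IsLocallyNoetherian Y] (f : X ⟶ Y)
    [LocallyOfFiniteType f] (g : Y ⟶ X) (hg : g ≫ f = 𝟙 Y) (y y' : Y) (hy : y' ⤳ y)
    (hZ : ∃ Z : Set X, Z ⊆ f.base ⁻¹' {y'} ∧ IsIrreducible Z ∧
      (∀ Z' : Set X, IsIrreducible Z' → Z' ⊆ f.base ⁻¹' {y'} → Z ⊆ Z' → Z' = Z) ∧ g.base y' ∈ Z ∧
      topologicalKrullDim ↥Z = topologicalKrullDim ↥(connectedComponentIn (f.base ⁻¹' {y'}) (g.base y'))) :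
    topologicalKrullDim ↥(connectedComponentIn (f.base ⁻¹' {y'}) (g.base y')) ≤ topologicalKrullDim ↥(connectedComponentIn (f.base ⁻¹' {y}) (g.base y)) ∧
      (IsIrreducible (connectedComponentIn (f.base ⁻¹' {y}) (g.base y)) → topologicalKrullDim ↥(connectedComponentIn (f.base ⁻¹' {y}) (g.base y)) = topologicalKrullDim ↥(connectedComponentIn (f.base ⁻¹' {y'}) (g.base y')) →
        connectedComponentIn (f.base ⁻¹' {y}) (g.base y) ⊆ closure (connectedComponentIn (f.base ⁻¹' {y'}) (g.base y'))) := by
  obtain ⟨Z, hZsub, hZirr, hZmax, hgZ, hZdim⟩ := hZ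
  have hfg : ∀ z, f (g z) = z := K127.SecComp.apply_apply f g hg
  -- `Z` is closed in the fibre
  have hZF : Z = closure Z ∩ f ⁻¹' {y'} := by
    refine (hZmax (closure Z ∩ f ⁻¹' {y'}) ?_ Set.inter_subset_right
      (Set.subset_inter subset_closure hZsub)).symm
    refine ⟨⟨g.base y', subset_closure hgZ, hfg y'⟩, ?_⟩
    rw [← isPreirreducible_iff_closure]
    have h1 : closure (closure Z ∩ f ⁻¹' {y'}) = closure Z := by
      apply subset_antisymm
      · exact closure_minimal Set.inter_subset_left isClosed_closure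
      · exact closure_mono (Set.subset_inter subset_closure hZsub)
    rw [h1]
    exact hZirr.isPreirreducible.closure
  obtain ⟨⟨O₂, hO₂, hCO₂⟩, -⟩ :=
    Groth.Agent.Ega4Fib.H176.SecDvr.exists_open_closed f y (g y) (hfg y)
  have hmeet : (connectedComponentIn (f ⁻¹' {y}) (g y) ∩ closure Z).Nonempty := by
    refine ⟨g y, K127.SecComp.mem_comp f g hg y, ?_⟩
    exact closure_mono (Set.singleton_subset_iff.mpr hgZ)
      (specializes_iff_mem_closure.mp (hy.map g.continuous))
  rw [← hZdim]
  refine ⟨K127.SecComp.dim_le_of_meets f hZirr isClosed_closure hZF hO₂ hCO₂ hmeet, ?_⟩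
  intro hirr hdim
  obtain ⟨ζ, hζ, hζx⟩ := Groth.Agent.Ega4Fib.H176.SecDvr.exists_generic_of_dim f hZirr hirr
    isClosed_closure hZF hO₂ hCO₂ hdim.symm hmeet
  have hZC : Z ⊆ connectedComponentIn (f.base ⁻¹' {y'}) (g.base y') :=
    hZirr.isPreirreducible.isPreconnected.subset_connectedComponentIn hgZ hZsub
  intro x hx
  exact closure_mono (Set.singleton_subset_iff.mpr (hZC hζ))
    (specializes_iff_mem_closure.mp (hζx x hx))

end Groth.Agent.S4952
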