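import Groth.Statements.S4976
import Groth.Agent.EGA43.K129.SteinSection

set_option autoImplicit false
open CategoryTheory AlgebraicGeometry
universe u v w
open EGA43

namespace Groth.Agent.S4976

/-- Let f : X ⟶ Y be a separated morphism of finite presentation with a section g : Y ⟶ X; let X_y^0 be
the connected component of f⁻¹(y) containing g y and X^0 ⊆ X the union of the X_y^0. If y is a point
of Y such that X_y^0, as an open subscheme of the fibre X_y, is proper over κ(y), then X^0 is proper
over Y at y: there is an open neighbourhood U of y such that X^0 ∩ f⁻¹(U) is closed in f⁻¹(U) and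
the reduced closed subscheme of f⁻¹(U) it carries is proper over U. -/
theorem result {X Y : Scheme.{u}} (f : X ⟶ Y) [IsSeparated f]
    [LocallyOfFinitePresentation f] [QuasiCompact f] [QuasiSeparated f] (g : Y ⟶ X) (hg : g ≫ f = 𝟙 Y) (y : Y)
    (hop : IsOpen ((f.fiberι y).base ⁻¹' connectedComponentIn (f.base ⁻¹' {y}) (g.base y)))
    (hprop : IsProper (Scheme.Opens.ι (⟨(f.fiberι y).base ⁻¹' connectedComponentIn (f.base ⁻¹' {y}) (g.base y), hop⟩ : (f.fiber y).Opens) ≫
      f.fiberToSpecResidueField y)) :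
    ∃ U : Y.Opens, y ∈ U ∧ ∃ hC : IsClosed ((f ⁻¹ᵁ U).ι.base ⁻¹' MoreMor.sectionComponents f g),
      IsProper ((Scheme.IdealSheafData.vanishingIdeal
        (⟨(f ⁻¹ᵁ U).ι.base ⁻¹' MoreMor.sectionComponents f g, hC⟩ : TopologicalSpace.Closeds ↥(f ⁻¹ᵁ U))).subschemeι ≫
        (f ∣_ U)) := by
  have hmem : ∀ x, (x ∈ MoreMor.sectionComponents f g ∩ f ⁻¹' {y}) ↔
      x ∈ connectedComponentIn (f.base ⁻¹' {y}) (g.base y) := by
    intro x
    constructor
    · rintro ⟨h1, h2⟩
      have h2' : f x = y := h2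
      have h1' : x ∈ connectedComponentIn (f ⁻¹' {f x}) (g (f x)) := h1
      rw [h2'] at h1'
      exact h1'
    · intro h
      have h2 : f x = y := connectedComponentIn_subset (f ⁻¹' {y}) _ h
      refine ⟨?_, h2⟩
      change x ∈ connectedComponentIn (f ⁻¹' {f x}) (g (f x))
      rw [h2]
      exact h
  obtain ⟨W, hWo, hW⟩ := ((f.fiberι y).isEmbedding.isInducing.isOpen_iff).mp hop
  let V : (f.fiber y).Opens := ⟨(f.fiberι y).base ⁻¹' connectedComponentIn (f.base ⁻¹' {y}) (g.base y), hop⟩
  have hproper : IsProper (V.ι ≫ f.fiberToSpecResidueField y) := hprop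
  obtain ⟨U, P, a, b, hyU, hab, hb, hra⟩ := K129.SteinSection.general f g hg y W hWo (by
      ext x
      rw [hmem]
      constructor
      · rintro ⟨h1, h2⟩
        obtain ⟨w, rfl⟩ : x ∈ Set.range (f.fiberι y) := by rw [f.range_fiberι]; exact h2
        have : w ∈ (f.fiberι y) ⁻¹' W := h1
        rw [hW] at this
        exact this
      · intro h
        have h2 : x ∈ f ⁻¹' {y} := connectedComponentIn_subset _ _ h
        obtain ⟨w, rfl⟩ : x ∈ Set.range (f.fiberι y) := by rw [f.range_fiberι]; exact h2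
        have h3 : w ∈ (f.fiberι y) ⁻¹' W := by
          rw [hW]; exact h
        exact ⟨h3, h2⟩) (V.ι ≫ f.fiberι y) (V.ι ≫ f.fiberToSpecResidueField y) (Y.fromSpecResidueField y)
    (by rw [Scheme.range_fromSpecResidueField]) (by
      rw [Category.assoc, Category.assoc, f.fiber_fac])
    (by
      ext x
      rw [hmem]
      constructor
      · rintro ⟨w, rfl⟩
        exact w.2
      · intro h
        have h2 : x ∈ f ⁻¹' {y} := connectedComponentIn_subset _ _ h
        obtain ⟨w, rfl⟩ : x ∈ Set.range (f.fiberι y) := by rw [f.range_fiberι]; exact h2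
        exact ⟨⟨w, h⟩, rfl⟩)
  exact ⟨U, hyU, K129.ProperAt.of_proper_cover f _ U a b hab hra⟩

end Groth.Agent.S4976
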