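import Groth.Statements.S4957
import Groth.Agent.S4976
import Groth.Agent.S0403

set_option autoImplicit false
open CategoryTheory AlgebraicGeometry
universe u v w
open EGA43

namespace Groth.Agent.S4957

/-- The fibres of a closed subscheme, as subsets of the ambient scheme. -/
theorem dim_fiber_eq {P X Y U : Scheme.{u}} (f : X ⟶ Y) (a : P ⟶ X) (q : P ⟶ U) (ι : U ⟶ Y)
    (ha : Topology.IsEmbedding a) (hι : Function.Injective ι) (h : a ≫ f = q ≫ ι) (C : Set X) (u : U)
    (hC : Set.range a ∩ f ⁻¹' {ι u} = C) :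
    topologicalKrullDim ↥(q.fiber u) = topologicalKrullDim ↥C := by
  rw [Groth.Agent.FlatA.FibreDim.topologicalKrullDim_fiber_eq]
  have hC' : a '' (q ⁻¹' {u}) = C := by
    rw [← hC]
    ext x
    constructor
    · rintro ⟨w, hw, rfl⟩
      refine ⟨⟨w, rfl⟩, ?_⟩
      have hw' : q w = u := hw
      change f (a w) = ι u
      rw [← Scheme.Hom.comp_apply, h, Scheme.Hom.comp_apply, hw']
    · rintro ⟨⟨w, rfl⟩, hw⟩
      refine ⟨w, ?_, rfl⟩
      apply hι
      have hw' : f (a w) = ι u := hw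
      have h2 : f (a w) = ι (q w) := by
        rw [← Scheme.Hom.comp_apply, h, Scheme.Hom.comp_apply]
      exact h2.symm.trans hw'
  rw [← hC']
  exact (ha.homeomorphImage (q ⁻¹' {u})).isHomeomorph.topologicalKrullDim_eq

/-- Let f : X ⟶ Y be a separated morphism of finite presentation with a section g : Y ⟶ X, and X_z^0 the
connected component of f⁻¹(z) containing g z. Let y be a point such that X_y^0, as an open subscheme
of the fibre X_y, is proper over κ(y). Then for every generization y' of y one has dim X_{y'}^0 ≤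
dim X_y^0. -/
theorem result {X Y : Scheme.{u}} (f : X ⟶ Y) [IsSeparated f]
    [LocallyOfFinitePresentation f] [QuasiCompact f] [QuasiSeparated f] (g : Y ⟶ X) (hg : g ≫ f = 𝟙 Y) (y : Y)
    (hop : IsOpen ((f.fiberι y).base ⁻¹' connectedComponentIn (f.base ⁻¹' {y}) (g.base y)))
    (hprop : IsProper (Scheme.Opens.ι (⟨(f.fiberι y).base ⁻¹' connectedComponentIn (f.base ⁻¹' {y}) (g.base y), hop⟩ : (f.fiber y).Opens) ≫
      f.fiberToSpecResidueField y))
    (y' : Y) (hy' : y' ⤳ y) :
    topologicalKrullDim ↥(connectedComponentIn (f.base ⁻¹' {y'}) (g.base y')) ≤ topologicalKrullDim ↥(connectedComponentIn (f.base ⁻¹' {y}) (g.base y)) := by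
  obtain ⟨U, hyU, hC, hP⟩ := Groth.Agent.S4976.result f g hg y hop hprop
  let C : TopologicalSpace.Closeds ↥(f ⁻¹ᵁ U) := ⟨(f ⁻¹ᵁ U).ι.base ⁻¹' MoreMor.sectionComponents f g, hC⟩
  let i := (Scheme.IdealSheafData.vanishingIdeal (X := (f ⁻¹ᵁ U : Scheme.{u})) C).subschemeι
  have hi : Set.range i = (f ⁻¹ᵁ U).ι ⁻¹' MoreMor.sectionComponents f g := by
    rw [Scheme.IdealSheafData.range_subschemeι]
    exact Scheme.IdealSheafData.coe_support_vanishingIdeal (X := (f ⁻¹ᵁ U : Scheme.{u})) C
  let q := i ≫ (f ∣_ U)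
  have hq : IsProper q := hP
  let a := i ≫ (f ⁻¹ᵁ U).ι
  have haf : a ≫ f = q ≫ U.ι := by
    simp only [a, q, Category.assoc, morphismRestrict_ι]
  have hae : Topology.IsEmbedding a := a.isEmbedding
  have hra : Set.range a = MoreMor.sectionComponents f g ∩ f ⁻¹' (U : Set Y) := by
    ext x
    constructor
    · rintro ⟨w, rfl⟩
      rw [Scheme.Hom.comp_apply]
      have : i w ∈ Set.range i := ⟨w, rfl⟩
      rw [hi] at this
      exact ⟨this, (i w).2⟩
    · rintro ⟨h1, h2⟩
      obtain ⟨v, rfl⟩ : x ∈ Set.range (f ⁻¹ᵁ U).ι := by rw [Scheme.Opens.range_ι]; exact h2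
      have : v ∈ Set.range i := by rw [hi]; exact h1
      obtain ⟨w, rfl⟩ := this
      exact ⟨w, Scheme.Hom.comp_apply _ _ _⟩
  have hmem : ∀ z ∈ U, Set.range a ∩ f ⁻¹' {z} = connectedComponentIn (f ⁻¹' {z}) (g z) := by
    intro z hz
    ext x
    rw [hra]
    constructor
    · rintro ⟨⟨h1, -⟩, h2⟩
      have h2' : f x = z := h2
      have h1' : x ∈ connectedComponentIn (f ⁻¹' {f x}) (g (f x)) := h1
      rw [h2'] at h1'
      exact h1'
    · intro h
      have h2 : f x = z := connectedComponentIn_subset (f ⁻¹' {z}) _ h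
      refine ⟨⟨?_, ?_⟩, h2⟩
      · change x ∈ connectedComponentIn (f ⁻¹' {f x}) (g (f x))
        rw [h2]
        exact h
      · change f x ∈ (U : Set Y)
        rw [h2]; exact hz
  have hUinj : Function.Injective U.ι := U.ι.isOpenEmbedding.injective
  have hdim : ∀ u : U, topologicalKrullDim ↥(q.fiber u) =
      topologicalKrullDim ↥(connectedComponentIn (f ⁻¹' {U.ι u}) (g (U.ι u))) := fun u =>
    dim_fiber_eq f a q U.ι hae hUinj haf _ u (hmem _ u.2)
  obtain ⟨u, rfl⟩ : y ∈ Set.range U.ι := by rw [Scheme.Opens.range_ι]; exact hyU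
  have hu' : y' ∈ Set.range U.ι := hy'.mem_open U.ι.isOpenEmbedding.isOpen_range ⟨u, rfl⟩
  obtain ⟨u', rfl⟩ := hu'
  have huu : u' ⤳ u := U.ι.isOpenEmbedding.isInducing.specializes_iff.mp hy'
  have hopen := Groth.Agent.S0403.result q (topologicalKrullDim ↥(q.fiber u))
  have hmu : u ∈ {s | topologicalKrullDim ↥(q.fiber s) ≤ topologicalKrullDim ↥(q.fiber u)} :=
    le_refl (topologicalKrullDim ↥(q.fiber u))
  have := huu.mem_open hopen hmu
  have h3 : topologicalKrullDim ↥(q.fiber u') ≤ topologicalKrullDim ↥(q.fiber u) := this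
  exact ((hdim u').symm.trans_le h3).trans_eq (hdim u)

end Groth.Agent.S4957
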