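import Groth.Statements.S4958
import Groth.Agent.S3393
import Groth.Agent.VarietyB.DimTop

set_option autoImplicit false
open CategoryTheory AlgebraicGeometry
universe u v w
open EGA43

namespace Groth.Agent.S4958

open Groth.Agent.CycB.RelDim Groth.Agent.CycB.LocQuot Groth.Agent.Flat2D.RelDimClosure
open Groth.Agent.Ega4fib.H113.DimFibre Groth.Agent.Ega4fib.H114.GenComp
open Groth.Agent.Ega4fib.H117.EquidimDim

/-- A component through a maximal point of a fibre whose generic fibre has the right dimension. -/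
theorem exists_generic {X Y : Scheme.{u}} [IrreducibleSpace Y] [IsLocallyNoetherian Y]
    (f : X ⟶ Y) [LocallyOfFiniteType f] (z : X)
    (hz : ∀ z' : X, z' ⤳ z → f z' = f z → z' = z)
    (hd : ringKrullDim (X.presheaf.stalk z) = ringKrullDim (Y.presheaf.stalk (f z))) :
    ∃ ζ : X, (∀ w, w ⤳ ζ → w = ζ) ∧ f ζ = genericPoint Y ∧ rtd f ζ = rtd f z := by
  have : IsLocallyNoetherian X := LocallyOfFiniteType.isLocallyNoetherian f
  obtain ⟨n, hn⟩ : ∃ n : ℕ, rtd f z = n := by
    obtain ⟨n, hn, -⟩ := exists_dim_fib f z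
    exact ⟨n, hn⟩
  obtain ⟨ζ, hζ, hmax, hdim⟩ := exists_generic_dim z
  have hle : rtd f ζ ≤ rtd f z :=
    Groth.Agent.Ega4fib.H174.EquidimCrit.rtd_le_of_maximal_fib f hζ fun w' _ h2 h3 => hz w' h2 h3
  obtain ⟨m, hm, hm'⟩ := exists_dim_fib f ζ
  rw [hm, hn] at hle
  have hmn : m ≤ n := by exact_mod_cast hle
  obtain ⟨dX, dY, hX, hY, hineq⟩ := Groth.Agent.CycB.DimIneq.dim_ineq f hζ
  change (dX : Cardinal.{u}) + rtd f z ≤ (dY : Cardinal.{u}) + rtd f ζ at hineq
  rw [hm, hn] at hineq
  have hineq' : dX + n ≤ dY + m := by exact_mod_cast hineq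
  have hη : genericPoint Y ⤳ f ζ := genericPoint_specializes _
  rw [hd, hX] at hdim
  have heq : genericPoint Y = f ζ := by
    by_contra hne
    have h1 := ringKrullDim_locQuot_add_one_le (hζ.map f.continuous) hη hne
    rw [hY] at h1
    have h2 : ((dY : WithBot ℕ∞) + 1) ≤ dX := h1.trans hdim
    have h3 : dY + 1 ≤ dX := by exact_mod_cast h2
    omega
  have hYle : ringKrullDim (Cyc.LocQuot (f z) (f ζ) (hζ.map f.continuous)) ≤
    ringKrullDim (Y.presheaf.stalk (f z)) := ringKrullDim_locQuot_le _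
  rw [hY] at hYle
  have h4 : (dY : WithBot ℕ∞) ≤ dX := hYle.trans hdim
  have h5 : dY ≤ dX := by exact_mod_cast h4
  have h6 : m = n := by omega
  exact ⟨ζ, hmax, heq.symm, by rw [hm, hn, h6]⟩

/-- Let Y be an irreducible locally Noetherian scheme with generic point η, f : X ⟶ Y a morphism of
finite type and y a point of Y whose local ring O_{Y,y} is universally catenary. Suppose that dim
O_{X,z} = dim O_{Y,y} for every maximal point z of the fibre X_y. For z' in Y let E(z') be the set
of dimensions of the irreducible components of X_{z'}. Then E(y) ⊆ E(η), and hence dim X_y ≤ dim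
X_η. -/
theorem result {X Y : Scheme.{u}} [IrreducibleSpace Y]
    [IsLocallyNoetherian Y] (f : X ⟶ Y) [LocallyOfFiniteType f] [QuasiCompact f] (y : Y)
    (hcat : CAlg.IsUniversallyCatenary (Y.presheaf.stalk y))
    (hb : ∀ z : X, f.base z = y → (∀ z' : X, f.base z' = y → z ∈ closure {z'} → z' = z) →
      ringKrullDim (X.presheaf.stalk z) = ringKrullDim (Y.presheaf.stalk y)) :
    letI E : Y → Set (WithBot ℕ∞) := fun z =>
      (fun Z : Set ↥(f.fiber z) => topologicalKrullDim ↥Z) '' irreducibleComponents ↥(f.fiber z)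
    E y ⊆ E (genericPoint Y) ∧
      topologicalKrullDim ↥(f.fiber y) ≤ topologicalKrullDim ↥(f.fiber (genericPoint Y)) := by
  have hE : (fun Z : Set ↥(f.fiber y) => topologicalKrullDim ↥Z) '' irreducibleComponents ↥(f.fiber y) ⊆
      (fun Z : Set ↥(f.fiber (genericPoint Y)) => topologicalKrullDim ↥Z) ''
        irreducibleComponents ↥(f.fiber (genericPoint Y)) := by
    rintro _ ⟨Z, hZ, rfl⟩
    obtain ⟨w, hwZ⟩ := QuasiSober.sober hZ.1 (isClosed_of_mem_irreducibleComponents Z hZ)
    have hwmax : ∀ w', w' ⤳ w → w' = w := by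
      intro w' hw'
      have h1 : Z ⊆ closure {w'} := by rw [← hwZ.def]; exact hw'.closure_subset
      have h2 : closure {w'} ⊆ Z := hZ.2 isIrreducible_singleton.closure h1
      have h3 : IsGenericPoint w' Z := h2.antisymm h1
      exact h3.eq hwZ
    have hfz : f (f.fiberι y w) = y := by
      have : f.fiberι y w ∈ f ⁻¹' {y} := by rw [← f.range_fiberι]; exact ⟨w, rfl⟩
      exact this
    have hzmax : ∀ z' : X, f z' = y → z' ⤳ f.fiberι y w → z' = f.fiberι y w := by
      intro z' hz' hs
      obtain ⟨v, rfl⟩ : z' ∈ Set.range (f.fiberι y) := by rw [f.range_fiberι]; exact hz'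
      rw [(f.fiberι y).isEmbedding.isInducing.specializes_iff] at hs
      rw [hwmax v hs]
    obtain ⟨ζ, hζmax, hζη, hrtd⟩ := exists_generic f (f.fiberι y w)
      (fun z' hs hz' => hzmax z' (hz'.trans hfz) hs) (by
        have := hb (f.fiberι y w) hfz (fun z' hz' hs => hzmax z' hz' (specializes_iff_mem_closure.mpr hs))
        rw [this, hfz])
    obtain ⟨n, hn1, hn2⟩ := Groth.Agent.CycB.RelDim.exists_dim_closure_fiber f y w
    obtain ⟨v, rfl⟩ : ζ ∈ Set.range (f.fiberι (genericPoint Y)) := by
      rw [f.range_fiberι]; exact hζη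
    obtain ⟨m, hm1, hm2⟩ := Groth.Agent.CycB.RelDim.exists_dim_closure_fiber f (genericPoint Y) v
    have hnm : (m : Cardinal.{u}) = n := by rw [← hm1, ← hn1, hrtd]
    have hnm' : m = n := by exact_mod_cast hnm
    refine ⟨closure {v}, ?_, ?_⟩
    · refine ⟨isIrreducible_singleton.closure, ?_⟩
      intro T hT hvT
      have hcl : IsIrreducible (closure T) := hT.closure
      obtain ⟨t, ht⟩ := QuasiSober.sober hcl isClosed_closure
      have h1 : t ⤳ v := by
        rw [specializes_iff_mem_closure, ht.def]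
        exact subset_closure (hvT (subset_closure rfl))
      have h2 : f.fiberι (genericPoint Y) t = f.fiberι (genericPoint Y) v :=
        hζmax _ (h1.map (f.fiberι (genericPoint Y)).continuous)
      have h3 : t = v := (f.fiberι (genericPoint Y)).isEmbedding.injective h2
      rw [← h3, ht.def]
      exact subset_closure
    · change topologicalKrullDim ↥(closure {v}) = topologicalKrullDim ↥Z
      rw [hm2, hnm', ← hn2, hwZ.def]
  refine ⟨hE, ?_⟩
  rw [Groth.Agent.VarietyB.DimTop.topologicalKrullDim_eq_iSup_irreducibleComponents]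
  refine iSup_le fun Z => ?_
  obtain ⟨Z', hZ', h⟩ := hE ⟨Z.1, Z.2, rfl⟩
  change topologicalKrullDim ↥Z' = topologicalKrullDim ↥Z.1 at h
  rw [← h]
  exact (Topology.IsInducing.subtypeVal (t := Z')).topologicalKrullDim_le

end Groth.Agent.S4958
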