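import Groth.Statements.S4959

set_option autoImplicit false
open CategoryTheory AlgebraicGeometry
universe u v w
open EGA43

namespace Groth.Agent.S4959

open CategoryTheory.Limits in
/-- Let f : X ⟶ Y be a morphism of schemes and g : Y' ⟶ Y a surjective morphism which is either proper,
or flat and quasi-compact. If the base change f' : X ×_Y Y' ⟶ Y' is universally submersive (all of
its base changes are topological quotient maps), then f is universally submersive. -/
theorem result {X Y Y' : Scheme.{u}} (f : X ⟶ Y) (g : Y' ⟶ Y) [Surjective g]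
    (hg : IsProper g ∨ (Flat g ∧ QuasiCompact g))
    (h : MorphismProperty.universally (topologically @Topology.IsQuotientMap) (pullback.snd f g)) :
    MorphismProperty.universally (topologically @Topology.IsQuotientMap) f := by
  intro X₁ Y₁ i₁ i₂ f₁ hf₁
  let g₁ : pullback i₂ g ⟶ Y₁ := pullback.fst i₂ g
  have hg₁ : Topology.IsQuotientMap g₁ := by
    rcases hg with hg | ⟨h1, h2⟩
    · have h3 : IsProper g₁ := inferInstance
      exact (g₁.isClosedMap).isQuotientMap g₁.continuous g₁.surjective
    · have h3 : Flat g₁ := inferInstance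
      have h4 : QuasiCompact g₁ := inferInstance
      exact Flat.isQuotientMap_of_surjective g₁
  let p : pullback f₁ g₁ ⟶ pullback i₂ g := pullback.snd f₁ g₁
  let q : pullback f₁ g₁ ⟶ X₁ := pullback.fst f₁ g₁
  -- the outer square
  have hout : IsPullback (q ≫ i₁) p f (g₁ ≫ i₂) :=
    (IsPullback.of_hasPullback f₁ g₁).paste_horiz hf₁.flip
  have hcond : g₁ ≫ i₂ = pullback.snd i₂ g ≫ g := pullback.condition
  let r : pullback f₁ g₁ ⟶ pullback f g :=
    pullback.lift (q ≫ i₁) (p ≫ pullback.snd i₂ g) (by
      rw [hout.w, hcond, Category.assoc])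
  have hr1 : r ≫ pullback.fst f g = q ≫ i₁ := pullback.lift_fst _ _ _
  have hr2 : r ≫ pullback.snd f g = p ≫ pullback.snd i₂ g := pullback.lift_snd _ _ _
  have hleft : IsPullback r p (pullback.snd f g) (pullback.snd i₂ g) := by
    refine IsPullback.of_right (h₁₂ := pullback.fst f g) (h₂₂ := g) (v₁₃ := f) ?_ hr2
      (IsPullback.of_hasPullback f g).flip.flip
    rw [hr1, ← hcond]
    exact hout
  have hp : Topology.IsQuotientMap p := h r (pullback.snd i₂ g) p hleft.flip
  have hcomp : Topology.IsQuotientMap (f₁ ∘ q) := by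
    have h5 : (f₁ : X₁ → Y₁) ∘ q = g₁ ∘ p := by
      have h6 : q ≫ f₁ = p ≫ g₁ := pullback.condition
      ext x
      exact congr($h6 x)
    rw [h5]
    exact hg₁.comp hp
  exact Topology.IsQuotientMap.of_comp q.continuous f₁.continuous hcomp

end Groth.Agent.S4959
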