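import Groth.Statements.S4963
import Groth.Agent.S0386
import Groth.Agent.S2549

set_option autoImplicit false
open CategoryTheory AlgebraicGeometry
universe u v w
open EGA43

namespace Groth.Agent.S4963

/-- Let f : X ⟶ Y be a morphism locally of finite presentation. The set of points x of X such that f is
flat at x and the fibre of f through x is geometrically reduced at x over the residue field of f x
(f is a reduced morphism at x) is open in X. -/
theorem result {X Y : Scheme.{u}} (f : X ⟶ Y)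
    [LocallyOfFinitePresentation f] :
    IsOpen {x : X | (f.stalkMap x).hom.Flat ∧ FBase.IsGeomReducedAt (f.fiberToSpecResidueField (f.base x)) (f.asFiber x)} := by
  have hP := Groth.Agent.Ega43.GeomRedMain.isoClosed_isReduced.{u}
  let W : X.Opens := ⟨{x : X | (f.stalkMap x).hom.Flat}, Groth.Agent.S0386.result f⟩
  have hW : Flat (W.ι ≫ f) := by
    rw [Flat.iff_flat_stalkMap]
    intro w
    rw [Scheme.Hom.stalkMap_comp]
    have h1 : (f.stalkMap (W.ι w)).hom.Flat := w.2
    have h2 : (W.ι.stalkMap w).hom.Flat :=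
      RingHom.Flat.of_bijective (ConcreteCategory.bijective_of_isIso (W.ι.stalkMap w))
    exact h1.comp h2
  have h1 := Groth.Agent.S2549.result (W.ι ≫ f)
  have h2 := W.ι.isOpenEmbedding.isOpenMap _ h1
  convert h2 using 1
  ext x
  constructor
  · rintro ⟨hx, hg⟩
    refine ⟨⟨x, hx⟩, ?_, rfl⟩
    exact (Ega43.GeomAt.geomAt_fiber_iff hP (W.ι ≫ f) (⟨x, hx⟩ : ↥W)).2
      ((Ega43.GeomAt.geomAt_comp_openImmersion hP W.ι f (⟨x, hx⟩ : ↥W)).2
        ((Ega43.GeomAt.geomAt_fiber_iff hP f x).1 hg))
  · rintro ⟨w, hw, rfl⟩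
    exact ⟨w.2, (Ega43.GeomAt.geomAt_fiber_iff hP f (W.ι w)).2
      ((Ega43.GeomAt.geomAt_comp_openImmersion hP W.ι f w).1
        ((Ega43.GeomAt.geomAt_fiber_iff hP (W.ι ≫ f) w).1 hw))⟩

end Groth.Agent.S4963
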