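import Groth.Statements.S4966
import Groth.Agent.EGA43.K128.NoEmb

set_option autoImplicit false
open CategoryTheory AlgebraicGeometry
universe u v w
open EGA43

namespace Groth.Agent.S4966

/-- Let f : X ⟶ Y be a proper morphism of finite presentation and F a finitely presented O_X-module
which is f-flat; for y in Y write F_y for the restriction of F to the fibre X_y. Let Φ be a finite
set of natural numbers. Then the set of points y of Y such that F_y has no embedded associated point
and the set of dimensions of the irreducible components of Supp(F_y) is exactly Φ is open in Y. -/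
theorem result {X Y : Scheme.{u}} (f : X ⟶ Y) [IsProper f]
    [LocallyOfFinitePresentation f] (F : X.Modules) (hF : CohB1.IsFP F) (hflat : FlatMod.IsFlatOver f F) (Φ : Finset ℕ) :
    IsOpen {y : Y | AssSch.NoEmbedded ((Scheme.Modules.pullback (f.fiberι y)).obj F) ∧
      (fun Z : Set ↥{z : ↥(f.fiber y) | Nontrivial (((Scheme.Modules.pullback (f.fiberι y)).obj F).presheaf.stalk z)} => topologicalKrullDim ↥Z) '' irreducibleComponents ↥{z : ↥(f.fiber y) | Nontrivial (((Scheme.Modules.pullback (f.fiberι y)).obj F).presheaf.stalk z)} =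
        (fun n : ℕ => (n : WithBot ℕ∞)) '' (Φ : Set ℕ)} := by
  have hcoh : Coh.IsCoh F := Models2.FPCoh.isCoh_of_isFP hF
  have h := ((S4964.result f F hF hflat Φ).inter (S4965.result f F hF hflat Φ)).inter
    (K128.NoEmb.isOpen_noEmbedded f F f.isClosedMap hF hflat)
  convert h using 1
  ext y
  constructor
  · rintro ⟨h1, h2⟩
    refine ⟨⟨?_, ?_⟩, h1⟩
    · intro z hz
      have hzs := K128.SuppComp.mem_supp_of_mem_ass f F y z hz
      obtain ⟨w, hw, hwz, hmax⟩ := K128.SuppComp.exists_isMax f F hcoh y z hzs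
      have hwa := K128.SuppComp.mem_ass_of_isMax f F hcoh y w hw hmax
      have hzw := h1 z hz w hwa hwz
      subst hzw
      have hcl := K128.SuppComp.isClosed_suppF f F hcoh y
      have h3 : topologicalKrullDim ↥(closure ({z} : Set ↥(f.fiber y))) ∈
          (fun n : ℕ => (n : WithBot ℕ∞)) '' (Φ : Set ℕ) := by
        rw [← h2]
        refine ⟨_, (K128.SuppComp.mem_irreducibleComponents_iff hcl _).mpr ⟨z, hw, hmax, rfl⟩, ?_⟩
        exact K128.SuppComp.dim_preimage_closure hcl hw
      obtain ⟨n, hn, hn'⟩ := h3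
      exact ⟨n, hn, hn'.symm⟩
    · intro n hn
      have h3 : ((n : ℕ) : WithBot ℕ∞) ∈ (fun n : ℕ => (n : WithBot ℕ∞)) '' (Φ : Set ℕ) := ⟨n, hn, rfl⟩
      rw [← h2] at h3
      exact h3
  · rintro ⟨⟨h1, h2⟩, h3⟩
    refine ⟨h3, ?_⟩
    apply le_antisymm
    · rintro _ ⟨Z, hZ, rfl⟩
      obtain ⟨z, hz, -, -, hd⟩ := K128.SuppDim.exists_ass f F hcoh y Z hZ
      obtain ⟨n, hn, hn'⟩ := h1 z hz
      exact ⟨n, hn, (hd.trans hn').symm⟩
    · rintro _ ⟨n, hn, rfl⟩
      exact h2 n hn

end Groth.Agent.S4966
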