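import Groth.Statements.S4970
import Groth.Agent.Flat2E.FibreFlatAt
import Groth.Agent.Flat2B.FlatLocusAux
import Mathlib.RingTheory.Flat.EquationalCriterion
import Mathlib.LinearAlgebra.TensorProduct.Quotient
import Mathlib.RingTheory.Flat.Localization

set_option autoImplicit false
universe u
open TensorProduct
open EGA43

namespace Groth.Agent.S4970

/-- Pointwise fibre criterion: `M_q` is flat over `B_q` when the fibre module over `p = q ∩ A` is flat. -/
theorem flat_localized {A B M : Type u} [CommRing A] [CommRing B] [Algebra A B]
    [Algebra.FinitePresentation A B] [AddCommGroup M] [Module B M] [Module A M]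
    [IsScalarTower A B M] [Module.FinitePresentation B M] [Module.Flat A M] (q : Ideal B) [q.IsPrime]
    (p : Ideal A) [p.IsPrime] [q.LiesOver p]
    (h : Module.Flat (B ⊗[A] p.ResidueField) ((B ⊗[A] p.ResidueField) ⊗[B] M)) :
    Module.Flat (Localization.AtPrime q) (LocalizedModule q.primeCompl M) := by
  by_cases hM : Nontrivial (LocalizedModule q.primeCompl M)
  swap
  · rw [not_nontrivial_iff_subsingleton] at hM
    infer_instance
  let _ := Localization.AtPrime.algebraOfLiesOver p q
  have : IsLocalHom (algebraMap (Localization.AtPrime p) (Localization.AtPrime q)) := by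
    rw [Localization.AtPrime.IsLiesOverAlgebra.algebraMap_eq (p := p) (P := q)]
    infer_instance
  let iM : Module (Localization.AtPrime p) (LocalizedModule q.primeCompl M) :=
    Module.compHom _ (algebraMap (Localization.AtPrime p) (Localization.AtPrime q))
  have t1 : IsScalarTower (Localization.AtPrime p) (Localization.AtPrime q)
      (LocalizedModule q.primeCompl M) := IsScalarTower.of_algebraMap_smul fun _ _ => rfl
  have t2 : IsScalarTower A (Localization.AtPrime q) (LocalizedModule q.primeCompl M) := .to₁₃₄ _ B _ _
  have t3 : IsScalarTower A (Localization.AtPrime p) (LocalizedModule q.primeCompl M) :=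
    .to₁₂₄ _ _ (Localization.AtPrime q) _
  have hflA : Module.Flat A (LocalizedModule q.primeCompl M) :=
    Groth.Agent.Flat2B.FlatLocusAux.flat_of_isLocalizedModule_source q.primeCompl
      (LocalizedModule.mkLinearMap q.primeCompl M)
  have hfl : Module.Flat (Localization.AtPrime p) (LocalizedModule q.primeCompl M) := by
    rw [Module.flat_iff_of_isLocalization (Localization.AtPrime p) p.primeCompl]
    exact hflA
  have hfp : Module.FinitePresentation (Localization.AtPrime q) (LocalizedModule q.primeCompl M) :=
    inferInstance
  let I : Ideal (Localization.AtPrime q) := (IsLocalRing.maximalIdeal (Localization.AtPrime p)).map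
      (algebraMap (Localization.AtPrime p) (Localization.AtPrime q))
  let Q := Localization.AtPrime q ⧸ I
  -- the fibre ring maps to `Q`
  have hker : ∀ x ∈ IsLocalRing.maximalIdeal (Localization.AtPrime p),
      ((Ideal.Quotient.mk I).comp (algebraMap (Localization.AtPrime p) (Localization.AtPrime q))) x = 0 := by
    intro x hx
    exact Ideal.Quotient.eq_zero_iff_mem.mpr (Ideal.mem_map_of_mem _ hx)
  let κQ : p.ResidueField →ₐ[A] Q :=
    { Ideal.Quotient.lift (IsLocalRing.maximalIdeal (Localization.AtPrime p)) _ hker with
      commutes' := fun a => by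
        change (Ideal.Quotient.mk I) (algebraMap (Localization.AtPrime p) (Localization.AtPrime q)
          (algebraMap A (Localization.AtPrime p) a)) = _
        rw [← IsScalarTower.algebraMap_apply]
        rfl }
  let φ : (B ⊗[A] p.ResidueField) →ₐ[B] Q :=
    Algebra.TensorProduct.lift (Algebra.ofId B Q) κQ (fun _ _ => Commute.all _ _)
  let _ : Algebra (B ⊗[A] p.ResidueField) Q := φ.toRingHom.toAlgebra
  have : IsScalarTower B (B ⊗[A] p.ResidueField) Q := IsScalarTower.of_algebraMap_eq' φ.comp_algebraMap.symm
  have h1 : Module.Flat Q (Q ⊗[B ⊗[A] p.ResidueField] ((B ⊗[A] p.ResidueField) ⊗[B] M)) := inferInstance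
  have h2 : Module.Flat Q (Q ⊗[B] M) :=
    Module.Flat.of_linearEquiv (AlgebraTensorModule.cancelBaseChange B (B ⊗[A] p.ResidueField) Q Q M).symm
  have hb : IsBaseChange (Localization.AtPrime q) (LocalizedModule.mkLinearMap q.primeCompl M) :=
    (isLocalizedModule_iff_isBaseChange q.primeCompl (Localization.AtPrime q) _).mp inferInstance
  have h3 : Module.Flat Q (Q ⊗[Localization.AtPrime q] ((Localization.AtPrime q) ⊗[B] M)) :=
    Module.Flat.of_linearEquiv (AlgebraTensorModule.cancelBaseChange B (Localization.AtPrime q) Q Q M)
  have h4 : Module.Flat Q (Q ⊗[Localization.AtPrime q] (LocalizedModule q.primeCompl M)) :=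
    Module.Flat.of_linearEquiv (AlgebraTensorModule.congr (LinearEquiv.refl Q Q) hb.equiv.symm)
  have h5 : Module.Flat Q (LocalizedModule q.primeCompl M ⧸ I • (⊤ : Submodule (Localization.AtPrime q)
      (LocalizedModule q.primeCompl M))) :=
    Module.Flat.of_linearEquiv (LinearEquiv.extendScalarsOfSurjective
        (S := Q) Ideal.Quotient.mk_surjective
        (TensorProduct.quotTensorEquivQuotSMul (LocalizedModule q.primeCompl M) I)).symm
  exact (Groth.Agent.S2106.result (R := Localization.AtPrime p) (S := Localization.AtPrime q)
    (S' := Localization.AtPrime q) (M := LocalizedModule q.primeCompl M)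
    (Groth.Agent.Flat2E.FibreFlatAt.isEssFinitePresentation p q)
    (Groth.Agent.Flat2E.FibreFlatAt.isEssFinitePresentation p q) h5).2

/-- Let A be a commutative ring, B a finitely presented A-algebra which is flat as an A-module, and M a
finitely presented B-module which is flat as an A-module. Then M is a flat B-module if and only if,
for every prime ideal p of A with residue field κ(p), the module (B ⊗_A κ(p)) ⊗_B M is projective
over the ring B ⊗_A κ(p). (Condition a) of the source, M projective over B, is equivalent to b) for
finitely presented modules.) -/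
theorem result (A B M : Type u) [CommRing A] [CommRing B] [Algebra A B]
    [Algebra.FinitePresentation A B] [Module.Flat A B] [AddCommGroup M] [Module B M] [Module A M]
    [IsScalarTower A B M] [Module.FinitePresentation B M] [Module.Flat A M] :
    Module.Flat B M ↔ ∀ (p : Ideal A) [p.IsPrime],
      Module.Projective (B ⊗[A] p.ResidueField) ((B ⊗[A] p.ResidueField) ⊗[B] M) := by
  constructor
  · intro h p _
    have h1 : Module.Flat (B ⊗[A] p.ResidueField) ((B ⊗[A] p.ResidueField) ⊗[B] M) := inferInstance
    have h2 : Module.FinitePresentation (B ⊗[A] p.ResidueField) ((B ⊗[A] p.ResidueField) ⊗[B] M) :=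
      inferInstance
    exact Module.Flat.projective_of_finitePresentation
  · intro h
    refine Module.flat_of_localized_maximal M fun q hq => ?_
    have h1 := h (q.comap (algebraMap A B))
    have h2 : Module.Flat (B ⊗[A] (q.comap (algebraMap A B)).ResidueField)
      ((B ⊗[A] (q.comap (algebraMap A B)).ResidueField) ⊗[B] M) := inferInstance
    have : q.LiesOver (q.comap (algebraMap A B)) := ⟨rfl⟩
    have h3 := flat_localized q (q.comap (algebraMap A B)) h2
    rw [← Module.flat_iff_of_isLocalization (Localization.AtPrime q) q.primeCompl]
    exact h3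

end Groth.Agent.S4970
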