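import Groth.Statements.S4972
import Groth.Agent.EGA43.K974.ClosureFib

set_option autoImplicit false
open CategoryTheory AlgebraicGeometry
universe u v w
open EGA43

namespace Groth.Agent.S4972

open K974.ClosureFib

/-- Let f : X ⟶ S be a morphism of finite type, (g_i : Y_i ⟶ S) a family of universally open morphisms
and (u_i : Y_i ⟶ X) a family of S-morphisms. For s in S let Z(s) be the closure, in the fibre f⁻¹(s)
(with the topology induced from X), of the union of the sets u_i(Y_i) ∩ f⁻¹(s) (the images of the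
fibres of the Y_i over s), and let d(s) = dim Z(s). Then for every point s of S and every
generization s' of s one has d(s) ≤ d(s'). -/
theorem result {X S : Scheme.{u}} (f : X ⟶ S) [LocallyOfFiniteType f]
    [QuasiCompact f] {ι : Type u} (Y : ι → Scheme.{u}) (g : ∀ i, Y i ⟶ S) [∀ i, UniversallyOpen (g i)]
    (v : ∀ i, Y i ⟶ X) (hv : ∀ i, v i ≫ f = g i) (s s' : S) (hs : s' ⤳ s) :
    letI d : S → WithBot ℕ∞ := fun t =>
      topologicalKrullDim ↥(f.base ⁻¹' {t} ∩ closure ((⋃ i, Set.range (v i).base) ∩ f.base ⁻¹' {t}))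
    d s ≤ d s' := by
  change topologicalKrullDim ↥(f ⁻¹' {s} ∩ closure ((⋃ i, Set.range (v i)) ∩ f ⁻¹' {s})) ≤
    topologicalKrullDim ↥(f ⁻¹' {s'} ∩ closure ((⋃ i, Set.range (v i)) ∩ f ⁻¹' {s'}))
  obtain ⟨C, i, hi, hir⟩ := exists_closedImmersion
    (closure ((⋃ i, Set.range (v i)) ∩ f ⁻¹' {s})) isClosed_closure
  obtain ⟨C', i', hi', hir'⟩ := exists_closedImmersion
    (closure ((⋃ i, Set.range (v i)) ∩ f ⁻¹' {s'})) isClosed_closure
  rw [← hir, ← hir', topologicalKrullDim_closed_fiber f i s,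
    topologicalKrullDim_closed_fiber f i' s']
  refine K125.ValDim.topologicalKrullDim_fiber_le (i ≫ f) s _ ?_
  intro c hc n hn
  rw [K125.LocalDims.rtd_preimmersion_comp] at hn
  obtain ⟨z', hz', hz's, hle⟩ := exists_rtd_le f Y g v hv s s' hs (i c) (hir ▸ ⟨c, rfl⟩) hc
  rw [← hir'] at hz'
  obtain ⟨c', rfl⟩ := hz'
  obtain ⟨m, hm, hm'⟩ := K125.ValDim.exists_rtd_le_topologicalKrullDim (i' ≫ f) c' s' hz's
  rw [K125.LocalDims.rtd_preimmersion_comp] at hm
  rw [hn, hm] at hle
  have hnm : n ≤ m := by exact_mod_cast hle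
  refine le_trans ?_ hm'
  exact_mod_cast hnm

end Groth.Agent.S4972
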