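import Groth.Statements.S4973
import Mathlib.AlgebraicGeometry.PullbackCarrier
import Mathlib.AlgebraicGeometry.Morphisms.ClosedImmersion

set_option autoImplicit false
open CategoryTheory AlgebraicGeometry
universe u v w
open EGA43

namespace Groth.Agent.S4973

open CategoryTheory.Limits in
theorem aux {Z X₀ Y₀ Y : Scheme.{u}} [IsIntegral Y₀] [IsIntegral Y]
    (g : Y ⟶ Y₀) [IsDominant g] (f₀ : X₀ ⟶ Y₀)
    (i : Z ⟶ X₀) [IsClosedImmersion i]
    (hC : Set.range i ∈ irreducibleComponents (X₀ : Type u))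
    (hCη : (Set.range i ∩ f₀.base ⁻¹' {genericPoint Y₀}).Nonempty) [IsIntegral (pullback f₀ g)]
    (e₁ : (i ≫ f₀) ≫ 𝟙 Y₀ = i ≫ f₀) (e₂ : g ≫ 𝟙 Y₀ = 𝟙 Y ≫ g) :
    IsIso (pullback.map (i ≫ f₀) g f₀ g i (𝟙 Y) (𝟙 Y₀) e₁ e₂) := by
  have hsnd : pullback.map (i ≫ f₀) g f₀ g i (𝟙 Y) (𝟙 Y₀) e₁ e₂ ≫ pullback.snd f₀ g =
      pullback.snd (i ≫ f₀) g := by
    rw [pullback.map, pullback.lift_snd, Category.comp_id]
  have sq : IsPullback (pullback.fst (i ≫ f₀) g) (pullback.map (i ≫ f₀) g f₀ g i (𝟙 Y) (𝟙 Y₀) e₁ e₂) i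
      (pullback.fst f₀ g) := by
    refine IsPullback.of_bot (v₂₁ := pullback.snd f₀ g) (v₂₂ := f₀) ?_ ?_
      (IsPullback.of_hasPullback f₀ g)
    · rw [hsnd]
      exact IsPullback.of_hasPullback (i ≫ f₀) g
    · rw [pullback.map, pullback.lift_fst]
  generalize pullback.map (i ≫ f₀) g f₀ g i (𝟙 Y) (𝟙 Y₀) e₁ e₂ = j at sq
  have hj : IsClosedImmersion j := MorphismProperty.of_isPullback sq inferInstance
  have hg : g (genericPoint Y) = genericPoint Y₀ := by
    have h1 := (genericPoint_spec Y).image g.continuous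
    rw [Set.image_univ, g.denseRange.closure_range] at h1
    exact h1.eq (genericPoint_spec Y₀)
  have hsurj : Surjective j := by
    obtain ⟨c, hc⟩ : ∃ c : X₀, IsGenericPoint c (Set.range i) :=
      QuasiSober.sober hC.1 (isClosed_of_mem_irreducibleComponents _ hC)
    obtain ⟨x, hx, hxη⟩ := hCη
    have hcx : c ⤳ x := hc.specializes hx
    have hfc : f₀ c = genericPoint Y₀ := by
      have h1 : f₀ c ⤳ genericPoint Y₀ := by
        have h2 := hcx.map f₀.continuous
        rwa [show f₀ x = genericPoint Y₀ from hxη] at h2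
      exact (h1.antisymm (genericPoint_specializes _)).eq
    obtain ⟨z, hz1, hz2⟩ := Scheme.Pullback.exists_preimage_pullback (f := f₀) (g := g) c (genericPoint Y)
      (hfc.trans hg.symm)
    have hξ : pullback.fst f₀ g (genericPoint (pullback f₀ g : Scheme.{u})) = c := by
      have h1 : pullback.fst f₀ g (genericPoint (pullback f₀ g : Scheme.{u})) ⤳ c := by
        rw [← hz1]
        exact (genericPoint_specializes z).map (pullback.fst f₀ g).continuous
      have h2 : closure {pullback.fst f₀ g (genericPoint (pullback f₀ g : Scheme.{u}))} ⊆ Set.range i := by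
        refine hC.2 isIrreducible_singleton.closure ?_
        rw [← hc.def]
        exact closure_minimal (Set.singleton_subset_iff.mpr (specializes_iff_mem_closure.mp h1))
          isClosed_closure
      exact (h1.antisymm (hc.specializes (h2 (subset_closure rfl)))).eq
    obtain ⟨z', hz'⟩ : c ∈ Set.range i := by
      rw [← hc.def]
      exact subset_closure rfl
    obtain ⟨w, -, hw⟩ := Scheme.exists_preimage_of_isPullback sq z'
      (genericPoint (pullback f₀ g : Scheme.{u})) (hz'.trans hξ.symm)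
    refine ⟨fun t => ?_⟩
    have h3 : t ∈ closure (Set.range j) := by
      have h4 : genericPoint (pullback f₀ g : Scheme.{u}) ∈ Set.range j := ⟨w, hw⟩
      have h5 := specializes_iff_mem_closure.mp (genericPoint_specializes t)
      exact closure_mono (Set.singleton_subset_iff.mpr h4) h5
    rwa [hj.base_closed.isClosed_range.closure_eq] at h3
  exact isIso_of_isClosedImmersion_of_surjective j

open CategoryTheory.Limits in
/-- Let Y₀ and Y be integral schemes, g : Y ⟶ Y₀ a dominant morphism, f₀ : X₀ ⟶ Y₀ a dominant morphism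
whose fibre over the generic point of Y₀ is irreducible, and X'₀ an irreducible component of X₀
meeting that generic fibre (it is unique), regarded as a reduced closed subscheme of X₀. If X = X₀
×_{Y₀} Y is an integral scheme, then the morphism X'₀ ×_{Y₀} Y ⟶ X induced by the inclusion of X'₀
is an isomorphism. -/
theorem result {X₀ Y₀ Y : Scheme.{u}} [IsIntegral Y₀] [IsIntegral Y]
    (g : Y ⟶ Y₀) [IsDominant g] (f₀ : X₀ ⟶ Y₀) [IsDominant f₀]
    (hirr : IsIrreducible (f₀.base ⁻¹' {genericPoint Y₀}))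
    (C : TopologicalSpace.Closeds X₀) (hC : (C : Set X₀) ∈ irreducibleComponents (X₀ : Type u))
    (hCη : ((C : Set X₀) ∩ f₀.base ⁻¹' {genericPoint Y₀}).Nonempty) [IsIntegral (pullback f₀ g)]
    (e₁ : ((Scheme.IdealSheafData.vanishingIdeal C).subschemeι ≫ f₀) ≫ 𝟙 Y₀ =
      (Scheme.IdealSheafData.vanishingIdeal C).subschemeι ≫ f₀) (e₂ : g ≫ 𝟙 Y₀ = 𝟙 Y ≫ g) :
    IsIso (pullback.map ((Scheme.IdealSheafData.vanishingIdeal C).subschemeι ≫ f₀) g f₀ g
      (Scheme.IdealSheafData.vanishingIdeal C).subschemeι (𝟙 Y) (𝟙 Y₀) e₁ e₂) := by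
  have hsupp : ((Scheme.IdealSheafData.vanishingIdeal C).support : Set X₀) = C := rfl
  have hrange : Set.range (Scheme.IdealSheafData.vanishingIdeal C).subschemeι = (C : Set X₀) := by
    rw [Scheme.IdealSheafData.range_subschemeι, hsupp]
  rw [← hrange] at hC hCη
  exact aux g f₀ _ hC hCη e₁ e₂

end Groth.Agent.S4973
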