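import Groth.Statements.S4974
import Groth.Agent.S4944
import Groth.Agent.Hensel.K146.FiniteOpen
import Groth.Agent.S0427
import Groth.Agent.Fga.HenselDVR

set_option autoImplicit false
open CategoryTheory AlgebraicGeometry
universe u v w
open EGA43

namespace Groth.Agent.S4974

/-- Consider a complete Noetherian local domain A and put Y = Spec A. Suppose f : X ⟶ Y is locally of
finite type, and take a point x ∈ X mapping to the closed point of Y, where f is equidimensional at
x and x is closed in the fibre containing it. Then one can find a local domain A' that contains A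
and is finite as an A-algebra, together with a Y-morphism h : Spec A' ⟶ X that is an immersion and
has x in its image. -/
theorem result {A : Type u} [CommRing A] [IsDomain A]
    [IsNoetherianRing A] [IsLocalRing A] [IsAdicComplete (IsLocalRing.maximalIdeal A) A] {X : Scheme.{u}}
    (f : X ⟶ Spec (CommRingCat.of A)) [LocallyOfFiniteType f] (x : X) (hx : f.base x = IsLocalRing.closedPoint A)
    (hf : EGA43.IsEquidimAt f x) (hcl : ∀ x' : X, f.base x' = f.base x → x ⤳ x' → x' = x) :
    ∃ (A' : Type u) (_ : CommRing A') (_ : IsDomain A') (_ : IsLocalRing A') (_ : Algebra A A') (_ : Module.Finite A A'),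
      Function.Injective (algebraMap A A') ∧
      ∃ h : Spec (CommRingCat.of A') ⟶ X, h ≫ f = Spec.map (CommRingCat.ofHom (algebraMap A A')) ∧
        IsImmersion h ∧ x ∈ Set.range h.base := by
  haveI : HenselianLocalRing A := Groth.Agent.Fga.HenselDVR.henselianLocalRing_of_henselianRing A
  haveI : IrreducibleSpace (Spec (CommRingCat.of A)) := by
    infer_instance
  obtain ⟨T, i, hi, hirr, hred, ⟨t, ht⟩, hlft, hlqf, hqc, hdom⟩ :=
    Groth.Agent.S4944.result f x hf hcl
  haveI := hi
  haveI := hlft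
  haveI := hlqf
  haveI := hqc
  haveI := hdom
  haveI := hirr
  haveI := hred
  obtain ⟨U, htU, hfin⟩ := K146.FiniteOpen.exists_open_isFinite (A := A) (i ≫ f) t (by
    rw [← hx, ← ht]
    rfl)
  haveI := hfin
  haveI : IsIntegral T := isIntegral_of_irreducibleSpace_of_isReduced T
  haveI : Nonempty U := ⟨⟨t, htU⟩⟩
  haveI : IsIntegral (U : Scheme.{u}) := inferInstance
  haveI : IsAffine (U : Scheme.{u}) := isAffine_of_isAffineHom (U.ι ≫ i ≫ f)
  haveI : IsDominant U.ι := AlgebraicGeometry.Opens.isDominant_ι (U.isOpen.dense ⟨t, htU⟩)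
  let V : Scheme.{u} := U
  let φ : CommRingCat.of A ⟶ Γ(V, ⊤) := Spec.preimage (V.isoSpec.inv ≫ U.ι ≫ i ≫ f)
  have hφ : Spec.map φ = V.isoSpec.inv ≫ U.ι ≫ i ≫ f := Spec.map_preimage _
  have hφfin : φ.hom.Finite := by
    rw [← IsFinite.SpecMap_iff, hφ]
    infer_instance
  have hφdom : IsDominant (Spec.map φ) := by
    rw [hφ]
    infer_instance
  have hφinj : Function.Injective φ.hom := by
    rw [RingHom.injective_iff_ker_eq_bot, eq_bot_iff]
    have h1 : DenseRange (PrimeSpectrum.comap φ.hom) := hφdom.denseRange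
    rw [PrimeSpectrum.denseRange_comap_iff_ker_le_nilRadical] at h1
    simpa [nilradical_eq_zero] using h1
  letI : Algebra A Γ(V, ⊤) := φ.hom.toAlgebra
  haveI : Module.Finite A Γ(V, ⊤) := hφfin
  haveI : IsDomain Γ(V, ⊤) := inferInstance
  haveI : IsLocalRing Γ(V, ⊤) := Groth.Agent.S0427.isLocalRing_of_finite A Γ(V, ⊤)
  refine ⟨Γ(V, ⊤), inferInstance, inferInstance, inferInstance, inferInstance, inferInstance,
    hφinj, V.isoSpec.inv ≫ U.ι ≫ i, ?_, ?_, ?_⟩
  · have h2 : (V.isoSpec.inv ≫ U.ι ≫ i) ≫ f = Spec.map φ := by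
      rw [hφ]
      simp only [Category.assoc]
    exact h2
  · infer_instance
  · refine ⟨V.isoSpec.hom ⟨t, htU⟩, ?_⟩
    rw [← ht]
    change (V.isoSpec.hom ≫ V.isoSpec.inv ≫ U.ι ≫ i) ⟨t, htU⟩ = _
    rw [Iso.hom_inv_id_assoc]
    rfl

end Groth.Agent.S4974
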