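import Groth.Statements.S4975
import Groth.Agent.S3458
import Groth.Agent.S3409
import Groth.Agent.S3420
import Groth.Agent.Ega4fib.H174.EquidimAff
import Groth.Agent.Ega4Fib.H176.SecDim
import Groth.Agent.Ega43.FibreDimFinite

set_option autoImplicit false
open CategoryTheory AlgebraicGeometry
universe u v w
open EGA43

namespace Groth.Agent.S4975

open Groth.Agent.Ega4Fib.H176.SecDvr Groth.Agent.Ega4Fib.H176.SecDim

theorem isIrreducible_of_image {α β : Type*} [TopologicalSpace α] [TopologicalSpace β] {f : α → β}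
    (hf : Topology.IsInducing f) {s : Set α} (hs : IsIrreducible (f '' s)) : IsIrreducible s := by
  refine ⟨Set.image_nonempty.mp hs.1, ?_⟩
  intro u v hu hv hsu hsv
  obtain ⟨u', hu', rfl⟩ := hf.isOpen_iff.mp hu
  obtain ⟨v', hv', rfl⟩ := hf.isOpen_iff.mp hv
  obtain ⟨x, hxs, hxu⟩ := hsu
  obtain ⟨z, hzs, hzv⟩ := hsv
  obtain ⟨_, ⟨w, hw, rfl⟩, hwu, hwv⟩ := hs.2 u' v' hu' hv' ⟨f x, ⟨x, hxs, rfl⟩, hxu⟩
    ⟨f z, ⟨z, hzs, rfl⟩, hzv⟩
  exact ⟨w, hw, hwu, hwv⟩

/-- Let f : X ⟶ Y be a morphism locally of finite type with Y locally Noetherian, g : Y ⟶ X a section of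
f, X_y^0 the connected component of f⁻¹(y) containing g y, and X^0 ⊆ X their union. Suppose every
X_y^0 is geometrically integral over κ(y) (its preimage in X_y ⊗ K is irreducible and has reduced
local rings, for every field extension K of κ(y)). Then y ↦ dim X_y^0 is locally constant on Y if
and only if f is universally open at every point of X^0; and when this holds, X^0 is open in X. (The
published statement also lists, as a further equivalent condition, flatness of the base change of f
to the reduced closed subscheme Y_red at the points of X^0; that condition is not stated here.) -/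
theorem result {X Y : Scheme.{u}}
    [IsLocallyNoetherian Y] (f : X ⟶ Y) [LocallyOfFiniteType f] (g : Y ⟶ X) (hg : g ≫ f = 𝟙 Y)
    (hint : ∀ y : Y, (∀ (K : Type u) [Field K] [Algebra (IsLocalRing.ResidueField (Y.presheaf.stalk y)) K],
        IsIrreducible ((FBase.bcπ (f.fiberToSpecResidueField y) K ≫ f.fiberι y).base ⁻¹' connectedComponentIn (f.base ⁻¹' {y}) (g.base y)) ∧
        ∀ x' : ↥(FBase.bc (f.fiberToSpecResidueField y) K),
          (FBase.bcπ (f.fiberToSpecResidueField y) K ≫ f.fiberι y).base x' ∈ connectedComponentIn (f.base ⁻¹' {y}) (g.base y) →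
          _root_.IsReduced ((FBase.bc (f.fiberToSpecResidueField y) K).presheaf.stalk x'))) :
    (IsLocallyConstant (fun y : Y => topologicalKrullDim ↥(connectedComponentIn (f.base ⁻¹' {y}) (g.base y))) ↔ ∀ x ∈ MoreMor.sectionComponents f g, EGA43.IsUnivOpenAt f x) ∧
      (IsLocallyConstant (fun y : Y => topologicalKrullDim ↥(connectedComponentIn (f.base ⁻¹' {y}) (g.base y))) → IsOpen (MoreMor.sectionComponents f g)) := by
  have hfg : ∀ z, f (g z) = z := fun z => by
    rw [← Scheme.Hom.comp_apply, hg]; rfl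
  have hself : ∀ z, g z ∈ connectedComponentIn (f ⁻¹' {z}) (g z) := fun z =>
    mem_connectedComponentIn (hfg z)
  have hmemX : ∀ (y : Y) (x : X), f x = y →
      (x ∈ MoreMor.sectionComponents f g ↔ x ∈ connectedComponentIn (f ⁻¹' {y}) (g y)) := by
    rintro y x rfl; rfl
  have hirr : ∀ y, IsIrreducible (connectedComponentIn (f ⁻¹' {y}) (g y)) := by
    intro y
    have h0 : IsPullback (𝟙 X) f f (𝟙 Y) := IsPullback.of_horiz_isIso ⟨by simp⟩
    have h1 := isIrreducible_ov h0 y (connectedComponentIn (f ⁻¹' {y}) (g y))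
      (fun K _ inst => (@hint y K _ inst).1)
    have h2 : ov (𝟙 X) f (connectedComponentIn (f ⁻¹' {y}) (g y)) y =
        connectedComponentIn (f ⁻¹' {y}) (g y) := by
      ext x
      constructor
      · rintro ⟨_, hx⟩
        exact hx
      · intro hx
        exact ⟨connectedComponentIn_subset (f ⁻¹' {y}) (g y) hx, hx⟩
    rwa [h2] at h1
  have hdim : ∀ z, topologicalKrullDim ↥(connectedComponentIn (f ⁻¹' {z}) (g z)) =
      FlatMor.fibreDimAt f (g z) := by
    intro z
    obtain ⟨⟨O, hO, hCO⟩, -⟩ := exists_open_closed f z (g z) (hfg z)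
    exact dim_eq_fibreDimAt f hO hCO (hirr z) (hself z)
  have hred : ∀ x ∈ MoreMor.sectionComponents f g,
      FBase.IsGeomReducedAt (f.fiberToSpecResidueField (f.base x)) (f.asFiber x) := by
    intro x hx K _ _ x' hx'
    refine (hint (f x) K).2 x' ?_
    change (FBase.bcπ (f.fiberToSpecResidueField (f x)) K ≫ f.fiberι (f x)) x' ∈ _
    rw [Scheme.Hom.comp_apply]
    have h1 : (FBase.bcπ (f.fiberToSpecResidueField (f x)) K) x' = f.asFiber x := hx'
    rw [h1, f.fiberι_asFiber]
    exact hx
  have h1 : IsLocallyConstant (fun y : Y => topologicalKrullDim ↥(connectedComponentIn (f.base ⁻¹' {y}) (g.base y))) →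
      ∀ x ∈ MoreMor.sectionComponents f g, EGA43.IsUnivOpenAt f x := by
    intro hc x hx
    refine S3458.result f g hg (fun y K _ _ => (hint y K).1) (f x) ?_ x hx
    have := (IsLocallyConstant.iff_eventually_eq _).mp hc (f x)
    exact ⟨_, this, fun z hz => hz⟩
  have h2 : (∀ x ∈ MoreMor.sectionComponents f g, EGA43.IsUnivOpenAt f x) →
      IsOpen (MoreMor.sectionComponents f g) := by
    intro hU
    have h3 := (S3420.result f g hg).1
    rw [← subset_interior_iff_isOpen]
    intro x hx
    refine h3 (f x) ?_ hx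
    intro z hz
    have hfz : f z = f x := connectedComponentIn_subset (f ⁻¹' {f x}) _ hz
    have hz' : z ∈ MoreMor.sectionComponents f g := (hmemX _ _ hfz).mpr hz
    exact ⟨hU z hz', hred z hz'⟩
  refine ⟨⟨h1, fun hU => ?_⟩, fun h => h2 (h1 h)⟩
  rw [IsLocallyConstant.iff_eventually_eq]
  intro y
  -- equidimensionality at `g y`
  have hkey : EGA43.IsEquidimAt f (g y) := by
    have hin : ∀ S : Set ↥(f.fiber (f (g y))), _root_.IsPreconnected S → f.asFiber (g y) ∈ S →
        ∀ z ∈ S, f.fiberι (f (g y)) z ∈ MoreMor.sectionComponents f g := by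
      intro S hS hgS z hz
      have hfz : f (f.fiberι (f (g y)) z) = f (g y) := by
        have : f.fiberι (f (g y)) z ∈ f ⁻¹' {f (g y)} := by rw [← f.range_fiberι]; exact ⟨z, rfl⟩
        exact this
      rw [hmemX _ _ hfz]
      have hp : _root_.IsPreconnected ((f.fiberι (f (g y))) '' S) :=
        hS.image _ (f.fiberι (f (g y))).continuous.continuousOn
      refine hp.subset_connectedComponentIn (x := g (f (g y))) ?_ ?_ ⟨z, hz, rfl⟩
      · refine ⟨f.asFiber (g y), hgS, ?_⟩
        rw [f.fiberι_asFiber, hfg]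
      · rintro _ ⟨w, _, rfl⟩
        rw [← f.range_fiberι]; exact ⟨w, rfl⟩
    refine S3409.result f (g y) ?_ (hred (g y) ((hmemX y _ (hfg y)).mpr (hself y))) ?_
    · intro z hz _
      exact hU _ (hin _ isPreirreducible_singleton.isPreconnected.closure hz z (subset_closure rfl))
    · obtain ⟨d, hd⟩ := Ega43.FibreDimFinite.exists_fibreDimAt_eq f (g (f (g y)))
      refine ⟨d, fun Z hZ hgZ => ?_⟩
      have hCr : connectedComponentIn (f ⁻¹' {f (g y)}) (g (f (g y))) ⊆ Set.range (f.fiberι (f (g y))) := by
        rw [f.range_fiberι]; exact connectedComponentIn_subset _ _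
      set C' : Set ↥(f.fiber (f (g y))) := (f.fiberι (f (g y))) ⁻¹' connectedComponentIn (f ⁻¹' {f (g y)}) (g (f (g y))) with hC'
      have himg : (f.fiberι (f (g y))) '' C' = connectedComponentIn (f ⁻¹' {f (g y)}) (g (f (g y))) := by
        rw [hC', Set.image_preimage_eq_inter_range, Set.inter_eq_left]
        exact hCr
      have hC'irr : IsIrreducible C' := by
        refine isIrreducible_of_image (f.fiberι (f (g y))).isEmbedding.isInducing ?_
        rw [himg]
        exact hirr _
      have hsub : Z ⊆ C' := by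
        intro z hz
        have := hin Z hZ.1.2.isPreconnected hgZ z hz
        have hfz : f (f.fiberι (f (g y)) z) = f (g y) := by
          have : f.fiberι (f (g y)) z ∈ f ⁻¹' {f (g y)} := by rw [← f.range_fiberι]; exact ⟨z, rfl⟩
          exact this
        exact (hmemX _ _ hfz).mp this
      have hZC : Z = C' := hsub.antisymm (hZ.2 hC'irr hsub)
      rw [← hd, ← hdim, hZC, ← himg]
      exact (((f.fiberι (f (g y))).isEmbedding.homeomorphImage C').isHomeomorph.topologicalKrullDim_eq)
  obtain ⟨e', U, hxU, -, hU2⟩ := (Groth.Agent.Ega4fib.H174.Equidim.isEquidimAt_iff_points f (g y)).mp hkey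
  have hval : ∀ z, g z ∈ U → topologicalKrullDim ↥(connectedComponentIn (f ⁻¹' {z}) (g z)) = e' := fun z hz => by
    rw [hdim z]; exact Groth.Agent.Ega4fib.H174.EquidimAff.fibreDimAt_eq f (g z) e' U hz hU2
  filter_upwards [(U.isOpen.preimage g.continuous).mem_nhds hxU] with z hz
  exact (hval z hz).trans (hval y hxU).symm

end Groth.Agent.S4975
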