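import Groth.Statements.S4980
import Groth.Agent.EGA43.K891.LenIneq
import Groth.Agent.FormalB.PullCoh
import Groth.Agent.S1576

set_option autoImplicit false
open CategoryTheory AlgebraicGeometry
universe u v w
open EGA43

namespace Groth.Agent.S4980

theorem main {A : Type u} [CommRing A] [IsDomain A]
    [IsDiscreteValuationRing A] {X : Scheme.{u}} (f : X ⟶ Spec (CommRingCat.of A)) [IsProper f] (F : X.Modules)
    (hF : Coh.IsCoh F) (hflat : FlatMod.IsFlatOver f F) (y y' : ↥(Spec (CommRingCat.of A)))
    (hy : y = IsLocalRing.closedPoint A) (hy' : y' = genericPoint (Spec (CommRingCat.of A)))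
    (hemb : AssSch.NoEmbedded ((Scheme.Modules.pullback (f.fiberι y)).obj F)) :
    ∑ᶠ z' : {v : ↥(f.fiber y') // Nontrivial (((Scheme.Modules.pullback (f.fiberι y')).obj F).presheaf.stalk v) ∧
        ∀ w : ↥(f.fiber y'), Nontrivial (((Scheme.Modules.pullback (f.fiberι y')).obj F).presheaf.stalk w) → v ∈ closure {w} → w = v},
        Module.length ((f.fiber y').presheaf.stalk z'.1) (((Scheme.Modules.pullback (f.fiberι y')).obj F).presheaf.stalk z'.1) ≤
      ∑ᶠ z : {v : ↥(f.fiber y) // Nontrivial (((Scheme.Modules.pullback (f.fiberι y)).obj F).presheaf.stalk v) ∧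
        ∀ w : ↥(f.fiber y), Nontrivial (((Scheme.Modules.pullback (f.fiberι y)).obj F).presheaf.stalk w) → v ∈ closure {w} → w = v},
        Module.length ((f.fiber y).presheaf.stalk z.1) (((Scheme.Modules.pullback (f.fiberι y)).obj F).presheaf.stalk z.1) := by
  have hX : IsLocallyNoetherian X := by
    have : IsNoetherianRing (CommRingCat.of A) := inferInstanceAs (IsNoetherianRing A)
    exact LocallyOfFiniteType.isLocallyNoetherian f
  have hn : ∀ s : ↥(Spec (CommRingCat.of A)), IsLocallyNoetherian (f.fiber s) := fun s => by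
    have : LocallyOfFiniteType (f.fiberToSpecResidueField s) :=
      inferInstanceAs (LocallyOfFiniteType (Limits.pullback.snd f ((Spec (CommRingCat.of A)).fromSpecResidueField s)))
    exact LocallyOfFiniteType.isLocallyNoetherian (f.fiberToSpecResidueField s)
  have hc : ∀ s : ↥(Spec (CommRingCat.of A)), Coh.IsCoh ((Scheme.Modules.pullback (f.fiberι s)).obj F) :=
    fun s => Groth.Agent.FormalB.PullCoh.isCoh_pullback _ hF
  have hcs : ∀ s : ↥(Spec (CommRingCat.of A)), CompactSpace ↥(f.fiber s) := fun s =>
    inferInstance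
  have hfin : ∀ s : ↥(Spec (CommRingCat.of A)), Finite {v : ↥(f.fiber s) //
      Nontrivial (((Scheme.Modules.pullback (f.fiberι s)).obj F).presheaf.stalk v) ∧
        ∀ w : ↥(f.fiber s), Nontrivial (((Scheme.Modules.pullback (f.fiberι s)).obj F).presheaf.stalk w) →
          v ∈ closure {w} → w = v} := by
    intro s
    have h1 := Groth.Agent.S1576.result (f.fiber s) _ (hc s) ⊤ isCompact_univ
    refine (h1.subset ?_).to_subtype
    intro v hv
    refine ⟨trivial, Groth.Agent.S1577.result _ _ (hc s).1 v (not_subsingleton_iff_nontrivial.2 hv.1) ?_⟩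
    intro w hw hwv
    exact hv.2 w (not_subsingleton_iff_nontrivial.1 hw) (specializes_iff_mem_closure.1 hwv)
  have hmax : ∀ (s : ↥(Spec (CommRingCat.of A))) (v : ↥(f.fiber s)),
      (Nontrivial (((Scheme.Modules.pullback (f.fiberι s)).obj F).presheaf.stalk v) ∧
        ∀ w : ↥(f.fiber s), Nontrivial (((Scheme.Modules.pullback (f.fiberι s)).obj F).presheaf.stalk w) →
          v ∈ closure {w} → w = v) ↔
      K891.LenIneq.IsMaxPt ((Scheme.Modules.pullback (f.fiberι s)).obj F) v := by
    intro s v
    unfold K891.LenIneq.IsMaxPt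
    simp only [specializes_iff_mem_closure]
  classical
  have := hfin y
  have := hfin y'
  have := Fintype.ofFinite {v : ↥(f.fiber y') //
      Nontrivial (((Scheme.Modules.pullback (f.fiberι y')).obj F).presheaf.stalk v) ∧
        ∀ w : ↥(f.fiber y'), Nontrivial (((Scheme.Modules.pullback (f.fiberι y')).obj F).presheaf.stalk w) →
          v ∈ closure {w} → w = v}
  have := Fintype.ofFinite {v : ↥(f.fiber y) //
      Nontrivial (((Scheme.Modules.pullback (f.fiberι y)).obj F).presheaf.stalk v) ∧
        ∀ w : ↥(f.fiber y), Nontrivial (((Scheme.Modules.pullback (f.fiberι y)).obj F).presheaf.stalk w) →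
          v ∈ closure {w} → w = v}
  rw [finsum_eq_sum_of_fintype, finsum_eq_sum_of_fintype]
  have hex : ∀ v : {v : ↥(f.fiber y') //
      Nontrivial (((Scheme.Modules.pullback (f.fiberι y')).obj F).presheaf.stalk v) ∧
        ∀ w : ↥(f.fiber y'), Nontrivial (((Scheme.Modules.pullback (f.fiberι y')).obj F).presheaf.stalk w) →
          v ∈ closure {w} → w = v}, ∃ z : {v : ↥(f.fiber y) //
      Nontrivial (((Scheme.Modules.pullback (f.fiberι y)).obj F).presheaf.stalk v) ∧
        ∀ w : ↥(f.fiber y), Nontrivial (((Scheme.Modules.pullback (f.fiberι y)).obj F).presheaf.stalk w) →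
          v ∈ closure {w} → w = v}, f.fiberι y' v.1 ⤳ f.fiberι y z.1 := by
    intro v
    obtain ⟨z, hz, hvz⟩ := K891.LenIneq.exists_specialization f f.isClosedMap hF (hc y) hflat
      (y := y) (y' := y') hy hy' hemb v.1 ((hmax y' v.1).1 v.2)
    exact ⟨⟨z, (hmax y z).2 hz⟩, hvz⟩
  choose σ hσ using hex
  rw [← Finset.sum_fiberwise_of_maps_to (s := Finset.univ) (t := Finset.univ) (g := σ)
    (fun _ _ => Finset.mem_univ _)]
  refine Finset.sum_le_sum fun z _ => ?_
  have key := K891.LenIneq.sum_length_le f hF hflat (y := y) (y' := y') hy hy' z.1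
    ((hmax y z.1).1 z.2) ((Finset.univ.filter (fun v => σ v = z)).image Subtype.val) (by
      intro v hv
      obtain ⟨v', hv', rfl⟩ := Finset.mem_image.1 hv
      rw [Finset.mem_filter] at hv'
      rw [← hv'.2]
      exact hσ v')
  rw [Finset.sum_image (fun a _ b _ hab => Subtype.ext hab)] at key
  exact key

/-- Let A be a discrete valuation ring, Y = Spec A with closed point y and generic point y', f : X ⟶ Y a
proper morphism and F a coherent O_X-module which is f-flat; write F_y, F_{y'} for the restrictions
of F to the two fibres and suppose F_y has no embedded associated point. Then the sum, over the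
maximal points z' of Supp(F_{y'}), of the lengths of the stalks (F_{y'})_{z'} is at most the sum,
over the maximal points z of Supp(F_y), of the lengths of the stalks (F_y)_z (lengths over the local
rings of the fibres). -/
theorem result {A : Type u} [CommRing A] [IsDomain A]
    [IsDiscreteValuationRing A] {X : Scheme.{u}} (f : X ⟶ Spec (CommRingCat.of A)) [IsProper f] (F : X.Modules)
    (hF : Coh.IsCoh F) (hflat : FlatMod.IsFlatOver f F)
    (hemb : AssSch.NoEmbedded ((Scheme.Modules.pullback (f.fiberι (IsLocalRing.closedPoint A))).obj F)) :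
    letI y : ↥(Spec (CommRingCat.of A)) := IsLocalRing.closedPoint A
    letI y' : ↥(Spec (CommRingCat.of A)) := genericPoint (Spec (CommRingCat.of A))
    ∑ᶠ z' : {v : ↥(f.fiber y') // Nontrivial (((Scheme.Modules.pullback (f.fiberι y')).obj F).presheaf.stalk v) ∧
        ∀ w : ↥(f.fiber y'), Nontrivial (((Scheme.Modules.pullback (f.fiberι y')).obj F).presheaf.stalk w) → v ∈ closure {w} → w = v},
        Module.length ((f.fiber y').presheaf.stalk z'.1) (((Scheme.Modules.pullback (f.fiberι y')).obj F).presheaf.stalk z'.1) ≤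
      ∑ᶠ z : {v : ↥(f.fiber y) // Nontrivial (((Scheme.Modules.pullback (f.fiberι y)).obj F).presheaf.stalk v) ∧
        ∀ w : ↥(f.fiber y), Nontrivial (((Scheme.Modules.pullback (f.fiberι y)).obj F).presheaf.stalk w) → v ∈ closure {w} → w = v},
        Module.length ((f.fiber y).presheaf.stalk z.1) (((Scheme.Modules.pullback (f.fiberι y)).obj F).presheaf.stalk z.1) :=
  main f F hF hflat _ _ rfl rfl hemb

end Groth.Agent.S4980
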