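import Groth.Statements.S4982
import Groth.Agent.EGA43.K128.FibDim

set_option autoImplicit false
open CategoryTheory AlgebraicGeometry
universe u v w
open EGA43

namespace Groth.Agent.S4982

/-- Let f : X ⟶ Y be a morphism locally of finite presentation and F a finitely presented O_X-module
which is f-flat; for x in X write F_{f x} for the restriction of F to the fibre of f through x. Let
Φ be a finite set of natural numbers. Then the set of points x such that every associated point of
F_{f x} specializing to x has closure (in the fibre) of dimension belonging to Φ is open in X. In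
particular (Φ = {k}), the set of x such that every associated point of F_{f x} specializing to x has
closure of dimension k is open. -/
theorem result {X Y : Scheme.{u}} (f : X ⟶ Y) [LocallyOfFinitePresentation f]
    (F : X.Modules) (hF : CohB1.IsFP F) (hflat : FlatMod.IsFlatOver f F) (Φ : Finset ℕ) :
    IsOpen {x : X | ∀ z ∈ AssSch.Ass ((Scheme.Modules.pullback (f.fiberι (f.base x))).obj F), f.asFiber x ∈ closure {z} →
      ∃ n ∈ Φ, topologicalKrullDim ↥(closure ({z} : Set ↥(f.fiber (f.base x)))) = (n : WithBot ℕ∞)} := by
  have h := K128.FibAssSch.isOpen_forall_mem f F hF hflat (Φ : Set ℕ)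
  convert h using 1
  ext x
  constructor
  · intro H z hzx hfz hz
    obtain ⟨z, rfl⟩ := K128.FibDim.exists_fiberι_eq f (f x) z hfz
    obtain ⟨n, hn, hn'⟩ := H z ((K128.FibAssSch.mem_ass_fiber_iff f F (f x) z).mpr hz)
      ((K128.FibDim.asFiber_mem_closure_iff f x z).mpr hzx)
    exact ⟨n, hn, (K128.FibDim.dim_closure_eq_iff f (f x) z n).mp hn'⟩
  · intro H z hz hzx
    obtain ⟨n, hn, hn'⟩ := H (f.fiberι (f x) z) ((K128.FibDim.asFiber_mem_closure_iff f x z).mp hzx)
      (K128.FibDim.fiberι_base f (f x) z) ((K128.FibAssSch.mem_ass_fiber_iff f F (f x) z).mp hz)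
    exact ⟨n, hn, (K128.FibDim.dim_closure_eq_iff f (f x) z n).mpr hn'⟩

end Groth.Agent.S4982
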