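import Groth.Statements.S4986
import Groth.Agent.EGA43.K130.SubDim

set_option autoImplicit false
open CategoryTheory AlgebraicGeometry
universe u v w
open EGA43

namespace Groth.Agent.S4986

/-- Let Y be locally Noetherian, f : X ⟶ Y of finite type, x ∈ X, y = f x, X' an irreducible closed
subset containing x with its reduced structure, Y' the closure of f(X') with its reduced structure
and generic point η', and A, B, A', B' the local rings of Y at y, of X at x, of Y' at y and of X' at
x. Suppose dim B = dim A + dim(B ⊗ κ(y)). Then X' satisfies the four conditions (i) dim A' = dim A,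
(ii) dim_x(X' ∩ X_y) = dim_x(X_y), (iii) X' equidimensional over Y' at x, (iv) dim B' = dim A' +
dim(B' ⊗ κ(y)), if and only if dim B' = dim B. -/
theorem result {X Y : Scheme.{u}} [IsLocallyNoetherian Y] (f : X ⟶ Y)
    [LocallyOfFiniteType f] [QuasiCompact f] (x : X) (X' : TopologicalSpace.Closeds X) (hirr : IsIrreducible (X' : Set X))
    (hx : x ∈ X') (w : ↥(Scheme.IdealSheafData.vanishingIdeal X').subscheme)
    (hw : (Scheme.IdealSheafData.vanishingIdeal X').subschemeι.base w = x)
    (v : ↥(Scheme.IdealSheafData.vanishingIdeal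
      (⟨closure (f.base '' (X' : Set X)), isClosed_closure⟩ : TopologicalSpace.Closeds Y)).subscheme)
    (hv : (Scheme.IdealSheafData.vanishingIdeal
      (⟨closure (f.base '' (X' : Set X)), isClosed_closure⟩ : TopologicalSpace.Closeds Y)).subschemeι.base v = f.base x)
    (η' : Y) (hη' : closure ({η'} : Set Y) = closure (f.base '' (X' : Set X))) :
    letI ιX := (Scheme.IdealSheafData.vanishingIdeal X').subschemeι
    letI dA := ringKrullDim (Y.presheaf.stalk (f.base x))
    letI dB := ringKrullDim (X.presheaf.stalk x)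
    letI dA' := ringKrullDim ((Scheme.IdealSheafData.vanishingIdeal
      (⟨closure (f.base '' (X' : Set X)), isClosed_closure⟩ : TopologicalSpace.Closeds Y)).subscheme.presheaf.stalk v)
    letI dB' := ringKrullDim ((Scheme.IdealSheafData.vanishingIdeal X').subscheme.presheaf.stalk w)
    letI dBk := ringKrullDim ((f.fiber (f.base x)).presheaf.stalk (f.asFiber x))
    letI dB'k := ringKrullDim (((ιX ≫ f).fiber ((ιX ≫ f).base w)).presheaf.stalk ((ιX ≫ f).asFiber w))
    letI e' := topologicalKrullDim ↥((X' : Set X) ∩ f.base ⁻¹' {η'})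
    dB = dA + dBk →
      ((dA' = dA ∧ FlatMor.localDim ↥((X' : Set X) ∩ f.base ⁻¹' {f.base x}) ⟨x, ⟨hx, rfl⟩⟩ = FlatMor.fibreDimAt f x ∧
        FlatMor.fibreDimAt (ιX ≫ f) w = e' ∧ dB' = dA' + dB'k) ↔ dB' = dB) := by
  obtain ⟨h1, h2, h3, h4⟩ := K130.SubDim.main f x X' hirr w hw v hv η' hη'
  have i1 : LocallyOfFiniteType (f.fiberToSpecResidueField (f x)) :=
    MorphismProperty.pullback_snd _ _ inferInstance
  have i2 : IsLocallyNoetherian (f.fiber (f x)) :=
    LocallyOfFiniteType.isLocallyNoetherian (f.fiberToSpecResidueField (f x))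
  have e1 := ringKrullDim_stalk_eq_coheight (f x)
  have e2 := ringKrullDim_stalk_eq_coheight v
  have e3 := ringKrullDim_stalk_eq_coheight w
  have e4 := ringKrullDim_stalk_eq_coheight (f.asFiber x)
  have e5 := ringKrullDim_stalk_eq_coheight
    (((Scheme.IdealSheafData.vanishingIdeal X').subschemeι ≫ f).asFiber w)
  have e6 := ringKrullDim_stalk_eq_coheight x
  have f1 := Groth.Agent.Ega4fib.H113.DimFibre.coheight_ne_top (f x)
  have f2 := Groth.Agent.Ega4fib.H113.DimFibre.coheight_ne_top (f.asFiber x)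
  have g1 := Groth.Agent.Ega4fib.H112.FibreFormula.fibreDimAt_eq_add_toNat f x
  have g2 := Groth.Agent.Ega4fib.H112.FibreFormula.fibreDimAt_eq_add_toNat
    ((Scheme.IdealSheafData.vanishingIdeal X').subschemeι ≫ f) w
  have g3 : Groth.Agent.CycB.RelDim.rtd ((Scheme.IdealSheafData.vanishingIdeal X').subschemeι ≫ f) w =
      Groth.Agent.CycB.RelDim.rtd f x := by
    rw [Groth.Agent.CycB.RelDim.rtd_comp, Groth.Agent.CycB.RelDim.rtd_eq_zero_of_isPreimmersion (Scheme.IdealSheafData.vanishingIdeal X').subschemeι, add_zero, hw]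
  have g4 : FlatMor.localDim ↥((X' : Set X) ∩ f ⁻¹' {f x}) ⟨x, ⟨hx, rfl⟩⟩ =
      FlatMor.fibreDimAt ((Scheme.IdealSheafData.vanishingIdeal X').subschemeι ≫ f) w := by
    obtain ⟨ξ, hξ⟩ := QuasiSober.sober hirr X'.isClosed
    have hj : Set.range (Scheme.IdealSheafData.vanishingIdeal X').subschemeι = (X' : Set X) := by
      rw [Scheme.IdealSheafData.range_subschemeι]
      exact Scheme.IdealSheafData.coe_support_vanishingIdeal _
    generalize (Scheme.IdealSheafData.vanishingIdeal X') = I at w hw hj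
    subst hw
    have h5 := Groth.Agent.Flat2D.RelDimClosure.fibreDimAt_comp_eq_localDim I.subschemeι f ξ (hj.trans hξ.def.symm) w
      ⟨I.subschemeι w, by
        change I.subschemeι w ∈ closure {ξ}
        rw [hξ.def, ← hj]
        exact ⟨w, rfl⟩, rfl⟩ rfl
    rw [h5]
    refine Groth.Agent.Ega4fib.H177.Dim.localDim_congr ?_ _ _ _
    rw [Groth.Agent.Flat2D.RelDimClosure.Fib, hξ.def]
  rw [e5, g3] at g2
  rw [e4] at g1
  change ringKrullDim _ = ringKrullDim _ + ringKrullDim _ →
    ((ringKrullDim _ = ringKrullDim _ ∧ FlatMor.localDim ↥((X' : Set X) ∩ f ⁻¹' {f x}) ⟨x, ⟨hx, rfl⟩⟩ = FlatMor.fibreDimAt f x ∧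
      _ ∧ ringKrullDim _ = ringKrullDim _ + ringKrullDim _) ↔ ringKrullDim _ = ringKrullDim _)
  erw [e1, e2, e3, e4, e5, e6]
  intro hB
  rw [hB, K130.SubDim.arith f1 f2 h1 h2 h3 h4]
  have g5 : (FlatMor.localDim ↥((X' : Set X) ∩ f ⁻¹' {f x}) ⟨x, ⟨hx, rfl⟩⟩ = FlatMor.fibreDimAt f x) ↔
      ((Order.coheight (((Scheme.IdealSheafData.vanishingIdeal X').subschemeι ≫ f).asFiber w) : WithBot ℕ∞) =
        (Order.coheight (f.asFiber x) : WithBot ℕ∞)) := by
    rw [g4, g1, g2]
    constructor
    · intro h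
      exact ENat.WithBot.add_natCast_cancel.1 h
    · intro h
      rw [h]
  rw [g5]

end Groth.Agent.S4986
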