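import Groth.Statements.S4993
import Groth.Agent.S9354
import Groth.Agent.S2768
import Groth.Agent.S2767
import Groth.Agent.S9829
import Groth.Agent.VarietyA.RegSmoothSch
import Mathlib.AlgebraicGeometry.Morphisms.FlatMono

set_option autoImplicit false
universe u
open CategoryTheory CategoryTheory.Limits AlgebraicGeometry TopologicalSpace
open Unram17

namespace Groth.Agent.S4993

/-- Let f : Y ⟶ S and h : X ⟶ S be smooth and let g : X ⟶ Y satisfy g ≫ f = h. Then g is an open
immersion if and only if g is a monomorphism and, for every point x of X, the local dimension at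
g(x) of the fibre of f through g(x) equals the local dimension at x of the fibre of h through x. -/
theorem result {X Y S : Scheme.{u}} (f : Y ⟶ S) (h : X ⟶ S)
    [Smooth f] [Smooth h] (g : X ⟶ Y) (w : g ≫ f = h) :
    IsOpenImmersion g ↔ Mono g ∧ ∀ x : ↥X, FlatMor.fibreDimAt f (g.base x) = FlatMor.fibreDimAt h x := by
  subst w
  constructor
  · intro hg
    refine ⟨inferInstance, fun x => ?_⟩
    have h1 := (Groth.Agent.S9354.result g f x).2 (Flat.stalkMap g x)
    have h2 : FlatMor.fibreDimAt g x = ((0 : ℕ) : WithBot ℕ∞) := by
      have : SmoothOfRelativeDimension 0 g := inferInstance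
      exact Groth.Agent.S2768.result 0 g x
    rw [h1, h2]
    simp
  · rintro ⟨hmono, hdim⟩
    have hlfp : LocallyOfFinitePresentation g :=
      Groth.Agent.UnramA.LfpOfComp.lfp_of_comp g f inferInstance inferInstance
    have hunr : FormallyUnramified g := inferInstance
    have h1 : ∀ x : X, ∃ U : X.Opens, x ∈ U ∧ Etale (U.ι ≫ g) := fun x => by
      have hsm : Smooth (f.fiberToSpecResidueField (f (g x))) :=
        MorphismProperty.pullback_snd (P := @Smooth) _ _ inferInstance
      have hlfp' : LocallyOfFinitePresentation (f.fiberToSpecResidueField (f (g x))) := inferInstance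
      have hreg := Groth.Agent.VarietyA.RegSmoothSch.isRegularLocalRing_stalk_of_mem_smoothLocus
        (k := S.residueField (f (g x)))
        (f.fiberToSpecResidueField (f (g x))) (f.asFiber (g x)) (by
          rw [Scheme.Hom.smoothLocus_eq_top]; trivial)
      refine (Groth.Agent.S2767.result f (g ≫ f) g rfl x (Flat.stalkMap _ x)
        ⟨(Groth.Agent.S2821.result _).1, Groth.Agent.S9829.result _⟩).2 ⟨⟨⊤, trivial, inferInstance⟩, (hdim x).symm⟩
    choose U hU hE using h1
    have h2 : Etale g := by
      rw [IsZariskiLocalAtSource.iff_of_iSup_eq_top (P := @Etale) U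
        (TopologicalSpace.Opens.ext (Set.eq_univ_of_forall fun x => by
          simp only [TopologicalSpace.Opens.coe_iSup, Set.mem_iUnion]
          exact ⟨x, hU x⟩))]
      exact hE
    exact IsOpenImmersion.of_flat_of_mono g

end Groth.Agent.S4993
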