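import Groth.Statements.S4996
import Groth.Agent.Unram17.K134.GeomRegSmooth
import Groth.Agent.Ega4A.RegEtale
import Mathlib.RingTheory.Smooth.Fiber

set_option autoImplicit false
universe u
open Unram17

namespace Groth.Agent.S4996

open TensorProduct in
/-- Let B be a finitely presented algebra over a commutative ring A. Then B is smooth over A if and only
if B is flat over A and every fibre ring κ(p) ⊗_A B, p a prime of A, is geometrically regular over
the residue field κ(p), i.e. stays a regular ring after base change to any finite extension of κ(p). -/
theorem result (A B : Type u) [CommRing A] [CommRing B]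
    [Algebra A B] [Algebra.FinitePresentation A B] :
    Algebra.Smooth A B ↔
      Module.Flat A B ∧ ∀ (p : Ideal A) [p.IsPrime], CAlg.IsGeometricallyRegular p.ResidueField (p.Fiber B) := by
  constructor
  · intro h
    refine ⟨inferInstance, fun p _ k' _ _ _ => ?_⟩
    exact Groth.Agent.Ega4A.RegEtale.isRegularRing_of_smooth k' _
  · rintro ⟨h1, h2⟩
    refine Algebra.Smooth.of_formallySmooth_fiber fun p _ => ?_
    refine Algebra.smoothLocus_eq_univ_iff.1 (Set.eq_univ_iff_forall.2 fun q => ?_)
    refine K134.GeomRegSmooth.isSmoothAt_of_isGeometricallyRegular q.asIdeal fun k' _ _ hk' => ?_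
    have := h2 p k' hk'
    exact Groth.Agent.CalgB.RegHom2.isRegularRing_tensor_localization_right (R := p.ResidueField) k'
      (A := p.Fiber B) _ q.asIdeal.primeCompl

end Groth.Agent.S4996
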