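import Groth.Statements.S4998
import Mathlib.RingTheory.Etale.Field
import Mathlib.RingTheory.Unramified.Field
import Mathlib.RingTheory.Etale.Pi

set_option autoImplicit false
universe u
open Unram17

namespace Groth.Agent.S4998

theorem isSeparable_of_algEquiv_pi {k A I : Type*} [Field k] [CommRing A] [Algebra k A] [Finite I]
    {Ai : I → Type*} [∀ i, Field (Ai i)] [∀ i, Algebra k (Ai i)] (e : A ≃ₐ[k] Π i, Ai i)
    (hsep : ∀ i, Algebra.IsSeparable k (Ai i)) (x : A) : IsSeparable k x := by
  classical
  have := Fintype.ofFinite I
  let s : Finset (Polynomial k) := Finset.univ.image (fun i => minpoly k (e x i))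
  have hs : ∀ p ∈ s, ∃ i, minpoly k (e x i) = p := by
    intro p hp
    simpa [s] using hp
  have h1 : (∏ p ∈ s, p).Separable := by
    refine Polynomial.separable_prod' ?_ ?_
    · intro p hp q hq hpq
      obtain ⟨i, rfl⟩ := hs p hp
      obtain ⟨j, rfl⟩ := hs q hq
      have hi := minpoly.irreducible (Algebra.IsIntegral.isIntegral (R := k) (e x i))
      have hj := minpoly.irreducible (Algebra.IsIntegral.isIntegral (R := k) (e x j))
      rw [hi.coprime_iff_not_dvd]
      intro hd
      apply hpq
      exact Polynomial.eq_of_monic_of_associated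
        (minpoly.monic (Algebra.IsIntegral.isIntegral (R := k) (e x i)))
        (minpoly.monic (Algebra.IsIntegral.isIntegral (R := k) (e x j)))
        (hi.associated_of_dvd hj hd)
    · intro p hp
      obtain ⟨i, rfl⟩ := hs p hp
      exact Algebra.IsSeparable.isSeparable k (e x i)
  refine h1.of_dvd (minpoly.dvd k x ?_)
  apply e.injective
  rw [map_zero, ← AlgEquiv.coe_toAlgHom, ← Polynomial.aeval_algHom_apply]
  ext i
  rw [AlgEquiv.coe_toAlgHom]
  have h2 : (Polynomial.aeval (e x) (∏ p ∈ s, p)) i = Polynomial.aeval (e x i) (∏ p ∈ s, p) :=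
    (Polynomial.aeval_algHom_apply (Pi.evalAlgHom k Ai i) (e x) (∏ p ∈ s, p)).symm
  rw [h2, Pi.zero_apply]
  have h3 : minpoly k (e x i) ∣ ∏ p ∈ s, p := Finset.dvd_prod_of_mem _ (by simp [s])
  obtain ⟨q, hq⟩ := h3
  rw [hq, map_mul, minpoly.aeval, zero_mul]

/-- Let A be an algebra of finite type over a field k. Then A is formally unramified over k if and only
if A is finite over k and every element of A has separable minimal polynomial over k (equivalently,
A is a finite product of finite separable extensions of k). -/
theorem result (k A : Type u) [Field k] [CommRing A]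
    [Algebra k A] [Algebra.FiniteType k A] :
    Algebra.FormallyUnramified k A ↔ Module.Finite k A ∧ Algebra.IsSeparable k A := by
  constructor
  · intro h
    have hfin := Algebra.FormallyUnramified.finite_of_free k A
    refine ⟨hfin, ⟨fun x => ?_⟩⟩
    have := Algebra.FormallyEtale.of_formallyUnramified_of_field k A
    obtain ⟨I, _, Ai, _, _, e, hsep⟩ :=
      (Algebra.FormallyEtale.iff_exists_algEquiv_prod k A).mp inferInstance
    exact isSeparable_of_algEquiv_pi e hsep x
  · rintro ⟨hfin, hsep⟩
    have hred : IsReduced A := ⟨fun x ⟨n, hn⟩ => by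
      rcases Nat.eq_zero_or_pos n with rfl | hn0
      · rw [pow_zero] at hn
        have := subsingleton_of_zero_eq_one hn.symm
        exact Subsingleton.elim _ _
      have h1 : minpoly k x ∣ Polynomial.X ^ n := minpoly.dvd k x (by simp [hn])
      have h2 : Squarefree (minpoly k x) := (Algebra.IsSeparable.isSeparable k x).squarefree
      have h3 : minpoly k x ∣ Polynomial.X := (h2.dvd_pow_iff_dvd hn0.ne').mp h1
      obtain ⟨q, hq⟩ := h3
      have := congrArg (Polynomial.aeval x) hq
      simpa using this⟩
    have : IsArtinianRing A := .of_finite k A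
    have (I : MaximalSpectrum A) : Algebra.FormallyEtale k (A ⧸ I.asIdeal) := by
      let := Ideal.Quotient.field I.asIdeal
      rw [Algebra.FormallyEtale.iff_isSeparable]
      refine ⟨fun y => ?_⟩
      obtain ⟨x, rfl⟩ := Ideal.Quotient.mk_surjective y
      refine Polynomial.Separable.of_dvd (Algebra.IsSeparable.isSeparable k x) (minpoly.dvd k _ ?_)
      have := congrArg (Ideal.Quotient.mkₐ k I.asIdeal) (minpoly.aeval k x)
      rw [← Polynomial.aeval_algHom_apply, map_zero] at this
      exact this
    have : Algebra.FormallyEtale k A :=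
      .of_equiv ((IsArtinianRing.equivPi A).restrictScalars k).symm
    infer_instance

end Groth.Agent.S4998
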