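import Groth.Statements.S5002
import Mathlib.RingTheory.FiniteStability
import Mathlib.RingTheory.IntegralClosure.IsIntegralClosure.Basic

set_option autoImplicit false
universe u
open scoped TensorProduct
open PP16

namespace Groth.Agent.S5002

/-- Suppose A is a commutative ring and B is a finite-type A-algebra. For each n, the ring of principal
parts of order n of B over A is then finitely generated as a B-module, where B acts via the first
factor. -/
theorem result (n : ℕ) (A B : Type u) [CommRing A] [CommRing B] [Algebra A B]
    [Algebra.FiniteType A B] : Module.Finite B (PP16.P n A B) := by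
  have h1 : Algebra.FiniteType B (TensorProduct A B B) := inferInstance
  have h3 : Algebra.FiniteType B (PP16.P n A B) :=
    Algebra.FiniteType.of_surjective
      (Ideal.Quotient.mkₐ B (KaehlerDifferential.ideal A B ^ (n + 1))) (Ideal.Quotient.mkₐ_surjective _ _)
  have h4 : Algebra.IsIntegral B (PP16.P n A B) := by
    constructor
    intro x
    obtain ⟨t, rfl⟩ := Ideal.Quotient.mk_surjective x
    have hmem : t - (Algebra.TensorProduct.lmul' A t) ⊗ₜ[A] (1 : B) ∈ KaehlerDifferential.ideal A B := by
      change Algebra.TensorProduct.lmul' A _ = 0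
      rw [map_sub, Algebra.TensorProduct.lmul'_apply_tmul, mul_one, sub_self]
    have hint : IsIntegral B ((Ideal.Quotient.mk (KaehlerDifferential.ideal A B ^ (n + 1)))
        (t - (Algebra.TensorProduct.lmul' A t) ⊗ₜ[A] (1 : B))) := by
      refine ⟨Polynomial.X ^ (n + 1), Polynomial.monic_X_pow _, ?_⟩
      rw [Polynomial.eval₂_pow, Polynomial.eval₂_X, ← map_pow, Ideal.Quotient.eq_zero_iff_mem]
      exact Ideal.pow_mem_pow hmem _
    have heq : (Ideal.Quotient.mk (KaehlerDifferential.ideal A B ^ (n + 1))) t =
        (Ideal.Quotient.mk (KaehlerDifferential.ideal A B ^ (n + 1)))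
        (t - (Algebra.TensorProduct.lmul' A t) ⊗ₜ[A] (1 : B)) +
        algebraMap B (PP16.P n A B) (Algebra.TensorProduct.lmul' A t) := by
      change _ = _ + (Ideal.Quotient.mk (KaehlerDifferential.ideal A B ^ (n + 1)))
        ((Algebra.TensorProduct.lmul' A t) ⊗ₜ[A] (1 : B))
      rw [← map_add, sub_add_cancel]
    rw [heq]
    exact hint.add isIntegral_algebraMap
  exact Algebra.IsIntegral.finite

end Groth.Agent.S5002
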