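import Groth.Statements.S5006
import Mathlib.RingTheory.Nakayama
import Mathlib.RingTheory.Nilpotent.Lemmas
import Mathlib.RingTheory.Noetherian.Nilpotent
import Mathlib.RingTheory.Finiteness.Ideal
import Mathlib.RingTheory.Localization.AtPrime.Basic

set_option autoImplicit false
universe u
open Nrm16

namespace Groth.Agent.S5006

/-- If a finitely generated ideal dies in the local ring at `p`, it is killed by some `f ∉ p`. -/
theorem exists_smul_eq_zero {A : Type u} [CommRing A] (J : Ideal A) (hJ : J.FG) (p : Ideal A)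
    [p.IsPrime] (h : J.map (algebraMap A (Localization.AtPrime p)) = ⊥) :
    ∃ f : A, f ∉ p ∧ ∀ x ∈ J, f * x = 0 := by
  obtain ⟨s, rfl⟩ := hJ
  have key : ∀ x ∈ s, ∃ f : A, f ∉ p ∧ f * x = 0 := by
    intro x hx
    have h1 : algebraMap A (Localization.AtPrime p) x = 0 := by
      have : algebraMap A (Localization.AtPrime p) x ∈
          (Ideal.span (s : Set A)).map (algebraMap A (Localization.AtPrime p)) :=
        Ideal.mem_map_of_mem _ (Ideal.subset_span hx)
      rwa [h, Ideal.mem_bot] at this
    obtain ⟨⟨c, hc⟩, hcx⟩ := (IsLocalization.map_eq_zero_iff p.primeCompl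
      (Localization.AtPrime p) x).1 h1
    exact ⟨c, hc, hcx⟩
  choose! g hg hgx using key
  classical
  refine ⟨∏ x ∈ s, g x, ?_, ?_⟩
  · intro hmem
    obtain ⟨x, hx, hxp⟩ := (Ideal.IsPrime.prod_mem_iff (hp := inferInstance)).1 hmem
    exact hg x hx hxp
  · intro x hx
    refine Submodule.span_induction (p := fun x _ => (∏ x ∈ s, g x) * x = 0) ?_ ?_ ?_ ?_ hx
    · intro y hy
      rw [← Finset.prod_erase_mul s g hy, mul_assoc, hgx y hy, mul_zero]
    · simp
    · intro a b _ _ ha hb
      rw [mul_add, ha, hb, add_zero]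
    · intro a b _ hb
      rw [smul_eq_mul, mul_left_comm, hb, mul_zero]

/-- Let A be a commutative ring, I a finitely generated ideal and p a prime ideal containing I. Then
some basic open neighbourhood of p in Spec A is contained in the closed set V(I) (so that V(I) ⟶
Spec A is a local homeomorphism onto an open set near p) if and only if there is an integer n > 0
with I^n A_p = I^(n+1) A_p in the local ring at p. Affine form. -/
theorem result (A : Type u) [CommRing A] (I : Ideal A) (hI : I.FG)
    (p : Ideal A) [p.IsPrime] (hp : I ≤ p) :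
    (∃ f : A, f ∉ p ∧ ∀ q : Ideal A, q.IsPrime → f ∉ q → I ≤ q) ↔
      ∃ n : ℕ, 0 < n ∧
        (I ^ n).map (algebraMap A (Localization.AtPrime p)) =
          (I ^ (n + 1)).map (algebraMap A (Localization.AtPrime p)) := by
  constructor
  · rintro ⟨f, hf, hfI⟩
    -- `f • I` is a nil ideal
    have h1 : ∀ x ∈ I, ∃ k : ℕ, f * x ∈ nilradical A := by
      intro x hx
      refine ⟨0, ?_⟩
      rw [nilradical_eq_sInf, Submodule.mem_sInf]
      intro q hq
      by_cases hfq : f ∈ q
      · exact Ideal.mul_mem_right x q hfq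
      · exact Ideal.mul_mem_left q f (hfI q hq hfq hx)
    have h2 : Ideal.span {f} * I ≤ nilradical A := by
      rw [Ideal.span_singleton_mul_le_iff]
      intro x hx
      exact (h1 x hx).choose_spec
    have h3 : (Ideal.span {f} * I).FG := Ideal.FG.mul ⟨{f}, by simp⟩ hI
    obtain ⟨n, hn⟩ := (Ideal.FG.isNilpotent_iff_le_nilradical h3).2 h2
    have h4 : (I ^ n).map (algebraMap A (Localization.AtPrime p)) = ⊥ := by
      rw [eq_bot_iff, Ideal.map_le_iff_le_comap]
      intro x hx
      rw [Ideal.mem_comap, Ideal.mem_bot,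
        IsLocalization.map_eq_zero_iff p.primeCompl (Localization.AtPrime p)]
      refine ⟨⟨f ^ n, fun h => hf (Ideal.IsPrime.mem_of_pow_mem inferInstance n h)⟩, ?_⟩
      have : f ^ n * x ∈ (Ideal.span {f} * I) ^ n := by
        rw [mul_pow]
        exact Ideal.mul_mem_mul (Ideal.pow_mem_pow (Ideal.mem_span_singleton_self f) n) hx
      rw [hn] at this
      exact this
    have h5 : ∀ m, n ≤ m → (I ^ m).map (algebraMap A (Localization.AtPrime p)) = ⊥ := by
      intro m hm
      rw [eq_bot_iff, ← h4]
      exact Ideal.map_mono (Ideal.pow_le_pow_right hm)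
    exact ⟨n + 1, Nat.succ_pos n, by rw [h5 _ (Nat.le_succ n), h5 _ (by omega)]⟩
  · rintro ⟨n, hn, h⟩
    have h1 : (I ^ n).map (algebraMap A (Localization.AtPrime p)) = ⊥ := by
      refine Submodule.eq_bot_of_le_smul_of_le_jacobson_bot
        (I.map (algebraMap A (Localization.AtPrime p))) _ ?_ ?_ ?_
      · exact (hI.pow).map _
      · rw [smul_eq_mul, ← Ideal.map_mul, ← pow_succ']
        exact h.le
      · refine le_trans ?_ (IsLocalRing.maximalIdeal_le_jacobson _)
        rw [← Localization.AtPrime.map_eq_maximalIdeal]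
        exact Ideal.map_mono hp
    obtain ⟨f, hf, hfx⟩ := exists_smul_eq_zero (I ^ n) (hI.pow) p h1
    refine ⟨f, hf, fun q hq hfq => ?_⟩
    refine Ideal.IsPrime.le_of_pow_le (n := n) (hP := hq) ?_
    intro x hx
    have : f * x ∈ q := by rw [hfx x hx]; exact q.zero_mem
    exact (hq.mem_or_mem this).resolve_left hfq

end Groth.Agent.S5006
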