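import Groth.Statements.S5013
import Groth.Agent.Unram17.K134.SmoothNhd
import Groth.Agent.Smoothlim.SmoothLocusBC
import Groth.Agent.VarietyA.RegSmoothSch
import Groth.Agent.Ega4A.RegCM
import Groth.Agent.S2595
import Groth.Agent.S4939
set_option autoImplicit false
universe u
open CategoryTheory CategoryTheory.Limits AlgebraicGeometry TopologicalSpace
open Unram17

namespace Groth.Agent.S5013


theorem isCM {X Y : Scheme.{u}} (f : X ⟶ Y) [IsLocallyNoetherian Y] [LocallyOfFiniteType f] (x : X)
    (h : ∃ U : X.Opens, x ∈ U ∧ Smooth (U.ι ≫ f)) :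
    LocCoh.IsCohenMacaulayLocalRing ((f.fiber (f.base x)).presheaf.stalk (f.asFiber x)) := by
  have hlfp := K134.SmoothNhd.locallyOfFinitePresentation f
  have hflat := ((K134.SmoothNhd.smooth_nhd_iff f x).mp h).1
  have hx : x ∈ f.smoothLocus := (K134.SmoothNhd.smooth_nhd_iff_formallySmooth f x).mp h
  have hpb : IsPullback (f.fiberι (f x)) (f.fiberToSpecResidueField (f x)) f
      (Y.fromSpecResidueField (f x)) := IsPullback.of_hasPullback _ _
  have hlfp' : LocallyOfFinitePresentation (f.fiberToSpecResidueField (f x)) :=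
    MorphismProperty.of_isPullback hpb hlfp
  have hmem : f.asFiber x ∈ (f.fiberToSpecResidueField (f x)).smoothLocus := by
    refine (Groth.Agent.Smoothlim.SmoothLocusBC.mem_smoothLocus_iff_of_isPullback hpb _ (Or.inl ?_)).mpr ?_
    · rw [Scheme.Hom.fiberι_asFiber]
      exact hflat
    · rw [Scheme.Hom.fiberι_asFiber]
      exact hx
  have := Groth.Agent.VarietyA.RegSmoothSch.isRegularLocalRing_stalk_of_mem_smoothLocus
    (k := Y.residueField (f x)) (f.fiberToSpecResidueField (f x)) (f.asFiber x) hmem
  exact Groth.Agent.Ega4A.RegCM.isCohenMacaulayLocalRing_of_isRegularLocalRing _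
/-- Let Y be locally Noetherian, f : X ⟶ Y locally of finite type, x a point of X with image y, and
suppose the local ring of Y at y is reduced and geometrically unibranch. Then f is smooth on an open
neighbourhood of x if and only if f is equidimensional at x and the local ring of the fibre at x
(the quotient of the local ring of X at x by the extension of the maximal ideal at y) is
geometrically regular over the residue field κ(y). -/
theorem result {X Y : Scheme.{u}} (f : X ⟶ Y)
    [IsLocallyNoetherian Y] [LocallyOfFiniteType f] (x : ↥X)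
    (hred : IsReduced ↑(Y.presheaf.stalk (f.base x)))
    (hgu : CAlg2.IsGeomUnibranch ↑(Y.presheaf.stalk (f.base x))) :
    letI φ := (f.stalkMap x).hom
    letI 𝔪 := IsLocalRing.maximalIdeal ↑(Y.presheaf.stalk (f.base x))
    letI : Algebra (IsLocalRing.ResidueField ↑(Y.presheaf.stalk (f.base x))) (↑(X.presheaf.stalk x) ⧸ 𝔪.map φ) :=
      (Ideal.quotientMap (𝔪.map φ) φ Ideal.le_comap_map).toAlgebra
    (∃ U : X.Opens, x ∈ U ∧ Smooth (U.ι ≫ f)) ↔
      EGA43.IsEquidimAt f x ∧
        CAlg.IsGeometricallyRegular (IsLocalRing.ResidueField ↑(Y.presheaf.stalk (f.base x)))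
          (↑(X.presheaf.stalk x) ⧸ 𝔪.map φ) := by

  constructor
  · intro h
    refine ⟨?_, ((K134.SmoothNhd.smooth_nhd_iff f x).mp h).2⟩
    exact Groth.Agent.S2595.result f x ((K134.SmoothNhd.smooth_nhd_iff f x).mp h).1 (isCM f x h)
  · rintro ⟨h1, h2⟩
    refine (K134.SmoothNhd.smooth_nhd_iff f x).mpr ⟨?_, h2⟩
    have h0 := (Groth.Agent.S4939.result f x hgu).out 0 2
    have h3 := (h0.mp h1).2
    refine K134.SmoothNhd.flat_of_isUnivOpenAt f x hred ?_ h2
    intro z hz hfz hmax
    have hz' : z ∈ Set.range (f.fiberι (f x)) := by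
      rw [Scheme.Hom.range_fiberι]
      exact hfz
    obtain ⟨z, rfl⟩ := hz'
    refine h3 z ?_ ?_
    · rw [← specializes_iff_mem_closure, ← (f.fiberι (f x)).isEmbedding.isInducing.specializes_iff,
        Scheme.Hom.fiberι_asFiber]
      exact hz
    · intro z' hz'
      rw [← specializes_iff_mem_closure] at hz'
      apply (f.fiberι (f x)).isEmbedding.injective
      refine hmax _ (hz'.map (f.fiberι (f x)).continuous) ?_
      have h4 : f.fiberι (f x) z' ∈ Set.range (f.fiberι (f x)) := ⟨z', rfl⟩
      rw [Scheme.Hom.range_fiberι] at h4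
      exact h4

end Groth.Agent.S5013
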