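import Groth.Statements.S5021
import Groth.Agent.Unram17.K134.OmegaRank
import Groth.Agent.Unram17.K134.ConormalMono
import Groth.Agent.OmegaSh.K561.ConDiff
import Groth.Agent.OmegaSh.K583.ExistsUniv
import Groth.Agent.Lim8.K116.RankLim
import Groth.Agent.CurvesB.OmegaInv
import Groth.Agent.Dcoh.Spread
import Groth.Agent.S5976

set_option autoImplicit false
universe u
open CategoryTheory CategoryTheory.Limits AlgebraicGeometry TopologicalSpace
open Unram17

namespace Groth.Agent.S5021

open Groth.Agent.CycB.StalkExact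

/-- Ranks are additive in short exact sequences of free modules. -/
theorem rank_add {R : Type*} [CommRing R] [Nontrivial R] {A B C : Type*} [AddCommGroup A] [Module R A]
    [AddCommGroup B] [Module R B] [AddCommGroup C] [Module R C] {a b c : ℕ}
    (bA : Module.Basis (Fin a) R A) (bB : Module.Basis (Fin b) R B) (bC : Module.Basis (Fin c) R C)
    (f : A →ₗ[R] B) (g : B →ₗ[R] C) (hf : Function.Injective f) (hg : Function.Surjective g)
    (h : Function.Exact f g) : b = c + a := by
  have := Module.Free.of_basis bA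
  have := Module.Free.of_basis bC
  have := Module.Finite.of_basis bA
  have := Module.Finite.of_basis bC
  obtain ⟨l, hl⟩ := Module.projective_lifting_property g LinearMap.id hg
  obtain ⟨e, -⟩ := h.splitSurjectiveEquiv hf ⟨l, hl⟩
  have h1 := e.finrank_eq
  rw [Module.finrank_prod, Module.finrank_eq_card_basis bA, Module.finrank_eq_card_basis bB,
    Module.finrank_eq_card_basis bC, Fintype.card_fin, Fintype.card_fin, Fintype.card_fin] at h1
  omega

/-- Let f : X ⟶ Y be smooth and j : X' ⟶ X a quasi-compact immersion such that j ≫ f is smooth. Then for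
every point x of X' there are an open neighbourhood U of x and an integer n with the conormal sheaf
of j free of rank n on U, and the local dimension at j(x) of the fibre of f through j(x) equals the
local dimension at x of the fibre of j ≫ f through x plus n. (The published statement allows any
immersion j; this row assumes j quasi-compact, the case in which the conormal sheaf used here is
known to be the conormal sheaf of j.) -/
theorem result {X' X Y : Scheme.{u}} (f : X ⟶ Y) [Smooth f]
    (j : X' ⟶ X) [IsImmersion j] [QuasiCompact j] [Smooth (j ≫ f)] (x : ↥X') :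
    ∃ (U : X'.Opens) (n : ℕ), x ∈ U ∧ Nonempty ((Omega.conormal j).restrict U.ι ≅ FlatMod.freeMod (↑U) n) ∧
      FlatMor.fibreDimAt f (j.base x) = FlatMor.fibreDimAt (j ≫ f) x + (n : WithBot ℕ∞) := by
  obtain ⟨Ω, d, hd⟩ := K583.ExistsUniv.exists_isUniversal f
  obtain ⟨Ω', d', hd'⟩ := K583.ExistsUniv.exists_isUniversal (j ≫ f)
  obtain ⟨φ, hφ⟩ := K561.ConDiff.exists_isConormalDiff j d
  let c := K583.DerFunct.diffMap (h := j) (b := 𝟙 Y) (Category.comp_id _) hd d'
  have hc : OmegaSh.IsDiffCompat j d d' c := K583.DerFunct.isDiffCompat_diffMap _ hd d'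
  obtain ⟨hepi, hker⟩ := Groth.Agent.S5976.result f j Ω d hd Ω' d' hd' φ hφ c hc
  have w : φ ≫ c = 0 := by
    rw [← kernelSubobject_factors_iff, ← hker]
    simpa using imageSubobject_factors_comp_self (f := φ) (𝟙 _)
  have hmono : Mono φ := by
    rw [Groth.Agent.PerfC.FlatExact.mono_iff_stalkLin]
    intro z
    have hz : z ∈ (j ≫ f).smoothLocus := by
      rw [Scheme.Hom.smoothLocus_eq_top]
      trivial
    obtain ⟨G, hG⟩ := K134.ConormalMono.exists_retraction j hd hφ z hz
    exact Function.LeftInverse.injective (g := G) fun x ↦ LinearMap.congr_fun hG x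
  have hex : (ShortComplex.mk φ c w).Exact := by
    rw [ShortComplex.exact_iff_image_eq_kernel]
    exact hker
  have hS : (ShortComplex.mk φ c w).ShortExact := { exact := hex, mono_f := hmono, epi_g := hepi }
  have hfree : ∀ z : X, ∃ (U : X.Opens) (n : ℕ), z ∈ U ∧
      Nonempty (Ω.restrict U.ι ≅ FlatMod.freeMod (U : Scheme.{u}) n) ∧
      FlatMor.fibreDimAt f z = (n : WithBot ℕ∞) := fun z =>
    K134.OmegaRank.exists_free_of_smooth_nhd hd z ⟨⊤, trivial, inferInstance⟩
  have hfree' : ∀ z : X', ∃ (U : X'.Opens) (n : ℕ), z ∈ U ∧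
      Nonempty (Ω'.restrict U.ι ≅ FlatMod.freeMod (U : Scheme.{u}) n) ∧
      FlatMor.fibreDimAt (j ≫ f) z = (n : WithBot ℕ∞) := fun z =>
    K134.OmegaRank.exists_free_of_smooth_nhd hd' z ⟨⊤, trivial, inferInstance⟩
  have h2 : FlatMod.IsFinLocFree ((Scheme.Modules.pullback j).obj Ω) := fun z => by
    obtain ⟨U, n, hz, h, -⟩ := hfree (j z)
    exact ⟨j ⁻¹ᵁ U, n, hz, K116.RankLim.nonempty_iso_restrict_pullback j h⟩
  have h3 : FlatMod.IsFinLocFree Ω' := fun z => by
    obtain ⟨U, n, hz, h, -⟩ := hfree' z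
    exact ⟨U, n, hz, h⟩
  have h1 : FlatMod.IsFinLocFree (Omega.conormal j) :=
    Groth.Agent.Dcoh.Spread.isFinLocFree_of_isLimit_kernelFork h2 h3 φ c w hS.fIsKernel
  obtain ⟨U, n, hxU, hU⟩ := h1 x
  refine ⟨U, n, hxU, hU, ?_⟩
  obtain ⟨V, m, hxV, hV, hm⟩ := hfree (j x)
  obtain ⟨W, m', hxW, hW, hm'⟩ := hfree' x
  obtain ⟨iV⟩ := K116.RankLim.nonempty_iso_restrict_pullback j hV
  obtain ⟨iU⟩ := hU
  obtain ⟨iW⟩ := hW
  obtain ⟨bA⟩ := Groth.Agent.CurvesB.OmegaInv.nonempty_basis_stalk iU x hxU
  obtain ⟨bB⟩ := Groth.Agent.CurvesB.OmegaInv.nonempty_basis_stalk iV x hxV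
  obtain ⟨bC⟩ := Groth.Agent.CurvesB.OmegaInv.nonempty_basis_stalk iW x hxW
  have key := rank_add bA bB bC (stalkLin φ x) (stalkLin c x) (stalkLin_injective φ x)
    (stalkLin_surjective c x) (stalkLin_exact _ hex x)
  change FlatMor.fibreDimAt f (j x) = _
  rw [hm, hm', key]
  push_cast
  rfl

end Groth.Agent.S5021
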