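import Groth.Statements.S5034
import Groth.Agent.S2786

set_option autoImplicit false
universe u
open Hensel

namespace Groth.Agent.S5034

open Polynomial in
/-- A ring isomorphic to a product of local rings: approximate idempotents are close to idempotents. -/
theorem exists_idem {B : Type u} [CommRing B] {ι : Type u} (A : ι → Type u) [∀ i, CommRing (A i)]
    (hA : ∀ i, IsLocalRing (A i)) (ε : B ≃+* (∀ i, A i)) (b : B) :
    ∃ e u : B, IsIdempotentElem e ∧ e - b = u * (b * b - b) := by
  have hi : ∀ i, ∃ e u : A i, e * e = e ∧ e - ε b i = u * (ε b i * ε b i - ε b i) := by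
    intro i
    have := hA i
    rcases IsLocalRing.isUnit_or_isUnit_one_sub_self (ε b i) with hu | hu
    · obtain ⟨u, hu⟩ := isUnit_iff_exists_inv'.mp hu
      exact ⟨1, -u, by simp, by linear_combination (1 - ε b i) * (-hu)⟩
    · obtain ⟨u, hu⟩ := isUnit_iff_exists_inv'.mp hu
      exact ⟨0, u, by simp, by linear_combination (ε b i) * hu⟩
  choose e u he hu using hi
  refine ⟨ε.symm e, ε.symm u, ?_, ?_⟩
  · change ε.symm e * ε.symm e = ε.symm e
    rw [← map_mul]
    congr 1
    ext i
    exact he i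
  · apply ε.injective
    ext i
    simpa using hu i

open Polynomial in
theorem aux (R : Type u) [CommRing R] [IsLocalRing R]
    (h : ∀ F : Polynomial R, F.Monic →
      ∃ (ι : Type u) (_ : Fintype ι) (A : ι → Type u) (_ : ∀ i, CommRing (A i)),
        (∀ i, IsLocalRing (A i)) ∧ Nonempty (AdjoinRoot F ≃+* (∀ i, A i))) :
    HenselianLocalRing R := by
  refine ⟨fun F hF a₀ h0 h1 ↦ ?_⟩
  set κ := IsLocalRing.ResidueField R
  set a : κ := IsLocalRing.residue R a₀ with ha
  have hfm : (F.map (IsLocalRing.residue R)).IsRoot a := by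
    rw [Polynomial.IsRoot.def, Polynomial.eval_map_apply]
    exact (IsLocalRing.residue_eq_zero_iff _).mpr h0
  obtain ⟨h₀, hh₀⟩ := Polynomial.dvd_iff_isRoot.mpr hfm
  have hder : h₀.eval a = IsLocalRing.residue R (F.derivative.eval a₀) := by
    rw [← Polynomial.eval_map_apply, ← Polynomial.derivative_map, hh₀]
    simp [ha]
  have hder0 : h₀.eval a ≠ 0 := by
    rw [hder]
    exact (h1.map (IsLocalRing.residue R)).ne_zero
  have hcop : IsCoprime (X - C a) h₀ := by
    have : Irreducible (X - C a) := irreducible_X_sub_C a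
    rw [this.coprime_iff_not_dvd]
    intro hd
    exact hder0 (dvd_iff_isRoot.mp hd)
  obtain ⟨u₀, v₀, huv⟩ := hcop
  obtain ⟨g, hg⟩ := Polynomial.map_surjective _ (IsLocalRing.residue_surjective (R := R)) (v₀ * h₀)
  obtain ⟨ι, _, A, _, hA, ⟨ε⟩⟩ := h F hF
  obtain ⟨e, u, he, heu⟩ := exists_idem A hA ε (AdjoinRoot.mk F g)
  obtain ⟨G, H, hG, hH, hGH, hGHF, hGe, hHe⟩ := Groth.Agent.S2786.result R F hF e he
  obtain ⟨E, rfl⟩ := AdjoinRoot.mk_surjective e
  obtain ⟨U, rfl⟩ := AdjoinRoot.mk_surjective u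
  rw [← map_sub, ← map_mul, ← map_sub, ← map_mul, AdjoinRoot.mk_eq_mk] at heu
  obtain ⟨W, hW⟩ := heu
  -- reduction of E modulo m
  have hE : ∃ w, E.map (IsLocalRing.residue R) = v₀ * h₀ + (X - C a) * h₀ * w := by
    have h2 := congrArg (Polynomial.map (IsLocalRing.residue R)) hW
    simp only [Polynomial.map_sub, Polynomial.map_mul, hg, hh₀] at h2
    refine ⟨W.map (IsLocalRing.residue R) - U.map (IsLocalRing.residue R) * u₀ * v₀, ?_⟩
    linear_combination h2 + (U.map (IsLocalRing.residue R)) * v₀ * h₀ * (huv)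
  obtain ⟨w, hw⟩ := hE
  have hG1 : ∃ c d : Polynomial R, G = E * c + F * d := by
    have : AdjoinRoot.mk F G ∈ Ideal.span {AdjoinRoot.mk F E} := by
      have : AdjoinRoot.mk F G ∈ Ideal.span {AdjoinRoot.mk F G} := Ideal.mem_span_singleton_self _
      exact hGe ▸ this
    obtain ⟨c, hc⟩ := Ideal.mem_span_singleton.mp this
    obtain ⟨c, rfl⟩ := AdjoinRoot.mk_surjective c
    rw [← map_mul, AdjoinRoot.mk_eq_mk] at hc
    obtain ⟨d, hd⟩ := hc
    exact ⟨c, d, by linear_combination hd⟩
  have hH1 : ∃ c d : Polynomial R, H = (1 - E) * c + F * d := by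
    have : AdjoinRoot.mk F H ∈ Ideal.span {1 - AdjoinRoot.mk F E} := by
      have : AdjoinRoot.mk F H ∈ Ideal.span {AdjoinRoot.mk F H} := Ideal.mem_span_singleton_self _
      exact hHe ▸ this
    obtain ⟨c, hc⟩ := Ideal.mem_span_singleton.mp this
    obtain ⟨c, rfl⟩ := AdjoinRoot.mk_surjective c
    rw [← map_one (AdjoinRoot.mk F), ← map_sub, ← map_mul, AdjoinRoot.mk_eq_mk] at hc
    obtain ⟨d, hd⟩ := hc
    exact ⟨c, d, by linear_combination hd⟩
  obtain ⟨c, d, hcd⟩ := hG1
  obtain ⟨c', d', hcd'⟩ := hH1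
  have hG2 : h₀ ∣ G.map (IsLocalRing.residue R) := by
    have h2 := congrArg (Polynomial.map (IsLocalRing.residue R)) hcd
    simp only [Polynomial.map_add, Polynomial.map_mul, hw, hh₀] at h2
    refine ⟨(v₀ + (X - C a) * w) * c.map (IsLocalRing.residue R)
      + (X - C a) * d.map (IsLocalRing.residue R), ?_⟩
    linear_combination h2
  have hH2 : (X - C a) ∣ H.map (IsLocalRing.residue R) := by
    have h2 := congrArg (Polynomial.map (IsLocalRing.residue R)) hcd'
    simp only [Polynomial.map_add, Polynomial.map_sub, Polynomial.map_mul, Polynomial.map_one,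
      hw, hh₀] at h2
    refine ⟨(u₀ - h₀ * w) * c'.map (IsLocalRing.residue R)
      + h₀ * d'.map (IsLocalRing.residue R), ?_⟩
    linear_combination h2 - c'.map (IsLocalRing.residue R) * huv
  obtain ⟨x, hx⟩ := hG2
  obtain ⟨y, hy⟩ := hH2
  have hne : (X - C a) * h₀ ≠ 0 := by
    rw [← hh₀]
    exact (hF.map _).ne_zero
  have hxy : x * y = 1 := by
    have h2 := congrArg (Polynomial.map (IsLocalRing.residue R)) hGHF
    rw [Polynomial.map_mul, hx, hy, hh₀] at h2
    apply mul_left_cancel₀ hne
    linear_combination h2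
  have hyu : IsUnit y := IsUnit.of_mul_eq_one_right _ hxy
  have hdeg : H.natDegree = 1 := by
    rw [← hH.natDegree_map (IsLocalRing.residue R), hy,
      natDegree_mul (X_sub_C_ne_zero a) hyu.ne_zero, natDegree_X_sub_C,
      natDegree_eq_zero_of_isUnit hyu]
  have hHX := hH.eq_X_add_C hdeg
  refine ⟨-H.coeff 0, ?_, ?_⟩
  · rw [Polynomial.IsRoot.def, ← hGHF, hHX]
    simp
  · rw [← IsLocalRing.residue_eq_zero_iff, map_sub, ← ha]
    have h3 := congrArg (Polynomial.eval a) hy
    rw [hHX] at h3
    simp only [Polynomial.map_add, map_X, map_C, eval_add, eval_X, eval_C, eval_mul, eval_sub,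
      sub_self, zero_mul] at h3
    rw [map_neg]
    linear_combination -h3

/-- a') implies a): let R be a local ring such that for every monic polynomial F over R the quotient
ring R[T]/(F) is isomorphic, as a ring, to a finite product of local rings. Then R is henselian. -/
theorem result (R : Type u) [CommRing R] [IsLocalRing R]
    (h : ∀ F : Polynomial R, F.Monic →
      ∃ (ι : Type u) (_ : Fintype ι) (A : ι → Type u) (_ : ∀ i, CommRing (A i)),
        (∀ i, IsLocalRing (A i)) ∧ Nonempty (AdjoinRoot F ≃+* (∀ i, A i))) :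
    HenselianLocalRing R := by
  exact aux R h

end Groth.Agent.S5034
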