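import Groth.Statements.S5035
import Groth.Agent.S0502
import Groth.Agent.Hensel.LocalSplit

set_option autoImplicit false
universe u
open Hensel

namespace Groth.Agent.S5035

open IsLocalRing in
theorem finite_localization (R : Type u) [CommRing R] [HenselianLocalRing R]
    (S : Type u) [CommRing S] [Algebra R S] [Algebra.FiniteType R S] (q : Ideal S) [q.IsPrime]
    [q.LiesOver (maximalIdeal R)] [Algebra.QuasiFiniteAt R q] :
    Module.Finite R (Localization.AtPrime q) := by
  obtain ⟨e, he, heq, hfin, hq⟩ :=
    Groth.Agent.Hensel.LocalSplit.exists_isIdempotentElem_of_quasiFiniteAt (R := R) q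
  -- the induced map `S/(1-e) → S_q`
  have hue : IsUnit (algebraMap S (Localization.AtPrime q) e) :=
    IsLocalization.map_units (Localization.AtPrime q) (⟨e, heq⟩ : q.primeCompl)
  have h0 : algebraMap S (Localization.AtPrime q) (1 - e) = 0 := by
    apply hue.mul_right_eq_zero.mp
    rw [← map_mul]
    have : e * (1 - e) = 0 := by linear_combination -he.eq
    rw [this, map_zero]
  let f : (S ⧸ Ideal.span {1 - e}) →ₐ[R] Localization.AtPrime q :=
    Ideal.Quotient.liftₐ _ (IsScalarTower.toAlgHom R S (Localization.AtPrime q)) (by
      intro a ha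
      obtain ⟨b, rfl⟩ := Ideal.mem_span_singleton.mp ha
      change algebraMap S (Localization.AtPrime q) _ = 0
      rw [map_mul, h0, zero_mul])
  have hf : ∀ s, f (Ideal.Quotient.mk _ s) = algebraMap S (Localization.AtPrime q) s := fun s => rfl
  have hun : ∀ t : S, t ∉ q → IsUnit (Ideal.Quotient.mk (Ideal.span {1 - e}) t) := by
    intro t ht
    by_contra hcon
    obtain ⟨n, hn, htn⟩ := exists_max_ideal_of_mem_nonunits hcon
    have hint : Algebra.IsIntegral R (S ⧸ Ideal.span {1 - e}) := inferInstance
    have hlo : n.LiesOver (maximalIdeal R) := by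
      constructor
      have : (n.comap (algebraMap R (S ⧸ Ideal.span {1 - e}))).IsMaximal :=
        Ideal.isMaximal_comap_of_isIntegral_of_isMaximal n
      exact (IsLocalRing.eq_maximalIdeal this).symm
    let q' := n.comap (Ideal.Quotient.mk (Ideal.span {1 - e}))
    have hq' : q'.IsPrime := Ideal.IsPrime.comap _
    have hlo' : q'.LiesOver (maximalIdeal R) := by
      constructor
      rw [hlo.over]
      rfl
    have hone : (1 - e) ∈ q' := by
      change Ideal.Quotient.mk _ (1 - e) ∈ n
      rw [Ideal.Quotient.eq_zero_iff_mem.mpr (Ideal.mem_span_singleton_self _)]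
      exact n.zero_mem
    have he' : e ∉ q' := by
      intro he'
      apply hq'.ne_top
      rw [Ideal.eq_top_iff_one]
      have := q'.add_mem hone he'
      simpa using this
    have := hq q' hq' hlo' he'
    exact ht (this ▸ htn)
  have hsurj : Function.Surjective f := by
    intro x
    obtain ⟨s, t, rfl⟩ := IsLocalization.exists_mk'_eq q.primeCompl x
    obtain ⟨v, hv⟩ := (hun t.1 t.2).exists_right_inv
    obtain ⟨v, rfl⟩ := Ideal.Quotient.mk_surjective v
    refine ⟨Ideal.Quotient.mk _ (s * v), ?_⟩
    rw [IsLocalization.eq_mk'_iff_mul_eq, ← hf t.1, ← map_mul, map_mul (Ideal.Quotient.mk _) s v,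
      mul_assoc, mul_comm (Ideal.Quotient.mk _ v), hv, mul_one, hf]
  exact Module.Finite.of_surjective f.toLinearMap hsurj

open IsLocalRing in
theorem henselian_of_finite (R : Type u) [CommRing R] [IsLocalRing R]
    (h : ∀ (S : Type u) [CommRing S] [Algebra R S] [Algebra.FiniteType R S] (q : Ideal S) [q.IsPrime],
        q.LiesOver (IsLocalRing.maximalIdeal R) → Algebra.QuasiFiniteAt R q →
          Module.Finite R (Localization.AtPrime q)) : HenselianLocalRing R := by
  apply Groth.Agent.S0502.result
  intro S _ _ _ q _ hq hsurj
  have hfin : Module.Finite R (Localization.AtPrime q) := h S q hq inferInstance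
  have hflat : Module.Flat R (Localization.AtPrime q) := Module.Flat.trans R S _
  have hloc : IsLocalHom (algebraMap R (Localization.AtPrime q)) := by
    constructor
    intro a ha
    by_contra hcon
    have ha' : a ∈ maximalIdeal R := hcon
    rw [hq.over] at ha'
    rw [IsScalarTower.algebraMap_apply R S] at ha
    have : algebraMap R S a ∈ q.primeCompl :=
      (IsLocalization.AtPrime.isUnit_to_map_iff (Localization.AtPrime q) q _).mp ha
    exact this ha'
  have hff : Module.FaithfullyFlat R (Localization.AtPrime q) :=
    Module.FaithfullyFlat.of_flat_of_isLocalHom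
  have hun : Algebra.FormallyUnramified R (Localization.AtPrime q) :=
    Algebra.FormallyUnramified.comp R S _
  have hmax : (maximalIdeal R).map (algebraMap R (Localization.AtPrime q)) =
      maximalIdeal (Localization.AtPrime q) := Algebra.FormallyUnramified.map_maximalIdeal
  have hinj : Function.Injective (algebraMap R (Localization.AtPrime q)) :=
    FaithfulSMul.algebraMap_injective _ _
  have hsur : Function.Surjective (algebraMap R (Localization.AtPrime q)) := by
    change Function.Surjective (Algebra.linearMap R (Localization.AtPrime q))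
    rw [← LinearMap.range_eq_top, ← top_le_iff]
    apply Submodule.le_of_le_smul_of_le_jacobson_bot (I := maximalIdeal R)
      hfin.1 (IsLocalRing.maximalIdeal_le_jacobson _)
    intro x _
    have h1 : ∃ r : R, algebraMap R q.ResidueField r =
        residue (Localization.AtPrime q) x := hsurj _
    obtain ⟨r, hr⟩ := h1
    have h2 : x - algebraMap R _ r ∈ maximalIdeal (Localization.AtPrime q) := by
      rw [← IsLocalRing.residue_eq_zero_iff, map_sub, ← hr, sub_eq_zero]
      rfl
    rw [← hmax] at h2
    have h3 : x = algebraMap R _ r + (x - algebraMap R _ r) := by ring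
    rw [h3]
    refine Submodule.add_mem_sup ⟨r, rfl⟩ ?_
    have h4 := Ideal.smul_top_eq_map (S := Localization.AtPrime q) (maximalIdeal R)
    have h5 : x - algebraMap R _ r ∈ (Ideal.map (algebraMap R (Localization.AtPrime q)) (maximalIdeal R)).restrictScalars R := h2
    rw [← h4] at h5
    exact h5
  let ε : R ≃ₐ[R] Localization.AtPrime q :=
    AlgEquiv.ofBijective (Algebra.ofId R _) ⟨hinj, hsur⟩
  exact ⟨ε.symm.toAlgHom.comp (IsScalarTower.toAlgHom R S _)⟩

/-- a) iff c') (affine form): a local ring R is henselian if and only if, for every R-algebra S of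
finite type and every prime q of S lying over the maximal ideal of R such that S is quasi-finite
over R at q, the local ring S_q is a finitely generated R-module. -/
theorem result (R : Type u) [CommRing R] [IsLocalRing R] :
    HenselianLocalRing R ↔
      ∀ (S : Type u) [CommRing S] [Algebra R S] [Algebra.FiniteType R S] (q : Ideal S) [q.IsPrime],
        q.LiesOver (IsLocalRing.maximalIdeal R) → Algebra.QuasiFiniteAt R q →
          Module.Finite R (Localization.AtPrime q) := by
  constructor
  · intro hR S _ _ _ q _ h1 h2
    exact finite_localization R S q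
  · intro h
    exact henselian_of_finite R h

end Groth.Agent.S5035
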