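import Groth.Statements.S5037
import Groth.Agent.Hensel.K140.ClopenScheme

set_option autoImplicit false
open CategoryTheory CategoryTheory.Limits AlgebraicGeometry
universe u
open Hensel

namespace Groth.Agent.S5037

open Groth.Agent.Pi1C.HomGlue K140.ClopenScheme

/-- b) implies a'): let i : S₀ ⟶ S be a closed immersion. Suppose that for every étale separated
morphism g : S' ⟶ S and every section u₀ of S' ×_S S₀ ⟶ S₀ there is exactly one section u of g with
i ≫ u = u₀ followed by the first projection. Then for every finite locally free morphism g : S' ⟶ S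
(finite, flat and locally of finite presentation), every open-closed subset of S' ×_S S₀ is the
inverse image under the first projection of exactly one open-closed subset of S'. -/
theorem result {S S₀ : Scheme.{u}} (i : S₀ ⟶ S) [IsClosedImmersion i]
    (hb : ∀ (S' : Scheme.{u}) (g : S' ⟶ S), Etale g → IsSeparated g →
      ∀ u₀ : S₀ ⟶ pullback g i, u₀ ≫ pullback.snd g i = 𝟙 S₀ →
        ∃! u : S ⟶ S', u ≫ g = 𝟙 S ∧ i ≫ u = u₀ ≫ pullback.fst g i)
    {S' : Scheme.{u}} (g : S' ⟶ S) [IsFinite g] [Flat g] [LocallyOfFinitePresentation g]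
    (V : Set ↥(pullback g i)) (hV : IsClopen V) :
    ∃! U : Set ↥S', IsClopen U ∧ (pullback.fst g i).base ⁻¹' U = V := by
  let U : Over S := Over.mk g
  have : IsFinite U.hom := ‹IsFinite g›
  have : Flat U.hom := ‹Flat g›
  have : LocallyOfFinitePresentation U.hom := ‹LocallyOfFinitePresentation g›
  obtain ⟨W, ev, hWa, hWe, hUP⟩ := exists_clopenScheme U
  let j : Over.mk i ⟶ Over.mk (𝟙 S) := Over.homMk i (Category.comp_id i)
  -- the symmetry
  let σ : pullback g i ⟶ ((Q U).obj (Over.mk i)).left := qLift (U := U) (T := Over.mk i)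
    (pullback.snd g i) (pullback.fst g i) pullback.condition.symm
  have hσ2 : σ ≫ qSnd U (Over.mk i) = pullback.fst g i :=
    qLift_snd (U := U) (T := Over.mk i) (pullback.snd g i) (pullback.fst g i)
      pullback.condition.symm
  let σ' : ((Q U).obj (Over.mk i)).left ⟶ pullback g i := pullback.lift (qSnd U (Over.mk i))
    (qFst U (Over.mk i)) (q_condition U (Over.mk i)).symm
  have hσ'σ : σ' ≫ σ = 𝟙 _ := by
    apply q_hom_ext
    · rw [Category.assoc, Category.id_comp]
      erw [qLift_fst]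
      exact pullback.lift_snd _ _ _
    · rw [Category.assoc, Category.id_comp]
      erw [qLift_snd]
      exact pullback.lift_fst _ _ _
  have hσσ' : σ ≫ σ' = 𝟙 _ := by
    apply pullback.hom_ext
    · rw [Category.assoc, Category.id_comp]
      erw [pullback.lift_fst]
      exact qLift_snd _ _ _
    · rw [Category.assoc, Category.id_comp]
      erw [pullback.lift_snd]
      exact qLift_fst _ _ _
  let κ : S' ⟶ ((Q U).obj (Over.mk (𝟙 S))).left := qLift (U := U) (T := Over.mk (𝟙 S)) g (𝟙 S')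
    (by exact (Category.comp_id g).trans (Category.id_comp g).symm)
  have hκ : κ ≫ qSnd U (Over.mk (𝟙 S)) = 𝟙 S' := qLift_snd _ _ _
  have hκσ : pullback.fst g i ≫ κ = σ ≫ ((Q U).map j).left := by
    apply q_hom_ext
    · rw [Category.assoc, Category.assoc, q_map_fst, ← Category.assoc σ]
      erw [qLift_fst, qLift_fst]
      exact pullback.condition
    · rw [Category.assoc, Category.assoc, q_map_snd, hκ, Category.comp_id]
      exact hσ2.symm
  have hjs : ((Q U).map j).left ≫ qSnd U (Over.mk (𝟙 S)) = σ' ≫ pullback.fst g i := by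
    rw [q_map_snd]
    exact (pullback.lift_fst _ _ _).symm
  -- the point of `W` over `S₀`
  have hV' : IsClopen (σ'.base ⁻¹' V) := hV.preimage σ'.continuous
  obtain ⟨φ, hφ⟩ := exists_clp (T := (Q U).obj (Over.mk i)) hV'
  obtain ⟨a, ha⟩ := (hUP (Over.mk i)).2 φ
  have hau : ∀ b : Over.mk i ⟶ W, clp ((Q U).map b ≫ ev) = σ'.base ⁻¹' V → b = a := by
    intro b hb
    apply (hUP (Over.mk i)).1
    apply clp_injective
    dsimp only at ha ⊢
    rw [hb, ha, hφ]
  have haw : a.left ≫ W.hom = i := Over.w a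
  obtain ⟨s, ⟨hs1, hs2⟩, hs3⟩ := hb W.left W.hom hWe inferInstance
    (pullback.lift a.left (𝟙 S₀) (by rw [haw, Category.id_comp])) (pullback.lift_snd _ _ _)
  rw [pullback.lift_fst] at hs2
  let b : Over.mk (𝟙 S) ⟶ W := Over.homMk s hs1
  have hjb : j ≫ b = a := by
    ext1
    exact hs2
  refine ⟨κ.base ⁻¹' clp ((Q U).map b ≫ ev), ⟨(clp_isClopen _).preimage κ.continuous, ?_⟩, ?_⟩
  · have h1 : (pullback.fst g i).base ⁻¹' (κ.base ⁻¹' clp ((Q U).map b ≫ ev)) =
        (pullback.fst g i ≫ κ).base ⁻¹' clp ((Q U).map b ≫ ev) := rfl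
    have h2 : (σ ≫ ((Q U).map j).left).base ⁻¹' clp ((Q U).map b ≫ ev) =
      σ.base ⁻¹' (((Q U).map j).left.base ⁻¹' clp ((Q U).map b ≫ ev)) := rfl
    rw [h1, hκσ, h2, ← clp_comp, ← Category.assoc, ← (Q U).map_comp, hjb]
    dsimp only at ha
    rw [ha, hφ]
    change (σ ≫ σ').base ⁻¹' V = V
    rw [hσσ']
    rfl
  · rintro U' ⟨hU', hUV⟩
    have hU'' : IsClopen ((qSnd U (Over.mk (𝟙 S))).base ⁻¹' U') :=
      hU'.preimage (qSnd U (Over.mk (𝟙 S))).continuous
    obtain ⟨ψ, hψ⟩ := exists_clp (T := (Q U).obj (Over.mk (𝟙 S))) hU''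
    obtain ⟨b', hb'⟩ := (hUP (Over.mk (𝟙 S))).2 ψ
    dsimp only at hb'
    have hjb' : j ≫ b' = a := by
      apply hau
      rw [(Q U).map_comp, Category.assoc, hb', clp_comp, hψ]
      change (((Q U).map j).left ≫ qSnd U (Over.mk (𝟙 S))).base ⁻¹' U' = _
      rw [hjs, ← hUV]
      rfl
    have h1 : b'.left = s := hs3 b'.left ⟨Over.w b', by
      rw [pullback.lift_fst]
      exact congrArg (fun z => z.left) hjb'⟩
    have h2 : b' = b := by
      ext1
      exact h1
    rw [← h2, hb', hψ]
    change U' = (κ ≫ qSnd U (Over.mk (𝟙 S))).base ⁻¹' U'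
    rw [hκ]
    rfl

end Groth.Agent.S5037
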