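import Groth.Statements.S5041
import Groth.Agent.Hensel.K140.StrictFC

set_option autoImplicit false
universe u
open Hensel

namespace Groth.Agent.S5041



/-- Let R be a Noetherian local ring with henselization S. If R is strictly formally catenary (for every
prime ideal p, every associated prime of the completion of R/p has quotient of dimension dim R/p),
then so is S. -/
theorem result (R S : Type u) [CommRing R] [IsLocalRing R] [IsNoetherianRing R]
    [CommRing S] [IsLocalRing S] [Algebra R S] [IsLocalHom (algebraMap R S)] [Hensel.IsHenselization R S]
    (h : EGA4.IsFormallyStrictlyCatenary R) : EGA4.IsFormallyStrictlyCatenary S := by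
  exact K140.StrictFC.isFormallyStrictlyCatenary R S h

end Groth.Agent.S5041
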