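import Groth.Statements.S5042
import Groth.Agent.Hensel.K140.LocalJ2
import Groth.Agent.S2045
import Groth.Agent.S2773

set_option autoImplicit false
universe u
open Hensel

namespace Groth.Agent.S5042



/-- The henselization S of an excellent local ring R is excellent. -/
theorem result (R S : Type u) [CommRing R] [IsLocalRing R]
    [CommRing S] [IsLocalRing S] [Algebra R S] [IsLocalHom (algebraMap R S)] [Hensel.IsHenselization R S]
    (h : EGA4.IsExcellent R) : EGA4.IsExcellent S := by
  obtain ⟨hN, hU, hG, -⟩ := h
  have hGS : CAlg.IsGRing S := Groth.Agent.S2045.result (R := R) hG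
  exact ⟨hGS.1, Groth.Agent.S2773.result R S hU, hGS, K140.LocalJ2.isJ2_of_isGRing S hGS⟩

end Groth.Agent.S5042
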