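import Groth.Statements.S5045
import Groth.Agent.Unram.K147.HartConn

set_option autoImplicit false
open CategoryTheory AlgebraicGeometry
universe u
open Unram

namespace Groth.Agent.S5045

/-- Let X and Y be locally Noetherian schemes with X connected and all local rings of Y geometrically
unibranch, and let f : X ⟶ Y be flat with geometrically reduced fibres. Then for every closed subset
T of X whose image is nowhere dense in Y, the complement of T in X is connected. -/
theorem result {X Y : Scheme.{u}} [IsLocallyNoetherian X]
    [IsLocallyNoetherian Y] [ConnectedSpace ↥X] (hY : ∀ y : Y, CAlg2.IsGeomUnibranch (Y.presheaf.stalk y))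
    (f : X ⟶ Y) [Flat f] [GeometricallyReduced f]
    (T : Set ↥X) (hT : IsClosed T) (hT' : interior (closure (f.base '' T)) = ∅) :
    IsConnected Tᶜ := by
  refine K147.HartConn.isConnected_compl T hT fun x _ => ?_
  let A := Y.presheaf.stalk (f x)
  let B := X.presheaf.stalk x
  let _ : Algebra A B := (f.stalkMap x).hom.toAlgebra
  have h1 : IsLocalHom (algebraMap A B) := inferInstanceAs (IsLocalHom (f.stalkMap x).hom)
  have h2 : Module.Flat A B := Flat.stalkMap f x
  have h3 : ∀ y : Y, IsNoetherianRing (Y.presheaf.stalk y) := fun y => inferInstance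
  have h4 : IsNoetherianRing A := h3 _
  refine Groth.Agent.UnramB.GenFibConn.isConnected_compl (A := A) (B := B)
    (fun F _ _ => K147.HartConn.isReduced_tensor_stalk f x F rfl) (hY (f x))
    ((X.fromSpecStalk x) ⁻¹' T) ?_
  have h5 := K147.HartConn.interior_preimage_fromSpecStalk (f x) (closure (f.base '' T))
    isClosed_closure hT'
  rw [Set.eq_empty_iff_forall_notMem] at h5 ⊢
  intro w hw
  refine h5 w (interior_mono (closure_minimal ?_ ?_) hw)
  · rintro _ ⟨p, hp, rfl⟩
    have h6 : Y.fromSpecStalk (f x) (Spec.map (f.stalkMap x) p) = f (X.fromSpecStalk x p) := by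
      rw [← Scheme.Hom.comp_apply, ← Scheme.Hom.comp_apply, Scheme.SpecMap_stalkMap_fromSpecStalk]
    refine subset_closure ⟨X.fromSpecStalk x p, hp, h6.symm⟩
  · exact isClosed_closure.preimage (Y.fromSpecStalk (f x)).continuous

end Groth.Agent.S5045
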