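import Groth.Statements.S5046
import Groth.Agent.Unram.K147.HartConn
import Groth.Agent.Unram.K147.PuncFib
import Groth.Agent.Flat2E.GenericFibre

set_option autoImplicit false
open CategoryTheory AlgebraicGeometry
universe u
open Unram

namespace Groth.Agent.S5046

/-- Let A be a Noetherian local domain of Krull dimension at least 2 which is geometrically unibranch, X
a connected locally Noetherian scheme and f : X ⟶ Spec A a flat morphism. Then for every closed
subset T of X lying over the closed point of Spec A, the complement of T in X is connected. -/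
theorem result (A : Type u) [CommRing A]
    [IsNoetherianRing A] [IsLocalRing A] [IsDomain A] (hA : CAlg2.IsGeomUnibranch A) (hdim : 2 ≤ ringKrullDim A)
    {X : Scheme.{u}} [IsLocallyNoetherian X] [ConnectedSpace ↥X] (f : X ⟶ Spec (CommRingCat.of A)) [Flat f]
    (T : Set ↥X) (hT : IsClosed T) (hTy : ∀ x ∈ T, f.base x = IsLocalRing.closedPoint A) :
    IsConnected Tᶜ := by
  refine K147.HartConn.isConnected_compl T hT fun x hx => ?_
  let B := X.presheaf.stalk x
  let φ : CommRingCat.of A ⟶ B := Spec.preimage (X.fromSpecStalk x ≫ f)
  have hφ : Spec.map φ = X.fromSpecStalk x ≫ f := Spec.map_preimage _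
  let _ : Algebra A B := φ.hom.toAlgebra
  have hcl : PrimeSpectrum.comap (algebraMap A B) (IsLocalRing.closedPoint B) =
      IsLocalRing.closedPoint A := by
    have h1 : (Spec.map φ) (IsLocalRing.closedPoint B) = f x := by
      rw [hφ, Scheme.Hom.comp_apply, Scheme.fromSpecStalk_closedPoint]
    exact h1.trans (hTy x hx)
  have hloc : IsLocalHom (algebraMap A B) := by
    rw [IsLocalRing.isLocalHom_iff_comap_closedPoint]
    exact hcl
  have hflat : Module.Flat A B := by
    have h1 : Flat (Spec.map φ) := by
      rw [hφ]
      have h2 := Groth.Agent.Flat2E.GenericFibre.flat_fromSpecStalk X x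
      infer_instance
    exact (HasRingHomProperty.Spec_iff (P := @Flat)).1 h1
  refine K147.PuncFib.isConnected_compl (A := A) (B := B) hA hdim ((X.fromSpecStalk x) ⁻¹' T)
    (hT.preimage (X.fromSpecStalk x).continuous) fun q hq => ?_
  have h1 : (Spec.map φ) q = f (X.fromSpecStalk x q) := by
    rw [hφ, Scheme.Hom.comp_apply]
  exact h1.trans (hTy _ hq)

end Groth.Agent.S5046
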