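import Groth.Statements.S5048
import Groth.Agent.Unram.K147.GenPts

set_option autoImplicit false
open CategoryTheory AlgebraicGeometry
universe u
open Unram

namespace Groth.Agent.S5048

/-- Let Y be an irreducible scheme with generic point η and f : X ⟶ Y flat, locally of finite type and
locally quasi-finite. Then a point x of X maps to η if and only if its closure is an irreducible
component of X; thus the irreducible components of X are in canonical bijection with the fibre over
η. -/
theorem result {X Y : Scheme.{u}} [IrreducibleSpace ↥Y] (f : X ⟶ Y)
    [Flat f] [LocallyOfFiniteType f] [LocallyQuasiFinite f] (x : X) :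
    f.base x = genericPoint Y ↔ closure ({x} : Set ↥X) ∈ irreducibleComponents ↥X := by
  rw [K147.GenPts.closure_mem_iff]
  constructor
  · intro hx
    refine K147.GenPts.maximal_of_apply f x fun y hy => ?_
    rw [hx] at hy ⊢
    exact (hy.antisymm (genericPoint_specializes y)).eq
  · intro h
    exact (K147.GenPts.apply_of_maximal f x h (genericPoint Y) (genericPoint_specializes _)).symm

end Groth.Agent.S5048
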