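import Groth.Statements.S5049
import Groth.Agent.Unram.K147.GenPts

set_option autoImplicit false
open CategoryTheory AlgebraicGeometry
universe u
open Unram

namespace Groth.Agent.S5049

/-- Let f : X ⟶ Y be flat, locally of finite type and locally quasi-finite. If the irreducible
components of Y form a locally finite family of subsets, then so do the irreducible components of X. -/
theorem result {X Y : Scheme.{u}} (f : X ⟶ Y)
    [Flat f] [LocallyOfFiniteType f] [LocallyQuasiFinite f]
    (hY : LocallyFinite (fun Z : ↥(irreducibleComponents ↥Y) => (Z : Set ↥Y))) :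
    LocallyFinite (fun Z : ↥(irreducibleComponents ↥X) => (Z : Set ↥X)) := by
  classical
  intro x
  obtain ⟨t, ht, hfin⟩ := hY (f x)
  obtain ⟨t', ht't, ht', hxt'⟩ := mem_nhds_iff.mp ht
  -- affine neighbourhoods
  obtain ⟨V, hV, hxV, hVt⟩ := exists_isAffineOpen_mem_and_subset (X := Y) (x := f x) (U := ⟨t', ht'⟩) hxt'
  obtain ⟨U, hU, hxU, hUV⟩ := exists_isAffineOpen_mem_and_subset (X := X) (x := x) (U := f ⁻¹ᵁ V) hxV
  replace hUV : U ≤ f ⁻¹ᵁ V := hUV
  let g : (U : Scheme.{u}) ⟶ V := f.resLE V U hUV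
  have hUa : IsAffine U := hU
  have hVa : IsAffine V := hV
  have hlqf : LocallyQuasiFinite g := inferInstance
  have hg : ∀ y : V, (g ⁻¹' {y}).Finite := fun y => g.finite_preimage_singleton y
  refine ⟨U, U.isOpen.mem_nhds hxU, ?_⟩
  -- generic points of components of `Y` in `V`
  let G : Set Y := {y | (∀ y' : Y, y' ⤳ y → y' = y) ∧ y ∈ V}
  have hG : G.Finite := by
    have h1 : ∀ y ∈ G, closure ({y} : Set Y) ∈ irreducibleComponents Y := fun y hy =>
      (K147.GenPts.closure_mem_iff y).mpr hy.1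
    let φ : G → {Z : ↥(irreducibleComponents ↥Y) | ((Z : Set ↥Y) ∩ t).Nonempty} := fun y =>
      ⟨⟨closure {y.1}, h1 y.1 y.2⟩, ⟨y.1, subset_closure rfl, ht't (hVt y.2.2)⟩⟩
    have hφ : Function.Injective φ := by
      intro y y' h
      have h2 : closure ({y.1} : Set Y) = closure {y'.1} := congrArg (fun z => (z.1.1 : Set Y)) h
      apply Subtype.ext
      have h3 : IsGenericPoint y.1 (closure {y'.1}) := h2
      exact h3.eq rfl
    have := hfin.to_subtype
    have h4 : Finite G := Finite.of_injective φ hφ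
    exact Set.toFinite G
  have hgf : ∀ x' : (U : Scheme.{u}), V.ι (g x') = f (U.ι x') := fun x' => by
    rw [← Scheme.Hom.comp_apply, ← Scheme.Hom.comp_apply, Scheme.Hom.resLE_comp_ι]
  have hW : {x' : X | x' ∈ U ∧ f x' ∈ G}.Finite := by
    refine (hG.biUnion (t := fun y => {x' : X | x' ∈ U ∧ f x' = y ∧ y ∈ V}) ?_).subset ?_
    · intro y hy
      refine ((hg ⟨y, hy.2⟩).image U.ι).subset ?_
      rintro x' ⟨hx'U, hx', -⟩
      refine ⟨⟨x', hx'U⟩, ?_, rfl⟩
      apply V.ι.injective
      exact (hgf ⟨x', hx'U⟩).trans hx'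
    · rintro x' ⟨hx'U, hx'⟩
      exact Set.mem_biUnion hx' ⟨hx'U, rfl, hx'.2⟩
  let ψ : {Z : ↥(irreducibleComponents ↥X) | ((Z : Set ↥X) ∩ U).Nonempty} → {x' : X | x' ∈ U ∧ f x' ∈ G} :=
    fun Z => ⟨(genericPoints.ofComponent Z.1).1, by
      have h1 := genericPoints.isGenericPoint_ofComponent Z.1
      have h2 : (genericPoints.ofComponent Z.1).1 ∈ U :=
        (h1.mem_open_set_iff U.isOpen).mpr Z.2
      refine ⟨h2, ?_, hUV h2⟩
      exact K147.GenPts.apply_of_maximal f _ ((K147.GenPts.closure_mem_iff _).mp (genericPoints.ofComponent Z.1).2)⟩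
  have hψ : Function.Injective ψ := by
    intro Z Z' h
    have h1 : (genericPoints.ofComponent Z.1).1 = (genericPoints.ofComponent Z'.1).1 :=
      congrArg (fun z => (z.1 : X)) h
    have h2 := genericPoints.isGenericPoint_ofComponent Z.1
    have h3 := genericPoints.isGenericPoint_ofComponent Z'.1
    apply Subtype.ext
    apply Subtype.ext
    rw [← h2.def, ← h3.def, h1]
  have := hW.to_subtype
  have h4 : Finite {Z : ↥(irreducibleComponents ↥X) | ((Z : Set ↥X) ∩ U).Nonempty} :=
    Finite.of_injective ψ hψ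
  exact Set.toFinite _

end Groth.Agent.S5049
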