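import Groth.Statements.S5050
import Mathlib.RingTheory.Filtration

set_option autoImplicit false
universe u v
open CInt

namespace Groth.Agent.S5050

/-- Let A be a Noetherian ring, N a finitely generated A-module, E and F submodules of N and Q an ideal
of A. For every natural number k there is h > 0 with E ⊓ (F ⊔ Q^h N) ≤ (E ⊓ F) ⊔ Q^k N. -/
theorem result {A : Type u} [CommRing A] [IsNoetherianRing A] {N : Type v} [AddCommGroup N]
    [Module A N] [Module.Finite A N] (E F : Submodule A N) (Q : Ideal A) (k : ℕ) :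
    ∃ h : ℕ, 0 < h ∧ E ⊓ (F ⊔ Q ^ h • (⊤ : Submodule A N)) ≤ (E ⊓ F) ⊔ Q ^ k • (⊤ : Submodule A N) := by
  obtain ⟨c, hc⟩ := Ideal.exists_pow_inf_eq_pow_smul Q (E.map F.mkQ)
  refine ⟨c + k + 1, by omega, ?_⟩
  rintro x ⟨hxE, hx⟩
  obtain ⟨f, hf, q, hq, rfl⟩ := Submodule.mem_sup.mp hx
  have h1 : F.mkQ (f + q) ∈ Q ^ (c + k + 1) • (⊤ : Submodule A (N ⧸ F)) ⊓ E.map F.mkQ := by
    refine ⟨?_, Submodule.mem_map_of_mem hxE⟩
    have h2 : F.mkQ (f + q) = F.mkQ q := by
      rw [map_add, Submodule.mkQ_apply, (Submodule.Quotient.mk_eq_zero F).mpr hf, zero_add]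
    rw [h2]
    have h3 := Submodule.mem_map_of_mem (f := F.mkQ) hq
    rw [Submodule.map_smul''] at h3
    exact Submodule.smul_mono le_rfl le_top h3
  rw [hc (c + k + 1) (by omega)] at h1
  have h4 : F.mkQ (f + q) ∈ (Q ^ k • E).map F.mkQ := by
    rw [Submodule.map_smul'']
    have h5 : Q ^ (c + k + 1 - c) ≤ Q ^ k := Ideal.pow_le_pow_right (by omega)
    exact Submodule.smul_mono h5 inf_le_right h1
  obtain ⟨e, he, hfe⟩ := h4
  have h6 : f + q - e ∈ F := by
    rw [← Submodule.Quotient.mk_eq_zero F, ← Submodule.mkQ_apply, map_sub, hfe, sub_self]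
  have h7 : e ∈ E := Submodule.smul_le_right he
  have h8 : f + q = (f + q - e) + e := by abel
  rw [h8]
  exact Submodule.add_mem_sup ⟨E.sub_mem hxE h7, h6⟩ (Submodule.smul_mono le_rfl le_top he)

end Groth.Agent.S5050
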