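import Groth.Statements.S5052
import Groth.Agent.Unram.K147.GeomCount
import Groth.Agent.S3418
import Mathlib.AlgebraicGeometry.ZariskisMainTheorem

set_option autoImplicit false
open CategoryTheory AlgebraicGeometry
universe u
open Unram

namespace Groth.Agent.S5052

/-- Let f : X ⟶ Y be étale, separated and of finite type, and y a point of Y. The number of points of
the geometric fibre is constant on a neighbourhood of y if and only if the restriction of f over
some open neighbourhood of y is a finite morphism. -/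
theorem result {X Y : Scheme.{u}} (f : X ⟶ Y) [Etale f] [IsSeparated f]
    [LocallyOfFiniteType f] [QuasiCompact f] (y : Y) :
    (∃ U : Y.Opens, y ∈ U ∧ ∀ y' : Y, y' ∈ U → ENat.card ↥(MoreMor.geomFiber f y') = ENat.card ↥(MoreMor.geomFiber f y)) ↔
      ∃ U : Y.Opens, y ∈ U ∧ IsFinite (f ∣_ U) := by
  have := K147.LQF.locallyQuasiFinite_of_etale f
  constructor
  · rintro ⟨U, hyU, hU⟩
    obtain ⟨V, hyV, hV⟩ := (Groth.Agent.S3418.result f).2 y ⟨U, U.isOpen.mem_nhds hyU, fun z hz => by
      rw [← K147.GeomCount.card_geomFiber_eq_nGeomConnComp, ← K147.GeomCount.card_geomFiber_eq_nGeomConnComp]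
      exact hU z hz⟩
    exact ⟨V, hyV, IsFinite.of_isProper_of_locallyQuasiFinite (f ∣_ V)⟩
  · rintro ⟨U, hyU, hU⟩
    have h1 := (f ∣_ U).isLocallyConstant_finrank
    obtain ⟨V, hV, hyV, hc⟩ := (IsLocallyConstant.iff_exists_open _).mp h1 ⟨y, hyU⟩
    refine ⟨U.ι ''ᵁ ⟨V, hV⟩, ⟨⟨y, hyU⟩, hyV, rfl⟩, ?_⟩
    rintro _ ⟨⟨z, hzU⟩, hzV, rfl⟩
    change ENat.card ↥(MoreMor.geomFiber f z) = _
    rw [K147.GeomCount.card_geomFiber_of_finite_etale f U z hzU,
      K147.GeomCount.card_geomFiber_of_finite_etale f U y hyU]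
    exact congrArg _ (hc _ hzV)

end Groth.Agent.S5052
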