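import Groth.Statements.S5053
import Groth.Agent.Unram.K147.GeomCount
import Groth.Agent.S5052

set_option autoImplicit false
open CategoryTheory AlgebraicGeometry
universe u
open Unram

namespace Groth.Agent.S5053

/-- Let Y be a connected scheme and f : X ⟶ Y étale, separated and of finite type. Then f is finite if
and only if all geometric fibres of f have the same number of points. -/
theorem result {X Y : Scheme.{u}} [ConnectedSpace ↥Y] (f : X ⟶ Y)
    [Etale f] [IsSeparated f] [LocallyOfFiniteType f] [QuasiCompact f] :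
    IsFinite f ↔ ∃ n : ℕ∞, ∀ y : Y, ENat.card ↥(MoreMor.geomFiber f y) = n := by
  constructor
  · intro hf
    have hf' : IsFinite (f ∣_ ⊤) := inferInstance
    have h1 : IsLocallyConstant (fun y : Y => ENat.card ↥(MoreMor.geomFiber f y)) := by
      rw [IsLocallyConstant.iff_exists_open]
      intro y
      obtain ⟨U, hyU, hU⟩ := (Groth.Agent.S5052.result f y).mpr ⟨⊤, trivial, hf'⟩
      exact ⟨U, U.isOpen, hyU, hU⟩
    obtain ⟨y₀⟩ : Nonempty Y := inferInstance
    exact ⟨_, fun y => h1.apply_eq_of_preconnectedSpace y y₀⟩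
  · rintro ⟨n, hn⟩
    have h1 : ∀ y : Y, ∃ U : Y.Opens, y ∈ U ∧ IsFinite (f ∣_ U) := fun y =>
      (Groth.Agent.S5052.result f y).mp ⟨⊤, trivial, fun y' _ => by rw [hn, hn]⟩
    choose U hyU hU using h1
    have hsup : iSup U = ⊤ := by
      rw [eq_top_iff]
      intro y _
      exact TopologicalSpace.Opens.mem_iSup.mpr ⟨y, hyU y⟩
    exact (IsZariskiLocalAtTarget.iff_of_iSup_eq_top (P := (@IsFinite : MorphismProperty Scheme.{u})) U hsup).mpr hU

end Groth.Agent.S5053
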