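import Groth.Statements.S5055
import Groth.Agent.EGA418.K148.Gen
import Groth.Agent.S3851

set_option autoImplicit false
universe u
open EGA418

namespace Groth.Agent.S5055

/-- Let k be a field, A a complete Noetherian local k-algebra of Krull dimension n whose residue field
is a finite extension of k, p a prime ideal distinct from the maximal ideal and containing a minimal
prime q with dim A/q = n, and Ω̂ the completion of the module of differentials of A over k. If the
A_p-module Ω̂_p is generated by n elements, then it is free of rank n and A_p is a geometrically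
regular k-algebra. -/
theorem result (k A : Type u) [Field k] [CommRing A]
    [IsLocalRing A] [IsNoetherianRing A] [Algebra k A] [IsAdicComplete (IsLocalRing.maximalIdeal A) A]
    [Module.Finite k (IsLocalRing.ResidueField A)]
    (n : ℕ) (hn : ringKrullDim A = n) (p : Ideal A) [p.IsPrime] (hp : p ≠ IsLocalRing.maximalIdeal A)
    (hq : ∃ q ∈ minimalPrimes A, q ≤ p ∧ ringKrullDim (A ⧸ q) = n)
    (hgen : ∃ s : Fin n → (LocalizedModule p.primeCompl (AdicCompletion (IsLocalRing.maximalIdeal A) (KaehlerDifferential k A))), Submodule.span (Localization.AtPrime p) (Set.range s) = ⊤) :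
    (Module.Free (Localization.AtPrime p) (LocalizedModule p.primeCompl (AdicCompletion (IsLocalRing.maximalIdeal A) (KaehlerDifferential k A))) ∧
      Module.finrank (Localization.AtPrime p) (LocalizedModule p.primeCompl (AdicCompletion (IsLocalRing.maximalIdeal A) (KaehlerDifferential k A))) = n) ∧
      CAlg.IsGeometricallyRegular k (Localization.AtPrime p) := by
  have hfinΩ : Module.Finite A (AdicCompletion (IsLocalRing.maximalIdeal A) (KaehlerDifferential k A)) :=
    Groth.Agent.Ega4late.H543.OmegaHat.finite k A
  obtain ⟨s, hs⟩ := hgen
  have hrank : Module.finrank p.ResidueField (TensorProduct A p.ResidueField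
      (AdicCompletion (IsLocalRing.maximalIdeal A) (KaehlerDifferential k A))) = n :=
    le_antisymm (K148.Gen.finrank_fibre_le p n s hs) (K148.Gen.dim_le_finrank k A n p hq)
  have hfree : Module.Free (Localization.AtPrime p) (LocalizedModule p.primeCompl
        (AdicCompletion (IsLocalRing.maximalIdeal A) (KaehlerDifferential k A))) ∧
      Module.finrank (Localization.AtPrime p) (LocalizedModule p.primeCompl
        (AdicCompletion (IsLocalRing.maximalIdeal A) (KaehlerDifferential k A))) = n := by
    obtain ⟨_, _, hloc, hfin, het⟩ :=
      Groth.Agent.Ega4late.H543.Backward.exists_finite_etaleAt k A n hn p hp hq hrank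
    exact Groth.Agent.Ega4late.H543.Forward.free_finrank k A n p
  refine ⟨hfree, (Groth.Agent.S3851.result k A p hp n (fun q _ _ => ?_) hq).2 hfree⟩
  rw [← hn]
  exact ringKrullDim_quotient_le q

end Groth.Agent.S5055
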