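import Groth.Statements.S5057
import Mathlib.AlgebraicGeometry.Morphisms.Finite
import Mathlib.AlgebraicGeometry.IdealSheaf.Subscheme

set_option autoImplicit false
open CategoryTheory CategoryTheory.Limits AlgebraicGeometry
universe u
open Hensel

namespace Groth.Agent.S5057

theorem aux {S S₀ : Scheme.{u}} (i : S₀ ⟶ S) [IsClosedImmersion i]
    (ha : ∀ (S' : Scheme.{u}) (g : S' ⟶ S), IsFinite g →
      ∀ V : Set ↥(pullback g i), IsClopen V → ∃! U : Set ↥S', IsClopen U ∧ (pullback.fst g i).base ⁻¹' U = V)
    {S' : Scheme.{u}} (g : S' ⟶ S) [IsFinite g] (U : Set ↥S') (hU : IsOpen U)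
    (hU₀ : Set.range (pullback.fst g i).base ⊆ U) : U = Set.univ := by
  let Z : TopologicalSpace.Closeds S' := ⟨Uᶜ, hU.isClosed_compl⟩
  let I := Scheme.IdealSheafData.vanishingIdeal Z
  have hrange : Set.range I.subschemeι.base = Uᶜ := by
    have h1 := Scheme.IdealSheafData.range_subschemeι I
    rw [Scheme.IdealSheafData.coe_support_vanishingIdeal] at h1
    exact h1
  have hfin : IsFinite (I.subschemeι ≫ g) := inferInstance
  have hemp : IsEmpty ↥(pullback (I.subschemeι ≫ g) i) := by
    constructor
    intro x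
    let t : pullback (I.subschemeι ≫ g) i ⟶ pullback g i :=
      pullback.lift (pullback.fst _ _ ≫ I.subschemeι) (pullback.snd _ _) (by
        rw [Category.assoc]; exact pullback.condition)
    have h1 : t ≫ pullback.fst g i = pullback.fst _ _ ≫ I.subschemeι := pullback.lift_fst _ _ _
    have h2 : (pullback.fst g i).base (t.base x) ∈ U := hU₀ ⟨_, rfl⟩
    have h3 : (pullback.fst g i).base (t.base x) =
        I.subschemeι.base ((pullback.fst (I.subschemeι ≫ g) i).base x) :=
      congrArg (fun k => k.base x) h1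
    have h4 : I.subschemeι.base ((pullback.fst (I.subschemeι ≫ g) i).base x) ∈ Uᶜ := by
      rw [← hrange]
      exact ⟨_, rfl⟩
    rw [← h3] at h4
    exact h4 h2
  obtain ⟨W, _, hW⟩ := ha _ (I.subschemeι ≫ g) hfin ∅ isClopen_empty
  have h1 : (∅ : Set ↥I.subscheme) = W :=
    hW _ ⟨isClopen_empty, Set.eq_of_subset_of_subset (fun x => (hemp.false x).elim) (fun x => (hemp.false x).elim)⟩
  have h2 : (Set.univ : Set ↥I.subscheme) = W :=
    hW _ ⟨isClopen_univ, Set.eq_of_subset_of_subset (fun x => (hemp.false x).elim) (fun x => (hemp.false x).elim)⟩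
  have h3 : (Set.univ : Set ↥I.subscheme) = ∅ := h2.trans h1.symm
  have h4 : Uᶜ = ∅ := by
    rw [← hrange, ← Set.image_univ, h3, Set.image_empty]
  exact Set.compl_empty_iff.mp h4

/-- Let i : S₀ ⟶ S be a closed immersion such that for every finite morphism g : S' ⟶ S every
open-closed subset of S' ×_S S₀ is the inverse image under the first projection of exactly one
open-closed subset of S'. Then for every finite morphism g : S' ⟶ S, every open subset of S'
containing the image of S' ×_S S₀ is all of S'. -/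
theorem result {S S₀ : Scheme.{u}} (i : S₀ ⟶ S) [IsClosedImmersion i]
    (ha : ∀ (S' : Scheme.{u}) (g : S' ⟶ S), IsFinite g →
      ∀ V : Set ↥(pullback g i), IsClopen V → ∃! U : Set ↥S', IsClopen U ∧ (pullback.fst g i).base ⁻¹' U = V)
    {S' : Scheme.{u}} (g : S' ⟶ S) [IsFinite g] (U : Set ↥S') (hU : IsOpen U)
    (hU₀ : Set.range (pullback.fst g i).base ⊆ U) : U = Set.univ := by
  exact aux i ha g U hU hU₀

end Groth.Agent.S5057
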