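import Groth.Statements.S5058
import Groth.Agent.Flat2D.ApproxFP
import Groth.Agent.S0506
import Groth.Agent.S0511
import Groth.Agent.UnramA.IndEtLift

set_option autoImplicit false
open CategoryTheory CategoryTheory.Limits AlgebraicGeometry
universe u
open Hensel

namespace Groth.Agent.S5058



/-- Let A be a henselian local ring and f : X ⟶ Spec A a morphism of finite presentation. Then there
exist a Noetherian henselian local ring A₀, a local ring homomorphism φ : A₀ → A, a morphism of
finite type f₀ : X₀ ⟶ Spec A₀ and a cartesian square exhibiting X as the base change of X₀ along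
Spec φ. -/
theorem result (A : Type u) [CommRing A] [HenselianLocalRing A]
    {X : Scheme.{u}} (f : X ⟶ Spec (CommRingCat.of A)) [LocallyOfFinitePresentation f] [QuasiCompact f] [QuasiSeparated f] :
    ∃ (A₀ : Type u) (_ : CommRing A₀) (_ : HenselianLocalRing A₀) (_ : IsNoetherianRing A₀) (φ : A₀ →+* A) (_ : IsLocalHom φ)
      (X₀ : Scheme.{u}) (f₀ : X₀ ⟶ Spec (CommRingCat.of A₀)) (g : X ⟶ X₀),
      LocallyOfFiniteType f₀ ∧ QuasiCompact f₀ ∧ IsPullback g f f₀ (Spec.map (CommRingCat.ofHom φ)) := by
  obtain ⟨B, hB, X₁, f₁, g₁, h1, h2, h3, h4⟩ := Groth.Agent.Flat2D.ApproxFP.exists_model_Spec A f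
  let p : Ideal B := (IsLocalRing.maximalIdeal A).comap B.val.toRingHom
  have hp : p.IsPrime := inferInstance
  have : IsNoetherianRing B := by
    have : Algebra.FiniteType ℤ B := B.fg_iff_finiteType.mp hB
    exact Algebra.FiniteType.isNoetherianRing ℤ B
  let R := Localization.AtPrime p
  have hRN : IsNoetherianRing R := IsLocalization.isNoetherianRing p.primeCompl R inferInstance
  obtain ⟨A₀, _, hloc, _, hlh, hH⟩ := Groth.Agent.S0506.result R
  have hH' : HenselianLocalRing A₀ := hH.henselian
  have hN : IsNoetherianRing A₀ := (Groth.Agent.S0511.result R A₀).mp inferInstance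
  let φ₀ : R →+* A := IsLocalization.lift (M := p.primeCompl) (g := B.val.toRingHom)
    (fun y => by
      by_contra hcon
      exact y.2 hcon)
  have hφ₀ : φ₀.comp (algebraMap B R) = B.val.toRingHom := IsLocalization.lift_comp _
  have hφ₀loc : IsLocalHom φ₀ := by
    constructor
    intro x hx
    obtain ⟨b, s, rfl⟩ := IsLocalization.exists_mk'_eq p.primeCompl x
    have h5 : φ₀ (IsLocalization.mk' R b s) * φ₀ (algebraMap B R s) = B.val.toRingHom b := by
      rw [← map_mul, IsLocalization.mk'_spec]
      exact congrArg (fun z : B →+* A => z b) hφ₀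
    have h6 : IsUnit (algebraMap B R s) := IsLocalization.map_units R s
    have h7 : IsUnit (B.val.toRingHom b) := by
      rw [← h5]
      exact hx.mul (h6.map φ₀)
    have h8 : b ∈ p.primeCompl := fun hb => (IsLocalRing.mem_maximalIdeal _).1 hb h7
    have h9 := IsLocalization.map_units R (⟨b, h8⟩ : p.primeCompl)
    rw [← IsLocalization.mk'_spec R b s] at h9
    exact isUnit_of_mul_isUnit_left h9
  obtain ⟨φ, hφ, -⟩ := hH.universal A φ₀ hφ₀loc
  have hφloc : IsLocalHom φ := by
    have hm := Groth.Agent.UnramA.IndEtLift.map_maximalIdeal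
      (Groth.Agent.UnramA.IndEtLift.isIndEt_of_isHenselization R A₀)
    constructor
    intro x hx
    by_contra hcon
    have h5 : x ∈ IsLocalRing.maximalIdeal A₀ := hcon
    rw [← hm] at h5
    have h6 := Ideal.mem_map_of_mem φ h5
    rw [Ideal.map_map, hφ] at h6
    have h7 : (IsLocalRing.maximalIdeal R).map φ₀ ≤ IsLocalRing.maximalIdeal A :=
      ((IsLocalRing.local_hom_TFAE φ₀).out 0 2).1 hφ₀loc
    exact h7 h6 hx
  let ι : B →+* A₀ := (algebraMap R A₀).comp (algebraMap B R)
  have hι : φ.comp ι = B.val.toRingHom := by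
    rw [← RingHom.comp_assoc, hφ, hφ₀]
  have hfac : Spec.map (CommRingCat.ofHom φ) ≫ Spec.map (CommRingCat.ofHom ι) =
      Spec.map (CommRingCat.ofHom B.val.toRingHom) := by
    rw [← Spec.map_comp, ← CommRingCat.ofHom_comp, hι]
  let gX : X ⟶ pullback f₁ (Spec.map (CommRingCat.ofHom ι)) :=
    pullback.lift g₁ (f ≫ Spec.map (CommRingCat.ofHom φ)) (by
      rw [Category.assoc, hfac, h4.w])
  refine ⟨A₀, inferInstance, hH', hN, φ, hφloc, pullback f₁ (Spec.map (CommRingCat.ofHom ι)),
    pullback.snd _ _, gX, inferInstance, inferInstance, ?_⟩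
  have h5 : IsPullback (pullback.fst f₁ (Spec.map (CommRingCat.ofHom ι)))
      (pullback.snd f₁ (Spec.map (CommRingCat.ofHom ι))) f₁ (Spec.map (CommRingCat.ofHom ι)) :=
    IsPullback.of_hasPullback _ _
  refine IsPullback.of_right ?_ (pullback.lift_snd _ _ _) h5
  have h6 : gX ≫ pullback.fst f₁ (Spec.map (CommRingCat.ofHom ι)) = g₁ := pullback.lift_fst _ _ _
  rw [h6, hfac]
  exact h4

end Groth.Agent.S5058
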