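import Groth.Statements.S5059
import Groth.Agent.CInt.K138.Basic

set_option autoImplicit false
universe u
open CInt

namespace Groth.Agent.S5059

/-- a) iff c) in the Noetherian case: let A be a Noetherian ring, R an ideal of A, f_1, …, f_n elements
of the Jacobson radical of A whose images form a regular sequence on A/R, Q = R + (f_1, …, f_n), and
M a finitely generated A-module. Then every graded piece R^k M / R^(k+1) M is flat over A/R if and
only if, for every k, (R^k M / R^(k+1) M) ⊗ A/Q is flat over A/Q and f_1, …, f_n is a regular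
sequence on R^k M / R^(k+1) M. -/
theorem result (A : Type u) [CommRing A] [IsNoetherianRing A]
    (R : Ideal A) {n : ℕ} (f : Fin n → A) (hrad : ∀ i, f i ∈ (⊥ : Ideal A).jacobson)
    (hreg : RingTheory.Sequence.IsWeaklyRegular (A ⧸ R) (List.ofFn f))
    (M : Type u) [AddCommGroup M] [Module A M] [Module.Finite A M] :
    EGA4.IsNormallyFlat R M ↔
      ∀ k : ℕ, Module.Flat (A ⧸ (R ⊔ Ideal.span (Set.range f))) ((↥(R ^ k • (⊤ : Submodule A M)) ⧸ (R • (⊤ : Submodule A ↥(R ^ k • (⊤ : Submodule A M))))) ⧸ ((R ⊔ Ideal.span (Set.range f)) • (⊤ : Submodule A (↥(R ^ k • (⊤ : Submodule A M)) ⧸ (R • (⊤ : Submodule A ↥(R ^ k • (⊤ : Submodule A M)))))))) ∧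
        RingTheory.Sequence.IsWeaklyRegular (↥(R ^ k • (⊤ : Submodule A M)) ⧸ (R • (⊤ : Submodule A ↥(R ^ k • (⊤ : Submodule A M))))) (List.ofFn f) := by
  refine forall_congr' fun k => ?_
  have hmap : (R ⊔ Ideal.span (Set.range f)).map (Ideal.Quotient.mk R) =
      Ideal.ofList ((List.ofFn f).map (algebraMap A (A ⧸ R))) := by
    rw [K138.Basic.span_range_eq_ofList, Ideal.map_sup, Ideal.map_quotient_self, bot_sup_eq,
      ← Ideal.map_ofList]
    rfl
  have hfin : Module.Finite A ↥(R ^ k • (⊤ : Submodule A M)) :=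
    Module.Finite.iff_fg.mpr (IsNoetherian.noetherian _)
  have hfin2 : Module.Finite (A ⧸ R) (↥(R ^ k • (⊤ : Submodule A M)) ⧸ (R • (⊤ : Submodule A ↥(R ^ k • (⊤ : Submodule A M))))) :=
    Module.Finite.of_restrictScalars_finite A _ _
  have hrad' : ∀ r ∈ (List.ofFn f).map (algebraMap A (A ⧸ R)), r ∈ (⊥ : Ideal (A ⧸ R)).jacobson := by
    intro r hr
    obtain ⟨a, ha, rfl⟩ := List.mem_map.mp hr
    obtain ⟨i, rfl⟩ := (List.mem_ofFn' _ _).mp ha
    exact K138.Basic.mem_jacobson_quotient R (hrad i)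
  have hreg' := (RingTheory.Sequence.isWeaklyRegular_map_algebraMap_iff (A ⧸ R) (A ⧸ R)
    (List.ofFn f)).mpr hreg
  rw [K138.Basic.flat_iff_of_isWeaklyRegular hrad' hreg',
    RingTheory.Sequence.isWeaklyRegular_map_algebraMap_iff,
    K138.Basic.flat_quot_iff (R := R) le_sup_left, hmap]

end Groth.Agent.S5059
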