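import Groth.Statements.S5060
import Groth.Agent.CInt.K138.Back2

set_option autoImplicit false
universe u
open CInt

namespace Groth.Agent.S5060

/-- a) iff d) in the Noetherian case: let A be a Noetherian ring, R an ideal, f_1, …, f_n elements of
the Jacobson radical of A forming a regular sequence on A/R and on every R^k/R^(k+1), Q = R + (f_1,
…, f_n), and M a finitely generated A-module. Then every R^k M / R^(k+1) M is flat over A/R if and
only if every Q^k M / Q^(k+1) M is flat over A/Q and, for every associated prime p of A/Q viewed as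
an (A/R)-module, every localized piece (R^k M / R^(k+1) M)_p is flat over (A/R)_p. -/
theorem result (A : Type u) [CommRing A] [IsNoetherianRing A]
    (R : Ideal A) {n : ℕ} (f : Fin n → A) (hrad : ∀ i, f i ∈ (⊥ : Ideal A).jacobson)
    (hreg : RingTheory.Sequence.IsWeaklyRegular (A ⧸ R) (List.ofFn f))
    (hreggr : ∀ k : ℕ, RingTheory.Sequence.IsWeaklyRegular (↥(R ^ k • (⊤ : Submodule A A)) ⧸ (R • (⊤ : Submodule A ↥(R ^ k • (⊤ : Submodule A A))))) (List.ofFn f))
    (M : Type u) [AddCommGroup M] [Module A M] [Module.Finite A M] :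
    EGA4.IsNormallyFlat R M ↔
      EGA4.IsNormallyFlat (R ⊔ Ideal.span (Set.range f)) M ∧
        ∀ (p : Ideal (A ⧸ R)) [p.IsPrime],
          p ∈ associatedPrimes (A ⧸ R) ((A ⧸ R) ⧸ Ideal.map (Ideal.Quotient.mk R) (R ⊔ Ideal.span (Set.range f))) →
            ∀ k : ℕ, Module.Flat (Localization.AtPrime p) (LocalizedModule p.primeCompl (↥(R ^ k • (⊤ : Submodule A M)) ⧸ (R • (⊤ : Submodule A ↥(R ^ k • (⊤ : Submodule A M)))))) := by
  have hQ : R ⊔ Ideal.span (Set.range f) = R ⊔ Ideal.ofList (List.ofFn f) := by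
    rw [K138.Basic.span_range_eq_ofList]
  have hrad' : ∀ g ∈ List.ofFn f, g ∈ (⊥ : Ideal A).jacobson := by
    intro g hg
    obtain ⟨i, rfl⟩ := (List.mem_ofFn' _ _).mp hg
    exact hrad i
  constructor
  · intro h
    refine ⟨?_, ?_⟩
    · rw [hQ]
      exact K138.TransFlat.NF_sup_ofList (M := M) (List.ofFn f) R hreg h
    · intro p _ _ k
      have := h k
      infer_instance
  · rintro ⟨h1, h2⟩
    rw [hQ] at h1
    refine K138.Back2.backward (M := M) (List.ofFn f) R hrad' hreg h1 ?_
    intro P hP hP'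
    rw [← hQ] at hP
    obtain ⟨-, a, ha⟩ := isAssociatedPrime_iff.mp (AssociatedPrimes.mem_iff.mp hP)
    have hRP : R ≤ P := by
      intro r hr
      rw [ha, Submodule.mem_colon_singleton, Submodule.mem_bot]
      obtain ⟨a, rfl⟩ := Ideal.Quotient.mk_surjective a
      show Ideal.Quotient.mk (R ⊔ Ideal.span (Set.range f)) (r * a) = 0
      rw [Ideal.Quotient.eq_zero_iff_mem]
      exact Ideal.mul_mem_right _ _ (le_sup_left (a := R) hr)
    refine K138.Back2.NF_localized R P hRP fun p hp hpP k => h2 p ?_ k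
    rw [AssociatedPrimes.mem_iff, isAssociatedPrime_iff]
    obtain ⟨a, rfl⟩ := Ideal.Quotient.mk_surjective a
    refine ⟨hp, Ideal.Quotient.mk _ (Ideal.Quotient.mk R a), ?_⟩
    ext s
    obtain ⟨s, rfl⟩ := Ideal.Quotient.mk_surjective s
    have e1 : Ideal.Quotient.mk R s ∈ p ↔ s ∈ P := by rw [← hpP, Ideal.mem_comap]
    rw [e1, ha, Submodule.mem_colon_singleton, Submodule.mem_bot, Submodule.mem_colon_singleton,
      Submodule.mem_bot]
    have e2 : s • (Ideal.Quotient.mk (R ⊔ Ideal.span (Set.range f)) a) = 0 ↔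
        s * a ∈ R ⊔ Ideal.span (Set.range f) := by
      rw [← Ideal.Quotient.eq_zero_iff_mem]
      rfl
    have e3 : (Ideal.Quotient.mk R s) • (Ideal.Quotient.mk (Ideal.map (Ideal.Quotient.mk R)
        (R ⊔ Ideal.span (Set.range f))) (Ideal.Quotient.mk R a)) = 0 ↔
        Ideal.Quotient.mk R (s * a) ∈ Ideal.map (Ideal.Quotient.mk R)
          (R ⊔ Ideal.span (Set.range f)) := by
      rw [← Ideal.Quotient.eq_zero_iff_mem, map_mul]
      rfl
    rw [e2, e3, ← Ideal.mem_comap, Ideal.comap_map_of_surjective _ Ideal.Quotient.mk_surjective,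
      ← RingHom.ker_eq_comap_bot, Ideal.mk_ker, sup_eq_left.mpr le_sup_left]

end Groth.Agent.S5060
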