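import Groth.Statements.S5063
import Groth.Agent.S2756
import Groth.Agent.S9555

set_option autoImplicit false
open CategoryTheory CategoryTheory.Limits AlgebraicGeometry
universe u
open Unram

namespace Groth.Agent.S5063

/-- Let f : X ⟶ Y be locally of finite presentation. If f is unramified then there are étale morphisms
g_a : Y'_a ⟶ Y and opens U_a of the fibre products X ×_Y Y'_a whose images under the first
projections cover X, such that each U_a ⟶ Y'_a (inclusion followed by the second projection) is a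
closed immersion. Conversely, the existence of such a family with the g_a only assumed flat implies
that f is unramified. -/
theorem result {X Y : Scheme.{u}} (f : X ⟶ Y) [LocallyOfFinitePresentation f] :
    (FormallyUnramified f → ∃ (ι : Type u) (Y' : ι → Scheme.{u}) (g : ∀ a, Y' a ⟶ Y) (U : ∀ a, (pullback f (g a)).Opens),
      (∀ a, Etale (g a)) ∧ (∀ x : X, ∃ a, x ∈ (pullback.fst f (g a)).base '' (U a : Set ↥(pullback f (g a)))) ∧
        ∀ a, IsClosedImmersion ((U a).ι ≫ pullback.snd f (g a))) ∧
    ((∃ (ι : Type u) (Y' : ι → Scheme.{u}) (g : ∀ a, Y' a ⟶ Y) (U : ∀ a, (pullback f (g a)).Opens),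
      (∀ a, Flat (g a)) ∧ (∀ x : X, ∃ a, x ∈ (pullback.fst f (g a)).base '' (U a : Set ↥(pullback f (g a)))) ∧
        ∀ a, IsClosedImmersion ((U a).ι ≫ pullback.snd f (g a))) → FormallyUnramified f) := by
  constructor
  · intro hE
    have key : ∀ x : X, ∃ (Y' : Scheme.{u}) (g : Y' ⟶ Y) (V : (pullback f g).Opens), Etale g ∧
        x ∈ (pullback.fst f g).base '' (V : Set ↑(pullback f g)) ∧
        IsClosedImmersion (V.ι ≫ pullback.snd f g) := by
      intro x
      obtain ⟨Y', g, y', hg, hy', K, -, lab, V, h1, -, h3⟩ := Groth.Agent.S9555.result f (f x)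
        (fun _ : PUnit.{1} => x) (fun _ _ _ => rfl) (fun _ => rfl)
        (fun _ => ⟨⊤, trivial, inferInstance, IsZariskiLocalAtSource.comp (P := @FormallyUnramified) hE _⟩)
      obtain ⟨w, hw1, hw2⟩ := Scheme.Pullback.exists_preimage_pullback (f := f) (g := g) x y' hy'.symm
      obtain ⟨k, -, hk⟩ := h3 w PUnit.unit hw2 hw1
      exact ⟨Y', g, V k, hg, ⟨w, hk, hw1⟩, (h1 k).1⟩
    choose Y' g V hg hx hV using key
    exact ⟨X, Y', g, V, hg, fun x => ⟨x, hx x⟩, hV⟩
  · rintro ⟨ι, Y', g, U, hg, hcov, hU⟩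
    have key : ∀ x : X, ∃ V : X.Opens, x ∈ V ∧ FormallyUnramified (V.ι ≫ f) := by
      intro x
      obtain ⟨a, x', hx', rfl⟩ := hcov x
      have := hU a
      exact Groth.Agent.S2756.result f (g a) x' ⟨U a, hx', inferInstance⟩
    choose V hxV hV using key
    rw [IsZariskiLocalAtSource.iff_of_iSup_eq_top (P := @FormallyUnramified) V (eq_top_iff.2 fun x _ =>
      TopologicalSpace.Opens.mem_iSup.2 ⟨x, hxV x⟩)]
    exact hV

end Groth.Agent.S5063
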