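import Groth.Statements.S5064
import Groth.Agent.S2758

set_option autoImplicit false
open CategoryTheory CategoryTheory.Limits AlgebraicGeometry
universe u
open Unram

namespace Groth.Agent.S5064

/-- Let f : X ⟶ Y be locally of finite presentation. If f is étale then there are étale morphisms g_a :
Y'_a ⟶ Y and opens U_a of the fibre products X ×_Y Y'_a whose images under the first projections
cover X, such that each U_a ⟶ Y'_a (inclusion followed by the second projection) is an open
immersion. Conversely, the existence of such a family with the g_a only assumed flat implies that f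
is étale. -/
theorem result {X Y : Scheme.{u}} (f : X ⟶ Y) [LocallyOfFinitePresentation f] :
    (Etale f → ∃ (ι : Type u) (Y' : ι → Scheme.{u}) (g : ∀ a, Y' a ⟶ Y) (U : ∀ a, (pullback f (g a)).Opens),
      (∀ a, Etale (g a)) ∧ (∀ x : X, ∃ a, x ∈ (pullback.fst f (g a)).base '' (U a : Set ↥(pullback f (g a)))) ∧
        ∀ a, IsOpenImmersion ((U a).ι ≫ pullback.snd f (g a))) ∧
    ((∃ (ι : Type u) (Y' : ι → Scheme.{u}) (g : ∀ a, Y' a ⟶ Y) (U : ∀ a, (pullback f (g a)).Opens),
      (∀ a, Flat (g a)) ∧ (∀ x : X, ∃ a, x ∈ (pullback.fst f (g a)).base '' (U a : Set ↥(pullback f (g a)))) ∧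
        ∀ a, IsOpenImmersion ((U a).ι ≫ pullback.snd f (g a))) → Etale f) := by
  constructor
  · intro hE
    refine ⟨PUnit, fun _ => X, fun _ => f, fun _ => (pullback.diagonal f).opensRange, fun _ => hE,
      fun x => ⟨PUnit.unit, (pullback.diagonal f).base x, ⟨x, rfl⟩, ?_⟩, fun _ => ?_⟩
    · change (pullback.fst f f) (pullback.diagonal f x) = x
      rw [← Scheme.Hom.comp_apply, pullback.diagonal_fst]
      rfl
    · have h : (pullback.diagonal f).opensRange.ι ≫ pullback.snd f f =
          (pullback.diagonal f).isoOpensRange.inv := by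
        rw [← cancel_epi (pullback.diagonal f).isoOpensRange.hom, Iso.hom_inv_id,
          Scheme.Hom.isoOpensRange_hom_ι_assoc, pullback.diagonal_snd]
      rw [h]
      infer_instance
  · rintro ⟨ι, Y', g, U, hg, hcov, hU⟩
    have key : ∀ x : X, ∃ V : X.Opens, x ∈ V ∧ Etale (V.ι ≫ f) := by
      intro x
      obtain ⟨a, x', hx', rfl⟩ := hcov x
      have := hg a
      have := hU a
      exact Groth.Agent.S2758.result f (g a) x' (Flat.stalkMap (g a) _) ⟨U a, hx', inferInstance⟩
    choose V hxV hV using key
    rw [IsZariskiLocalAtSource.iff_of_iSup_eq_top (P := @Etale) V (eq_top_iff.2 fun x _ =>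
      TopologicalSpace.Opens.mem_iSup.2 ⟨x, hxV x⟩)]
    exact hV

end Groth.Agent.S5064
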