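import Groth.Statements.S5066
import Groth.Agent.S0526
import Groth.Agent.Hensel.PairLift

set_option autoImplicit false
universe u
open Hensel

namespace Groth.Agent.S5066

/-- Case of a local ring, affine étale schemes: a local ring A with maximal ideal m is henselian if and
only if, for every finite A-algebra C and every étale A-algebra E, composing with the projection C →
C/mC is a bijection from the set of A-algebra homomorphisms E → C onto the set of A-algebra
homomorphisms E → C/mC. -/
theorem result (A : Type u) [CommRing A] [IsLocalRing A] :
    HenselianLocalRing A ↔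
      ∀ (C : Type u) [CommRing C] [Algebra A C] [Module.Finite A C] (E : Type u) [CommRing E] [Algebra A E] [Algebra.Etale A E],
        Function.Bijective (fun φ : E →ₐ[A] C =>
          (Ideal.Quotient.mkₐ A (Ideal.map (algebraMap A C) (IsLocalRing.maximalIdeal A))).comp φ) := by
  constructor
  · intro hA C _ _ _ E _ _ _
    haveI : HenselianRing C (Ideal.map (algebraMap A C) (IsLocalRing.maximalIdeal A)) :=
      Groth.Agent.S0526.result A (IsLocalRing.maximalIdeal A) C
    have key : ∀ σ : E →ₐ[A] C ⧸ Ideal.map (algebraMap A C) (IsLocalRing.maximalIdeal A),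
        ∃! f : E →ₐ[A] C, (Ideal.Quotient.mkₐ A _).comp f = σ := fun σ =>
      Groth.Agent.Hensel.PairLift.existsUnique_algHom_lift _ σ
    exact Function.bijective_iff_existsUnique _ |>.mpr key
  · intro h
    have h5 : HenselianRing A (IsLocalRing.maximalIdeal A) := by
      rw [Groth.Agent.S0523.result]
      intro E _ _ _ σ
      have hid : Ideal.map (algebraMap A A) (IsLocalRing.maximalIdeal A) =
          IsLocalRing.maximalIdeal A := Ideal.map_id _
      have h1 := (h A E).2
      rw [hid] at h1
      exact h1 σ
    exact ⟨fun f hf a₀ h6 h7 ↦ h5.is_henselian f hf a₀ h6 (h7.map _)⟩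

end Groth.Agent.S5066
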