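import Groth.Statements.S5067
import Groth.Agent.Unram.K147.GenPts
import Groth.Agent.Etbase.TopInv
import Mathlib.AlgebraicGeometry.Morphisms.Separated

set_option autoImplicit false
open CategoryTheory AlgebraicGeometry
universe u
open Unram

namespace Groth.Agent.S5067

/-- Let f : X ⟶ Y be an étale separated morphism of integral schemes which maps the generic point of X
to the generic point of Y and induces a bijection between the residue fields of the generic points
(f is birational). Then f is an open immersion. -/
theorem result {X Y : Scheme.{u}} [IsIntegral X] [IsIntegral Y]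
    (f : X ⟶ Y) [Etale f] [IsSeparated f] (hgen : f.base (genericPoint X) = genericPoint Y)
    (hbir : Function.Bijective (f.residueFieldMap (genericPoint X)).hom) : IsOpenImmersion f := by
  have hmono : Mono (X.fromSpecResidueField (genericPoint X) ≫ f) := by
    rw [← Scheme.Hom.SpecMap_residueFieldMap_fromSpecResidueField]
    have h1 : IsIso (f.residueFieldMap (genericPoint X)) := by
      rw [ConcreteCategory.isIso_iff_bijective]
      exact hbir
    infer_instance
  have hdiag : Surjective (Limits.pullback.diagonal f) := by
    refine ⟨fun w => ?_⟩
    -- a maximal generization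
    obtain ⟨w', hw', hmax⟩ : ∃ w' : ↥(Limits.pullback f f), w' ⤳ w ∧ ∀ w'', w'' ⤳ w' → w'' = w' := by
      let c : irreducibleComponents ↥(Limits.pullback f f) :=
        ⟨irreducibleComponent w, irreducibleComponent_mem_irreducibleComponents w⟩
      refine ⟨(genericPoints.ofComponent c).1, ?_, ?_⟩
      · rw [specializes_iff_mem_closure, (genericPoints.isGenericPoint_ofComponent c).def]
        exact mem_irreducibleComponent
      · exact (K147.GenPts.closure_mem_iff _).mp (genericPoints.ofComponent c).2
    have h1 : Limits.pullback.fst f f w' = genericPoint X :=
      (K147.GenPts.apply_of_maximal (Limits.pullback.fst f f) w' hmax _ (genericPoint_specializes _)).symm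
    have h2 : Limits.pullback.snd f f w' = genericPoint X :=
      (K147.GenPts.apply_of_maximal (Limits.pullback.snd f f) w' hmax _ (genericPoint_specializes _)).symm
    let P := Limits.pullback f f
    have key : ∀ (φ : P ⟶ X) (x : X), φ w' = x → ∃ a : Spec (P.residueField w') ⟶ Spec (X.residueField x),
        a ≫ X.fromSpecResidueField x = P.fromSpecResidueField w' ≫ φ := by
      rintro φ _ rfl
      exact ⟨_, φ.SpecMap_residueFieldMap_fromSpecResidueField w'⟩
    obtain ⟨a, ha⟩ := key (Limits.pullback.fst f f) _ h1
    obtain ⟨b, hb⟩ := key (Limits.pullback.snd f f) _ h2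
    have hab : a = b := by
      rw [← cancel_mono (X.fromSpecResidueField (genericPoint X) ≫ f), ← Category.assoc, ← Category.assoc,
        ha, hb, Category.assoc, Category.assoc, Limits.pullback.condition]
    have h3 : P.fromSpecResidueField w' = (a ≫ X.fromSpecResidueField _) ≫ Limits.pullback.diagonal f := by
      apply Limits.pullback.hom_ext
      · rw [Category.assoc, Category.assoc, Limits.pullback.diagonal_fst, Category.comp_id, ha]
      · rw [Category.assoc, Category.assoc, Limits.pullback.diagonal_snd, Category.comp_id, hab, hb]
    have h4 : w' ∈ Set.range (Limits.pullback.diagonal f) := by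
      let z : Spec (P.residueField w') := IsLocalRing.closedPoint _
      have h5 : P.fromSpecResidueField w' z = w' := Scheme.fromSpecResidueField_apply _ _
      rw [← h5, h3, Scheme.Hom.comp_apply]
      exact ⟨_, rfl⟩
    have h5 : IsClosed (Set.range (Limits.pullback.diagonal f)) :=
      (Limits.pullback.diagonal f).isClosedEmbedding.isClosed_range
    exact hw'.mem_closed h5 h4
  have h2 : IsOpenImmersion (Limits.pullback.diagonal f) := inferInstance
  have h3 : IsIso (Limits.pullback.diagonal f) :=
    (isIso_iff_isOpenImmersion_and_surjective _).mpr ⟨h2, hdiag⟩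
  have h4 : Mono f := (Limits.pullback.isIso_diagonal_iff f).mp h3
  exact IsOpenImmersion.of_flat_of_mono f

end Groth.Agent.S5067
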