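import Groth.Statements.S5068
import Groth.Agent.Models.AvramovFlat
import Groth.Agent.CInt.K138.TransFlat

set_option autoImplicit false
universe u
open CInt

namespace Groth.Agent.S5068

open IsLocalRing RingTheory.Sequence K138.TransFlat

theorem flat_take {A C : Type u} [CommRing A] [IsLocalRing A] [IsNoetherianRing A] [CommRing C]
    [IsLocalRing C] [IsNoetherianRing C] [Algebra A C] [IsLocalHom (algebraMap A C)]
    (rs : List C) : ∀ (I : Ideal C) (_ : IsWeaklyRegular (C ⧸ I) rs)
      (_ : ∀ r ∈ rs, r ∈ maximalIdeal C) (_ : Module.Flat A (C ⧸ (I ⊔ Ideal.ofList rs))) (j : ℕ),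
      Module.Flat A (C ⧸ (I ⊔ Ideal.ofList (rs.take j))) := by
  induction rs with
  | nil =>
    intro I _ _ h j
    rw [List.take_nil]
    exact h
  | cons x rs ih =>
    intro I hreg hmem hfl j
    rw [isWeaklyRegular_cons_quot] at hreg
    rw [sup_ofList_cons] at hfl
    have h1 := ih _ hreg.2 (fun r hr => hmem r (List.mem_cons_of_mem _ hr)) hfl
    rcases j with _ | j
    · rw [List.take_zero, Ideal.ofList_nil, sup_bot_eq]
      have h2 := h1 0
      rw [List.take_zero, Ideal.ofList_nil, sup_bot_eq] at h2
      obtain ⟨e⟩ := exists_quotSMulTopEquiv I x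
      have h3 : Module.Flat A (QuotSMulTop x (C ⧸ I)) :=
        Module.Flat.of_linearEquiv (e.restrictScalars A)
      exact Groth.Agent.Models.RegFibre.flat_of_quotSMulTop (R := A) (S := C) (M := C ⧸ I) x
        (hmem x (by simp)) hreg.1
    · rw [List.take_succ_cons, sup_ofList_cons]
      exact h1 j

theorem core {A C B : Type u} [CommRing A] [IsLocalRing A]
    [IsNoetherianRing A] [CommRing C] [IsLocalRing C] [IsNoetherianRing C] [Algebra A C]
    [IsLocalHom (algebraMap A C)] [Module.Flat A C] (hreg : IsRegularLocalRing (EGA4.FibRing A C))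
    [CommRing B] [IsLocalRing B] [Algebra A B] [IsLocalHom (algebraMap A B)]
    (g : C →ₐ[A] B) (hg : Function.Surjective g) :
    (∃ rs : List C, Ideal.ofList rs = RingHom.ker g ∧ RegImm.IsTransRegularSeq A C rs) ↔
      (Module.Flat A B ∧ Pi1.IsCompleteIntersection (EGA4.FibRing A B)) := by
  have hkm : RingHom.ker g ≤ maximalIdeal C :=
    IsLocalRing.le_maximalIdeal (RingHom.ker_ne_top _)
  let e : (C ⧸ RingHom.ker g) ≃ₐ[A] B := Ideal.quotientKerAlgEquivOfSurjective hg
  have key : Module.Flat A B → ((∃ rs : List C, Ideal.ofList rs = RingHom.ker g ∧ IsRegular C rs) ↔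
      Pi1.IsCompleteIntersection (EGA4.FibRing A B)) := fun hB => by
    have i1 : IsRegularLocalRing (C ⧸ (maximalIdeal A).map (algebraMap A C)) := hreg
    exact Groth.Agent.Models.AvramovFlat.ker_regGen_iff_fibre g hg
  clear hreg
  constructor
  · rintro ⟨rs, hrs, hreg, hfl⟩
    have h1 := hfl rs.length le_rfl
    rw [List.take_length, hrs] at h1
    have hB : Module.Flat A B := Module.Flat.of_linearEquiv e.symm.toLinearEquiv
    refine ⟨hB, (key hB).mp ?_⟩
    exact ⟨rs, hrs, (isRegular_iff_isWeaklyRegular_of_subset_maximalIdeal fun r hr =>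
      hkm (by rw [← hrs]; exact Ideal.subset_span hr)).mpr hreg⟩
  · rintro ⟨hB, hCI⟩
    obtain ⟨rs, hrs, hreg⟩ := (key hB).mpr hCI
    refine ⟨rs, hrs, hreg.toIsWeaklyRegular, fun j _ => ?_⟩
    have e0 : (C ⧸ (⊥ : Ideal C)) ≃ₗ[C] C := Submodule.quotEquivOfEqBot _ rfl
    have h1 := flat_take (A := A) rs ⊥ ((e0.isWeaklyRegular_congr rs).mpr hreg.toIsWeaklyRegular)
      (fun r hr => hkm (by rw [← hrs]; exact Ideal.subset_span hr)) (by
        rw [bot_sup_eq, hrs]
        exact Module.Flat.of_linearEquiv e.toLinearEquiv) j
    rwa [bot_sup_eq] at h1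

/-- Suppose A and C are Noetherian local rings joined by a flat local homomorphism A → C whose closed
fibre C/m_A C is a regular local ring, and consider a local ring B obtained as a quotient of C by an
ideal J (encoded as a surjective C-algebra B, with J taken to be the kernel). The ideal J admits a
generating sequence that is transversally regular relative to A (each term a non-zero-divisor modulo
the previous ones, and every partial quotient C/(f_1, …, f_j) A-flat) exactly when two things hold:
B is A-flat, and B/m_A B is a complete intersection (meaning its completion is a regular local ring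
divided by a regular sequence). -/
theorem result (A C B : Type u) [CommRing A] [IsLocalRing A]
    [IsNoetherianRing A] [CommRing C] [IsLocalRing C] [IsNoetherianRing C] [Algebra A C] [IsLocalHom (algebraMap A C)]
    [Module.Flat A C] (hreg : IsRegularLocalRing (EGA4.FibRing A C))
    [CommRing B] [IsLocalRing B] [Algebra C B] [Algebra A B] [IsScalarTower A C B] [IsLocalHom (algebraMap A B)]
    (hsurj : Function.Surjective (algebraMap C B)) :
    (∃ rs : List C, Ideal.ofList rs = RingHom.ker (algebraMap C B) ∧ RegImm.IsTransRegularSeq A C rs) ↔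
      (Module.Flat A B ∧ Pi1.IsCompleteIntersection (EGA4.FibRing A B)) := by
  have hcore : ∀ g : C →ₐ[A] B, Function.Surjective g →
      ((∃ rs : List C, Ideal.ofList rs = RingHom.ker g ∧ RegImm.IsTransRegularSeq A C rs) ↔
        (Module.Flat A B ∧ Pi1.IsCompleteIntersection (EGA4.FibRing A B))) := by
    intro g hg
    exact core hreg g hg
  exact hcore (IsScalarTower.toAlgHom A C B) hsurj

end Groth.Agent.S5068
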