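import Groth.Statements.S5069
import Mathlib.RingTheory.KrullDimension.Zero
import Mathlib.RingTheory.HopkinsLevitzki
import Mathlib.RingTheory.Artinian.Ring

set_option autoImplicit false
universe u v
open Hensel

namespace Groth.Agent.S5069

/-- First assertion, phrased for the images of the inductive system: let B be a Noetherian commutative
ring and (C_i) a family of Artinian subrings of B, directed under inclusion, whose union is B. Then
B is an Artinian ring. -/
theorem result (B : Type u) [CommRing B] [IsNoetherianRing B]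
    {ι : Type v} [Nonempty ι] (C : ι → Subring B) (hdir : Directed (fun a b => a ≤ b) C)
    (hart : ∀ i, IsArtinianRing ↥(C i)) (hcov : ∀ b : B, ∃ i, b ∈ C i) : IsArtinianRing B := by
  rw [isArtinianRing_iff_isNoetherianRing_krullDimLE_zero]
  refine ⟨inferInstance, Ring.KrullDimLE.mk₀ fun P hP => ?_⟩
  have key : ∀ b : B, b ∉ P → ∃ c : B, c * b - 1 ∈ P := by
    intro b hb
    obtain ⟨i, hi⟩ := hcov b
    have := hart i
    let p : Ideal (C i) := P.comap (C i).subtype
    have hp : p.IsPrime := Ideal.IsPrime.comap _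
    have hpm : p.IsMaximal := IsArtinianRing.isMaximal_of_isPrime p
    have hb' : (⟨b, hi⟩ : C i) ∉ p := hb
    obtain ⟨y, hy⟩ := hpm.exists_inv hb'
    refine ⟨(y : B), ?_⟩
    obtain ⟨z, hz, hyz⟩ := hy
    have h1 : (y : B) * b + (z : B) = 1 := congrArg (C i).subtype hyz
    have h2 : (y : B) * b - 1 = - (z : B) := by linear_combination h1
    rw [h2]
    exact P.neg_mem hz
  refine Ideal.isMaximal_iff.mpr ⟨fun h => hP.ne_top ((Ideal.eq_top_iff_one _).mpr h), ?_⟩
  intro J x hPJ hx hxJ
  obtain ⟨c, hc⟩ := key x hx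
  have h1 : (1 : B) = c * x - (c * x - 1) := by ring
  rw [h1]
  exact J.sub_mem (J.mul_mem_left _ hxJ) (hPJ hc)

end Groth.Agent.S5069
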