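import Groth.Statements.S5071
import Groth.Agent.CInt.K138.TransFlat2

set_option autoImplicit false
universe u
open CInt

namespace Groth.Agent.S5071

/-- Let B be an A-algebra and J an ideal of B generated by a sequence which is transversally regular
relative to A. Then for n < m the module J^n/J^m is flat over A, and for every prime q of B
containing J the localisation (J^n)_q is flat over A (modules regarded as A-modules by restriction
of scalars). -/
theorem result (A B : Type u) [CommRing A] [CommRing B] [Algebra A B]
    (rs : List B) (hrs : RegImm.IsTransRegularSeq A B rs) (n m : ℕ) (hnm : n < m) :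
    Module.Flat A (RestrictScalars A B
      (↥(Ideal.ofList rs ^ n) ⧸ (Submodule.comap (Ideal.ofList rs ^ n).subtype (Ideal.ofList rs ^ m)))) ∧
      ∀ (q : Ideal B) [q.IsPrime], Ideal.ofList rs ≤ q →
        Module.Flat A (RestrictScalars A B (LocalizedModule q.primeCompl ↥(Ideal.ofList rs ^ n))) := by
  obtain ⟨hreg, hflat⟩ := hrs
  have h0 : Module.Flat A B := by
    have h := hflat 0 (Nat.zero_le _)
    rw [List.take_zero, Ideal.ofList_nil] at h
    exact Module.Flat.of_linearEquiv
      ((AlgEquiv.quotientBot A B).toLinearEquiv).symm
  have h1 : Module.Flat A (B ⧸ Ideal.ofList rs) := by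
    have h := hflat rs.length le_rfl
    rwa [List.take_length] at h
  have hpow := K138.TransFlat.flat_quot_pow rs hreg h1
  refine ⟨K138.TransFlat2.flat_restrictScalars _
    (K138.TransFlat2.flat_pow_quot _ n m hnm.le (hpow n) (hpow m)), fun q _ _ => ?_⟩
  have h2 := K138.TransFlat2.flat_pow (A := A) (Ideal.ofList rs ^ n) h0 (hpow n)
  exact K138.TransFlat2.flat_restrictScalars _ (K138.TransFlat2.flat_localized q.primeCompl _ _
    (LocalizedModule.mkLinearMap q.primeCompl ↥(Ideal.ofList rs ^ n)) h2)

end Groth.Agent.S5071
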