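import Groth.Statements.S5072
import Groth.Agent.Hensel.K140.LocalEpi
import Groth.Agent.Hensel.K141.FiniteLoc
import Groth.Agent.Hensel.K141.TensorLoc
import Groth.Agent.S0505

set_option autoImplicit false
open scoped TensorProduct
universe u
open Hensel

namespace Groth.Agent.S5072

attribute [local instance] Algebra.TensorProduct.rightAlgebra

open IsLocalRing in
theorem aux (A B S T : Type u) [CommRing A] [IsLocalRing A]
    [CommRing B] [IsLocalRing B] [Algebra A B] [Module.Finite A B] [IsLocalHom (algebraMap A B)]
    [CommRing S] [IsLocalRing S] [Algebra A S] [IsLocalHom (algebraMap A S)] [Hensel.IsStrictHenselization A S]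
    [CommRing T] [IsLocalRing T] [Algebra B T] [IsLocalHom (algebraMap B T)] [Hensel.IsStrictHenselization B T] :
    ∃ (q : Ideal (B ⊗[A] S)) (_ : q.IsMaximal), Nonempty (Localization.AtPrime q ≃ₐ[B] T) := by
  obtain ⟨g, hgl, hg⟩ := K140.LocalEpi.exists_map_strictHenselization A B S T
  have hS : HenselianLocalRing S := Hensel.IsStrictHenselization.henselian A
  obtain ⟨hsc, -⟩ := (isSepClosure_iff).mp (Hensel.IsStrictHenselization.isSepClosure
      (R := A) (S := S))
  let _ : Algebra A T := ((algebraMap B T).comp (algebraMap A B)).toAlgebra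
  have _ : IsScalarTower A B T := IsScalarTower.of_algebraMap_eq fun x => rfl
  let g' : S →ₐ[A] T := { g with commutes' := fun a => congr($hg a) }
  let φ : B ⊗[A] S →ₐ[A] T := Algebra.TensorProduct.lift (IsScalarTower.toAlgHom A B T) g'
    (fun _ _ => .all _ _)
  have hφB : ∀ b : B, φ (b ⊗ₜ 1) = algebraMap B T b := fun b => by simp [φ]
  have hφS : ∀ s : S, φ (1 ⊗ₜ s) = g s := fun s => by simp [φ, g']
  let Q : Ideal (B ⊗[A] S) := (maximalIdeal T).comap φ.toRingHom
  have hQ : Q.IsPrime := Ideal.IsPrime.comap _
  have hfin : Module.Finite S (B ⊗[A] S) :=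
    Module.Finite.equiv (Algebra.TensorProduct.commRight A S B).toLinearEquiv
  have hlo : Q.LiesOver (maximalIdeal S) := by
    constructor
    ext s
    change _ ↔ φ (1 ⊗ₜ s) ∈ maximalIdeal T
    rw [hφS, K141.LocUniv.mem_max_iff g]
  have hQm : Q.IsMaximal := Ideal.isMaximal_of_isIntegral_of_isMaximal_comap (R := S) Q
    (by
      have := hlo.over
      rw [Ideal.under] at this
      rw [← this]
      infer_instance)
  let D := Localization.AtPrime Q
  have hDfin : Module.Finite S D := K141.FiniteLoc.finite_localization Q
  have hDh : HenselianLocalRing D := Groth.Agent.S0505.result S D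
  have hSD : IsLocalHom (algebraMap S D) := by
    apply K141.LocUniv.isLocalHom_of_map_le
    rw [Ideal.map_le_iff_le_comap]
    intro s hs
    rw [Ideal.mem_comap, IsScalarTower.algebraMap_apply S (B ⊗[A] S) D,
      IsLocalization.AtPrime.to_map_mem_maximal_iff D Q]
    rw [hlo.over] at hs
    exact hs
  have hDsc : IsSepClosed (ResidueField D) := K141.FiniteLoc.isSepClosed_of_isIntegral S D
  -- the map `D → T`
  obtain ⟨h, hh, hhl⟩ := K141.LocUniv.exists_lift_loc Q φ.toRingHom (fun x => Iff.rfl)
  let _ : Algebra D T := h.toAlgebra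
  have _ : IsLocalHom (algebraMap D T) := hhl
  let j : B →+* D := (algebraMap (B ⊗[A] S) D).comp (algebraMap B (B ⊗[A] S))
  have hj : (algebraMap D T).comp j = algebraMap B T := by
    ext b
    change h (algebraMap (B ⊗[A] S) D (b ⊗ₜ 1)) = _
    have := congr($hh (b ⊗ₜ 1))
    rw [RingHom.comp_apply] at this
    rw [this]
    exact hφB b
  have hT : Hensel.IsStrictHenselization D T := by
    refine K140.LocalEpi.isStrictHenselization_of_epi (A := A) (B := B) (S := S) D
      (algebraMap S D) j hj ?_ ?_
    · ext a
      change algebraMap S D (algebraMap A S a) = algebraMap (B ⊗[A] S) D (algebraMap A B a ⊗ₜ 1)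
      rw [IsScalarTower.algebraMap_apply S (B ⊗[A] S) D]
      congr 1
      change (1 : B) ⊗ₜ[A] algebraMap A S a = _
      rw [← Algebra.TensorProduct.algebraMap_apply, ← Algebra.TensorProduct.algebraMap_apply']
    · intro T' _ f f' h1 h2
      apply IsLocalization.ringHom_ext Q.primeCompl
      apply Algebra.TensorProduct.ringHom_ext
      · exact h2
      · ext s
        have h3 := congr($h1 s)
        rw [RingHom.comp_apply, RingHom.comp_apply, IsScalarTower.algebraMap_apply S (B ⊗[A] S) D]
          at h3
        exact h3
  have hbij := K141.TensorLoc.bijective_algebraMap_of_isStrictHenselization D T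
  refine ⟨Q, hQm, ⟨AlgEquiv.ofBijective { h with commutes' := fun b => ?_ } hbij⟩⟩
  exact congr($hj b)

/-- Case of a local ring A and a local finite A-algebra B: let S be a strict henselization of A and T a
strict henselization of B. Then there is a maximal ideal q of B ⊗_A S such that T is isomorphic, as
a B-algebra, to the local ring (B ⊗_A S)_q. -/
theorem result (A B S T : Type u) [CommRing A] [IsLocalRing A]
    [CommRing B] [IsLocalRing B] [Algebra A B] [Module.Finite A B]
    [CommRing S] [IsLocalRing S] [Algebra A S] [IsLocalHom (algebraMap A S)] [Hensel.IsStrictHenselization A S]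
    [CommRing T] [IsLocalRing T] [Algebra B T] [IsLocalHom (algebraMap B T)] [Hensel.IsStrictHenselization B T] :
    ∃ (q : Ideal (B ⊗[A] S)) (_ : q.IsMaximal), Nonempty (Localization.AtPrime q ≃ₐ[B] T) := by
  have : IsLocalHom (algebraMap A B) := by
    have h1 : ((IsLocalRing.maximalIdeal B).comap (algebraMap A B)).IsMaximal :=
      Ideal.isMaximal_comap_of_isIntegral_of_isMaximal _
    have h2 := IsLocalRing.eq_maximalIdeal h1
    apply K141.LocUniv.isLocalHom_of_map_le
    rw [Ideal.map_le_iff_le_comap, h2]
  exact aux A B S T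

end Groth.Agent.S5072
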