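import Groth.Statements.S5074
import Groth.Agent.EGA418.K148.GeomRegFree

set_option autoImplicit false
universe u
open EGA418

namespace Groth.Agent.S5074

/-- Let k be a field of characteristic exponent p such that k is finite over k^p (the Frobenius
endomorphism of k is a finite ring map), A a complete Noetherian local k-algebra whose residue field
is a finite extension of k, and P a prime ideal of A such that A_P is geometrically regular over k.
Then for every minimal prime q of A contained in P (there is exactly one), the A_P-module obtained
by localising at P the completion of the module of differentials of A over k is free of rank equal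
to dim(A/q). -/
theorem result (p : ℕ) (k A : Type u) [Field k] [ExpChar k p]
    (hk : (frobenius k p).Finite) [CommRing A] [IsLocalRing A] [IsNoetherianRing A] [Algebra k A]
    [IsAdicComplete (IsLocalRing.maximalIdeal A) A] [Module.Finite k (IsLocalRing.ResidueField A)]
    (P : Ideal A) [P.IsPrime] (hP : CAlg.IsGeometricallyRegular k (Localization.AtPrime P))
    (q : Ideal A) (hq : q ∈ minimalPrimes A) (hqP : q ≤ P) (n : ℕ) (hn : ringKrullDim (A ⧸ q) = n) :
    Module.Free (Localization.AtPrime P) (LocalizedModule P.primeCompl (AdicCompletion (IsLocalRing.maximalIdeal A) (KaehlerDifferential k A))) ∧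
      Module.finrank (Localization.AtPrime P) (LocalizedModule P.primeCompl (AdicCompletion (IsLocalRing.maximalIdeal A) (KaehlerDifferential k A))) = n := by
  rcases ‹ExpChar k p› with _ | hprime
  · have hreg : IsRegularLocalRing (Localization.AtPrime P) := by
      have := Groth.Agent.CalgC.PopGlue.isRegularRing_of_isGeometricallyRegular hP
      exact IsRegularLocalRing.of_isRegularRing_of_isLocalRing _
    exact K148.GeomRegFree.perfect_case k A P hreg q hq hqP n hn
  · have hp : Fact p.Prime := ⟨hprime⟩
    exact K148.GeomRegFree.charP_case p k A hk P hP q hq hqP n hn

end Groth.Agent.S5074
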