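import Groth.Statements.S5076
import Mathlib.RingTheory.Unramified.LocalRing
import Mathlib.RingTheory.Nakayama

set_option autoImplicit false
universe u
open Unram

namespace Groth.Agent.S5076

/-- Let A be a local ring with maximal ideal m, C a finite A-algebra, r a maximal ideal of C, and u an
element of C which lies in every maximal ideal of C other than r, does not lie in r, and whose image
generates C_r modulo m C_r as an A-algebra. Let B = A[u] be the A-subalgebra of C generated by u and
n the inverse image of r in B. Then the canonical homomorphism B_n → C_r is bijective. -/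
theorem result (A C : Type u) [CommRing A] [IsLocalRing A]
    [CommRing C] [Algebra A C] [Module.Finite A C] (r : Ideal C) [r.IsMaximal] (u : C)
    (hu₁ : ∀ r' : Ideal C, r'.IsMaximal → r' ≠ r → u ∈ r') (hu₂ : u ∉ r)
    (hu₃ : Subalgebra.toSubmodule (Algebra.adjoin A {algebraMap C (Localization.AtPrime r) u}) ⊔
        Submodule.restrictScalars A (Ideal.map (algebraMap A (Localization.AtPrime r)) (IsLocalRing.maximalIdeal A)) = ⊤) :
    Function.Bijective (Localization.localRingHom (Ideal.comap (Algebra.adjoin A ({u} : Set C)).val.toRingHom r) r
      (Algebra.adjoin A ({u} : Set C)).val.toRingHom rfl) := by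
  let B := Algebra.adjoin A ({u} : Set C)
  let n : Ideal B := r.comap (algebraMap B C)
  have hn : n.IsPrime := inferInstance
  have hlo : r.LiesOver n := ⟨rfl⟩
  have hfin : Module.Finite B C := Module.Finite.of_restrictScalars_finite A B C
  have hintA : Algebra.IsIntegral A C := inferInstance
  have hint : Algebra.IsIntegral B C := inferInstance
  have hintB : Algebra.IsIntegral A B := by
    refine ⟨fun x => ?_⟩
    have h1 : IsIntegral A (x : C) := hintA.isIntegral _
    exact (isIntegral_algHom_iff B.val Subtype.coe_injective).mp h1
  have hnmax : n.IsMaximal := Ideal.isMaximal_comap_of_isIntegral_of_isMaximal r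
  have huB : u ∈ B := Algebra.self_mem_adjoin_singleton A u
  have hun : (⟨u, huB⟩ : B) ∉ n := hu₂
  have hq : n.primesOver C = {r} := by
    ext Q
    simp only [Set.mem_singleton_iff]
    constructor
    · rintro ⟨hQ, hQn⟩
      have hQmax : Q.IsMaximal := by
        refine Ideal.isMaximal_of_isIntegral_of_isMaximal_comap (R := B) Q ?_
        have : Q.comap (algebraMap B C) = n := hQn.over.symm
        rw [this]; exact hnmax
      by_contra hne
      have h1 : u ∈ Q := hu₁ Q hQmax hne
      apply hun
      rw [hQn.over]
      exact h1
    · rintro rfl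
      exact ⟨inferInstance, hlo⟩
  let i1 : Algebra (Localization.AtPrime n) (Localization.AtPrime r) :=
    Localization.AtPrime.algebraOfLiesOver n r
  have i2 : Localization.AtPrime.IsLiesOverAlgebra n r := ⟨rfl⟩
  have hinj : Function.Injective (Localization.localRingHom n r (algebraMap B C) (hq.ge rfl).2.1) :=
    Localization.localRingHom_injective_of_primesOver_eq_singleton hq
  have hfin' : Module.Finite (Localization.AtPrime n) (Localization.AtPrime r) :=
    Localization.finite_of_primesOver_eq_singleton hq
  have hmA : n.comap (algebraMap A B) = IsLocalRing.maximalIdeal A :=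
    IsLocalRing.eq_maximalIdeal (Ideal.isMaximal_comap_of_isIntegral_of_isMaximal n)
  refine ⟨hinj, ?_⟩
  change Function.Surjective (Algebra.linearMap (Localization.AtPrime n) (Localization.AtPrime r))
  rw [← LinearMap.range_eq_top, ← top_le_iff]
  apply Submodule.le_of_le_smul_of_le_jacobson_bot Module.Finite.fg_top (IsLocalRing.maximalIdeal_le_jacobson _)
  rw [Ideal.smul_top_eq_map]
  rintro x -
  have hx : x ∈ Subalgebra.toSubmodule (Algebra.adjoin A {algebraMap C (Localization.AtPrime r) u}) ⊔
        Submodule.restrictScalars A (Ideal.map (algebraMap A (Localization.AtPrime r)) (IsLocalRing.maximalIdeal A)) := by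
    rw [hu₃]; trivial
  obtain ⟨y, hy, z, hz, rfl⟩ := Submodule.mem_sup.mp hx
  refine Submodule.add_mem _ (Submodule.mem_sup_left ?_) (Submodule.mem_sup_right ?_)
  · have h1 : Algebra.adjoin A {algebraMap C (Localization.AtPrime r) u} ≤
        (IsScalarTower.toAlgHom A (Localization.AtPrime n) (Localization.AtPrime r)).range := by
      rw [Algebra.adjoin_le_iff, Set.singleton_subset_iff]
      exact ⟨algebraMap B _ ⟨u, huB⟩, Localization.localRingHom_to_map n r (algebraMap B C) rfl ⟨u, huB⟩⟩
    obtain ⟨w, hw⟩ := h1 hy
    exact ⟨w, hw⟩
  · have h2 : Ideal.map (algebraMap A (Localization.AtPrime r)) (IsLocalRing.maximalIdeal A) ≤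
        Ideal.map (algebraMap (Localization.AtPrime n) (Localization.AtPrime r))
          (IsLocalRing.maximalIdeal (Localization.AtPrime n)) := by
      rw [IsScalarTower.algebraMap_eq A (Localization.AtPrime n) (Localization.AtPrime r), ← Ideal.map_map]
      refine Ideal.map_mono ?_
      rw [Ideal.map_le_iff_le_comap]
      intro a ha
      rw [← hmA] at ha
      rw [Ideal.mem_comap, IsScalarTower.algebraMap_apply A B]
      exact (IsLocalization.AtPrime.to_map_mem_maximal_iff (Localization.AtPrime n) n _).mpr ha
    exact h2 hz

end Groth.Agent.S5076
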