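import Groth.Statements.S5077
import Mathlib.RingTheory.Kaehler.Polynomial
import Mathlib.RingTheory.Etale.Kaehler
import Mathlib.RingTheory.Unramified.Locus
import Mathlib.RingTheory.Polynomial.Quotient

set_option autoImplicit false
universe u
open Unram

namespace Groth.Agent.S5077

/-- Let A be a local ring and B a finite A-algebra generated by a single element u. Then there is a
monic polynomial F with coefficients in A such that F(u) = 0 and F'(u) does not belong to any
maximal ideal n of B at which B is unramified over A. -/
theorem result (A B : Type u) [CommRing A] [IsLocalRing A]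
    [CommRing B] [Algebra A B] [Module.Finite A B] (u : B) (hu : Algebra.adjoin A ({u} : Set B) = ⊤) :
    ∃ F : Polynomial A, F.Monic ∧ Polynomial.aeval u F = 0 ∧
      ∀ (n : Ideal B) [n.IsMaximal], Algebra.IsUnramifiedAt A n → Polynomial.aeval u (Polynomial.derivative F) ∉ n := by
  classical
  cases subsingleton_or_nontrivial B
  · exact ⟨1, Polynomial.monic_one, Subsingleton.elim _ _, fun n hn _ =>
      (hn.ne_top (Subsingleton.elim _ _)).elim⟩
  have hsurj : Function.Surjective (Polynomial.aeval u : Polynomial A →ₐ[A] B) := by
    rw [← AlgHom.range_eq_top, ← Algebra.adjoin_singleton_eq_range_aeval, hu]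
  have hint : Algebra.IsIntegral A B := inferInstance
  let J : Ideal B := (IsLocalRing.maximalIdeal A).map (algebraMap A B)
  -- polynomials with coefficients in the maximal ideal
  have hJ : ∀ e : Polynomial A, e.map (IsLocalRing.residue A) = 0 → Polynomial.aeval u e ∈ J := by
    intro e he
    rw [Polynomial.aeval_eq_sum_range]
    refine Ideal.sum_mem _ fun i _ => ?_
    rw [Algebra.smul_def]
    refine Ideal.mul_mem_right _ _ (Ideal.mem_map_of_mem _ ?_)
    rw [← IsLocalRing.residue_eq_zero_iff, ← Polynomial.coeff_map, he, Polynomial.coeff_zero]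
  let I : Ideal (Polynomial A) := RingHom.ker (Polynomial.aeval u : Polynomial A →ₐ[A] B)
  have hms : Function.Surjective (Polynomial.mapRingHom (IsLocalRing.residue A)) :=
    Polynomial.map_surjective _ IsLocalRing.residue_surjective
  let g := Submodule.IsPrincipal.generator (I.map (Polynomial.mapRingHom (IsLocalRing.residue A)))
  have hg : g ∈ I.map (Polynomial.mapRingHom (IsLocalRing.residue A)) := Submodule.IsPrincipal.generator_mem _
  obtain ⟨p, hpI, hpg⟩ := (Ideal.mem_map_iff_of_surjective _ hms).mp hg
  have hpu : Polynomial.aeval u p = 0 := hpI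
  have key : ∀ G : Polynomial A, Polynomial.aeval u G = 0 →
      Polynomial.aeval u (Polynomial.derivative G) ∈
        J ⊔ Ideal.span {Polynomial.aeval u (Polynomial.derivative p)} := by
    intro G hG
    have h1 : Polynomial.mapRingHom (IsLocalRing.residue A) G ∈
        I.map (Polynomial.mapRingHom (IsLocalRing.residue A)) := Ideal.mem_map_of_mem _ hG
    obtain ⟨h', hh'⟩ := (Submodule.IsPrincipal.mem_iff_eq_smul_generator _).mp h1
    obtain ⟨h, rfl⟩ := hms h'
    have h2 : (G - h * p).map (IsLocalRing.residue A) = 0 := by
      have h3 : G.map (IsLocalRing.residue A) = h.map (IsLocalRing.residue A) * g := hh'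
      have h4 : p.map (IsLocalRing.residue A) = g := hpg
      rw [Polynomial.map_sub, Polynomial.map_mul, h3, h4, sub_self]
    have h5 : Polynomial.derivative G = Polynomial.derivative (G - h * p) +
        (Polynomial.derivative h * p + h * Polynomial.derivative p) := by
      rw [← Polynomial.derivative_mul, ← map_add, sub_add_cancel]
    rw [h5, map_add, map_add, map_mul, map_mul, hpu, mul_zero, zero_add]
    refine Submodule.add_mem _ (Submodule.mem_sup_left (hJ _ ?_)) (Submodule.mem_sup_right ?_)
    · rw [← Polynomial.derivative_map, h2, map_zero]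
    · exact Ideal.mul_mem_left _ _ (Ideal.subset_span rfl)
  have hkey : ∀ (n : Ideal B) [n.IsMaximal], Algebra.IsUnramifiedAt A n →
      Polynomial.aeval u (Polynomial.derivative p) ∉ n := by
    intro n hn hur hmem
    have hJn : J ≤ n := by
      rw [Ideal.map_le_iff_le_comap]
      exact (IsLocalRing.eq_maximalIdeal (Ideal.isMaximal_comap_of_isIntegral_of_isMaximal (R := A) n)).ge
    set I' : Ideal B := J ⊔ Ideal.span {Polynomial.aeval u (Polynomial.derivative p)} with hI'
    have hI'n : I' ≤ n := sup_le hJn ((Ideal.span_singleton_le_iff_mem _).mpr hmem)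
    -- an element outside of `n` killing `du`
    obtain ⟨s, hs, hsD⟩ : ∃ s : B, s ∉ n ∧ s • KaehlerDifferential.D A B u = 0 := by
      have h1 : Subsingleton (Ω[(Localization.AtPrime n)⁄A]) := hur.1
      have h2 : KaehlerDifferential.map A A B (Localization.AtPrime n) (KaehlerDifferential.D A B u) = 0 :=
        Subsingleton.elim _ _
      obtain ⟨s, hs⟩ := (IsLocalizedModule.eq_zero_iff n.primeCompl
        (KaehlerDifferential.map A A B (Localization.AtPrime n))).mp h2
      exact ⟨s, s.2, hs⟩
    -- the derivation
    let s₀ : B → Polynomial A := Function.surjInv hsurj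
    have hs₀ : ∀ b, Polynomial.aeval u (s₀ b) = b := Function.surjInv_eq hsurj
    have key' : ∀ P Q : Polynomial A, Polynomial.aeval u P = Polynomial.aeval u Q →
        Ideal.Quotient.mk I' (Polynomial.aeval u (Polynomial.derivative P)) =
          Ideal.Quotient.mk I' (Polynomial.aeval u (Polynomial.derivative Q)) := by
      intro P Q hPQ
      rw [← sub_eq_zero, ← map_sub, ← map_sub, ← map_sub, Ideal.Quotient.eq_zero_iff_mem]
      exact key _ (by rw [map_sub, hPQ, sub_self])
    let δ₀ : B →ₗ[A] B ⧸ I' :=
      { toFun := fun b => Ideal.Quotient.mk I' (Polynomial.aeval u (Polynomial.derivative (s₀ b)))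
        map_add' := fun x y => by
          rw [← map_add, ← map_add, ← Polynomial.derivative_add]
          exact key' _ _ (by rw [map_add, hs₀, hs₀, hs₀])
        map_smul' := fun a x => by
          rw [RingHom.id_apply]
          have : a • (Ideal.Quotient.mk I') (Polynomial.aeval u (Polynomial.derivative (s₀ x))) =
              Ideal.Quotient.mk I' (Polynomial.aeval u (Polynomial.derivative (a • s₀ x))) := by
            rw [Polynomial.derivative_smul, map_smul]; rfl
          rw [this]
          exact key' _ _ (by rw [map_smul, hs₀, hs₀]) }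
    let δ : Derivation A B (B ⧸ I') := Derivation.mk' δ₀ (fun x y => by
      have h2 : δ₀ (x * y) = Ideal.Quotient.mk I' (Polynomial.aeval u (Polynomial.derivative (s₀ x * s₀ y))) :=
        key' _ _ (by rw [map_mul, hs₀, hs₀, hs₀])
      rw [h2, Polynomial.derivative_mul, map_add, map_mul, map_mul, hs₀, hs₀, map_add, add_comm]
      congr 1
      rw [mul_comm]; rfl)
    have h3 : δ u = 1 := by
      have : δ₀ u = Ideal.Quotient.mk I' (Polynomial.aeval u (Polynomial.derivative (Polynomial.X : Polynomial A))) :=
        key' _ _ (by rw [hs₀, Polynomial.aeval_X])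
      change δ₀ u = 1
      rw [this, Polynomial.derivative_X, map_one, map_one]
    have h5 : s • δ u = 0 := by
      rw [← δ.liftKaehlerDifferential_comp_D u, ← map_smul, hsD, map_zero]
    rw [h3] at h5
    have h6 : Ideal.Quotient.mk I' s = 0 := by
      rw [← h5, Algebra.smul_def, mul_one]; rfl
    exact hs (hI'n (Ideal.Quotient.eq_zero_iff_mem.mp h6))
  -- make `p` monic
  have hui : IsIntegral A u := hint.isIntegral u
  have hM := minpoly.monic hui
  refine ⟨minpoly A u ^ (p.natDegree + 2) + p, ?_, ?_, ?_⟩
  · refine (hM.pow _).add_of_left (Polynomial.degree_lt_degree ?_)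
    have h1 : (minpoly A u ^ (p.natDegree + 2)).natDegree = (p.natDegree + 2) * (minpoly A u).natDegree :=
      hM.natDegree_pow _
    have h2 := minpoly.natDegree_pos hui
    rw [h1]
    nlinarith
  · rw [map_add, map_pow, minpoly.aeval, hpu, add_zero, zero_pow (by omega)]
  · intro n hn hur
    have h1 : Polynomial.aeval u (Polynomial.derivative (minpoly A u ^ (p.natDegree + 2) + p)) =
        Polynomial.aeval u (Polynomial.derivative p) := by
      rw [map_add, Polynomial.derivative_pow, map_add, map_mul, map_mul, map_pow, minpoly.aeval,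
        zero_pow (by omega), mul_zero, zero_mul, zero_add]
    rw [h1]
    exact hkey n hur

end Groth.Agent.S5077
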