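import Groth.Statements.S5078
import Mathlib.LinearAlgebra.StdBasis
import Mathlib.RingTheory.Finiteness.Cardinality
import Mathlib.RingTheory.AdicCompletion.Basic

set_option autoImplicit false
universe u v
open Hensel

namespace Groth.Agent.S5078

theorem mem_smul_top_of_forall {A : Type u} [CommRing A] (J : Ideal A) {n : ℕ} (v : Fin n → A)
    (h : ∀ k, v k ∈ J) : v ∈ (J • ⊤ : Submodule A (Fin n → A)) := by
  classical
  rw [pi_eq_sum_univ' v]
  exact Submodule.sum_mem _ fun k _ => Submodule.smul_mem_smul (h k) trivial

theorem apply_mem_of_mem_smul_top {A : Type u} [CommRing A] (J : Ideal A) {n : ℕ} (v : Fin n → A)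
    (h : v ∈ (J • ⊤ : Submodule A (Fin n → A))) (k : Fin n) : v k ∈ J := by
  refine Submodule.smul_induction_on h (fun r hr w _ => ?_) (fun x y hx hy => ?_)
  · exact J.mul_mem_right _ hr
  · exact J.add_mem hx hy

theorem map_mem_smul_top {A : Type u} [CommRing A] (J : Ideal A) {M : Type*} {N : Type*}
    [AddCommGroup M] [Module A M] [AddCommGroup N] [Module A N] (f : M →ₗ[A] N) {x : M}
    (hx : x ∈ (J • ⊤ : Submodule A M)) : f x ∈ (J • ⊤ : Submodule A N) := by
  have h := Submodule.mem_map_of_mem (f := f) hx
  rw [Submodule.map_smul''] at h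
  exact Submodule.smul_mono le_rfl le_top h

/-- Let A be a ring, I an ideal such that A is I-adically separated and complete, and M a finitely
generated projective A-module. Then M is I-adically separated and complete. -/
theorem result {A : Type u} [CommRing A] (I : Ideal A) [IsAdicComplete I A]
    (M : Type v) [AddCommGroup M] [Module A M] [Module.Finite A M] [Module.Projective A M] :
    IsAdicComplete I M := by
  obtain ⟨n, f, hf⟩ := Module.Finite.exists_fin' A M
  obtain ⟨s, hs⟩ := Module.projective_lifting_property f LinearMap.id hf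
  have hfs : ∀ x, f (s x) = x := fun x => LinearMap.congr_fun hs x
  have hA : ∀ (J : Ideal A), (J • ⊤ : Submodule A A) = J := fun J => by simp
  refine { haus' := fun x hx => ?_, prec' := fun x hx => ?_ }
  · have h0 : s x = 0 := by
      funext k
      refine IsHausdorff.haus (I := I) (M := A) inferInstance _ fun m => ?_
      rw [SModEq.zero, hA]
      exact apply_mem_of_mem_smul_top _ _ (map_mem_smul_top _ s (SModEq.zero.mp (hx m))) k
    rw [← hfs x, h0, map_zero]
  · have h1 : ∀ k : Fin n, ∃ L : A, ∀ m, s (x m) k ≡ L [SMOD (I ^ m • ⊤ : Submodule A A)] := by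
      intro k
      refine IsPrecomplete.prec (I := I) (M := A) inferInstance fun {m m'} hmm => ?_
      rw [SModEq.sub_mem, hA]
      have h2 := map_mem_smul_top _ s (SModEq.sub_mem.mp (hx hmm))
      rw [map_sub] at h2
      exact apply_mem_of_mem_smul_top _ _ h2 k
    choose L hL using h1
    refine ⟨f L, fun m => ?_⟩
    rw [SModEq.sub_mem]
    have h3 : s (x m) - L ∈ (I ^ m • ⊤ : Submodule A (Fin n → A)) := by
      refine mem_smul_top_of_forall _ _ fun k => ?_
      have h4 := SModEq.sub_mem.mp (hL k m)
      rwa [hA] at h4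
    have h5 := map_mem_smul_top _ f h3
    rwa [map_sub, hfs] at h5

end Groth.Agent.S5078
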