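import Groth.Statements.S5079
import Groth.Agent.Unram.K147.PuncRed
import Groth.Agent.Unram.K147.PuncSec

set_option autoImplicit false
open CategoryTheory AlgebraicGeometry Opposite
universe u
open Unram

namespace Groth.Agent.S5079

/-- The maximal ideal contains a nonzerodivisor. -/
theorem exists_nonZeroDivisor (A : Type u) [CommRing A] [IsNoetherianRing A]
    [IsLocalRing A] [IsReduced A]
    (hdim : ∀ (m' : Ideal ↥(integralClosure A (FractionRing A))) [m'.IsMaximal],
      m'.comap (algebraMap A ↥(integralClosure A (FractionRing A))) = IsLocalRing.maximalIdeal A →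
        2 ≤ ringKrullDim (Localization.AtPrime m')) :
    ∃ f ∈ IsLocalRing.maximalIdeal A, f ∈ nonZeroDivisors A := by
  by_contra! hcon
  have h1 : ((IsLocalRing.maximalIdeal A : Ideal A) : Set A) ⊆ ⋃ p ∈ minimalPrimes A, (id p : Ideal A) := by
    intro f hf
    by_contra hf'
    simp only [Set.mem_iUnion, not_exists] at hf'
    exact hcon f hf (Groth.Agent.Ega4A.ReducedFrac.mem_nonZeroDivisors_of_forall_notMem
      fun P hP hfP => hf' P hP hfP)
  obtain ⟨p, hp, hmp⟩ := (Ideal.subset_union_prime_finite (f := id)
    (minimalPrimes.finite_of_isNoetherianRing A) ⊤ ⊤ (fun p hp _ _ => hp.1.1)).1 h1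
  change _ ≤ p at hmp
  have hpp : p.IsPrime := hp.1.1
  have hall : ∀ q : Ideal A, q.IsPrime → q = IsLocalRing.maximalIdeal A := by
    intro q hq
    refine le_antisymm (IsLocalRing.le_maximalIdeal hq.ne_top) (hmp.trans ?_)
    exact hp.2 ⟨hq, bot_le⟩ ((IsLocalRing.le_maximalIdeal hq.ne_top).trans hmp)
  let A' := integralClosure A (FractionRing A)
  have : Nontrivial A' := inferInstance
  obtain ⟨m', hm'⟩ := Ideal.exists_maximal A'
  have hm'A : m'.comap (algebraMap A A') = IsLocalRing.maximalIdeal A := hall _ inferInstance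
  obtain ⟨Q, hQ, -, hQm⟩ := K147.PuncFib.exists_prime_between (A := Localization.AtPrime m')
    (hdim m' hm'A)
  let P : Ideal A' := Q.comap (algebraMap A' (Localization.AtPrime m'))
  have hPm : P < m' := by
    have h1 : P ≤ m' := by
      have h2 : (IsLocalRing.maximalIdeal (Localization.AtPrime m')).comap
          (algebraMap A' (Localization.AtPrime m')) = m' :=
        Localization.AtPrime.under_maximalIdeal
      rw [← h2]
      exact Ideal.comap_mono hQm.le
    refine lt_of_le_of_ne h1 fun h => hQm.ne ?_
    refine le_antisymm hQm.le ?_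
    rw [← Localization.AtPrime.map_eq_maximalIdeal, Ideal.map_le_iff_le_comap]
    exact h.ge
  have h2 := Ideal.IsIntegral.comap_lt_comap (R := A) hPm
  rw [hm'A, hall (P.comap (algebraMap A A')) inferInstance] at h2
  exact lt_irrefl _ h2

/-- Let A be a reduced Noetherian local ring, A' the integral closure of A in its total ring of
fractions and U the punctured spectrum of A. Assume that for every maximal ideal m' of A' lying over
the maximal ideal of A the local ring A'_{m'} has dimension at least 2. Then, writing ρ for the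
restriction map A = Γ(Spec A, O) → Γ(U, O), the ring Γ(U, O) is integral over A via ρ and there is
an injective ring homomorphism Γ(U, O) → A' compatible with ρ and the inclusion of A in A'. -/
theorem result (A : Type u) [CommRing A] [IsNoetherianRing A]
    [IsLocalRing A] [IsReduced A]
    (hdim : ∀ (m' : Ideal ↥(integralClosure A (FractionRing A))) [m'.IsMaximal],
      m'.comap (algebraMap A ↥(integralClosure A (FractionRing A))) = IsLocalRing.maximalIdeal A →
        2 ≤ ringKrullDim (Localization.AtPrime m')) :
    (((Spec (CommRingCat.of A)).presheaf.map (homOfLE (le_top : FEt.puncturedSpec A ≤ ⊤)).op).hom.comp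
        (Scheme.ΓSpecIso (CommRingCat.of A)).inv.hom).IsIntegral ∧
      ∃ φ : ↑((Spec (CommRingCat.of A)).presheaf.obj (op (FEt.puncturedSpec A))) →+* ↥(integralClosure A (FractionRing A)),
        Function.Injective φ ∧
          φ.comp (((Spec (CommRingCat.of A)).presheaf.map (homOfLE (le_top : FEt.puncturedSpec A ≤ ⊤)).op).hom.comp
            (Scheme.ΓSpecIso (CommRingCat.of A)).inv.hom) = algebraMap A ↥(integralClosure A (FractionRing A)) := by
  obtain ⟨f, hf, hf'⟩ := exists_nonZeroDivisor A hdim
  obtain ⟨φ₀, hinj, hρ, hpow⟩ := K147.PuncSec.exists_embedding hf hf'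
  have hint : ∀ s, IsIntegral A (φ₀ s) := fun s =>
    K147.PuncRed.isIntegral_of_pow_mul_reduced hdim (φ₀ s) (hpow s)
  let φ : ↑((Spec (CommRingCat.of A)).presheaf.obj (op (FEt.puncturedSpec A))) →+*
      ↥(integralClosure A (FractionRing A)) :=
    { toFun := fun s => ⟨φ₀ s, hint s⟩
      map_one' := Subtype.ext (map_one φ₀)
      map_mul' := fun x y => Subtype.ext (map_mul φ₀ x y)
      map_zero' := Subtype.ext (map_zero φ₀)
      map_add' := fun x y => Subtype.ext (map_add φ₀ x y) }
  have hφ : Function.Injective φ := fun x y h => hinj (congrArg Subtype.val h)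
  have hφρ : φ.comp (K147.PuncSec.rho A) = algebraMap A ↥(integralClosure A (FractionRing A)) :=
    RingHom.ext fun a => Subtype.ext (hρ a)
  refine ⟨fun s => ?_, φ, hφ, hφρ⟩
  obtain ⟨g, hg, hgs⟩ := Algebra.IsIntegral.isIntegral (R := A) (φ s)
  refine ⟨g, hg, hφ ?_⟩
  rw [map_zero, ← hgs, Polynomial.hom_eval₂]
  congr 1

end Groth.Agent.S5079
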