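import Groth.Statements.S5080
import Groth.Agent.EGA418.K148.Units

set_option autoImplicit false
universe u
open EGA418

namespace Groth.Agent.S5080

/-- Let k be a field, A a complete Noetherian local k-algebra with maximal ideal m whose residue field
is a finite extension of k, p a prime ideal distinct from m, Ω̂ the completion of the module of
differentials of A over k, and M the least number of generators of the A_p-module Ω̂_p. Then for
every family x_1, …, x_M of elements of m not in p there are units u_1, …, u_M of A such that the
images in Ω̂_p of the differentials d(u_i x_i) generate Ω̂_p. -/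
theorem result (k A : Type u) [Field k] [CommRing A]
    [IsLocalRing A] [IsNoetherianRing A] [Algebra k A] [IsAdicComplete (IsLocalRing.maximalIdeal A) A]
    [Module.Finite k (IsLocalRing.ResidueField A)] (p : Ideal A) [p.IsPrime] (hp : p ≠ IsLocalRing.maximalIdeal A)
    (M : ℕ) (hgen : ∃ s : Fin M → (LocalizedModule p.primeCompl (AdicCompletion (IsLocalRing.maximalIdeal A) (KaehlerDifferential k A))), Submodule.span (Localization.AtPrime p) (Set.range s) = ⊤)
    (hmin : ∀ (s : Finset (LocalizedModule p.primeCompl (AdicCompletion (IsLocalRing.maximalIdeal A) (KaehlerDifferential k A)))), Submodule.span (Localization.AtPrime p) (↑s : Set (LocalizedModule p.primeCompl (AdicCompletion (IsLocalRing.maximalIdeal A) (KaehlerDifferential k A)))) = ⊤ → M ≤ s.card)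
    (x : Fin M → A) (hx : ∀ i, x i ∈ IsLocalRing.maximalIdeal A ∧ x i ∉ p) :
    ∃ u : Fin M → Aˣ, Submodule.span (Localization.AtPrime p)
      (Set.range (fun i => LocalizedModule.mkLinearMap p.primeCompl (AdicCompletion (IsLocalRing.maximalIdeal A) (KaehlerDifferential k A)) (AdicCompletion.of (IsLocalRing.maximalIdeal A) (KaehlerDifferential k A) (KaehlerDifferential.D k A ((u i : A) * x i))))) = ⊤ := by
  classical
  let Ωh := AdicCompletion (IsLocalRing.maximalIdeal A) (KaehlerDifferential k A)
  have hfinΩ : Module.Finite A Ωh := Groth.Agent.Ega4late.H543.OmegaHat.finite k A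
  let δ := Groth.Agent.Ega4late.H543.Backward.δ k A p
  have hδ : ∀ a, δ a = 1 ⊗ₜ AdicCompletion.of (IsLocalRing.maximalIdeal A)
    (KaehlerDifferential k A) (KaehlerDifferential.D k A a) := fun a => rfl
  have hspan := Groth.Agent.Ega4late.H543.Backward.span_range_δ k A p
  obtain ⟨s, hs⟩ := hgen
  have hle : Module.finrank p.ResidueField (TensorProduct A p.ResidueField Ωh) ≤ M :=
    K148.Gen.finrank_fibre_le p M s hs
  have hx' : ∀ i, algebraMap A p.ResidueField (x i) ≠ 0 := fun i h =>
    (hx i).2 (Ideal.algebraMap_residueField_eq_zero.mp h)
  -- the family for a smaller number of elements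
  have key : ∀ (i : ℕ) (y : Fin i → A), (∀ j, algebraMap A p.ResidueField (y j) ≠ 0) →
      i = Module.finrank p.ResidueField (TensorProduct A p.ResidueField Ωh) →
      ∃ u : Fin i → Aˣ, Submodule.span (Localization.AtPrime p)
        (Set.range (fun i => LocalizedModule.mkLinearMap p.primeCompl Ωh
          (AdicCompletion.of (IsLocalRing.maximalIdeal A) (KaehlerDifferential k A)
            (KaehlerDifferential.D k A ((u i : A) * y i))))) = ⊤ := by
    intro i y hy hi
    obtain ⟨u, hu⟩ := K148.Units.exists_units (K := p.ResidueField) δ hspan i y hy hi.le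
    refine ⟨u, K148.Units.span_localized_of_fibre p _ ?_⟩
    exact hu.span_eq_top_of_card_eq_finrank' (by rw [Fintype.card_fin, hi])
  have hM : M = Module.finrank p.ResidueField (TensorProduct A p.ResidueField Ωh) := by
    refine le_antisymm ?_ hle
    obtain ⟨u, hu⟩ := key _ (fun j => x (Fin.castLE hle j)) (fun j => hx' _) rfl
    let g : Fin (Module.finrank p.ResidueField (TensorProduct A p.ResidueField Ωh)) →
        LocalizedModule p.primeCompl Ωh := fun i => LocalizedModule.mkLinearMap p.primeCompl Ωh
          (AdicCompletion.of (IsLocalRing.maximalIdeal A) (KaehlerDifferential k A)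
            (KaehlerDifferential.D k A ((u i : A) * x (Fin.castLE hle i))))
    have h1 : M ≤ (Finset.univ.image g).card := by
      refine hmin (Finset.univ.image g) ?_
      rw [Finset.coe_image, Finset.coe_univ, Set.image_univ]
      exact hu
    have h2 : (Finset.univ.image g).card ≤ _ := Finset.card_image_le
    rw [Finset.card_univ, Fintype.card_fin] at h2
    exact h1.trans h2
  exact key M x hx' hM

end Groth.Agent.S5080
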