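import Groth.Statements.S5081
import Mathlib.RingTheory.Kaehler.Basic
import Mathlib.RingTheory.Kaehler.Polynomial

set_option autoImplicit false
universe u
open Unram

namespace Groth.Agent.S5081

/-- Let B be a finite A-algebra generated by a single element u and F a polynomial with coefficients in
A such that F(u) = 0. Then the ideal generated by F'(u) is contained in the annihilator of the
module of differentials of B over A, and equals it when the kernel of the surjection A[T] → B
sending T to u is generated by F. -/
theorem result (A B : Type u) [CommRing A] [CommRing B] [Algebra A B]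
    [Module.Finite A B] (u : B) (hu : Algebra.adjoin A ({u} : Set B) = ⊤) (F : Polynomial A) (hF : Polynomial.aeval u F = 0) :
    Ideal.span {Polynomial.aeval u (Polynomial.derivative F)} ≤ Module.annihilator B (KaehlerDifferential A B) ∧
      (RingHom.ker (Polynomial.aeval u : Polynomial A →ₐ[A] B) = Ideal.span {F} →
        Module.annihilator B (KaehlerDifferential A B) = Ideal.span {Polynomial.aeval u (Polynomial.derivative F)}) := by
  classical
  have hsurj : Function.Surjective (Polynomial.aeval u : Polynomial A →ₐ[A] B) := by
    rw [← AlgHom.range_eq_top, ← Algebra.adjoin_singleton_eq_range_aeval, hu]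
  refine ⟨?_, ?_⟩
  · rw [Ideal.span_singleton_le_iff_mem, Module.mem_annihilator]
    have hD : Polynomial.aeval u (Polynomial.derivative F) • KaehlerDifferential.D A B u = 0 := by
      rw [← Derivation.map_aeval, hF, map_zero]
    intro z
    have hz : z ∈ Submodule.span B (Set.range (KaehlerDifferential.D A B)) := by
      rw [KaehlerDifferential.span_range_derivation]; trivial
    induction hz using Submodule.span_induction with
    | mem x hx =>
      obtain ⟨b, rfl⟩ := hx
      obtain ⟨P, rfl⟩ := hsurj b
      rw [Derivation.map_aeval, smul_comm, hD, smul_zero]
    | zero => rw [smul_zero]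
    | add x y _ _ hx hy => rw [smul_add, hx, hy, add_zero]
    | smul c x _ hx => rw [smul_comm, hx, smul_zero]
  · intro hker
    refine le_antisymm ?_ ?_
    · intro b hb
      rw [Module.mem_annihilator] at hb
      set I : Ideal B := Ideal.span {Polynomial.aeval u (Polynomial.derivative F)} with hI
      let s : B → Polynomial A := Function.surjInv hsurj
      have hs : ∀ b, Polynomial.aeval u (s b) = b := Function.surjInv_eq hsurj
      have key : ∀ P Q : Polynomial A, Polynomial.aeval u P = Polynomial.aeval u Q →
          Ideal.Quotient.mk I (Polynomial.aeval u (Polynomial.derivative P)) =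
            Ideal.Quotient.mk I (Polynomial.aeval u (Polynomial.derivative Q)) := by
        intro P Q hPQ
        have h1 : P - Q ∈ RingHom.ker (Polynomial.aeval u : Polynomial A →ₐ[A] B) := by
          rw [RingHom.mem_ker, map_sub, hPQ, sub_self]
        rw [hker, Ideal.mem_span_singleton'] at h1
        obtain ⟨R, hR⟩ := h1
        rw [← sub_eq_zero, ← map_sub, ← map_sub, ← map_sub, ← hR, Polynomial.derivative_mul, map_add, map_mul,
          map_mul, hF, mul_zero, zero_add, Ideal.Quotient.eq_zero_iff_mem]
        exact Ideal.mul_mem_left _ _ (Ideal.subset_span rfl)
      let δ₀ : B →ₗ[A] B ⧸ I :=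
        { toFun := fun b => Ideal.Quotient.mk I (Polynomial.aeval u (Polynomial.derivative (s b)))
          map_add' := fun x y => by
            rw [← map_add, ← map_add, ← Polynomial.derivative_add]
            exact key _ _ (by rw [map_add, hs, hs, hs])
          map_smul' := fun a x => by
            rw [RingHom.id_apply]
            have : a • (Ideal.Quotient.mk I) (Polynomial.aeval u (Polynomial.derivative (s x))) =
                Ideal.Quotient.mk I (Polynomial.aeval u (Polynomial.derivative (a • s x))) := by
              rw [Polynomial.derivative_smul, map_smul]; rfl
            rw [this]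
            exact key _ _ (by rw [map_smul, hs, hs]) }
      let δ : Derivation A B (B ⧸ I) := Derivation.mk' δ₀ (fun x y => by
        have h2 : δ₀ (x * y) = Ideal.Quotient.mk I (Polynomial.aeval u (Polynomial.derivative (s x * s y))) :=
          key _ _ (by rw [map_mul, hs, hs, hs])
        rw [h2, Polynomial.derivative_mul, map_add, map_mul, map_mul, hs, hs, map_add, add_comm]
        congr 1
        rw [mul_comm]; rfl)
      have h3 : δ u = 1 := by
        have : δ₀ u = Ideal.Quotient.mk I (Polynomial.aeval u (Polynomial.derivative (Polynomial.X : Polynomial A))) :=
          key _ _ (by rw [hs, Polynomial.aeval_X])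
        change δ₀ u = 1
        rw [this, Polynomial.derivative_X, map_one, map_one]
      have h4 := hb (KaehlerDifferential.D A B u)
      have h5 : b • δ u = 0 := by
        rw [← δ.liftKaehlerDifferential_comp_D u, ← map_smul, h4, map_zero]
      rw [h3] at h5
      have h6 : Ideal.Quotient.mk I b = 0 := by
        rw [← h5, Algebra.smul_def, mul_one]; rfl
      exact Ideal.Quotient.eq_zero_iff_mem.mp h6
    · rw [Ideal.span_singleton_le_iff_mem, Module.mem_annihilator]
      have hD : Polynomial.aeval u (Polynomial.derivative F) • KaehlerDifferential.D A B u = 0 := by
        rw [← Derivation.map_aeval, hF, map_zero]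
      intro z
      have hz : z ∈ Submodule.span B (Set.range (KaehlerDifferential.D A B)) := by
        rw [KaehlerDifferential.span_range_derivation]; trivial
      induction hz using Submodule.span_induction with
      | mem x hx =>
        obtain ⟨b, rfl⟩ := hx
        obtain ⟨P, rfl⟩ := hsurj b
        rw [Derivation.map_aeval, smul_comm, hD, smul_zero]
      | zero => rw [smul_zero]
      | add x y _ _ hx hy => rw [smul_add, hx, hy, add_zero]
      | smul c x _ hx => rw [smul_comm, hx, smul_zero]

end Groth.Agent.S5081
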