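import Groth.Statements.S5094
import Groth.Agent.Lim8.K117.NormalIso

set_option autoImplicit false
universe u
open CategoryTheory CategoryTheory.Limits AlgebraicGeometry TopologicalSpace
open Lim8

namespace Groth.Agent.S5094

/-- Let X and Y be integral schemes and f : X → Y a separated morphism, locally of finite type and
birational (f sends the generic point of X to the generic point of Y and its stalk map there, the
induced homomorphism of function fields, is an isomorphism). Let y be a normal point of Y (the local
ring O_{Y,y} is integrally closed) and suppose that some point of the fibre f⁻¹(y) is isolated in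
that fibre. Then y has an open neighbourhood U such that the restriction f⁻¹(U) → U of f is an
isomorphism. -/
theorem result {X Y : Scheme.{u}} [IsIntegral X]
    [IsIntegral Y] (f : X ⟶ Y) [IsSeparated f] [LocallyOfFiniteType f]
    (hgen : f (genericPoint X) = genericPoint Y) (hbir : IsIso (f.stalkMap (genericPoint X)))
    (y : ↥Y) (hy : IsIntegrallyClosed ↑(Y.presheaf.stalk y))
    (x : ↥(f.fiber y)) (hx : IsOpen ({x} : Set ↥(f.fiber y))) :
    ∃ U : Y.Opens, y ∈ U ∧ IsIso (f ∣_ U) := by
  have key : ∀ (x' : X) (y' : Y) (_ : f x' = y') (x : f.fiber y') (_ : f.fiberι y' x = x')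
      (_ : IsOpen ({x} : Set (f.fiber y'))), f.QuasiFiniteAt x' := by
    rintro x' _ rfl x h1 h2
    rw [Scheme.Hom.quasiFiniteAt_iff_isOpen_singleton_asFiber]
    have : f.asFiber x' = x := by
      apply (f.fiberι _).isEmbedding.injective
      rw [h1, Scheme.Hom.fiberι_asFiber]
    rwa [this]
  have hxy : f (f.fiberι y x) = y := by
    have : f.fiberι y x ∈ Set.range (f.fiberι y) := ⟨x, rfl⟩
    rw [f.range_fiberι] at this
    exact this
  exact K117.NormalIso.exists_isIso f hgen hbir y hy (f.fiberι y x) hxy (key _ y hxy x rfl hx)

end Groth.Agent.S5094
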