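import Groth.Statements.S5095
import Groth.Agent.EGA43.K130.RadZMT
import Groth.Agent.UnramA.MonoDescend
import Groth.Agent.Flat2D.SpecFGLimit
import Groth.Agent.S0591
import Groth.Agent.S2590

set_option autoImplicit false
universe u
open CategoryTheory CategoryTheory.Limits AlgebraicGeometry TopologicalSpace
open EGA43

namespace Groth.Agent.S5095

/-- A universally injective endomorphism over the limit comes from a universally injective endomorphism
over some stage. -/
theorem exists_stage {I : Type u} [SmallCategory I] [IsCofiltered I] (D : I ⥤ Scheme.{u}) (c : Cone D)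
    (hc : IsLimit c) [∀ (i j : I) (f : i ⟶ j), IsAffineHom (D.map f)]
    [∀ i, CompactSpace (D.obj i)] [∀ i, QuasiSeparatedSpace (D.obj i)] {X : Scheme.{u}} (p : X ⟶ c.pt)
    [LocallyOfFinitePresentation p] [QuasiCompact p] [QuasiSeparated p] (f : X ⟶ X) (hf : f ≫ p = p)
    [UniversallyInjective f] :
    ∃ (i : I) (X₂ : Scheme.{u}) (p₂ : X₂ ⟶ D.obj i) (q₂ : X ⟶ X₂) (f₂ : X₂ ⟶ X₂),
      LocallyOfFinitePresentation p₂ ∧ QuasiCompact p₂ ∧ UniversallyInjective f₂ ∧
      IsPullback q₂ f f₂ q₂ := by
  obtain ⟨i₀, X₀, p₀, q, h1, h2, h3, h4⟩ := Groth.Agent.S0591.result D c hc X p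
  obtain ⟨i₁, X₁, p₁, q₁, f₁, h1', h2', h3', h4', h5', h6'⟩ :=
    UnramA.MonoDescend.exists_endo D c hc i₀ p p₀ q h4 f hf
  have hpb₁ := UnramA.MonoDescend.isPullback_endo h4' f f₁ hf h5' h6'
  have j1 : LocallyOfFinitePresentation (f₁ ≫ p₁) := by rw [h5']; exact h1'
  have j2 : QuasiCompact (f₁ ≫ p₁) := by rw [h5']; exact h2'
  have j3 : QuasiSeparated (f₁ ≫ p₁) := by rw [h5']; exact h3'
  obtain ⟨i, φ, Xi, Yi, fi, gi, pY, pX, sq1, sq2, hui⟩ :=
    Groth.Agent.S2590.result D c hc i₁ f₁ p₁ f p q₁ q₁ h4' hpb₁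
  -- the endomorphism at the stage
  let X₂ := pullback p₁ (D.map φ)
  let p₂ : X₂ ⟶ D.obj i := pullback.snd _ _
  let r : X₂ ⟶ X₁ := pullback.fst _ _
  let f₂ : X₂ ⟶ X₂ := pullback.lift (r ≫ f₁) p₂ (by
    rw [Category.assoc, h5']; exact pullback.condition)
  have hf₂ : f₂ ≫ p₂ = p₂ := pullback.lift_snd _ _ _
  have hr : f₂ ≫ r = r ≫ f₁ := pullback.lift_fst _ _ _
  have hpb₂ : IsPullback r f₂ f₁ r :=
    UnramA.MonoDescend.isPullback_endo (IsPullback.of_hasPullback p₁ (D.map φ)) f₂ f₁
      hf₂ h5' hr.symm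
  have hui₂ : UniversallyInjective f₂ := by
    let e : X₂ ⟶ Yi := sq1.lift r p₂ pullback.condition
    have he : e ≫ pY = r := sq1.lift_fst _ _ _
    have sq3 : IsPullback r f₂ f₁ (e ≫ pY) := by rw [he]; exact hpb₂
    exact MorphismProperty.of_isPullback (P := @UniversallyInjective) (IsPullback.of_right' sq3 sq2)
      hui
  let q₂ : X ⟶ X₂ := pullback.lift q₁ (p ≫ c.π.app i) (by
    rw [h4'.w, Category.assoc, c.w])
  have hpb₃ : IsPullback q₂ p p₂ (c.π.app i) := by
    refine IsPullback.of_right ?_ (pullback.lift_snd _ _ _)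
      (IsPullback.of_hasPullback p₁ (D.map φ))
    rw [c.w, show q₂ ≫ pullback.fst p₁ (D.map φ) = q₁ from pullback.lift_fst _ _ _]
    exact h4'
  have hq₂ : q₂ ≫ f₂ = f ≫ q₂ := by
    apply pullback.hom_ext
    · change (q₂ ≫ f₂) ≫ r = (f ≫ q₂) ≫ r
      have e1 : q₂ ≫ r = q₁ := pullback.lift_fst _ _ _
      rw [Category.assoc, hr, Category.assoc, e1, reassoc_of% e1, h6']
    · change (q₂ ≫ f₂) ≫ p₂ = (f ≫ q₂) ≫ p₂
      rw [Category.assoc, hf₂, Category.assoc, hpb₃.w, reassoc_of% hf]
  exact ⟨i, X₂, p₂, q₂, f₂, inferInstance, inferInstance, hui₂,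
    UnramA.MonoDescend.isPullback_endo hpb₃ f f₂ hf hf₂ hq₂⟩

open Opposite Groth.Agent.Flat2D.SpecFGLimit in
/-- The case of an affine base. -/
theorem of_affine (A : Type u) [CommRing A] {X : Scheme.{u}}
    (p : X ⟶ Spec (CommRingCat.of A)) [LocallyOfFinitePresentation p] [QuasiCompact p]
    [QuasiSeparated p] (f : X ⟶ X) (hf : f ≫ p = p) [UniversallyInjective f] :
    IsFinite f ∧ Surjective f := by
  have i1 : ∀ i, CompactSpace ((specDiagram A).obj i) := fun i => inferInstance
  have i2 : ∀ i, QuasiSeparatedSpace ((specDiagram A).obj i) := fun i => inferInstance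
  have i3 : LocallyOfFinitePresentation (Y := (specCone A).pt) p := ‹_›
  have i4 : QuasiCompact (Y := (specCone A).pt) p := ‹_›
  have i5 : QuasiSeparated (Y := (specCone A).pt) p := ‹_›
  obtain ⟨i, X₂, p₂, q₂, f₂, k2, hqc, hui, hpb⟩ := exists_stage (specDiagram A) (specCone A)
    (isLimitSpecCone A) p f hf
  have hft : Algebra.FiniteType ℤ (CommRingCat.of i.unop.1) :=
    (Subalgebra.fg_iff_finiteType _).1 i.unop.2
  have hc : CompactSpace X₂ := QuasiCompact.compactSpace_of_compactSpace p₂
  have hlft : LocallyOfFiniteType (Limits.IsTerminal.from specULiftZIsTerminal X₂) := by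
    have k1 : LocallyOfFiniteType (Limits.IsTerminal.from specULiftZIsTerminal
        (Spec (CommRingCat.of i.unop.1))) := (Groth.Agent.S4886.lft_Spec_iff _).mpr hft
    let p₂' : X₂ ⟶ Spec (CommRingCat.of i.unop.1) := p₂
    have k3 : LocallyOfFinitePresentation p₂' := k2
    exact (Groth.Agent.S4886.lft_comp p₂').mp inferInstance
  have hfin : IsFinite f₂ := K130.RadZMT.isFinite_of_int f₂
  have hsur : Surjective f₂ := ⟨K130.RadZMT.surjective_of_int f₂⟩
  exact ⟨MorphismProperty.of_isPullback (P := @IsFinite) hpb hfin,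
    MorphismProperty.of_isPullback (P := @Surjective) hpb hsur⟩

/-- Let S be a scheme, X an S-scheme of finite presentation (the structure morphism is locally of finite
presentation, quasi-compact and quasi-separated) and f a radicial (universally injective)
S-endomorphism of X. Then f is bijective and finite, hence a universal homeomorphism. -/
theorem result {X S : Scheme.{u}} (p : X ⟶ S)
    [LocallyOfFinitePresentation p] [QuasiCompact p] [QuasiSeparated p]
    (f : X ⟶ X) (hf : f ≫ p = p) [UniversallyInjective f] :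
    Function.Bijective ⇑f.base ∧ IsFinite f := by
  have key : ∀ i, IsFinite (pullback.snd f ((S.affineCover.pullback₁ p).f i)) ∧
      Surjective (pullback.snd f ((S.affineCover.pullback₁ p).f i)) := by
    intro i
    -- the endomorphism of the base change
    let r : pullback p (S.affineCover.f i) ⟶ X := pullback.fst p (S.affineCover.f i)
    let pi : pullback p (S.affineCover.f i) ⟶ S.affineCover.X i := pullback.snd p (S.affineCover.f i)
    let fi : pullback p (S.affineCover.f i) ⟶ pullback p (S.affineCover.f i) :=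
      pullback.lift (r ≫ f) pi (by rw [Category.assoc, hf]; exact pullback.condition)
    have h1 : fi ≫ pi = pi := pullback.lift_snd _ _ _
    have h2 : fi ≫ r = r ≫ f := pullback.lift_fst _ _ _
    have hpb : IsPullback r fi f r :=
      UnramA.MonoDescend.isPullback_endo (IsPullback.of_hasPullback p (S.affineCover.f i)) fi f h1 hf
        h2.symm
    have hui : UniversallyInjective fi := MorphismProperty.of_isPullback
      (P := @UniversallyInjective) hpb ‹_›
    have k1 : LocallyOfFinitePresentation pi := MorphismProperty.pullback_snd _ _ ‹_›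
    have k2 : QuasiCompact pi := MorphismProperty.pullback_snd _ _ ‹_›
    have k3 : QuasiSeparated pi := MorphismProperty.pullback_snd _ _ ‹_›
    obtain ⟨k4, k5⟩ := @of_affine _ _ _ pi k1 k2 k3 fi h1 hui
    have e1 : hpb.isoPullback.inv ≫ fi = pullback.snd f r := hpb.isoPullback_inv_snd
    change IsFinite (pullback.snd f r) ∧ Surjective (pullback.snd f r)
    rw [← e1]
    exact ⟨inferInstance, inferInstance⟩
  have hfin : IsFinite f := by
    rw [IsZariskiLocalAtTarget.iff_of_openCover (P := (@IsFinite : MorphismProperty Scheme.{u}))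
      (S.affineCover.pullback₁ p)]
    exact fun i => (key i).1
  have hsur : Surjective f := by
    rw [IsZariskiLocalAtTarget.iff_of_openCover (P := (@Surjective : MorphismProperty Scheme.{u}))
      (S.affineCover.pullback₁ p)]
    exact fun i => (key i).2
  exact ⟨⟨f.injective, f.surjective⟩, hfin⟩

end Groth.Agent.S5095
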