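import Groth.Statements.S5100
import Groth.Agent.Div21.K172.AssFib
import Groth.Agent.Div21.K172.StalkSpec
import Groth.Agent.Divis.ReflexAlg

set_option autoImplicit false
universe u
open CategoryTheory CategoryTheory.Limits AlgebraicGeometry TopologicalSpace
open Div21

namespace Groth.Agent.S5100

/-- Suppose X and Y are locally Noetherian schemes, and consider a morphism f : X → Y that is flat and
surjective (i.e. faithfully flat) and is either quasi-compact or open. Assume Y is normal, and that
whenever y ∈ Y has a local ring of dimension 1, the fibre X_y has no embedded associated point (if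
one associated point of X_y specializes to another, the two coincide). Given an effective Cartier
divisor D' on X, described by its ideal sheaf 𝓙, D' arises as the inverse image of some effective
Cartier divisor on Y exactly when both of the following hold: (1) at each maximal point η of Y,
pulling D' back to the fibre X_η gives zero (the resulting ideal is the unit ideal); and (2) at each
y ∈ Y with one-dimensional local ring (a discrete valuation ring, because Y is normal) one can find
an integer n ≥ 0 so that, for any uniformizer t of O_{Y,y} and any maximal point x of f⁻¹(y), the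
ideal of D' in O_{X,x} (namely the inverse image of 𝓙 on Spec O_{X,x}) is generated by the image of
t raised to the n-th power. -/
theorem result {X Y : Scheme.{u}}
    [IsLocallyNoetherian X] [IsLocallyNoetherian Y] (f : X ⟶ Y) [Flat f] [Surjective f]
    (hf : QuasiCompact f ∨ IsOpenMap f) (hY : Pi1.IsNormalScheme Y)
    (hfib : ∀ y : ↥Y, ringKrullDim ↑(Y.presheaf.stalk y) = 1 → ∀ z z' : ↥(f.fiber y),
      IsAssociatedPrime (IsLocalRing.maximalIdeal ↑((f.fiber y).presheaf.stalk z)) ↑((f.fiber y).presheaf.stalk z) →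
      IsAssociatedPrime (IsLocalRing.maximalIdeal ↑((f.fiber y).presheaf.stalk z')) ↑((f.fiber y).presheaf.stalk z') →
      z' ⤳ z → z' = z)
    (𝓙 : X.IdealSheafData) (hJ : BlowUp.IsEffCartierIdeal 𝓙) :
    (∃ 𝓘 : Y.IdealSheafData, BlowUp.IsEffCartierIdeal 𝓘 ∧ 𝓘.comap f = 𝓙) ↔
      ((∀ η : ↥Y, (∀ z : ↥Y, z ⤳ η → z = η) → 𝓙.comap (f.fiberι η) = ⊤) ∧
        ∀ y : ↥Y, ringKrullDim ↑(Y.presheaf.stalk y) = 1 → ∃ n : ℕ, ∀ t : ↑(Y.presheaf.stalk y),
          IsLocalRing.maximalIdeal ↑(Y.presheaf.stalk y) = Ideal.span {t} →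
          ∀ (x : ↥X) (hx : f x = y), (∀ z : ↥X, f z = y → z ⤳ x → z = x) →
            (𝓙.comap (X.fromSpecStalk x)).ideal ⟨⊤, isAffineOpen_top _⟩ =
              Ideal.span {(Scheme.ΓSpecIso (X.presheaf.stalk x)).inv
                (((f.stalkMap x).hom ((Y.presheaf.stalkCongr (.of_eq hx.symm)).hom t)) ^ n)}) := by
  have hdvr : ∀ y : Y, ringKrullDim ↑(Y.presheaf.stalk y) = 1 → IsDomain (Y.presheaf.stalk y) ∧
      ∃ π : Y.presheaf.stalk y, π ≠ 0 ∧
        IsLocalRing.maximalIdeal (Y.presheaf.stalk y) = Ideal.span {π} := by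
    intro y hy
    have h1 := (hY y).1
    have h2 := (hY y).2
    have h3 := Groth.Agent.Divis.ReflexAlg.isPrincipalIdealRing_of_isIntegrallyClosed hy.le
    obtain ⟨π, hπ⟩ := (IsPrincipalIdealRing.principal
      (IsLocalRing.maximalIdeal (Y.presheaf.stalk y))).principal
    refine ⟨h1, π, ?_, hπ⟩
    rintro rfl
    have h4 : IsLocalRing.maximalIdeal (Y.presheaf.stalk y) = ⊥ := by
      rw [hπ]
      exact Ideal.span_singleton_eq_bot.mpr rfl
    have h5 := ringKrullDim_eq_zero_of_isField (IsLocalRing.isField_iff_maximalIdeal_eq.mpr h4)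
    rw [h5] at hy
    exact absurd hy (by decide)
  constructor
  · rintro ⟨𝓘, h𝓘, rfl⟩
    refine ⟨fun η hη => ?_, fun y hy => ?_⟩
    · rw [Groth.Agent.Ega4late.H533.NormalDesc.comap_fiberι_eq_top_iff]
      rintro x rfl
      have := (hY (f x)).1
      have hfield := Groth.Agent.Ega4late.H533.NormalDesc.isField_of_maximal hη
      obtain ⟨g, hg, hgx⟩ := Groth.Agent.Divis.CartierBasic.exists_stalkIdeal_eq_span h𝓘 (f x)
      rw [Groth.Agent.Ega4late.H533.DescScheme.stalkIdeal_comap, hgx]
      have hu : IsUnit g := by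
        obtain ⟨c, hc⟩ := hfield.mul_inv_cancel (nonZeroDivisors.ne_zero hg)
        exact IsUnit.of_mul_eq_one c hc
      rw [Ideal.span_singleton_eq_top.2 hu, Ideal.map_top]
    · obtain ⟨hdom, π, hπ0, hπ⟩ := hdvr y hy
      have hd : IsDiscreteValuationRing (Y.presheaf.stalk y) :=
        Groth.Agent.Ega4late.H533.NormalAlg.isDiscreteValuationRing_of_generator π hπ0 hπ
      obtain ⟨g, hg, hgx⟩ := Groth.Agent.Divis.CartierBasic.exists_stalkIdeal_eq_span h𝓘 y
      have hg0 : Ideal.span {g} ≠ ⊥ := by
        rw [Ne, Ideal.span_singleton_eq_bot]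
        exact nonZeroDivisors.ne_zero hg
      obtain ⟨n, hn⟩ := IsDiscreteValuationRing.ideal_eq_span_pow_irreducible hg0
        ((IsDiscreteValuationRing.irreducible_iff_uniformizer π).mpr hπ)
      refine ⟨n, fun t ht x hx _ => ?_⟩
      subst hx
      have h1 : Groth.Agent.Divis.CartierBasic.stalkIdeal 𝓘 (f x) = Ideal.span {t ^ n} := by
        rw [hgx, hn, ← Ideal.span_singleton_pow, ← Ideal.span_singleton_pow, ← hπ, ← ht]
      have h2 := Groth.Agent.Ega4late.H533.DescScheme.stalkIdeal_comap f 𝓘 x
      rw [h1, Ideal.map_span, Set.image_singleton, map_pow] at h2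
      rw [K172.StalkSpec.stalkIdeal_eq_iff, h2]
      congr 3
      have h3 : (Y.presheaf.stalkCongr (.of_eq (rfl : f x = f x))).hom t = t := by
        exact congr($(TopCat.Presheaf.stalkSpecializes_refl Y.presheaf (f x)) t)
      exact congrArg (f.stalkMap x).hom h3.symm
  · rintro ⟨h1, h2⟩
    have hmax : ∀ x : X, (∀ z : Y, z ⤳ f x → z = f x) →
        Groth.Agent.Divis.CartierBasic.stalkIdeal 𝓙 x = ⊤ := fun x hx =>
      (Groth.Agent.Ega4late.H533.NormalDesc.comap_fiberι_eq_top_iff f 𝓙 (f x)).1 (h1 (f x) hx) x rfl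
    refine Groth.Agent.Ega4late.H533.DescScheme.exists_descent f hf 𝓙 hJ fun y hdepth => ?_
    have := (hY y).1
    have := (hY y).2
    by_cases hfield : IsField (Y.presheaf.stalk y)
    · refine ⟨⊤, fun x h => ?_⟩
      have hmaxy := Groth.Agent.Ega4late.H533.NormalDesc.eq_of_specializes_of_isField hfield
      rw [Ideal.map_top, hmax x]
      intro z hz
      rw [hmaxy z (hz.trans h), hmaxy _ h]
    · obtain ⟨π, hπ0, hπ⟩ :=
        Groth.Agent.Ega4late.H533.NormalAlg.exists_generator_of_depthLeOne hdepth hfield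
      have := Groth.Agent.Ega4late.H533.NormalAlg.isDiscreteValuationRing_of_generator π hπ0 hπ
      have hdim := IsDiscreteValuationRing.ringKrullDim_eq_one (Y.presheaf.stalk y)
      obtain ⟨n, hn⟩ := h2 y hdim
      refine K172.AssFib.descAt f 𝓙 hJ hmax y (hfib y hdim) π hπ0 hπ n fun x hx hmx => ?_
      have h3 := hn π hπ x hx hmx
      rw [K172.StalkSpec.stalkIdeal_eq_iff] at h3
      exact h3

end Groth.Agent.S5100
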