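import Groth.Statements.S5101
import Groth.Agent.Ega4dA.CurveLine
import Groth.Agent.Ega4dA.LineGlue
import Groth.Agent.S2878
import Mathlib.AlgebraicGeometry.Noetherian
import Mathlib.AlgebraicGeometry.Morphisms.ClosedImmersion

set_option autoImplicit false
universe u
open CategoryTheory CategoryTheory.Limits AlgebraicGeometry TopologicalSpace
open Div21

namespace Groth.Agent.S5101

open Groth.Agent.S2878 in
open Groth.Agent.Ega4dA.CurveLine in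
/-- Lifts of the two functions near a point. -/
theorem local_package {X T : Scheme.{u}} (i : T ⟶ X) [IsClosedImmersion i]
    (x : T) (V : T.Opens) (hxV : x ∈ V) (p q : Γ(T, V)) (hp : ∀ y ∈ V, y ∉ T.basicOpen p ↔ y = x)
    (hq : ∀ y ∈ V, y ∉ T.basicOpen q ↔ y = x) :
    ∃ (V' : X.Opens) (P Q : Γ(X, V')) (hle : i ⁻¹ᵁ V' ≤ V), i x ∈ V' ∧
      i.app V' P = Ega4dA.GenSec.resO T hle p ∧ i.app V' Q = Ega4dA.GenSec.resO T hle q ∧
      ∀ t : T, i t ∈ V' → (i t ∉ X.basicOpen P ↔ t = x) ∧ (i t ∉ X.basicOpen Q ↔ t = x) := by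
  obtain ⟨O, hO, hOV⟩ := i.isEmbedding.isInducing.isOpen_iff.mp V.isOpen
  have hxO : i x ∈ (⟨O, hO⟩ : X.Opens) := by
    have : x ∈ i ⁻¹' O := by rw [hOV]; exact hxV
    exact this
  obtain ⟨V', hV', hxV', hV'O⟩ := exists_isAffineOpen_mem_and_subset hxO
  have hle : i ⁻¹ᵁ V' ≤ V := by
    intro t ht
    have : t ∈ i ⁻¹' O := hV'O ht
    rw [hOV] at this
    exact this
  obtain ⟨P, hP⟩ := i.app_surjective V' hV' (Ega4dA.GenSec.resO T hle p)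
  obtain ⟨Q, hQ⟩ := i.app_surjective V' hV' (Ega4dA.GenSec.resO T hle q)
  have key : ∀ (r : Γ(T, V)) (R : Γ(X, V')), i.app V' R = Ega4dA.GenSec.resO T hle r →
      (∀ y ∈ V, y ∉ T.basicOpen r ↔ y = x) →
      ∀ t : T, i t ∈ V' → (i t ∉ X.basicOpen R ↔ t = x) := by
    intro r R hR hr t ht
    have h1 : i t ∈ X.basicOpen R ↔ t ∈ T.basicOpen (i.app V' R) := by
      rw [← Scheme.preimage_basicOpen]; rfl
    rw [h1, hR, basicOpen_resO, ← hr t (hle ht)]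
    constructor
    · intro h h'; exact h ⟨ht, h'⟩
    · intro h h'; exact h h'.2
  exact ⟨V', P, Q, hle, hxV', hP, hQ, fun t ht => ⟨key p P hP hp t ht, key q Q hQ hq t ht⟩⟩

/-- Disjoint closed sets `Z x` and neighbourhoods `N x` of them, outside of which the functions are
invertible. -/
theorem exists_closed {X T : Scheme.{u}} (i : T ⟶ X) [IsClosedImmersion i]
    (h2 : ∀ Y : Set ↥X, IsLocallyClosed Y → DiscreteTopology ↥(Y ∩ Set.range ⇑i) →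
      ∃ Y' : Set ↥X, Y' ⊆ Y ∧ IsClosed Y' ∧ (∃ O : Set ↥X, IsOpen O ∧ Y' = Y ∩ O) ∧
        Y ∩ Set.range ⇑i ⊆ Y')
    {F : Type u} [Finite F] (pt : F → T) (hpt : Function.Injective pt) (V : F → X.Opens)
    (P Q : ∀ x, Γ(X, V x)) (hxV : ∀ x, i (pt x) ∈ V x)
    (hPQ : ∀ x, ∀ t : T, i t ∈ V x →
      (i t ∉ X.basicOpen (P x) ↔ t = pt x) ∧ (i t ∉ X.basicOpen (Q x) ↔ t = pt x)) :
    ∃ (Z : F → Set X) (N : F → X.Opens), (∀ x, IsClosed (Z x)) ∧ (∀ x, i (pt x) ∈ Z x) ∧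
      (∀ x, Z x ⊆ N x) ∧ (∀ x, N x ≤ V x) ∧ (∀ x y, x ≠ y → Disjoint (Z x) (Z y)) ∧
      ∀ x, ∀ z ∈ N x, z ∉ Z x → z ∈ X.basicOpen (P x) ∧ z ∈ X.basicOpen (Q x) := by
  classical
  let D : F → X.Opens := fun x => X.basicOpen (P x) ⊓ X.basicOpen (Q x)
  let Y : F → Set X := fun x => (V x : Set X) ∩ (D x : Set X)ᶜ
  have hYi : ∀ x (t : T), i t ∈ Y x ↔ t = pt x := by
    intro x t
    constructor
    · rintro ⟨h3, h4⟩
      by_contra hne
      apply h4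
      exact ⟨not_not.mp (fun h => hne ((hPQ x t h3).1.mp h)),
        not_not.mp (fun h => hne ((hPQ x t h3).2.mp h))⟩
    · rintro rfl
      exact ⟨hxV x, fun h => (hPQ x _ (hxV x)).1.mpr rfl h.1⟩
  have hYl : ∀ x, IsLocallyClosed (Y x) := fun x =>
    (V x).2.isLocallyClosed.inter (D x).2.isClosed_compl.isLocallyClosed
  have hdisc : ∀ (x : F) (S : Set X), S ⊆ Y x → DiscreteTopology ↥(S ∩ Set.range ⇑i) := by
    intro x S hS
    have : Subsingleton ↥(S ∩ Set.range ⇑i) := by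
      constructor
      rintro ⟨_, h3, t, rfl⟩ ⟨_, h4, t', rfl⟩
      have h5 := (hYi x t).mp (hS h3)
      have h6 := (hYi x t').mp (hS h4)
      simp only [h5, h6]
    infer_instance
  choose Z₁ hZ₁Y hZ₁cl O₁ hO₁ using fun x => h2 (Y x) (hYl x) (hdisc x (Y x) subset_rfl)
  choose O₁' hO₁o hZ₁O using O₁
  have hZ₁x : ∀ x, i (pt x) ∈ Z₁ x := fun x => hO₁ x ⟨(hYi x _).mpr rfl, pt x, rfl⟩
  let C : Set X := ⋃ (w : {w : F × F // w.1 ≠ w.2}), Z₁ w.1.1 ∩ Z₁ w.1.2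
  have hC : IsClosed C := isClosed_iUnion_of_finite fun w => (hZ₁cl _).inter (hZ₁cl _)
  have hxC : ∀ x, i (pt x) ∉ C := by
    intro x hx
    obtain ⟨⟨⟨a, b⟩, hab⟩, h3, h4⟩ := Set.mem_iUnion.mp hx
    have h5 := hpt ((hYi a _).mp (hZ₁Y a h3))
    have h6 := hpt ((hYi b _).mp (hZ₁Y b h4))
    exact hab (h5.symm.trans h6)
  let Y₂ : F → Set X := fun x => Z₁ x ∩ Cᶜ
  have hY₂Y : ∀ x, Y₂ x ⊆ Y x := fun x => Set.inter_subset_left.trans (hZ₁Y x)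
  choose Z₂ hZ₂Y hZ₂cl O₂ hO₂ using fun x => h2 (Y₂ x)
    ((hZ₁cl x).isLocallyClosed.inter hC.isOpen_compl.isLocallyClosed) (hdisc x _ (hY₂Y x))
  choose O₂' hO₂o hZ₂O using O₂
  let O₃ : F → X.Opens := fun x =>
    ⟨O₁' x ∩ (Cᶜ ∩ O₂' x), (hO₁o x).inter (hC.isOpen_compl.inter (hO₂o x))⟩
  have hZ₂ : ∀ x z, z ∈ Z₂ x ↔ z ∈ Y x ∧ z ∈ O₃ x := by
    intro x z
    rw [hZ₂O x]
    change ((z ∈ Z₁ x ∧ z ∈ Cᶜ) ∧ z ∈ O₂' x) ↔ (z ∈ Y x ∧ (z ∈ O₁' x ∧ (z ∈ Cᶜ ∧ z ∈ O₂' x)))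
    have : z ∈ Z₁ x ↔ z ∈ Y x ∧ z ∈ O₁' x := by
      conv_lhs => rw [hZ₁O x]
      exact Iff.rfl
    rw [this]
    tauto
  refine ⟨Z₂, fun x => D x ⊔ (V x ⊓ O₃ x), hZ₂cl, fun x => hO₂ x ⟨⟨hZ₁x x, hxC x⟩, pt x, rfl⟩,
    ?_, ?_, ?_, ?_⟩
  · intro x z hz
    rw [hZ₂] at hz
    exact Or.inr ⟨hz.1.1, hz.2⟩
  · intro x
    exact sup_le (inf_le_left.trans (X.basicOpen_le _)) inf_le_left
  · intro x y hxy
    rw [Set.disjoint_left]
    intro z hz hz'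
    exact (hZ₂Y x hz).2 (Set.mem_iUnion.mpr ⟨⟨⟨x, y⟩, hxy⟩, (hZ₂Y x hz).1, (hZ₂Y y hz').1⟩)
  · intro x z hz hzZ
    rcases hz with hz | hz
    · exact hz
    · by_contra hcon
      exact hzZ ((hZ₂ x z).mpr ⟨⟨hz.1, hcon⟩, hz.2⟩)

/-- Let X be a Noetherian scheme and X₀ a closed subscheme (closed immersion i : X₀ → X) such that (1°)
dim X₀ ≤ 1 and (2°) for every locally closed subset Y of X whose intersection with X₀ is discrete,
there is a subset Y' of Y, closed in X and open in Y, containing Y ∩ X₀. Let Z₀ be the union of the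
sets (closure of x) ∩ X₀ taken over those associated points x of O_X for which this set is finite.
Suppose moreover that there is an affine open subset U₀ of X₀ containing every associated point of
O_{X₀} and every point of Z₀ (automatic when X₀ carries an ample sheaf). Then the canonical map
Pic(X) → Pic(X₀) is surjective: every invertible O_{X₀}-module is isomorphic to the inverse image of
an invertible O_X-module. -/
theorem result (X X₀ : Scheme.{u}) [IsNoetherian X]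
    (i : X₀ ⟶ X) [IsClosedImmersion i]
    (h1 : topologicalKrullDim ↥X₀ ≤ 1)
    (h2 : ∀ Y : Set ↥X, IsLocallyClosed Y → DiscreteTopology ↥(Y ∩ Set.range ⇑i) →
      ∃ Y' : Set ↥X, Y' ⊆ Y ∧ IsClosed Y' ∧ (∃ O : Set ↥X, IsOpen O ∧ Y' = Y ∩ O) ∧ Y ∩ Set.range ⇑i ⊆ Y')
    (U₀ : X₀.Opens) (hU₀ : IsAffineOpen U₀)
    (hAss : ∀ z : ↥X₀, IsAssociatedPrime (IsLocalRing.maximalIdeal ↑(X₀.presheaf.stalk z)) ↑(X₀.presheaf.stalk z) →
      z ∈ U₀)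
    (hZ : ∀ (x : ↥X) (z : ↥X₀),
      IsAssociatedPrime (IsLocalRing.maximalIdeal ↑(X.presheaf.stalk x)) ↑(X.presheaf.stalk x) →
      (closure {x} ∩ Set.range ⇑i).Finite → i z ∈ closure {x} → z ∈ U₀)
    (L₀ : X₀.Modules) (hL₀ : PicF.IsInvertible L₀) :
    ∃ L : X.Modules, PicF.IsInvertible L ∧ Nonempty ((Scheme.Modules.pullback i).obj L ≅ L₀) := by
  classical
  have hN : NoetherianSpace X₀ := i.isEmbedding.isInducing.noetherianSpace
  obtain ⟨U, e₀, he₀, hU⟩ := Ega4dA.CurveLine.exists_generic_trivialization X₀ L₀ hL₀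
  have hFfin : ((U : Set X₀)ᶜ).Finite := Ega4dA.CurveLine.finite_compl h1 hU
  let F : Type u := ↥((U : Set X₀)ᶜ)
  have : Finite F := hFfin
  choose V hxV eV p q heV hVU hp hq hrel using fun x : F =>
    Ega4dA.CurveLine.exists_local_fraction X₀ h1 L₀ hL₀ U e₀ he₀ hU x.1 x.2
  choose V' P' Q' hle hxV' hP' hQ' hPQ using fun x : F =>
    local_package i x.1 (V x) (hxV x) (p x) (q x) (hp x) (hq x)
  obtain ⟨Z, N, hZcl, hxZ, hZN, hNV', hdisj, hNZ'⟩ :=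
    exists_closed i h2 (fun x : F => x.1) Subtype.val_injective V' P' Q' hxV' hPQ
  have hNV : ∀ x, i ⁻¹ᵁ (N x) ≤ V x := fun x => (i.preimage_mono (hNV' x)).trans (hle x)
  let P : ∀ x, Γ(X, N x) := fun x => Ega4dA.GenSec.resO X (hNV' x) (P' x)
  let Q : ∀ x, Γ(X, N x) := fun x => Ega4dA.GenSec.resO X (hNV' x) (Q' x)
  have hP : ∀ x, i.app (N x) (P x) = Ega4dA.GenSec.resO X₀ (hNV x) (p x) := by
    intro x
    rw [Groth.Agent.S2878.app_resO, hP', Ega4dA.GenSec.resO_resO]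
  have hQ : ∀ x, i.app (N x) (Q x) = Ega4dA.GenSec.resO X₀ (hNV x) (q x) := by
    intro x
    rw [Groth.Agent.S2878.app_resO, hQ', Ega4dA.GenSec.resO_resO]
  have hNZ : ∀ x, ∀ z ∈ N x, z ∉ Z x → z ∈ X.basicOpen (P x) ∧ z ∈ X.basicOpen (Q x) := by
    intro x z hz hzZ
    rw [Ega4dA.CurveLine.basicOpen_resO, Ega4dA.CurveLine.basicOpen_resO]
    exact ⟨⟨hz, (hNZ' x z hz hzZ).1⟩, ⟨hz, (hNZ' x z hz hzZ).2⟩⟩
  let W : X.Opens := ⟨(⋃ x : F, Z x)ᶜ, (isClosed_iUnion_of_finite hZcl).isOpen_compl⟩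
  let M : F → X.Opens := fun x => N x ⊓ ⟨(⋃ y : {y : F // y ≠ x}, Z y)ᶜ,
    (isClosed_iUnion_of_finite fun y : {y : F // y ≠ x} => hZcl y).isOpen_compl⟩
  have hW : ∀ z : X, z ∈ W ↔ ∀ x : F, z ∉ Z x := by
    intro z
    change z ∈ (⋃ x : F, Z x)ᶜ ↔ _
    simp
  have hM : ∀ (x : F) (z : X), z ∈ M x ↔ z ∈ N x ∧ ∀ y : F, y ≠ x → z ∉ Z y := by
    intro x z
    change z ∈ N x ∧ z ∈ (⋃ y : {y : F // y ≠ x}, Z y)ᶜ ↔ _
    simp
  have hMM : ∀ x y : F, x ≠ y → M x ⊓ M y ≤ W := by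
    intro x y hxy z hz
    rw [hW]
    intro w hw
    have h1 := ((hM x z).mp hz.1).2 w
    have h2 := ((hM y z).mp hz.2).2 w
    by_cases hwx : w = x
    · subst hwx
      exact h2 hxy hw
    · exact h1 hwx hw
  have hcov : ∀ z : X, z ∈ W ∨ ∃ x, z ∈ M x := by
    intro z
    by_cases hz : z ∈ W
    · exact Or.inl hz
    · right
      rw [hW] at hz
      push Not at hz
      obtain ⟨x, hx⟩ := hz
      refine ⟨x, ?_⟩
      rw [hM]
      exact ⟨hZN x hx, fun y hy h => Set.disjoint_left.mp (hdisj y x hy) h hx⟩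
  have hMN : ∀ x, M x ⊓ W ≤ N x := fun x z hz => ((hM x z).mp hz.1).1
  have hMP : ∀ x, M x ⊓ W ≤ X.basicOpen (P x) := fun x z hz =>
    (hNZ x z (hMN x hz) ((hW z).mp hz.2 x)).1
  have hMQ : ∀ x, M x ⊓ W ≤ X.basicOpen (Q x) := fun x z hz =>
    (hNZ x z (hMN x hz) ((hW z).mp hz.2 x)).2
  have hPu := fun x => Groth.Agent.S2878.isUnit_resO (hMN x) (P x) (hMP x)
  have hQu := fun x => Groth.Agent.S2878.isUnit_resO (hMN x) (Q x) (hMQ x)
  obtain ⟨L, e₀', e', hLinv, hge₀, hge, hrel'⟩ := Ega4dA.LineGlue.exists_line W M hMM hcov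
    (fun x => (hQu x).unit * (hPu x).unit⁻¹)
  refine ⟨L, hLinv, ?_⟩
  have hWU : i ⁻¹ᵁ W ≤ U := by
    intro t ht
    by_contra hU
    exact (hW (i t)).mp ht ⟨t, hU⟩ (hxZ ⟨t, hU⟩)
  have hMV : ∀ x, i ⁻¹ᵁ (M x) ≤ V x := fun x t ht => hNV x (((hM x (i t)).mp ht).1)
  refine Ega4dA.LineGlue.nonempty_iso (Y := X₀) (i ⁻¹ᵁ W) (fun x => i ⁻¹ᵁ (M x)) ?_ ?_
    ((Scheme.Modules.pullback i).obj L) L₀ (Fdesc.LocGen.pullSec i e₀') (fun x => Fdesc.LocGen.pullSec i (e' x))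
    (hge₀.pullSec i) (fun x => (hge x).pullSec i)
    (Fdesc.LocGen.res L₀ hWU e₀) (fun x => Fdesc.LocGen.res L₀ (hMV x) (eV x)) ?_ ?_ ?_
  · intro x y hxy t ht
    exact hMM x y hxy ht
  · intro t
    exact hcov (i t)
  · exact he₀.mono hWU
  · intro x
    exact (heV x).mono (hMV x)
  · intro x
    refine ⟨i.app (M x ⊓ W) (((hQu x).unit * (hPu x).unit⁻¹ : (Γ(X, M x ⊓ W))ˣ) : Γ(X, M x ⊓ W)), ?_, ?_⟩
    · have h1 := congrArg (Fdesc.LocGen.pullSec i) (hrel' x)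
      rw [Fdesc.LocGen.pullSec_smul] at h1
      have h2 := Fdesc.LocGen.res_pullSec i (inf_le_left : M x ⊓ W ≤ M x) (e' x)
      have h3 := Fdesc.LocGen.res_pullSec i (inf_le_right : M x ⊓ W ≤ W) e₀'
      rw [← h2, ← h3] at h1
      exact h1
    · have hO : i ⁻¹ᵁ (M x ⊓ W) ≤ V x ⊓ U := fun t ht => ⟨hMV x ht.1, hWU ht.2⟩
      have h1 := congrArg (Ega4dA.GenSec.res L₀ hO) (hrel x)
      rw [Ega4dA.GenSec.res_smul, Ega4dA.GenSec.res_smul, Ega4dA.GenSec.resO_resO, Ega4dA.GenSec.resO_resO,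
        Ega4dA.GenSec.res_res, Ega4dA.GenSec.res_res] at h1
      have h2 : i.app (M x ⊓ W) (Ega4dA.GenSec.resO X (hMN x) (P x)) =
          Ega4dA.GenSec.resO X₀ (hO.trans inf_le_left) (p x) := by
        rw [Groth.Agent.S2878.app_resO, hP x, Ega4dA.GenSec.resO_resO]
      have h3 : i.app (M x ⊓ W) (Ega4dA.GenSec.resO X (hMN x) (Q x)) =
          Ega4dA.GenSec.resO X₀ (hO.trans inf_le_left) (q x) := by
        rw [Groth.Agent.S2878.app_resO, hQ x, Ega4dA.GenSec.resO_resO]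
      have h4 : i.app (M x ⊓ W) (((hQu x).unit * (hPu x).unit⁻¹ : (Γ(X, M x ⊓ W))ˣ) : Γ(X, M x ⊓ W)) *
          i.app (M x ⊓ W) (Ega4dA.GenSec.resO X (hMN x) (P x)) =
          i.app (M x ⊓ W) (Ega4dA.GenSec.resO X (hMN x) (Q x)) := by
        rw [← map_mul]
        congr 1
        rw [Units.val_mul, mul_assoc, IsUnit.val_inv_mul, mul_one]
        rfl
      have hu : IsUnit (i.app (M x ⊓ W) (Ega4dA.GenSec.resO X (hMN x) (P x))) :=
        (hPu x).map (i.app (M x ⊓ W)).hom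
      rw [← h2, ← h3] at h1
      have h5 := Groth.Agent.S2878.solve_smul hu h1 h4
      have hl1 : i ⁻¹ᵁ (M x ⊓ W) ≤ i ⁻¹ᵁ (M x) := i.preimage_mono inf_le_left
      have hl2 : i ⁻¹ᵁ (M x ⊓ W) ≤ i ⁻¹ᵁ W := i.preimage_mono inf_le_right
      rw [← Ega4dA.GenSec.res_res L₀ (hMV x) hl1 (eV x), ← Ega4dA.GenSec.res_res L₀ hWU hl2 e₀] at h5
      exact h5

end Groth.Agent.S5101
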