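import Groth.Statements.S5103
import Groth.Agent.Div21.K172.CocOrd

set_option autoImplicit false
universe u
open CategoryTheory CategoryTheory.Limits AlgebraicGeometry TopologicalSpace
open Div21

namespace Groth.Agent.S5103

/-- For an integral scheme (the canonical homomorphism Pic(X) → Cl(X) to the group of codimension-1
cycle classes is injective): let X be a normal locally Noetherian integral scheme, L an invertible
O_X-module and s a nonzero rational section of L (a nonzero element of the fibre of L at the generic
point). If the Weil divisor of s is principal — there is a nonzero rational function f whose order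
of vanishing at every point of codimension 1 (coheight 1 in the specialization order) equals the
order of s there — then L is isomorphic to O_X. -/
theorem result (X : Scheme.{u}) [IsIntegral X] [IsLocallyNoetherian X]
    (hX : Pi1.IsNormalScheme X) (L : X.Modules) (hL : PicF.IsInvertible L)
    (s : Cyc.secFibre L (genericPoint ↥X)) (hs : s ≠ 0) (f : ↑X.functionField) (hf : f ≠ 0)
    (h : ∀ x : ↥X, Order.coheight x = 1 →
      Cyc.secOrdAt L (genericPoint ↥X) x (genericPoint_specializes x) s = Scheme.ord f x) :
    Nonempty (L ≅ Coh.structureModule X) := by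
  have hX' : ∀ x : X, IsIntegrallyClosed (X.presheaf.stalk x) := fun x => (hX x).2
  obtain ⟨a, ha⟩ := Groth.Agent.Lefpen.H521.CartierCoc.exists_hasCoc hL
  obtain ⟨σ, hσ0, hσ, hord⟩ := K172.CocOrd.exists_sec hL ha
  obtain ⟨b, hb, rfl⟩ := hσ s hs
  refine Groth.Agent.Lefpen.H521.CartierCoc.hasCoc_iso ha K172.CocOrd.hasCoc_structureModule
    (f / b) (div_ne_zero hf hb) fun x => ?_
  rw [div_one]
  refine K172.CocOrd.unitAt_of_ord hX' (mul_ne_zero (div_ne_zero hf hb) (ha.1 x))
    fun z hz hz1 => ?_
  obtain ⟨U, hxU, hU⟩ := Groth.Agent.Lefpen.H521.CartierCoc.hasCoc_loc ha x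
  have h1 := h z hz1
  rw [hord b hb z hz1] at h1
  have h2 := K172.CocOrd.ord_div_of_unitAt hb (ha.1 z) (ha.1 x) (hU z (hz.mem_open U.2 hxU))
  rw [h1] at h2
  have h3 : f / b * a x = f * (b / a x)⁻¹ := by
    rw [inv_div]
    ring
  have h4 : b / a x ≠ 0 := div_ne_zero hb (ha.1 x)
  rw [h3, Scheme.ord_mul hf (inv_ne_zero h4), Groth.Agent.Ega4dB.CDivUFD.ord_inv _ _ h4, h2]
  ring

end Groth.Agent.S5103
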