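import Groth.Statements.S5108
import Groth.Agent.Pur21.K172.Nhd

set_option autoImplicit false
universe u
open CategoryTheory CategoryTheory.Limits AlgebraicGeometry TopologicalSpace
open Pur21

namespace Groth.Agent.S5108

/-- Let X and Y be locally Noetherian schemes, g : X → Y a morphism, y a closed point of Y and Y' = Y −
{y}; suppose that the restriction g⁻¹(Y') → Y' of g is an open immersion and that the local ring
O_{Y,y} satisfies condition (W): every open subset U of the punctured spectrum of O_{Y,y} which
contains no irreducible component of the punctured spectrum and whose inclusion into the punctured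
spectrum is an affine morphism is itself affine. Then for every irreducible component Z of the fibre
g⁻¹(y), with generic point z (a point over y with no proper generization over y), either Z has
codimension ≤ 1 in X (dim O_{X,z} ≤ 1) or z is isolated in Z (some open neighbourhood of z contains
no other point of Z). The morphism g is not assumed locally of finite type. (The published statement
adds that, when the component is locally of finite type over the residue field of y, the second
alternative forces it to be a single point; this row omits that clause.) -/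
theorem result {X Y : Scheme.{u}}
    [IsLocallyNoetherian X] [IsLocallyNoetherian Y] (g : X ⟶ Y) (y : ↥Y) (Y' : Y.Opens)
    (hY' : (Y' : Set ↥Y) = {y}ᶜ) [IsOpenImmersion (g ∣_ Y')]
    (hW : (∀ U : (Spec (Y.presheaf.stalk y)).Opens, ∀ hU : U ≤ FEt.puncturedSpec ↑(Y.presheaf.stalk y),
        (∀ T ∈ irreducibleComponents ↥(FEt.puncturedSpec ↑(Y.presheaf.stalk y)), ¬ Subtype.val '' T ⊆ (U : Set _)) →
        IsAffineHom ((Spec (Y.presheaf.stalk y)).homOfLE hU) → IsAffineOpen U))
    (z : ↥X) (hz : g z = y) (hmax : ∀ z' : ↥X, g z' = y → z' ⤳ z → z' = z) :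
    ringKrullDim ↑(X.presheaf.stalk z) ≤ 1 ∨
      ∃ O : X.Opens, z ∈ O ∧ ∀ z' : ↥X, z' ∈ O → g z' = y → z ⤳ z' → z' = z := by
  classical
  subst hz
  by_contra hcon
  rw [not_or] at hcon
  obtain ⟨hdim, hO⟩ := hcon
  apply hdim
  have hyY' : ∀ v : Y, v ∈ Y' ↔ v ≠ g z := by
    intro v
    change v ∈ (Y' : Set Y) ↔ _
    rw [hY']
    rfl
  have hcl : IsClosed ({g z} : Set Y) := by
    have h1 := Y'.isOpen.isClosed_compl
    rwa [hY', compl_compl] at h1
  have hF : IsClosed {x : X | g x = g z} := hcl.preimage g.continuous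
  obtain ⟨X₁, hzX₁, hX₁⟩ := K172.Nhd.exists_nhd_closure hF (z := z) rfl hmax
  let G : X.Opens := X₁ ⊓ g ⁻¹ᵁ Y'
  have hGmem : ∀ x, x ∈ G ↔ x ∈ X₁ ∧ g x ≠ g z := fun x => by
    rw [← hyY' (g x)]
    exact Iff.rfl
  have hG : ∀ x ∈ X₁, x ∈ G ↔ ¬ z ⤳ x := by
    intro x hx
    rw [hGmem]
    constructor
    · rintro ⟨-, hne⟩ hzx
      have h2 : g x ∈ closure {g z} := specializes_iff_mem_closure.mp (hzx.map g.continuous)
      rw [hcl.closure_eq] at h2
      exact hne h2
    · exact fun hn => ⟨hx, fun h => hn (hX₁ x hx h)⟩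
  have hGle : G ≤ g ⁻¹ᵁ Y' := inf_le_right
  have hj : IsOpenImmersion (G.ι ≫ g) := by
    have h1 : G.ι ≫ g = X.homOfLE hGle ≫ (g ∣_ Y') ≫ Y'.ι := by
      rw [morphismRestrict_ι, Scheme.homOfLE_ι_assoc]
    rw [h1]
    infer_instance
  refine K172.Core.core g z hW X₁ hzX₁ G hG inf_le_left (fun x hx => ((hGmem x).mp hx).2) ?_
  intro O hzO
  by_contra hno
  apply hO
  refine ⟨O, hzO, fun z' hz'O hz' _ => ?_⟩
  by_contra hne
  exact hno ⟨z', hz'O, hz', hne⟩

end Groth.Agent.S5108
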