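import Groth.Statements.S5109
import Groth.Agent.Pur21.K172.Nhd

set_option autoImplicit false
universe u
open CategoryTheory CategoryTheory.Limits AlgebraicGeometry TopologicalSpace
open Pur21

namespace Groth.Agent.S5109

/-- Let X and Y be locally Noetherian schemes with X irreducible, g : X → Y a morphism locally of finite
type, and V the largest open subset of X on which g is a local isomorphism. Suppose that for every
point y of Y the local ring O_{Y,y} satisfies the following condition (W): every open subset of its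
punctured spectrum which contains no irreducible component of the punctured spectrum and whose
inclusion is affine is itself affine. Then every irreducible component of T = X − V either has
codimension ≤ 1 in X or has its generic point z isolated in the fibre g⁻¹(g(z)): for every point z
with no open neighbourhood on which g is a local isomorphism, and maximal with this property under
generization, either dim O_{X,z} ≤ 1 or some open neighbourhood of z meets the fibre through z only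
in z. -/
theorem result {X Y : Scheme.{u}}
    [IsLocallyNoetherian X] [IsLocallyNoetherian Y] [IrreducibleSpace ↥X] (g : X ⟶ Y) [LocallyOfFiniteType g]
    (hW : ∀ y : ↥Y, (∀ U : (Spec (Y.presheaf.stalk y)).Opens, ∀ hU : U ≤ FEt.puncturedSpec ↑(Y.presheaf.stalk y),
        (∀ T ∈ irreducibleComponents ↥(FEt.puncturedSpec ↑(Y.presheaf.stalk y)), ¬ Subtype.val '' T ⊆ (U : Set _)) →
        IsAffineHom ((Spec (Y.presheaf.stalk y)).homOfLE hU) → IsAffineOpen U))
    (z : ↥X) (hz : ¬ ∃ W : X.Opens, z ∈ W ∧ IsLocalIso (W.ι ≫ g))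
    (hmax : ∀ z' : ↥X, (¬ ∃ W : X.Opens, z' ∈ W ∧ IsLocalIso (W.ι ≫ g)) → z' ⤳ z → z' = z) :
    ringKrullDim ↑(X.presheaf.stalk z) ≤ 1 ∨
      ∃ O : X.Opens, z ∈ O ∧ ∀ z' : ↥X, z' ∈ O → g z' = g z → z' = z := by
  classical
  by_contra hcon
  rw [not_or] at hcon
  obtain ⟨hdim, hO⟩ := hcon
  apply hdim
  let T : Set X := {x | ¬ ∃ W : X.Opens, x ∈ W ∧ IsLocalIso (W.ι ≫ g)}
  have hT : IsClosed T := by
    rw [← isOpen_compl_iff, isOpen_iff_forall_mem_open]
    intro x hx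
    obtain ⟨W, hxW, hW⟩ := not_not.mp hx
    exact ⟨W, fun y hy => not_not.mpr ⟨W, hy, hW⟩, W.2, hxW⟩
  obtain ⟨X₀, hzX₀, hX₀⟩ := K172.Nhd.exists_nhd_closure hT (z := z) hz hmax
  obtain ⟨_, ⟨X₂ : X.Opens, hX₂, rfl⟩, hzX₂, hX₂le⟩ :=
    X.isBasis_affineOpens.exists_subset_of_mem_open (show z ∈ (X₀ : Set X) from hzX₀) X₀.isOpen
  have hX₂ : IsAffineOpen X₂ := hX₂
  have hzX₂ : z ∈ X₂ := hzX₂
  have hclT : ∀ x, z ⤳ x → x ∈ T := fun x hx => hx.mem_closed hT hz
  -- the local isomorphism locus near `z` maps injectively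
  let G₂ : X.Opens := X₂ ⊓ ⟨Tᶜ, hT.isOpen_compl⟩
  have hG₂T : ∀ x ∈ G₂, x ∉ T := fun x hx => hx.2
  have hiso : ∀ x ∈ G₂, ∃ W : X.Opens, x ∈ W ∧ IsOpenImmersion (W.ι ≫ g) := by
    intro x hx
    obtain ⟨W, hxW, hW⟩ := not_not.mp (hG₂T x hx)
    obtain ⟨U, hxU, hU⟩ := IsLocalIso.exists_isOpenImmersion (f := W.ι ≫ g) ⟨x, hxW⟩
    refine ⟨W.ι ''ᵁ U, ⟨⟨x, hxW⟩, hxU, rfl⟩, ?_⟩
    have h1 : (W.ι ''ᵁ U).ι ≫ g = (IsOpenImmersion.isoOfRangeEq (W.ι ''ᵁ U).ι (U.ι ≫ W.ι) (by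
        simp [Scheme.Hom.comp_base, Set.range_comp])).hom ≫ U.ι ≫ W.ι ≫ g := by
      rw [← Category.assoc U.ι, IsOpenImmersion.isoOfRangeEq_hom_fac_assoc]
    rw [h1]
    infer_instance
  have hlocG : IsLocalIso (G₂.ι ≫ g) := by
    constructor
    rintro ⟨x, hx⟩
    obtain ⟨W, hxW, hW⟩ := hiso x hx
    refine ⟨G₂.ι ⁻¹ᵁ W, hxW, ?_⟩
    have h1 : (G₂.ι ⁻¹ᵁ W).ι ≫ G₂.ι ≫ g = (G₂.ι ∣_ W) ≫ W.ι ≫ g := by
      rw [morphismRestrict_ι_assoc]
    rw [h1]
    infer_instance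
  have hsepG : IsSeparated (G₂.ι ≫ g) := by
    have hle : G₂ ≤ X₂ := inf_le_left
    have h1 : IsAffine (X₂ : Scheme.{u}) := hX₂
    have h2 : IsSeparated (X₂.ι ≫ g) := by
      have : IsSeparated ((X₂.ι ≫ g) ≫ terminal.from Y) := by
        rw [Limits.terminal.comp_from]
        infer_instance
      exact IsSeparated.of_comp (X₂.ι ≫ g) (terminal.from Y)
    have h3 : G₂.ι ≫ g = X.homOfLE hle ≫ X₂.ι ≫ g := by
      rw [Scheme.homOfLE_ι_assoc]
    rw [h3]
    infer_instance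
  have hirr : PreirreducibleSpace ↥(G₂ : Scheme.{u}) := by
    have := (PreirreducibleSpace.isPreirreducible_univ (X := X)).open_subset G₂.2
      (Set.subset_univ (G₂ : Set X))
    exact Subtype.preirreducibleSpace this
  have hinj := K172.Nhd.injective_of_isLocalIso (G₂.ι ≫ g)
  have hinj' : ∀ a ∈ G₂, ∀ b ∈ G₂, g a = g b → a = b := by
    intro a ha b hb hab
    have h1 : (G₂.ι ≫ g) ⟨a, ha⟩ = (G₂.ι ≫ g) ⟨b, hb⟩ := by
      rw [Scheme.Hom.comp_apply, Scheme.Hom.comp_apply]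
      exact hab
    exact congrArg Subtype.val (hinj h1)
  -- remove the point of `G₂` in the fibre
  let B : Set X := {x | x ∈ G₂ ∧ g x = g z}
  have hBfin : B.Finite := Set.Subsingleton.finite fun a ha b hb =>
    hinj' a ha.1 b hb.1 (ha.2.trans hb.2.symm)
  let K : Set X := ⋃ c ∈ B, closure {c}
  have hK : IsClosed K := hBfin.isClosed_biUnion fun _ _ => isClosed_closure
  have hzK : z ∉ K := by
    intro h
    obtain ⟨c, hc, hzc⟩ := Set.mem_iUnion₂.mp h
    have hcz : c ⤳ z := specializes_iff_mem_closure.mpr hzc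
    obtain ⟨W, hcW, hW'⟩ := hiso c hc.1
    have h1 : IsIso (g.stalkMap c) :=
      Groth.Agent.Ega4dA.PurityGeom.isIso_stalkMap_of_nhd g c W hcW
    have h2 := K172.Nhd.eq_of_isIso_stalkMap g hcz hc.2
    rw [h2] at hc
    exact hG₂T z hc.1 hz
  let Kc : X.Opens := ⟨Kᶜ, hK.isOpen_compl⟩
  let X₁ : X.Opens := X₂ ⊓ Kc
  let G : X.Opens := G₂ ⊓ Kc
  have hG : ∀ x ∈ X₁, x ∈ G ↔ ¬ z ⤳ x := by
    intro x hx
    constructor
    · intro hxG hzx
      exact hG₂T x hxG.1 (hclT x hzx)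
    · intro hn
      exact ⟨⟨hx.1, fun hxT => hn (hX₀ x (hX₂le hx.1) hxT)⟩, hx.2⟩
  have hj : IsOpenImmersion (G.ι ≫ g) := by
    have hle : G ≤ G₂ := inf_le_left
    have h3 : G.ι ≫ g = X.homOfLE hle ≫ G₂.ι ≫ g := by
      rw [Scheme.homOfLE_ι_assoc]
    have h4 : IsOpenImmersion (G₂.ι ≫ g) :=
      Groth.Agent.Ega4dA.LocalIsoAux.isOpenImmersion_of_injective _ hinj
    rw [h3]
    infer_instance
  refine K172.Core.core g z (hW (g z)) X₁ ⟨hzX₂, hzK⟩ G hG
    (le_inf (inf_le_left.trans inf_le_left) inf_le_right) (fun x hx h => ?_) ?_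
  · exact hx.2 (Set.mem_iUnion₂.mpr ⟨x, ⟨hx.1, h⟩, subset_closure rfl⟩)
  · intro O hzO
    by_contra hno
    apply hO
    refine ⟨O, hzO, fun z' hz'O hz' => ?_⟩
    by_contra hne
    exact hno ⟨z', hz'O, hz', hne⟩

end Groth.Agent.S5109
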