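import Groth.Statements.S5111
import Groth.Agent.Rat20.K172.ZSection
import Groth.Agent.S3848

set_option autoImplicit false
universe u
open CategoryTheory CategoryTheory.Limits AlgebraicGeometry TopologicalSpace
open Rat20 K172.GlueZ K172.ZSection

namespace Groth.Agent.S5111

/-- Let S and X be locally Noetherian schemes, f : X → S a flat morphism, g : Y → S a morphism locally
of finite type, U a dense open subset of S, h : f⁻¹(U) → Y an S-morphism, Z the reduced closed
subscheme of X with underlying space f⁻¹(S − U), and h₀ : Z → Y an S-morphism; suppose X is normal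
at every point of Z. Then there is an S-morphism h' : X → Y extending h and inducing h₀ on Z if and
only if: for every spectrum S₁ of a discrete valuation ring and every morphism u : S₁ → S sending
the closed point outside U and the generic point into U, there is an S₁-morphism h'₁ : X ×_S S₁ → Y
×_S S₁ which extends the base change of h on the inverse image of U and which, at every point z₁ of
Z ×_S S₁, agrees on Spec k(z₁) with the base change of h₀. (Morphisms into Y ×_S S₁ over S₁ are
compared through their components in Y.) -/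
theorem result {X Y S : Scheme.{u}} [IsLocallyNoetherian S]
    [IsLocallyNoetherian X] (f : X ⟶ S) [Flat f] (g : Y ⟶ S) [LocallyOfFiniteType g]
    (U : S.Opens) (hU : Dense (U : Set ↥S)) (h : ↑(f ⁻¹ᵁ U) ⟶ Y) (hh : h ≫ g = (f ⁻¹ᵁ U).ι ≫ f)
    (Z : Scheme.{u}) (iZ : Z ⟶ X) [IsClosedImmersion iZ] [IsReduced Z]
    (hZ : Set.range ⇑iZ = ((f ⁻¹ᵁ U : X.Opens) : Set ↥X)ᶜ) (h₀ : Z ⟶ Y) (hh₀ : h₀ ≫ g = iZ ≫ f)
    (hnorm : ∀ z : ↥Z, IsDomain ↑(X.presheaf.stalk (iZ z)) ∧ IsIntegrallyClosed ↑(X.presheaf.stalk (iZ z))) :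
    (∃ h' : X ⟶ Y, h' ≫ g = f ∧ (f ⁻¹ᵁ U).ι ≫ h' = h ∧ iZ ≫ h' = h₀) ↔
      ∀ (R : Type u) [CommRing R] [IsDomain R] [IsDiscreteValuationRing R]
        (u : Spec (CommRingCat.of R) ⟶ S),
        u (IsLocalRing.closedPoint R) ∉ U → u (genericPoint ↥(Spec (CommRingCat.of R))) ∈ U →
        ∃ h₁ : pullback f u ⟶ pullback g u,
          h₁ ≫ pullback.snd g u = pullback.snd f u ∧
          ((pullback.fst f u) ⁻¹ᵁ (f ⁻¹ᵁ U)).ι ≫ h₁ ≫ pullback.fst g u = (pullback.fst f u ∣_ (f ⁻¹ᵁ U)) ≫ h ∧
          ∀ z₁ : ↥(pullback (iZ ≫ f) u),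
            (pullback (iZ ≫ f) u).fromSpecResidueField z₁ ≫
                pullback.lift (pullback.fst (iZ ≫ f) u ≫ iZ) (pullback.snd (iZ ≫ f) u)
                  ((Category.assoc _ _ _).trans pullback.condition) ≫ h₁ ≫ pullback.fst g u =
              (pullback (iZ ≫ f) u).fromSpecResidueField z₁ ≫ pullback.fst (iZ ≫ f) u ≫ h₀ := by
  constructor
  · rintro ⟨h', h'g, h'h, h'0⟩ R _ _ _ u hu1 hu2
    refine ⟨pullback.lift (pullback.fst f u ≫ h') (pullback.snd f u) ?_, ?_, ?_, ?_⟩
    · rw [Category.assoc, h'g, pullback.condition]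
    · rw [pullback.lift_snd]
    · rw [pullback.lift_fst, ← Category.assoc, ← morphismRestrict_ι, Category.assoc, h'h]
    · intro z₁
      rw [pullback.lift_fst, pullback.lift_fst_assoc, Category.assoc, h'0]
  · intro H
    have hUX : Dense ((f ⁻¹ᵁ U : X.Opens) : Set X) := dense_preimage f hU
    -- the section
    let q : pullback g f ⟶ X := pullback.snd g f
    let hP : ((f ⁻¹ᵁ U : X.Opens) : Scheme.{u}) ⟶ pullback g f := pullback.lift h (f ⁻¹ᵁ U).ι hh
    have hPq : hP ≫ q = (f ⁻¹ᵁ U).ι := pullback.lift_snd _ _ _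
    have hPf : hP ≫ pullback.fst g f = h := pullback.lift_fst _ _ _
    let s₀ : Z ⟶ pullback g f := pullback.lift h₀ iZ hh₀
    have hs₀q : s₀ ≫ q = iZ := pullback.lift_snd _ _ _
    have hs₀f : s₀ ≫ pullback.fst g f = h₀ := pullback.lift_fst _ _ _
    have hcl : IsClosedImmersion (s₀ ≫ q) := by rw [hs₀q]; infer_instance
    have hmem : ∀ x : X, x ∉ (f ⁻¹ᵁ U : X.Opens) → ∃ z : Z, iZ z = x := by
      intro x hx
      have : x ∈ Set.range iZ := by rw [hZ]; exact hx
      exact this
    have hnot : ∀ z : Z, iZ z ∉ (f ⁻¹ᵁ U : X.Opens) := by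
      intro z
      have : iZ z ∈ Set.range iZ := ⟨z, rfl⟩
      rw [hZ] at this
      exact this
    classical
    let y : X → ↥(pullback g f) := fun x =>
      if hx : x ∈ (f ⁻¹ᵁ U : X.Opens) then hP ⟨x, hx⟩ else s₀ (hmem x hx).choose
    have hy : ∀ z : Z, y (iZ z) = s₀ z := by
      intro z
      have h1 : y (iZ z) = s₀ (hmem (iZ z) (hnot z)).choose := dif_neg (hnot z)
      rw [h1]
      congr 1
      exact iZ.isClosedEmbedding.injective (hmem (iZ z) (hnot z)).choose_spec
    have hred : ∀ x : X, x ∉ (f ⁻¹ᵁ U : X.Opens) →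
        ∃ W : X.Opens, x ∈ W ∧ IsReduced (W : Scheme.{u}) := by
      intro x hx
      obtain ⟨z, rfl⟩ := hmem x hx
      have := (hnorm z).1
      obtain ⟨W, hxW, -, hW⟩ := Groth.Agent.Ega4late.H542.GlueSup.exists_isIntegral_nhd (iZ z)
      exact ⟨W, hxW, inferInstance⟩
    have hcont : ∀ x : X, x ∉ (f ⁻¹ᵁ U : X.Opens) → ∀ V : (pullback g f).Opens, y x ∈ V →
        ∃ N : X.Opens, x ∈ N ∧ ∀ x' ∈ N, x' ∉ (f ⁻¹ᵁ U : X.Opens) → y x' ∈ V := by
      intro x hx V hV
      obtain ⟨z, rfl⟩ := hmem x hx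
      rw [hy] at hV
      obtain ⟨N, hN, hN'⟩ := iZ.isClosedEmbedding.isInducing.isOpen_iff.mp (s₀ ⁻¹ᵁ V).2
      refine ⟨⟨N, hN⟩, ?_, ?_⟩
      · change z ∈ iZ ⁻¹' N
        rw [hN']
        exact hV
      · intro x' hx' hx'U
        obtain ⟨z', rfl⟩ := hmem x' hx'U
        rw [hy]
        have : z' ∈ iZ ⁻¹' N := hx'
        rw [hN'] at this
        exact this
    have hloc : ∀ x : X, x ∉ (f ⁻¹ᵁ U : X.Opens) → ∃ (U' : X.Opens) (hUU' : (f ⁻¹ᵁ U) ≤ U')
        (hxU' : x ∈ U') (h' : (U' : Scheme.{u}) ⟶ pullback g f),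
        h' ≫ q = U'.ι ∧ X.homOfLE hUU' ≫ h' = hP ∧ h' ⟨x, hxU'⟩ = y x := by
      intro x hx
      obtain ⟨z, rfl⟩ := hmem x hx
      have h1 := (hnorm z).1
      rw [hy]
      have hqs : q (s₀ z) = iZ z := by rw [← Scheme.Hom.comp_apply, hs₀q]
      refine (Groth.Agent.S3848.result q (f ⁻¹ᵁ U) hUX hP hPq (iZ z) hx (hnorm z).2 (s₀ z) hqs
        ⟨(q.residueFieldMap (s₀ z)).hom.injective, residueFieldMap_surjective s₀ q z⟩).mpr ?_
      intro R _ _ _ u hu ub hub
      let K := FractionRing R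
      let jK : Spec (CommRingCat.of K) ⟶ Spec (CommRingCat.of R) :=
        Spec.map (CommRingCat.ofHom (algebraMap R K))
      have hub' : ub ≫ (f ⁻¹ᵁ U).ι = jK ≫ u := hub
      have hjK : jK (IsLocalRing.closedPoint K) = genericPoint (Spec (CommRingCat.of R)) := by
        rw [genericPoint_eq_bot_of_affine]
        apply PrimeSpectrum.ext
        change Ideal.comap (algebraMap R K) (IsLocalRing.maximalIdeal K) = ⊥
        rw [IsLocalRing.maximalIdeal_eq_bot]
        exact Ideal.comap_bot_of_injective _ (IsFractionRing.injective R K)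
      obtain ⟨h₁, h₁s, h₁U, h₁z⟩ := H R (u ≫ f) (by
        rw [Scheme.Hom.comp_apply, hu]
        exact hx) (by
        rw [← hjK, ← Scheme.Hom.comp_apply, ← Category.assoc, ← hub', Category.assoc,
          Scheme.Hom.comp_apply, Scheme.Hom.comp_apply]
        exact (ub (IsLocalRing.closedPoint K)).2)
      let σ : Spec (CommRingCat.of R) ⟶ pullback f (u ≫ f) :=
        pullback.lift u (𝟙 _) (Category.id_comp _).symm
      have hσ1 : σ ≫ pullback.fst f (u ≫ f) = u := pullback.lift_fst _ _ _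
      have hσ2 : σ ≫ pullback.snd f (u ≫ f) = 𝟙 _ := pullback.lift_snd _ _ _
      let w : Spec (CommRingCat.of R) ⟶ Y := σ ≫ h₁ ≫ pullback.fst g (u ≫ f)
      have hw : w ≫ g = u ≫ f := by
        simp only [w, Category.assoc]
        rw [pullback.condition, reassoc_of% h₁s, reassoc_of% hσ2]
      let h₁' : Spec (CommRingCat.of R) ⟶ pullback g f := pullback.lift w u hw
      have hh1 : h₁' ≫ pullback.fst g f = w := pullback.lift_fst _ _ _
      have hh2 : h₁' ≫ q = u := pullback.lift_snd _ _ _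
      -- generic part
      have hgen : jK ≫ w = ub ≫ h := by
        let κ : Spec (CommRingCat.of K) ⟶
            ((pullback.fst f (u ≫ f) ⁻¹ᵁ (f ⁻¹ᵁ U) : (pullback f (u ≫ f)).Opens) : Scheme.{u}) :=
          IsOpenImmersion.lift (pullback.fst f (u ≫ f) ⁻¹ᵁ (f ⁻¹ᵁ U)).ι (jK ≫ σ) (by
            rintro _ ⟨t, rfl⟩
            rw [Scheme.Opens.range_ι]
            change (pullback.fst f (u ≫ f)) ((jK ≫ σ) t) ∈ (f ⁻¹ᵁ U : X.Opens)
            rw [← Scheme.Hom.comp_apply, Category.assoc, hσ1, ← hub', Scheme.Hom.comp_apply]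
            exact (ub t).2)
        have hκ : κ ≫ (pullback.fst f (u ≫ f) ⁻¹ᵁ (f ⁻¹ᵁ U)).ι = jK ≫ σ :=
          IsOpenImmersion.lift_fac _ _ _
        have hκ2 : κ ≫ (pullback.fst f (u ≫ f) ∣_ (f ⁻¹ᵁ U)) = ub := by
          rw [← cancel_mono (f ⁻¹ᵁ U).ι, Category.assoc, morphismRestrict_ι, reassoc_of% hκ, hσ1,
            hub']
        have h3 := congrArg (fun k => κ ≫ k) h₁U
        simp only [reassoc_of% hκ, reassoc_of% hκ2] at h3
        exact h3
      refine ⟨h₁', hh2, ?_, ?_⟩
      · -- closed point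
        let k := IsLocalRing.ResidueField R
        let ρ : Spec (CommRingCat.of k) ⟶ Spec (CommRingCat.of R) :=
          Spec.map (CommRingCat.ofHom (algebraMap R k))
        have hρ : ρ (IsLocalRing.closedPoint k) = IsLocalRing.closedPoint R := by
          apply PrimeSpectrum.ext
          change Ideal.comap (algebraMap R k) (IsLocalRing.maximalIdeal k) =
            IsLocalRing.maximalIdeal R
          rw [IsLocalRing.maximalIdeal_eq_bot, ← RingHom.ker_eq_comap_bot]
          exact IsLocalRing.ker_residue (R := R)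
        obtain ⟨a, ha, haz⟩ := exists_lift_closed iZ (ρ ≫ u) z (by
          rw [Scheme.Hom.comp_apply, hρ, hu])
        let τ : Spec (CommRingCat.of k) ⟶ pullback (iZ ≫ f) (u ≫ f) :=
          pullback.lift a ρ (by rw [reassoc_of% ha])
        have hτ1 : τ ≫ pullback.fst (iZ ≫ f) (u ≫ f) = a := pullback.lift_fst _ _ _
        have hτ2 : τ ≫ pullback.snd (iZ ≫ f) (u ≫ f) = ρ := pullback.lift_snd _ _ _
        have h4 := Scheme.descResidueField_stalkClosedPointTo_fromSpecResidueField k
          (pullback (iZ ≫ f) (u ≫ f)) τ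
        have h5 := congrArg (fun m => Spec.map (Scheme.descResidueField
          (Scheme.stalkClosedPointTo τ)) ≫ m) (h₁z (τ (IsLocalRing.closedPoint k)))
        simp only [reassoc_of% h4] at h5
        have h6 : τ ≫ pullback.lift (pullback.fst (iZ ≫ f) (u ≫ f) ≫ iZ)
            (pullback.snd (iZ ≫ f) (u ≫ f))
            ((Category.assoc _ _ _).trans pullback.condition) = ρ ≫ σ := by
          apply pullback.hom_ext
          · rw [Category.assoc, pullback.lift_fst, reassoc_of% hτ1, ha, Category.assoc, hσ1]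
          · rw [Category.assoc, pullback.lift_snd, hτ2, Category.assoc, hσ2, Category.comp_id]
        rw [reassoc_of% h6, reassoc_of% hτ1] at h5
        have h7 : ρ ≫ h₁' = a ≫ s₀ := by
          apply pullback.hom_ext
          · rw [Category.assoc, hh1, Category.assoc, hs₀f]
            exact h5
          · rw [Category.assoc, Category.assoc]
            change ρ ≫ h₁' ≫ q = a ≫ s₀ ≫ q
            rw [hh2, hs₀q, ha]
        have h8 := congrArg (fun m => m (IsLocalRing.closedPoint k)) h7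
        simp only [Scheme.Hom.comp_apply, haz] at h8
        rw [hρ] at h8
        exact h8
      · apply pullback.hom_ext
        · rw [Category.assoc, Category.assoc]
          change jK ≫ h₁' ≫ pullback.fst g f = ub ≫ hP ≫ pullback.fst g f
          rw [hh1, hPf, hgen]
        · rw [Category.assoc, Category.assoc]
          change jK ≫ h₁' ≫ q = ub ≫ hP ≫ q
          rw [hh2, hPq, hub']
    obtain ⟨h'', h''q, h''h, h''y⟩ := glueAll hUX hPq hred (exists_dat hUX hred hloc hcont)
    refine ⟨h'' ≫ pullback.fst g f, ?_, ?_, ?_⟩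
    · rw [Category.assoc, pullback.condition]
      change h'' ≫ q ≫ f = f
      rw [reassoc_of% h''q]
    · rw [reassoc_of% h''h, hPf]
    · have h9 : iZ ≫ h'' = s₀ := by
        symm
        apply hom_ext_pointwise s₀ (iZ ≫ h'') q
        · rw [hs₀q, Category.assoc, h''q, Category.comp_id]
        · intro z
          rw [Scheme.Hom.comp_apply, h''y (iZ z) (hnot z), hy]
      rw [reassoc_of% h9, hs₀f]

end Groth.Agent.S5111
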