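import Groth.Statements.S5112
import Groth.Agent.Div21.K172.ParaExt

set_option autoImplicit false
universe u
open CategoryTheory CategoryTheory.Limits AlgebraicGeometry TopologicalSpace
open Div21

namespace Groth.Agent.S5112

/-- The implication from (b) to (a), for an integral scheme (a normal locally Noetherian scheme is the
disjoint union of its integral components): let X be a normal locally Noetherian integral scheme and
S a subset of X. A codimension-1 cycle Z (an integer-valued function on points, zero off the points
of codimension 1, i.e. of coheight 1, with locally finite support) is principal at a point x when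
there is a nonzero rational function whose order at every codimension-1 point generizing x is the
value of Z there (the trace of Z on Spec O_{X,x} is a principal divisor). Suppose (b): for every
point x of X which is not a generization of a point of S (the closure of x does not meet S) and
whose local ring has dimension at least 2, the local ring O_{X,x} is parafactorial. Then (a): every
codimension-1 cycle which is principal at all points of S is principal at every point of X (it is
locally principal). (The published statement asserts that (a) and (b) are equivalent. The
implication from (a) to (b) fails: on the quotient of the real 2-sphere x² + y² + z² = 1 by (x, y,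
z) ↦ (−x, −y, z), a normal Noetherian integral surface with exactly two singular points and divisor
class group of order 2, take S to be one singular point; every cycle principal there is principal
everywhere, while the local ring at the other singular point has dimension 2 and is not
parafactorial. This row states the implication from (b) to (a), which the published argument does
prove.) -/
theorem result (X : Scheme.{u}) [IsIntegral X]
    [IsLocallyNoetherian X] (hX : Pi1.IsNormalScheme X) (S : Set ↥X)
    (hpar : ∀ x : ↥X, closure {x} ∩ S = ∅ → (2 : WithBot ℕ∞) ≤ ringKrullDim ↑(X.presheaf.stalk x) →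
        ParaF.IsParafactorialLocalRing ↑(X.presheaf.stalk x))
    (Z : ↥X → ℤ) (hZ : ∀ x : ↥X, Order.coheight x ≠ 1 → Z x = 0)
    (hZfin : ∀ x : ↥X, ∃ W : X.Opens, x ∈ W ∧ {z : ↥X | z ∈ W ∧ Z z ≠ 0}.Finite)
    (hS : ∀ s : ↥X, s ∈ S →
        ∃ f : ↑X.functionField, f ≠ 0 ∧ ∀ x' : ↥X, Order.coheight x' = 1 → x' ⤳ s → Z x' = Scheme.ord f x')
    (x : ↥X) :
    ∃ f : ↑X.functionField, f ≠ 0 ∧ ∀ x' : ↥X, Order.coheight x' = 1 → x' ⤳ x → Z x' = Scheme.ord f x' := by
  have hX' : ∀ x : X, IsIntegrallyClosed (X.presheaf.stalk x) := fun x => (hX x).2
  let N : Closeds X := ⟨{x : X | K172.PrinLocus.PrinAt Z x}ᶜ,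
    (K172.PrinLocus.isOpen_prinAt hZfin).isClosed_compl⟩
  have hN : ∀ y : X, y ∉ N ↔ K172.PrinLocus.PrinAt Z y := fun y => not_not
  refine K172.ParaExt.main hX' (Y := N) ?_ Z hZfin (fun y hy => (hN y).mp hy)
    (fun y hy => (hN y).mpr (K172.PrinLocus.prinAt_of_coheight_le hX' Z hy)) x
  rw [Groth.Agent.S2831.result]
  intro y hy
  refine hpar y ?_ ?_
  · rw [Set.eq_empty_iff_forall_notMem]
    rintro s ⟨hs, hsS⟩
    have h1 : K172.PrinLocus.PrinAt Z s := hS s hsS
    exact (hN y).mpr (h1.mono (specializes_iff_mem_closure.mpr hs)) hy
  · by_contra hlt
    rw [not_le, AlgebraicGeometry.ringKrullDim_stalk_eq_coheight] at hlt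
    refine (hN y).mpr (K172.PrinLocus.prinAt_of_coheight_le hX' Z ?_) hy
    have h2 : Order.coheight y < 2 := WithBot.coe_lt_coe.mp hlt
    exact Order.le_of_lt_add_one (by rwa [one_add_one_eq_two])

end Groth.Agent.S5112
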