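import Groth.Statements.S5113

set_option autoImplicit false
universe u
open SGA1

namespace Groth.Agent.S5113

open AlgebraicGeometry CategoryTheory CategoryTheory.Limits in
/-- Let g : S' ⟶ S be submersive, i.e. surjective and making S a topological quotient of S'. Then the
sequence of sets of open subsets Ouv(S) → Ouv(S') ⇉ Ouv(S' ×_S S') (inverse images along g and along
the two projections) is exact: an open subset U' of S' whose inverse images under the two
projections of S' ×_S S' agree is the inverse image of one and only one open subset of S. -/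
theorem result {S' S : Scheme.{u}} (g : S' ⟶ S)
    (hg : Topology.IsQuotientMap g.base) (U' : S'.Opens)
    (h : (pullback.fst g g) ⁻¹ᵁ U' = (pullback.snd g g) ⁻¹ᵁ U') :
    ∃! U : S.Opens, g ⁻¹ᵁ U = U' := by
  have hsurj : Function.Surjective g.base := hg.surjective
  have hsat : ∀ x y : S', g.base x = g.base y → x ∈ U' → y ∈ U' := by
    intro x y hxy hx
    obtain ⟨w, hw1, hw2⟩ := Scheme.Pullback.exists_preimage_pullback (f := g) (g := g) x y hxy
    have h1 : w ∈ (pullback.fst g g) ⁻¹ᵁ U' := by
      show (pullback.fst g g).base w ∈ U'
      rw [show (pullback.fst g g).base w = x from hw1]; exact hx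
    rw [h] at h1
    have h2 : (pullback.snd g g).base w ∈ U' := h1
    rwa [show (pullback.snd g g).base w = y from hw2] at h2
  have hpre : g.base ⁻¹' (g.base '' (U' : Set S')) = (U' : Set S') := by
    ext y
    constructor
    · rintro ⟨x, hx, hxy⟩
      exact hsat x y hxy hx
    · intro hy
      exact ⟨y, hy, rfl⟩
  have hopen : IsOpen (g.base '' (U' : Set S')) := by
    rw [← hg.isOpen_preimage, hpre]
    exact U'.isOpen
  refine ⟨⟨g.base '' (U' : Set S'), hopen⟩, TopologicalSpace.Opens.ext hpre, ?_⟩
  intro V hV
  apply TopologicalSpace.Opens.ext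
  apply hsurj.preimage_injective
  show g.base ⁻¹' (V : Set S) = g.base ⁻¹' (g.base '' (U' : Set S'))
  rw [hpre, ← hV]
  rfl

end Groth.Agent.S5113
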