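import Groth.Statements.S5115
import Groth.Agent.S0075
import Groth.Agent.FlatA.UnivHomeo
-- import your own Groth.Agent.* helpers here

set_option autoImplicit false
universe u
open EtBase

namespace Groth.Agent.S5115

open AlgebraicGeometry CategoryTheory CategoryTheory.Limits

/-- A faithfully flat, quasi-compact and universally injective morphism is a universal
homeomorphism. -/
theorem isUnivHomeo {S S' : Scheme.{u}} (g : S' ⟶ S)
    [Flat g] [Surjective g] [QuasiCompact g] [UniversallyInjective g] :
    FlatMor.IsUnivHomeo g := by
  intro X' Y' i₁ i₂ f' sq
  have h₁ : Flat f' := MorphismProperty.of_isPullback sq.flip ‹Flat g›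
  have h₂ : UniversallyInjective f' := MorphismProperty.of_isPullback sq.flip ‹_›
  have h₃ : Surjective f' := MorphismProperty.of_isPullback sq.flip ‹_›
  have h₄ : QuasiCompact f' := MorphismProperty.of_isPullback sq.flip ‹_›
  have hq := Flat.isQuotientMap_of_surjective f'
  exact (isHomeomorph_iff_continuous_isClosedMap_bijective.mpr
    ⟨f'.continuous, fun Z hZ => by
      rw [← hq.isClosed_preimage, Set.preimage_image_eq _ f'.injective]
      exact hZ, f'.injective, f'.surjective⟩)

open AlgebraicGeometry CategoryTheory CategoryTheory.Limits in
/-- Let g : S' ⟶ S be faithfully flat (flat and surjective), quasi-compact and radicial (universally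
injective). Then base change along g is an equivalence from the category of schemes etale over S to
the category of schemes etale over S'. -/
theorem result {S S' : Scheme.{u}} (g : S' ⟶ S)
    [Flat g] [Surjective g] [QuasiCompact g] [UniversallyInjective g] :
    (EtCoh.bc g).IsEquivalence := by
  have : IsIntegralHom g :=
    (Groth.Agent.FlatA.UnivHomeo.isUnivHomeo_iff g).mp (isUnivHomeo g) |>.1
  exact Groth.Agent.S0075.result g

end Groth.Agent.S5115
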