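import Groth.Statements.S5120
import Groth.Agent.SGA1t.K284.Free

set_option autoImplicit false
universe u
open SGA1t

namespace Groth.Agent.S5120

open Polynomial in
/-- The computation behind the exactness of the Artin-Schreier sequence 0 → Z/p → G_a → G_a → 0 in
characteristic p, i.e. faithful flatness of ℘ = id − F: Let p be a prime and A a ring of
characteristic p. Then A[t] is free of rank p over itself via the endomorphism t ↦ t − t^p, with
basis 1, t, …, t^{p−1}: every polynomial q can be written in exactly one way as Σ_{i<p} c_i(t − t^p)
t^i. -/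
theorem result (p : ℕ) [Fact p.Prime] (A : Type u) [CommRing A] [CharP A p]
    (q : A[X]) :
    ∃! c : Fin p → A[X], q = ∑ i : Fin p, aeval (X - X ^ p : A[X]) (c i) * X ^ (i : ℕ) := by
  have hp1 : 1 < p := (Fact.out : p.Prime).one_lt
  by_cases hA : Nontrivial A
  · have h := K284.Free.poly_free_neg (X ^ p - X : A[X]) (monic_X_pow_sub (by
      rw [degree_X]; exact_mod_cast hp1)) p (by
        rw [natDegree_sub_eq_left_of_natDegree_lt (by rw [natDegree_X, natDegree_X_pow]; exact hp1),
          natDegree_X_pow]) hp1.le q
    rw [neg_sub] at h
    exact h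
  · rw [not_nontrivial_iff_subsingleton] at hA
    exact ⟨fun _ => 0, Subsingleton.elim _ _, fun _ _ => Subsingleton.elim _ _⟩

end Groth.Agent.S5120
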