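import Groth.Statements.S5121
import Groth.Agent.Pi1.H418.Glue
import Groth.Agent.Pi1.K868.ConnComp

set_option autoImplicit false
universe u
open Pi1

namespace Groth.Agent.S5121

open AlgebraicGeometry CategoryTheory CategoryTheory.Limits in
/-- For a proper surjective morphism onto a Noetherian base. Let S be a connected Noetherian scheme and
g : S' ⟶ S proper and surjective (so g is an effective descent morphism for finite etale covers, and
S', S' ×_S S', S' ×_S S' ×_S S' have finitely many connected components). Suppose that for every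
connected open and closed subscheme C of S' and every geometric point η of C the fundamental group
π₁(C, η) is topologically finitely generated. Then for every geometric point ξ of S the fundamental
group π₁(S, ξ) is topologically finitely generated. -/
theorem result {S S' : Scheme.{u}} [IsNoetherian S]
    [ConnectedSpace S] (g : S' ⟶ S) [IsProper g] [Surjective g]
    (hfg : ∀ (C : S'.Opens), IsClosed (C : Set S') → ConnectedSpace C →
      ∀ (Ω : Type u) [Field Ω] [IsAlgClosed Ω] (η : Spec (CommRingCat.of Ω) ⟶ (C : Scheme.{u})),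
        ∃ F : Finset (FEt.piOne (C : Scheme.{u}) η), PiSp.TopGenerates (F : Set (FEt.piOne (C : Scheme.{u}) η)))
    {Ω : Type u} [Field Ω] [IsAlgClosed Ω] (ξ : Spec (CommRingCat.of Ω) ⟶ S) :
    ∃ F : Finset (FEt.piOne S ξ), PiSp.TopGenerates (F : Set (FEt.piOne S ξ)) := by
  have : IsLocallyNoetherian S' := LocallyOfFiniteType.isLocallyNoetherian g
  have : CompactSpace S' := QuasiCompact.compactSpace_of_compactSpace g
  have hN' : IsNoetherian S' := { }
  obtain ⟨I, hI, C, hcl, hconn, hcov⟩ := K868.ConnComp.exists_finite_components S'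
  have hci : ∀ i, IsClosedImmersion (C i).ι := fun i =>
    IsClosedImmersion.of_isPreimmersion _ (by simpa using hcl i)
  have hp : ∀ i, IsProper ((C i).ι ≫ g) := fun i => inferInstance
  refine Groth.Agent.Pi1.H418.Glue.exists_finset
    (Groth.Agent.Pi1.H418.Glue.fgAt_of_cover (fun i => (C i : Scheme.{u})) (fun i => (C i).ι ≫ g) ?_ ?_ ?_ ξ)
  · intro x
    obtain ⟨y, rfl⟩ := g.surjective x
    obtain ⟨i, hi⟩ := hcov y
    exact ⟨i, ⟨y, hi⟩, rfl⟩
  · intro i
    have : ConnectedSpace (C i : Scheme.{u}) := hconn i
    refine Groth.Agent.Pi1.H418.Glue.fg_of_forall fun Ω _ _ η => ?_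
    obtain ⟨F, hF⟩ := hfg (C i) (hcl i) (hconn i) Ω η
    exact ⟨F, F.finite_toSet, hF⟩
  · intro i i'
    let h : pullback ((C i).ι ≫ g) ((C i').ι ≫ g) ⟶ S := pullback.fst _ _ ≫ (C i).ι ≫ g
    have h1 : IsLocallyNoetherian (pullback ((C i).ι ≫ g) ((C i').ι ≫ g)) :=
      LocallyOfFiniteType.isLocallyNoetherian h
    have h2 : CompactSpace ↥(pullback ((C i).ι ≫ g) ((C i').ι ≫ g)) :=
      QuasiCompact.compactSpace_of_compactSpace h
    have h3 : IsNoetherian (pullback ((C i).ι ≫ g) ((C i').ι ≫ g)) := { }
    infer_instance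

end Groth.Agent.S5121
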