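import Groth.Statements.S5132

set_option autoImplicit false
open CategoryTheory AlgebraicGeometry
universe u
open SGA1

namespace Groth.Agent.S5132

/-- Quasi-compactness of a morphism descends along a surjective and quasi-compact base change; flatness
of the base change is not needed for this property. -/
theorem result :
    MorphismProperty.DescendsAlong @QuasiCompact (@Surjective ⊓ @QuasiCompact : MorphismProperty Scheme.{u}) := by
  have : MorphismProperty.RespectsIso (@QuasiCompact : MorphismProperty Scheme.{u}) :=
    MorphismProperty.IsStableUnderBaseChange.respectsIso
  refine MorphismProperty.DescendsAlong.mk' ?_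
  intro X Y Z f g _ hf hfst
  have h1 : Surjective f := hf.1
  have h2 : QuasiCompact f := hf.2
  have h3 : QuasiCompact (Limits.pullback.fst f g ≫ f) := inferInstance
  rw [quasiCompact_iff_forall_isAffineOpen]
  intro U hU
  have h4 := (quasiCompact_iff_forall_isAffineOpen.1 h3) U hU
  have h5 : Function.Surjective (Limits.pullback.snd f g).base := Scheme.Hom.surjective _
  have h6 : (g ⁻¹ᵁ U : Set Y) = (Limits.pullback.snd f g).base ''
      (((Limits.pullback.fst f g ≫ f) ⁻¹ᵁ U : (Limits.pullback f g).Opens) : Set _) := by
    rw [Limits.pullback.condition]
    exact (Set.image_preimage_eq _ h5).symm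
  rw [h6]
  exact h4.image (Limits.pullback.snd f g).continuous

end Groth.Agent.S5132
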