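import Groth.Statements.S5128
import Groth.Agent.Sga1.EtaleSection
open Groth.Agent.Sga1

set_option autoImplicit false
universe u
open SGA1

namespace Groth.Agent.S5128

open AlgebraicGeometry CategoryTheory CategoryTheory.Limits in
/-- Let X and Y be S-schemes with Y etale over S. The map f ↦ Γ_f sending an S-morphism f : X ⟶ Y to the
subset of X ×_S Y underlying its graph is a bijection from Hom_S(X, Y) onto the set of open subsets
Γ of X ×_S Y for which the restriction Γ → X of the first projection is radicial (universally
injective) and surjective. Stated as: the graph of every S-morphism is an open immersion, and every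
such open Γ is the image of the graph of exactly one S-morphism. -/
theorem result {S X Y : Scheme.{u}} (p : X ⟶ S)
    (q : Y ⟶ S) [Etale q] :
    (∀ f : {f : X ⟶ Y // f ≫ q = p},
      IsOpenImmersion (pullback.lift (𝟙 X) f.1 ((Category.id_comp p).trans f.2.symm) : X ⟶ pullback p q)) ∧
    ∀ Γ : (pullback p q).Opens, UniversallyInjective (Γ.ι ≫ pullback.fst p q) → Surjective (Γ.ι ≫ pullback.fst p q) →
      ∃! f : {f : X ⟶ Y // f ≫ q = p},
        Set.range (pullback.lift (𝟙 X) f.1 ((Category.id_comp p).trans f.2.symm) : X ⟶ pullback p q).base =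
          (Γ : Set ↥(pullback p q)) := by
  refine ⟨fun f => ?_, fun Γ h1 h2 => ?_⟩
  · exact EtaleSection.isOpenImmersion_section (pullback.fst p q) _ (pullback.lift_fst _ _ _)
  · have : Etale (Γ.ι ≫ pullback.fst p q) := inferInstance
    have : IsIso (Γ.ι ≫ pullback.fst p q) :=
      EtaleSection.isIso_of_etale_of_universallyInjective _
    let s : X ⟶ pullback p q := inv (Γ.ι ≫ pullback.fst p q) ≫ Γ.ι
    have hs : s ≫ pullback.fst p q = 𝟙 X := by simp [s]
    have hsr : Set.range s.base = (Γ : Set ↥(pullback p q)) := by
      have e : Set.range s.base = Set.range Γ.ι.base := by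
        apply Set.Subset.antisymm
        · rintro _ ⟨x, rfl⟩
          exact ⟨(inv (Γ.ι ≫ pullback.fst p q)).base x, by simp [s]⟩
        · rintro _ ⟨x, rfl⟩
          refine ⟨(Γ.ι ≫ pullback.fst p q).base x, ?_⟩
          rw [← Scheme.Hom.comp_apply]
          simp only [s]
          rw [IsIso.hom_inv_id_assoc]
      rw [e]
      exact Scheme.Opens.range_ι Γ
    have hlift : ∀ f : {f : X ⟶ Y // f ≫ q = p},
        Set.range (pullback.lift (𝟙 X) f.1 ((Category.id_comp p).trans f.2.symm) :
          X ⟶ pullback p q).base = (Γ : Set ↥(pullback p q)) →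
        (pullback.lift (𝟙 X) f.1 ((Category.id_comp p).trans f.2.symm) :
          X ⟶ pullback p q) = s := by
      intro f hf
      exact (EtaleSection.section_ext (pullback.fst p q) _ _ hs (pullback.lift_fst _ _ _)
        (by rw [hf, hsr])).symm
    have hf : (s ≫ pullback.snd p q) ≫ q = p := by
      rw [Category.assoc, ← pullback.condition, ← Category.assoc, hs, Category.id_comp]
    refine ⟨⟨s ≫ pullback.snd p q, hf⟩, ?_, ?_⟩
    · have e : (pullback.lift (𝟙 X) (s ≫ pullback.snd p q)
          ((Category.id_comp p).trans hf.symm) : X ⟶ pullback p q) = s := by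
        apply pullback.hom_ext
        · rw [pullback.lift_fst, hs]
        · rw [pullback.lift_snd]
      show Set.range (pullback.lift (𝟙 X) (s ≫ pullback.snd p q)
          ((Category.id_comp p).trans hf.symm) : X ⟶ pullback p q).base = _
      rw [e, hsr]
    · intro f hf'
      apply Subtype.ext
      exact (pullback.lift_snd _ _ _).symm.trans (congrArg (· ≫ pullback.snd p q) (hlift f hf'))

end Groth.Agent.S5128
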