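import Groth.Statements.S5133
import Groth.Agent.Fdesc.QuasiCompactTop

set_option autoImplicit false
open CategoryTheory CategoryTheory.Limits AlgebraicGeometry
universe u
open SGA1

namespace Groth.Agent.S5133

/-- For a quasi-compact morphism f : X ⟶ Y and a flat surjective base change g : Y' ⟶ Y, with no
quasi-compactness asked of g, if the base change of f along g is a homeomorphism onto its image then
f is a homeomorphism onto its image. -/
theorem result {X Y Y' : Scheme.{u}} (f : X ⟶ Y)
    (g : Y' ⟶ Y) [QuasiCompact f] [Flat g] [Surjective g]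
    (h : Topology.IsEmbedding (pullback.snd f g).base) : Topology.IsEmbedding f.base := by
  have hinj : Function.Injective f.base := by
    intro x₁ x₂ hx
    obtain ⟨y', hy'⟩ := g.surjective (f.base x₁)
    obtain ⟨z₁, h1, h1'⟩ :=
      Scheme.Pullback.exists_preimage_pullback (f := f) (g := g) x₁ y' hy'.symm
    obtain ⟨z₂, h2, h2'⟩ :=
      Scheme.Pullback.exists_preimage_pullback (f := f) (g := g) x₂ y' (hx.symm.trans hy'.symm)
    have : z₁ = z₂ := h.injective (h1'.trans h2'.symm)
    exact h1.symm.trans ((congrArg _ this).trans h2)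
  refine ⟨⟨?_⟩, hinj⟩
  apply TopologicalSpace.ext_isClosed
  intro Z
  rw [isClosed_induced_iff]
  constructor
  · intro hZ
    refine ⟨closure (f.base '' Z), isClosed_closure, ?_⟩
    apply Set.Subset.antisymm
    · intro x hx
      let I := Scheme.IdealSheafData.vanishingIdeal (X := X) ⟨Z, hZ⟩
      have hr : Set.range (I.subschemeι ≫ f).base = f.base '' Z := by
        have h1 : Set.range I.subschemeι.base = Z := by
          rw [Scheme.IdealSheafData.range_subschemeι]
          rfl
        rw [Scheme.Hom.comp_base, TopCat.coe_comp, Set.range_comp, h1]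
      obtain ⟨y', hy'⟩ := g.surjective (f.base x)
      obtain ⟨z, h1, h1'⟩ :=
        Scheme.Pullback.exists_preimage_pullback (f := f) (g := g) x y' hy'.symm
      have h2 : y' ∈ g.base ⁻¹' closure (Set.range (I.subschemeι ≫ f).base) := by
        rw [hr, Set.mem_preimage, hy']
        exact hx
      rw [Groth.Agent.Fdesc.QuasiCompactTop.preimage_closure_range_eq g
        (Flat.generalizingMap g), hr] at h2
      have h3 : g.base ⁻¹' (f.base '' Z) ⊆
          (pullback.snd f g).base '' ((pullback.fst f g).base ⁻¹' Z) := by
        rintro w ⟨x₁, hx₁, hw⟩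
        obtain ⟨z₁, h4, h4'⟩ :=
          Scheme.Pullback.exists_preimage_pullback (f := f) (g := g) x₁ w hw
        exact ⟨z₁, by rw [Set.mem_preimage]; exact (show (pullback.fst f g).base z₁ = x₁ from h4) ▸ hx₁, h4'⟩
      have h5 := closure_mono h3 h2
      have h6 : z ∈ closure ((pullback.fst f g).base ⁻¹' Z) := by
        rw [h.isInducing.closure_eq_preimage_closure_image, Set.mem_preimage]
        rwa [show (pullback.snd f g).base z = y' from h1']
      rw [(hZ.preimage (pullback.fst f g).continuous).closure_eq] at h6
      exact h1 ▸ h6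
    · intro x hx
      exact subset_closure ⟨x, hx, rfl⟩
  · rintro ⟨T, hT, rfl⟩
    exact hT.preimage f.continuous

end Groth.Agent.S5133
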