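import Groth.Statements.S5135
import Mathlib.RingTheory.Flat.FaithfullyFlat.Basic
import Mathlib.RingTheory.TensorProduct.IsBaseChangeHom

set_option autoImplicit false
universe u
open scoped TensorProduct
open SGA1

namespace Groth.Agent.S5135

/-- The affine case, in submodule form (descent of submodules, equivalently of quotient modules): for A
⟶ A' faithfully flat, M an A-module and N' an A'-submodule of A' ⊗ M whose two extensions to (A' ⊗
A') ⊗ M, along a ↦ a ⊗ 1 and a ↦ 1 ⊗ a, generate the same submodule, N' is the base change of the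
submodule of M formed by the elements m with 1 ⊗ m in N'. -/
theorem result (A A' : Type u) [CommRing A] [CommRing A'] [Algebra A A']
    [Module.FaithfullyFlat A A'] (M : Type u) [AddCommGroup M] [Module A M] (N' : Submodule A' (A' ⊗[A] M))
    (h : Submodule.span (A' ⊗[A] A')
          ((N'.restrictScalars A).map
            ((Algebra.TensorProduct.includeLeft : A' →ₐ[A] A' ⊗[A] A').toLinearMap.rTensor M) : Set ((A' ⊗[A] A') ⊗[A] M)) =
        Submodule.span (A' ⊗[A] A')
          ((N'.restrictScalars A).map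
            ((Algebra.TensorProduct.includeRight : A' →ₐ[A] A' ⊗[A] A').toLinearMap.rTensor M) : Set ((A' ⊗[A] A') ⊗[A] M))) :
    ((N'.restrictScalars A).comap (TensorProduct.mk A A' M 1)).baseChange A' = N' := by
  apply le_antisymm
  · rw [Submodule.baseChange_eq_span, Submodule.span_le]
    rintro _ ⟨m, hm, rfl⟩
    exact hm
  · intro x hx
    let q : A' ⊗[A] M →ₗ[A] (A' ⊗[A] M) ⧸ N' := N'.mkQ.restrictScalars A
    let φ : M →ₗ[A] (A' ⊗[A] M) ⧸ N' := q ∘ₗ TensorProduct.mk A A' M 1
    let N : Submodule A M := (N'.restrictScalars A).comap (TensorProduct.mk A A' M 1)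
    have hex : Function.Exact N.subtype φ := by
      intro m
      have e : φ m = N'.mkQ ((1 : A') ⊗ₜ[A] m) := rfl
      rw [e, Submodule.mkQ_apply, Submodule.Quotient.mk_eq_zero]
      constructor
      · intro hm
        exact ⟨⟨m, hm⟩, rfl⟩
      · rintro ⟨n, rfl⟩
        exact n.2
    have hex' := Module.Flat.lTensor_exact A' hex
    let ψ : (A' ⊗[A] A') ⊗[A] M →ₗ[A] A' ⊗[A] ((A' ⊗[A] M) ⧸ N') :=
      q.lTensor A' ∘ₗ (TensorProduct.assoc A A' A' M).toLinearMap
    have hψ : ∀ (a b : A') (m : M), ψ ((a ⊗ₜ b) ⊗ₜ m) = a ⊗ₜ q (b ⊗ₜ m) := fun a b m => rfl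
    have key : ∀ (t : A' ⊗[A] A') (z : (A' ⊗[A] A') ⊗[A] M), ψ z = 0 → ψ (t • z) = 0 := by
      intro t z hz
      induction t with
      | zero => rw [zero_smul, map_zero]
      | add t₁ t₂ h₁ h₂ => rw [add_smul, map_add, h₁, h₂, add_zero]
      | tmul a b =>
        let L : A' ⊗[A] ((A' ⊗[A] M) ⧸ N') →ₗ[A] A' ⊗[A] ((A' ⊗[A] M) ⧸ N') :=
          TensorProduct.map (LinearMap.mulLeft A a) (LinearMap.lsmul A' _ b |>.restrictScalars A)
        have e : ψ ∘ₗ (LinearMap.lsmul (A' ⊗[A] A') ((A' ⊗[A] A') ⊗[A] M) (a ⊗ₜ b)).restrictScalars A =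
            L ∘ₗ ψ := by
          ext c d m
          show ψ ((a ⊗ₜ b : A' ⊗[A] A') • ((c ⊗ₜ d) ⊗ₜ m)) = L (ψ ((c ⊗ₜ d) ⊗ₜ m))
          rw [TensorProduct.smul_tmul', smul_eq_mul, Algebra.TensorProduct.tmul_mul_tmul, hψ, hψ]
          show _ = (a * c) ⊗ₜ[A] (b • N'.mkQ (d ⊗ₜ[A] m))
          rw [← map_smul]
          rfl
        have := LinearMap.congr_fun e z
        simpa [hz] using this
    let K : Submodule (A' ⊗[A] A') ((A' ⊗[A] A') ⊗[A] M) :=
      { carrier := {z | ψ z = 0}
        add_mem' := fun {x y} hx hy => by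
          show ψ (x + y) = 0
          rw [map_add, show ψ x = 0 from hx, show ψ y = 0 from hy, add_zero]
        zero_mem' := map_zero ψ
        smul_mem' := fun t z hz => key t z hz }
    have hK : Submodule.span (A' ⊗[A] A')
          ((N'.restrictScalars A).map
            ((Algebra.TensorProduct.includeRight : A' →ₐ[A] A' ⊗[A] A').toLinearMap.rTensor M) :
              Set ((A' ⊗[A] A') ⊗[A] M)) ≤ K := by
      rw [Submodule.span_le]
      rintro _ ⟨y, hy, rfl⟩
      show ψ _ = 0
      have e : ψ ∘ₗ ((Algebra.TensorProduct.includeRight : A' →ₐ[A] A' ⊗[A] A').toLinearMap.rTensor M)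
          = TensorProduct.mk A A' _ 1 ∘ₗ q := by
        ext a m
        simp [hψ]
      have e2 := LinearMap.congr_fun e y
      simp only [LinearMap.comp_apply] at e2
      rw [e2]
      have e3 : q y = 0 := (Submodule.Quotient.mk_eq_zero N').mpr hy
      rw [e3]; simp
    have hx' : (φ.lTensor A') x = 0 := by
      have e : ψ ∘ₗ ((Algebra.TensorProduct.includeLeft : A' →ₐ[A] A' ⊗[A] A').toLinearMap.rTensor M)
          = φ.lTensor A' := by
        ext a m
        simp [hψ, φ]
      rw [← e]
      exact hK (h ▸ Submodule.subset_span ⟨x, hx, rfl⟩)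
    obtain ⟨y, hy⟩ := (hex' x).mp hx'
    rw [← hy]
    clear hy
    induction y with
    | zero => rw [map_zero]; exact Submodule.zero_mem _
    | add y₁ y₂ h₁ h₂ => rw [map_add]; exact Submodule.add_mem _ h₁ h₂
    | tmul a n => exact Submodule.tmul_mem_baseChange_of_mem a n.2

end Groth.Agent.S5135
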