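import Groth.Statements.S5138
import Groth.Agent.Flat2G.EtaleSource
import Groth.Agent.Pi1.H398.SecLift
open Groth.Agent Groth.Agent.Pi1.H398

set_option autoImplicit false
open CategoryTheory AlgebraicGeometry
universe u
open SGA1

namespace Groth.Agent.S5138

/-- For X ⟶ X' ⟶ Y locally of finite type over a locally Noetherian Y and a point x of X, if X ⟶ X' and
the composite X ⟶ Y are both etale near x then X' ⟶ Y is etale near the image of x; 'etale near a
point' is membership in the etale locus, the union of the opens on which the morphism is etale. (The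
published statement takes the morphisms of finite type; quasi-compactness plays no role in this
assertion about single points, so only local finiteness is assumed.) -/
theorem result {X X' Y : Scheme.{u}} (f : X ⟶ X') (g : X' ⟶ Y)
    [IsLocallyNoetherian Y] [LocallyOfFiniteType f] [LocallyOfFiniteType g] (x : X)
    (hf : x ∈ Pi1X.etaleLocus f) (hfg : x ∈ Pi1X.etaleLocus (f ≫ g)) : f.base x ∈ Pi1X.etaleLocus g := by
  let U : X.Opens := Pi1X.etaleLocus f ⊓ Pi1X.etaleLocus (f ≫ g)
  have h1 : Etale (U.ι ≫ f) := SecLift.etale_of_le f U inf_le_left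
  have h2 : Etale (U.ι ≫ f ≫ g) := SecLift.etale_of_le (f ≫ g) U inf_le_right
  let V : X'.Opens := ⟨Set.range (U.ι ≫ f).base, (U.ι ≫ f).isOpenMap.isOpen_range⟩
  have hr : Set.range (U.ι ≫ f).base ⊆ Set.range V.ι.base := by
    rw [Scheme.Opens.range_ι]
    exact subset_rfl
  let l : (U : Scheme.{u}) ⟶ V := IsOpenImmersion.lift V.ι (U.ι ≫ f) hr
  have hl : l ≫ V.ι = U.ι ≫ f := IsOpenImmersion.lift_fac _ _ _
  have h3 : Etale l := by
    have : Etale (l ≫ V.ι) := by rw [hl]; exact h1
    exact Etale.of_comp l V.ι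
  have h4 : Surjective l := by
    refine ⟨fun v => ?_⟩
    obtain ⟨u, hu⟩ := v.2
    refine ⟨u, V.ι.isOpenEmbedding.injective ?_⟩
    rw [← Scheme.Hom.comp_apply, hl]
    exact hu
  have h5 : Etale (l ≫ V.ι ≫ g) := by
    rw [← Category.assoc, hl, Category.assoc]
    exact h2
  have h6 : Etale (V.ι ≫ g) := Flat2G.EtaleSource.etale_of_comp l (V.ι ≫ g)
  exact SecLift.le_etaleLocus g V h6 ⟨⟨x, hf, hfg⟩, rfl⟩

end Groth.Agent.S5138
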