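import Groth.Statements.S5150
import Mathlib.RingTheory.Depth.Rees

set_option autoImplicit false
universe u
open CategoryTheory
open LocCoh

namespace Groth.Agent.S5150

open LinearMap RingTheory.Sequence Ideal Abelian Limits Pointwise IsSMulRegular ModuleCat in
/-- Auxiliary form, by induction on the length of the sequence. -/
theorem aux (A : Type u) [CommRing A] (I : Ideal A) (N : ModuleCat.{u} A) (k : ℕ)
    (hN : I ^ k ≤ Module.annihilator A N) (n : ℕ) :
    ∀ (M : ModuleCat.{u} A) (rs : List A) (_ : rs.length = n) (_ : IsWeaklyRegular M rs)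
      (_ : ∀ r ∈ rs, r ∈ I) (i : ℕ) (_ : i < n), Subsingleton (Ext N M i) := by
  induction n with
  | zero => intro M rs _ _ _ i hi; omega
  | succ n ih =>
    intro M rs len reg mem i hi
    match rs with
    | [] => simp at len
    | a :: rs' =>
      have hk : a ^ k ∈ Module.annihilator A N := hN (Ideal.pow_mem_pow (mem a List.mem_cons_self) k)
      simp only [isWeaklyRegular_cons_iff] at reg
      simp only [List.mem_cons, forall_eq_or_imp] at mem
      simp only [List.length_cons, Nat.add_left_inj] at len
      match i with
      | 0 =>
        have : Subsingleton (N →ₗ[A] M) := by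
          refine ⟨fun f g => LinearMap.ext fun x => reg.1.pow k ?_⟩
          change a ^ k • f x = a ^ k • g x
          rw [← map_smul, ← map_smul, Module.mem_annihilator.mp hk x, map_zero, map_zero]
        exact (Ext.addEquiv₀.trans ModuleCat.homAddEquiv).subsingleton
      | i + 1 =>
        let g := (AddCommGrpCat.ofHom ((Ext.mk₀ (smulShortComplex M a).f).postcomp N
          (add_zero (i + 1))))
        have mono_g : Mono g := by
          apply (Ext.covariant_sequence_exact₁' N reg.1.smulShortComplex_shortExact i (i + 1)
            rfl).mono_g ((AddCommGrpCat.isZero_of_iff_subsingleton.mpr ?_).eq_zero_of_src _)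
          exact ih (ModuleCat.of A (QuotSMulTop a M)) rs' len reg.2 mem.2 i (by omega)
        let gk := AddCommGrpCat.ofHom ((Ext.mk₀ (M.smulShortComplex (a ^ k)).f).postcomp N
          (add_zero (i + 1)))
        have mono_gk : Mono gk := by
          simp only [smulShortComplex_f_eq_smul_id, g, gk] at mono_g ⊢
          exact (Ext.postcomp_smul_id_mono_iff (a ^ k) (i + 1)).mpr <|
            ((Ext.postcomp_smul_id_mono_iff a (i + 1)).mp mono_g).pow k
        have zero_gk : gk = 0 := Ext.postcomp_smul_id_eq_zero_of_mem_annihilator hk (i + 1)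
        exact AddCommGrpCat.subsingleton_of_isZero (IsZero.of_mono_eq_zero _ zero_gk)


/-- Let A be a commutative ring, I an ideal, M and N A-modules, and f_1, …, f_r a weakly M-regular
sequence of elements of I. If N is killed by a power of I then Ext^i_A(N, M) vanishes for all i < r.
(No Noetherian or finiteness hypothesis on A, M or N.) -/
theorem result (A : Type u) [CommRing A] (I : Ideal A) (M N : Type u) [AddCommGroup M] [Module A M] [AddCommGroup N] [Module A N] (rs : List A) (hreg : RingTheory.Sequence.IsWeaklyRegular M rs) (hI : ∀ r ∈ rs, r ∈ I) (k : ℕ) (hN : (I ^ k) • (⊤ : Submodule A N) = ⊥) (i : ℕ) (hi : i < rs.length) : Subsingleton (Abelian.Ext (ModuleCat.of A N) (ModuleCat.of A M) i) := by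
  refine aux A I (ModuleCat.of A N) k ?_ rs.length (ModuleCat.of A M) rs rfl hreg hI i hi
  intro a ha
  rw [Module.mem_annihilator]
  intro x
  have h1 : a • x ∈ (I ^ k) • (⊤ : Submodule A N) := Submodule.smul_mem_smul ha trivial
  rw [hN] at h1
  exact h1

end Groth.Agent.S5150
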