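import Groth.Statements.S5151
import Groth.Agent.Localalg.Depth3
import Groth.Agent.Ega4B.DepthBasic

set_option autoImplicit false
universe u
open LocCoh

namespace Groth.Agent.S5151

/-- Let A be a Noetherian ring, I an ideal and M a finite A-module with IM ≠ M. Every weakly M-regular
sequence of elements of I can be extended to a maximal one (one after which no element of I is
M-regular on the quotient), and any maximal weakly M-regular sequence of elements of I has length
equal to the I-depth of M. (The published statement does not assume IM ≠ M; without it the first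
assertion fails: over ℤ with I = (2) and M = ℤ/3 the element 2 is M-regular with M/2M = 0, after
which every element of I is regular on the zero module, so no weakly M-regular sequence of elements
of I is maximal, while the I-depth is infinite. With IM ≠ M every weakly M-regular sequence in I is
M-regular and the I-depth is finite.) -/
theorem result (A : Type u) [CommRing A] [IsNoetherianRing A] (I : Ideal A) (M : Type u) [AddCommGroup M] [Module A M] [Module.Finite A M] (hIM : I • (⊤ : Submodule A M) ≠ ⊤) : (∀ rs : List A, RingTheory.Sequence.IsWeaklyRegular M rs → (∀ r ∈ rs, r ∈ I) → ∃ rs' : List A, rs <+: rs' ∧ RingTheory.Sequence.IsWeaklyRegular M rs' ∧ (∀ r ∈ rs', r ∈ I) ∧ ∀ r ∈ I, ¬ RingTheory.Sequence.IsWeaklyRegular M (rs' ++ [r])) ∧ (∀ rs : List A, RingTheory.Sequence.IsWeaklyRegular M rs → (∀ r ∈ rs, r ∈ I) → (∀ r ∈ I, ¬ RingTheory.Sequence.IsWeaklyRegular M (rs ++ [r])) → (rs.length : ℕ∞) = LocCoh.idealDepth I M) := by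
  have hlt := Groth.Agent.Localalg.Depth3.idealDepth_lt_top I M hIM
  refine ⟨fun rs hreg hmem => ?_, fun rs hreg hmem hmax => ?_⟩
  · obtain ⟨d, hd⟩ := ENat.ne_top_iff_exists.mp hlt.ne
    generalize hk : d - rs.length = k
    induction k using Nat.strong_induction_on generalizing rs with
    | _ k ih =>
      by_cases hmax : ∀ r ∈ I, ¬ RingTheory.Sequence.IsWeaklyRegular M (rs ++ [r])
      · exact ⟨rs, List.prefix_refl _, hreg, hmem, hmax⟩
      · push Not at hmax
        obtain ⟨r, hr, hr'⟩ := hmax
        have hmem' : ∀ s ∈ rs ++ [r], s ∈ I := by
          intro s hs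
          rcases List.mem_append.mp hs with hs | hs
          · exact hmem s hs
          · rw [List.mem_singleton.mp hs]; exact hr
        have hle := Groth.Agent.Ega4B.DepthBasic.length_le_idealDepth _ hr' hmem'
        rw [← hd] at hle
        have hle' : (rs ++ [r]).length ≤ d := by exact_mod_cast hle
        rw [List.length_append, List.length_singleton] at hle'
        obtain ⟨rs', h1, h2⟩ := ih (d - (rs ++ [r]).length)
          (by rw [List.length_append, List.length_singleton]; omega) (rs ++ [r]) hr' hmem' rfl
        exact ⟨rs', (List.prefix_append _ _).trans h1, h2⟩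
  · have h3 := Groth.Agent.Ega4B.DepthBasic.idealDepth_quot_ofList_add_length I rs hmem M hreg
    have h4 : LocCoh.idealDepth I (M ⧸ Ideal.ofList rs • (⊤ : Submodule A M)) = 0 := by
      apply Groth.Agent.Localalg.Depth2.idealDepth_eq_zero_of_forall_not_isSMulRegular
      · intro h5
        rw [Groth.Agent.Localalg.Depth.idealDepth_eq_top_of_smul_eq_top h5] at h3
        exact hlt.ne (by rw [← h3]; simp)
      · intro x hx hreg'
        refine hmax x hx
          ((RingTheory.Sequence.isWeaklyRegular_append_iff (M := M) rs [x]).mpr ⟨hreg, ?_⟩)
        exact (RingTheory.Sequence.isWeaklyRegular_singleton_iff _ x).mpr hreg'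
    rw [← h3, h4, zero_add]

end Groth.Agent.S5151
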