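import Groth.Statements.S5152
import Groth.Agent.QGor.K966.DepthLocal

set_option autoImplicit false
universe u
open LocCoh

namespace Groth.Agent.S5152

/-- Let A be a Noetherian ring, I an ideal and M a finite A-module. Then depth_I(M) is the infimum, over
the primes p ⊇ I, of depth_{A_p}(M_p). (With the conventions used here both sides are ⊤ when IM = M,
i.e. when no prime containing I lies in the support of M.) -/
theorem result (A : Type u) [CommRing A] [IsNoetherianRing A] (I : Ideal A) (M : Type u) [AddCommGroup M] [Module A M] [Module.Finite A M] : LocCoh.idealDepth I M = ⨅ (p : PrimeSpectrum A) (_ : I ≤ p.asIdeal), LocCoh.depth (Localization.AtPrime p.asIdeal) (LocalizedModule p.asIdeal.primeCompl M) := by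
  apply le_antisymm
  · exact le_iInf₂ fun p hp =>
      Groth.Agent.Localalg.Depth3.idealDepth_le_depth_localization I M p.asIdeal hp
  · refine ENat.forall_natCast_le_iff_le.mp fun n hn => ?_
    exact K966.DepthLocal.le_idealDepth_of_forall I n M fun p hp' hp =>
      hn.trans (iInf₂_le (⟨p, hp'⟩ : PrimeSpectrum A) hp)

end Groth.Agent.S5152
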