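import Groth.Statements.S5153
import Groth.Agent.S0335
import Groth.Agent.Pi1C.ClopenExtend
import Groth.Agent.Sga3C.LocConn

set_option autoImplicit false
universe u
open AlgebraicGeometry
open LocCoh

open CategoryTheory TopologicalSpace

namespace Groth.Agent.S5153


/-- A closed set containing `x` contains a generization of `x` without proper generizations in the
closed set. -/
theorem exists_generic {X : Scheme.{u}} {Z : Set X} (hZ : IsClosed Z) {x : X} (hx : x ∈ Z) :
    ∃ z ∈ Z, z ⤳ x ∧ ∀ y ∈ Z, y ⤳ z → y = z := by
  have hQ : QuasiSober Z := hZ.isClosedEmbedding_subtypeVal.quasiSober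
  let x' : Z := ⟨x, hx⟩
  obtain ⟨z, hz⟩ := QuasiSober.sober (isIrreducible_irreducibleComponent (x := x'))
    (isClosed_irreducibleComponent (x := x'))
  refine ⟨z.1, z.2, ?_, ?_⟩
  · have h1 : z ⤳ x' := by
      rw [specializes_iff_mem_closure, hz.def]
      exact mem_irreducibleComponent
    exact h1.map continuous_subtype_val
  · intro y hy hyz
    have h1 : (⟨y, hy⟩ : Z) ⤳ z := by
      exact (Topology.IsInducing.subtypeVal (t := Z)).specializes_iff.mp hyz
    have h2 : irreducibleComponent x' ⊆ closure {(⟨y, hy⟩ : Z)} := by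
      rw [← hz.def]
      exact closure_minimal (Set.singleton_subset_iff.mpr (specializes_iff_mem_closure.mp h1))
        isClosed_closure
    have h3 := eq_irreducibleComponent (isPreirreducible_singleton.closure) h2
    have h4 : closure {(⟨y, hy⟩ : Z)} = closure {z} := by rw [h3, hz.def]
    have h5 : z ⤳ (⟨y, hy⟩ : Z) := by
      rw [specializes_iff_mem_closure, ← h4]
      exact subset_closure rfl
    exact (hyz.antisymm (h5.map continuous_subtype_val)).eq

variable {X : Scheme.{u}} [IsLocallyNoetherian X] (U : X.Opens)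
    (h : ∀ x : X, x ∉ (U : Set X) →
      (2 : ℕ∞) ≤ LocCoh.depth (X.presheaf.stalk x) (X.presheaf.stalk x))

include h

theorem dense : Dense (U : Set X) := by
  intro x
  obtain ⟨z, -, hzx, hz⟩ := exists_generic isClosed_univ (Set.mem_univ x)
  by_cases hzU : z ∈ (U : Set X)
  · exact hzx.mem_closed isClosed_closure (subset_closure hzU)
  · exfalso
    obtain ⟨q, hq⟩ := (Groth.Agent.S0335.result (X.presheaf.stalk z) (h z hzU)).nonempty
    have h1 : X.fromSpecStalk z q ⤳ z := by
      have : X.fromSpecStalk z q ∈ Set.range (X.fromSpecStalk z) := ⟨q, rfl⟩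
      rwa [Scheme.range_fromSpecStalk] at this
    have h2 := hz _ (Set.mem_univ _) h1
    apply hq
    have h3 : q = IsLocalRing.closedPoint (X.presheaf.stalk z) := by
      apply (X.fromSpecStalk z).isEmbedding.injective
      rw [h2, Scheme.fromSpecStalk_closedPoint]
    rw [h3]
    rfl

theorem disjoint_closure (V W : Set X) (hV : IsOpen V) (hW : IsOpen W) (hVW : Disjoint V W)
    (hU : V ∪ W = (U : Set X)) : Disjoint (closure V) (closure W) := by
  have hd : closure V ∪ closure W = Set.univ := by
    rw [← closure_union, hU]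
    exact (dense U h).closure_eq
  have hVW' : Disjoint V (closure W) := (hVW.symm.closure_left hV).symm
  have hWV' : Disjoint W (closure V) := (hVW.closure_left hW).symm
  rw [Set.disjoint_left]
  intro x hxV hxW
  obtain ⟨z, ⟨hzV, hzW⟩, -, hz⟩ := exists_generic (isClosed_closure.inter isClosed_closure)
    (show x ∈ closure V ∩ closure W from ⟨hxV, hxW⟩)
  have hzU : z ∉ (U : Set X) := by
    rw [← hU]
    rintro (h1 | h1)
    · exact Set.disjoint_left.mp hVW' h1 hzW
    · exact Set.disjoint_left.mp hWV' h1 hzV
  have hcomp : ∀ (A : Set X) (N : X.Opens), IsAffineOpen N → IsCompact (A ∩ N) := by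
    intro A N hN
    have : IsNoetherianRing Γ(X, N) := IsLocallyNoetherian.component_noetherian ⟨N, hN⟩
    have : NoetherianSpace N := noetherianSpace_of_isAffineOpen N hN
    have h1 : IsCompact (Subtype.val ⁻¹' A : Set N) := NoetherianSpace.isCompact _
    have h2 : IsCompact (Subtype.val '' (Subtype.val ⁻¹' A : Set N)) :=
      h1.image continuous_subtype_val
    have h3 : (A ∩ N : Set X) = (Subtype.val '' (Subtype.val ⁻¹' A : Set N) : Set X) := by
      ext y
      constructor
      · rintro ⟨hy1, hy2⟩
        exact ⟨⟨y, hy2⟩, hy1, rfl⟩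
      · rintro ⟨⟨y, hy2⟩, hy1, rfl⟩
        exact ⟨hy1, hy2⟩
    exact h3 ▸ h2
  have key : ∀ A : Set X, IsOpen A → A ⊆ U → z ∈ closure A →
      ∃ q : PrimeSpectrum (X.presheaf.stalk z),
        q.asIdeal ≠ IsLocalRing.maximalIdeal (X.presheaf.stalk z) ∧ X.fromSpecStalk z q ∈ A := by
    intro A hA hAU hzA
    obtain ⟨a, ha, haz⟩ :=
      Groth.Agent.Pi1C.ClopenExtend.exists_specializes_of_mem_closure_scheme hA
        (fun N hN => hcomp A N hN) hzA
    obtain ⟨q, hq⟩ : a ∈ Set.range (X.fromSpecStalk z) := by
      rw [Scheme.range_fromSpecStalk]; exact haz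
    refine ⟨q, ?_, by rwa [hq]⟩
    intro hqm
    have h3 : q = IsLocalRing.closedPoint (X.presheaf.stalk z) := PrimeSpectrum.ext hqm
    rw [h3, Scheme.fromSpecStalk_closedPoint] at hq
    exact hzU (hAU (hq ▸ ha))
  obtain ⟨q₁, hq₁, hq₁V⟩ := key V hV (hU ▸ Set.subset_union_left) hzV
  obtain ⟨q₂, hq₂, hq₂W⟩ := key W hW (hU ▸ Set.subset_union_right) hzW
  have hcont : Continuous (X.fromSpecStalk z) := (X.fromSpecStalk z).continuous
  obtain ⟨q, -, hqV, hqW⟩ := (Groth.Agent.S0335.result (X.presheaf.stalk z) (h z hzU)).isPreconnected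
    (X.fromSpecStalk z ⁻¹' (closure V)ᶜ) (X.fromSpecStalk z ⁻¹' (closure W)ᶜ)
    (isClosed_closure.isOpen_compl.preimage hcont) (isClosed_closure.isOpen_compl.preimage hcont)
    (by
      intro q hq
      by_contra hcon
      rw [Set.mem_union, not_or] at hcon
      have h1 : X.fromSpecStalk z q ⤳ z := by
        have : X.fromSpecStalk z q ∈ Set.range (X.fromSpecStalk z) := ⟨q, rfl⟩
        rwa [Scheme.range_fromSpecStalk] at this
      have h2 := hz _ ⟨not_not.mp hcon.1, not_not.mp hcon.2⟩ h1
      apply hq
      have h3 : q = IsLocalRing.closedPoint (X.presheaf.stalk z) := by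
        apply (X.fromSpecStalk z).isEmbedding.injective
        rw [h2, Scheme.fromSpecStalk_closedPoint]
      rw [h3]
      rfl)
    ⟨q₂, hq₂, fun hcon => Set.disjoint_left.mp hWV' hq₂W hcon⟩
    ⟨q₁, hq₁, fun hcon => Set.disjoint_left.mp hVW' hq₁V hcon⟩
  have := hd ▸ Set.mem_univ (X.fromSpecStalk z q)
  rcases this with h1 | h1
  · exact hqV h1
  · exact hqW h1

omit h


/-- Let X be a locally Noetherian scheme and Y = X − U a closed subset such that depth O_{X,x} ≥ 2 for
every x ∈ Y. Then the inclusion U → X induces a bijection on sets of connected components. -/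
theorem result (X : Scheme.{u}) [IsLocallyNoetherian X] (U : X.Opens) (h : ∀ x : X, x ∉ (U : Set X) → (2 : ℕ∞) ≤ LocCoh.depth (X.presheaf.stalk x) (X.presheaf.stalk x)) : Function.Bijective (Continuous.connectedComponentsMap (continuous_subtype_val : Continuous (fun x : U => (x : X)))) := by
  have hX : LocallyConnectedSpace X :=
    Groth.Agent.Sga3C.LocConn.locallyConnectedSpace_of_isLocallyNoetherian X
  have hUl : LocallyConnectedSpace U := U.isOpen.locallyConnectedSpace
  have hUl' : LocallyConnectedSpace ↥U := hUl
  constructor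
  · intro a b hab
    obtain ⟨a, rfl⟩ := ConnectedComponents.surjective_coe a
    obtain ⟨b, rfl⟩ := ConnectedComponents.surjective_coe b
    by_contra hne
    have hab' : (ConnectedComponents.mk (a : X)) = ConnectedComponents.mk (b : X) := hab
    rw [ConnectedComponents.coe_eq_coe'] at hab'
    have hb : a ∉ connectedComponent b := fun hcon => hne (ConnectedComponents.coe_eq_coe'.mpr hcon)
    have hC : IsClopen (connectedComponent b) := isClopen_connectedComponent
    have hdisj := disjoint_closure U h (Subtype.val '' (connectedComponent b))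
      (Subtype.val '' (connectedComponent b)ᶜ)
      (U.isOpen.isOpenMap_subtype_val _ hC.isOpen)
      (U.isOpen.isOpenMap_subtype_val _ hC.compl.isOpen)
      (by
        rw [Set.disjoint_image_iff Subtype.val_injective]
        exact disjoint_compl_right)
      (by
        rw [← Set.image_union, Set.union_compl_self, Set.image_univ, Subtype.range_coe])
    have hcl : IsClopen (closure (Subtype.val '' (connectedComponent b)) : Set X) := by
      refine ⟨isClosed_closure, ?_⟩
      have : closure (Subtype.val '' (connectedComponent b) : Set X) =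
          (closure (Subtype.val '' (connectedComponent b)ᶜ : Set X))ᶜ := by
        apply Set.Subset.antisymm
        · exact hdisj.subset_compl_right
        · rw [Set.compl_subset_iff_union, ← closure_union, Set.union_comm, ← Set.image_union,
            Set.union_compl_self, Set.image_univ, Subtype.range_coe]
          exact (dense U h).closure_eq
      rw [this]
      exact isClosed_closure.isOpen_compl
    have h1 : (b : X) ∈ closure (Subtype.val '' (connectedComponent b) : Set X) :=
      subset_closure ⟨b, mem_connectedComponent, rfl⟩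
    have h2 := hcl.connectedComponent_subset h1 hab'
    exact Set.disjoint_left.mp hdisj h2 (subset_closure ⟨a, hb, rfl⟩)
  · intro c
    obtain ⟨x, rfl⟩ := ConnectedComponents.surjective_coe c
    obtain ⟨y, hyU, hyx⟩ := (dense U h).inter_open_nonempty (connectedComponent x)
      isOpen_connectedComponent ⟨x, mem_connectedComponent⟩
    refine ⟨ConnectedComponents.mk ⟨y, hyx⟩, ?_⟩
    exact ConnectedComponents.coe_eq_coe'.mpr hyU

end Groth.Agent.S5153
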