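import Groth.Statements.S5161
import Groth.Agent.Ega4dA.AffineHullGeom

set_option autoImplicit false
universe u
open AlgebraicGeometry
open LocCoh

open CategoryTheory

namespace Groth.Agent.S5161

/-- Let A be a Noetherian ring, X = Spec A and Y ⊆ X a closed subset whose complement U is an affine
open. Then every irreducible component of Y has codimension ≤ 1 in X, i.e. the generic point of each
irreducible component of Y is a prime of height at most 1. -/
theorem result (A : Type u) [CommRing A] [IsNoetherianRing A] (U : (Spec (CommRingCat.of A)).Opens) (hU : IsAffineOpen U) (p : PrimeSpectrum A) (hpU : (p : (Spec (CommRingCat.of A) : Type u)) ∉ (U : Set (Spec (CommRingCat.of A) : Type u))) (hmin : ∀ q : PrimeSpectrum A, q.asIdeal ≤ p.asIdeal → (q : (Spec (CommRingCat.of A) : Type u)) ∉ (U : Set (Spec (CommRingCat.of A) : Type u)) → q = p) : p.asIdeal.height ≤ 1 := by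
  by_contra hdim
  have hdim2 : 2 ≤ p.asIdeal.height := by
    have := Order.add_one_le_of_lt (not_le.mp hdim)
    exact this
  obtain ⟨y, hy⟩ := Groth.Agent.Ega4dA.AffineHullGeom.exists_prime_over (A := A) U p (by
      intro P hP hPle
      have h5 : P = p := hmin P hPle hP
      rw [h5]; exact hdim2)
  have h6 : hU.fromSpec y ∈ U := by
    have : hU.fromSpec y ∈ Set.range hU.fromSpec := ⟨_, rfl⟩
    rw [hU.range_fromSpec] at this
    exact this
  have h7 : hU.fromSpec y = p := by
    rw [← hy]
    have h8 : hU.fromSpec = Spec.map (CommRingCat.ofHom (Groth.Agent.Ega4dA.AffineHullGeom.toSections A U)) := by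
      have h9 := hU.fromSpec_toSpecΓ
      have h10 : hU.fromSpec = (hU.fromSpec ≫ (Spec (CommRingCat.of A)).toSpecΓ) ≫ Spec.map (Scheme.ΓSpecIso (CommRingCat.of A)).inv := by
        rw [Category.assoc, toSpecΓ_SpecMap_ΓSpecIso_inv, Category.comp_id]
      rw [h10, h9, ← Spec.map_comp]
      rfl
    rw [h8]
    rfl
  rw [h7] at h6
  exact hpU h6

end Groth.Agent.S5161
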