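import Groth.Statements.S5162
import Groth.Agent.LocCoh.K162.ExtVan

set_option autoImplicit false
universe u
open CategoryTheory
open LocCoh

namespace Groth.Agent.S5162

/-- The affine case. Let A be a Noetherian ring, J an ideal, G any A-module and n ≥ 0. Then: H^i_J(G) =
0 for all i < n iff Ext^i_A(F, G) = 0 for all i < n and all finite A-modules F with Supp F ⊆ V(J),
iff Ext^i_A(F, G) = 0 for all i < n for one finite F with Supp F = V(J). (G is not assumed finitely
generated.) -/
theorem result (A : Type u) [CommRing A] [IsNoetherianRing A] (J : Ideal A) (G : Type u) [AddCommGroup G] [Module A G] (n : ℕ) : ((∀ i : ℕ, i < n → Subsingleton (LocCoh.H J i G)) ↔ ∀ (F : Type u) [AddCommGroup F] [Module A F], Module.Finite A F → Module.support A F ⊆ PrimeSpectrum.zeroLocus (J : Set A) → ∀ i : ℕ, i < n → Subsingleton (Abelian.Ext (ModuleCat.of A F) (ModuleCat.of A G) i)) ∧ ((∀ i : ℕ, i < n → Subsingleton (LocCoh.H J i G)) ↔ ∃ (F : Type u) (_ : AddCommGroup F) (_ : Module A F), Module.Finite A F ∧ Module.support A F = PrimeSpectrum.zeroLocus (J : Set A)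 ∧ ∀ i : ℕ, i < n → Subsingleton (Abelian.Ext (ModuleCat.of A F) (ModuleCat.of A G) i)) := by
  constructor
  · constructor
    · intro h F _ _ hF hs i hi
      exact K162.ExtVan.ext_subsingleton_of_H J G n h i hi F hF (K162.ExtVan.exists_killed J F hs)
    · intro h
      refine K162.ExtVan.H_subsingleton_of_ext J G n (A ⧸ J) ?_ fun i hi => ?_
      · rw [Module.support_eq_zeroLocus, Ideal.annihilator_quotient]
      · refine h (A ⧸ J) inferInstance ?_ i hi
        rw [Module.support_eq_zeroLocus, Ideal.annihilator_quotient]
  · constructor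
    · intro h
      have hs : Module.support A (A ⧸ J) = PrimeSpectrum.zeroLocus (J : Set A) := by
        rw [Module.support_eq_zeroLocus, Ideal.annihilator_quotient]
      exact ⟨A ⧸ J, inferInstance, inferInstance, inferInstance, hs, fun i hi =>
        K162.ExtVan.ext_subsingleton_of_H J G n h i hi (A ⧸ J) inferInstance
          (K162.ExtVan.exists_killed J (A ⧸ J) hs.le)⟩
    · rintro ⟨F, _, _, hF, hs, h⟩
      exact K162.ExtVan.H_subsingleton_of_ext J G n F hs h

end Groth.Agent.S5162
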