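import Groth.Statements.S5164
import Groth.Agent.LocCoh.K162.LCStep

set_option autoImplicit false
universe u
open LocCoh

namespace Groth.Agent.S5164

/-- Affine form. Let A be a Noetherian ring which is a quotient of a regular ring, I an ideal, M a
finite A-module and i ≥ 0; c(p) denotes the codimension of V(p) ∩ V(I) in V(p). Then the hypothesis
of the finiteness criterion — H^{i−c(p)}_{pA_p}(M_p) = 0 for all primes p ⊉ I — is equivalent to its
codimension-one case: H^{i−1}_{pA_p}(M_p) = 0 for all primes p ⊉ I with c(p) = 1. -/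
theorem result (R : Type u) [CommRing R] [IsRegularRing R] (A : Type u) [CommRing A] [IsNoetherianRing A] (π : R →+* A) (hπ : Function.Surjective π) (I : Ideal A) (M : Type u) [AddCommGroup M] [Module A M] [Module.Finite A M] (i : ℕ) : (∀ p : PrimeSpectrum A, ¬ I ≤ p.asIdeal → ∀ (c j : ℕ), SGA2.relCodim I p = c → j + c = i → Subsingleton (LocCoh.H (IsLocalRing.maximalIdeal (Localization.AtPrime p.asIdeal)) j (LocalizedModule p.asIdeal.primeCompl M))) ↔ (∀ p : PrimeSpectrum A, ¬ I ≤ p.asIdeal → SGA2.relCodim I p = 1 → ∀ j : ℕ, j + 1 = i → Subsingleton (LocCoh.H (IsLocalRing.maximalIdeal (Localization.AtPrime p.asIdeal)) j (LocalizedModule p.asIdeal.primeCompl M))) := by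
  constructor
  · intro h p hp h1 j hj
    exact h p hp 1 j (by rw [h1]; rfl) hj
  · intro h p hp c j hc hj
    by_contra hne
    rcases c with _ | c
    · -- codimension zero is impossible since `I` is not contained in `p`
      obtain ⟨q, hpq, hIq, hq⟩ := K162.LCStep.exists_relCodim_eq I p
        (by rw [hc]; exact ENat.natCast_ne_top _)
      have hlt : p < q := lt_of_le_of_ne hpq (by rintro rfl; exact hp hIq)
      have h1 := Groth.Agent.Ega4B.CatHeight.one_le_rlen hlt
      rw [← hq, hc] at h1
      simp at h1
    obtain ⟨s, hs1, hs2, hs3, hs4, hs5⟩ := K162.LCStep.exists_sat_relCodim I p c hc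
    subst hs1
    have hk : c < s.length + 1 := by omega
    refine K162.LCStep.not_subsingleton_chain R A π hπ M s hs2 j hne c hk ?_
    refine h (s ⟨c, hk⟩) (hs5 c hk (by omega)) ?_ (j + c) (by omega)
    have hcov := hs2 ⟨c, by omega⟩
    refine Groth.Agent.Sga2.FinReg.relCodim_eq_one I _ s.last (hs5 c hk (by omega)) hs4 ?_
    have hlast : s.last = s (Fin.succ ⟨c, by omega⟩) := by
      change s _ = s _
      congr 1
      ext
      simp [hs3]
    rw [hlast]
    exact hcov

end Groth.Agent.S5164
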