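import Groth.Statements.S5167
import Groth.Agent.Sga2.FaltReg
import Groth.Agent.LoccohA.EquidimS2
import Groth.Agent.Localalg.Matlis3
import Groth.Agent.Localalg.LCBasic

set_option autoImplicit false
universe u
open LocCoh

namespace Groth.Agent.S5167

open IsLocalRing in
/-- A power torsion module (for the maximal ideal) has finite length iff it is finite. -/
theorem isFiniteLength_iff_finite {A : Type u} [CommRing A] [IsLocalRing A] [IsNoetherianRing A]
    (N : Type u) [AddCommGroup N] [Module A N] (h : LocCoh.IsPowerTorsion (maximalIdeal A) N) :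
    IsFiniteLength A N ↔ Module.Finite A N := by
  constructor
  · intro hN
    have := (isFiniteLength_iff_isNoetherian_isArtinian.mp hN).1
    infer_instance
  · intro hN
    obtain ⟨s, hs⟩ := hN.fg_top
    choose n hn using h
    refine Groth.Agent.Localalg.Matlis.isFiniteLength_of_pow_smul (∑ x ∈ s, n x) ?_
    intro a ha x
    have hx : x ∈ Submodule.span A (s : Set N) := by rw [hs]; trivial
    induction hx using Submodule.span_induction with
    | mem x hx =>
      exact hn x a (Ideal.pow_le_pow_right (Finset.single_le_sum (fun _ _ => Nat.zero_le _) hx) ha)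
    | zero => exact smul_zero a
    | add x y _ _ h1 h2 => rw [smul_add, h1, h2, add_zero]
    | smul c x _ h1 => rw [smul_comm, h1, smul_zero]


/-- Let A be a Noetherian local ring which is a quotient of a regular local ring, m its maximal ideal, M
a finite A-module and n ≥ 0. Then H^i_m(M) is of finite length for all i ≤ n if and only if
depth(M_p) > n − dim(A/p) for every prime p ≠ m. -/
theorem result (R : Type u) [CommRing R] [IsRegularLocalRing R] (A : Type u) [CommRing A] [IsLocalRing A] [IsNoetherianRing A] (π : R →+* A) (hπ : Function.Surjective π) (M : Type u) [AddCommGroup M] [Module A M] [Module.Finite A M] (n : ℕ) : (∀ i : ℕ, i ≤ n → IsFiniteLength A (LocCoh.H (IsLocalRing.maximalIdeal A) i M)) ↔ ∀ p : PrimeSpectrum A, p.asIdeal ≠ IsLocalRing.maximalIdeal A → ∀ e : ℕ, ringKrullDim (A ⧸ p.asIdeal) = e → (n : ℕ∞) < LocCoh.depth (Localization.AtPrime p.asIdeal) (LocalizedModule p.asIdeal.primeCompl M) + e := by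
  have h1 : (∀ i : ℕ, i ≤ n → IsFiniteLength A (LocCoh.H (IsLocalRing.maximalIdeal A) i M)) ↔
      ∀ i : ℕ, i ≤ n → Module.Finite A (LocCoh.H (IsLocalRing.maximalIdeal A) i M) :=
    forall₂_congr fun i _ => isFiniteLength_iff_finite _
      (Groth.Agent.Localalg.LCBasic.isPowerTorsion_H (IsLocalRing.maximalIdeal A) i)
  rw [h1, Groth.Agent.Sga2.FaltReg.finite_H_iff_of_dualizing A
    (Groth.Agent.Sga2.FaltReg.exists_dualizing R A π hπ),
    Groth.Agent.LoccohA.CutoffLoc.natCast_lt_cutoff_iff]
  constructor
  · intro h p hp e he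
    have hle : p ≤ IsLocalRing.closedPoint A := IsLocalRing.le_maximalIdeal p.isPrime.ne_top
    have h2 := h p (IsLocalRing.closedPoint A) hle
      (fun hcon => hp (le_antisymm (IsLocalRing.le_maximalIdeal p.isPrime.ne_top) hcon)) le_rfl
    rw [Groth.Agent.LoccohA.EquidimS2.ringKrullDim_quotient_eq_rlen] at he
    have h3 : Groth.Agent.Ega4B.CatHeight.rlen p (IsLocalRing.closedPoint A) = (e : ℕ∞) :=
      WithBot.coe_injective he
    rwa [h3] at h2
  · intro h p q hpq hp hq
    have hq' : q = IsLocalRing.closedPoint A :=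
      le_antisymm (IsLocalRing.le_maximalIdeal q.isPrime.ne_top) hq
    subst hq'
    obtain ⟨e, he⟩ := ENat.ne_top_iff_exists.mp
      (Groth.Agent.Ega4B.CatHeight.rlen_ne_top p (IsLocalRing.closedPoint A))
    have h2 := h p (fun hcon => hp hcon.ge) e (by
      rw [Groth.Agent.LoccohA.EquidimS2.ringKrullDim_quotient_eq_rlen, ← he]
      rfl)
    rwa [← he]

end Groth.Agent.S5167
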