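import Groth.Statements.S5171
import Groth.Agent.QGor.K966.DepthLocal
import Groth.Agent.Localalg.DepthLC

set_option autoImplicit false
universe u
open LocCoh

namespace Groth.Agent.S5171

/-- Let A be a Noetherian ring, J an ideal, n ≥ 0 and G a finite Cohen–Macaulay A-module (each
localization G_p is zero or Cohen–Macaulay). Then H^i_J(G) = 0 for i < n if and only if codim(V(J) ∩
Supp G, Supp G) ≥ n, i.e. dim Supp(G_p) ≥ n for every p ∈ V(J) ∩ Supp G. -/
theorem result (A : Type u) [CommRing A] [IsNoetherianRing A] (J : Ideal A) (G : Type u) [AddCommGroup G] [Module A G] [Module.Finite A G] (hCM : ∀ p : PrimeSpectrum A, Subsingleton (LocalizedModule p.asIdeal.primeCompl G) ∨ LocCoh.IsCohenMacaulayModule (Localization.AtPrime p.asIdeal) (LocalizedModule p.asIdeal.primeCompl G)) (n : ℕ) : (∀ i : ℕ, i < n → Subsingleton (LocCoh.H J i G)) ↔ ∀ p : PrimeSpectrum A, J ≤ p.asIdeal → p ∈ Module.support A G → (n : WithBot ℕ∞) ≤ Module.supportDim (Localization.AtPrime p.asIdeal) (LocalizedModule p.asIdeal.primeCompl G) := by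
  have key : (∀ i : ℕ, i < n → Subsingleton (LocCoh.H J i G)) ↔ (n : ℕ∞) ≤ LocCoh.idealDepth J G := by
    constructor
    · intro h
      by_contra hlt
      rw [not_le] at hlt
      obtain ⟨d, hd⟩ := ENat.ne_top_iff_exists.mp hlt.ne_top
      have h1 := Groth.Agent.Localalg.DepthLC.nontrivial_H_idealDepth J G d hd.symm
      rw [← hd] at hlt
      exact not_subsingleton_iff_nontrivial.mpr h1 (h d (by exact_mod_cast hlt))
    · intro h i hi
      exact Groth.Agent.Localalg.DepthLC.subsingleton_H_of_lt_idealDepth J G i
        (lt_of_lt_of_le (by exact_mod_cast hi) h)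
  rw [key, K966.DepthLocal.le_idealDepth_iff_forall]
  constructor
  · intro h p hp hps
    have h1 := h p.asIdeal hp
    rcases hCM p with h2 | h2
    · exact absurd h2 (not_subsingleton_iff_nontrivial.mpr (Module.mem_support_iff.mp hps))
    · have h3 : Module.supportDim _ _ = _ := h2
      rw [h3]
      exact_mod_cast h1
  · intro h p hp' hp
    rcases hCM ⟨p, hp'⟩ with h2 | h2
    · rw [LocCoh.depth, Groth.Agent.Localalg.Depth.idealDepth_eq_top_of_subsingleton]
      exact le_top
    · have h3 : Module.supportDim _ _ = _ := h2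
      by_cases hps : (⟨p, hp'⟩ : PrimeSpectrum A) ∈ Module.support A G
      · have h4 := h ⟨p, hp'⟩ hp hps
        rw [h3] at h4
        exact_mod_cast h4
      · have h5 : Subsingleton (LocalizedModule p.primeCompl G) := Module.notMem_support_iff.mp hps
        rw [LocCoh.depth, Groth.Agent.Localalg.Depth.idealDepth_eq_top_of_subsingleton]
        exact le_top

end Groth.Agent.S5171
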