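import Groth.Statements.S5172
import Groth.Agent.LocCoh.K162.LCStep
import Groth.Agent.Sga2.FaltReg

set_option autoImplicit false
universe u
open LocCoh

namespace Groth.Agent.S5172

/-- Let A be a Noetherian ring which is a quotient of a regular ring, I an ideal, M a finite A-module
and n ≥ 0; c(p) = codim(V(p) ∩ V(I), V(p)). Then depth M_p > n − c(p) for all primes p ⊉ I if and
only if depth M_p ≥ n for all primes p ⊉ I with c(p) = 1. -/
theorem result (R : Type u) [CommRing R] [IsRegularRing R] (A : Type u) [CommRing A] [IsNoetherianRing A] (π : R →+* A) (hπ : Function.Surjective π) (I : Ideal A) (M : Type u) [AddCommGroup M] [Module A M] [Module.Finite A M] (n : ℕ) : (∀ p : PrimeSpectrum A, ¬ I ≤ p.asIdeal → (n : ℕ∞) < LocCoh.depth (Localization.AtPrime p.asIdeal) (LocalizedModule p.asIdeal.primeCompl M) + SGA2.relCodim I p) ↔ (∀ p : PrimeSpectrum A, ¬ I ≤ p.asIdeal → SGA2.relCodim I p = 1 → (n : ℕ∞) ≤ LocCoh.depth (Localization.AtPrime p.asIdeal) (LocalizedModule p.asIdeal.primeCompl M)) := by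
  constructor
  · intro h p hp h1
    have h2 := h p hp
    rw [h1, ← ENat.add_one_le_iff (ENat.natCast_ne_top n)] at h2
    exact (ENat.add_le_add_iff_right ENat.one_ne_top).mp h2
  · intro h p hp
    by_cases htop : SGA2.relCodim I p = ⊤
    · rw [htop, add_top]
      exact ENat.natCast_lt_top n
    obtain ⟨p', q', h1, h2, h3, h4, h5⟩ := K162.LCStep.exists_covBy_relCodim I p hp htop
    rw [← ENat.add_one_le_iff (ENat.natCast_ne_top n)]
    have h6 := h p' h3 (Groth.Agent.Sga2.FinReg.relCodim_eq_one I p' q' h3 h4 h2)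
    have h7 := Groth.Agent.Sga2.FaltReg.depth_le_depth_add_rlen (M := M) h1
    calc (n : ℕ∞) + 1 ≤ _ := add_le_add (h6.trans h7) le_rfl
      _ = LocCoh.depth (Localization.AtPrime p.asIdeal)
          (LocalizedModule p.asIdeal.primeCompl M) +
          (Groth.Agent.Ega4B.CatHeight.rlen p p' + 1) := by rw [add_assoc]
      _ ≤ _ := add_le_add le_rfl h5

end Groth.Agent.S5172
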