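import Groth.Statements.S5178
import Groth.Agent.S2169
import Groth.Agent.S0547
import Groth.Agent.Ega4A.RegCM
import Groth.Agent.Ega4A.RegSeqFlat
import Mathlib.RingTheory.AdicCompletion.LocalRing
import Mathlib.RingTheory.AdicCompletion.Noetherian
import Mathlib.RingTheory.KrullDimension.Regular

set_option autoImplicit false
universe u
open CInt

namespace Groth.Agent.S5178

open IsLocalRing RingTheory.Sequence

/-- For a surjection `f : B → A` from a regular local ring onto a complete Noetherian local ring:
`A` is a complete intersection iff `ker f` is generated by a regular sequence. -/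
theorem isCI_iff {A B : Type u} [CommRing A] [CommRing B] [IsNoetherianRing A] [IsLocalRing A]
    [IsAdicComplete (maximalIdeal A) A] [IsRegularLocalRing B] (f : B →+* A)
    (hf : Function.Surjective f) :
    Pi1.IsCompleteIntersection A ↔
      ∃ rs : List B, Ideal.ofList rs = RingHom.ker f ∧ IsRegular B rs := by
  constructor
  · exact Groth.Agent.S2169.result f hf
  · rintro ⟨rs, hrs, hreg⟩
    refine ⟨B, inferInstance, inferInstance, rs, ?_, hreg, ?_⟩
    · intro r hr
      have h1 : RingHom.ker f ≤ maximalIdeal B := le_maximalIdeal (RingHom.ker_ne_top f)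
      rw [← hrs] at h1
      exact h1 (Ideal.subset_span hr)
    · have e1 : AdicCompletion (maximalIdeal A) A ≃+* A :=
        (AdicCompletion.ofAlgEquiv (maximalIdeal A)).symm.toRingEquiv
      have e2 : (B ⧸ RingHom.ker f) ≃+* A := RingHom.quotientKerEquivOfSurjective hf
      have e3 : (B ⧸ RingHom.ker f) ≃+* (B ⧸ Ideal.span {r | r ∈ rs}) :=
        Ideal.quotEquivOfEq hrs.symm
      exact ⟨e1.trans (e2.symm.trans e3)⟩

/-- The completion of a Noetherian local ring is a complete intersection iff the ring is. -/
theorem ci_cpl_iff (A : Type u) [CommRing A] [IsNoetherianRing A] [IsLocalRing A] :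
    Pi1.IsCompleteIntersection (AdicCompletion (IsLocalRing.maximalIdeal A) A) ↔
      Pi1.IsCompleteIntersection A := by
  let Ac := AdicCompletion (IsLocalRing.maximalIdeal A) A
  let e : AdicCompletion (IsLocalRing.maximalIdeal Ac) Ac ≃+* Ac :=
    (AdicCompletion.ofAlgEquiv (IsLocalRing.maximalIdeal Ac)).symm.toRingEquiv
  constructor
  · rintro ⟨B, i1, i2, rs, h1, h2, ⟨e'⟩⟩
    exact ⟨B, i1, i2, rs, h1, h2, ⟨e.symm.trans e'⟩⟩
  · rintro ⟨B, i1, i2, rs, h1, h2, ⟨e'⟩⟩
    exact ⟨B, i1, i2, rs, h1, h2, ⟨e.trans e'⟩⟩

/-- The numerical criterion in a regular local ring. -/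
theorem numeric {B : Type u} [CommRing B] [IsRegularLocalRing B] (I : Ideal B)
    (hI : I ≤ maximalIdeal B) (d e : ℕ) (hd : ringKrullDim (B ⧸ I) = (d : WithBot ℕ∞))
    (he : ringKrullDim B = (e : WithBot ℕ∞)) :
    e ≤ d + I.spanFinrank ∧ (e = d + I.spanFinrank ↔
      ∃ rs : List B, Ideal.ofList rs = I ∧ IsRegular B rs) := by
  have hle : e ≤ d + I.spanFinrank := by
    have h := ringKrullDim_le_ringKrullDim_quotient_add_spanFinrank I
      (hI.trans (by rw [← IsLocalRing.ringJacobson_eq_maximalIdeal]))
    rw [hd, he] at h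
    exact_mod_cast h
  refine ⟨hle, ?_, ?_⟩
  · intro h
    obtain ⟨s, hs1, hs2⟩ := Submodule.FG.exists_span_finset_card_eq_spanFinrank
      (IsNoetherian.noetherian I)
    have hlen : s.toList.length = I.spanFinrank := by
      rw [Finset.length_toList, hs1]
    have hspan : Ideal.ofList s.toList = I := by
      rw [Ideal.ofList]
      have : {x | x ∈ s.toList} = (s : Set B) := by ext; simp
      rw [this]
      exact hs2
    have hmem : ∀ r ∈ s.toList, r ∈ maximalIdeal B := fun r hr =>
      hI (by rw [← hspan]; exact Ideal.subset_span hr)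
    have hCM := Groth.Agent.Ega4A.RegCM.isCohenMacaulayLocalRing_of_isRegularLocalRing B
    have h1 : Module.supportDim B (B ⧸ (Ideal.ofList s.toList • (⊤ : Submodule B B))) =
        ringKrullDim (B ⧸ I) := by
      rw [← Module.supportDim_quotient_eq_ringKrullDim, hspan]
      exact Module.supportDim_eq_of_equiv (Submodule.quotEquivOfEq _ _ (by simp))
    have h2 := Groth.Agent.Ega4A.RegSeqFlat.isWeaklyRegular_of_isCohenMacaulayModule
      (M := B) hCM.supportDim_eq_depth hmem (by
        rw [h1, hd, hlen, Module.supportDim_self_eq_ringKrullDim, he, h]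
        exact_mod_cast le_rfl)
    exact ⟨s.toList, hspan,
      (isRegular_iff_isWeaklyRegular_of_subset_maximalIdeal hmem).mpr h2⟩
  · rintro ⟨rs, rfl, hreg⟩
    have h1 := ringKrullDim_add_length_eq_ringKrullDim_of_isRegular rs hreg
    rw [hd, he] at h1
    have h2 : d + rs.length = e := by exact_mod_cast h1
    have h3 : (Ideal.ofList rs).spanFinrank ≤ rs.length := by
      classical
      have h4 : Ideal.ofList rs = Ideal.span (rs.toFinset : Set B) := by
        rw [Ideal.ofList]; congr 1; ext; simp
      rw [h4]
      refine (Submodule.spanFinrank_span_le_ncard_of_finite (Finset.finite_toSet _)).trans ?_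
      rw [Set.ncard_coe_finset]
      exact List.toFinset_card_le _
    omega

/-- Let A be a Noetherian local ring of dimension d, and let the completion of A be presented as B/I
with B a regular local ring of dimension e and I an ideal whose minimal number of generators is q,
so that e − q is the geometric depth of A (this number does not depend on the presentation). Then e
− q ≤ d, and equality holds if and only if A is a complete intersection, i.e. its completion is a
regular local ring modulo an ideal generated by a regular sequence. -/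
theorem result (A : Type u) [CommRing A] [IsLocalRing A] [IsNoetherianRing A] (B : Type u) [CommRing B] [IsRegularLocalRing B] (I : Ideal B) (hpres : Nonempty (AdicCompletion (IsLocalRing.maximalIdeal A) A ≃+* B ⧸ I)) (d e : ℕ) (hd : ringKrullDim A = (d : WithBot ℕ∞)) (he : ringKrullDim B = (e : WithBot ℕ∞)) : (e : ℤ) - (I.spanFinrank : ℤ) ≤ (d : ℤ) ∧ ((e : ℤ) - (I.spanFinrank : ℤ) = (d : ℤ) ↔ Pi1.IsCompleteIntersection A) := by
  obtain ⟨φ⟩ := hpres
  let f : B →+* AdicCompletion (IsLocalRing.maximalIdeal A) A :=
    φ.symm.toRingHom.comp (Ideal.Quotient.mk I)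
  have hf : Function.Surjective f := φ.symm.surjective.comp Ideal.Quotient.mk_surjective
  have hker : RingHom.ker f = I := by
    rw [RingHom.ker_equiv_comp, Ideal.mk_ker]
  have hI : I ≤ maximalIdeal B := by
    rw [← hker]
    exact le_maximalIdeal (RingHom.ker_ne_top f)
  have hdim : ringKrullDim (B ⧸ I) = (d : WithBot ℕ∞) := by
    rw [← hd, ← Groth.Agent.S0547.result A]
    exact (ringKrullDim_eq_of_ringEquiv φ).symm
  obtain ⟨h1, h2⟩ := numeric I hI d e hdim he
  refine ⟨by omega, ?_⟩
  have : IsNoetherianRing (AdicCompletion (IsLocalRing.maximalIdeal A) A) :=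
    isNoetherianRing_of_ringEquiv _ φ.symm
  rw [← ci_cpl_iff A, isCI_iff f hf, hker, ← h2]
  omega

end Groth.Agent.S5178
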