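import Groth.Statements.S5179
import Groth.Agent.CInt.K138.KosH
import Groth.Agent.S2941
import Mathlib.RingTheory.AdicCompletion.LocalRing
import Mathlib.RingTheory.AdicCompletion.Noetherian

set_option autoImplicit false
universe u
open CInt

namespace Groth.Agent.S5179

open IsLocalRing Groth.Agent.Sga2.GeomDepth K138.KosH

/-- The geometric depth in terms of the relations between minimal generators of the maximal
ideal. -/
theorem geomDepth_eq (A : Type u) [CommRing A] [IsLocalRing A] [IsNoetherianRing A] (B : Type u)
    [CommRing B] [IsRegularLocalRing B] (f : B →+* A) (hf : Function.Surjective f) (d : ℕ)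
    (hd : ringKrullDim B = d) (n : ℕ) (hn : n = (maximalIdeal A).spanFinrank) (x : Fin n → A)
    (hx : Ideal.span (Set.range x) = maximalIdeal A) :
    (d : ℤ) - ((RingHom.ker f).spanFinrank : ℤ) = (n : ℤ) - ((Hm x).spanFinrank : ℤ) := by
  obtain ⟨B₁, i1, i2, f₁, d₁, h1, h2, h3, h4⟩ :=
    Groth.Agent.S2941.exists_minimal_presentation A d B f hf hd
  rw [h4]
  obtain ⟨hn', hl⟩ := Groth.Agent.S2941.minimal_presentation_aux A B₁ f₁ h1 d₁ h2 h3
  have hdd : d₁ = n := hn'.trans hn.symm
  subst hdd
  congr 2
  obtain ⟨y, hy, hys⟩ := hl x hx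
  have hyx : (fun i => f₁ (y i)) = x := funext hy
  have hreg := (S0559.result B₁ d₁ h2 y hys).toIsWeaklyRegular
  have key := exists_generators_iff f₁ h1 y hreg hys
    (IsLocalRing.le_maximalIdeal (RingHom.ker_ne_top f₁))
  rw [hyx] at key
  refine le_antisymm ?_ ?_
  · obtain ⟨g, hg⟩ := (key _).mpr ((spanFinrank_H_le_iff x _).mp le_rfl)
    rw [← hg]
    exact spanFinrank_le_of_span_range g
  · exact (spanFinrank_H_le_iff x _).mpr ((key _).mp
      (exists_fin_generators (RingHom.ker f₁) (IsNoetherian.noetherian _)))

/-- invariance of the number attached to the relations. -/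
theorem geomDepth_flat (A S : Type u) [CommRing A] [IsLocalRing A] [IsNoetherianRing A]
    [CommRing S] [IsLocalRing S] [IsNoetherianRing S] [Algebra A S] [IsLocalHom (algebraMap A S)]
    [Module.Flat A S] (hm : (maximalIdeal A).map (algebraMap A S) = maximalIdeal S)
    (B : Type u) [CommRing B] [IsRegularLocalRing B] (I : Ideal B) (e : S ≃+* B ⧸ I) (d : ℕ)
    (hd : ringKrullDim B = d) (n : ℕ) (hn : n = (maximalIdeal A).spanFinrank) (x : Fin n → A)
    (hx : Ideal.span (Set.range x) = maximalIdeal A) :
    (d : ℤ) - (I.spanFinrank : ℤ) = (n : ℤ) - ((Hm x).spanFinrank : ℤ) := by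
  let f : B →+* S := e.symm.toRingHom.comp (Ideal.Quotient.mk I)
  have hf : Function.Surjective f := e.symm.surjective.comp Ideal.Quotient.mk_surjective
  have hker : RingHom.ker f = I := by
    rw [RingHom.ker_equiv_comp, Ideal.mk_ker]
  have hn' : n = (maximalIdeal S).spanFinrank := by
    rw [hn]
    exact (Groth.Agent.CurvesB.FlatRegular.spanFinrank_maximalIdeal_eq A S
      (IsNoetherian.noetherian _) hm).symm
  have hx' : Ideal.span (Set.range (fun i => algebraMap A S (x i))) = maximalIdeal S := by
    rw [← hm, ← hx, Ideal.map_span, ← Set.range_comp]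
    rfl
  rw [← hker, geomDepth_eq S B f hf d hd n hn' _ hx', spanFinrank_H]

/-- Let A → A' be a flat local homomorphism of Noetherian local rings such that m_A A' is the maximal
ideal of A' and the residue field of A' is a separable extension of the residue field k of A
(separable in the sense that it is formally smooth over k; so A' ⊗_A k is a field separable over k).
Present the completions as Â ≅ B/I and Â' ≅ B'/I' with B, B' regular local rings of dimensions e,
e'. Then e − μ(I) = e' − μ(I'), μ denoting the minimal number of generators: A and A' have the same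
geometric depth. -/
theorem result (A A' : Type u) [CommRing A] [IsLocalRing A] [IsNoetherianRing A] [CommRing A'] [IsLocalRing A'] [IsNoetherianRing A'] [Algebra A A'] [IsLocalHom (algebraMap A A')] [Module.Flat A A'] (hmax : Ideal.map (algebraMap A A') (IsLocalRing.maximalIdeal A) = IsLocalRing.maximalIdeal A') (hsep : Algebra.FormallySmooth (IsLocalRing.ResidueField A) (IsLocalRing.ResidueField A')) (B B' : Type u) [CommRing B] [IsRegularLocalRing B] [CommRing B'] [IsRegularLocalRing B'] (I : Ideal B) (I' : Ideal B') (hpres : Nonempty (AdicCompletion (IsLocalRing.maximalIdeal A) A ≃+* B ⧸ I)) (hpres' : Nonempty (AdicCompletion (IsLocalRing.maximalIdeal A') A' ≃+* B' ⧸ I')) (e e' : ℕ) (he : ringKrullDim B = (e : WithBot ℕ∞)) (he' : ringKrullDim B' = (e' : WithBot ℕ∞)) : (e : ℤ) - (I.spanFinrank : ℤ) = (e' : ℤ) - (I'.spanFinrank : ℤ) := by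
  obtain ⟨φ⟩ := hpres
  obtain ⟨φ'⟩ := hpres'
  let C := AdicCompletion (maximalIdeal A) A
  let C' := AdicCompletion (maximalIdeal A') A'
  have hC : IsNoetherianRing C := isNoetherianRing_of_ringEquiv (B ⧸ I) φ.symm
  have hC' : IsNoetherianRing C' := isNoetherianRing_of_ringEquiv (B' ⧸ I') φ'.symm
  obtain ⟨x, hx⟩ := exists_fin_generators (maximalIdeal A) (IsNoetherian.noetherian _)
  have h1 := geomDepth_flat A C AdicCompletion.maximalIdeal_eq_map.symm B I φ e he _ rfl x hx
  rw [h1]
  have i2 : IsScalarTower A A' C' := inferInstance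
  have i3 : Module.Flat A C' := Module.Flat.trans A A' C'
  have hcomp : algebraMap A C' = (algebraMap A' C').comp (algebraMap A A') :=
    IsScalarTower.algebraMap_eq A A' C'
  have i4 : IsLocalHom (algebraMap A C') := by
    rw [hcomp]
    exact RingHom.isLocalHom_comp (algebraMap A' C') (algebraMap A A')
  have h2 : (maximalIdeal A).map (algebraMap A C') = maximalIdeal C' := by
    rw [hcomp, ← Ideal.map_map, hmax]
    exact AdicCompletion.maximalIdeal_eq_map.symm
  rw [geomDepth_flat A C' h2 B' I' φ' e' he' _ rfl x hx]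

end Groth.Agent.S5179
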