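import Groth.Statements.S5180
import Groth.Agent.EtDepth.K176.RegDepth

set_option autoImplicit false
universe u
open CategoryTheory CategoryTheory.Limits AlgebraicGeometry Opposite
open EtDepth

namespace Groth.Agent.S5180

/-- For a single ℓ-torsion abelian sheaf. Let f : X → S be a regular morphism (every local homomorphism
O_{S,f x} → O_{X,x} is flat with Noetherian geometrically regular fibre rings) between locally
Noetherian schemes over Q all of whose affine opens have excellent coordinate rings, ℓ a prime, F an
ℓ-torsion abelian sheaf on the small étale site of S, x a point of X with s = f(x), and d the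
dimension of the local ring at x of the fibre X_s. Then the étale depth of f^*F at x equals the
étale depth of F at s plus 2d; that is, for every p ≥ 0, the depth of f^*F at x is ≥ p + 2d if and
only if the depth of F at s is ≥ p. (The dimension is that of the local ring of the fibre X_s at x;
with the local ring of X itself the equality fails for f an identity morphism of a
positive-dimensional scheme.) -/
theorem result {X S : Scheme.{u}} [IsLocallyNoetherian X] [IsLocallyNoetherian S] (qS : S ⟶ Spec (CommRingCat.of (ULift.{u} ℚ))) (hexcX : ∀ V : X.affineOpens, EGA4.IsExcellent Γ(X, V.1)) (hexcS : ∀ V : S.affineOpens, EGA4.IsExcellent Γ(S, V.1)) (f : X ⟶ S) (hf : EtDepth.IsRegularMor f) (ℓ : ℕ) (hℓ : ℓ.Prime) (F : EtCoh.Ab S) (hF : EtDepth.IsLTorsion ℓ F) (x : X) (d : ℕ) (hd : ringKrullDim ↑(CInt.fiberStalk f x) = (d : WithBot ℕ∞)) (p : ℕ) : EtDepth.DepthAtGE X ((EtCoh.pull f).obj F) x (p + 2 * d) ↔ EtDepth.DepthAtGE S F (f.base x) p := by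
  have : CharZero (ULift.{u} ℚ) := ⟨fun a b h => by
    have h1 := congrArg ULift.down h
    rw [ULift.down_natCast, ULift.down_natCast] at h1
    exact_mod_cast h1⟩
  exact K176.RegDepth.main qS f hf ℓ hℓ F hF x d hd p

end Groth.Agent.S5180
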