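import Groth.Statements.S5182
import Groth.Agent.CInt.K138.Gr

set_option autoImplicit false
universe u
open CInt

namespace Groth.Agent.S5182

theorem aux {A : Type u} [CommRing A] (J : Ideal A) (k : ℕ) {N : Type u} [AddCommGroup N]
    [Module A N] (e : N ≃ₗ[A] ↥(J ^ k)) (fs : List A)
    (h : RingTheory.Sequence.IsWeaklyRegular (↥(J ^ k) ⧸ (J • (⊤ : Submodule A ↥(J ^ k)))) fs) :
    RingTheory.Sequence.IsWeaklyRegular (N ⧸ (J • (⊤ : Submodule A N))) fs := by
  have e2 : (N ⧸ (J • (⊤ : Submodule A N))) ≃ₗ[A] (↥(J ^ k) ⧸ (J • (⊤ : Submodule A ↥(J ^ k)))) :=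
    Submodule.Quotient.equiv _ _ e (by
      rw [Submodule.map_smul'', Submodule.map_top, LinearEquiv.range])
  exact (e2.isWeaklyRegular_congr fs).mpr h

/-- In the local algebraic form to which its proof reduces. Let A be a Noetherian local ring, J a proper
ideal such that A is normally flat along J, i.e. every J^k/J^{k+1} is a flat (equivalently free)
A/J-module, and f_1, …, f_r elements of A whose images form a weakly regular sequence on A/J (each
f_i a non-zero-divisor on A/J modulo the preceding ones). Then for every k ≥ 0 the f_i form a weakly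
regular sequence on the A-module J^k and on the A-module J^k/J^{k+1}; in particular (k = 0) on A
itself, so that they are regular on the Rees algebra ⊕ J^k and on the associated graded ring ⊕
J^k/J^{k+1}. -/
theorem result (A : Type u) [CommRing A] [IsLocalRing A] [IsNoetherianRing A] (J : Ideal A) (hJ : J ≠ ⊤) (hflat : ∀ k : ℕ, Module.Flat (A ⧸ J) (↥(J ^ k) ⧸ (J • (⊤ : Submodule A ↥(J ^ k))))) (fs : List A) (hreg : RingTheory.Sequence.IsWeaklyRegular (A ⧸ J) fs) (k : ℕ) : RingTheory.Sequence.IsWeaklyRegular (↥(J ^ k)) fs ∧ RingTheory.Sequence.IsWeaklyRegular (↥(J ^ k) ⧸ (J • (⊤ : Submodule A ↥(J ^ k)))) fs := by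
  have hgr : ∀ k, RingTheory.Sequence.IsWeaklyRegular (↥(J ^ k) ⧸ (J • (⊤ : Submodule A ↥(J ^ k)))) fs := by
    intro k
    have := hflat k
    have h1 := (RingTheory.Sequence.isWeaklyRegular_map_algebraMap_iff (A ⧸ J) (A ⧸ J) fs).mpr hreg
    exact (RingTheory.Sequence.isWeaklyRegular_map_algebraMap_iff (A ⧸ J) _ fs).mp
      (K138.Basic.isWeaklyRegular_of_flat h1)
  refine ⟨?_, hgr k⟩
  refine K138.Gr.isWeaklyRegular_of_gr J ((IsLocalRing.le_maximalIdeal hJ).trans
    (IsLocalRing.maximalIdeal_le_jacobson _)) fs _ fun n => ?_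
  have h2 : (J ^ n • (⊤ : Submodule A ↥(J ^ k))).map (J ^ k).subtype = J ^ (n + k) := by
    rw [Submodule.map_smul'', Submodule.map_top, Submodule.range_subtype, pow_add]
    rfl
  exact aux J (n + k) ((Submodule.equivSubtypeMap (J ^ k) (J ^ n • ⊤)).trans
    (LinearEquiv.ofEq _ _ h2)) fs (hgr (n + k))

end Groth.Agent.S5182
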