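import Groth.Statements.S5186
import Groth.Agent.Coherent.K46.WayOutLe
import Groth.Agent.S0036
import Groth.Agent.Dcoh.Restrict
import Groth.Agent.Sga4h.LerayAcyc

set_option autoImplicit false
universe u
open CategoryTheory AlgebraicGeometry
open Coherent

namespace Groth.Agent.S5186

/-- Let f : X → S be a proper morphism of schemes with S locally Noetherian, U an open subset of X with
inclusion g : U → X, h = f ∘ g : U → S, F an O_U-module and n ≥ 0. If the higher direct images R^i
g_*(F) are coherent O_X-modules for all i ≤ n, then the higher direct images R^i h_*(F) are coherent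
O_S-modules for all i ≤ n. (The existence of injective resolutions in the module categories is
carried as instance arguments.) -/
theorem result {X S : Scheme.{u}} (f : X ⟶ S) [IsProper f] [IsLocallyNoetherian S] (U : X.Opens) [HasInjectiveResolutions (U : Scheme.{u}).Modules] [HasInjectiveResolutions X.Modules] (F : (U : Scheme.{u}).Modules) (n : ℕ) (hg : ∀ i : ℕ, i ≤ n → Coh.IsCoh ((Coh.Rpush U.ι i).obj F)) (i : ℕ) (hi : i ≤ n) : Coh.IsCoh ((Coh.Rpush (U.ι ≫ f) i).obj F) := by
  have hX : IsLocallyNoetherian X := LocallyOfFiniteType.isLocallyNoetherian f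
  have h1 : IsGrothendieckAbelian.{u} (U : Scheme.{u}).Modules :=
    Groth.Agent.S0484.result _ (U : Scheme.{u}).ringCatSheaf
  have h2 : IsGrothendieckAbelian.{u} X.Modules := Groth.Agent.S0484.result _ X.ringCatSheaf
  have h3 := Groth.Agent.Coherent.K46.WayOutLe.hasKInj_modules (U : Scheme.{u})
  have h4 := Groth.Agent.Coherent.K46.WayOutLe.hasKInj_modules X
  have hG : ∀ I : CochainComplex (U : Scheme.{u}).Modules ℤ, I.IsKInjective →
      CochainComplex.IsKInjective
        (((Scheme.Modules.pushforward U.ι).mapHomologicalComplex (.up ℤ)).obj I) :=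
    fun I hI => Dcoh.DerComp.isKInjective_map (Scheme.Modules.restrictAdjunction U.ι)
      (Dcoh.DerComp.acyclic_map_exact _) I hI
  have h5 := Groth.Agent.Coherent.K46.WayOutLe.rightDerived_comp_le
    (Scheme.Modules.pushforward U.ι) (Scheme.Modules.pushforward f) hG
    (P := fun M : X.Modules => Coh.IsCoh M)
    (Groth.Agent.Coherent.K46.WayOutLe.weakSerre_coh S)
    (fun e h => CohqB.LocalQC.isCoh_of_iso e h) (fun M hM q => S0036.result f M hM q) F n hg i hi
  exact CohqB.LocalQC.isCoh_of_iso
    ((Sga4h.LerayAcyc.rightDerivedCongr (Scheme.Modules.pushforwardComp U.ι f) i).app F) h5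

end Groth.Agent.S5186
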