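import Groth.Statements.S5187
import Groth.Agent.EtDepth.K176.PushNonzero
import Groth.Agent.S3482
import Groth.Agent.S3483

set_option autoImplicit false
universe u
open CategoryTheory CategoryTheory.Limits AlgebraicGeometry Opposite
open EtDepth

namespace Groth.Agent.S5187

/-- Let k be a field, K a finitely generated extension field of k of transcendence degree n, ℓ a prime
number invertible in k, and F a nonzero constructible ℓ-torsion abelian sheaf on the small étale
site of Spec K. Then there is a finite separable extension L of K such that, writing u : Spec L →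
Spec k for the structure morphism, the higher direct image R^n u_*(F|_{Spec L}) is nonzero. -/
theorem result (k K : Type u) [Field k] [Field K] [Algebra k K] (hfg : ∃ s : Finset K, IntermediateField.adjoin k (s : Set K) = ⊤) (n : ℕ) (htr : Algebra.trdeg k K = n) (ℓ : ℕ) (hℓ : ℓ.Prime) (hℓk : (ℓ : k) ≠ 0) (F : EtCoh.Ab (Spec (CommRingCat.of K))) (hF : EtDepth.IsLTorsion ℓ F) (hFc : EtPBC.IsConstructible F) (hF0 : ¬ IsZero F) : ∃ (L : Type u) (_ : Field L) (_ : Algebra K L) (_ : Algebra k L) (_ : IsScalarTower k K L) (_ : Module.Finite K L) (_ : Algebra.IsSeparable K L), ¬ IsZero ((EtCoh.Rpush (Spec.map (CommRingCat.ofHom (algebraMap k L))) n).obj ((EtCoh.pull (Spec.map (CommRingCat.ofHom (algebraMap K L)))).obj F)) := by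
  refine K176.PushNonzero.main k K hfg n htr ℓ hℓ hℓk (fun k' K' _ _ _ _ hℓk' hfg' htr' => ⟨?_, ?_⟩) F hF hFc hF0
  · have h0 : Dix.CohDimLEAt (Spec (CommRingCat.of k')) ℓ 0 := fun G _ q hq => by
      have : IsSepClosed (IsLocalRing.ResidueField k') :=
        Groth.Agent.Etbc.H188.ZDBase.isSepClosed_of_bijective (IsLocalRing.residue k')
          (Groth.Agent.Etbc.H188.ZDBase.bijective_residue (Field.toIsField _))
      exact Groth.Agent.S0073.result k' G q hq
    have h := Groth.Agent.S3482.result k' K' hfg' ℓ hℓ n htr' 0 h0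
    rw [zero_add] at h
    exact h
  · intro d hd h
    exact K176.Compositum.not_orderable k'
      (Groth.Agent.S3483.result k' K' hfg' ℓ hℓ hℓk' n htr' ⟨d, h, Or.inl hd⟩).2.1

end Groth.Agent.S5187
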