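import Groth.Statements.S5188
import Groth.Agent.LefX.K947.CIPic
import Groth.Agent.Lefpen.H608.TwistTriv

set_option autoImplicit false
universe u
open CategoryTheory CategoryTheory.Limits AlgebraicGeometry
open LefX

namespace Groth.Agent.S5188

/-- Let k be a field, d ≥ 0 and r ≥ d + 3, and let G_1, …, G_d be homogeneous forms of positive degrees
in the homogeneous coordinates of P = P^r_k whose common zero scheme X = V(G_1, …, G_d), with closed
immersion ι : X → P, has dimension r − d, so that X is a global complete intersection of dimension ≥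
3. Then Pic(X) is the free group generated by the class of O_X(1) = ι^*O(1): every invertible
O_X-module is isomorphic to ι^*O(e) for some integer e, and ι^*O(e) is isomorphic to O_X only when e
= 0. -/
theorem result (k : Type u) [Field k] (d r : ℕ) (hr : d + 3 ≤ r) (a : Fin d → ℕ) (ha : ∀ j, 1 ≤ a j) (G : ∀ j : Fin d, LefPen.Form r k (a j)) (hdim : topologicalKrullDim ↥(LefPen.ciIdeal G).subscheme = ((r - d : ℕ) : WithBot ℕ∞)) : (∀ L : (LefPen.ciIdeal G).subscheme.Modules, PicF.IsInvertible L → ∃ e : ℤ, Nonempty (L ≅ (Scheme.Modules.pullback (LefPen.ciIdeal G).subschemeι).obj (Twist.twistProjSpace r k e))) ∧ (∀ e : ℤ, Nonempty ((Scheme.Modules.pullback (LefPen.ciIdeal G).subschemeι).obj (Twist.twistProjSpace r k e) ≅ Coh.structureModule (LefPen.ciIdeal G).subscheme) → e = 0) := by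
  have hreg := Groth.Agent.Coherent.K51.CIReg.isReg_of_dim G (by omega) ha hdim.le
  refine ⟨fun L hL => ?_, fun e he => ?_⟩
  · exact Groth.Agent.LefX.K947.CIPic.gen_ci d (by omega) a ha G hreg L hL
  · exact Groth.Agent.Lefpen.H608.TwistTriv.eq_zero_of_twist_trivial G (by omega) ha e he

end Groth.Agent.S5188
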