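import Groth.Statements.S5192
import Groth.Agent.LefX.K177.Algebraize
import Groth.Agent.LefX.K177.GamReg
import Groth.Agent.Localalg.DepthLC
import Groth.Agent.PerfA.CohSerre

set_option autoImplicit false
universe u
open CategoryTheory CategoryTheory.Limits AlgebraicGeometry
open LefX

namespace Groth.Agent.S5192

open Groth.Agent K177.RegGr K177.PBasis K177.Algebraize K177.GamReg in
theorem main (A : Type u) [CommRing A] [IsNoetherianRing A] (J : Ideal A) [IsAdicComplete J A]
    (I : Ideal A)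
    (ha : ∀ n : ℕ, Module.Flat (A ⧸ J) (↥(J ^ n) ⧸ (J • (⊤ : Submodule A ↥(J ^ n)))))
    (hb : ∀ p : Ideal A, ∀ _ : p.IsPrime, I ≤ p → J ≤ p →
      (3 : ℕ∞) ≤ LocCoh.depth (Localization.AtPrime p)
        (Localization.AtPrime p ⧸ J.map (algebraMap A (Localization.AtPrime p))))
    (U : (Spec (CommRingCat.of A)).Opens) (hU : U = LocCoh.puncturedOpen A I)
    (hUI : ∀ x ∈ I, bO A x ≤ U) :
    (∀ D : (↑U : Scheme.{u}).Modules, FlatMod.IsFinLocFree D → Lef.HomToFormalBijective
      ((Spec.map (CommRingCat.ofHom (Ideal.Quotient.mk J))).ker.comap U.ι) D) ∧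
    (∀ 𝔐 : FSch.ModSys (FSch.completionAlong (↑U : Scheme.{u})
        ((Spec.map (CommRingCat.ofHom (Ideal.Quotient.mk J))).ker.comap U.ι)),
      LefX.LevelwiseFinLocFree 𝔐 → ∃ F : (↑U : Scheme.{u}).Modules, Coh.IsCoh F ∧
        Nonempty (FSch.completionMod ((Spec.map (CommRingCat.ofHom
          (Ideal.Quotient.mk J))).ker.comap U.ι) F ≅ 𝔐)) := by
  have hb' : ∀ (p : Ideal A) (_ : p.IsPrime), I ≤ p → J ≤ p →
      (3 : ℕ∞) ≤ LocCoh.depth (Localization.AtPrime p) (LocalizedModule p.primeCompl (A ⧸ J)) := by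
    intro p hp hIp hJp
    have h1 := hb p hp hIp hJp
    rwa [depth_quot_localization] at h1
  have hgr : ∀ (S : Set A) (n : ℕ), ∃ (r : ℕ) (ω : Fin r → A) (C : Fin r → Fin r → A),
      IsPB J S (n + 1) ω C := fun S n => exists_of_flat J S (n + 1) (ha (n + 1))
  obtain ⟨x, hx, y, hy, hxy⟩ := exists_regMod I J (fun p hp hIp hJp =>
    le_trans (by norm_num) (hb' p hp hIp hJp))
  have hpow := regMod_pow (S := Set.univ) trivial (hgr Set.univ) hxy
  have hG := gammaComplete_of_regMod A U J (hUI x hx) (hUI y hy) hpow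
  have hvan : ∀ i : ℕ, i ≤ 2 → Subsingleton (LocCoh.H I i (A ⧸ J)) := by
    intro i hi
    refine Localalg.DepthLC.subsingleton_H_of_lt_idealDepth I (A ⧸ J) i ?_
    obtain ⟨fs, hlen, hmem, hreg⟩ := (Groth.Agent.S2854.result A (A ⧸ J) I 3).1 (by
      intro p hp hIp
      by_cases hJp : J ≤ p
      · exact hb' p hp hIp hJp
      · have := subsingleton_localized_quot J p hJp
        rw [Groth.Agent.Ega4B.DepthBasic.depth_eq_top_of_subsingleton]
        exact le_top)
    have h3 := Groth.Agent.Ega4B.DepthBasic.length_le_idealDepth fs hreg hmem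
    rw [hlen] at h3
    exact lt_of_lt_of_le (by exact_mod_cast Nat.lt_succ_of_le hi) h3
  have hfin : ∀ i : ℕ, i ≤ 2 → Module.Finite A (LocCoh.H I i (A ⧸ J)) := fun i hi => by
    have := hvan i hi
    infer_instance
  refine ⟨fun D hD => ?_, fun 𝔐 hlf => ?_⟩
  · exact Groth.Agent.Sga2.LefQcoh.bijective_of_isQCoh U.ι D
      (Groth.Agent.PerfA.CohSerre.isCoh_of_isFinLocFree hD).1 hG
  · exact algebraize_modSys J I (hgr _) (hfin 1 (by norm_num)) (hfin 2 le_rfl) U hU 𝔐 hlf

theorem iSup_eq (A : Type u) [CommRing A] (I : Ideal A) :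
    (⨆ f : ↥I, (Spec (CommRingCat.of A)).basicOpen ((Scheme.ΓSpecIso (CommRingCat.of A)).inv f.1)) =
      LocCoh.puncturedOpen A I := by
  ext x
  simp only [TopologicalSpace.Opens.coe_iSup, Set.mem_iUnion]
  constructor
  · rintro ⟨f, hf⟩ h
    rw [basicOpen_eq_of_affine] at hf
    exact hf (h f.2)
  · intro h
    obtain ⟨f, hf, hfx⟩ := Set.not_subset.1 (fun h' => h h')
    refine ⟨⟨f, hf⟩, ?_⟩
    rw [basicOpen_eq_of_affine]
    exact hfx

/-- Normal flatness assumed along all of X_0. Let A be a Noetherian ring which is a quotient of a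
regular ring, J an ideal such that A is separated and complete for the J-adic topology, X = Spec A,
X_0 = V(J), I an ideal with Y = V(I), U = X − Y (the union of the D(f), f ∈ I) and U_0 = U ∩ X_0.
Assume: (a) every J^n/J^(n+1) is flat over A/J (X normally flat along X_0); (b) for every prime p ⊇
I + J the local ring (A/J)_p has depth ≥ 3; (c) for every prime p ⊇ I not containing J, A_p has
depth ≥ 3. Then (1) for every finite locally free O_U-module D the map Hom(D, O_U) → lim_n Hom(D,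
O_U/J^(n+1)O_U) is bijective (completion along U_0 is fully faithful on finite locally free
modules), and (2) every levelwise finite locally free system of coherent modules on the completion
of U along U_0 is isomorphic to the completion of a coherent O_U-module. (The published statement
asks normal flatness only at the points of Y ∩ X_0; this row assumes it along all of X_0.) -/
theorem result (R : Type u) [CommRing R] [IsRegularRing R] (A : Type u) [CommRing A] [IsNoetherianRing A] (π : R →+* A) (hπ : Function.Surjective π) (J : Ideal A) [IsAdicComplete J A] (I : Ideal A) (ha : ∀ n : ℕ, Module.Flat (A ⧸ J) (↥(J ^ n) ⧸ (J • (⊤ : Submodule A ↥(J ^ n))))) (hb : ∀ p : Ideal A, ∀ _ : p.IsPrime, I ≤ p → J ≤ p → (3 : ℕ∞) ≤ LocCoh.depth (Localization.AtPrime p) (Localization.AtPrime p ⧸ J.map (algebraMap A (Localization.AtPrime p)))) (hc : ∀ p : Ideal A, ∀ _ : p.IsPrime, I ≤ p → ¬ J ≤ p → (3 : ℕ∞) ≤ LocCoh.depth (Localization.AtPrime p) (Localization.AtPrime p)) : (∀ D :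 (↑(⨆ f : ↥I, (Spec (CommRingCat.of A)).basicOpen ((Scheme.ΓSpecIso (CommRingCat.of A)).inv f.1)) : Scheme.{u}).Modules, FlatMod.IsFinLocFree D → Lef.HomToFormalBijective ((Spec.map (CommRingCat.ofHom (Ideal.Quotient.mk J))).ker.comap (⨆ f : ↥I, (Spec (CommRingCat.of A)).basicOpen ((Scheme.ΓSpecIso (CommRingCat.of A)).inv f.1)).ι) D) ∧ (∀ 𝔐 : FSch.ModSys (FSch.completionAlong (↑(⨆ f : ↥I, (Spec (CommRingCat.of A)).basicOpen ((Scheme.ΓSpecIso (CommRingCat.of A)).inv f.1)) : Scheme.{u}) ((Spec.map (CommRingCat.ofHom (Ideal.Quotient.mk J))).ker.comap (⨆ f : ↥I, (Spec (CommRingCat.of A)).basicOpen ((Scheme.ΓSpecIso (CommRingCat.of A)).inv f.1)).ι)), LefX.LevelwiseFinLocFree 𝔐 → ∃ F : (↑(⨆ f : ↥I, (Spec (CommRingCat.of A)).basicOpen ((Scheme.ΓSpecIso (CommRingCat.of A)).inv f.1)) : Scheme.{u}).Modules, Coh.IsCoh F ∧ Nonempty (FSch.completionMod ((Spec.map (CommRingCat.ofHom (Ideal.Quotient.mk J))).ker.comap (⨆ f : ↥I, (Spec (CommRingCat.of A)).basicOpen ((Scheme.ΓSpecIso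 (CommRingCat.of A)).inv f.1)).ι) F ≅ 𝔐)) :=
  main A J I ha hb _ (iSup_eq A I) fun x hx => le_iSup (fun f : ↥I =>
    (Spec (CommRingCat.of A)).basicOpen ((Scheme.ΓSpecIso (CommRingCat.of A)).inv f.1)) ⟨x, hx⟩

end Groth.Agent.S5192
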