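import Groth.Statements.S5193
import Groth.Agent.S3361
import Groth.Agent.S3356
import Groth.Agent.Sga2.PicInj
import Groth.Agent.LefX.K947.FibCartier
import Groth.Agent.LefX.K947.FibPara
import Groth.Agent.Sga2lef.H82.ClosedFib

set_option autoImplicit false
universe u
open CategoryTheory CategoryTheory.Limits AlgebraicGeometry
open LefX

namespace Groth.Agent.S5193

/-- Over an affine base. Let A be a Noetherian ring, X a proper flat A-scheme, 𝓘 a quasi-coherent ideal
whose ideal module is invertible with ample inverse L, such that X_0 = V(𝓘) is also flat over A (so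
X is projective over A and 𝓘 is cut out by a section t of L regular on every fibre); write X_m =
V(𝓘^(m+1)) for the m-th thickening of X_0. Assume that every fibre X_s has depth ≥ 3 at each of its
closed points, and that at every point x outside X_0 which is closed in its fibre the local ring of
the fibre at x is parafactorial. Let m ≥ 0 be such that H^i(X, 𝓘^n/𝓘^(n+1)) = H^i(X_0, O_{X_0}(−n))
vanishes for i = 1, 2 and every n > m (over an affine base this is the vanishing of the higher
direct images R^i f_{0*}). Then pull-back of invertible modules Pic(X) → Pic(X_m) is bijective: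
trivial kernel and surjective on isomorphism classes. -/
theorem result (A : Type u) [CommRing A] [IsNoetherianRing A] (X : Scheme.{u}) [X.Over (Spec (CommRingCat.of A))] [IsProper (X ↘ Spec (CommRingCat.of A))] [Flat (X ↘ Spec (CommRingCat.of A))] (𝓘 : X.IdealSheafData) (L : X.Modules) (hL : ClSub.IsInverseOf L (ClSub.idealMod 𝓘)) (hamp : CohB1.IsAmple L) [Flat (𝓘.subschemeι ≫ (X ↘ Spec (CommRingCat.of A)))] (hdepth : ∀ x : X, IsClosed ({((X ↘ Spec (CommRingCat.of A))).asFiber x} : Set ↥(((X ↘ Spec (CommRingCat.of A))).fiber (((X ↘ Spec (CommRingCat.of A))).base x))) → (3 : ℕ∞) ≤ LocCoh.depth ↑(CInt.fiberStalk (X ↘ Spec (CommRingCat.of A)) x) ↑(CInt.fiberStalk (X ↘ Spec (CommRingCat.of A)) x)) (hpf : ∀ x : X, IsClosed ({((X ↘ Spec (CommRingCat.of A))).asFiber x} : Set ↥(((X ↘ Spec (CommRingCat.of A))).fiber (((X ↘ Spec (CommRingCat.of A))).base x))) → x ∉ (𝓘.support : Set X) → ParaF.IsParafactorialLocalRing ↑(CInt.fiberStalk (X ↘ Spec (CommRingCat.of A)) x)) (m : ℕ) (hH : ∀ n : ℕ, m < n → ∀ i :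 ℕ, (i = 1 ∨ i = 2) → Subsingleton (Coh.HH X ((DCoh.tensorBi.obj (CohB1.tensorPow (ClSub.idealMod 𝓘) n)).obj (ClSub.quotMod 𝓘)) i)) : Formal2.PicPullbackInjective (𝓘 ^ (m + 1)).subschemeι ∧ Formal2.PicPullbackSurjective (𝓘 ^ (m + 1)).subschemeι := by
  have hln : IsLocallyNoetherian X := LocallyOfFiniteType.isLocallyNoetherian (X ↘ Spec (CommRingCat.of A))
  have hD := Groth.Agent.Dix.IdealModCartier.isEffCartierIdeal_of_isInverseOf hL
  have hleff : LefX.LeffCond X 𝓘 := by
    refine Groth.Agent.S3361.result A X 𝓘 L hL hamp (fun y hy => ?_) (fun x hx => le_trans (by norm_num) (hdepth x hx))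
    have h1 := Groth.Agent.LefX.K947.FibCartier.depth_fiberStalk_add_one (X ↘ Spec (CommRingCat.of A)) hD y
    have h2 := hdepth (𝓘.subschemeι y)
      (Groth.Agent.LefX.K947.FibPara.isClosed_asFiber_subschemeι (X ↘ Spec (CommRingCat.of A)) 𝓘 y hy)
    rw [← h1] at h2
    exact (ENat.add_le_add_iff_right (by simp : (1 : ℕ∞) ≠ ⊤)).1 (le_trans (by norm_num) h2)
  refine (Groth.Agent.S3356.result X 𝓘 m hleff (fun n hn i hi => ?_) (fun U hU x hx => ?_) m le_rfl ⊤
    (fun _ _ => trivial)).2
  · exact Groth.Agent.Sga2.PicInj.subsingleton_HH_kernel hD n i (hH (n + 1) (by omega) i hi)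
  · have hcl := Groth.Agent.Sga2lef.H82.ClosedFib.isClosed_asFiber (X ↘ Spec (CommRingCat.of A)) 𝓘 L hL hamp x
      (fun y hxy hy => hx (hxy.mem_open U.isOpen (hU hy)))
    exact Groth.Agent.LefX.K947.FibPara.isParafactorialLocalRing_stalk (X ↘ Spec (CommRingCat.of A)) x
      (hdepth x hcl) (hpf x hcl (fun h => hx (hU h)))

end Groth.Agent.S5193
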