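import Groth.Statements.S5194
import Groth.Agent.S3361
import Groth.Agent.LefX.K947.FibCartier
import Groth.Agent.LefX.K947.FibPara
import Groth.Agent.Sga2lef.H82.ClosedFib
import Groth.Agent.LefX.K347.LeffEquiv
import Groth.Agent.LefX.K347.FibPure

set_option autoImplicit false
universe u
open CategoryTheory CategoryTheory.Limits AlgebraicGeometry
open LefX

namespace Groth.Agent.S5194

/-- Over an affine base. Let A be a Noetherian ring, X a proper flat A-scheme, 𝓘 a quasi-coherent ideal
whose ideal module is invertible with ample inverse L, such that X_0 = V(𝓘) is also flat over A (X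
projective over A, 𝓘 cut out by a section of L regular on every fibre). Assume that every fibre X_s
has depth ≥ 3 at each of its closed points, and that at every point x outside X_0 which is closed in
its fibre the local ring of the fibre X_s at x is pure: for every open V of its spectrum,
restriction of finite étale covers from V to V minus the closed point is an equivalence (for
instance a complete intersection, of dimension ≥ 3 here). Then restriction of finite étale covers
from X to X_0 is an equivalence of categories; in particular π_1(X_0) → π_1(X) is an isomorphism for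
a geometric base point on X_0. -/
theorem result (A : Type u) [CommRing A] [IsNoetherianRing A] (X : Scheme.{u}) [X.Over (Spec (CommRingCat.of A))] [IsProper (X ↘ Spec (CommRingCat.of A))] [Flat (X ↘ Spec (CommRingCat.of A))] (𝓘 : X.IdealSheafData) (L : X.Modules) (hL : ClSub.IsInverseOf L (ClSub.idealMod 𝓘)) (hamp : CohB1.IsAmple L) [Flat (𝓘.subschemeι ≫ (X ↘ Spec (CommRingCat.of A)))] (hdepth : ∀ x : X, IsClosed ({((X ↘ Spec (CommRingCat.of A))).asFiber x} : Set ↥(((X ↘ Spec (CommRingCat.of A))).fiber (((X ↘ Spec (CommRingCat.of A))).base x))) → (3 : ℕ∞) ≤ LocCoh.depth ↑(CInt.fiberStalk (X ↘ Spec (CommRingCat.of A)) x) ↑(CInt.fiberStalk (X ↘ Spec (CommRingCat.of A)) x)) (hpure : ∀ x : X, IsClosed ({((X ↘ Spec (CommRingCat.of A))).asFiber x} : Set ↥(((X ↘ Spec (CommRingCat.of A))).fiber (((X ↘ Spec (CommRingCat.of A))).base x))) → x ∉ (𝓘.support : Set X) → SGA2.IsPurePair (Spec (CommRingCat.of ↑(CInt.fiberStalk (X ↘ Spec (CommRingCat.of A)) x))) (FEt.puncturedSpec ↑(CInt.fiberStalk (X ↘ Spec (CommRingCat.of A)) x))) : (FEt.restrict 𝓘.subschemeι).IsEquivalence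 := by
  have hln : IsLocallyNoetherian X := LocallyOfFiniteType.isLocallyNoetherian (X ↘ Spec (CommRingCat.of A))
  have hcs : CompactSpace X := by
    have := QuasiCompact.compactSpace_of_compactSpace (X ↘ Spec (CommRingCat.of A))
    exact this
  have hN : IsNoetherian X := { }
  have hD := Groth.Agent.Dix.IdealModCartier.isEffCartierIdeal_of_isInverseOf hL
  have hleff : LefX.LeffCond X 𝓘 := by
    refine Groth.Agent.S3361.result A X 𝓘 L hL hamp (fun y hy => ?_) (fun x hx => le_trans (by norm_num) (hdepth x hx))
    have h1 := Groth.Agent.LefX.K947.FibCartier.depth_fiberStalk_add_one (X ↘ Spec (CommRingCat.of A)) hD y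
    have h2 := hdepth (𝓘.subschemeι y)
      (Groth.Agent.LefX.K947.FibPara.isClosed_asFiber_subschemeι (X ↘ Spec (CommRingCat.of A)) 𝓘 y hy)
    rw [← h1] at h2
    exact (ENat.add_le_add_iff_right (by simp : (1 : ℕ∞) ≠ ⊤)).1 (le_trans (by norm_num) h2)
  refine K347.LeffEquiv.isEquivalence_of_leffCond 𝓘 hleff (fun U hU x hx => ?_)
  have hcl := Groth.Agent.Sga2lef.H82.ClosedFib.isClosed_asFiber (X ↘ Spec (CommRingCat.of A)) 𝓘 L hL hamp x
    (fun y hxy hy => hx (hxy.mem_open U.isOpen (hU hy)))
  exact K347.FibPure.purityHolds_stalk (X ↘ Spec (CommRingCat.of A)) x (hdepth x hcl)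
    (K347.FibPure.purityHolds_of_isPurePair _ (hpure x hcl (fun h => hx (hU h))))

end Groth.Agent.S5194
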