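import Groth.Statements.S5196
import Groth.Agent.EtDepth.K176.DeltaRing
import Groth.Agent.Sga2lef.H98.Rtd

set_option autoImplicit false
universe u
open CategoryTheory CategoryTheory.Limits AlgebraicGeometry Opposite
open EtDepth

namespace Groth.Agent.S5196

/-- Let A → A' be a faithfully flat homomorphism of Noetherian local rings whose fibre over the closed
point of Spec A is the single closed point of Spec A' (the only prime of A' over m_A is m_{A'}), f :
X → Spec A a morphism locally of finite type, X' = X ×_A A' with projections h : X' → X and f' : X'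
→ Spec A'. For a point x' of X' put x = h(x'), s = f(x), s' = f'(x'). Then trdeg(κ(x')/κ(s')) ≤
trdeg(κ(x)/κ(s)) and dim A'/p_{s'} ≤ dim A/p_s, so that δ(x') ≤ δ(x) for δ(x) = trdeg(κ(x)/κ(s)) +
dim cl(s), with equality exactly when both inequalities are equalities; and for every point x of X
there is a point x' of X' over x for which both are equalities. -/
theorem result (A A' : Type u) [CommRing A] [CommRing A'] [IsLocalRing A] [IsLocalRing A'] [IsNoetherianRing A] [IsNoetherianRing A'] [Algebra A A'] [Module.FaithfullyFlat A A'] (hfib : ∀ q : Ideal A', ∀ _ : q.IsPrime, q.comap (algebraMap A A') = IsLocalRing.maximalIdeal A → q = IsLocalRing.maximalIdeal A') (X : Scheme.{u}) (f : X ⟶ (Spec (CommRingCat.of A))) [LocallyOfFiniteType f] : (∀ x' : ↥(pullback f (Spec.map (CommRingCat.ofHom (algebraMap A A')))), @Algebra.trdeg ↑((Spec (CommRingCat.of A')).residueField ((pullback.snd f (Spec.map (CommRingCat.ofHom (algebraMap A A')))).base x')) ↑((pullback f (Spec.map (CommRingCat.ofHom (algebraMap A A')))).residueField x') _ _ ((pullback.snd f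 (Spec.map (CommRingCat.ofHom (algebraMap A A')))).residueFieldMap x').hom.toAlgebra ≤ @Algebra.trdeg ↑((Spec (CommRingCat.of A)).residueField (f.base ((pullback.fst f (Spec.map (CommRingCat.ofHom (algebraMap A A')))).base x'))) ↑(X.residueField ((pullback.fst f (Spec.map (CommRingCat.ofHom (algebraMap A A')))).base x')) _ _ (f.residueFieldMap ((pullback.fst f (Spec.map (CommRingCat.ofHom (algebraMap A A')))).base x')).hom.toAlgebra ∧ ringKrullDim (A' ⧸ ((pullback.snd f (Spec.map (CommRingCat.ofHom (algebraMap A A')))).base x').asIdeal) ≤ ringKrullDim (A ⧸ (f.base ((pullback.fst f (Spec.map (CommRingCat.ofHom (algebraMap A A')))).base x')).asIdeal)) ∧ (∀ x : X, ∃ x' : ↥(pullback f (Spec.map (CommRingCat.ofHom (algebraMap A A')))), (pullback.fst f (Spec.map (CommRingCat.ofHom (algebraMap A A')))).base x' = x ∧ @Algebra.trdeg ↑((Spec (CommRingCat.of A')).residueField ((pullback.snd f (Spec.map (CommRingCat.ofHom (algebraMap A A')))).base x')) ↑((pullback f (Spec.map (CommRingCat.ofHom (algebraMap A A')))).residueField x') _ _ ((pullback.snd f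 (Spec.map (CommRingCat.ofHom (algebraMap A A')))).residueFieldMap x').hom.toAlgebra = @Algebra.trdeg ↑((Spec (CommRingCat.of A)).residueField (f.base ((pullback.fst f (Spec.map (CommRingCat.ofHom (algebraMap A A')))).base x'))) ↑(X.residueField ((pullback.fst f (Spec.map (CommRingCat.ofHom (algebraMap A A')))).base x')) _ _ (f.residueFieldMap ((pullback.fst f (Spec.map (CommRingCat.ofHom (algebraMap A A')))).base x')).hom.toAlgebra ∧ ringKrullDim (A' ⧸ ((pullback.snd f (Spec.map (CommRingCat.ofHom (algebraMap A A')))).base x').asIdeal) = ringKrullDim (A ⧸ (f.base ((pullback.fst f (Spec.map (CommRingCat.ofHom (algebraMap A A')))).base x')).asIdeal)) := by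
  have hw : pullback.fst f (Spec.map (CommRingCat.ofHom (algebraMap A A'))) ≫ f =
      pullback.snd f (Spec.map (CommRingCat.ofHom (algebraMap A A'))) ≫
        Spec.map (CommRingCat.ofHom (algebraMap A A')) := pullback.condition
  have H := IsPullback.of_hasPullback f (Spec.map (CommRingCat.ofHom (algebraMap A A')))
  have hpt : ∀ x' : ↥(pullback f (Spec.map (CommRingCat.ofHom (algebraMap A A')))),
      f (pullback.fst f (Spec.map (CommRingCat.ofHom (algebraMap A A'))) x') =
      Spec.map (CommRingCat.ofHom (algebraMap A A'))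
        (pullback.snd f (Spec.map (CommRingCat.ofHom (algebraMap A A'))) x') := fun x' => by
    rw [← Scheme.Hom.comp_apply, ← Scheme.Hom.comp_apply, hw]
  have hid : ∀ x' : ↥(pullback f (Spec.map (CommRingCat.ofHom (algebraMap A A')))),
      (pullback.snd f (Spec.map (CommRingCat.ofHom (algebraMap A A'))) x').asIdeal.comap
        (algebraMap A A') =
      (f (pullback.fst f (Spec.map (CommRingCat.ofHom (algebraMap A A'))) x')).asIdeal :=
    fun x' => (congrArg PrimeSpectrum.asIdeal (hpt x')).symm
  refine ⟨fun x' => ⟨Groth.Agent.Sga2lef.H98.Rtd.rtd_snd_le H x', ?_⟩, fun x => ?_⟩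
  · have h := K176.DeltaRing.dim_quotient_le A A' hfib
      (pullback.snd f (Spec.map (CommRingCat.ofHom (algebraMap A A'))) x').asIdeal
    rw [hid] at h
    exact h
  · obtain ⟨p', hp', hc, hd⟩ := K176.DeltaRing.exists_prime A A' hfib (f x).asIdeal (hp := (f x).2)
    let y : Spec (CommRingCat.of A') := ⟨p', hp'⟩
    have hy : f x = Spec.map (CommRingCat.ofHom (algebraMap A A')) y :=
      PrimeSpectrum.ext hc.symm
    obtain ⟨z, hz1, hz2, hz3⟩ := Groth.Agent.Sga2lef.H98.Rtd.exists_lift H x y hy
    subst hz1
    refine ⟨z, rfl, le_antisymm (Groth.Agent.Sga2lef.H98.Rtd.rtd_snd_le H z) hz3, ?_⟩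
    have e : ((pullback.snd f (Spec.map (CommRingCat.ofHom (algebraMap A A'))) z).asIdeal : Ideal A') =
        p' := congrArg PrimeSpectrum.asIdeal hz2
    rw [← e] at hd
    exact hd

end Groth.Agent.S5196
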