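import Groth.Statements.S5197
import Groth.Agent.EtDepth.K177.Rows
import Groth.Agent.EtDepth.K813.NodeFin
import Groth.Agent.EtDepth.K584.Hull
import Groth.Agent.EtDepth.K584.Supp
import Groth.Agent.EtDepth.K973.AlgMain

set_option autoImplicit false
universe u
open CategoryTheory CategoryTheory.Limits AlgebraicGeometry Opposite TopologicalSpace
open EtDepth

namespace Groth.Agent.S5197

/-- Case of a henselian base and X proper over the punctured spectrum, for a single constructible sheaf.
Let A be an excellent henselian Noetherian local ring containing Q with punctured spectrum S', X a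
scheme proper over S', U ⊆ X an open subset which is the union of c + 1 affine opens, Y a closed
subscheme with underlying space X − U, m a prime power, F a constructible sheaf of Z/m-modules on
the small étale site of X, and n ≥ 0. Assume that for every point u of U the étale depth of F at u
is ≥ min(n − 1, n − dim cl(u)), cl(u) the closure of u in X. Then there is an open neighbourhood W₀
of Y in X such that for every open W with Y ⊆ W ⊆ W₀ the restriction map H^k(W, F|_W) → H^k(Y, F|_Y)
is bijective for k < n − c − 1 and injective for k = n − c − 1. (Restriction is along the inclusion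
i : Y → W over X, over which the statement quantifies. The published hypothesis is phrased with
δ_t(u) = trdeg(κ(u)/κ(s)) + dim cl_S(s), s the image of u in S; n + 1 − δ_t(u) equals n − dim cl(u)
here, cl(u) the closure of u in X, because A is universally catenary and cl(u) is proper and
dominant over cl_S(s) − {t}. The published statement also records that for every open neighbourhood
W of Y, without shrinking, the same map is bijective for k < n − c − 2 and injective for k = n − c −
2; that part follows from the every-neighbourhood form of the local Lefschetz statement at n − 1 and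
is not repeated here.) -/
theorem result (A : Type u) [CommRing A] [IsLocalRing A] [IsNoetherianRing A] [HenselianLocalRing A] [Algebra ℚ A] (hA : EGA4.IsExcellent A) (X : Scheme.{u}) (g : X ⟶ (FEt.puncturedSpec A : Scheme.{u})) [IsProper g] (c : ℕ) (V : Fin (c + 1) → X.Opens) (hV : ∀ i, IsAffineOpen (V i)) (𝓨 : X.IdealSheafData) (hY : (𝓨.support : Set X) = (((⨆ i, V i) : X.Opens) : Set X)ᶜ) (m : ℕ) (hm : IsPrimePow m) (F : EtCoh.Ab X) (hFm : EtCoh.KilledBy m F) (hFc : EtPBC.IsConstructible F) (n : ℕ) (hdepth : ∀ u : X, u ∈ (⨆ i, V i) → ∀ d : ℕ, topologicalKrullDim ↥(closure ({u} : Set X)) = (d : WithBot ℕ∞) → EtDepth.DepthAtGE X F u (min (n - 1) (n - d))) : (∃ W₀ : X.Opens, (𝓨.support : Set X) ⊆ (W₀ : Set X) ∧ ∀ (W : X.Opens), (𝓨.support : Set X) ⊆ (W : Set X) → W ≤ W₀ → ∀ (i : 𝓨.subscheme ⟶ (W : Scheme.{u})) [EtCoh.BCCont i] [PreservesFiniteLimits (EtCoh.pull i)], i ≫ W.ι = 𝓨.subschemeι → (∀ k : ℕ, k + c + 1 < n → Function.Bijective (EtCore.Hpull i ((EtCoh.pull W.ι).obj F) k)) ∧ (∀ k : ℕ, k + c + 1 = n → Function.Injective (EtCore.Hpull i ((EtCoh.pull W.ι).obj F) k))) := by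
  exact K177.Rows.s5197 K584.Hull.main K584.Supp.main K973.AlgMain.main K813.NodeFin.main A hA X g c V hV 𝓨 hY m hm F hFm hFc n hdepth

end Groth.Agent.S5197
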