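import Groth.Statements.S5198
import Groth.Agent.EtDepth.K176.DeltaT

set_option autoImplicit false
universe u
open CategoryTheory CategoryTheory.Limits AlgebraicGeometry Opposite
open EtDepth

namespace Groth.Agent.S5198

/-- Over affine bases. Let A → A' be a faithfully flat homomorphism of Noetherian rings with A
Cohen–Macaulay and A' catenary, T = V(I) ⊆ Spec A and T' = V(I') ⊆ Spec A' closed subsets with T'
mapping into T, f : X → Spec A locally of finite type, X' = X ×_A A' with projections h : X' → X and
f' : X' → Spec A'. For a point x' of X' put x = h(x'), s = f(x), s' = f'(x'), and let δ_T(x) =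
trdeg(κ(x)/κ(s)) + codim(cl(s) ∩ T, cl(s)), δ_{T'}(x') likewise, assuming cl(s') meets T' (so both
codimensions are finite). Then δ_T(x) − δ_{T'}(x') ≤ dim h_{x'}^{-1}(x), the dimension of the local
ring at x' of the fibre of h over x; written additively with the five quantities pinned to natural
numbers. (The published statement assumes A and A' only catenary. In that generality it fails: for a
two-dimensional catenary Noetherian local domain A whose completion A' has a one-dimensional
irreducible component, with T and T' the closed points, X = Spec A and x' the generic point of that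
component, the left side is 2 and the right side is 1. The published proof uses additivity of
codimension inside the preimage of cl(s) in Spec A', which needs the irreducible components of Spec
A' through a point not to have smaller local dimension than Spec A at the image point; flatness
gives this when A is Cohen–Macaulay, the hypothesis this row takes, and A is then catenary.) -/
theorem result (A A' : Type u) [CommRing A] [CommRing A'] [IsNoetherianRing A] [IsNoetherianRing A'] (hcm : LocCoh.IsCohenMacaulayRing A) (hcat' : CAlg.IsCatenary A') [Algebra A A'] [Module.FaithfullyFlat A A'] (I : Ideal A) (I' : Ideal A') (hTT : ∀ q : PrimeSpectrum A', I' ≤ q.asIdeal → I ≤ q.asIdeal.comap (algebraMap A A')) (X : Scheme.{u}) (f : X ⟶ (Spec (CommRingCat.of A))) [LocallyOfFiniteType f] (x' : ↥(pullback f (Spec.map (CommRingCat.ofHom (algebraMap A A'))))) (r r' a b e : ℕ) (hr : @Algebra.trdeg ↑((Spec (CommRingCat.of A)).residueField (f.base ((pullback.fst f (Spec.map (CommRingCat.ofHom (algebraMap A A')))).base x'))) ↑(X.residueField ((pullback.fst f (Spec.map (CommRingCat.ofHom (algebraMap A A')))).base x')) _ _ (f.residueFieldMap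 ((pullback.fst f (Spec.map (CommRingCat.ofHom (algebraMap A A')))).base x')).hom.toAlgebra = r) (hr' : @Algebra.trdeg ↑((Spec (CommRingCat.of A')).residueField ((pullback.snd f (Spec.map (CommRingCat.ofHom (algebraMap A A')))).base x')) ↑((pullback f (Spec.map (CommRingCat.ofHom (algebraMap A A')))).residueField x') _ _ ((pullback.snd f (Spec.map (CommRingCat.ofHom (algebraMap A A')))).residueFieldMap x').hom.toAlgebra = r') (ha : SGA2.relCodim I (f.base ((pullback.fst f (Spec.map (CommRingCat.ofHom (algebraMap A A')))).base x')) = a) (hb : SGA2.relCodim I' ((pullback.snd f (Spec.map (CommRingCat.ofHom (algebraMap A A')))).base x') = b) (he : ringKrullDim ↑(CInt.fiberStalk (pullback.fst f (Spec.map (CommRingCat.ofHom (algebraMap A A')))) x') = (e : WithBot ℕ∞)) : r + a ≤ r' + b + e := by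
  have H := IsPullback.of_hasPullback f (Spec.map (CommRingCat.ofHom (algebraMap A A')))
  have hlnA : IsLocallyNoetherian (Spec (CommRingCat.of A)) := inferInstance
  have hlnA' : IsLocallyNoetherian (Spec (CommRingCat.of A')) := inferInstance
  have hlnX : IsLocallyNoetherian X := LocallyOfFiniteType.isLocallyNoetherian f
  have hlnP : IsLocallyNoetherian (pullback f (Spec.map (CommRingCat.ofHom (algebraMap A A')))) :=
    LocallyOfFiniteType.isLocallyNoetherian
      (pullback.snd f (Spec.map (CommRingCat.ofHom (algebraMap A A'))))
  have hpt : f (pullback.fst f (Spec.map (CommRingCat.ofHom (algebraMap A A'))) x') =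
      Spec.map (CommRingCat.ofHom (algebraMap A A'))
        (pullback.snd f (Spec.map (CommRingCat.ofHom (algebraMap A A'))) x') := by
    rw [← Scheme.Hom.comp_apply, ← Scheme.Hom.comp_apply, H.w]
  have hN := K176.DeltaT.noeth_fiber (Spec.map (CommRingCat.ofHom (algebraMap A A')))
    (pullback.snd f (Spec.map (CommRingCat.ofHom (algebraMap A A'))) x')
  obtain ⟨n, hn⟩ := K176.DeltaT.exists_dim
    (((Spec.map (CommRingCat.ofHom (algebraMap A A'))).fiber
      (Spec.map (CommRingCat.ofHom (algebraMap A A'))
        (pullback.snd f (Spec.map (CommRingCat.ofHom (algebraMap A A'))) x'))).presheaf.stalk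
        ((Spec.map (CommRingCat.ofHom (algebraMap A A'))).asFiber
          (pullback.snd f (Spec.map (CommRingCat.ofHom (algebraMap A A'))) x')))
  have h1 := K176.DeltaT.fibre_part H x' r r' e n hr hr' he hn
  have h2 := K176.DeltaT.height_eq A A'
    (pullback.snd f (Spec.map (CommRingCat.ofHom (algebraMap A A'))) x') n hn
  have ha' : SGA2.relCodim I (PrimeSpectrum.comap (algebraMap A A')
      (pullback.snd f (Spec.map (CommRingCat.ofHom (algebraMap A A'))) x')) = a :=
    (congrArg (SGA2.relCodim I) hpt.symm).trans ha
  have h3 := K176.DeltaT.codim_part A A' hcm hcat' I I' hTT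
    (pullback.snd f (Spec.map (CommRingCat.ofHom (algebraMap A A'))) x') a b n ha' hb h2
  omega

end Groth.Agent.S5198
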