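import Groth.Statements.S5199
import Groth.Agent.S0822
import Groth.Agent.LefX.K177.Algebraize
import Groth.Agent.S2930
import Groth.Agent.S2945
import Groth.Agent.S3433
import Groth.Agent.PerfA.CohSerre
import Groth.Agent.LoccohA.DepthFinite
import Groth.Agent.S0564
import Groth.Agent.Sga2lef.H81.LocFreeNhd
import Groth.Agent.Sga2lef.H96.LevelFree

set_option autoImplicit false
universe u
open CategoryTheory CategoryTheory.Limits AlgebraicGeometry
open LefX

namespace Groth.Agent.S5199

open Groth.Agent.Sga2lef.H96.ModSysFormal Groth.Agent.Sga2lef.H96.ModSysPush in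
theorem algebraize (A : Type u) [CommRing A] [IsLocalRing A] [IsNoetherianRing A] (t : A)
    (ht : t ∈ IsLocalRing.maximalIdeal A) (hnzd : t ∈ nonZeroDivisors A)
    [IsAdicComplete (Ideal.span {t}) A]
    (h₁ : Module.Finite A (LocCoh.H (IsLocalRing.maximalIdeal A) 1 (A ⧸ Ideal.span {t})))
    (h₂ : Module.Finite A (LocCoh.H (IsLocalRing.maximalIdeal A) 2 (A ⧸ Ideal.span {t})))
    (U : (Spec (CommRingCat.of A)).Opens)
    (hU : U = LocCoh.puncturedOpen A (IsLocalRing.maximalIdeal A))
    (𝔐 : FSch.ModSys (FSch.completionAlong (↑U : Scheme.{u})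
      ((Spec.map (CommRingCat.ofHom (Ideal.Quotient.mk (Ideal.span {t})))).ker.comap U.ι)))
    (hlf : LefX.LevelwiseFinLocFree 𝔐) :
    ∃ F : (↑U : Scheme.{u}).Modules, Coh.IsCoh F ∧
      Nonempty (FSch.completionMod ((Spec.map (CommRingCat.ofHom (Ideal.Quotient.mk
        (Ideal.span {t})))).ker.comap U.ι) F ≅ 𝔐) := by
  subst hU
  have hgen := isGenBy_comap (X := (↑(LocCoh.puncturedOpen A (IsLocalRing.maximalIdeal A)) :
    Scheme.{u})) (Ideal.span {t})
  have hcoh : 𝔐.IsCoh := fun n => Groth.Agent.PerfA.CohSerre.isCoh_of_isFinLocFree (hlf n)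
  obtain ⟨F, hF, he⟩ := Groth.Agent.S0822.result A (IsLocalRing.maximalIdeal A) t ht hnzd h₁ h₂
    (toSys 𝔐) (isCohFormal_toSys hgen 𝔐 hcoh)
    (Groth.Agent.Sga2lef.H96.LevelFree.isFinLocFreeMod_toSys hgen 𝔐 hlf)
  exact ⟨F, hF, nonempty_iso hgen 𝔐 F hF.1 he⟩

theorem mem_nonZeroDivisors_of_isSMulRegular {A : Type u} [CommRing A] {t : A}
    (h : IsSMulRegular A t) : t ∈ nonZeroDivisors A := by
  rw [mem_nonZeroDivisors_iff]
  refine ⟨fun x hx => h ?_, fun x hx => h ?_⟩
  · simpa only [smul_eq_mul, mul_zero] using hx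
  · simpa only [smul_eq_mul, mul_zero, mul_comm t x] using hx

open scoped Pointwise in
/-- The finiteness of `H^i_𝔪(A/t)` for `i ≤ 2`. -/
theorem finite_H (B : Type u) [CommRing B] [IsRegularLocalRing B] (A : Type u) [CommRing A]
    [IsLocalRing A] [IsNoetherianRing A] (φ : B →+* A) (hφ : Function.Surjective φ) (t : A)
    (hreg : IsSMulRegular A t)
    (h3 : ∀ p : Ideal A, ∀ _ : p.IsPrime, t ∈ p → ringKrullDim (A ⧸ p) = 1 →
      (3 : ℕ∞) ≤ LocCoh.depth (Localization.AtPrime p) (Localization.AtPrime p)) (i : ℕ)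
    (hi : i ≤ 2) : Module.Finite A (LocCoh.H (IsLocalRing.maximalIdeal A) i (A ⧸ Ideal.span {t})) := by
  have hB : IsRegularRing B := by
    rw [isRegularRing_iff]
    intro p hp
    exact Groth.Agent.S0564.result B p
  refine (Groth.Agent.S2930.result B A φ hφ (IsLocalRing.maximalIdeal A)
    (A ⧸ Ideal.span {t}) 2).2 ?_ i hi
  intro p q hp hq hpq
  by_cases htp : t ∈ p.asIdeal
  · have hpm : p ≠ IsLocalRing.closedPoint A := fun h => hp (by rw [h]; exact le_rfl)
    have hqm : q = IsLocalRing.closedPoint A := by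
      apply PrimeSpectrum.ext
      exact ((IsLocalRing.maximalIdeal.isMaximal A).eq_of_le q.isPrime.ne_top hq).symm
    have hdim : ringKrullDim (A ⧸ p.asIdeal) = 1 := (Groth.Agent.S3433.dim_iff p hpm).1 (by
      intro r hpr hr
      have hrq : r ≤ q := by
        rw [hqm]
        exact IsLocalRing.le_maximalIdeal r.isPrime.ne_top
      rcases hpq.eq_or_eq hpr hrq with h | h
      · exact h
      · exact absurd (h.trans hqm) hr)
    have h := h3 p.asIdeal p.isPrime htp hdim
    have e0 : LocalizedModule p.asIdeal.primeCompl A ≃ₗ[Localization.AtPrime p.asIdeal]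
        Localization.AtPrime p.asIdeal := LinearEquiv.refl _ _
    have hregl : IsSMulRegular (LocalizedModule p.asIdeal.primeCompl A) t := by
      intro a b hab
      apply Groth.Agent.Ega4B.DepthBasic.isSMulRegular_localizedModule p.asIdeal.primeCompl hreg
      simpa only [algebraMap_smul] using hab
    have h' : ((2 + 1 : ℕ) : ℕ∞) ≤ LocCoh.depth (Localization.AtPrime p.asIdeal)
        (LocalizedModule p.asIdeal.primeCompl A) := h
    have h4 := (Groth.Agent.LoccohA.DepthFinite.natCast_succ_le_depth_localized_iff p.asIdeal A t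
      htp hregl 2).1 h'
    have heq : t • (⊤ : Submodule A A) = Ideal.span {t} := by
      rw [← Submodule.ideal_span_singleton_smul, smul_eq_mul, Ideal.mul_top]
    have e1 : QuotSMulTop t A ≃ₗ[A] (A ⧸ Ideal.span {t}) := Submodule.quotEquivOfEq _ _ heq
    rw [Groth.Agent.LoccohA.DepthFinite.depth_localized_congr p.asIdeal e1] at h4
    exact h4
  · have hz : Subsingleton (LocalizedModule p.asIdeal.primeCompl (A ⧸ Ideal.span {t})) := by
      refine (LocalizedModule.subsingleton_iff).2 fun m => ⟨t, htp, ?_⟩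
      obtain ⟨m, rfl⟩ := Ideal.Quotient.mk_surjective m
      rw [Algebra.smul_def]
      change Ideal.Quotient.mk _ (t * m) = 0
      exact Ideal.Quotient.eq_zero_iff_mem.2 (Ideal.mul_mem_right _ _
        (Ideal.mem_span_singleton_self t))
    rw [Groth.Agent.Ega4B.DepthBasic.depth_eq_top_of_subsingleton]
    exact le_top

/-- Let A be a Noetherian local ring which is a quotient of a regular local ring, t an A-regular element
of the maximal ideal such that A is separated and complete for the (t)-adic topology, X the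
punctured spectrum of A and Y = V(t) ∩ X, the closed subscheme of X defined by t. Assume that depth
A_p ≥ 2 for every prime ideal p with dim A/p = 1 (the closed points of X), and that depth A_p ≥ 3
for every such p containing t (the closed points of Y). Then the effective Lefschetz condition
Leff(X, Y) holds: for every open U ⊇ Y of X and every finite locally free O_U-module D, Hom(D, O_U)
→ lim_n Hom(D, O_U/t^(n+1)O_U) is bijective, and every levelwise finite locally free system of
modules on the completion of X along Y is the completion of a finite locally free module on some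
open neighbourhood of Y. -/
theorem result (A : Type u) [CommRing A] [IsLocalRing A] [IsNoetherianRing A] (hq : ∃ (B : Type u) (_ : CommRing B) (_ : IsRegularLocalRing B) (φ : B →+* A), Function.Surjective φ) (t : A) (ht : t ∈ IsLocalRing.maximalIdeal A) (hreg : IsSMulRegular A t) [IsAdicComplete (Ideal.span {t}) A] (h2 : ∀ p : Ideal A, ∀ _ : p.IsPrime, ringKrullDim (A ⧸ p) = 1 → (2 : ℕ∞) ≤ LocCoh.depth (Localization.AtPrime p) (Localization.AtPrime p)) (h3 : ∀ p : Ideal A, ∀ _ : p.IsPrime, t ∈ p → ringKrullDim (A ⧸ p) = 1 → (3 : ℕ∞) ≤ LocCoh.depth (Localization.AtPrime p) (Localization.AtPrime p)) : LefX.LeffCond (↑(FEt.puncturedSpec A) : Scheme.{u}) ((Spec.map (CommRingCat.ofHom (Ideal.Quotient.mk (Ideal.span {t})))).ker.comap (FEt.puncturedSpec A).ι) := by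
  obtain ⟨B, _, _, φ, hφ⟩ := hq
  have hN : IsLocallyNoetherian (↑(FEt.puncturedSpec A) : Scheme.{u}) := inferInstance
  refine ⟨Groth.Agent.S2945.result B A φ hφ t ht hreg (fun p hp => h2 p.asIdeal p.isPrime hp),
    fun 𝔐 hlf => ?_⟩
  obtain ⟨F, hF, ⟨e⟩⟩ := algebraize A t ht (mem_nonZeroDivisors_of_isSMulRegular hreg) 
    (finite_H B A φ hφ t hreg h3 1 (by norm_num)) (finite_H B A φ hφ t hreg h3 2 le_rfl)
    (FEt.puncturedSpec A) (K177.Basic.puncturedSpec_eq A) 𝔐 hlf
  exact K177.Algebraize.exists_nhd _ 𝔐 hlf F hF ⟨e⟩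

end Groth.Agent.S5199
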