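import Groth.Statements.S5200
import Groth.Agent.LefX.K177.Part12

set_option autoImplicit false
universe u
open CategoryTheory CategoryTheory.Limits AlgebraicGeometry
open LefX

namespace Groth.Agent.S5200

/-- With the base ring assumed a quotient of a regular ring. Let f : X → S be a proper morphism with S
locally Noetherian and U ⊆ X an open subscheme flat over S such that for every base change S' → S
with S' locally Noetherian, writing X' = X ×_S S' and g' : U' = U ×_S S' → X' for the inclusion, the
direct images R^i g'_*(O_{U'}) are coherent O_{X'}-modules for i = 0, 1. Let A be a Noetherian ring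
which is a quotient of a regular ring, J an ideal such that A is separated and complete for the
J-adic topology, S' = Spec A → S a morphism, U' = U ×_S S' and Û' the completion of U' along V(J
O_{U'}). Then (i) for every finite locally free O_{U'}-module D the map Hom(D, O_{U'}) → lim_n
Hom(D, O_{U'}/J^(n+1)O_{U'}) is bijective (completion is fully faithful on finite locally free
modules), and (ii) every levelwise finite locally free system of coherent modules on Û' is
isomorphic to the completion of a coherent O_{U'}-module. (The published statement does not ask A to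
be a quotient of a regular ring; the remark its proof relies on needs S' locally embeddable in a
regular scheme, or local, so that hypothesis is added here. Injective resolutions of the module
categories are carried as instance arguments.) -/
theorem result {X S : Scheme.{u}} (f : X ⟶ S) [IsProper f] [IsLocallyNoetherian S] (U : X.Opens) [Flat (U.ι ≫ f)] (hcoh : ∀ (S' : Scheme.{u}) (b : S' ⟶ S) [IsLocallyNoetherian S'] [HasInjectiveResolutions (↑((pullback.fst f b) ⁻¹ᵁ U) : Scheme.{u}).Modules], ∀ i : ℕ, i ≤ 1 → Coh.IsCoh ((Coh.Rpush ((pullback.fst f b) ⁻¹ᵁ U).ι i).obj (Coh.structureModule (↑((pullback.fst f b) ⁻¹ᵁ U) : Scheme.{u})))) (R : Type u) [CommRing R] [IsRegularRing R] (A : Type u) [CommRing A] [IsNoetherianRing A] (π : R →+* A) (hπ : Function.Surjective π) (J : Ideal A) [IsAdicComplete J A] (b : Spec (CommRingCat.of A) ⟶ S) : (∀ D : (↑((pullback.fst f b) ⁻¹ᵁ U) : Scheme.{u}).Modules, FlatMod.IsFinLocFree D → Lef.HomToFormalBijective (((Spec.map (CommRingCat.ofHom (Ideal.Quotient.mk J))).ker).comap (((pullback.fst f b) ⁻¹ᵁ U).ι ≫ pullback.snd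 f b)) D) ∧ (∀ 𝔐 : FSch.ModSys (FSch.completionAlong (↑((pullback.fst f b) ⁻¹ᵁ U) : Scheme.{u}) (((Spec.map (CommRingCat.ofHom (Ideal.Quotient.mk J))).ker).comap (((pullback.fst f b) ⁻¹ᵁ U).ι ≫ pullback.snd f b))), LefX.LevelwiseFinLocFree 𝔐 → ∃ F : (↑((pullback.fst f b) ⁻¹ᵁ U) : Scheme.{u}).Modules, Coh.IsCoh F ∧ Nonempty (FSch.completionMod (((Spec.map (CommRingCat.ofHom (Ideal.Quotient.mk J))).ker).comap (((pullback.fst f b) ⁻¹ᵁ U).ι ≫ pullback.snd f b)) F ≅ 𝔐)) := by
  let iO : (pullback f b).Over (Spec (CommRingCat.of A)) := ⟨pullback.snd f b⟩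
  have hyp := K177.LocHyp.hyp_of f U hcoh R π hπ b
  have hp : IsProper ((pullback f b) ↘ Spec (CommRingCat.of A)) := inferInstanceAs (IsProper (pullback.snd f b))
  have hgen := Groth.Agent.Sga2lef.H96.ModSysFormal.isGenBy_comap
    (X := (↑((pullback.fst f b) ⁻¹ᵁ U) : Scheme.{u})) J
  exact ⟨fun D hD => K177.Part12.homToFormalBijective hyp R π hπ J hgen D
      (Groth.Agent.PerfA.CohSerre.isCoh_of_isFinLocFree hD),
    fun 𝔐 hlf => K177.Part12.algebraize_modSys hyp R π hπ J hgen 𝔐 hlf⟩

end Groth.Agent.S5200
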