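import Groth.Statements.S5202
import Groth.Agent.EtDepth.K177.Rows
import Groth.Agent.EtDepth.K584.Hull
import Groth.Agent.EtDepth.K584.Supp
import Groth.Agent.EtDepth.K973.AlgMain

set_option autoImplicit false
universe u
open CategoryTheory CategoryTheory.Limits AlgebraicGeometry Opposite TopologicalSpace
open EtDepth

namespace Groth.Agent.S5202

/-- Local Lefschetz comparison over a henselian base, for every open neighbourhood of Y and a single
constructible sheaf. Let A be an excellent henselian Noetherian local ring containing Q with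
punctured spectrum S', X a scheme proper over S', U ⊆ X an open subset which is the union of c + 1
affine opens, Y a closed subscheme with underlying space X − U, m a prime power, F a constructible
sheaf of Z/m-modules on the small étale site of X and n ≥ 0 such that for every point u of U the
étale depth of F at u is ≥ n − dim cl(u), cl(u) the closure of u in X. Then for every open
neighbourhood W of Y in X the restriction map H^k(W, F|_W) → H^k(Y, F|_Y) (along the inclusion i : Y
→ W over X, over which the statement quantifies) is bijective for k < n − c − 1 and injective for k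
= n − c − 1. (The hypothesis is phrased with dim cl(u), the dimension of the closure of u in X,
which equals the published δ_t(u) − 1 = trdeg(κ(u)/κ(s)) + dim cl_S(s) − 1 here, s the image of u in
S, because A is universally catenary and cl(u) is proper and dominant over cl_S(s) − {t}.) -/
theorem result (A : Type u) [CommRing A] [IsLocalRing A] [IsNoetherianRing A] [HenselianLocalRing A] [Algebra ℚ A] (hA : EGA4.IsExcellent A) (X : Scheme.{u}) (g : X ⟶ (FEt.puncturedSpec A : Scheme.{u})) [IsProper g] (c : ℕ) (V : Fin (c + 1) → X.Opens) (hV : ∀ i, IsAffineOpen (V i)) (𝓨 : X.IdealSheafData) (hY : (𝓨.support : Set X) = (((⨆ i, V i) : X.Opens) : Set X)ᶜ) (m : ℕ) (hm : IsPrimePow m) (F : EtCoh.Ab X) (hFm : EtCoh.KilledBy m F) (hFc : EtPBC.IsConstructible F) (n : ℕ) (hdepth : ∀ u : X, u ∈ (⨆ i, V i) → ∀ d : ℕ, topologicalKrullDim ↥(closure ({u} : Set X)) = (d : WithBot ℕ∞) → EtDepth.DepthAtGE X F u (n - d)) : ∀ (W : X.Opens), (𝓨.support : Set X) ⊆ (W : Set X) → ∀ (i : 𝓨.subscheme ⟶ (W : Scheme.{u})) [EtCoh.BCCont i] [PreservesFiniteLimits (EtCoh.pull i)], i ≫ W.ι = 𝓨.subschemeι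 → (∀ k : ℕ, k + c + 1 < n → Function.Bijective (EtCore.Hpull i ((EtCoh.pull W.ι).obj F) k)) ∧ (∀ k : ℕ, k + c + 1 = n → Function.Injective (EtCore.Hpull i ((EtCoh.pull W.ι).obj F) k)) := by
  exact K177.Rows.s5202 K584.Hull.main K584.Supp.main K973.AlgMain.main A hA X g c V hV 𝓨 hY m hm F hFm hFc n hdepth

end Groth.Agent.S5202
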