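import Groth.Statements.S5203
import Groth.Agent.EtDepth.K176.Fin5203

set_option autoImplicit false
universe u
open CategoryTheory CategoryTheory.Limits AlgebraicGeometry Opposite TopologicalSpace
open EtDepth

namespace Groth.Agent.S5203

/-- Global Lefschetz comparison over a field of characteristic zero, for every open neighbourhood of Y
and a single constructible sheaf. Let k be a field of characteristic zero, X a proper k-scheme, U ⊆
X an open subset which is the union of c + 1 affine opens, Y a closed subscheme with underlying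
space X − U, m a prime power, F a constructible sheaf of Z/m-modules on the small étale site of X
and n ≥ 0 such that for every point u of U the étale depth of F at u is ≥ n − dim cl(u). Then for
every open neighbourhood W of Y in X the restriction map H^q(W, F|_W) → H^q(Y, F|_Y), along the
inclusion i : Y → W over X, is bijective for q < n − c − 1 and injective for q = n − c − 1. -/
theorem result (k : Type u) [Field k] [CharZero k] (X : Scheme.{u}) (f : X ⟶ Spec (CommRingCat.of k)) [IsProper f] (c : ℕ) (V : Fin (c + 1) → X.Opens) (hV : ∀ i, IsAffineOpen (V i)) (𝓨 : X.IdealSheafData) (hY : (𝓨.support : Set X) = (((⨆ i, V i) : X.Opens) : Set X)ᶜ) (m : ℕ) (hm : IsPrimePow m) (F : EtCoh.Ab X) (hFm : EtCoh.KilledBy m F) (hFc : EtPBC.IsConstructible F) (n : ℕ) (hdepth : ∀ u : X, u ∈ (⨆ i, V i) → ∀ d : ℕ, topologicalKrullDim ↥(closure ({u} : Set X)) = (d : WithBot ℕ∞) → EtDepth.DepthAtGE X F u (n - d)) : ∀ (W : X.Opens), (𝓨.support : Set X) ⊆ (W : Set X) → ∀ (i : 𝓨.subscheme ⟶ (W : Scheme.{u})) [EtCoh.BCCont i] [PreservesFiniteLimits (EtCoh.pull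 i)], i ≫ W.ι = 𝓨.subschemeι → (∀ q : ℕ, q + c + 1 < n → Function.Bijective (EtCore.Hpull i ((EtCoh.pull W.ι).obj F) q)) ∧ (∀ q : ℕ, q + c + 1 = n → Function.Injective (EtCore.Hpull i ((EtCoh.pull W.ι).obj F) q)) := by
  intro W hW i _ _ hi
  exact K176.Fin5203.main k X f c V hV 𝓨 hY m hm F hFm hFc n hdepth W hW i hi

end Groth.Agent.S5203
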