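import Groth.Statements.S5211
import Groth.Agent.DescCat.K184.Eff

set_option autoImplicit false
open CategoryTheory CategoryTheory.Limits
universe w v₁ u₁
open DescCat

namespace Groth.Agent.S5211

/-- In a category with pullbacks: if `f : S' ⟶ S` is a universal effective epimorphism and the canonical
map `S' ×_S S' ⟶ S' ×_T S'` induced by `g : S ⟶ T` is an isomorphism, then `g` is a monomorphism. -/
theorem result {C : Type u₁} [Category.{v₁} C] [HasPullbacks C]
    {S' S T : C} (f : S' ⟶ S) (hf : (MorphismProperty.universally (fun (A B : C) (p : A ⟶ B) => EffectiveEpi p)) f) (g : S ⟶ T)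
    [IsIso (pullback.mapDesc f f g)] : Mono g := by
  refine K184.DescCat.mono_of_lift hf g (fun {Z} a b hab => ?_)
  let l : Z ⟶ pullback (f ≫ g) (f ≫ g) := pullback.lift a b hab
  obtain ⟨l', hl⟩ : ∃ l' : Z ⟶ pullback f f, l' ≫ pullback.mapDesc f f g = l :=
    ⟨l ≫ inv (pullback.mapDesc f f g), by simp⟩
  have h1 : l' ≫ pullback.fst f f = a := by
    have h := congrArg (· ≫ pullback.fst _ _) hl

    rw [Category.assoc, pullback.lift_fst, pullback.lift_fst] at h
    simpa using h
  have h2 : l' ≫ pullback.snd f f = b := by
    have h := congrArg (· ≫ pullback.snd _ _) hl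

    rw [Category.assoc, pullback.lift_snd, pullback.lift_snd] at h
    simpa using h
  rw [← h1, ← h2, Category.assoc, Category.assoc, pullback.condition]

end Groth.Agent.S5211
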