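import Groth.Statements.S5213
import Mathlib.GroupTheory.CosetCover
import Mathlib.LinearAlgebra.TensorProduct.Basis
import Mathlib.LinearAlgebra.Determinant
import Mathlib.LinearAlgebra.Dimension.Constructions

set_option autoImplicit false
universe u
open GrpQ
open scoped TensorProduct

namespace Groth.Agent.S5213

/-- A module over a local ring with infinite residue field killed by the maximal ideal is infinite
or zero. -/
theorem eq_top_of_finiteIndex {B N : Type u} [CommRing B] [IsLocalRing B]
    [Infinite (IsLocalRing.ResidueField B)] [AddCommGroup N] [Module B N] (W : Submodule B N)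
    (hW : ∀ b ∈ IsLocalRing.maximalIdeal B, ∀ y : N, b • y ∈ W)
    (hfin : W.toAddSubgroup.FiniteIndex) : W = ⊤ := by
  by_contra hne
  have hfinQ : Finite (N ⧸ W) := AddSubgroup.finite_quotient_of_finiteIndex
  have hnt : Nontrivial (N ⧸ W) := Submodule.Quotient.nontrivial_iff.mpr hne
  obtain ⟨v, hv⟩ := exists_ne (0 : N ⧸ W)
  let φ : B →ₗ[B] N ⧸ W := LinearMap.toSpanSingleton B _ v
  have hker : LinearMap.ker φ = IsLocalRing.maximalIdeal B := by
    refine (IsLocalRing.eq_maximalIdeal ?_)
    rw [Ideal.isMaximal_iff]
    constructor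
    · intro h1
      rw [LinearMap.mem_ker] at h1
      exact hv (by simpa [φ] using h1)
    · intro J x hJ hx hxJ
      have hxu : IsUnit x := by
        by_contra hxu
        apply hx
        rw [LinearMap.mem_ker]
        obtain ⟨y, rfl⟩ := Submodule.Quotient.mk_surjective W v
        change x • (Submodule.Quotient.mk (p := W) y) = 0
        rw [← Submodule.Quotient.mk_smul, Submodule.Quotient.mk_eq_zero]
        exact hW x hxu y
      exact (Ideal.eq_top_of_isUnit_mem _ hxJ hxu) ▸ Submodule.mem_top
  have hfinB : Finite (B ⧸ LinearMap.ker φ) :=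
    Finite.of_injective ((LinearMap.ker φ).liftQ φ le_rfl)
      (LinearMap.ker_eq_bot.1 (Submodule.ker_liftQ_eq_bot _ _ _ le_rfl))
  rw [hker] at hfinB
  have : Finite (IsLocalRing.ResidueField B) := hfinB
  exact not_finite (IsLocalRing.ResidueField B)

/-- Let `B` be a local ring with infinite residue field, `A` a semi-local ring, `B → A` a ring map
carrying the maximal ideal of `B` into the Jacobson radical of `A`, `M` a finite free `A`-module and
`N` a `B`-submodule of `M` generating `M` as an `A`-module. Then `N` contains a basis of `M` over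
`A`. -/
theorem result {B A M : Type u} [CommRing B] [CommRing A]
    [IsLocalRing B] [Infinite (IsLocalRing.ResidueField B)] [Algebra B A]
    [Finite (MaximalSpectrum A)]
    (hBA : (IsLocalRing.maximalIdeal B).map (algebraMap B A) ≤ (⊥ : Ideal A).jacobson)
    [AddCommGroup M] [Module A M] [Module B M] [IsScalarTower B A M]
    [Module.Free A M] [Module.Finite A M]
    (N : Submodule B M) (hN : Submodule.span A (N : Set M) = ⊤) :
    ∃ b : Module.Basis (Fin (Module.finrank A M)) A M, ∀ i, b i ∈ N := by
  classical
  rcases subsingleton_or_nontrivial A with hA | hA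
  · have : Subsingleton M := Module.subsingleton A M
    refine ⟨⟨0⟩, fun i => ?_⟩
    rw [Subsingleton.elim ((⟨0⟩ : Module.Basis (Fin (Module.finrank A M)) A M) i) 0]
    exact N.zero_mem
  let e := Module.finBasis A M
  have hmax : ∀ (m : MaximalSpectrum A) (b : B), b ∈ IsLocalRing.maximalIdeal B →
      algebraMap B A b ∈ m.asIdeal := by
    intro m b hb
    have h1 : algebraMap B A b ∈ (⊥ : Ideal A).jacobson := hBA (Ideal.mem_map_of_mem _ hb)
    rw [Ideal.jacobson, Ideal.mem_sInf] at h1
    exact h1 ⟨bot_le, m.isMaximal⟩
  have key : ∀ j ≤ Module.finrank A M, ∃ x : Fin j → M, (∀ i, x i ∈ N) ∧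
      ∀ m : MaximalSpectrum A, LinearIndependent (A ⧸ m.asIdeal)
        (fun i => (1 : A ⧸ m.asIdeal) ⊗ₜ[A] x i) := by
    intro j
    induction j with
    | zero => exact fun _ => ⟨Fin.elim0, fun i => i.elim0, fun m => linearIndependent_empty_type⟩
    | succ j ih =>
      intro hj
      obtain ⟨x, hxN, hx⟩ := ih (Nat.le_of_succ_le hj)
      -- the bad submodules
      let π : ∀ m : MaximalSpectrum A, M →ₗ[A] (A ⧸ m.asIdeal) ⊗[A] M := fun m =>
        TensorProduct.mk A (A ⧸ m.asIdeal) M 1
      let S : ∀ m : MaximalSpectrum A, Submodule (A ⧸ m.asIdeal) ((A ⧸ m.asIdeal) ⊗[A] M) :=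
        fun m => Submodule.span (A ⧸ m.asIdeal) (Set.range fun i => (1 : A ⧸ m.asIdeal) ⊗ₜ[A] x i)
      let W : MaximalSpectrum A → Submodule B N := fun m =>
        (((S m).restrictScalars A).comap (π m)).restrictScalars B |>.comap N.subtype
      have hWtop : ∀ m, W m ≠ ⊤ := by
        intro m hm
        letI := Ideal.Quotient.field m.asIdeal
        have h1 : (N : Set M) ⊆ ((S m).restrictScalars A).comap (π m) := by
          intro y hy
          have : (⟨y, hy⟩ : N) ∈ W m := by rw [hm]; trivial
          exact this
        have h2 : (⊤ : Submodule A M) ≤ ((S m).restrictScalars A).comap (π m) := by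
          rw [← hN]; exact Submodule.span_le.2 h1
        have h3 : S m = ⊤ := by
          rw [eq_top_iff]
          rintro y -
          induction y using TensorProduct.induction_on with
          | zero => exact Submodule.zero_mem _
          | tmul a y =>
            have : a ⊗ₜ[A] y = a • ((1 : A ⧸ m.asIdeal) ⊗ₜ[A] y) := by
              rw [TensorProduct.smul_tmul', smul_eq_mul, mul_one]
            rw [this]
            exact Submodule.smul_mem _ _ (h2 (Submodule.mem_top : y ∈ ⊤))
          | add y z hy hz => exact Submodule.add_mem _ hy hz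
        have h4 : Module.finrank (A ⧸ m.asIdeal) ((A ⧸ m.asIdeal) ⊗[A] M) ≤ j := by
          have := finrank_range_le_card (R := A ⧸ m.asIdeal)
            (b := fun i : Fin j => (1 : A ⧸ m.asIdeal) ⊗ₜ[A] x i)
          rw [Set.finrank] at this
          change Module.finrank (A ⧸ m.asIdeal) (S m) ≤ _ at this
          rw [h3, finrank_top, Fintype.card_fin] at this
          exact this
        rw [Module.finrank_baseChange] at h4
        omega
      have hWsmul : ∀ m, ∀ b ∈ IsLocalRing.maximalIdeal B, ∀ y : N, b • y ∈ W m := by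
        intro m b hb y
        change π m (b • (y : M)) ∈ S m
        rw [← IsScalarTower.algebraMap_smul A b (y : M), map_smul]
        have : (algebraMap B A b) • (π m (y : M)) = 0 := by
          change (algebraMap B A b) • ((1 : A ⧸ m.asIdeal) ⊗ₜ[A] (y : M)) = 0
          rw [TensorProduct.smul_tmul', ← Algebra.algebraMap_eq_smul_one]
          have : algebraMap A (A ⧸ m.asIdeal) (algebraMap B A b) = 0 :=
            Ideal.Quotient.eq_zero_iff_mem.2 (hmax m b hb)
          rw [this, TensorProduct.zero_tmul]
        rw [this]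
        exact Submodule.zero_mem _
      have hex : ∃ y : N, ∀ m, y ∉ W m := by
        by_contra hcon
        push Not at hcon
        have := Fintype.ofFinite (MaximalSpectrum A)
        obtain ⟨m, -, hm⟩ := Submodule.exists_finiteIndex_of_cover (p := W) (s := Finset.univ)
          (by
            rw [Set.eq_univ_iff_forall]
            intro y
            obtain ⟨m, hm⟩ := hcon y
            simp only [Set.mem_iUnion]
            exact ⟨m, Finset.mem_univ _, hm⟩)
        exact hWtop m (eq_top_of_finiteIndex (W m) (hWsmul m) hm)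
      obtain ⟨y, hy⟩ := hex
      refine ⟨Fin.snoc x (y : M), ?_, fun m => ?_⟩
      · intro i
        refine Fin.lastCases ?_ (fun i => ?_) i
        · simp
        · simpa using hxN i
      · letI := Ideal.Quotient.field m.asIdeal
        have : (fun i => (1 : A ⧸ m.asIdeal) ⊗ₜ[A] (Fin.snoc x (y : M) : Fin (j + 1) → M) i) =
            Fin.snoc (fun i => (1 : A ⧸ m.asIdeal) ⊗ₜ[A] x i) ((1 : A ⧸ m.asIdeal) ⊗ₜ[A] (y : M)) := by
          funext i
          refine Fin.lastCases ?_ (fun i => ?_) i <;> simp
        rw [this, linearIndependent_finSnoc]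
        exact ⟨hx m, hy m⟩
  obtain ⟨x, hxN, hx⟩ := key _ le_rfl
  have hunit : IsUnit (e.det x) := by
    by_contra hu
    obtain ⟨m, hm, hmem⟩ := exists_max_ideal_of_mem_nonunits hu
    let m' : MaximalSpectrum A := ⟨m, hm⟩
    letI := Ideal.Quotient.field m
    have h1 : (e.baseChange (A ⧸ m)).det (fun i => (1 : A ⧸ m) ⊗ₜ[A] x i) =
        Ideal.Quotient.mk m (e.det x) := by
      rw [Module.Basis.det_apply, Module.Basis.det_apply, RingHom.map_det]
      congr 1
      ext i k
      simp only [Module.Basis.toMatrix_apply, RingHom.mapMatrix_apply, Matrix.map_apply,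
        Module.Basis.baseChange_repr_tmul]
      rw [← Algebra.algebraMap_eq_smul_one]
      rfl
    have h2 : Ideal.Quotient.mk m (e.det x) = 0 := Ideal.Quotient.eq_zero_iff_mem.2 hmem
    have h3 : IsUnit ((e.baseChange (A ⧸ m)).det (fun i => (1 : A ⧸ m) ⊗ₜ[A] x i)) := by
      rw [← Module.Basis.is_basis_iff_det]
      refine ⟨hx m', ?_⟩
      refine (hx m').span_eq_top_of_card_eq_finrank' ?_
      rw [Fintype.card_fin, Module.finrank_baseChange]
    rw [h1, h2] at h3
    exact not_isUnit_zero h3
  obtain ⟨hli, hsp⟩ := e.is_basis_iff_det.2 hunit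
  refine ⟨Module.Basis.mk hli hsp.ge, fun i => ?_⟩
  rw [Module.Basis.mk_apply]
  exact hxN i

end Groth.Agent.S5213
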