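import Groth.Statements.S5221
import Groth.Agent.S5220

set_option autoImplicit false
open CategoryTheory CategoryTheory.Limits
universe w v₁ u₁
open GrpQ

namespace Groth.Agent.S5221

/-- Existence part: in a category with pullbacks: with `d₀ d₁ : X₁ ⇉ X₀` admitting a common section and
`f₀ : Y₀ ⟶ X₀` an effective and universal epimorphism, the pair `(d₀, d₁)` has a coequalizer if and
only if its inverse-image pair on `Y₀` has one. -/
theorem result {C : Type u₁} [Category.{v₁} C] [HasPullbacks C]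
    {X₁ X₀ Y₀ : C} (d₀ d₁ : X₁ ⟶ X₀) (s : X₀ ⟶ X₁) (hs₀ : s ≫ d₀ = 𝟙 X₀) (hs₁ : s ≫ d₁ = 𝟙 X₀)
    (f₀ : Y₀ ⟶ X₀) [EffectiveEpi f₀]
    (hf : MorphismProperty.universally (MorphismProperty.epimorphisms C) f₀) :
    HasCoequalizer d₁ d₀ ↔
      HasCoequalizer (pullback.fst (pullback.snd f₀ d₁ ≫ d₀) f₀ ≫ pullback.fst f₀ d₁)
        (pullback.snd (pullback.snd f₀ d₁ ≫ d₀) f₀) := by
  have e1 : Epi (pullback.snd f₀ d₁) := hf _ _ _ (IsPullback.of_hasPullback f₀ d₁).flip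
  have e2 : Epi (pullback.fst (pullback.snd f₀ d₁ ≫ d₀) f₀) :=
    hf _ _ _ (IsPullback.of_hasPullback (pullback.snd f₀ d₁ ≫ d₀) f₀)
  have key : ∀ {T : C} (h : X₀ ⟶ T), d₁ ≫ h = d₀ ≫ h →
      (pullback.fst (pullback.snd f₀ d₁ ≫ d₀) f₀ ≫ pullback.fst f₀ d₁) ≫ (f₀ ≫ h) =
        pullback.snd (pullback.snd f₀ d₁ ≫ d₀) f₀ ≫ (f₀ ≫ h) := by
    intro T h hh
    have a1 : pullback.fst f₀ d₁ ≫ f₀ ≫ h = pullback.snd f₀ d₁ ≫ d₀ ≫ h := by
      rw [← Category.assoc, pullback.condition, Category.assoc, hh]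
    rw [← Category.assoc (pullback.snd (pullback.snd f₀ d₁ ≫ d₀) f₀), ← pullback.condition,
      Category.assoc, a1]
    simp only [Category.assoc]
  constructor
  · intro H
    have w := key (coequalizer.π d₁ d₀) (coequalizer.condition d₁ d₀)
    refine ⟨⟨⟨Cofork.ofπ (f₀ ≫ coequalizer.π d₁ d₀) w, ?_⟩⟩⟩
    refine Cofork.IsColimit.mk' _ fun c => ?_
    have hex := Groth.Agent.S5220.result d₀ d₁ s hs₀ hs₁ f₀ hf c.π c.condition
    let h := hex.choose
    have hh₁ : d₁ ≫ h = d₀ ≫ h := hex.choose_spec.1.1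
    have hh₂ : f₀ ≫ h = c.π := hex.choose_spec.1.2
    refine ⟨coequalizer.desc h hh₁, ?_, ?_⟩
    · change (f₀ ≫ coequalizer.π d₁ d₀) ≫ coequalizer.desc h hh₁ = c.π
      rw [Category.assoc, coequalizer.π_desc, hh₂]
    · intro m hm
      replace hm : (f₀ ≫ coequalizer.π d₁ d₀) ≫ m = c.π := hm
      have : Epi f₀ := inferInstance
      refine coequalizer.hom_ext (f := d₁) (g := d₀) (k := m) (l := coequalizer.desc h hh₁) ?_
      rw [coequalizer.π_desc, ← cancel_epi f₀, ← Category.assoc, hm, hh₂]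
  · intro H
    obtain ⟨q, hq⟩ : ∃ q, q = coequalizer.π
        (pullback.fst (pullback.snd f₀ d₁ ≫ d₀) f₀ ≫ pullback.fst f₀ d₁)
        (pullback.snd (pullback.snd f₀ d₁ ≫ d₀) f₀) := ⟨_, rfl⟩
    have hqc := coequalizer.condition
        (pullback.fst (pullback.snd f₀ d₁ ≫ d₀) f₀ ≫ pullback.fst f₀ d₁)
        (pullback.snd (pullback.snd f₀ d₁ ≫ d₀) f₀)
    obtain ⟨h, ⟨hh₁, hh₂⟩, -⟩ := Groth.Agent.S5220.result d₀ d₁ s hs₀ hs₁ f₀ hf q (by
      rw [hq]; exact hqc)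
    refine ⟨⟨⟨Cofork.ofπ h hh₁, ?_⟩⟩⟩
    refine Cofork.IsColimit.mk' _ fun c => ?_
    have hc := key c.π c.condition
    refine ⟨coequalizer.desc (f₀ ≫ c.π) hc, ?_, ?_⟩
    · change h ≫ coequalizer.desc (f₀ ≫ c.π) hc = c.π
      have : Epi f₀ := inferInstance
      rw [← cancel_epi f₀, ← Category.assoc, hh₂, hq, coequalizer.π_desc]
    · intro m hm
      replace hm : h ≫ m = c.π := hm
      refine coequalizer.hom_ext
        (f := pullback.fst (pullback.snd f₀ d₁ ≫ d₀) f₀ ≫ pullback.fst f₀ d₁)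
        (g := pullback.snd (pullback.snd f₀ d₁ ≫ d₀) f₀)
        (k := m) (l := coequalizer.desc (f₀ ≫ c.π) hc) ?_
      rw [coequalizer.π_desc, ← hq, ← hh₂, Category.assoc, hm]

end Groth.Agent.S5221
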