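import Groth.Statements.S5222
import Groth.Agent.DescCat.K184.Eff
import Mathlib.CategoryTheory.Monoidal.Cartesian.Grp

set_option autoImplicit false
open CategoryTheory CategoryTheory.Limits MonoidalCategory
universe v₁ u₁
open DescCat

namespace Groth.Agent.S5222

open MonObj CartesianMonoidalCategory SemiCartesianMonoidalCategory in
/-- In a cartesian monoidal category with pullbacks: for a homomorphism `f : G ⟶ G'` of group objects
with kernel `K = G ×_{G'} e`, the pair `G × K ⇉ G` given by the projection and by multiplication is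
the kernel pair of `f`. -/
theorem result {C : Type u₁} [Category.{v₁} C]
    [CartesianMonoidalCategory C] [HasPullbacks C]
    {G G' : C} [GrpObj G] [GrpObj G'] (f : G ⟶ G') [IsMonHom f] :
    IsKernelPair f (fst G (pullback f η[G']))
      ((G ◁ pullback.fst f η[G']) ≫ μ[G]) := by
  have key : ∀ {T : C} (l : T ⟶ G ⊗ pullback f η[G']),
      l ≫ ((G ◁ pullback.fst f η[G']) ≫ μ[G]) =
        (l ≫ fst _ _) * ((l ≫ snd _ _) ≫ pullback.fst f η[G']) := by
    intro T l
    rw [Hom.mul_def, ← Category.assoc]
    congr 1
    apply CartesianMonoidalCategory.hom_ext <;> simp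
  have hker : ∀ {T : C} (k : T ⟶ pullback f η[G']), (k ≫ pullback.fst f η[G']) ≫ f = 1 := by
    intro T k
    rw [Category.assoc, pullback.condition, Hom.one_def, ← Category.assoc]
    congr 1
    exact toUnit_unique _ _
  refine K184.DescCat.isPullback_mk ?_ (fun {T} a b hab => ?_) (fun {T} l l' h1 h2 => ?_)
  · have h := key (𝟙 (G ⊗ pullback f η[G']))
    rw [Category.id_comp, Category.id_comp, Category.id_comp] at h
    rw [h, MonObj.mul_comp, hker]
    exact (_root_.mul_one _).symm
  · have hb : (a⁻¹ * b) ≫ f = 1 := by
      rw [MonObj.mul_comp, GrpObj.inv_comp, hab, inv_mul_cancel]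
    refine ⟨CartesianMonoidalCategory.lift a (pullback.lift (a⁻¹ * b) (toUnit _) (by rw [hb, Hom.one_def])), ?_, ?_⟩
    · simp
    · rw [key, CartesianMonoidalCategory.lift_fst, CartesianMonoidalCategory.lift_snd,
        pullback.lift_fst, mul_inv_cancel_left]
  · rw [key, key, h1] at h2
    have h3 := mul_left_cancel h2
    apply CartesianMonoidalCategory.hom_ext
    · exact h1
    · apply pullback.hom_ext
      · exact h3
      · exact toUnit_unique _ _

end Groth.Agent.S5222
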