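import Groth.Statements.S5224
import Groth.Agent.GrpQ.K185.QuotProp

set_option autoImplicit false
set_option backward.isDefEq.respectTransparency.types false
open CategoryTheory CategoryTheory.Limits AlgebraicGeometry
universe u
open GrpQ
open scoped K185

namespace Groth.Agent.S5224

/-- For the fppf topology: let `s, t : R ⇉ U` be an equivalence relation of schemes over `S` with `s`
faithfully flat and locally of finite presentation. A morphism `q : U ⟶ Y` over `S` is a faithfully
flat, locally finitely presented quotient with kernel pair `R` if and only if `q` identifies `h_Y`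
with the fppf quotient sheaf `U/R`. -/
theorem result {S : Scheme.{u}} {R U Y : Over S} (s t : R ⟶ U)
    [IsEquivalenceRelation s t]
    [Flat s.left] [Surjective s.left] [LocallyOfFinitePresentation s.left]
    (q : U ⟶ Y) :
    (IsKernelPair q s t ∧ Flat q.left ∧ Surjective q.left ∧ LocallyOfFinitePresentation q.left) ↔
      QuotSh.IsQuotient Scheme.fppfPrecoverage s t q := by
  rw [K185.IsQuot.isQuotient_iff]
  constructor
  · rintro ⟨h, h1, h2, h3⟩
    exact ⟨h, K185.Cover.locSurj_of_singleton q (Scheme.Hom.singleton_mem_fppfPrecoverage q.left)⟩
  · rintro ⟨h, hl⟩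
    have := K185.QuotProp.flat_descends.{u}
    have hl' := K185.QuotProp.LocSurj.of_le Scheme.fppfPrecoverage_le_fpqcPrecoverage hl
    exact ⟨h, K185.QuotProp.prop_of_isKernelPair @Flat h hl' inferInstance,
      K185.QuotProp.prop_of_isKernelPair @Surjective h hl' inferInstance,
      K185.QuotProp.prop_of_isKernelPair @LocallyOfFinitePresentation h hl' inferInstance⟩

end Groth.Agent.S5224
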