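import Groth.Statements.S5225
import Groth.Agent.GrpQ.K185.QuotProp

set_option autoImplicit false
set_option backward.isDefEq.respectTransparency.types false
open CategoryTheory CategoryTheory.Limits AlgebraicGeometry
universe u
open GrpQ
open scoped K185

namespace Groth.Agent.S5225

/-- For the étale topology: let `s, t : R ⇉ U` be an equivalence relation of schemes over `S` with `s`
étale and surjective. A morphism `q : U ⟶ Y` over `S` is an étale surjective quotient with kernel
pair `R` if and only if `q` identifies `h_Y` with the étale quotient sheaf `U/R`. -/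
theorem result {S : Scheme.{u}} {R U Y : Over S} (s t : R ⟶ U)
    [IsEquivalenceRelation s t] [Etale s.left] [Surjective s.left]
    (q : U ⟶ Y) :
    (IsKernelPair q s t ∧ Etale q.left ∧ Surjective q.left) ↔
      QuotSh.IsQuotient Scheme.etalePrecoverage s t q := by
  rw [K185.IsQuot.isQuotient_iff]
  constructor
  · rintro ⟨h, h1, h2⟩
    refine ⟨h, K185.Cover.locSurj_of_singleton q ?_⟩
    exact (Scheme.singleton_mem_precoverage_iff (P := @Etale) q.left).2 ⟨q.left.surjective, h1⟩
  · rintro ⟨h, hl⟩
    have hl' := K185.QuotProp.LocSurj.of_le
      (K185.etalePrecoverage_le_fppfPrecoverage.trans Scheme.fppfPrecoverage_le_fpqcPrecoverage) hl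
    exact ⟨h, K185.QuotProp.prop_of_isKernelPair @Etale h hl' inferInstance,
      K185.QuotProp.prop_of_isKernelPair @Surjective h hl' inferInstance⟩

end Groth.Agent.S5225
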