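import Groth.Statements.S5226
import Groth.Agent.ShfCat.K186.Exact
import Groth.Agent.ShfCat.K186.ExactSheaf

set_option autoImplicit false
open CategoryTheory CategoryTheory.Limits
universe w v₁ u₁
open ShfCat

namespace Groth.Agent.S5226

/-- For sheaves of sets on a site with sheafification: if `R ⇉ X` is an equivalence relation with
(universally effective) quotient `X/R` and `Y ⊆ X` is a subsheaf with induced relation `R_Y`, then
the canonical map `Y/R_Y ⟶ X/R` is a monomorphism. Here `R_Y` is built as the iterated pullback of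
`R` along `Y ⟶ X` on both sides. -/
theorem result {C : Type u₁} [Category.{v₁} C]
    (J : GrothendieckTopology C) [HasSheafify J (Type w)]
    {R X Y : Sheaf J (Type w)} {p₁ p₂ : R ⟶ X} (e : UniversallyEffectiveEquivalenceRelation p₁ p₂)
    (ι : Y ⟶ X) [Mono ι]
    [HasCoequalizer (pullback.fst (pullback.fst p₁ ι ≫ p₂) ι ≫ pullback.snd p₁ ι)
      (pullback.snd (pullback.fst p₁ ι ≫ p₂) ι)]
    (g : coequalizer (pullback.fst (pullback.fst p₁ ι ≫ p₂) ι ≫ pullback.snd p₁ ι)
      (pullback.snd (pullback.fst p₁ ι ≫ p₂) ι) ⟶ e.B)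
    (hg : coequalizer.π _ _ ≫ g = ι ≫ e.π) :
    Mono g := by
  refine K186.Exact.mono_of_quotient (coequalizer.π _ _) g ?_
  intro T a b hab
  rw [hg, ← Category.assoc, ← Category.assoc] at hab
  let r : T ⟶ R := e.isKernelPair.lift (a ≫ ι) (b ≫ ι) hab
  have h₁ : r ≫ p₁ = a ≫ ι := e.isKernelPair.lift_fst _ _ _
  have h₂ : r ≫ p₂ = b ≫ ι := e.isKernelPair.lift_snd _ _ _
  let s : T ⟶ pullback p₁ ι := pullback.lift r a h₁
  have h₃ : s ≫ pullback.fst p₁ ι ≫ p₂ = b ≫ ι := by
    rw [pullback.lift_fst_assoc, h₂]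
  let t : T ⟶ pullback (pullback.fst p₁ ι ≫ p₂) ι := pullback.lift s b h₃
  have h₄ := t ≫= coequalizer.condition
    (pullback.fst (pullback.fst p₁ ι ≫ p₂) ι ≫ pullback.snd p₁ ι)
    (pullback.snd (pullback.fst p₁ ι ≫ p₂) ι)
  rw [Category.assoc, pullback.lift_fst_assoc, pullback.lift_snd_assoc,
    pullback.lift_snd_assoc] at h₄
  exact h₄

end Groth.Agent.S5226
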