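import Groth.Statements.S5231
import Mathlib.CategoryTheory.Sites.Limits
import Mathlib.CategoryTheory.Limits.Types.Pullbacks

set_option autoImplicit false
open CategoryTheory
universe w v₁ u₁
open ShfCat

namespace Groth.Agent.S5231

/-- (iii) ⇒ (i): a morphism `f` of sheaves of sets on a site is a monomorphism (resp. an epimorphism) as
soon as, for every object `S`, the morphisms `T ⟶ S` over which the restriction of `f` to the
induced site `C/T` is a monomorphism (resp. an epimorphism) form a covering sieve. No sheafification
is assumed. (The published statement also treats isomorphisms in the same way; that case is left out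
here.) -/
theorem result {C : Type u₁} [Category.{v₁} C]
    (J : GrothendieckTopology C) {F G : Sheaf J (Type w)} (f : F ⟶ G) :
    ((∀ S : C, ∃ R : Sieve S, R ∈ J S ∧ ∀ ⦃T : C⦄ (g : T ⟶ S), R g →
        Mono ((J.overPullback (Type w) T).map f)) → Mono f) ∧
    ((∀ S : C, ∃ R : Sieve S, R ∈ J S ∧ ∀ ⦃T : C⦄ (g : T ⟶ S), R g →
        Epi ((J.overPullback (Type w) T).map f)) → Epi f) := by
  refine ⟨fun H => ?_, fun H => ?_⟩
  · -- injectivity on sections
    have hinj : ∀ (S : C) (x y : F.obj.obj (Opposite.op S)),
        f.hom.app _ x = f.hom.app _ y → x = y := by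
      intro S x y hxy
      obtain ⟨R, hR, hg⟩ := H S
      apply (((isSheaf_iff_isSheaf_of_type _ _).1 F.property).isSeparated R hR).ext
      intro T g hgR
      have := hg g hgR
      have h₁ : Mono ((sheafToPresheaf (J.over T) (Type w)).map ((J.overPullback (Type w) T).map f)) :=
        inferInstance
      have h₂ : Mono (((sheafToPresheaf (J.over T) (Type w)).map
        ((J.overPullback (Type w) T).map f)).app (Opposite.op (Over.mk (𝟙 T)))) := inferInstance
      rw [mono_iff_injective] at h₂
      apply h₂
      change f.hom.app _ (F.obj.map g.op x) = f.hom.app _ (F.obj.map g.op y)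
      rw [NatTrans.naturality_apply, NatTrans.naturality_apply, hxy]
    have : ∀ U, Mono (f.hom.app U) := fun U =>
      (mono_iff_injective _).2 fun x y h => hinj U.unop x y h
    have : Mono ((sheafToPresheaf J (Type w)).map f) := NatTrans.mono_of_mono_app f.hom
    exact (sheafToPresheaf J (Type w)).mono_of_mono_map this
  · constructor
    intro Z h₁ h₂ h
    ext U x
    obtain ⟨R, hR, hg⟩ := H U.unop
    apply (((isSheaf_iff_isSheaf_of_type _ _).1 Z.property).isSeparated R hR).ext
    intro T g hgR
    have := hg g hgR
    have h₃ : (J.overPullback (Type w) T).map h₁ = (J.overPullback (Type w) T).map h₂ := by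
      rw [← cancel_epi ((J.overPullback (Type w) T).map f), ← Functor.map_comp,
        ← Functor.map_comp, h]
    have h₄ := ConcreteCategory.congr_hom (NatTrans.congr_app
      (congr_arg (sheafToPresheaf (J.over T) (Type w)).map h₃)
      (Opposite.op (Over.mk (𝟙 T)))) (G.obj.map g.op x)
    have h₅ : h₁.hom.app _ (G.obj.map g.op x) = h₂.hom.app _ (G.obj.map g.op x) := h₄
    rw [NatTrans.naturality_apply, NatTrans.naturality_apply] at h₅
    exact h₅

end Groth.Agent.S5231
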