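import Groth.Statements.S5233
import Groth.Agent.GrpQ.K185.SubBij

set_option autoImplicit false
open CategoryTheory CategoryTheory.Limits AlgebraicGeometry
universe u
open GrpQ

namespace Groth.Agent.S5233

/-- For schemes, with (M) the faithfully flat quasi-compact morphisms and (N) the closed immersions: if
`π : X ⟶ X'` is flat, surjective and quasi-compact (so `X' = X/R` for its kernel pair `R ⇉ X`), then
`Y' ↦ π⁻¹(Y')` is a bijection from closed subschemes of `X'` onto the closed subschemes of `X`
stable under `R`. -/
theorem result {X X' : Scheme.{u}} (π : X ⟶ X')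
    [Flat π] [Surjective π] [QuasiCompact π] :
    Set.BijOn (Subobject.pullback π).obj
      {Y' : Subobject X' | IsClosedImmersion Y'.arrow}
      {Y : Subobject X | IsClosedImmersion Y.arrow ∧
        (Subobject.pullback (pullback.fst π π)).obj Y = (Subobject.pullback (pullback.snd π π)).obj Y} := by
  refine ⟨fun Y' (hY' : IsClosedImmersion Y'.arrow) => ⟨?_, K185.SubDesc.pullback_stable π Y'⟩,
    (K185.SubDesc.subobject_pullback_injective π).injOn, ?_⟩
  · exact MorphismProperty.of_isPullback (P := @IsClosedImmersion) (Subobject.isPullback π Y') hY'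
  · rintro Y ⟨hY : IsClosedImmersion Y.arrow, hst⟩
    rw [K185.SubDesc.stable_iff] at hst
    obtain ⟨Z, z, hz, h⟩ := K185.SubDesc.exists_closed
      (K185.SubDesc.isFpqcLocal_famQ (ι := PUnit.{u + 1}) (fun _ => π) fun _ => Y.arrow) _
      (K185.SubDesc.ofArrows_punit_mem π)
      fun i => ⟨_, Y.arrow, hY, fun T x => K185.SubDesc.famQ_iff hst (i := i) x⟩
    refine ⟨Subobject.mk z, ?_, K185.SubDesc.exists_subobject π z hst h⟩
    change IsClosedImmersion (Subobject.mk z).arrow
    rw [← Subobject.underlyingIso_hom_comp_eq_mk]
    infer_instance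

end Groth.Agent.S5233
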