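import Groth.Statements.S5234
import Groth.Agent.Flat2F.FlatComp
import Groth.Agent.Etbase.FpqcDescent

set_option autoImplicit false
open CategoryTheory CategoryTheory.Limits AlgebraicGeometry MonoidalCategory
universe u
open RedSub

namespace Groth.Agent.S5234

open CartesianMonoidalCategory SemiCartesianMonoidalCategory in
/-- (ii) ⇔ (iii), for schemes with the fppf topology: let `G` be an `S`-group scheme which is faithfully
flat and locally of finite presentation over `S`, acting on `X` so that `X` is formally principal
homogeneous. Then `X` is a torsor (its structure map is faithfully flat and locally of finite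
presentation) if and only if `X` has a point over some faithfully flat, locally finitely presented
`S' ⟶ S`. -/
theorem result {S : Scheme.{u}} {G X : Over S} [GrpObj G]
    (a : AlgGrp.Action G X)
    [Flat G.hom] [Surjective G.hom] [LocallyOfFinitePresentation G.hom]
    (hX : IsIso (lift a.act (snd G X))) :
    RedSub.IsTorsor a ↔
      ∃ S' : Over S, Surjective S'.hom ∧ Flat S'.hom ∧ LocallyOfFinitePresentation S'.hom ∧
        Nonempty (S' ⟶ X) := by
  constructor
  · rintro ⟨h1, h2, h3, -⟩
    exact ⟨X, h1, h2, h3, ⟨𝟙 X⟩⟩
  · rintro ⟨S', h1, h2, h3, ⟨p⟩⟩
    -- `X ×_S S' ≅ G ×_S S'`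
    have hsurj : Surjective X.hom := by
      have : Surjective (p.left ≫ X.hom) := by rw [Over.w]; exact h1
      exact Surjective.of_comp p.left X.hom
    -- the isomorphism
    let φ : G ⊗ X ⟶ X ⊗ X := lift a.act (snd G X)
    have hφ : φ ≫ snd X X = snd G X := lift_snd _ _
    have key : ∀ (P : MorphismProperty Scheme.{u}) [P.IsStableUnderBaseChange], P G.hom →
        P (snd X S').left := by
      intro P _ hG
      have h4 : P (snd X X).left := by
        have h2 : P (snd G X).left := P.pullback_snd _ _ hG
        have h3 : φ.left ≫ (snd X X).left = (snd G X).left := by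
          rw [← Over.comp_left, hφ]
        rw [← h3] at h2
        have h4 : IsIso φ.left :=
          inferInstanceAs (IsIso ((Over.forget S).map (lift a.act (snd G X))))
        exact (P.cancel_left_of_respectsIso _ _).1 h2
      -- `snd X S'` is the base change of `snd X X` along `p`
      have h5 : IsPullback (X ◁ p) (snd X S') (snd X X) p := by
        refine ⟨⟨by simp⟩, ⟨PullbackCone.IsLimit.mk _ (fun s => lift (s.fst ≫ fst X X) s.snd) ?_ ?_ ?_⟩⟩
        · intro s
          ext1
          · simp
          · have := s.condition
            simp [this]
        · intro s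
          simp
        · intro s m hm1 hm2
          ext1
          · rw [lift_fst, ← hm1]; simp
          · rw [lift_snd]; exact hm2
      have h6 := h5.map (Over.forget S)
      exact MorphismProperty.of_isPullback h6 h4
    have k1 : Flat (snd X S').left := key @Flat inferInstance
    have k2 : LocallyOfFinitePresentation (snd X S').left := key @LocallyOfFinitePresentation inferInstance
    refine ⟨hsurj, ?_, ?_, hX⟩
    · have e1 : Flat ((snd X S').left ≫ S'.hom) := inferInstance
      have e2 : (snd X S').left ≫ S'.hom = (fst X S').left ≫ X.hom := by
        rw [Over.w, Over.w]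
      have e3 : Flat (fst X S').left := MorphismProperty.pullback_fst (P := @Flat) _ _ h2
      have e4 : Surjective (fst X S').left := MorphismProperty.pullback_fst (P := @Surjective) _ _ h1
      rw [e2] at e1
      exact Groth.Agent.Flat2F.FlatComp.flat_of_flat_comp_of_flat_surjective (fst X S').left X.hom
    · exact MorphismProperty.of_pullback_snd_of_descendsAlong (P := @LocallyOfFinitePresentation)
        (Q := @Surjective ⊓ @Flat ⊓ @LocallyOfFinitePresentation) (f := X.hom) (g := S'.hom)
        ⟨⟨h1, h2⟩, h3⟩ k2

end Groth.Agent.S5234
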