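import Groth.Statements.S5235
import Groth.Agent.GrpQ.K185.SubBij
import Groth.Agent.GrpQ.K185.OpenDesc

set_option autoImplicit false
open CategoryTheory CategoryTheory.Limits AlgebraicGeometry
universe u
open GrpQ

namespace Groth.Agent.S5235

/-- For schemes, with (M) the faithfully flat quasi-compact morphisms and (N) the open immersions: if `π
: X ⟶ X'` is flat, surjective and quasi-compact, then `Y' ↦ π⁻¹(Y')` is a bijection from open
subschemes of `X'` onto the open subschemes of `X` stable under the kernel pair of `π`. -/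
theorem result {X X' : Scheme.{u}} (π : X ⟶ X')
    [Flat π] [Surjective π] [QuasiCompact π] :
    Set.BijOn (Subobject.pullback π).obj
      {Y' : Subobject X' | IsOpenImmersion Y'.arrow}
      {Y : Subobject X | IsOpenImmersion Y.arrow ∧
        (Subobject.pullback (pullback.fst π π)).obj Y = (Subobject.pullback (pullback.snd π π)).obj Y} := by
  refine ⟨fun Y' (hY' : IsOpenImmersion Y'.arrow) => ⟨?_, K185.SubDesc.pullback_stable π Y'⟩,
    (K185.SubDesc.subobject_pullback_injective π).injOn, ?_⟩
  · exact MorphismProperty.of_isPullback (P := @IsOpenImmersion) (Subobject.isPullback π Y') hY'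
  · rintro Y ⟨hY : IsOpenImmersion Y.arrow, hst⟩
    rw [K185.SubDesc.stable_iff] at hst
    obtain ⟨O, h⟩ := K185.SubDesc.exists_open
      (K185.SubDesc.isFpqcLocal_famQ (ι := PUnit.{u + 1}) (fun _ => π) fun _ => Y.arrow) _
      (K185.SubDesc.ofArrows_punit_mem π)
      fun i => ⟨_, Y.arrow, hY, fun T x => K185.SubDesc.famQ_iff hst (i := i) x⟩
    refine ⟨Subobject.mk O.ι, ?_, K185.SubDesc.exists_subobject π O.ι hst
      fun T x => (h x).trans ⟨fun hx => ?_, ?_⟩⟩
    · change IsOpenImmersion (Subobject.mk O.ι).arrow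
      rw [← Subobject.underlyingIso_hom_comp_eq_mk]
      infer_instance
    · have hx' : Set.range x ⊆ Set.range O.ι := by rwa [Scheme.Opens.range_ι]
      exact ⟨IsOpenImmersion.lift O.ι x hx', IsOpenImmersion.lift_fac _ _ _⟩
    · rintro ⟨v, rfl⟩ _ ⟨t, rfl⟩
      rw [Scheme.Hom.comp_apply]
      exact (v t).2

end Groth.Agent.S5235
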