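import Groth.Statements.S5242
import Groth.Agent.SGA3b.K201.MTBasics
import Groth.Agent.S2982
import Groth.Agent.S2984
-- import your own Groth.Agent.* helpers here

set_option autoImplicit false
universe u
open TensorProduct SGA3b
open SGA3b

namespace Groth.Agent.S5242

open Groth.Agent.Sga3A.PowConv Coalgebra Bialgebra WithConv in
theorem main (R : Type u) [CommRing R] (A : Type u) [CommRing A] [HopfAlgebra R A]
    (hft : Algebra.FiniteType R A) (h : IsMultType R A) (n : ℕ) (hn : 0 < n)
    (J : Ideal A) [J.IsHopfIdeal R] (hJ : J = torsionIdeal R A n) :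
    IsMultType R (A ⧸ J) ∧ Module.Finite R (A ⧸ J) := by
  have hcc : IsCocomm R A := K201.MTBasics.isCocomm h
  have hfp : Algebra.FinitePresentation R A := K201.MTBasics.finitePresentation h
  let φ : A →ₐc[R] A := ((toConv (BialgHom.id R A)) ^ n).ofConv
  have hφ : ∀ a, φ a = powConv R A n a := by
    intro a
    have h1 := BialgHom.toAlgHom_convPow (toConv (BialgHom.id R A)) n
    have h2 := congrArg (fun G : WithConv (A →ₐ[R] A) => G.ofConv a) h1
    exact h2
  have hJ' : J = Ideal.map φ (RingHom.ker (Bialgebra.counitAlgHom R A)) := by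
    rw [hJ, torsionIdeal]
    apply le_antisymm
    · rw [Ideal.map_le_iff_le_comap]
      intro a ha
      rw [Ideal.mem_comap, ← hφ]
      exact Ideal.mem_map_of_mem _ ha
    · rw [Ideal.map_le_iff_le_comap]
      intro a ha
      rw [Ideal.mem_comap, hφ]
      exact Ideal.mem_map_of_mem _ ha
  have hm : IsMultType R (A ⧸ J) := Groth.Agent.S2982.result R A hft h A hfp φ J hJ'
  refine ⟨hm, ?_⟩
  have hft' : Algebra.FiniteType R (A ⧸ J) :=
    Algebra.FiniteType.of_surjective (Ideal.Quotient.mkₐ R J) Ideal.Quotient.mk_surjective
  rw [Groth.Agent.S2984.result R (A ⧸ J) hft' hm]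
  refine ⟨n, hn, ?_⟩
  rw [torsionIdeal_eq_bot_iff]
  intro x
  obtain ⟨a, rfl⟩ := Ideal.Quotient.mk_surjective x
  have h1 := powConv_map R A (Bialgebra.Quotient.mkBialgHom (R := R) J) n a
  have h2 : powConv R A n a - algebraMap R A (counit a) ∈ J := by
    have h3 : powConv R A n (a - algebraMap R A (counit a)) ∈ J := by
      rw [hJ]
      exact Ideal.mem_map_of_mem _ (by
        rw [RingHom.mem_ker, map_sub, Bialgebra.counitAlgHom_apply]
        simp)
    rwa [map_sub, AlgHom.commutes] at h3
  have h3 : Bialgebra.Quotient.mkBialgHom (R := R) J (powConv R A n a) =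
      algebraMap R (A ⧸ J) (counit a) := by
    change Ideal.Quotient.mk J (powConv R A n a) = Ideal.Quotient.mk J (algebraMap R A (counit a))
    rwa [Ideal.Quotient.mk_eq_mk_iff_sub_mem]
  refine h1.trans (h3.trans ?_)
  congr 1

/-- Let G = Spec A be an R-group of multiplicative type and of finite type and n > 0 an integer. Then
the kernel ₙG = Spec (A/J) of the n-th power map of G, J being the ideal generated by the image of
the augmentation ideal under the n-th power endomorphism (a Hopf ideal; the instance hypothesis
holds automatically for this J), is an R-group of multiplicative type which is finite over R.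
(Affine group schemes over an affine base are taken in Hopf-algebra form; base change is the tensor
product; a homomorphism of groups Spec A ⟶ Spec C is a bialgebra map C → A.) -/
theorem result (R : Type u) [CommRing R] (A : Type u) [CommRing A] [HopfAlgebra R A]
    (hft : Algebra.FiniteType R A) (h : IsMultType R A) (n : ℕ) (hn : 0 < n)
    (J : Ideal A) [J.IsHopfIdeal R] (hJ : J = torsionIdeal R A n) :
    IsMultType R (A ⧸ J) ∧ Module.Finite R (A ⧸ J) := by
  exact main R A hft h n hn J hJ

end Groth.Agent.S5242
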