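import Groth.Statements.S5244
import Groth.Agent.SGA3b.K201.Field
import Groth.Agent.S2969
import Groth.Agent.Sga3A.FibMain
-- import your own Groth.Agent.* helpers here

set_option autoImplicit false
universe u
open TensorProduct SGA3b
open SGA3b

namespace Groth.Agent.S5244

theorem main (k : Type u) [Field k] (A : Type u) [CommRing A] [HopfAlgebra k A]
    (hft : Algebra.FiniteType k A) (h : IsMultType k A) (J : Ideal A) [J.IsHopfIdeal k] :
    IsMultType k (A ⧸ J) := by
  obtain ⟨k', _, _, hfin, _, M, _, hM, ⟨e⟩⟩ := Groth.Agent.S2969.result k A hft h
  apply Groth.Agent.Sga3A.FibMain.isMultType_of_const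
  refine ⟨k', inferInstance, inferInstance, inferInstance, ?_⟩
  exact K201.Field.isDiag_of_surjective ⟨M, _, ⟨e⟩⟩
    (Groth.Agent.Sga3A.BCIso.mapBialg k' (Bialgebra.Quotient.mkBialgHom (R := k) J))
    (K201.Field.mapBialg_surjective _ Ideal.Quotient.mk_surjective)

/-- Case of a group of multiplicative type, assertion on the subgroup; G is taken of finite type, the
case the printed proof treats in full before a limit argument: Let k be a field, G = Spec A a
k-group of multiplicative type and of finite type, and H = Spec (A/J) a closed subgroup scheme of G
(J a Hopf ideal). Then H is of multiplicative type. (Affine group schemes over an affine base are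
taken in Hopf-algebra form; base change is the tensor product; a homomorphism of groups Spec A ⟶
Spec C is a bialgebra map C → A.) -/
theorem result (k : Type u) [Field k] (A : Type u) [CommRing A] [HopfAlgebra k A]
    (hft : Algebra.FiniteType k A) (h : IsMultType k A) (J : Ideal A) [J.IsHopfIdeal k] :
    IsMultType k (A ⧸ J) := by
  exact main k A hft h J

end Groth.Agent.S5244
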