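import Groth.Statements.S5245
import Groth.Agent.SGA3b.K201.LocalTriv
-- import your own Groth.Agent.* helpers here

set_option autoImplicit false
universe u
open TensorProduct SGA3b
open SGA3b

namespace Groth.Agent.S5245

open Coalgebra in
theorem main (R : Type u) [CommRing R] [IsLocalRing R]
    (A : Type u) [CommRing A] [HopfAlgebra R A] (hft : Algebra.FiniteType R A) (hH : IsMultType R A)
    (C : Type u) [CommRing C] [HopfAlgebra R C] (hC : IsNoetherianRing R ∨ Algebra.FinitePresentation R C)
    (φ : C →ₐc[R] A)
    (hs : ∀ c : C, φ c - algebraMap R A (Coalgebra.counit c) ∈ Ideal.map (algebraMap R A) (IsLocalRing.maximalIdeal R)) :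
    ∀ c : C, φ c = algebraMap R A (Coalgebra.counit c) := by
  have hs' : ∀ c, counit (R := R) c = 0 →
      φ c ∈ (IsLocalRing.maximalIdeal R • ⊤ : Submodule R A) := by
    intro c hc
    have h1 := hs c
    rw [hc, map_zero, sub_zero] at h1
    exact (K201.Triv.mem_smul_top_iff_mem_map _).2 h1
  apply K201.Triv.eq_algebraMap_counit
  rcases hC with hC | hC
  · exact K201.LocalTriv.triv_of_noetherian hH φ hs'
  · exact K201.LocalTriv.triv_of_fg hH φ K201.LocalTriv.fg_ker_counit_of_finiteType hs'

/-- Over a local base, where an open neighbourhood of the closed point is the whole base; affine target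
group: Let R be a local ring with maximal ideal 𝔪, H = Spec A an R-group of multiplicative type and
of finite type, G = Spec C an affine R-group, with R Noetherian or C of finite presentation over R,
and u : H ⟶ G a homomorphism given by the bialgebra map φ : C → A. If the restriction of u to the
closed fibre is the unit homomorphism (φ c − ε(c)·1 ∈ 𝔪A for every c), then u is the unit
homomorphism. (Affine group schemes over an affine base are taken in Hopf-algebra form; base change
is the tensor product; a homomorphism of groups Spec A ⟶ Spec C is a bialgebra map C → A.) -/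
theorem result (R : Type u) [CommRing R] [IsLocalRing R]
    (A : Type u) [CommRing A] [HopfAlgebra R A] (hft : Algebra.FiniteType R A) (hH : IsMultType R A)
    (C : Type u) [CommRing C] [HopfAlgebra R C] (hC : IsNoetherianRing R ∨ Algebra.FinitePresentation R C)
    (φ : C →ₐc[R] A)
    (hs : ∀ c : C, φ c - algebraMap R A (Coalgebra.counit c) ∈ Ideal.map (algebraMap R A) (IsLocalRing.maximalIdeal R)) :
    ∀ c : C, φ c = algebraMap R A (Coalgebra.counit c) := by
  exact main R A hft hH C hC φ hs

end Groth.Agent.S5245
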