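import Groth.Statements.S5250
import Groth.Agent.SGA3b.K201.MultLift
import Groth.Agent.SGA3b.K201.Isotriv
-- import your own Groth.Agent.* helpers here

set_option autoImplicit false
universe u
open TensorProduct SGA3b
open SGA3b

namespace Groth.Agent.S5250

/-- Let A be a Noetherian ring, separated and complete for the I-adic topology, G = Spec B an isotrivial
A-group of multiplicative type, and H = Spec C an affine A-group which is flat over A at the points
of H₀ = Spec ((A/I) ⊗ C) (C localised at any prime containing IC is flat over A) and such that H₀ is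
a quasi-isotrivial (A/I)-group of multiplicative type. Then reduction modulo I is a bijection from
homomorphisms of A-groups G ⟶ H (bialgebra maps C → B) to homomorphisms of (A/I)-groups G₀ ⟶ H₀: two
bialgebra maps C → B with the same reduction are equal, and every bialgebra map C₀ → B₀ over A/I is
a reduction. (Affine group schemes over an affine base are taken in Hopf-algebra form; base change
is the tensor product; a homomorphism of groups Spec A ⟶ Spec C is a bialgebra map C → A.) -/
theorem result (A : Type u) [CommRing A] [IsNoetherianRing A] (I : Ideal A) [IsAdicComplete I A]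
    (B : Type u) [CommRing B] [HopfAlgebra A B] (hG : IsIsotrivial A B)
    (C : Type u) [CommRing C] [HopfAlgebra A C]
    (hfl : ∀ (q : Ideal C) [q.IsPrime], Ideal.map (algebraMap A C) I ≤ q → Module.Flat A (Localization.AtPrime q))
    (h0 : IsQuasiIsotrivial (A ⧸ I) ((A ⧸ I) ⊗[A] C)) :
    (∀ φ ψ : C →ₐc[A] B, (∀ c : C, (1 : A ⧸ I) ⊗ₜ[A] (φ c) = (1 : A ⧸ I) ⊗ₜ[A] (ψ c)) → φ = ψ) ∧
    (∀ φ₀ : ((A ⧸ I) ⊗[A] C) →ₐc[A ⧸ I] ((A ⧸ I) ⊗[A] B),
      ∃ φ : C →ₐc[A] B, ∀ c : C, φ₀ ((1 : A ⧸ I) ⊗ₜ[A] c) = (1 : A ⧸ I) ⊗ₜ[A] (φ c)) := by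
  have hB : IsMultType A B := K201.Isotriv.isMultType_of_isIsotrivial hG
  obtain ⟨S, _, _, het, hfin, hff, M, _, ⟨e⟩⟩ := hG
  have hmB : ∀ K : Ideal A, IsMultType (A ⧸ K) ((A ⧸ K) ⊗[A] B) := fun K =>
    Groth.Agent.Sga3A.NilDescent.isMultType_baseChange _ hB
  constructor
  · intro φ ψ h
    have hSc : IsAdicComplete I S := Groth.Agent.FormalA.AdicFin.isAdicComplete_of_finite I
    have hBh : IsHausdorff I B := K201.Coef.haus_B e
    ext c
    refine K201.Coef.eq_of_forall (I := I) fun n => ?_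
    have h1 : ∀ c, φ c - ψ c ∈ (I • ⊤ : Submodule A B) := fun c =>
      (Groth.Agent.Sga3A.GLHom.one_tmul_eq_iff I (φ c) (ψ c)).1 (h c)
    have h2 := K201.MultLift.sub_mem_of_mult (K := I) (K' := I ^ (n + 1))
      (Ideal.pow_le_self (Nat.succ_ne_zero n)) (n + 1) le_rfl (hmB _)
      (K201.MultLift.isMultType_quot_pow I hfl h0 (I ^ (n + 1)) (n + 1) le_rfl) φ ψ h1 c
    exact Submodule.smul_mono_left (Ideal.pow_le_pow_right (Nat.le_succ n)) h2
  · intro φ₀
    obtain ⟨f₀, hf₀, hφ₀⟩ := K201.HomMod.exists_rep φ₀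
    obtain ⟨φ, hφ⟩ := K201.Algebraize.exists_lift_of_step e f₀ hf₀ (fun n f hf =>
      K201.MultLift.exists_lift_mult (Ideal.pow_le_pow_right (Nat.le_succ (n + 1))) 2 (by
        rw [← pow_mul]
        exact Ideal.pow_le_pow_right (by omega)) (hmB _)
        (K201.MultLift.isMultType_quot_pow I hfl h0 (I ^ (n + 2)) (n + 2) le_rfl) hf)
    refine ⟨φ, fun c => ?_⟩
    rw [hφ₀, Groth.Agent.Sga3A.GLHom.one_tmul_eq_iff, ← neg_mem_iff, neg_sub]
    exact hφ c

end Groth.Agent.S5250
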