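import Groth.Statements.S5252
import Groth.Agent.S2973
import Groth.Agent.S2987
import Groth.Agent.S2971
import Groth.Agent.S2969
import Groth.Agent.Sga3A.FibSpread
import Mathlib.RingTheory.Artinian.Ring
import Mathlib.RingTheory.Etale.Field
-- import your own Groth.Agent.* helpers here

set_option autoImplicit false
universe u
open TensorProduct SGA3b
open SGA3b

namespace Groth.Agent.S5252

/-- Let A be an Artinian local ring with residue field k and H = Spec C an affine A-group with C flat
and of finite type over A, whose closed fibre Spec (k ⊗ C) is a k-group of multiplicative type. Then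
H is of multiplicative type and isotrivial. (Affine group schemes over an affine base are taken in
Hopf-algebra form; base change is the tensor product; a homomorphism of groups Spec A ⟶ Spec C is a
bialgebra map C → A.) -/
theorem result (A : Type u) [CommRing A] [IsArtinianRing A] [IsLocalRing A]
    (C : Type u) [CommRing C] [HopfAlgebra A C] [Module.Flat A C] (hft : Algebra.FiniteType A C)
    (h0 : IsMultType (IsLocalRing.ResidueField A) (IsLocalRing.ResidueField A ⊗[A] C)) :
    IsMultType A C ∧ IsIsotrivial A C := by
  have hnil : IsNilpotent (IsLocalRing.maximalIdeal A) := by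
    have := IsArtinianRing.isNilpotent_jacobson_bot (R := A)
    rwa [IsLocalRing.jacobson_eq_maximalIdeal ⊥ bot_ne_top] at this
  have hft0 : Algebra.FiniteType (IsLocalRing.ResidueField A) (IsLocalRing.ResidueField A ⊗[A] C) :=
    inferInstance
  have hq0 : IsQuasiIsotrivial (A ⧸ IsLocalRing.maximalIdeal A) ((A ⧸ IsLocalRing.maximalIdeal A) ⊗[A] C) :=
    Groth.Agent.S2973.result (IsLocalRing.ResidueField A) (IsLocalRing.ResidueField A ⊗[A] C) hft0 h0
  have hq := Groth.Agent.S2987.result A C (IsLocalRing.maximalIdeal A) hnil hq0
  have hm := Groth.Agent.Sga3A.FibSpread.isMultType_of_isQuasiIsotrivial hq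
  refine ⟨hm, ?_⟩
  apply (Groth.Agent.S2971.result A C (IsLocalRing.maximalIdeal A) ?_ hm).1
  · obtain ⟨k', _, _, hfin, hsep, hd⟩ := Groth.Agent.S2969.result (IsLocalRing.ResidueField A)
      (IsLocalRing.ResidueField A ⊗[A] C) hft0 h0
    have : Algebra.FormallyEtale (IsLocalRing.ResidueField A) k' := Algebra.FormallyEtale.of_isSeparable _ _
    have h2 : IsIsotrivial (IsLocalRing.ResidueField A) (IsLocalRing.ResidueField A ⊗[A] C) := by
      refine ⟨k', inferInstance, inferInstance, ?_, hfin, inferInstance, ?_⟩
      · have := Algebra.FinitePresentation.of_finiteType.mp (inferInstance : Algebra.FiniteType (IsLocalRing.ResidueField A) k')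
        exact { }
      · obtain ⟨M, _, _, e⟩ := hd
        exact ⟨M, _, e⟩
    exact h2
  · intro x hx
    obtain ⟨n, hn⟩ := hnil
    refine ⟨n, ?_⟩
    have h3 := Ideal.pow_mem_pow hx n
    rw [hn] at h3
    exact h3

end Groth.Agent.S5252
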