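import Groth.Statements.S5261
import Groth.Agent.SGA3x.K6.Basic

set_option autoImplicit false
open CategoryTheory MonoidalCategory CartesianMonoidalCategory MonObj GrpObj AlgebraicGeometry
universe u
open SGA3x

namespace Groth.Agent.S5261

/-- Let u : H ⟶ G be a homomorphism of S-groups, with H of multiplicative type and of finite type, and
suppose S locally Noetherian or G locally of finite presentation over S. If for every s ∈ S the
homomorphism u_s : H_s ⟶ G_s induced on the fibres at s is a monomorphism, then u is a monomorphism. -/
theorem result {S : Scheme.{u}} (H G : Over S) [GrpObj H] [GrpObj G]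
    (hH : SGA3x.IsMultTypeFT H) (hG : IsLocallyNoetherian S ∨ LocallyOfFinitePresentation G.hom)
    (u : H ⟶ G) [IsMonHom u]
    (hfib : ∀ s : S, Mono ((Over.pullback (S.fromSpecResidueField s)).map u).left) :
    Mono u.left := by
  have h1 : LocallyOfFiniteType (u.left ≫ G.hom) := by
    rw [Over.w u]
    exact K6.Basic.locallyOfFiniteType_of_isMultTypeFT hH
  have h2 : LocallyOfFiniteType u.left := locallyOfFiniteType_of_comp u.left G.hom
  exact K6.Basic.mono_of_fibres u hfib

end Groth.Agent.S5261
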