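import Groth.Statements.S5262
import Groth.Agent.SGA3b.K201.GenHom
import Groth.Agent.Sga3A.LiftHens
import Groth.Agent.S2974
import Groth.Agent.Sga3A.NilDescent
-- import your own Groth.Agent.* helpers here

set_option autoImplicit false
universe u
open TensorProduct SGA3b
open SGA3b

namespace Groth.Agent.S5262

open Groth.Agent.Sga3A.GLBasic in
theorem idemBij {A : Type u} [CommRing A] [HenselianLocalRing A] (S : Type u) [CommRing S] [Algebra A S]
    [Module.Finite A S] : K201.GenHom.IdemBij (K201.GenHom.pr A (IsLocalRing.ResidueField A) S) := by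
  have h := Groth.Agent.Sga3A.LiftHens.idemLift_of_henselian A (IsLocalRing.maximalIdeal A) S
  exact h

/-- Full faithfulness of the reduction functor. Let A be a henselian local ring with residue field k,
and G = Spec B, H = Spec C two A-groups of multiplicative type with B and C finite over A. Then
reduction to the closed fibre is a bijection from homomorphisms of A-groups G ⟶ H (bialgebra maps C
→ B) to homomorphisms of k-groups G₀ ⟶ H₀: two bialgebra maps C → B with the same reduction are
equal, and every bialgebra map k ⊗ C → k ⊗ B over k is a reduction. (The published statement is an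
equivalence of categories between groups of multiplicative type finite over A and over k; this row
states only full faithfulness, i.e. that reduction is bijective on homomorphisms.) (Affine group
schemes over an affine base are taken in Hopf-algebra form; base change is the tensor product; a
homomorphism of groups Spec A ⟶ Spec C is a bialgebra map C → A.) -/
theorem result (A : Type u) [CommRing A] [HenselianLocalRing A]
    (B : Type u) [CommRing B] [HopfAlgebra A B] [Module.Finite A B] (hG : IsMultType A B)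
    (C : Type u) [CommRing C] [HopfAlgebra A C] [Module.Finite A C] (hH : IsMultType A C) :
    (∀ φ ψ : C →ₐc[A] B, (∀ c : C, (1 : IsLocalRing.ResidueField A) ⊗ₜ[A] (φ c) =
        (1 : IsLocalRing.ResidueField A) ⊗ₜ[A] (ψ c)) → φ = ψ) ∧
    (∀ φ₀ : (IsLocalRing.ResidueField A ⊗[A] C) →ₐc[IsLocalRing.ResidueField A] (IsLocalRing.ResidueField A ⊗[A] B),
      ∃ φ : C →ₐc[A] B, ∀ c : C, φ₀ ((1 : IsLocalRing.ResidueField A) ⊗ₜ[A] c) =
        (1 : IsLocalRing.ResidueField A) ⊗ₜ[A] (φ c)) := by
  obtain ⟨S₁, _, _, het₁, hfin₁, hff₁, hd₁⟩ := Groth.Agent.S2974.result A B inferInstance hG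
  obtain ⟨S₂, _, _, het₂, hfin₂, hff₂, hd₂⟩ := Groth.Agent.S2974.result A C inferInstance hH
  let S := S₁ ⊗[A] S₂
  have hB : ∀ (S' : Type u) [CommRing S'] [Algebra A S'] (f : S →ₐ[A] S'), IsDiag S' (S' ⊗[A] B) := fun S' _ _ f =>
    Groth.Agent.Sga3A.NilDescent.isDiag_of_algHom
      (f.comp (Algebra.TensorProduct.includeLeft : S₁ →ₐ[A] S₁ ⊗[A] S₂)) hd₁
  have hC : IsDiag S (S ⊗[A] C) :=
    Groth.Agent.Sga3A.NilDescent.isDiag_of_algHom
      (Algebra.TensorProduct.includeRight : S₂ →ₐ[A] S₁ ⊗[A] S₂) hd₂
  have hff : Module.FaithfullyFlat A S := by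
    have : Module.FaithfullyFlat S₁ (S₁ ⊗[A] S₂) := inferInstance
    exact Module.FaithfullyFlat.trans A S₁ (S₁ ⊗[A] S₂)
  have hJ : Groth.Agent.Sga3A.GLBasic.JointlyPure A (fun _ : PUnit.{u + 1} => S) :=
    Groth.Agent.Sga3A.GLBasic.JointlyPure.of_faithfullyFlat
  have hUn : ∀ (S' : Type u) [CommRing S'] [Algebra A S'] [Module.Finite A S'] (f : S →ₐ[A] S'),
      K201.GenHom.GLUn B (K201.GenHom.pr A (IsLocalRing.ResidueField A) S') := by
    intro S' _ _ _ f
    obtain ⟨M, _, ⟨e⟩⟩ := hB S' f
    exact K201.GenHom.glUn_of_idemBij _ (idemBij S') (Groth.Agent.Sga3A.MTBasis.GBasis.ofBialgEquiv e)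
  constructor
  · intro φ ψ h
    exact K201.GenHom.hom_uniq_of_family (IsLocalRing.ResidueField A) hJ (fun _ => hC)
      (fun _ => hUn S (AlgHom.id A S)) φ ψ h
  · intro φ₀
    refine K201.GenHom.exists_lift_of_family (IsLocalRing.ResidueField A) hJ (fun _ => hC) (fun _ => ?_)
      (fun _ => hUn S (AlgHom.id A S))
      (fun _ _ => hUn (S ⊗[A] S) Algebra.TensorProduct.includeLeft) φ₀
    obtain ⟨M, _, ⟨e⟩⟩ := hB S (AlgHom.id A S)
    exact K201.GenHom.glEx_of_idemBij _ (idemBij S) (Groth.Agent.Sga3A.MTBasis.GBasis.ofBialgEquiv e)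

end Groth.Agent.S5262
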