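import Groth.Statements.S5263
import Groth.Agent.SGA3x.K6.HomLoc
import Groth.Agent.Etbase.FpqcDescent
import Mathlib.AlgebraicGeometry.Morphisms.LocalFlatDescent

set_option autoImplicit false
open CategoryTheory MonoidalCategory CartesianMonoidalCategory MonObj GrpObj AlgebraicGeometry
universe u
open SGA3x

namespace Groth.Agent.S5263

open Groth.Agent.Sga3B in
/-- Over an étale neighbourhood of a given point, `Hom(G, H)` is represented by a finite constant scheme. -/
theorem local_rep {S : Scheme.{u}} {G H : Over S} [GrpObj G] [GrpObj H]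
    (hG : SGA3x.IsMultTypeFT G) [IsFinite G.hom] (hH : SGA3x.IsMultTypeFT H) [IsFinite H.hom] (s : S) :
    ∃ (V : Scheme.{u}) (v : V ⟶ S), Etale v ∧ s ∈ Set.range v ∧
      ∃ (A : Over V) (υ : Red.bc v G ⊗ A ⟶ Red.bc v H), AutFam.RepresentsHom (Red.bc v G) (Red.bc v H) A υ ∧
        (∀ U : A.left.Opens, IsCompact (U : Set A.left) → (U : Scheme.{u}).IsQuasiAffine) ∧
        IsFinite A.hom ∧ Etale A.hom := by
  obtain ⟨B, _, _, v, M, N, _, _, hv, hs, hM, hN, ⟨e⟩, ⟨f⟩⟩ := K6.HomLoc.exists_split_two hG hH s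
  have hfG : IsFinite (Red.bc v G).hom := by
    change IsFinite (Limits.pullback.snd G.hom v)
    infer_instance
  have hfH : IsFinite (Red.bc v H).hom := by
    change IsFinite (Limits.pullback.snd H.hom v)
    infer_instance
  have hM' : Finite M := K6.HomLoc.finite_of_isFinite ⟨e⟩ hfG
  have hN' : Finite N := K6.HomLoc.finite_of_isFinite ⟨f⟩ hfH
  have hN'' : Module.Finite ℤ N := Module.Finite.iff_addGroup_fg.mpr hN
  have hI : Finite (N →+ M) := Finite.of_injective (fun φ : N →+ M => (φ : N → M)) DFunLike.coe_injective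
  obtain ⟨υ, hυ, -⟩ := K6.HomDS.exists_representsHom (Spec (CommRingCat.of B)) M N
  obtain ⟨υ', hυ'⟩ := K6.HomLoc.exists_representsHom_of_iso e f hυ
  exact ⟨_, v, hv, hs, _, υ', hυ', fun U hU => K6.ConstAff.isQuasiAffine_const _ U hU,
    K6.ConstAff.isFinite_const _ _, inferInstance⟩

/-- Let G and H be S-groups of multiplicative type which are finite over S. Then the functor of group
homomorphisms from G to H is representable by an S-scheme which is finite and etale over S (with its
universal family of homomorphisms). -/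
theorem result {S : Scheme.{u}} (G H : Over S) [GrpObj G] [GrpObj H]
    (hG : SGA3x.IsMultTypeFT G) [IsFinite G.hom] (hH : SGA3x.IsMultTypeFT H) [IsFinite H.hom] :
    ∃ (A : Over S) (υ : G ⊗ A ⟶ H), AutFam.RepresentsHom G H A υ ∧ IsFinite A.hom ∧ Etale A.hom := by
  obtain ⟨A, υ, hA⟩ := Groth.Agent.Sga3B.RepDescent.exists_representsHom_of_etale G H (by
    intro s
    obtain ⟨V, v, hv, hs, A, υ, hA, hq, -, -⟩ := local_rep hG hH s
    exact ⟨V, v, hv, hs, A, υ, hA, hq⟩)
  have hd1 : MorphismProperty.DescendsAlong @IsFinite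
      (@Surjective ⊓ @Flat ⊓ @QuasiCompact : MorphismProperty Scheme.{u}) :=
    Groth.Agent.Etbase.FpqcDescent.descendsAlong_isFinite
  refine ⟨A, υ, hA, ?_, ?_⟩
  · refine Groth.Agent.Sga3B.RepDescent.prop_of_representsHom @IsFinite hA fun s => ?_
    obtain ⟨V, v, hv, hs, A, υ, hA, -, hP, -⟩ := local_rep hG hH s
    exact ⟨V, v, hv, hs, A, υ, hA, hP⟩
  · refine Groth.Agent.Sga3B.RepDescent.prop_of_representsHom @Etale hA fun s => ?_
    obtain ⟨V, v, hv, hs, A, υ, hA, -, -, hP⟩ := local_rep hG hH s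
    exact ⟨V, v, hv, hs, A, υ, hA, hP⟩

end Groth.Agent.S5263
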