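import Groth.Statements.S5268
import Groth.Agent.SGA3x.K6.TwConstClopen
import Groth.Agent.S2787
import Groth.Agent.S2278

set_option autoImplicit false
open CategoryTheory MonoidalCategory CartesianMonoidalCategory MonObj GrpObj AlgebraicGeometry
universe u
open SGA3x

namespace Groth.Agent.S5268

/-- If all local rings of the scheme `X` have exactly one minimal prime, distinct irreducible components of `X` are
disjoint. -/
theorem pairwiseDisjoint {X : Scheme.{u}} (h : ∀ x : X, IsDomain (CAlg2.red (X.presheaf.stalk x))) :
    (irreducibleComponents X).PairwiseDisjoint id := by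
  intro Z hZ Z' hZ' hne
  by_contra hd
  apply hne
  obtain ⟨x, hx, hx'⟩ := Set.not_disjoint_iff.mp hd
  obtain ⟨z, hz⟩ := Groth.Agent.S2787.exists_specializes_of_isDomain_red x (h x)
  have key : ∀ Z ∈ irreducibleComponents X, x ∈ Z → Z = closure {z} := by
    intro Z hZ hx
    have hcl := isClosed_of_mem_irreducibleComponents Z hZ
    obtain ⟨w, hw⟩ := QuasiSober.sober hZ.1 hcl
    have hwx : w ⤳ x := by
      rw [specializes_iff_mem_closure, hw.def]
      exact hx
    have h1 : Z ⊆ closure {z} := by
      rw [← hw.def]
      exact (isClosed_closure.closure_subset_iff).mpr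
        (Set.singleton_subset_iff.mpr (specializes_iff_mem_closure.mp (hz w hwx)))
    exact h1.antisymm (hZ.2 isIrreducible_singleton.closure h1)
  rw [key Z hZ hx, key Z' hZ' hx']

/-- Let S be a locally Noetherian scheme all of whose local rings are geometrically unibranch, and P a
quasi-isotrivial twisted constant S-scheme (etale-locally on S isomorphic to a constant scheme).
Then every connected component of P is open, and as an open subscheme of P it is finite over S. -/
theorem result {S : Scheme.{u}} [IsLocallyNoetherian S]
    (hS : ∀ s : S, CAlg2.IsGeomUnibranch (S.presheaf.stalk s))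
    (P : Over S) (hP : TwC.IsTwConst TwC.Topology.etale P) (x : P.left) :
    ∃ U : P.left.Opens, (U : Set P.left) = connectedComponent x ∧ IsFinite (U.ι ≫ P.hom) := by
  have het : Etale P.hom := K6.TwConstClopen.etale_of_isTwConst P hP
  have hn : IsLocallyNoetherian P.left := LocallyOfFiniteType.isLocallyNoetherian P.hom
  have hlc : LocallyConnectedSpace P.left :=
    Groth.Agent.Sga3C.LocConn.locallyConnectedSpace_of_isLocallyNoetherian P.left
  have hnn : ∀ x : P.left, ∃ U ∈ nhds x, TopologicalSpace.NoetherianSpace U := by
    intro x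
    obtain ⟨_, ⟨V, hV, rfl⟩, hxV, -⟩ := P.left.isBasis_affineOpens.exists_subset_of_mem_open
      (Set.mem_univ x) isOpen_univ
    have := IsLocallyNoetherian.component_noetherian ⟨V, hV⟩
    exact ⟨V, V.2.mem_nhds hxV, noetherianSpace_of_isAffineOpen V hV⟩
  have hirr : IsIrreducible (connectedComponent x) := by
    have h := ((Groth.Agent.S2278.result P.left hnn).out 3 2 :
      (irreducibleComponents P.left).PairwiseDisjoint id ↔ ∀ x : P.left, IsIrreducible (connectedComponent x))
    exact h.mp (pairwiseDisjoint fun y =>
      (Groth.Agent.S2787.isGeomUnibranch_stalk_of_etale P.hom y (hS _)).1.1) x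
  let U : P.left.Opens := ⟨connectedComponent x, isOpen_connectedComponent⟩
  refine ⟨U, rfl, ?_⟩
  have h1 : PreconnectedSpace (U : Scheme.{u}) :=
    isPreconnected_iff_preconnectedSpace.mp isPreconnected_connectedComponent
  have h2 : IsClosedImmersion U.ι := by
    refine IsClosedImmersion.of_isPreimmersion U.ι ?_
    rw [Scheme.Opens.range_ι]
    exact isClosed_connectedComponent
  obtain ⟨ξ, hξ⟩ := QuasiSober.sober hirr isClosed_connectedComponent
  have hξU : ξ ∈ U := by
    change ξ ∈ connectedComponent x
    rw [← hξ.def]
    exact subset_closure rfl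
  refine K6.TwConstClopen.isFinite_of_connected P hP U.ι ⟨ξ, hξU⟩ ?_
  have hlq := Groth.Agent.S2787.locallyQuasiFinite_of_etale P.hom
  have hd := P.hom.isDiscrete_preimage_singleton (P.hom ξ)
  refine Set.Finite.isCompact ((Set.finite_singleton (⟨ξ, hξU⟩ : (U : Scheme.{u}))).subset ?_)
  rintro ⟨y, hy⟩ hy'
  have h3 : P.hom y = P.hom ξ := hy'
  have h4 : ξ ⤳ y := by
    rw [specializes_iff_mem_closure, hξ.def]
    exact hy
  have h5 : ξ = y := hd.eq_of_specializes h4 rfl h3
  exact Subtype.ext h5.symm

end Groth.Agent.S5268
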