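import Groth.Statements.S5269
import Groth.Agent.SGA3x.K7.ConstDesc
import Groth.Agent.S1482
import Groth.Agent.Flat2E.QFSliceScheme

set_option autoImplicit false
open CategoryTheory MonoidalCategory CartesianMonoidalCategory MonObj GrpObj AlgebraicGeometry
universe u
open SGA3x

namespace Groth.Agent.S5269

open CategoryTheory.Limits in
/-- Let S be a locally Noetherian scheme and X an S-scheme which is a twisted constant scheme locally
trivial for the fppf topology (every point of S is in the image of a flat, locally finitely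
presented S' ⟶ S over which X becomes a constant scheme). Then X is quasi-isotrivial: it becomes
constant etale-locally on S. -/
theorem result {S : Scheme.{u}} [IsLocallyNoetherian S] (X : Over S)
    (hX : TwC.IsTwConst TwC.Topology.fppf X) : TwC.IsTwConst TwC.Topology.etale X := by
  intro s
  obtain ⟨S', f, hf1, hf2, ⟨x, rfl⟩, I, ⟨φ⟩⟩ := hX s
  change ∃ (S' : Scheme.{u}) (f' : S' ⟶ S), Etale f' ∧ f x ∈ Set.range f' ∧
    ∃ I : Type u, Nonempty (Red.bc f' X ≅ TwC.const S' I)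
  obtain ⟨T, h, r, t, hT, hs, hfl, hfp, hqf, ht, hr⟩ := Groth.Agent.Flat2E.QFSliceScheme.exists_local_slice f x
  obtain ⟨φT, -⟩ := K7.ConstDesc.exists_bc φ r h hr
  obtain ⟨U, g, u, hg, hu, J, hJ, V, v, H1, -, H3⟩ := Groth.Agent.S1482.result h (h t) (fun _ : Unit => t)
    (fun _ _ _ => rfl) (fun _ => rfl) (fun _ => h.quasiFiniteAt t)
  obtain ⟨w, hw1, hw2⟩ := Scheme.Pullback.exists_preimage_pullback (f := h) (g := g) t u hu.symm
  obtain ⟨j, -⟩ := H3 w () hw2 hw1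
  obtain ⟨hvV, hfin, hvu, huniq, hins, hvt⟩ := H1 () j
  set V₀ := V () j
  set v₀ := v () j
  have hUn : IsLocallyNoetherian U := LocallyOfFiniteType.isLocallyNoetherian g
  let m₀ : (V₀ : Scheme.{u}) ⟶ U := V₀.ι ≫ pullback.snd h g
  have hm₀ : IsFinite m₀ := hfin
  have hm₀' : Flat m₀ := inferInstance
  have hm₀'' : LocallyOfFinitePresentation m₀ := inferInstance
  let U₁ : U.Opens := ⟨Set.range m₀, m₀.isOpenMap.isOpen_range⟩
  let m : (V₀ : Scheme.{u}) ⟶ U₁ := IsOpenImmersion.lift U₁.ι m₀ (by rw [Scheme.Opens.range_ι]; exact subset_rfl)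
  have hm : m ≫ U₁.ι = m₀ := IsOpenImmersion.lift_fac _ _ _
  have i1 : Surjective m := by
    constructor
    rintro ⟨x, y, hy⟩
    refine ⟨y, U₁.ι.injective ?_⟩
    rw [← Scheme.Hom.comp_apply, hm]
    exact hy
  have i2 : Flat m := by
    have : Flat (m ≫ U₁.ι) := by rw [hm]; exact hm₀'
    exact MorphismProperty.of_postcomp (W := @Flat) (W' := @IsOpenImmersion) m U₁.ι inferInstance this
  have i3 : IsFinite m := by
    have : IsFinite (m ≫ U₁.ι) := by rw [hm]; exact hm₀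
    exact MorphismProperty.of_postcomp (W := @IsFinite) (W' := @IsSeparated) m U₁.ι inferInstance this
  -- the trivialisation over `V₀`
  obtain ⟨φV, -⟩ := K7.ConstDesc.exists_bc φT (V₀.ι ≫ pullback.fst h g) (m ≫ U₁.ι ≫ g) (by
    rw [reassoc_of% hm, Category.assoc, Category.assoc, pullback.condition])
  obtain ⟨φU, -⟩ := K7.ConstDesc.exists_bcbc (X := X) (f := U₁.ι ≫ g) m (m ≫ U₁.ι ≫ g) rfl φV
  have hmv : ∀ v' : V₀, U₁.ι (m v') = pullback.snd h g v'.1 := by
    intro v'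
    rw [← Scheme.Hom.comp_apply, hm]
    rfl
  obtain ⟨O, hO, ⟨e⟩⟩ := K7.ConstDesc.exists_open_const m (Red.bc (U₁.ι ≫ g) X) φU ⟨v₀, hvV⟩ (by
    intro v' hv'
    have h1 := hmv v'
    rw [hv', hmv] at h1
    exact Subtype.ext (huniq v'.1 v'.2 (by rw [← h1, ← hvu]))) (by
    intro K _ g₁ g₂ h1 h2 h12
    rw [← cancel_mono V₀.ι]
    refine K7.ConstDesc.eq_of_purelyInsep (pullback.snd h g) v₀ hins.2 K _ _ ?_ ?_ ?_
    · rw [Scheme.Hom.comp_apply, h1]
      rfl
    · rw [Scheme.Hom.comp_apply, h2]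
      rfl
    · have h3 : (g₁ ≫ m) ≫ U₁.ι = (g₂ ≫ m) ≫ U₁.ι := by rw [h12]
      rw [Category.assoc, Category.assoc, hm] at h3
      rw [Category.assoc, Category.assoc]
      exact h3)
  refine ⟨O, O.ι ≫ U₁.ι ≫ g, inferInstance, ?_, I, ⟨K7.ConstDesc.bcIso X (U₁.ι ≫ g) O.ι ≪≫ e⟩⟩
  refine ⟨⟨m ⟨v₀, hvV⟩, hO⟩, ?_⟩
  rw [Scheme.Hom.comp_apply, Scheme.Hom.comp_apply]
  have h4 : U₁.ι (O.ι ⟨m ⟨v₀, hvV⟩, hO⟩) = u := by
    rw [← hvu]
    exact hmv ⟨v₀, hvV⟩
  rw [h4, hu, ht]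

end Groth.Agent.S5269
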