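import Groth.Statements.S5270
import Groth.Agent.SGA3b.K201.Algebraize
import Groth.Agent.Sga3A.GLHom
-- import your own Groth.Agent.* helpers here

set_option autoImplicit false
universe u
open TensorProduct SGA3b
open SGA3b

namespace Groth.Agent.S5270

/-- Injectivity of the map to formal homomorphisms. Let A be a Noetherian ring, separated and complete
for the I-adic topology, H = Spec B an isotrivial A-group of multiplicative type and G = Spec C an
affine A-group. If two homomorphisms H ⟶ G, given by bialgebra maps φ, ψ : C → B, have the same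
reduction modulo I^(n+1) for every n ≥ 0, then φ = ψ. (Affine group schemes over an affine base are
taken in Hopf-algebra form; base change is the tensor product; a homomorphism of groups Spec A ⟶
Spec C is a bialgebra map C → A.) -/
theorem result (A : Type u) [CommRing A] [IsNoetherianRing A] (I : Ideal A) [IsAdicComplete I A]
    (B : Type u) [CommRing B] [HopfAlgebra A B] (hH : IsIsotrivial A B)
    (C : Type u) [CommRing C] [HopfAlgebra A C] (φ ψ : C →ₐc[A] B)
    (h : ∀ (n : ℕ) (c : C), (1 : A ⧸ I ^ (n + 1)) ⊗ₜ[A] (φ c) = (1 : A ⧸ I ^ (n + 1)) ⊗ₜ[A] (ψ c)) :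
    φ = ψ := by
  obtain ⟨S, _, _, het, hfin, hff, M, _, ⟨e⟩⟩ := hH
  have hSc : IsAdicComplete I S := Groth.Agent.FormalA.AdicFin.isAdicComplete_of_finite I
  have hBh : IsHausdorff I B := K201.Coef.haus_B e
  ext c
  refine K201.Coef.eq_of_forall (I := I) fun n => ?_
  have h1 := (Groth.Agent.Sga3A.GLHom.one_tmul_eq_iff (I ^ (n + 1)) (φ c) (ψ c)).1 (h n c)
  exact Submodule.smul_mono_left (Ideal.pow_le_pow_right (Nat.le_succ n)) h1

end Groth.Agent.S5270
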