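import Groth.Statements.S5277
import Groth.Agent.SGA3b.K201.ConnFib
import Groth.Agent.SGA3b.K201.TorusBC
-- import your own Groth.Agent.* helpers here

set_option autoImplicit false
universe u
open TensorProduct SGA3b
open SGA3b

namespace Groth.Agent.S5277

/-- Let A be a Noetherian ring, separated and complete for the I-adic topology, and H = Spec C an affine
A-group with C flat and of finite type over A, all of whose fibres Spec (κ(p) ⊗ C) are connected. If
the reduction H₀ = Spec ((A/I) ⊗ C) is an isotrivial torus over A/I, then H is an isotrivial torus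
over A. (Affine group schemes over an affine base are taken in Hopf-algebra form; base change is the
tensor product; a homomorphism of groups Spec A ⟶ Spec C is a bialgebra map C → A.) -/
theorem result (A : Type u) [CommRing A] [IsNoetherianRing A] (I : Ideal A) [IsAdicComplete I A]
    (C : Type u) [CommRing C] [HopfAlgebra A C] [Module.Flat A C] (hft : Algebra.FiniteType A C)
    (hconn : ∀ (p : Ideal A) [p.IsPrime], ConnectedSpace (PrimeSpectrum (p.ResidueField ⊗[A] C)))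
    (h0 : IsIsotrivial (A ⧸ I) ((A ⧸ I) ⊗[A] C) ∧ IsTorus (A ⧸ I) ((A ⧸ I) ⊗[A] C)) :
    IsIsotrivial A C ∧ IsTorus A C := by
  have h1 : IsIsotrivial A C := K201.ConnFib.exists_equiv I hconn h0.1
  refine ⟨h1, ?_⟩
  obtain ⟨S, _, _, het, hfin, hff, M, _, ⟨e⟩⟩ := h1
  by_cases hS : Subsingleton S
  · obtain ⟨e'⟩ := Groth.Agent.Sga3A.TypeLemma.diag_of_subsingleton S M (Multiplicative (Fin 0 → ℤ))
    exact K201.TorusBC.isTorus_of_const ⟨S, _, _, hff, 0, ⟨e.trans e'⟩⟩
  rw [not_subsingleton_iff_nontrivial] at hS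
  suffices hM : ∃ n : ℕ, Nonempty (M ≃* Multiplicative (Fin n → ℤ)) by
    obtain ⟨n, ⟨g⟩⟩ := hM
    obtain ⟨e'⟩ := Groth.Agent.Sga3A.FibTorus.exists_congr S g
    exact K201.TorusBC.isTorus_of_const ⟨S, _, _, hff, n, ⟨e.trans e'⟩⟩
  obtain ⟨P, hP⟩ := Ideal.exists_maximal S
  let _ : Field (S ⧸ P) := Ideal.Quotient.field P
  have hIP : I.map (algebraMap A S) ≤ P := by
    have h2 : I.map (algebraMap A S) ≤ Ideal.jacobson ⊥ :=
      Groth.Agent.Hensel.PairIdem.map_le_jacobson_bot I (IsAdicComplete.le_jacobson_bot I)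
    exact h2.trans (sInf_le ⟨bot_le, hP⟩)
  let ρ : (A ⧸ I) →ₐ[A] (S ⧸ P) := Ideal.Quotient.liftₐ I (Algebra.ofId A (S ⧸ P)) (by
    intro i hi
    change Ideal.Quotient.mk P (algebraMap A S i) = 0
    exact Ideal.Quotient.eq_zero_iff_mem.2 (hIP (Ideal.mem_map_of_mem _ hi)))
  let _ : Algebra (A ⧸ I) (S ⧸ P) := ρ.toRingHom.toAlgebra
  have : IsScalarTower A (A ⧸ I) (S ⧸ P) := IsScalarTower.of_algebraMap_eq fun r => (ρ.commutes r).symm
  have h3 := K201.TorusBC.isTorus_baseChange (S ⧸ P) h0.2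
  obtain ⟨R'', _, _, hff'', n, ⟨e''⟩⟩ := Groth.Agent.Sga3A.FibTorus.const_of_isLocalRing _ _ h3
  have hn : Nontrivial R'' := Groth.Agent.Sga3A.FibTorus.nontrivial_of_ff (S ⧸ P) R''
  let _ : Algebra A R'' := ((algebraMap (S ⧸ P) R'').comp (algebraMap A (S ⧸ P))).toAlgebra
  have : IsScalarTower A (S ⧸ P) R'' := IsScalarTower.of_algebraMap_eq (fun _ => rfl)
  refine ⟨n, Groth.Agent.Sga3A.TypeLemma.mulEquiv_of_common (B := C) (S := S) (S' := R'') (T := R'')
    (((Algebra.ofId (S ⧸ P) R'').restrictScalars A).comp (IsScalarTower.toAlgHom A S (S ⧸ P)))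
    (AlgHom.id A R'') ⟨e⟩ ⟨?_⟩⟩
  exact ((Groth.Agent.Sga3A.BCIso.cancelBialg A (S ⧸ P) R'' C).symm.trans
    (Groth.Agent.Sga3A.BCIso.congrBialg R''
      (Groth.Agent.Sga3A.BCIso.cancelBialg A (A ⧸ I) (S ⧸ P) C)).symm).trans e''

end Groth.Agent.S5277
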