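import Groth.Statements.S5278
import Mathlib.AlgebraicGeometry.Morphisms.QuasiFinite
import Mathlib.AlgebraicGeometry.Morphisms.UniversallyOpen
import Mathlib.AlgebraicGeometry.Morphisms.Flat
-- import your own Groth.Agent.* helpers here

set_option autoImplicit false
open CategoryTheory AlgebraicGeometry
universe u
open SGA3x

namespace Groth.Agent.S5278

/-- Topological form: an open and closed map onto a connected space with one finite fibre. -/
lemma top_aux {X Y : Type*} [TopologicalSpace X] [TopologicalSpace Y] [ConnectedSpace X] (f : Y → X)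
    (ho : IsOpenMap f) (hc : IsClosedMap f) (x : X) (hfin : (f ⁻¹' {x}).Finite) (c : Y) :
    ∃ x' : Y, f x' = x ∧ x' ∈ connectedComponent c := by
  classical
  -- every nonempty clopen meets the fibre
  have h1 : ∀ Z : Set Y, IsClopen Z → Z.Nonempty → (Z ∩ f ⁻¹' {x}).Nonempty := by
    intro Z hZ hne
    have h2 : IsClopen (f '' Z) := ⟨hc _ hZ.1, ho _ hZ.2⟩
    have h3 : f '' Z = Set.univ := h2.eq_univ (hne.image f)
    have h4 : x ∈ f '' Z := by rw [h3]; trivial
    obtain ⟨z, hz, hzx⟩ := h4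
    exact ⟨z, hz, hzx⟩
  -- choose a clopen neighbourhood of `c` meeting the fibre in the smallest number of points
  let P : ℕ → Prop := fun n => ∃ Z : Set Y, IsClopen Z ∧ c ∈ Z ∧ (Z ∩ f ⁻¹' {x}).ncard = n
  have hP : ∃ n, P n := ⟨_, Set.univ, isClopen_univ, trivial, rfl⟩
  obtain ⟨Z, hZ, hcZ, hn⟩ := Nat.find_spec hP
  have hconn : IsPreconnected Z := by
    by_contra hcon
    rw [isPreconnected_iff_subset_of_disjoint_closed] at hcon
    push_neg at hcon
    obtain ⟨u, v, hu, hv, hZuv, hdisj, hnu, hnv⟩ := hcon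
    have hZu : IsClosed (Z ∩ u) := hZ.1.inter hu
    have hZv : IsClosed (Z ∩ v) := hZ.1.inter hv
    have e1 : Z ∩ u = Z ∩ vᶜ := by
      ext z
      constructor
      · rintro ⟨h, h'⟩
        refine ⟨h, fun h'' => ?_⟩
        have : z ∈ Z ∩ (u ∩ v) := ⟨h, h', h''⟩
        rw [hdisj] at this
        exact this
      · rintro ⟨h, h'⟩
        exact ⟨h, (hZuv h).resolve_right h'⟩
    have e2 : Z ∩ v = Z ∩ uᶜ := by
      ext z
      constructor
      · rintro ⟨h, h'⟩
        refine ⟨h, fun h'' => ?_⟩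
        have : z ∈ Z ∩ (u ∩ v) := ⟨h, h'', h'⟩
        rw [hdisj] at this
        exact this
      · rintro ⟨h, h'⟩
        exact ⟨h, (hZuv h).resolve_left h'⟩
    have cu : IsClopen (Z ∩ u) := ⟨hZu, by rw [e1]; exact hZ.2.inter hv.isOpen_compl⟩
    have cv : IsClopen (Z ∩ v) := ⟨hZv, by rw [e2]; exact hZ.2.inter hu.isOpen_compl⟩
    obtain ⟨a, haZ, hau⟩ := Set.not_subset.mp hnu
    obtain ⟨b, hbZ, hbv⟩ := Set.not_subset.mp hnv
    have nu : (Z ∩ u).Nonempty := ⟨b, hbZ, (hZuv hbZ).resolve_right hbv⟩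
    have nv : (Z ∩ v).Nonempty := ⟨a, haZ, (hZuv haZ).resolve_left hau⟩
    have key : ∀ A B : Set Y, IsClopen A → IsClopen B → c ∈ A → B.Nonempty → A ⊆ Z → B ⊆ Z →
        Disjoint A B → False := by
      intro A B hA hB hcA hBne hAZ hBZ hAB
      have h5 : (A ∩ f ⁻¹' {x}).ncard < (Z ∩ f ⁻¹' {x}).ncard := by
        apply Set.ncard_lt_ncard
        · refine ⟨Set.inter_subset_inter_left _ hAZ, fun hsub => ?_⟩
          obtain ⟨z, hz, hzf⟩ := h1 B hB hBne
          have := hsub ⟨hBZ hz, hzf⟩
          exact Set.disjoint_left.mp hAB this.1 hz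
        · exact hfin.subset Set.inter_subset_right
      rw [hn] at h5
      exact Nat.find_min hP h5 ⟨A, hA, hcA, rfl⟩
    have hd : Disjoint (Z ∩ u) (Z ∩ v) := by
      rw [Set.disjoint_left]
      rintro z ⟨h, h'⟩ ⟨_, h''⟩
      have : z ∈ Z ∩ (u ∩ v) := ⟨h, h', h''⟩
      rw [hdisj] at this
      exact this
    rcases hZuv hcZ with h | h
    · exact key _ _ cu cv ⟨hcZ, h⟩ nv Set.inter_subset_left Set.inter_subset_left hd
    · exact key _ _ cv cu ⟨hcZ, h⟩ nu Set.inter_subset_left Set.inter_subset_left hd.symm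
  obtain ⟨z, hz, hzx⟩ := h1 Z hZ ⟨c, hcZ⟩
  exact ⟨z, hzx, hconn.subset_connectedComponent hcZ hz⟩

/-- Let X be a connected scheme, f : X' ⟶ X a finite etale morphism and x a point of X. Then every
connected component of X' meets the fibre of f over x; equivalently the map from the connected
components of the fibre (or of the geometric fibre) to those of X' is surjective. -/
theorem result {X X' : Scheme.{u}} [ConnectedSpace X] (f : X' ⟶ X)
    [IsFinite f] [Etale f] (x : X) (c : X') :
    ∃ x' : X', f.base x' = x ∧ x' ∈ connectedComponent c := by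
  exact top_aux f.base f.isOpenMap f.isClosedMap x (f.finite_preimage_singleton x) c

end Groth.Agent.S5278
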