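import Groth.Statements.S5283
import Groth.Agent.Sga3C.CWFam

set_option autoImplicit false
open CategoryTheory MonoidalCategory CartesianMonoidalCategory MonObj GrpObj AlgebraicGeometry
universe u
open SGA3x

namespace Groth.Agent.S5283

theorem geomIrred {S X : Scheme.{u}} (f : X ⟶ S) [LocallyOfFiniteType f] [GrpObj (Over.mk f)]
    (hconn : ∀ s : S, ConnectedSpace ↥(Limits.pullback f (S.fromSpecResidueField s))) :
    GeometricallyIrreducible f := by
  rw [GeometricallyIrreducible.iff_geometricallyIrreducible_fiber]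
  intro s
  have : LocallyOfFiniteType (Limits.pullback.snd f (S.fromSpecResidueField s)) := inferInstance
  let : GrpObj (Over.mk (Limits.pullback.snd f (S.fromSpecResidueField s))) :=
    Over.grpObjMkPullbackSnd
  have := hconn s
  exact Sga3C.GrpIrr.geometricallyIrreducible_of_connectedSpace (k := S.residueField s)
    (Limits.pullback.snd f (S.fromSpecResidueField s))

/-- Let X be an S-group which is smooth and of finite presentation over S with connected fibres, Y an
S-group of finite presentation over S and i : Y ⟶ X a homomorphism which is a monomorphism. Then the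
functor on S-schemes whose value at S' ⟶ S is a point when X ×_S S' ⟶ X factors through Y and empty
otherwise is representable by a closed subscheme of S whose immersion is of finite presentation. -/
theorem result {S : Scheme.{u}} (X Y : Over S) [GrpObj X] [GrpObj Y]
    [Smooth X.hom] [QuasiCompact X.hom] [QuasiSeparated X.hom]
    (hconn : ∀ s : S, ConnectedSpace ↥(Limits.pullback X.hom (S.fromSpecResidueField s)))
    [LocallyOfFinitePresentation Y.hom] [QuasiCompact Y.hom] [QuasiSeparated Y.hom]
    (i : Y ⟶ X) [IsMonHom i] [Mono i] :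
    ∃ (T : Scheme.{u}) (t : T ⟶ S), IsClosedImmersion t ∧ LocallyOfFinitePresentation t ∧
      ∀ (S' : Scheme.{u}) (g : S' ⟶ S), (∃ g' : S' ⟶ T, g' ≫ t = g) ↔
        ∃ l : Limits.pullback X.hom g ⟶ Y.left, l ≫ i.left = Limits.pullback.fst X.hom g := by
  have hirr : GeometricallyIrreducible X.hom := by
    let : GrpObj (Over.mk X.hom) := inferInstanceAs (GrpObj X)
    exact geomIrred X.hom hconn
  obtain ⟨Z, z, hz1, hz2, hz⟩ := Sga3C.CWFam.exists_closed (G := 𝟙_ (Over S)) (H := X) i
    (snd (𝟙_ (Over S)) X) (fun t a b ↦ by simp only [lift_snd])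
  refine ⟨Z.left, z.left, hz1, hz2, fun S' g ↦ ?_⟩
  let T : Over S := Over.mk g
  let p : T ⟶ 𝟙_ (Over S) := toUnit T
  have hp : p.left = g := by
    have := Over.w p
    simpa [T] using this
  have h1 : (∃ g' : S' ⟶ Z.left, g' ≫ z.left = g) ↔ ∃ w : T ⟶ Z, w ≫ z = p := by
    constructor
    · rintro ⟨g', hg'⟩
      refine ⟨Over.homMk g' ?_, ?_⟩
      · rw [← Over.w z, ← Category.assoc, hg']
        exact Category.comp_id g
      · apply Over.OverMorphism.ext
        rw [hp]
        exact hg'
    · rintro ⟨w, hw⟩
      exact ⟨w.left, by rw [← Over.comp_left, hw, hp]⟩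
  have hsn : (p ▷ X) ≫ snd (𝟙_ (Over S)) X = snd T X := whiskerRight_snd p X
  rw [h1, hz T p, hsn]
  let e : (T ⊗ X).left ≅ Limits.pullback X.hom g := Limits.pullbackSymmetry g X.hom
  have he : e.hom ≫ Limits.pullback.fst X.hom g = (snd T X).left :=
    Limits.pullbackSymmetry_hom_comp_fst g X.hom
  constructor
  · rintro ⟨a, ha⟩
    refine ⟨e.inv ≫ a.left, ?_⟩
    rw [Category.assoc, ← Over.comp_left, ha, ← he, Iso.inv_hom_id_assoc]
  · rintro ⟨l, hl⟩
    refine ⟨Over.homMk (e.hom ≫ l) ?_, ?_⟩
    · rw [← Over.w i, Category.assoc, ← Category.assoc l, hl, ← Category.assoc, he]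
      exact Over.w (snd T X)
    · apply Over.OverMorphism.ext
      change (e.hom ≫ l) ≫ i.left = _
      rw [Category.assoc, hl, he]

end Groth.Agent.S5283
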