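import Groth.Statements.S5289
import Groth.Agent.SGA3x.K8.SubLift
import Groth.Agent.S5272

set_option autoImplicit false
open CategoryTheory MonoidalCategory CartesianMonoidalCategory MonObj GrpObj AlgebraicGeometry
universe u
open SGA3x

namespace Groth.Agent.S5289

/-- Let S = Spec R be affine, J an ideal of R with J² = 0 and S₀ = Spec (R/J); let G be an arbitrary
S-group and i : H ⟶ G, i' : H' ⟶ G two sub-group-schemes (homomorphisms which are immersions) of
multiplicative type (fpqc-locally on S isomorphic, as groups, to diagonalisable groups D(M), M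
allowed to vary and taken in Type 0), such that H ×_S S₀ and H' ×_S S₀ coincide as subgroups of G
×_S S₀. Then there is an S-point g of G whose restriction to S₀ is the unit and which conjugates H
onto H': int(g) ∘ i factors through i' by an isomorphism H ≅ H'. -/
theorem result {R : Type u} [CommRing R] (J : Ideal R) (hJ : J ^ 2 = ⊥)
    (G H H' : Over (Spec (CommRingCat.of R))) [GrpObj G] [GrpObj H] [GrpObj H']
    (hH : TwC.Locally (Spec (CommRingCat.of R)) TwC.Topology.fpqc (fun S' f => ∃ (M : Type) (_ : AddCommGroup M), Nonempty (Grp.mk (Red.bc f H) ≅ Grp.mk (Red.DS S' M))))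
    (hH' : TwC.Locally (Spec (CommRingCat.of R)) TwC.Topology.fpqc (fun S' f => ∃ (M : Type) (_ : AddCommGroup M), Nonempty (Grp.mk (Red.bc f H') ≅ Grp.mk (Red.DS S' M))))
    (i : H ⟶ G) [IsMonHom i] [IsImmersion i.left] (i' : H' ⟶ G) [IsMonHom i'] [IsImmersion i'.left]
    (h0 : ∃ ψ : Red.bc (Spec.map (CommRingCat.ofHom (Ideal.Quotient.mk J))) H ≅ Red.bc (Spec.map (CommRingCat.ofHom (Ideal.Quotient.mk J))) H',
      ψ.hom ≫ (Over.pullback (Spec.map (CommRingCat.ofHom (Ideal.Quotient.mk J)))).map i' = (Over.pullback (Spec.map (CommRingCat.ofHom (Ideal.Quotient.mk J)))).map i) :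
    ∃ g : 𝟙_ (Over (Spec (CommRingCat.of R))) ⟶ G, toUnit (Over.mk (Spec.map (CommRingCat.ofHom (Ideal.Quotient.mk J))) : Over (Spec (CommRingCat.of R))) ≫ g = 1 ∧ SGA3x.ConjBy i i' g := by
  let i₀ : Spec (CommRingCat.of (R ⧸ J)) ⟶ Spec (CommRingCat.of R) :=
    Spec.map (CommRingCat.ofHom (Ideal.Quotient.mk J))
  have hm : Mono i := Over.mono_of_mono_left i
  have hm' : Mono i' := Over.mono_of_mono_left i'
  have hci : IsClosedImmersion i₀ := IsClosedImmersion.spec_of_surjective _ Ideal.Quotient.mk_surjective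
  have hsurj : Surjective i₀ := by
    constructor
    intro y
    have h1 : y ∈ Set.range (PrimeSpectrum.comap (Ideal.Quotient.mk J)) := by
      rw [range_comap_of_surjective _ _ Ideal.Quotient.mk_surjective]
      intro x hx
      rw [SetLike.mem_coe, Ideal.mk_ker] at hx
      have h2 : x * x ∈ J ^ 2 := by rw [pow_two]; exact Ideal.mul_mem_mul hx hx
      rw [hJ] at h2
      have h3 : x * x ∈ y.asIdeal := by
        rw [show x * x = 0 from h2]
        exact y.asIdeal.zero_mem
      rcases y.2.mem_or_mem h3 with h | h <;> exact h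
    exact h1
  obtain ⟨φ, hφ, h1⟩ := K8.SubLift.exists_iso_lift_fpqc i₀ hH hH' i i' h0
  obtain ⟨g, hg, h2⟩ := Groth.Agent.S5272.result J hJ H G hH i (φ.hom ≫ i') (fun X p h => (h1 h p).symm)
  refine ⟨g, hg, φ, ?_⟩
  have := h2 H (𝟙 H)
  rw [Category.id_comp, Category.id_comp] at this
  exact this.symm

end Groth.Agent.S5289
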