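import Groth.Statements.S5294
import Groth.Agent.S5273
import Groth.Agent.SGA3x.K9.RigidIso

set_option autoImplicit false
open CategoryTheory MonoidalCategory CartesianMonoidalCategory MonObj GrpObj AlgebraicGeometry
universe u
open SGA3x

namespace Groth.Agent.S5294

/-- Let S = Spec R be affine, J a nilpotent ideal of R and S₀ = Spec (R/J); let G be an S-group smooth
over S, i : H ⟶ G and i' : H' ⟶ G two sub-group-schemes (homomorphisms which are immersions) of
multiplicative type (fpqc-locally on S isomorphic, as groups, to diagonalisable groups D(M), M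
allowed to vary and taken in Type 0), and g₀ an S₀-valued point of G with int(g₀)(H₀) = H'₀: for
points over S₀-schemes, conjugation by g₀ carries the points of H onto the points of H'. Then g₀
lifts to an S-point g of G with int(g)(H) = H' (int(g) ∘ i factors through i' by an isomorphism). -/
theorem result {R : Type u} [CommRing R] (J : Ideal R) (hJ : IsNilpotent J)
    (G H H' : Over (Spec (CommRingCat.of R))) [GrpObj G] [GrpObj H] [GrpObj H'] (hG : Smooth G.hom)
    (hH : TwC.Locally (Spec (CommRingCat.of R)) TwC.Topology.fpqc (fun S' f => ∃ (M : Type) (_ : AddCommGroup M), Nonempty (Grp.mk (Red.bc f H) ≅ Grp.mk (Red.DS S' M))))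
    (hH' : TwC.Locally (Spec (CommRingCat.of R)) TwC.Topology.fpqc (fun S' f => ∃ (M : Type) (_ : AddCommGroup M), Nonempty (Grp.mk (Red.bc f H') ≅ Grp.mk (Red.DS S' M))))
    (i : H ⟶ G) [IsMonHom i] [IsImmersion i.left] (i' : H' ⟶ G) [IsMonHom i'] [IsImmersion i'.left]
    (g₀ : (Over.mk (Spec.map (CommRingCat.ofHom (Ideal.Quotient.mk J))) : Over (Spec (CommRingCat.of R))) ⟶ G)
    (h0 : ∀ (X : Over (Spec (CommRingCat.of R))) (p : X ⟶ (Over.mk (Spec.map (CommRingCat.ofHom (Ideal.Quotient.mk J))) : Over (Spec (CommRingCat.of R)))),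
      (∀ h : X ⟶ H, ∃ h' : X ⟶ H', (p ≫ g₀) * (h ≫ i) * (p ≫ g₀)⁻¹ = h' ≫ i') ∧
      (∀ h' : X ⟶ H', ∃ h : X ⟶ H, (p ≫ g₀)⁻¹ * (h' ≫ i') * (p ≫ g₀) = h ≫ i)) :
    ∃ g : 𝟙_ (Over (Spec (CommRingCat.of R))) ⟶ G, toUnit (Over.mk (Spec.map (CommRingCat.ofHom (Ideal.Quotient.mk J))) : Over (Spec (CommRingCat.of R))) ≫ g = g₀ ∧ SGA3x.ConjBy i i' g := by
  have hm : Mono i := (Over.forget _).mono_of_mono_map (inferInstanceAs (Mono i.left))
  have hm' : Mono i' := (Over.forget _).mono_of_mono_map (inferInstanceAs (Mono i'.left))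
  have := K9.RigidIso.surjective_of_isNilpotent J hJ
  have hcl : IsClosedImmersion (Spec.map (CommRingCat.ofHom (Ideal.Quotient.mk J))) :=
    IsClosedImmersion.spec_of_surjective _ Ideal.Quotient.mk_surjective
  have hc := K9.Rigid.covers_split₂ hH hH'
  obtain ⟨φ, hφ, hφ1⟩ := K9.RigidIso.exists_fam_of_conj i i' g₀ fun X p h => (h0 X p).1 h
  obtain ⟨φ', hφ', hφ1'⟩ := K9.RigidIso.exists_fam_of_conj i' i g₀⁻¹ fun X p h => by
    obtain ⟨x, hx⟩ := (h0 X p).2 h
    exact ⟨x, by rw [← hx, GrpObj.comp_inv, _root_.inv_inv]⟩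
  obtain ⟨e, he, he1⟩ := K9.RigidIso.exists_iso _ hc hφ hφ' (by
    intro X g t
    rw [← cancel_mono i, hφ1', hφ1, GrpObj.comp_inv]
    group) (by
    intro X g t
    rw [← cancel_mono i', hφ1, hφ1', GrpObj.comp_inv]
    group)
  obtain ⟨g, hg, hg1⟩ := Groth.Agent.S5273.result J hJ H G hH hG i (e.hom ≫ i') g₀ (by
    intro X p h
    rw [← Category.assoc, he1 h p, hφ1])
  refine ⟨g, hg, e, ?_⟩
  have h2 := hg1 H (𝟙 H)
  rw [Category.id_comp, Category.id_comp] at h2
  exact h2.symm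

end Groth.Agent.S5294
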