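import Groth.Statements.S5295
import Groth.Agent.SGA3x.K7.NhdCentral
import Groth.Agent.S5256

set_option autoImplicit false
open CategoryTheory MonoidalCategory CartesianMonoidalCategory MonObj GrpObj AlgebraicGeometry
universe u
open SGA3x

namespace Groth.Agent.S5295

open K7.NhdCentral Groth.Agent.Sga3B

/-- Let u : H ⟶ G be a homomorphism of S-groups, with H of multiplicative type and of finite type and G
of finite presentation over S (locally of finite presentation, quasi-compact, quasi-separated) with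
connected fibres, and let s ∈ S be a point such that u_s : H_s ⟶ G_s is central. Then there is an
open neighbourhood U of s such that the homomorphism H|_U ⟶ G|_U induced by u is central: for every
S-scheme X lying over U, every X-point of G commutes with the image of every X-point of H. -/
theorem result {S : Scheme.{u}} (H G : Over S) [GrpObj H] [GrpObj G]
    (hH : SGA3x.IsMultTypeFT H) [LocallyOfFinitePresentation G.hom] [QuasiCompact G.hom] [QuasiSeparated G.hom]
    (hconn : ∀ t : S, ConnectedSpace ↥(Limits.pullback G.hom (S.fromSpecResidueField t)))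
    (u : H ⟶ G) [IsMonHom u] (s : S)
    (hs : ∀ (X : Over (Spec (S.residueField s))) (g : X ⟶ Red.bc (S.fromSpecResidueField s) G)
      (h : X ⟶ Red.bc (S.fromSpecResidueField s) H),
      g * (h ≫ (Over.pullback (S.fromSpecResidueField s)).map u) = (h ≫ (Over.pullback (S.fromSpecResidueField s)).map u) * g) :
    ∃ U : S.Opens, s ∈ U ∧ ∀ (X : Over S) (q : X ⟶ Over.mk U.ι) (g : X ⟶ G) (h : X ⟶ H),
      g * (h ≫ u) = (h ≫ u) * g := by
  have hs' : Cen u (Over.mk (S.fromSpecResidueField s)) := (cen_mk_iff u _).mpr hs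
  obtain ⟨R, _, v, M, _, hv, ⟨𝔭₀, h𝔭₀⟩, hfg, ⟨e⟩⟩ := K10.MTLoc.exists_etale_split hH s
  obtain ⟨C, _, c, hc, ⟨𝔭, h𝔭⟩, hU⟩ := Groth.Agent.Sga3.H797.TorsNhd.exists_hasAffineUnitNhd (Red.bc v G) 𝔭₀
  let G₂ : Over (Spec (CommRingCat.of C)) := Red.bc c (Red.bc v G)
  have hlft : LocallyOfFiniteType G₂.hom := by
    have h1 : LocallyOfFiniteType (Red.bc v G).hom := inferInstanceAs (LocallyOfFiniteType (Limits.pullback.snd G.hom v))
    exact inferInstanceAs (LocallyOfFiniteType (Limits.pullback.snd (Red.bc v G).hom c))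
  obtain ⟨δ⟩ : Nonempty (Grp.mk (Red.bc c (Red.DS (Spec (CommRingCat.of R)) M)) ≅
    Grp.mk (Red.DS (Spec (CommRingCat.of C)) M)) := ⟨TorusAlgClosed.dsBcIso c M⟩
  obtain ⟨δ₁, hδ₁⟩ : ∃ δ' : Red.DS (Spec (CommRingCat.of C)) M ≅ Red.bc c (Red.DS (Spec (CommRingCat.of R)) M),
      IsMonHom δ'.hom := ⟨((Grp.forget _).mapIso δ).symm, inferInstanceAs (IsMonHom δ.inv.hom.hom)⟩
  obtain ⟨ε₁, hε₁⟩ : ∃ ε' : Red.DS (Spec (CommRingCat.of R)) M ≅ Red.bc v H,
      IsMonHom ε'.hom := ⟨((Grp.forget _).mapIso e).symm, inferInstanceAs (IsMonHom e.inv.hom.hom)⟩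
  let u₂ : Red.DS (Spec (CommRingCat.of C)) M ⟶ G₂ :=
    δ₁.hom ≫ (Over.pullback c).map (ε₁.hom ≫ (Over.pullback v).map u)
  have hcen : ∀ V : Over (Spec (CommRingCat.of C)), Cen u₂ V ↔ Cen u ((Over.map v).obj ((Over.map c).obj V)) := by
    intro V
    rw [← cen_bc_iff, ← cen_comp_iso ε₁, ← cen_bc_iff]
    exact cen_comp_iso δ₁
  have hpt : ∀ 𝔮 : PrimeSpectrum C, Cen u₂ (FreeBC.DE C 𝔮.asIdeal.ResidueField) ↔
      Cen u (Over.mk (S.fromSpecResidueField (v (c 𝔮)))) := by
    intro 𝔮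
    let τ : Spec (CommRingCat.of 𝔮.asIdeal.ResidueField) ⟶ S :=
      (Spec.map (CommRingCat.ofHom (algebraMap C 𝔮.asIdeal.ResidueField)) ≫ c) ≫ v
    have h1 : τ (IsLocalRing.closedPoint _) = v (c 𝔮) := by
      simp only [τ]
      have h0 : (Spec.map (CommRingCat.ofHom (algebraMap C 𝔮.asIdeal.ResidueField))) (IsLocalRing.closedPoint _) = 𝔮 := by
        apply PrimeSpectrum.ext
        ext x
        change algebraMap C _ x ∈ IsLocalRing.maximalIdeal 𝔮.asIdeal.ResidueField ↔ _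
        rw [IsLocalRing.mem_maximalIdeal, mem_nonunits_iff, isUnit_iff_ne_zero, not_not,
          Ideal.algebraMap_residueField_eq_zero]
      rw [Scheme.Hom.comp_apply, Scheme.Hom.comp_apply, h0]
    rw [hcen, ← h1]
    exact cen_point_iff u τ
  have hconn₂ : ∀ (K : Type u) [Field K] (t : Spec (CommRingCat.of K) ⟶ Spec (CommRingCat.of C)),
      ConnectedSpace ↥(Red.bc t G₂).left := by
    intro K _ t
    have h1 := connectedSpace_bc G hconn ((t ≫ c) ≫ v)
    exact connectedSpace_of_comp _ _ _ (connectedSpace_of_comp _ _ _ h1)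
  obtain ⟨f, hf, hf'⟩ := exists_nhd_split u₂ hU hconn₂ 𝔭 ((hpt 𝔭).mpr (by rw [h𝔭, h𝔭₀]; exact hs'))
  let O : Set (PrimeSpectrum C) := PrimeSpectrum.basicOpen f
  have hO : IsOpen ((c ≫ v) '' O) := (c ≫ v).isOpenMap _ (PrimeSpectrum.basicOpen f).isOpen
  let U : S.Opens := ⟨(c ≫ v) '' O, hO⟩
  have hUc : ∀ t : S, t ∈ U → Cen u (Over.mk (S.fromSpecResidueField t)) := by
    rintro t ⟨𝔮, hq, rfl⟩
    exact (hpt 𝔮).mp (hf' 𝔮 hq)
  refine ⟨U, ⟨𝔭, hf, by rw [Scheme.Hom.comp_apply, h𝔭, h𝔭₀]⟩, fun X q g h => ?_⟩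
  have h1 : LocallyOfFinitePresentation (Red.bc U.ι G).hom := inferInstanceAs (LocallyOfFinitePresentation (Limits.pullback.snd G.hom U.ι))
  have h2 : QuasiCompact (Red.bc U.ι G).hom := inferInstanceAs (QuasiCompact (Limits.pullback.snd G.hom U.ι))
  have h3 : QuasiSeparated (Red.bc U.ι G).hom := inferInstanceAs (QuasiSeparated (Limits.pullback.snd G.hom U.ι))
  have h4 := Groth.Agent.S5256.result (Red.bc U.ι H) (Red.bc U.ι G) (K10.MTLoc.bc U.ι hH) ((Over.pullback U.ι).map u)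
    (fun t => by
      rw [← cen_mk_iff, cen_bc_iff]
      refine (cen_point_iff u (K := (U : Scheme.{u}).residueField t)
        ((U : Scheme.{u}).fromSpecResidueField t ≫ U.ι)).mpr (hUc _ ?_)
      rw [Scheme.Hom.comp_apply]
      exact ((U : Scheme.{u}).fromSpecResidueField t (IsLocalRing.closedPoint _)).2)
  exact (cen_mk_iff u U.ι).mpr h4 X q g h

end Groth.Agent.S5295
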