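import Groth.Statements.S5302
import Groth.Agent.SGA3x.K9.CentDesc

set_option autoImplicit false
open CategoryTheory MonoidalCategory CartesianMonoidalCategory MonObj GrpObj AlgebraicGeometry
universe u
open SGA3x

namespace Groth.Agent.S5302

/-- Case of an fpqc covering, the example the source names: Let H be an S-group of multiplicative type
and of finite type, G an S-group separated and of finite presentation over S (locally of finite
presentation, quasi-compact, quasi-separated), and π : S' ⟶ S a flat surjective morphism which is an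
fpqc covering (every affine open of S is the image of a quasi-compact open of S') with geometrically
connected fibres. Let u' : H' ⟶ G' be a central homomorphism between the base changes to S' (u'(h)
commutes with every point of G'). Then there is exactly one homomorphism of S-groups u : H ⟶ G whose
base change to S' is u'. -/
theorem result {S S' : Scheme.{u}} (H G : Over S) [GrpObj H] [GrpObj G]
    (hH : SGA3x.IsMultTypeFT H) [IsSeparated G.hom] [LocallyOfFinitePresentation G.hom] [QuasiCompact G.hom] [QuasiSeparated G.hom]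
    (π : S' ⟶ S) [Flat π] [Surjective π]
    (hcov : ∀ V : S.Opens, IsAffineOpen V → ∃ W : S'.Opens, IsCompact (W : Set S') ∧ π.base '' (W : Set S') = (V : Set S))
    (hconn : ∀ s : S, ConnectedSpace ↥(Limits.pullback π (Red.geomPt s)))
    (u' : Red.bc π H ⟶ Red.bc π G) [IsMonHom u']
    (hc : ∀ (X : Over S') (g : X ⟶ Red.bc π G) (h : X ⟶ Red.bc π H), g * (h ≫ u') = (h ≫ u') * g) :
    ∃! u : H ⟶ G, IsMonHom u ∧ (Over.pullback π).map u = u' := by
  have := K9.GeomConn.of_geomPt π hconn
  have hΦ := Groth.Agent.Sga3B.IsoFam.isHomFamily_fam (f := π) u'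
  have hcent : ∀ (X : Over S) (g : X ⟶ G) (h : X ⟶ H) (t : X ⟶ Over.mk π),
      g * (lift h t ≫ Groth.Agent.Sga3B.BcPts.fam u') = (lift h t ≫ Groth.Agent.Sga3B.BcPts.fam u') * g :=
    K9.CentDesc.fam_central π hc
  obtain ⟨u, hu, hu'⟩ := K9.CentDesc.exists_hom_of_const π hcov hΦ (K9.CentDesc.fam_const hH π hΦ hcent)
  have hmap : (Over.pullback π).map u = u' := by
    apply K9.PtsAux.fam_injective
    rw [Groth.Agent.Sga3B.BcPts.fam, K9.PtsAux.ev_map, hu' _ _ (snd _ _), lift_fst_snd, Category.id_comp]
  refine ⟨u, ⟨hu, hmap⟩, ?_⟩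
  rintro v ⟨-, hv⟩
  exact K9.CentDesc.hom_ext_of_cover π hcov (hv.trans hmap.symm)

end Groth.Agent.S5302
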