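import Groth.Statements.S5304
import Groth.Agent.SGA3x.K9.SubLocus

set_option autoImplicit false
open CategoryTheory MonoidalCategory CartesianMonoidalCategory MonObj GrpObj AlgebraicGeometry
universe u
open SGA3x

namespace Groth.Agent.S5304

/-- Let G be an S-group separated over S, suppose S locally Noetherian or G of finite presentation over
S, and let i₁ : H₁ ⟶ G, i₂ : H₂ ⟶ G be two sub-group-schemes (homomorphisms which are immersions) of
multiplicative type and of finite type, with H₁ central in G. Then the set U of points s ∈ S such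
that (H₁)_s = (H₂)_s as subgroups of G_s (an isomorphism of the fibres compatible with the
inclusions) is open and closed, and H₁|_U = H₂|_U as subgroups of G|_U. (The published statement
asks only that the fibres of H₁ be central; this row assumes H₁ central in G.) -/
theorem result {S : Scheme.{u}} (G H₁ H₂ : Over S) [GrpObj G] [GrpObj H₁] [GrpObj H₂]
    [IsSeparated G.hom] (hG : IsLocallyNoetherian S ∨ (LocallyOfFinitePresentation G.hom ∧ QuasiCompact G.hom ∧ QuasiSeparated G.hom))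
    (h₁ : SGA3x.IsMultTypeFT H₁) (h₂ : SGA3x.IsMultTypeFT H₂)
    (i₁ : H₁ ⟶ G) [IsMonHom i₁] [IsImmersion i₁.left] (i₂ : H₂ ⟶ G) [IsMonHom i₂] [IsImmersion i₂.left]
    (hc : ∀ (X : Over S) (g : X ⟶ G) (h : X ⟶ H₁), g * (h ≫ i₁) = (h ≫ i₁) * g) :
    ∃ U : S.Opens, IsClosed (U : Set S) ∧
      (∀ s : S, s ∈ U ↔ ∃ ψ : Red.bc (S.fromSpecResidueField s) H₁ ≅ Red.bc (S.fromSpecResidueField s) H₂,
        ψ.hom ≫ (Over.pullback (S.fromSpecResidueField s)).map i₂ = (Over.pullback (S.fromSpecResidueField s)).map i₁) ∧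
      ∃ ψ : Red.bc U.ι H₁ ≅ Red.bc U.ι H₂, ψ.hom ≫ (Over.pullback U.ι).map i₂ = (Over.pullback U.ι).map i₁ := by
  have hm₁ : Mono i₁ := (Over.forget _).mono_of_mono_map (inferInstanceAs (Mono i₁.left))
  have hm₂ : Mono i₂ := (Over.forget _).mono_of_mono_map (inferInstanceAs (Mono i₂.left))
  obtain ⟨U₁, hU₁, h1⟩ := K9.SubLoc.exists_le_locus hG h₁ h₂ i₁ i₂ fun X a b => (hc X (b ≫ i₂) a).symm
  obtain ⟨U₂, hU₂, h2⟩ := K9.SubLoc.exists_le_locus hG h₂ h₁ i₂ i₁ fun X b a => hc X (b ≫ i₂) a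
  refine ⟨U₁ ⊓ U₂, hU₁.inter hU₂, fun s => ?_, ?_⟩
  · rw [← K9.SubLoc.le_le_iff, h1, h2]
    have h3 : Set.range (Over.mk (S.fromSpecResidueField s)).hom = {s} := by
      change Set.range (S.fromSpecResidueField s) = {s}
      rw [Scheme.range_fromSpecResidueField]
    rw [h3, Set.singleton_subset_iff, Set.singleton_subset_iff]
    rfl
  · rw [← K9.SubLoc.le_le_iff, h1, h2]
    have h3 : Set.range (Over.mk (U₁ ⊓ U₂).ι).hom = ((U₁ ⊓ U₂ : S.Opens) : Set S) := by
      change Set.range (U₁ ⊓ U₂).ι = _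
      rw [Scheme.Opens.range_ι]
    rw [h3]
    exact ⟨fun x hx => hx.1, fun x hx => hx.2⟩

end Groth.Agent.S5304
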