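import Groth.Statements.S5305
import Groth.Agent.S5257
import Groth.Agent.FlatA.EtaleSections
import Groth.Agent.Sga3B.IsoFam

set_option autoImplicit false
open CategoryTheory MonoidalCategory CartesianMonoidalCategory MonObj GrpObj AlgebraicGeometry
universe u
open SGA3x

namespace Groth.Agent.S5305

/-- (ii) ⇒ (i): Let H be an S-group of multiplicative type and of finite type, G an S-group smooth and
affine over S, and u₁, u₂ : H ⟶ G two homomorphisms. Suppose that for every s ∈ S, writing s̄ for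
the spectrum of an algebraic closure of κ(s), the homomorphisms u₁ and u₂ restricted to points over
s̄ are conjugate by a point of G with values in s̄. Then u₁ and u₂ are conjugate locally for the
etale topology: every point of S is in the image of an etale S' ⟶ S over which there is an S'-point
g of G ×_S S' with u₂ = int(g) ∘ u₁ on points. -/
theorem result {S : Scheme.{u}} (H G : Over S) [GrpObj H] [GrpObj G]
    (hH : SGA3x.IsMultTypeFT H) (hG : Smooth G.hom) (hGa : IsAffineHom G.hom) (u₁ u₂ : H ⟶ G) [IsMonHom u₁] [IsMonHom u₂]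
    (hgeom : ∀ s : S, ∃ g : Over.mk (Red.geomPt s) ⟶ G, ∀ (X : Over S) (p : X ⟶ Over.mk (Red.geomPt s)) (h : X ⟶ H),
      h ≫ u₂ = (p ≫ g) * (h ≫ u₁) * (p ≫ g)⁻¹) :
    TwC.Locally S TwC.Topology.etale (fun S' f => ∃ g : 𝟙_ (Over S') ⟶ Red.bc f G,
      ∀ (X : Over S') (h : X ⟶ Red.bc f H),
        h ≫ (Over.pullback f).map u₂ = (toUnit X ≫ g) * (h ≫ (Over.pullback f).map u₁) * (toUnit X ≫ g)⁻¹) := by
  obtain ⟨T, j, -, hT, hj⟩ := Groth.Agent.S5257.result H G hH hG hGa u₁ u₂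
  intro s
  obtain ⟨g, hg⟩ := hgeom s
  obtain ⟨t, -⟩ := (hj _ g).mpr fun X' x h => (hg X' x h).symm
  have hs : s ∈ Set.range T.hom := by
    have h1 : s ∈ Set.range (Red.geomPt s) := by
      rw [Groth.Agent.Sga3B.IsoFam.range_geomPt]
      rfl
    obtain ⟨z, hz⟩ := h1
    have h2 : t.left ≫ T.hom = Red.geomPt s := Over.w t
    exact ⟨t.left z, by rw [← Scheme.Hom.comp_apply, h2, hz]⟩
  obtain ⟨S', f, s', hf, hs', k, hk⟩ := Groth.Agent.FlatA.EtaleSections.exists_section T.hom s hs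
  let gS : (Over.map f).obj (𝟙_ (Over S')) ⟶ G :=
    (Over.homMk k (by
      change k ≫ T.hom = 𝟙 _ ≫ f
      rw [hk, Category.id_comp]) : (Over.map f).obj (𝟙_ (Over S')) ⟶ T) ≫ j
  have hgS := (hj _ gS).mp ⟨_, rfl⟩
  refine ⟨S', f, hf, ⟨s', hs'⟩, Groth.Agent.Sga3B.BcPts.bcEquiv f _ G gS, ?_⟩
  intro X h
  have h1 : ∀ (K : Over S) (w : H ⟶ K), h ≫ (Over.pullback f).map w =
      Groth.Agent.Sga3B.BcPts.bcEquiv f X K ((Groth.Agent.Sga3B.BcPts.bcEquiv f X H).symm h ≫ w) := by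
    intro K w
    rw [Groth.Agent.Sga3B.BcPts.bcEquiv_comp, Equiv.apply_symm_apply]
  have h2 := hgS _ ((Over.map f).map (toUnit X)) ((Groth.Agent.Sga3B.BcPts.bcEquiv f X H).symm h)
  rw [h1, h1, ← Groth.Agent.Sga3B.BcPts.comp_bcEquiv, ← h2]
  have h3 := (Groth.Agent.Sga3B.BcPts.bcMulEquiv f X G).map_inv ((Over.map f).map (toUnit X) ≫ gS)
  have h4 : Groth.Agent.Sga3B.BcPts.bcEquiv f X G (((Over.map f).map (toUnit X) ≫ gS)⁻¹) =
    (Groth.Agent.Sga3B.BcPts.bcEquiv f X G ((Over.map f).map (toUnit X) ≫ gS))⁻¹ := h3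
  rw [Groth.Agent.Sga3B.BcPts.bcEquiv_mul, Groth.Agent.Sga3B.BcPts.bcEquiv_mul, h4]

end Groth.Agent.S5305
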