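import Groth.Statements.S5307
import Groth.Agent.S5304
import Groth.Agent.SGA3x.K388.SubDescGrp
import Groth.Agent.SGA3x.K388.GeomConn
import Groth.Agent.SGA3x.K21.MultLoc

set_option autoImplicit false
open CategoryTheory MonoidalCategory CartesianMonoidalCategory MonObj GrpObj AlgebraicGeometry
universe u
open SGA3x

namespace Groth.Agent.S5307

open Groth.Agent.Sga3B Groth.Agent.Sga3B.BcPts K388.SubDesc K388.SubDescGrp

section

variable {S S₁ S₂ T : Scheme.{u}} (q₁ : T ⟶ S₁) (g₁ : S₁ ⟶ S) (q₂ : T ⟶ S₂) (g₂ : S₂ ⟶ S) (e : q₁ ≫ g₁ = q₂ ≫ g₂)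
  (G : Over S) [GrpObj G]

/-- Comparison of two iterated base changes. -/
noncomputable def tr : Grp.mk (Red.bc q₁ (Red.bc g₁ G)) ≅ Grp.mk (Red.bc q₂ (Red.bc g₂ G)) :=
  (BcIso.bcCompIso q₁ g₁ G).symm ≪≫ BcIso.bcCongrIso e G ≪≫ BcIso.bcCompIso q₂ g₂ G

/-- The underlying isomorphism. -/
noncomputable def th : Red.bc q₁ (Red.bc g₁ G) ≅ Red.bc q₂ (Red.bc g₂ G) := (Grp.forget _).mapIso (tr q₁ g₁ q₂ g₂ e G)

instance : IsMonHom (th q₁ g₁ q₂ g₂ e G).hom := (tr q₁ g₁ q₂ g₂ e G).hom.hom.isMonHom_hom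

lemma th_left : (th q₁ g₁ q₂ g₂ e G).hom.left ≫ Limits.pullback.fst (Red.bc g₂ G).hom q₂ ≫
    Limits.pullback.fst G.hom g₂ =
      Limits.pullback.fst (Red.bc g₁ G).hom q₁ ≫ Limits.pullback.fst G.hom g₁ := by
  have h1 := SplitBc264.bcCompIso_left q₁ g₁ G
  have h2 := SplitBc264.bcCompIso_left q₂ g₂ G
  have h3 := SplitBc264.bcCongrIso_left e G
  have h4 : (th q₁ g₁ q₂ g₂ e G).hom.left = (BcIso.bcCompIso q₁ g₁ G).inv.hom.hom.left ≫
      (BcIso.bcCongrIso e G).hom.hom.hom.left ≫
      (BcIso.bcCompIso q₂ g₂ G).hom.hom.hom.left := rfl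
  have h5 : (BcIso.bcCompIso q₁ g₁ G).inv.hom.hom.left ≫
      (BcIso.bcCompIso q₁ g₁ G).hom.hom.hom.left = 𝟙 _ := by
    have := (BcIso.bcCompIso q₁ g₁ G).inv_hom_id
    exact congrArg (fun t => t.hom.hom.left) this
  rw [h4, Category.assoc, Category.assoc, h2, h3, ← h1, ← Category.assoc, h5, Category.id_comp]

end

section

variable {S S' : Scheme.{u}}

lemma map_left_fst (f : S' ⟶ S) {X Y : Over S} (a : X ⟶ Y) :
    ((Over.pullback f).map a).left ≫ Limits.pullback.fst Y.hom f = Limits.pullback.fst X.hom f ≫ a.left :=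
  Limits.pullback.lift_fst _ _ _

lemma bc_ext (f : S' ⟶ S) {X : Over S'} {Y : Over S} {a b : X ⟶ Red.bc f Y}
    (h : a.left ≫ Limits.pullback.fst Y.hom f = b.left ≫ Limits.pullback.fst Y.hom f) : a = b := by
  ext1
  apply Limits.pullback.hom_ext
  · exact h
  · exact (Over.w a).trans (Over.w b).symm

lemma bc_ext_left {R : Scheme.{u}} (f : S' ⟶ S) {Y : Over S} {a b : R ⟶ (Red.bc f Y).left}
    (h : a ≫ Limits.pullback.fst Y.hom f = b ≫ Limits.pullback.fst Y.hom f)
    (h' : a ≫ (Red.bc f Y).hom = b ≫ (Red.bc f Y).hom) : a = b :=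
  Limits.pullback.hom_ext h h'

lemma bc_prop {P : MorphismProperty Scheme.{u}} [P.IsStableUnderBaseChange] (f : S' ⟶ S) (X : Over S) (h : P X.hom) :
    P (Red.bc f X).hom := MorphismProperty.pullback_snd _ _ h

end

theorem agree {S S' : Scheme.{u}} (G : Over S) [GrpObj G]
    [IsSeparated G.hom] [LocallyOfFinitePresentation G.hom] [QuasiCompact G.hom] [QuasiSeparated G.hom]
    (π : S' ⟶ S) (hconn : ∀ s : S, ConnectedSpace ↥(Limits.pullback π (Red.geomPt s)))
    (H' : Over S') [GrpObj H'] (hH' : SGA3x.IsMultTypeFT H') (j' : H' ⟶ Red.bc π G) [IsMonHom j'] [IsImmersion j'.left]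
    (hc : ∀ (X : Over S') (g : X ⟶ Red.bc π G) (h : X ⟶ H'), g * (h ≫ j') = (h ≫ j') * g) :
    Agree π G j' := by
  have hgc := K388.GeomConn.geometricallyConnected_of_geomPt π hconn
  let p₁ := Limits.pullback.fst π π
  let p₂ := Limits.pullback.snd π π
  have hp : p₁ ≫ π = p₂ ≫ π := Limits.pullback.condition
  let θ := th p₂ π p₁ π hp.symm G
  have hθ : θ.hom.left ≫ Limits.pullback.fst (Red.bc π G).hom p₁ ≫ Limits.pullback.fst G.hom π =
      Limits.pullback.fst (Red.bc π G).hom p₂ ≫ Limits.pullback.fst G.hom π := th_left _ _ _ _ _ G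
  have i1 : IsImmersion ((Over.pullback p₁).map j').left :=
    MorphismProperty.of_isPullback (K7.Loc.isPullback_map _ j') ‹IsImmersion j'.left›
  have i2 : IsImmersion ((Over.pullback p₂).map j').left :=
    MorphismProperty.of_isPullback (K7.Loc.isPullback_map _ j') ‹IsImmersion j'.left›
  have i3 : IsImmersion ((Over.pullback p₂).map j' ≫ θ.hom).left := by
    change IsImmersion (((Over.pullback p₂).map j').left ≫ θ.hom.left)
    infer_instance
  have a1 : IsSeparated (Red.bc p₁ (Red.bc π G)).hom :=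
    bc_prop (P := @IsSeparated) _ _ (bc_prop (P := @IsSeparated) _ _ inferInstance)
  have a2 : LocallyOfFinitePresentation (Red.bc p₁ (Red.bc π G)).hom :=
    bc_prop (P := @LocallyOfFinitePresentation) _ _ (bc_prop (P := @LocallyOfFinitePresentation) _ _ inferInstance)
  have a3 : QuasiCompact (Red.bc p₁ (Red.bc π G)).hom :=
    bc_prop (P := @QuasiCompact) _ _ (bc_prop (P := @QuasiCompact) _ _ inferInstance)
  have a4 : QuasiSeparated (Red.bc p₁ (Red.bc π G)).hom :=
    bc_prop (P := @QuasiSeparated) _ _ (bc_prop (P := @QuasiSeparated) _ _ inferInstance)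
  have m1 : IsMonHom θ.hom := inferInstanceAs (IsMonHom (th p₂ π p₁ π hp.symm G).hom)
  have key2 : ((Over.pullback p₂).map j' ≫ θ.hom).left ≫ Limits.pullback.fst (Red.bc π G).hom p₁ ≫
      Limits.pullback.fst G.hom π = Limits.pullback.fst H'.hom p₂ ≫ j'.left ≫ Limits.pullback.fst G.hom π := by
    change (((Over.pullback p₂).map j').left ≫ θ.hom.left) ≫ _ = _
    rw [Category.assoc, hθ, ← Category.assoc, map_left_fst, Category.assoc]
  have key1 : ((Over.pullback p₁).map j').left ≫ Limits.pullback.fst (Red.bc π G).hom p₁ ≫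
      Limits.pullback.fst G.hom π = Limits.pullback.fst H'.hom p₁ ≫ j'.left ≫ Limits.pullback.fst G.hom π := by
    rw [← Category.assoc, map_left_fst, Category.assoc]
  obtain ⟨U, hU, hUmem, ψ, hψ⟩ := Groth.Agent.S5304.result
    (Red.bc p₁ (Red.bc π G)) (Red.bc p₁ H')
    (Red.bc p₂ H') (Or.inr ⟨a2, a3, a4⟩)
    (K18.MTDesc.isMultTypeFT_bc _ hH') (K18.MTDesc.isMultTypeFT_bc _ hH')
    ((Over.pullback p₁).map j')
    ((Over.pullback p₂).map j' ≫ θ.hom) (by
      intro X g h
      apply (bcMulEquiv p₁ X (Red.bc π G)).symm.injective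
      rw [map_mul, map_mul]
      have e : (bcMulEquiv p₁ X (Red.bc π G)).symm
          (h ≫ (Over.pullback p₁).map j') =
          (bcEquiv p₁ X H').symm h ≫ j' := bcEquiv_symm_comp _ h j'
      rw [e, hc])
  have hUtop : U = ⊤ := by
    refine K388.GeomConn.clopen_eq_top π U hU fun x => ?_
    rw [hUmem]
    generalize hz : Limits.pullback.diagonal π x = z
    have hcz : (Limits.pullback π π).fromSpecResidueField z ≫ p₁ =
        (Limits.pullback π π).fromSpecResidueField z ≫ p₂ := by
      subst hz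
      have hepi : Epi (Spec.map ((Limits.pullback.diagonal π).residueFieldMap x)) :=
        Flat.epi_of_flat_of_surjective _
      rw [← cancel_epi (Spec.map ((Limits.pullback.diagonal π).residueFieldMap x)), ← Category.assoc,
        ← Category.assoc, Scheme.Hom.SpecMap_residueFieldMap_fromSpecResidueField, Category.assoc, Category.assoc,
        Limits.pullback.diagonal_fst, Limits.pullback.diagonal_snd]
    generalize (Limits.pullback π π).fromSpecResidueField z = c at hcz
    refine ⟨th c p₁ c p₂ hcz H', ?_⟩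
    apply bc_ext
    have e2 : ((th c p₁ c p₂ hcz H').hom ≫ (Over.pullback c).map ((Over.pullback p₂).map j' ≫ θ.hom)).left ≫
        Limits.pullback.fst (Red.bc p₁ (Red.bc π G)).hom c =
        (th c p₁ c p₂ hcz H').hom.left ≫ Limits.pullback.fst (Red.bc p₂ H').hom c ≫
          ((Over.pullback p₂).map j' ≫ θ.hom).left := by
      change ((th c p₁ c p₂ hcz H').hom.left ≫ ((Over.pullback c).map _).left) ≫ _ = _
      rw [Category.assoc, map_left_fst]
    rw [e2, map_left_fst]
    apply bc_ext_left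
    · apply bc_ext_left
      · simp only [Category.assoc]
        rw [key1, key2]
        simp only [← Category.assoc]
        congr 1
        congr 1
        exact (Category.assoc _ _ _).trans (th_left c p₁ c p₂ hcz H')
      · have w1 : Limits.pullback.fst (Red.bc π G).hom p₁ ≫ (Red.bc π G).hom =
            (Red.bc p₁ (Red.bc π G)).hom ≫ p₁ := Limits.pullback.condition
        simp only [Category.assoc]
        rw [w1, reassoc_of% (Over.w ((Over.pullback p₂).map j' ≫ θ.hom)),
          reassoc_of% (Over.w ((Over.pullback p₁).map j'))]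
        have w2 : Limits.pullback.fst (Red.bc p₂ H').hom c ≫ (Red.bc p₂ H').hom =
          (Red.bc c (Red.bc p₂ H')).hom ≫ c := Limits.pullback.condition
        have w3 : Limits.pullback.fst (Red.bc p₁ H').hom c ≫ (Red.bc p₁ H').hom =
          (Red.bc c (Red.bc p₁ H')).hom ≫ c := Limits.pullback.condition
        rw [reassoc_of% w2, reassoc_of% w3, reassoc_of% (Over.w (th c p₁ c p₂ hcz H').hom)]
    · have w2 : Limits.pullback.fst (Red.bc p₂ H').hom c ≫ (Red.bc p₂ H').hom =
        (Red.bc c (Red.bc p₂ H')).hom ≫ c := Limits.pullback.condition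
      have w3 : Limits.pullback.fst (Red.bc p₁ H').hom c ≫ (Red.bc p₁ H').hom =
        (Red.bc c (Red.bc p₁ H')).hom ≫ c := Limits.pullback.condition
      rw [Category.assoc, Category.assoc, Category.assoc, Over.w, Over.w, w2, w3,
        reassoc_of% (Over.w (th c p₁ c p₂ hcz H').hom)]
  intro T z q hq
  let t : T.left ⟶ Limits.pullback π π := Limits.pullback.lift T.hom q hq.symm
  have ht1 : t ≫ p₁ = T.hom := Limits.pullback.lift_fst _ _ _
  have ht2 : t ≫ p₂ = q := Limits.pullback.lift_snd _ _ _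
  let tU : T.left ⟶ (U : Scheme.{u}) := IsOpenImmersion.lift U.ι t (by
    rw [Scheme.Opens.range_ι, hUtop]
    exact Set.subset_univ _)
  have htU : tU ≫ U.ι = t := IsOpenImmersion.lift_fac _ _ _
  let z₁ : T.left ⟶ (Red.bc p₁ H').left := Limits.pullback.lift z.left t (by rw [Over.w z, ht1])
  have hz1 : z₁ ≫ Limits.pullback.fst H'.hom p₁ = z.left := Limits.pullback.lift_fst _ _ _
  have hz1' : z₁ ≫ (Red.bc p₁ H').hom = t := Limits.pullback.lift_snd _ _ _
  let z₂ : T.left ⟶ (Red.bc U.ι (Red.bc p₁ H')).left := Limits.pullback.lift z₁ tU (by rw [hz1', htU])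
  have hz2 : z₂ ≫ Limits.pullback.fst (Red.bc p₁ H').hom U.ι = z₁ := Limits.pullback.lift_fst _ _ _
  have hz2' : z₂ ≫ (Red.bc U.ι (Red.bc p₁ H')).hom = tU := Limits.pullback.lift_snd _ _ _
  have c1 : Limits.pullback.fst H'.hom p₂ ≫ H'.hom = (Red.bc p₂ H').hom ≫ p₂ := Limits.pullback.condition
  have c2 : Limits.pullback.fst (Red.bc p₂ H').hom U.ι ≫ (Red.bc p₂ H').hom =
      (Red.bc U.ι (Red.bc p₂ H')).hom ≫ U.ι := Limits.pullback.condition
  refine ⟨Over.homMk (z₂ ≫ ψ.hom.left ≫ Limits.pullback.fst (Red.bc p₂ H').hom U.ι ≫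
    Limits.pullback.fst H'.hom p₂) ?_, ?_⟩
  · change _ = q
    rw [Category.assoc, Category.assoc, Category.assoc, c1, reassoc_of% c2, reassoc_of% (Over.w ψ.hom),
      reassoc_of% hz2', reassoc_of% htU, ht2]
  · change (z₂ ≫ ψ.hom.left ≫ Limits.pullback.fst (Red.bc p₂ H').hom U.ι ≫
      Limits.pullback.fst H'.hom p₂) ≫ j'.left ≫ Limits.pullback.fst G.hom π = _
    have h2 : (ψ.hom ≫ (Over.pullback U.ι).map ((Over.pullback p₂).map j' ≫ θ.hom)).left ≫
        Limits.pullback.fst (Red.bc p₁ (Red.bc π G)).hom U.ι =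
        ψ.hom.left ≫ Limits.pullback.fst (Red.bc p₂ H').hom U.ι ≫ ((Over.pullback p₂).map j' ≫ θ.hom).left := by
      change (ψ.hom.left ≫ ((Over.pullback U.ι).map _).left) ≫ _ = _
      rw [Category.assoc, map_left_fst]
    have h1 : (ψ.hom ≫ (Over.pullback U.ι).map ((Over.pullback p₂).map j' ≫ θ.hom)).left ≫
        Limits.pullback.fst (Red.bc p₁ (Red.bc π G)).hom U.ι =
        ((Over.pullback U.ι).map ((Over.pullback p₁).map j')).left ≫
          Limits.pullback.fst (Red.bc p₁ (Red.bc π G)).hom U.ι := by rw [hψ]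
    rw [h2, map_left_fst] at h1
    have h3 := congrArg (fun f => f ≫ Limits.pullback.fst (Red.bc π G).hom p₁ ≫ Limits.pullback.fst G.hom π) h1
    have h4 : ψ.hom.left ≫ Limits.pullback.fst (Red.bc p₂ H').hom U.ι ≫ Limits.pullback.fst H'.hom p₂ ≫
        j'.left ≫ Limits.pullback.fst G.hom π = Limits.pullback.fst (Red.bc p₁ H').hom U.ι ≫
          Limits.pullback.fst H'.hom p₁ ≫ j'.left ≫ Limits.pullback.fst G.hom π := by
      rw [← key2, ← key1]
      simpa only [Category.assoc] using h3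
    rw [Category.assoc, Category.assoc, Category.assoc, h4, reassoc_of% hz2, reassoc_of% hz1]

/-- The case of an fpqc covering. Let G be an S-group separated and of finite presentation over S
(locally of finite presentation, quasi-compact, quasi-separated), π : S' ⟶ S a flat surjective
morphism which is an fpqc covering (every affine open of S is the image of a quasi-compact open of
S') with geometrically connected fibres, and j' : H' ⟶ G ×_S S' a central sub-group-scheme (a
homomorphism which is an immersion, every point of G ×_S S' commuting with every point of H') of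
multiplicative type and of finite type. Then there is a sub-group-scheme j : H ⟶ G of multiplicative
type and of finite type with H ×_S S' = H' as subgroups of G ×_S S' (an isomorphism compatible with
the inclusions), and any two such subgroups of G coincide (are isomorphic compatibly with their
inclusions). -/
theorem result {S S' : Scheme.{u}} (G : Over S) [GrpObj G]
    [IsSeparated G.hom] [LocallyOfFinitePresentation G.hom] [QuasiCompact G.hom] [QuasiSeparated G.hom]
    (π : S' ⟶ S) [Flat π] [Surjective π]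
    (hcov : ∀ V : S.Opens, IsAffineOpen V → ∃ W : S'.Opens, IsCompact (W : Set S') ∧ π.base '' (W : Set S') = (V : Set S))
    (hconn : ∀ s : S, ConnectedSpace ↥(Limits.pullback π (Red.geomPt s)))
    (H' : Over S') [GrpObj H'] (hH' : SGA3x.IsMultTypeFT H') (j' : H' ⟶ Red.bc π G) [IsMonHom j'] [IsImmersion j'.left]
    (hc : ∀ (X : Over S') (g : X ⟶ Red.bc π G) (h : X ⟶ H'), g * (h ≫ j') = (h ≫ j') * g) :
    (∃ (H : Over S) (_ : GrpObj H) (j : H ⟶ G), IsMonHom j ∧ IsImmersion j.left ∧ SGA3x.IsMultTypeFT H ∧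
      ∃ φ : Red.bc π H ≅ H', φ.hom ≫ j' = (Over.pullback π).map j) ∧
    (∀ (H₁ H₂ : Over S) [GrpObj H₁] [GrpObj H₂] (j₁ : H₁ ⟶ G) (j₂ : H₂ ⟶ G) [IsMonHom j₁] [IsMonHom j₂]
      [IsImmersion j₁.left] [IsImmersion j₂.left],
      (∃ φ₁ : Red.bc π H₁ ≅ H', φ₁.hom ≫ j' = (Over.pullback π).map j₁) →
      (∃ φ₂ : Red.bc π H₂ ≅ H', φ₂.hom ≫ j' = (Over.pullback π).map j₂) →
      ∃ ψ : H₁ ≅ H₂, ψ.hom ≫ j₂ = j₁) := by
  have hHa : IsAffineHom H'.hom := K21.MultLoc.isAffineHom (K21.MultLoc.isMult_of_isMultTypeFT hH')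
  have hml : Mono j'.left := inferInstance
  have hm : Mono j' := (Over.forget S').mono_of_mono_map hml
  have hqc : ∀ {A : Scheme.{u}} {B C : Over A} (f : B ⟶ C), IsAffineHom B.hom → IsSeparated C.hom →
      QuasiCompact f.left := by
    intro A B C f h1 h2
    have : IsAffineHom f.left := by
      have h3 : IsAffineHom (f.left ≫ C.hom) := by rw [Over.w f]; exact h1
      exact MorphismProperty.of_postcomp (W := @IsAffineHom) (W' := @IsSeparated) _ _ h2 h3
    infer_instance
  constructor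
  · obtain ⟨H, gH, j, hjm, hj, haff, -, φ, hφm, hφ⟩ := exists_desc_grp (agree G π hconn H' hH' j' hc) hcov
    have hsep : IsSeparated (Red.bc π G).hom := bc_prop (P := @IsSeparated) _ _ inferInstance
    have hqj : QuasiCompact j'.left := hqc j' hHa hsep
    refine ⟨H, gH, j, hjm, ?_, ?_, φ, hφ⟩
    · refine isImmersion_of_bc hcov j ?_ ?_
      · rw [← hφ]
        change IsImmersion (φ.hom.left ≫ j'.left)
        infer_instance
      · rw [← hφ]
        change QuasiCompact (φ.hom.left ≫ j'.left)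
        infer_instance
    · exact K18.MTDesc.isMultTypeFT_of_bc π hcov (K18.MTDesc.isMultTypeFT_of_iso (Grp.mkIso' φ).symm hH')
  · intro H₁ H₂ _ _ j₁ j₂ _ _ _ _ ⟨φ₁, h₁⟩ ⟨φ₂, h₂⟩
    have hm1 : Mono j₁ := (Over.forget S).mono_of_mono_map (inferInstanceAs (Mono j₁.left))
    have hm2 : Mono j₂ := (Over.forget S).mono_of_mono_map (inferInstanceAs (Mono j₂.left))
    refine exists_iso_of_bc hcov j₁ j₂ (φ₁ ≪≫ φ₂.symm) ?_
    rw [Iso.trans_hom, Iso.symm_hom, Category.assoc, ← h₂, Iso.inv_hom_id_assoc, h₁]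

end Groth.Agent.S5307
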