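import Groth.Statements.S5308
import Groth.Agent.SGA3x.K10.TwFin

set_option autoImplicit false
open CategoryTheory MonoidalCategory CartesianMonoidalCategory MonObj GrpObj AlgebraicGeometry
universe u
open SGA3x

namespace Groth.Agent.S5308

/-- (i) ⇒ (ii). Let R be a commutative twisted constant S-group which is isotrivial (it becomes a
constant group over the open and closed pieces of one finite etale surjective S' ⟶ S). Then R is a
union of open and closed subschemes which are quasi-compact, indeed finite, over S: every point of R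
has an open and closed neighbourhood U in R with U ⟶ S finite. -/
theorem result {S : Scheme.{u}} (R : Over S) [GrpObj R]
    (hcomm : ∀ (X : Over S) (a b : X ⟶ R), a * b = b * a) (hR : TwC.IsTwConstGrp TwC.Topology.finiteEtale R) (x : R.left) :
    ∃ U : R.left.Opens, x ∈ U ∧ IsClosed (U : Set R.left) ∧ IsFinite (U.ι ≫ R.hom) := by
  obtain ⟨S', f, hfin, het, hsurj, h⟩ := hR
  have h' : ∀ s' : S', ∃ U : S'.Opens, s' ∈ U ∧ IsClosed (U : Set S') ∧ ∃ M : Type u,
      Nonempty (Red.bc (U.ι ≫ f) R ≅ TwC.const (U : Scheme.{u}) M) := by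
    intro s'
    obtain ⟨U, hU, hUc, M, _, e, -⟩ := h s'
    exact ⟨U, hU, hUc, M, ⟨e⟩⟩
  have h'' : ∀ s' : S', ∃ U : S'.Opens, s' ∈ U ∧ ∃ M : Type u,
      Nonempty (Red.bc (U.ι ≫ f) R ≅ TwC.const (U : Scheme.{u}) M) := by
    intro s'
    obtain ⟨U, hU, -, M, e⟩ := h' s'
    exact ⟨U, hU, M, e⟩
  have h1 : IsSeparated R.hom := by
    have := Groth.Agent.Etbase.FpqcDescent.descendsAlong_isSeparated.{u}
    exact K10.TwFin.prop_of_isotrivial (@IsSeparated.{u}) (fun _ M => K10.TwFin.isSeparated_const M) f h''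
  have h2 : Etale R.hom :=
    K10.TwFin.prop_of_isotrivial (@Etale.{u}) (fun _ M => K10.TwFin.etale_const M) f h''
  exact K10.TwFin.exists_clopen f h' x

end Groth.Agent.S5308
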