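import Groth.Statements.S5326
import Groth.Agent.S5325
import Groth.Agent.S1489
import Groth.Agent.S9208
import Groth.Agent.SGA3.K203.QC
import Groth.Agent.SGA3.K208.LimSet
import Groth.Agent.Sga3C.ClosedSub
import Mathlib.AlgebraicGeometry.Morphisms.FlatMono

set_option autoImplicit false
universe u
open CategoryTheory CategoryTheory.Limits MonoidalCategory CartesianMonoidalCategory MonObj GrpObj AlgebraicGeometry
open SGA3

namespace Groth.Agent.S5326

open Groth.Agent.Sga3.H778.NeutralPts Groth.Agent.Sga3C Groth.Agent.Sga3C.HomogIrr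

/-- alias -/
theorem neutralSet_ind {S : Scheme.{u}} (G : Over S) [GrpObj G] [LocallyOfFinitePresentation G.hom] :
    ProCons.IsIndConstructible (SGA3x.neutralSet G) := (Groth.Agent.S5325.result S G).1

/-- A locally finitely presented monomorphism of `S`-schemes through which the points with image in a
given set factor is an open immersion. -/
theorem isOpenImmersion_of_represents {S : Scheme.{u}} {H N : Over S} (j : H ⟶ N) [Mono j.left]
    [LocallyOfFinitePresentation j.left] (Z : Set N.left)
    (h : ∀ (T : Over S) (g : T ⟶ N), (∃ h : T ⟶ H, h ≫ j = g) ↔ Set.range g.left.base ⊆ Z) :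
    IsOpenImmersion j.left := by
  have hE : Etale j.left := by
    rw [Groth.Agent.S1489.result]
    refine ⟨inferInstance, ?_⟩
    intro A _ I hI a b w
    let T : Over S := Over.mk (b ≫ N.hom)
    let g : T ⟶ N := Over.homMk b
    have hr : Set.range g.left.base ⊆ Z := by
      rintro _ ⟨t, rfl⟩
      have hsurj : Function.Surjective (Spec.map (CommRingCat.ofHom (Ideal.Quotient.mk I))) := by
        intro p
        have : p ∈ Set.range (PrimeSpectrum.comap (Ideal.Quotient.mk I)) := by
          rw [range_comap_of_surjective _ _ Ideal.Quotient.mk_surjective, Ideal.mk_ker]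
          intro x hx
          have h2 : x ^ 2 ∈ p.asIdeal := by
            have : x ^ 2 ∈ I ^ 2 := Ideal.pow_mem_pow hx 2
            rw [hI] at this
            rw [this]
            exact zero_mem _
          exact p.2.mem_of_pow_mem 2 h2
        exact this
      obtain ⟨t', rfl⟩ := hsurj t
      have h1 : b (Spec.map (CommRingCat.ofHom (Ideal.Quotient.mk I)) t') = j.left (a t') := by
        rw [← Scheme.Hom.comp_apply, w, Scheme.Hom.comp_apply]
      change b _ ∈ Z
      rw [h1]
      exact (h H j).mp ⟨𝟙 _, Category.id_comp _⟩ ⟨a t', rfl⟩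
    obtain ⟨z, hz⟩ := (h T g).mpr hr
    have hz' : z.left ≫ j.left = b := congrArg (fun f ↦ f.left) hz
    refine ⟨z.left, ⟨?_, hz'⟩, ?_⟩
    · rw [← cancel_mono j.left, Category.assoc, hz', w]
    · rintro l ⟨-, hl⟩
      rw [← cancel_mono j.left, hl, hz']
  exact IsOpenImmersion.of_flat_of_mono j.left

/-- A monomorphism representing the points with image in an ind-constructible set is locally of finite
presentation. -/
theorem lfp_of_represents {S : Scheme.{u}} {H N : Over S} (j : H ⟶ N) [Mono j.left]
    (Z : Set N.left) (hZ : ProCons.IsIndConstructible Z)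
    (h : ∀ (T : Over S) (g : T ⟶ N), (∃ h : T ⟶ H, h ≫ j = g) ↔ Set.range g.left.base ⊆ Z) :
    LocallyOfFinitePresentation j.left := by
  apply Groth.Agent.S9208.result
  intro J _ _ _ D t c hc haff j₀ g hg
  have : ∀ (i i' : Jᵒᵖ) (f : i ⟶ i'), IsAffineHom (D.map f) := fun i i' f ↦ by
    have := haff i
    have := haff i'
    infer_instance
  have := haff j₀
  obtain ⟨k, f, hf⟩ := K208.LimSet.exists_preimage_eq_univ D c hc j₀ _
    (Groth.Agent.S15543.result (t.app j₀) Z hZ) (by
      intro x
      change t.app j₀ (c.π.app j₀ x) ∈ Z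
      rw [← Scheme.Hom.comp_apply]
      have h1 : (c.π.app j₀ ≫ t.app j₀) x = j.left (g x) := by
        rw [← Scheme.Hom.comp_apply]
        exact congrArg (fun φ : c.pt ⟶ N.left ↦ φ x) hg.symm
      rw [h1]
      exact (h H j).mp ⟨𝟙 _, Category.id_comp _⟩ ⟨_, rfl⟩)
  have hn : t.app k = D.map f ≫ t.app j₀ := by
    have := t.naturality f
    simp only [Functor.const_obj_obj, Functor.const_obj_map, Category.comp_id] at this
    exact this.symm
  let T : Over S := Over.mk ((t.app k : D.obj k ⟶ N.left) ≫ N.hom)
  let gT : T ⟶ N := Over.homMk (t.app k : D.obj k ⟶ N.left)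
  obtain ⟨z, hz⟩ := (h T gT).mpr (by
    rintro _ ⟨x, rfl⟩
    change (t.app k : D.obj k ⟶ N.left) x ∈ Z
    rw [hn]
    exact hf x)
  have hz' : z.left ≫ j.left = t.app k := congrArg (fun f ↦ f.left) hz
  refine ⟨k, z.left, hz', ?_⟩
  rw [← cancel_mono j.left, Category.assoc, hz', hg, hn, c.w_assoc]

/-- Let G be an S-group scheme locally of finite presentation over S, and suppose the neutral component
subfunctor of G is representable: there is a monomorphism i : G⁰ → G of S-schemes such that a point
g : T → G factors through i exactly when the image of the underlying map of g lies in the union of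
the neutral components of the fibres G_s. Then i is an open immersion and G⁰ is quasi-compact over
S. -/
theorem result (S : Scheme.{u}) (G : Over S) [GrpObj G]
    [LocallyOfFinitePresentation G.hom] (G0 : Over S) (i : G0 ⟶ G) [Mono i]
    (hrep : ∀ (T : Over S) (g : T ⟶ G), (∃ z : T ⟶ G0, z ≫ i = g) ↔ Set.range g.left.base ⊆ SGA3x.neutralSet G) :
    IsOpenImmersion i.left ∧ QuasiCompact G0.hom := by
  have hil : Mono i.left := inferInstanceAs (Mono ((Over.forget S).map i))
  have := lfp_of_represents i _ (neutralSet_ind G) hrep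
  have ho := isOpenImmersion_of_represents i _ hrep
  refine ⟨ho, ?_⟩
  have hmem : ∀ x : G0.left, i.left x ∈ SGA3x.neutralSet G := fun x ↦
    (hrep G0 i).mp ⟨𝟙 _, Category.id_comp _⟩ ⟨x, rfl⟩
  have hrange : ∀ x ∈ SGA3x.neutralSet G, ∃ y, i.left y = x := by
    intro x hx
    let T : Over S := Over.mk (G.left.fromSpecResidueField x ≫ G.hom)
    let g : T ⟶ G := Over.homMk (G.left.fromSpecResidueField x)
    obtain ⟨z, hz⟩ := (hrep T g).mpr (by
      rintro _ ⟨t, rfl⟩
      have : g.left.base t = x := Scheme.fromSpecResidueField_apply _ _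
      rw [this]
      exact hx)
    refine ⟨z.left (IsLocalRing.closedPoint (G.left.residueField x)), ?_⟩
    rw [← Scheme.Hom.comp_apply, ← Over.comp_left, hz]
    exact Scheme.fromSpecResidueField_apply _ _
  obtain ⟨_, _⟩ : ∃ _ : GrpObj G0, IsMonHom i := by
    apply ClosedSub.exists_grpObj_of_mono
    · refine (hrep _ _).mpr ?_
      rintro _ ⟨t, rfl⟩
      exact unitSec_mem t
    · have : (i ⊗ₘ i) ≫ μ[G] = (fst _ _ ≫ i) * (snd _ _ ≫ i) := by
        rw [Hom.mul_def]
        congr 1
      rw [this]
      refine (hrep _ _).mpr ?_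
      rintro _ ⟨t, rfl⟩
      refine mul_mem _ _ t ?_ ?_
      · rw [comp_left_apply]
        exact hmem _
      · rw [comp_left_apply]
        exact hmem _
    · have : i ≫ ι[G] = i⁻¹ := by
        rw [Hom.inv_def]
      rw [this]
      refine (hrep _ _).mpr ?_
      rintro _ ⟨t, rfl⟩
      exact inv_mem _ t (hmem _)
  apply K203.QC.quasiCompact_of_connected_fibres
  intro s
  have hemb : Topology.IsInducing i.left := i.left.isOpenEmbedding.isInducing
  have hw : ∀ y, G.hom (i.left y) = G0.hom y := fun y ↦ by
    rw [← Scheme.Hom.comp_apply, Over.w i]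
  have himg : i.left '' (G0.hom ⁻¹' {s}) =
      connectedComponentIn (G.hom ⁻¹' {s}) (unitSec G s) := by
    ext x
    constructor
    · rintro ⟨y, hy, rfl⟩
      have h1 : i.left y ∈ SGA3x.neutralSet G := hmem y
      rw [neutralSet_eq] at h1
      have h2 : G.hom (i.left y) = s := by
        rw [hw]; exact hy
      change _ ∈ connectedComponentIn _ _ at h1
      rwa [h2] at h1
    · intro hx
      have h2' : x ∈ G.hom ⁻¹' {s} := connectedComponentIn_subset _ _ hx
      have h2 : G.hom x = s := h2'
      have h1 : x ∈ SGA3x.neutralSet G := by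
        rw [neutralSet_eq]
        change _ ∈ connectedComponentIn _ _
        rwa [h2]
      obtain ⟨y, rfl⟩ := hrange x h1
      refine ⟨y, ?_, rfl⟩
      change G0.hom y = s
      rw [← hw]
      exact h2
  have hconn : _root_.IsConnected (i.left '' (G0.hom ⁻¹' {s})) := by
    refine himg ▸ ⟨⟨_, mem_connectedComponentIn (hom_unitSec G s)⟩, ?_⟩
    exact isPreconnected_connectedComponentIn
  exact ⟨hconn.1.of_image, hemb.isPreconnected_image.mp hconn.2⟩

end Groth.Agent.S5326
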