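import Groth.Statements.S5330
import Groth.Agent.SGA3.K204.NeutralBC
import Groth.Agent.SGA3.K204.DimNhd
import Groth.Agent.SGA3.K204.ValRtd

set_option autoImplicit false
universe u
open CategoryTheory CategoryTheory.Limits MonoidalCategory CartesianMonoidalCategory MonObj GrpObj AlgebraicGeometry
open SGA3

namespace Groth.Agent.S5330

/-- Let G be an S-group scheme locally of finite presentation over S, s a point of S and G_s⁰ the
connected component of the unit in the fibre G_s. The following are equivalent: (i) G → S is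
universally open at every point of G_s⁰; (i bis) G → S is universally open at every point of W ∩
G_s⁰ for some open W of G containing the unit point of G_s; (ii) t ↦ dim G_t is constant on some
neighbourhood of s. (The published statement is for an S-scheme locally of finite presentation with
a section, equidimensional fibres and geometrically irreducible neutral components; this row takes
the case of a group scheme, where these hold. The published statement has a fourth equivalent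
condition, not stated here.) -/
theorem result (S : Scheme.{u}) (G : Over S) [GrpObj G]
    [LocallyOfFinitePresentation G.hom] (s : S) :
    ((∀ x ∈ (SGA3x.neutralSet G ∩ G.hom.base ⁻¹' {s}), EGA43.IsUnivOpenAt G.hom x) ↔
      ∃ W : G.left.Opens, (∀ p : ↥(𝟙_ (Over S)).left, (𝟙_ (Over S)).hom.base p = s → η[G].left.base p ∈ W) ∧
        ∀ x ∈ (SGA3x.neutralSet G ∩ G.hom.base ⁻¹' {s}), x ∈ W → EGA43.IsUnivOpenAt G.hom x) ∧
    ((∀ x ∈ (SGA3x.neutralSet G ∩ G.hom.base ⁻¹' {s}), EGA43.IsUnivOpenAt G.hom x) ↔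
      ∃ U : Set S, U ∈ nhds s ∧ ∀ t ∈ U, topologicalKrullDim ↥(G.hom.base ⁻¹' {t}) = topologicalKrullDim ↥(G.hom.base ⁻¹' {s})) := by
  have hunit : ∀ p : ↥(𝟙_ (Over S)).left, (𝟙_ (Over S)).hom.base p = s →
      (η[G] : 𝟙_ (Over S) ⟶ G).left.base p = Groth.Agent.Sga3.H820.NeutralOpen.e G s := by
    intro p hp
    have hp' : p = s := hp
    rw [hp']
  have hmem : ∀ x : G.left, x ∈ (SGA3x.neutralSet G ∩ G.hom.base ⁻¹' {s}) ↔
      x ∈ Groth.Agent.Sga3.H820.NeutralOpen.neutral G s := by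
    intro x
    constructor
    · rintro ⟨h1, h2⟩
      have h3 : G.hom x = s := h2
      have h4 := (Groth.Agent.Sga3.H820.NeutralOpen.mem_neutralSet_iff G x).mp h1
      rwa [h3] at h4
    · intro h
      have h1 : G.hom x = s := Groth.Agent.Sga3.H820.NeutralOpen.hom_of_mem G h
      refine ⟨(Groth.Agent.Sga3.H820.NeutralOpen.mem_neutralSet_iff G x).mpr ?_, h1⟩
      rw [h1]
      exact h
  -- (i) ⇒ (i bis)
  have h12 : (∀ x ∈ (SGA3x.neutralSet G ∩ G.hom.base ⁻¹' {s}), EGA43.IsUnivOpenAt G.hom x) →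
      ∃ W : G.left.Opens, (∀ p : ↥(𝟙_ (Over S)).left, (𝟙_ (Over S)).hom.base p = s → η[G].left.base p ∈ W) ∧
        ∀ x ∈ (SGA3x.neutralSet G ∩ G.hom.base ⁻¹' {s}), x ∈ W → EGA43.IsUnivOpenAt G.hom x :=
    fun h => ⟨⊤, fun _ _ => trivial, fun x hx _ => h x hx⟩
  -- (ii) ⇒ (i)
  have h31 : (∃ U : Set S, U ∈ nhds s ∧ ∀ t ∈ U, topologicalKrullDim ↥(G.hom.base ⁻¹' {t}) =
      topologicalKrullDim ↥(G.hom.base ⁻¹' {s})) →
      (∀ x ∈ (SGA3x.neutralSet G ∩ G.hom.base ⁻¹' {s}), EGA43.IsUnivOpenAt G.hom x) := by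
    rintro ⟨U, hU, hUd⟩ x ⟨hx1, hx2⟩ Y' g x' hx' O hO
    have hx2' : G.hom x = s := hx2
    have hlfp : LocallyOfFinitePresentation (Red.bc g G).hom :=
      inferInstanceAs (LocallyOfFinitePresentation (pullback.snd G.hom g))
    have hgs : g (pullback.snd G.hom g x') = s := by
      rw [← hx2', ← hx', ← Scheme.Hom.comp_apply, ← pullback.condition]
      rfl
    have hN : x' ∈ SGA3x.neutralSet (Red.bc g G) := by
      rw [K203.Basic.neutralSet_bc]
      change (pullback.fst G.hom g) x' ∈ SGA3x.neutralSet G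
      rw [show (pullback.fst G.hom g) x' = x from hx']
      exact hx1
    have hN' := (Groth.Agent.Sga3.H820.NeutralOpen.mem_neutralSet_iff (Red.bc g G) x').mp hN
    have key := K204.NeutralNhd.image_inter_mem_nhds (Red.bc g G)
      (s₀ := (Red.bc g G).hom x') (fun y hy => by
        rw [K204.NeutralBC.dim_bc, K204.NeutralBC.dim_bc]
        have h1 : g y ⤳ s := by
          rw [← hgs]
          exact hy.map g.continuous
        have h2 : g y ∈ U := mem_of_mem_nhds (h1 hU)
        have h3 : g ((Red.bc g G).hom x') = s := hgs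
        rw [h3]
        exact hUd _ h2) hN' hO
    refine Filter.mem_of_superset key ?_
    rintro _ ⟨w, ⟨hw, -⟩, rfl⟩
    exact ⟨w, hw, rfl⟩
  -- (i bis) ⇒ (ii)
  have h23 : (∃ W : G.left.Opens, (∀ p : ↥(𝟙_ (Over S)).left, (𝟙_ (Over S)).hom.base p = s → η[G].left.base p ∈ W) ∧
        ∀ x ∈ (SGA3x.neutralSet G ∩ G.hom.base ⁻¹' {s}), x ∈ W → EGA43.IsUnivOpenAt G.hom x) →
      (∃ U : Set S, U ∈ nhds s ∧ ∀ t ∈ U, topologicalKrullDim ↥(G.hom.base ⁻¹' {t}) =
      topologicalKrullDim ↥(G.hom.base ⁻¹' {s})) := by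
    rintro ⟨W, hW, hWo⟩
    have hW' : Groth.Agent.Sga3.H820.NeutralOpen.e G s ∈ W := by
      rw [← hunit s rfl]
      exact hW s rfl
    obtain ⟨ξ, hξ, hξ'⟩ := Groth.Agent.Sga3.H820.NeutralOpen.exists_generic G s
    have hξs : G.hom ξ = s := Groth.Agent.Sga3.H820.NeutralOpen.hom_of_mem G hξ
    have hξe : ξ ⤳ Groth.Agent.Sga3.H820.NeutralOpen.e G s :=
      hξ' _ (Groth.Agent.Sga3.H820.NeutralOpen.e_mem G s)
    have hξo : EGA43.IsUnivOpenAt G.hom ξ := hWo ξ ((hmem ξ).mpr hξ) (hξe.mem_open W.2 hW')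
    have hξg : Groth.Agent.CycB.RelDim.FibGeneric G.hom ξ := by
      intro x' hx' hsp
      have h1 : x' ∈ Groth.Agent.Sga3.H820.NeutralOpen.neutral G s :=
        Groth.Agent.Sga3.H820.NeutralOpen.mem_neutral_of_specializes G hξ (hx'.trans hξs) hsp
      exact (hsp.antisymm (hξ' x' h1)).eq
    obtain ⟨d, hd, hd'⟩ := Groth.Agent.S3022.exists_dim G s
    have hrd := hd' ξ hξs hξg
    rw [Groth.Agent.S3022.dim_fiber] at hd
    have hge := K204.DimNhd.le_dim_mem_nhds G d s (fun y hy => by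
      obtain ⟨ζ, hζy, hζ⟩ := K204.ValRtd.exists_rtd_ge G.hom hξg hξo (y' := y) (by rw [hξs]; exact hy)
      obtain ⟨d₁, hd₁, hd₁'⟩ := Groth.Agent.S3022.exists_dim G y
      obtain ⟨ζ', h1, h2, h3⟩ := Groth.Agent.CycB.RelDim.exists_fibGeneric_specializes G.hom ζ
      have h4 := Groth.Agent.VarietyA.LocDim.rtd_le_of_specializes G.hom h1 h2
      rw [hd₁' ζ' (h2.trans hζy) h3] at h4
      have h5 : (d : Cardinal.{u}) ≤ d₁ := by
        rw [← hrd]
        exact hζ.trans h4
      rw [← Groth.Agent.S3022.dim_fiber, hd₁]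
      exact_mod_cast h5)
    have hle := (K204.DimNhd.isOpen_dim_le G d).mem_nhds (show s ∈ {t : S |
      topologicalKrullDim (G.hom ⁻¹' {t}) ≤ d} from hd.le)
    refine ⟨_, Filter.inter_mem hge hle, ?_⟩
    rintro t ⟨h1, h2⟩
    exact (le_antisymm h2 h1).trans hd.symm
  exact ⟨⟨h12, fun h => h31 (h23 h)⟩, ⟨fun h => h23 (h12 h), h31⟩⟩

end Groth.Agent.S5330
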