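import Groth.Statements.S5331
import Groth.Agent.S0346

set_option autoImplicit false
universe u
open CategoryTheory CategoryTheory.Limits MonoidalCategory CartesianMonoidalCategory MonObj GrpObj AlgebraicGeometry
open SGA3

namespace Groth.Agent.S5331

/-- Let S be a scheme whose underlying topological space is discrete. Then every S-group scheme is
separated over S. -/
theorem result (S : Scheme.{u}) [DiscreteTopology S] (G : Over S) [GrpObj G] :
    IsSeparated G.hom := by
  rw [(Groth.Agent.S0346.result S G).1]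
  have hη : (η[G] : 𝟙_ (Over S) ⟶ G).left ≫ G.hom = 𝟙 S := by simp
  let e : S ⟶ G.left := (η[G] : 𝟙_ (Over S) ⟶ G).left
  have he : e ≫ G.hom = 𝟙 S := hη
  have hes : ∀ s : S, G.hom (e s) = s := fun s => by
    rw [← Scheme.Hom.comp_apply, he]; rfl
  change IsClosedImmersion e
  have himm : IsImmersion e := by
    have h1 : IsImmersion (e ≫ G.hom) := by rw [he]; infer_instance
    exact IsImmersion.of_comp e G.hom
  refine IsClosedImmersion.of_isPreimmersion e ?_
  rw [← isOpen_compl_iff, isOpen_iff_forall_mem_open]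
  intro x hx
  let s : S := G.hom x
  let V : S.Opens := ⟨{s}, isOpen_discrete _⟩
  let U : G.left.Opens := G.hom ⁻¹ᵁ V
  have hV : Subsingleton V.toScheme := by
    constructor
    rintro ⟨a, ha⟩ ⟨b, hb⟩
    exact Subtype.ext ((show a = s from ha).trans (show b = s from hb).symm)
  have hrg : Set.range (V.ι ≫ e) ⊆ Set.range U.ι := by
    rintro _ ⟨t, rfl⟩
    rw [Scheme.Opens.range_ι]
    change G.hom ((V.ι ≫ e) t) ∈ V
    rw [Scheme.Hom.comp_apply, hes]
    exact t.2
  let g' : V.toScheme ⟶ U.toScheme := IsOpenImmersion.lift U.ι (V.ι ≫ e) hrg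
  have hg' : g' ≫ U.ι = V.ι ≫ e := IsOpenImmersion.lift_fac _ _ _
  have hg'' : g' ≫ (G.hom ∣_ V) = 𝟙 _ := by
    rw [← cancel_mono V.ι, Category.assoc, morphismRestrict_ι, ← Category.assoc, hg',
      Category.assoc, he, Category.comp_id, Category.id_comp]
  have hcl := isClosedImmersion_of_comp_eq_id (G.hom ∣_ V) g' hg''
  have hgcl : IsClosed (Set.range g') := g'.isClosedEmbedding.isClosed_range
  refine ⟨U.ι '' (Set.range g')ᶜ, ?_, U.ι.isOpenEmbedding.isOpenMap _ hgcl.isOpen_compl, ?_⟩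
  · rintro _ ⟨u, hu, rfl⟩ ⟨t, ht⟩
    have htV : t ∈ V := by
      have h1 : G.hom (U.ι u) ∈ V := u.2
      rw [← ht] at h1
      change G.hom (e t) ∈ V at h1
      rwa [hes] at h1
    refine hu ⟨⟨t, htV⟩, U.ι.isOpenEmbedding.injective ?_⟩
    rw [← Scheme.Hom.comp_apply, hg', ← ht]
    rfl
  · refine ⟨⟨x, rfl⟩, ?_, rfl⟩
    rintro ⟨t, ht⟩
    apply hx
    refine ⟨V.ι t, ?_⟩
    rw [← Scheme.Hom.comp_apply, ← hg', Scheme.Hom.comp_apply, ht]
    rfl

end Groth.Agent.S5331
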