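import Groth.Statements.S5332
import Groth.Agent.SGA3.K204.ActClos
import Groth.Agent.SGA3.K204.OrbDense
import Groth.Agent.SGA3.K204.GeomFib
import Groth.Agent.SGA3.K204.OpenOn

set_option autoImplicit false
universe u
open CategoryTheory CategoryTheory.Limits MonoidalCategory CartesianMonoidalCategory MonObj GrpObj AlgebraicGeometry
open SGA3

namespace Groth.Agent.S5332

/-- Let G be an S-group scheme locally of finite presentation over S and universally open over S on some
open containing the unit section, acting on an S-scheme X so that the morphism G ×_S X → X ×_S X,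
(g, x) ↦ (gx, x), is surjective. Suppose that for every point s of S the fibre X_s is locally of
finite type over κ(s) and there is an open subscheme U of X, separated over S, whose fibre U_s is
dense in X_s. Then X is separated over S. -/
theorem result (S : Scheme.{u}) (G X : Over S) [GrpObj G] [LocallyOfFinitePresentation G.hom]
    (hGo : ∃ W : G.left.Opens, (∀ p : ↥(𝟙_ (Over S)).left, η[G].left.base p ∈ W) ∧ UniversallyOpen (W.ι ≫ G.hom))
    (a : AlgGrp.Action G X) (hΦ : Surjective (lift a.act (snd G X)).left)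
    (hft : ∀ s : S, LocallyOfFiniteType (X.hom.fiberToSpecResidueField s))
    (hU : ∀ s : S, ∃ U : X.left.Opens, IsSeparated (U.ι ≫ X.hom) ∧
      X.hom.base ⁻¹' {s} ⊆ closure ((U : Set X.left) ∩ X.hom.base ⁻¹' {s})) :
    IsSeparated X.hom := by
  obtain ⟨W, hW1, hW2⟩ := hGo
  have himm : IsImmersion (pullback.diagonal X.hom) := inferInstance
  constructor
  suffices H : IsClosed (Set.range (pullback.diagonal X.hom)) by
    exact IsClosedImmersion.of_isPreimmersion _ H
  rw [← closure_subset_iff_isClosed]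
  intro t ht
  change t ∈ Set.range (K204.ActClos.dg X).left
  -- a geometric point over `t`
  let s : S := (X ⊗ X).hom t
  obtain ⟨U, hU1, hU2⟩ := hU s
  let K := AlgebraicClosure ((X ⊗ X).left.residueField t)
  let tK : Spec (.of K) ⟶ (X ⊗ X).left :=
    Spec.map (CommRingCat.ofHom (algebraMap ((X ⊗ X).left.residueField t) K)) ≫
      (X ⊗ X).left.fromSpecResidueField t
  let tt : Spec (.of K) ⟶ S := tK ≫ (X ⊗ X).hom
  let p : Over.mk tt ⟶ X ⊗ X := Over.homMk tK
  let pt : (Over.mk tt).left := IsLocalRing.closedPoint K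
  have hpt : ∀ z : (Over.mk tt).left, z = pt := fun z => Subsingleton.elim (α := Spec (.of K)) _ _
  have hp : ∀ z, p.left z = t := fun z => by
    change tK z = t
    rw [Scheme.Hom.comp_apply, Scheme.fromSpecResidueField_apply]
  have hs : tt (IsLocalRing.closedPoint K) = s := by
    change (tK ≫ (X ⊗ X).hom) pt = s
    rw [Scheme.Hom.comp_apply]
    exact congrArg _ (hp pt)
  let x₁ : Over.mk tt ⟶ X := p ≫ fst X X
  let x₂ : Over.mk tt ⟶ X := p ≫ snd X X
  let D : Set (Over.mk tt ⊗ X).left := (snd (Over.mk tt) X).left ⁻¹' U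
  have hDo : IsOpen D := U.isOpen.preimage (snd (Over.mk tt) X).left.continuous
  have hD : Dense D := K204.GeomFib.dense_preimage X.hom tt hs hU2
  have hX : LocallyOfFiniteType (fst (Over.mk tt) X).left := K204.GeomFib.lft X.hom tt hft
  have hd₁ := K204.OrbDense.dense_preimage a tt hΦ hX x₁ hDo hD
  have hd₂ := K204.OrbDense.dense_preimage a tt hΦ hX x₂ hDo hD
  have ho₁ : IsOpen ((Groth.Agent.Sga3C.HomogIrr.orb a x₁).left ⁻¹' D) :=
    hDo.preimage (Groth.Agent.Sga3C.HomogIrr.orb a x₁).left.continuous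
  let V₀ : Set (Over.mk tt ⊗ G).left := (snd (Over.mk tt) G).left ⁻¹' W
  have hV₀ : IsOpen V₀ := W.isOpen.preimage (snd (Over.mk tt) G).left.continuous
  have hV₀' : V₀.Nonempty := by
    refine ⟨(lift (𝟙 (Over.mk tt)) (1 : Over.mk tt ⟶ G)).left pt, ?_⟩
    change (snd (Over.mk tt) G).left _ ∈ W
    rw [← Scheme.Hom.comp_apply, ← Over.comp_left, lift_snd, Hom.one_def, Over.comp_left,
      Scheme.Hom.comp_apply]
    exact hW1 _
  obtain ⟨v, hv⟩ := hd₁.inter_open_nonempty V₀ hV₀ hV₀'
  obtain ⟨w', ⟨hw0, hw1⟩, hw2⟩ := hd₂.inter_open_nonempty _ (hV₀.inter ho₁) ⟨v, hv⟩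
  let w : ((X ⊗ X) ⊗ G).left := (p ▷ G).left w'
  have hwt : (fst (X ⊗ X) G).left w = t := by
    rw [← Scheme.Hom.comp_apply, ← Over.comp_left, whiskerRight_fst, Over.comp_left,
      Scheme.Hom.comp_apply]
    exact hp _
  have hwW : (snd (X ⊗ X) G).left w ∈ W := by
    rw [← Scheme.Hom.comp_apply, ← Over.comp_left, whiskerRight_snd]
    exact hw0
  refine K204.ActClos.mem_range a U hU1 t ht w hwt ?_ ?_ ?_
  · intro O hO
    rw [← hwt]
    exact K204.OpenOn.image_mem_nhds W hW2 _ w hwW O hO
  · have h1 : (p ▷ G) ≫ K204.ActClos.α a =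
        Groth.Agent.Sga3C.HomogIrr.orb a x₁ ≫ snd (Over.mk tt) X := by
      rw [Groth.Agent.Sga3C.HomogIrr.orb_snd, K204.ActClos.α, comp_lift_assoc, whiskerRight_snd,
        whiskerRight_fst_assoc]
    rw [← Scheme.Hom.comp_apply, ← Over.comp_left, h1, Over.comp_left, Scheme.Hom.comp_apply]
    exact hw1
  · have h1 : (p ▷ G) ≫ K204.ActClos.β a =
        Groth.Agent.Sga3C.HomogIrr.orb a x₂ ≫ snd (Over.mk tt) X := by
      rw [Groth.Agent.Sga3C.HomogIrr.orb_snd, K204.ActClos.β, comp_lift_assoc, whiskerRight_snd,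
        whiskerRight_fst_assoc]
    rw [← Scheme.Hom.comp_apply, ← Over.comp_left, h1, Over.comp_left, Scheme.Hom.comp_apply]
    exact hw2

end Groth.Agent.S5332
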