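import Groth.Statements.S5333
import Groth.Agent.Ega1.ReducedSub
import Groth.Agent.Sga3C.GrpSep

set_option autoImplicit false
universe u
open CategoryTheory CategoryTheory.Limits MonoidalCategory CartesianMonoidalCategory MonObj GrpObj AlgebraicGeometry
open SGA3

namespace Groth.Agent.S5333

/-- (i) ⟺ (iii) ⟺ (iv'): let f : X → S be a morphism of schemes. Then X is separated over S if and only
if for every reduced scheme T and every two morphisms T → X with the same composite to S which agree
on a dense open subscheme of T are equal; and X is separated over S if and only if every two points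
of X in the same fibre over S lie in a common open subscheme of X which is separated over S. -/
theorem result (X S : Scheme.{u}) (f : X ⟶ S) :
    (IsSeparated f ↔ ∀ (T : Scheme.{u}) [IsReduced T] (g₁ g₂ : T ⟶ X) (U : T.Opens), g₁ ≫ f = g₂ ≫ f →
      Dense (U : Set T) → U.ι ≫ g₁ = U.ι ≫ g₂ → g₁ = g₂) ∧
    (IsSeparated f ↔ ∀ x₁ x₂ : X, f.base x₁ = f.base x₂ →
      ∃ V : X.Opens, x₁ ∈ V ∧ x₂ ∈ V ∧ IsSeparated (V.ι ≫ f)) := by
  have himm : IsImmersion (pullback.diagonal f) := inferInstance
  have hsep : IsClosed (Set.range (pullback.diagonal f)) → IsSeparated f := fun h =>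
    ⟨IsClosedImmersion.of_isPreimmersion _ h⟩
  refine ⟨⟨fun _ T _ g₁ g₂ U hg hU hgU => ?_, fun H => hsep ?_⟩,
    ⟨fun _ x₁ x₂ _ => ⟨⊤, trivial, trivial, ?_⟩, fun H => hsep ?_⟩⟩
  · have : IsDominant U.ι := Opens.isDominant_ι hU
    exact ext_of_isDominant_of_isSeparated f hg U.ι hgU
  · let C : TopologicalSpace.Closeds ↥(pullback f f) :=
      ⟨closure (Set.range (pullback.diagonal f)), isClosed_closure⟩
    let T : Scheme.{u} := (Scheme.IdealSheafData.vanishingIdeal C).subscheme
    let i : T ⟶ pullback f f := (Scheme.IdealSheafData.vanishingIdeal C).subschemeι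
    have hred : IsReduced T :=
      Groth.Agent.Ega1.ReducedSub.isReduced_subscheme_vanishingIdeal C
    have hrange : Set.range i = closure (Set.range (pullback.diagonal f)) := by
      change Set.range (Scheme.IdealSheafData.vanishingIdeal C).subschemeι = _
      rw [Scheme.IdealSheafData.range_subschemeι]
      simp [C]
    have hi : IsClosedImmersion i :=
      inferInstanceAs (IsClosedImmersion (Scheme.IdealSheafData.vanishingIdeal C).subschemeι)
    let U : T.Opens := i ⁻¹ᵁ (pullback.diagonal f).coborderRange
    have hUsub : Set.range (U.ι ≫ i) ⊆ Set.range (pullback.diagonal f) := by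
      rintro _ ⟨t, rfl⟩
      rw [← coborder_inter_closure (s := Set.range (pullback.diagonal f))]
      refine ⟨t.2, ?_⟩
      rw [← hrange]
      exact ⟨U.ι t, rfl⟩
    have hUdense : Dense (U : Set T) := by
      intro t
      rw [mem_closure_iff]
      intro N hN ht
      obtain ⟨N', hN', rfl⟩ := i.isEmbedding.isInducing.isOpen_iff.mp hN
      have h1 : i t ∈ closure (Set.range (pullback.diagonal f)) := by
        rw [← hrange]; exact ⟨t, rfl⟩
      obtain ⟨_, hx1, x, rfl⟩ := mem_closure_iff.mp h1 N' hN' ht
      obtain ⟨t', ht'⟩ : pullback.diagonal f x ∈ Set.range i := by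
        rw [hrange]; exact subset_closure ⟨x, rfl⟩
      refine ⟨t', ?_, ?_⟩
      · change i t' ∈ N'
        rw [ht']; exact hx1
      · change i t' ∈ (pullback.diagonal f).coborderRange
        rw [ht']
        exact subset_coborder ⟨x, rfl⟩
    obtain ⟨g, hg⟩ := Groth.Agent.Ega1.ReducedSub.exists_factor_of_range_subset (U.ι ≫ i)
      (pullback.diagonal f) hUsub
    have e1 : U.ι ≫ i ≫ pullback.fst f f = g := by
      rw [← Category.assoc, ← hg, Category.assoc, pullback.diagonal_fst, Category.comp_id]
    have e2 : U.ι ≫ i ≫ pullback.snd f f = g := by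
      rw [← Category.assoc, ← hg, Category.assoc, pullback.diagonal_snd, Category.comp_id]
    have e3 : i ≫ pullback.fst f f = i ≫ pullback.snd f f :=
      H T _ _ U (by rw [Category.assoc, Category.assoc, pullback.condition]) hUdense
        (e1.trans e2.symm)
    have e4 : i = (i ≫ pullback.fst f f) ≫ pullback.diagonal f := by
      apply pullback.hom_ext
      · simp
      · simp [e3]
    rw [← closure_subset_iff_isClosed, ← hrange, e4]
    rintro _ ⟨t, rfl⟩
    exact ⟨(i ≫ pullback.fst f f) t, rfl⟩
  · infer_instance
  · rw [← closure_subset_iff_isClosed]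
    intro w hw
    obtain ⟨V, h1, h2, hV⟩ := H (pullback.fst f f w) (pullback.snd f f w) (by
      change f (pullback.fst f f w) = f (pullback.snd f f w)
      rw [← Scheme.Hom.comp_apply, pullback.condition, Scheme.Hom.comp_apply])
    exact Groth.Agent.Sga3C.GrpSep.mem_range_diagonal_of_mem_closure f V w h1 h2 hw

end Groth.Agent.S5333
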