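import Groth.Statements.S5334
import Groth.Agent.SGA3.K204.ActClos
import Groth.Agent.SGA3.K204.Neutral
import Groth.Agent.SGA3.K204.NeutralBC

set_option autoImplicit false
universe u
open CategoryTheory CategoryTheory.Limits MonoidalCategory CartesianMonoidalCategory MonObj GrpObj AlgebraicGeometry
open SGA3

namespace Groth.Agent.S5334

/-- Let G be an S-group scheme locally of finite presentation over S such that s ↦ dim G_s is locally
constant on S, acting on an S-scheme X, and let U be an open subscheme of X separated over S. Let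
G⁰·U be the image under the action G ×_S X → X of the set of points whose projection to G lies in
the union G⁰ of the neutral components of the fibres and whose projection to X lies in U. Then G⁰·U
is open in X and the open subscheme it carries is separated over S. -/
theorem result (S : Scheme.{u}) (G X : Over S) [GrpObj G]
    [LocallyOfFinitePresentation G.hom]
    (hdim : IsLocallyConstant (fun s : S => topologicalKrullDim ↥(G.hom.base ⁻¹' {s})))
    (a : AlgGrp.Action G X) (U : X.left.Opens) (hU : IsSeparated (U.ι ≫ X.hom)) :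
    ∃ V : X.left.Opens, (V : Set X.left) =
        a.act.left.base '' {z : ↥(G ⊗ X).left | (fst G X).left.base z ∈ SGA3x.neutralSet G ∧ (snd G X).left.base z ∈ U} ∧
      IsSeparated (V.ι ≫ X.hom) := by
  have hflip1 : Groth.Agent.Sga3C.HomogIrr.flipAct a ≫ fst G X = (fst G X)⁻¹ := lift_fst _ _
  have hflip2 : Groth.Agent.Sga3C.HomogIrr.flipAct a ≫ snd G X = a.act := lift_snd _ _
  have hflip3 := Groth.Agent.Sga3C.HomogIrr.flipAct_act a
  -- the involution `(g, x) ↦ (g⁻¹, g x)` on points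
  have hflip : ∀ z : ↥(G ⊗ X).left, (fst G X).left z ∈ SGA3x.neutralSet G →
      ∃ z' : ↥(G ⊗ X).left, (fst G X).left z' ∈ SGA3x.neutralSet G ∧
        (snd G X).left z' = a.act.left z ∧ a.act.left z' = (snd G X).left z := by
    intro z hz
    refine ⟨(Groth.Agent.Sga3C.HomogIrr.flipAct a).left z, ?_, ?_, ?_⟩
    · rw [← Scheme.Hom.comp_apply, ← Over.comp_left, hflip1]
      exact K204.Neutral.inv_mem _ z hz
    · rw [← Scheme.Hom.comp_apply, ← Over.comp_left, hflip2]
    · rw [← Scheme.Hom.comp_apply, ← Over.comp_left, hflip3]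
  let V₀ : Set X.left := a.act.left.base '' {z : ↥(G ⊗ X).left |
    (fst G X).left.base z ∈ SGA3x.neutralSet G ∧ (snd G X).left.base z ∈ U}
  have hV₀ : IsOpen V₀ := by
    rw [isOpen_iff_mem_nhds]
    rintro _ ⟨z, ⟨hz1, hz2⟩, rfl⟩
    obtain ⟨z', h1, h2, h3⟩ := hflip z hz1
    have hO : a.act.left ⁻¹' (U : Set X.left) ∈ nhds z' := by
      refine (U.isOpen.preimage a.act.left.continuous).mem_nhds ?_
      rw [Set.mem_preimage, h3]
      exact hz2
    have h4 := K204.NeutralBC.image_inter_mem_nhds X.hom G hdim z' h1 hO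
    change _ ∈ nhds ((snd G X).left z') at h4
    rw [h2] at h4
    refine Filter.mem_of_superset h4 ?_
    rintro _ ⟨w, ⟨hw1, hw2⟩, rfl⟩
    obtain ⟨w', h5, h6, h7⟩ := hflip w hw2
    exact ⟨w', ⟨h5, by rw [h6]; exact hw1⟩, h7⟩
  refine ⟨⟨V₀, hV₀⟩, rfl, K204.ActClos.isSeparated_of_forall X.hom _ ?_⟩
  intro t ht1 ht2 ht
  change t ∈ Set.range (K204.ActClos.dg X).left
  let T : Over S := X ⊗ X
  let α' : G ⊗ T ⟶ X := (G ◁ fst X X) ≫ a.act
  let β' : G ⊗ T ⟶ X := (G ◁ snd X X) ≫ a.act
  let q' : G ⊗ T ⟶ T := snd G T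
  -- points of the neutral component over `t` moving the two projections into `U`
  have key : ∀ p : T ⟶ X, p.left t ∈ V₀ → ∃ w : (G ⊗ T).left,
      (fst G T).left w ∈ SGA3x.neutralSet G ∧ q'.left w = t ∧
        ((G ◁ p) ≫ a.act).left w ∈ U := by
    rintro p ⟨z, ⟨hz1, hz2⟩, hz3⟩
    obtain ⟨z', h1, h2, h3⟩ := hflip z hz1
    obtain ⟨w, hw1, hw2⟩ := Groth.Agent.Sga3C.HomogIrr.isPullback_surj
      (Groth.Agent.Sga3C.SchemImage.isPullback_whiskerLeft_left p G) z' t (by
        rw [h2]; exact hz3)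
    refine ⟨w, ?_, hw2, ?_⟩
    · have h4 : fst G T = (G ◁ p) ≫ fst G X := by simp
      rw [h4, Over.comp_left, Scheme.Hom.comp_apply, hw1]
      exact h1
    · rw [Over.comp_left, Scheme.Hom.comp_apply, hw1, h3]
      exact hz2
  let N' := Groth.Agent.Sga3.H820.NeutralOpen.neutral (Red.bc T.hom G) t
  have hN' : ∀ w : (G ⊗ T).left, w ∈ N' ↔ (fst G T).left w ∈ SGA3x.neutralSet G ∧ q'.left w = t := by
    intro w
    have hbc : SGA3x.neutralSet (Red.bc T.hom G) =
        (pullback.fst G.hom T.hom) ⁻¹' SGA3x.neutralSet G := K203.Basic.neutralSet_bc T.hom G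
    constructor
    · intro hw
      have h1 : q'.left w = t := Groth.Agent.Sga3.H820.NeutralOpen.hom_of_mem (Red.bc T.hom G) hw
      refine ⟨?_, h1⟩
      have h2 : w ∈ SGA3x.neutralSet (Red.bc T.hom G) := by
        refine (Groth.Agent.Sga3.H820.NeutralOpen.mem_neutralSet_iff (Red.bc T.hom G) w).mpr ?_
        have h3 : (Red.bc T.hom G).hom w = t := h1
        rw [h3]
        exact hw
      rw [hbc] at h2
      exact h2
    · rintro ⟨h1, rfl⟩
      have h2 : w ∈ SGA3x.neutralSet (Red.bc T.hom G) := by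
        rw [hbc]
        exact h1
      exact (Groth.Agent.Sga3.H820.NeutralOpen.mem_neutralSet_iff (Red.bc T.hom G) w).mp h2
  have hirr : IsPreirreducible N' :=
    Groth.Agent.Sga3.H820.NeutralOpen.isPreirreducible_neutral (Red.bc T.hom G) t
  obtain ⟨w₁, h11, h12, h13⟩ := key (fst X X) ht1
  obtain ⟨w₂, h21, h22, h23⟩ := key (snd X X) ht2
  obtain ⟨w', hw'N, hw'α, hw'β⟩ := hirr (α'.left ⁻¹' U) (β'.left ⁻¹' U)
    (U.isOpen.preimage α'.left.continuous) (U.isOpen.preimage β'.left.continuous)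
    ⟨w₁, (hN' w₁).mpr ⟨h11, h12⟩, h13⟩ ⟨w₂, (hN' w₂).mpr ⟨h21, h22⟩, h23⟩
  obtain ⟨hw'1, hw'2⟩ := (hN' w').mp hw'N
  let b : G ⊗ T ⟶ T ⊗ G := lift (snd G T) (fst G T)
  have hb1 : b ≫ fst T G = q' := lift_fst _ _
  have hwt : (fst T G).left (b.left w') = t := by
    rw [← Scheme.Hom.comp_apply, ← Over.comp_left, hb1]
    exact hw'2
  refine K204.ActClos.mem_range a U hU t ht (b.left w') hwt ?_ ?_ ?_
  · intro O hO
    have h1 : b.left ⁻¹' O ∈ nhds w' := b.left.continuous.continuousAt hO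
    have h2 := K204.NeutralBC.image_inter_mem_nhds T.hom G hdim w' hw'1 h1
    change _ ∈ nhds (q'.left w') at h2
    rw [hw'2] at h2
    refine Filter.mem_of_superset h2 ?_
    rintro _ ⟨v, ⟨hv, -⟩, rfl⟩
    refine ⟨b.left v, hv, ?_⟩
    rw [← Scheme.Hom.comp_apply, ← Over.comp_left]
    exact congrArg (fun k : G ⊗ T ⟶ T => k.left v) hb1
  · have h1 : b ≫ K204.ActClos.α a = α' := by
      simp only [K204.ActClos.α, α', b]
      rw [comp_lift_assoc, lift_snd, lift_fst_assoc]
      congr 1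
    rw [← Scheme.Hom.comp_apply, ← Over.comp_left, h1]
    exact hw'α
  · have h1 : b ≫ K204.ActClos.β a = β' := by
      simp only [K204.ActClos.β, β', b]
      rw [comp_lift_assoc, lift_snd, lift_fst_assoc]
      congr 1
    rw [← Scheme.Hom.comp_apply, ← Over.comp_left, h1]
    exact hw'β

end Groth.Agent.S5334
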