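import Groth.Statements.S5335
import Groth.Agent.Sga3C.ArtinBase
import Groth.Agent.Sga3C.SchemImage

set_option autoImplicit false
universe u
open CategoryTheory CategoryTheory.Limits MonoidalCategory CartesianMonoidalCategory MonObj GrpObj AlgebraicGeometry
open SGA3

namespace Groth.Agent.S5335

/-- Let A be a local artinian ring and f : X' → X, g : Y' → Y two quasi-compact dominant morphisms of
schemes over A. Then the product morphism f ×_A g : X' ×_A Y' → X ×_A Y is dominant (and
quasi-compact). -/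
theorem result (A : Type u) [CommRing A] [IsArtinianRing A] [IsLocalRing A] (X X' Y Y' : Over (Spec (CommRingCat.of A)))
    (f : X' ⟶ X) (g : Y' ⟶ Y) [QuasiCompact f.left] [QuasiCompact g.left]
    (hf : DenseRange f.left.base) (hg : DenseRange g.left.base) :
    DenseRange (f ⊗ₘ g).left.base ∧ QuasiCompact (f ⊗ₘ g).left := by
  have hX : UniversallyOpen X.hom :=
    Groth.Agent.Sga3C.ArtinBase.universallyOpen_of_isArtinianRing A _
  have hY' : UniversallyOpen Y'.hom :=
    Groth.Agent.Sga3C.ArtinBase.universallyOpen_of_isArtinianRing A _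
  have h1 : UniversallyOpen (fst X Y').left :=
    inferInstanceAs (UniversallyOpen (pullback.fst X.hom Y'.hom))
  have h2 : UniversallyOpen (snd X Y).left :=
    inferInstanceAs (UniversallyOpen (pullback.snd X.hom Y.hom))
  have key : ∀ {P Z X₁ Y₁ : Scheme.{u}} {a : P ⟶ X₁} {b : P ⟶ Z} {c : X₁ ⟶ Y₁} {p : Z ⟶ Y₁},
      IsPullback a b c p → UniversallyOpen p → DenseRange c.base → DenseRange b.base := by
    intro P Z X₁ Y₁ a b c p hpb hp hc
    rw [DenseRange, dense_iff_inter_open]
    rintro O hO ⟨z, hz⟩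
    obtain ⟨_, ⟨z', hz', rfl⟩, x, hx⟩ := dense_iff_inter_open.mp hc (p.base '' O)
      (p.isOpenMap _ hO) ⟨_, z, hz, rfl⟩
    obtain ⟨w, -, hw⟩ := Scheme.exists_preimage_of_isPullback hpb x z' hx
    exact ⟨z', hz', w, hw⟩
  have e : f ⊗ₘ g = (f ▷ Y') ≫ (X ◁ g) := tensorHom_def f g
  have hpb1 := (Groth.Agent.Sga3C.SchemImage.isPullback_whiskerRight_left f Y').flip
  have hpb2 := (Groth.Agent.Sga3C.SchemImage.isPullback_whiskerLeft_left g X).flip
  rw [e]
  refine ⟨?_, ?_⟩
  · rw [Over.comp_left, Scheme.Hom.comp_base, TopCat.coe_comp]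
    exact (key hpb2 h2 hg).comp (key hpb1 h1 hf) (X ◁ g).left.continuous
  · have h3 : QuasiCompact (f ▷ Y').left :=
      MorphismProperty.of_isPullback (P := @QuasiCompact) hpb1 ‹_›
    have h4 : QuasiCompact (X ◁ g).left :=
      MorphismProperty.of_isPullback (P := @QuasiCompact) hpb2 ‹_›
    rw [Over.comp_left]
    infer_instance

end Groth.Agent.S5335
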