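import Groth.Statements.S5336
import Groth.Agent.Sga3C.FlatHomog

set_option autoImplicit false
universe u
open CategoryTheory CategoryTheory.Limits MonoidalCategory CartesianMonoidalCategory MonObj GrpObj AlgebraicGeometry
open SGA3

namespace Groth.Agent.S5336

/-- Let A be a local artinian ring, G an A-group scheme which is flat and locally of finite type over A,
and u : G → H a homomorphism of A-group schemes. If u is flat at some point x of G (the local ring
of G at x is flat over the local ring of H at u(x)), then u is flat. -/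
theorem result (A : Type u) [CommRing A] [IsArtinianRing A] [IsLocalRing A] (G H : Over (Spec (CommRingCat.of A))) [GrpObj G] [GrpObj H]
    [Flat G.hom] [LocallyOfFiniteType G.hom] (u : G ⟶ H) [IsMonHom u]
    (h : ∃ x : G.left, (u.left.stalkMap x).hom.Flat) : Flat u.left := by
  obtain ⟨x₀, hx₀⟩ := h
  refine Groth.Agent.Sga3C.FlatPt.flat_of_forall_isFlatAt _ fun x => ?_
  refine Groth.Agent.Sga3C.FlatHomog.isFlatAt_of_isFlatAt u
    (Groth.Agent.Sga3C.GrpBasic.mulLeftShear u) ?_ x x₀ ?_
    ((Groth.Agent.Sga3C.FlatPt.isFlatAt_iff_stalkMap _ _).mpr hx₀)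
  · ext1
    · simp
    · have h1 : (Groth.Agent.Sga3C.GrpBasic.mulLeftShear (𝟙 G)).hom ≫ snd G G ≫ u =
          (fst G G * snd G G) ≫ u := by
        rw [← Category.assoc, Groth.Agent.Sga3C.GrpBasic.mulLeftShear_hom_snd, Category.comp_id]
      simp [MonObj.comp_mul, h1, MonObj.mul_comp]
  · exact Subsingleton.elim (α := PrimeSpectrum A) _ _

end Groth.Agent.S5336
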