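import Groth.Statements.S5337
import Groth.Agent.SGA3.K204.ArtHom
import Groth.Agent.S1310
import Groth.Agent.S1312
import Groth.Agent.S1320
import Groth.Agent.S1321
import Groth.Agent.S1322
import Groth.Agent.Etbase.FpqcDescent

set_option autoImplicit false
universe u
open CategoryTheory CategoryTheory.Limits MonoidalCategory CartesianMonoidalCategory MonObj GrpObj AlgebraicGeometry
open SGA3

namespace Groth.Agent.S5337

/-- Quasi-finite, unramified, smooth and etale cases: let A be a local artinian ring, G an A-group
scheme which is flat and locally of finite type over A, and u : G → H a homomorphism of A-group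
schemes. If u is locally quasi-finite (resp. unramified, that is formally unramified and locally of
finite presentation, resp. smooth, resp. etale) on some nonempty open subscheme of G, then u is
locally quasi-finite (resp. unramified, resp. smooth, resp. etale). (Here u is automatically locally
of finite type.) -/
theorem result (A : Type u) [CommRing A] [IsArtinianRing A] [IsLocalRing A] (G H : Over (Spec (CommRingCat.of A))) [GrpObj G] [GrpObj H]
    [Flat G.hom] [LocallyOfFiniteType G.hom] (u : G ⟶ H) [IsMonHom u] (W : G.left.Opens) (hW : (W : Set G.left).Nonempty) :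
    (LocallyQuasiFinite (W.ι ≫ u.left) → LocallyQuasiFinite u.left) ∧
    (FormallyUnramified (W.ι ≫ u.left) → LocallyOfFinitePresentation (W.ι ≫ u.left) →
      FormallyUnramified u.left ∧ LocallyOfFinitePresentation u.left) ∧
    (Smooth (W.ι ≫ u.left) → Smooth u.left) ∧ (Etale (W.ι ≫ u.left) → Etale u.left) := by
  have hth := K204.ArtThick.thick_clPt A
  have hfl : Flat (u.left ≫ H.hom) := by rw [Over.w u]; infer_instance
  have hlft : LocallyOfFiniteType u.left := by
    have : LocallyOfFiniteType (u.left ≫ H.hom) := by rw [Over.w u]; infer_instance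
    exact locallyOfFiniteType_of_comp u.left H.hom
  have hG := K204.ArtHom.isPullback_G u
  have hH := K204.ArtHom.isPullback_H (H := H)
  have hc := K204.ArtHom.comm u
  have hpb := (Groth.Agent.Sga3C.SchemImage.isPullback_whiskerLeft_left u (K204.ArtHom.T₀ A)).flip
  have hthH : MoreMor.IsFiniteOrderThickening (snd (K204.ArtHom.T₀ A) H).left :=
    K204.ArtThick.isFiniteOrderThickening_of_isPullback hH hth
  refine ⟨fun h => ?_, fun h1 h2 => ?_, fun h => ?_, fun h => ?_⟩
  · have hD := Groth.Agent.Etbase.FpqcDescent.descendsAlong_locallyQuasiFinite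
    have h3 := K204.ArtHom.desc_T u (K204.ArtHom.spread_T u W hW h)
    have h4 : LocallyOfFiniteType (K204.ArtHom.T₀ A ◁ u).left :=
      MorphismProperty.of_isPullback hpb hlft
    exact (Groth.Agent.S1312.result _ _ _ _ hthH.1 hpb).mp h3
  · have h3 := K204.ArtHom.desc_T u (K204.ArtHom.spread_T u W hW h1)
    have h4 := K204.ArtHom.desc_T u (K204.ArtHom.spread_T u W hW h2)
    exact ⟨(Groth.Agent.S1310.result _ _ _ _ hthH hpb).mp h3,
      (Groth.Agent.S1320.result _ _ _ _ _ _ _ hth hG hH hc).mp h4⟩
  · have h3 := K204.ArtHom.desc_T u (K204.ArtHom.spread_T u W hW h)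
    exact (Groth.Agent.S1321.result _ _ _ _ _ _ _ hth hG hH hc).mp h3
  · have h3 := K204.ArtHom.desc_T u (K204.ArtHom.spread_T u W hW h)
    exact (Groth.Agent.S1322.result _ _ _ _ _ _ _ hth hG hH hc).mp h3

end Groth.Agent.S5337
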