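import Groth.Statements.S5338
import Groth.Agent.Flat2D.NilpAlg

set_option autoImplicit false
universe u
open CategoryTheory CategoryTheory.Limits MonoidalCategory CartesianMonoidalCategory MonObj GrpObj AlgebraicGeometry
open SGA3

namespace Groth.Agent.S5338

/-- Let A → B → C be homomorphisms of commutative rings and n a nilpotent ideal of A; write nB and nC
for the extended ideals. (i) If C/nC is a (B/nB)-algebra of finite type, then C is a B-algebra of
finite type. (ii) If moreover C is flat over A and C/nC is a (B/nB)-algebra of finite presentation,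
then C is a B-algebra of finite presentation. -/
theorem result (A B C : Type u) [CommRing A] [CommRing B] [CommRing C]
    [Algebra A B] [Algebra B C] [Algebra A C] [IsScalarTower A B C] (n : Ideal A) (hn : IsNilpotent n) :
    (Algebra.FiniteType (B ⧸ n.map (algebraMap A B)) (C ⧸ (n.map (algebraMap A B)).map (algebraMap B C)) →
      Algebra.FiniteType B C) ∧
    (Module.Flat A C →
      Algebra.FinitePresentation (B ⧸ n.map (algebraMap A B)) (C ⧸ (n.map (algebraMap A B)).map (algebraMap B C)) →
      Algebra.FinitePresentation B C) := by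
  have hnB : IsNilpotent (n.map (algebraMap A B)) := by
    obtain ⟨m, hm⟩ := hn
    exact ⟨m, by rw [← Ideal.map_pow, hm]; simp⟩
  have hcomp : (Ideal.Quotient.mk ((n.map (algebraMap A B)).map (algebraMap B C))).comp
      (algebraMap B C) =
      (algebraMap (B ⧸ n.map (algebraMap A B)) (C ⧸ (n.map (algebraMap A B)).map (algebraMap B C))).comp
        (Ideal.Quotient.mk (n.map (algebraMap A B))) := by
    ext x
    rfl
  refine ⟨fun h => ?_, fun hflat h => ?_⟩
  · have := Groth.Agent.Flat2D.NilpAlg.finiteType_of_nilpotent
      (Ideal.Quotient.mk (n.map (algebraMap A B)))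
      (Ideal.Quotient.mk ((n.map (algebraMap A B)).map (algebraMap B C))) (algebraMap B C)
      (algebraMap (B ⧸ n.map (algebraMap A B)) (C ⧸ (n.map (algebraMap A B)).map (algebraMap B C)))
      Ideal.Quotient.mk_surjective Ideal.Quotient.mk_surjective
      (by rwa [Ideal.mk_ker]) (by rw [Ideal.mk_ker, Ideal.mk_ker]) hcomp
      (RingHom.finiteType_algebraMap.mpr h)
    exact RingHom.finiteType_algebraMap.mp this
  · have := Groth.Agent.Flat2D.NilpAlg.finitePresentation_of_nilpotent (Ideal.Quotient.mk n)
      (Ideal.Quotient.mk (n.map (algebraMap A B)))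
      (Ideal.Quotient.mk ((n.map (algebraMap A B)).map (algebraMap B C))) (algebraMap A B)
      (algebraMap B C)
      (algebraMap (B ⧸ n.map (algebraMap A B)) (C ⧸ (n.map (algebraMap A B)).map (algebraMap B C)))
      Ideal.Quotient.mk_surjective Ideal.Quotient.mk_surjective
      (by rwa [Ideal.mk_ker]) (by rw [Ideal.mk_ker, Ideal.mk_ker])
      (by rw [Ideal.mk_ker, Ideal.mk_ker, Ideal.map_map]) hcomp
      (by rw [← IsScalarTower.algebraMap_eq]; exact RingHom.flat_algebraMap_iff.mpr hflat)
      (RingHom.finitePresentation_algebraMap.mpr h)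
    exact RingHom.finitePresentation_algebraMap.mp this

end Groth.Agent.S5338
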