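import Groth.Statements.S5341
import Groth.Agent.Fdesc.GrpDimHom
import Groth.Agent.VarietyA.LocDim

set_option autoImplicit false
universe u
open CategoryTheory CategoryTheory.Limits MonoidalCategory CartesianMonoidalCategory MonObj GrpObj AlgebraicGeometry
open SGA3

namespace Groth.Agent.S5341

/-- Let G be a group scheme locally of finite type over a field k. Then (i) every irreducible component
of G has the same dimension as G; (ii) for every point g of G the local dimension of G at g (the
infimum of the dimensions of the open neighbourhoods of g) equals dim G. -/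
theorem result (k : Type u) [Field k] (G : Over (Spec (CommRingCat.of k))) [GrpObj G]
    [LocallyOfFiniteType G.hom] :
    (∀ Z ∈ irreducibleComponents ↥G.left, topologicalKrullDim ↥Z = topologicalKrullDim ↥G.left) ∧
    (∀ g : G.left, FlatMor.localDim ↥G.left g = topologicalKrullDim ↥G.left) := by
  obtain ⟨d, hd, hgen⟩ := Groth.Agent.Fdesc.GrpDimHom.rtd_eq G
  have hT := isAffineOpen_top (Spec (CommRingCat.of k))
  have hF := Groth.Agent.Fdesc.GrpDimHom.isField_top (K := k)
  -- the generic point of an irreducible component has no proper generization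
  have hmin : ∀ Z ∈ irreducibleComponents ↥G.left, ∀ z : G.left, IsGenericPoint z Z →
      Groth.Agent.Fdesc.GrpDimHom.IsGen z := by
    intro Z hZ z hz w hw
    have h1 : closure {z} ⊆ closure {w} := specializes_iff_closure_subset.mp hw
    have h2 : closure {w} ⊆ Z := by
      refine hZ.2 isIrreducible_singleton.closure ?_
      rw [← hz.def]; exact h1
    have h3 : z ⤳ w := by
      rw [specializes_iff_closure_subset, hz.def]; exact h2
    exact hw.antisymm h3 |>.eq
  refine ⟨fun Z hZ => ?_, fun g => le_antisymm ?_ ?_⟩
  · obtain ⟨z, hz⟩ := QuasiSober.sober hZ.1 (isClosed_of_mem_irreducibleComponents Z hZ)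
    obtain ⟨n, hn, hn'⟩ := Groth.Agent.CycB.RelDim.exists_dim_closure G.hom hT hF z
    have h1 := hgen z (hmin Z hZ z hz)
    rw [hn] at h1
    rw [hd, ← hz.def, hn']
    exact_mod_cast h1
  · exact Groth.Agent.VarietyB.DimTop.localDim_le_dim g
  · obtain ⟨z, hz⟩ := QuasiSober.sober
      (irreducibleComponent_mem_irreducibleComponents g).1 isClosed_irreducibleComponent
    have hzg : z ⤳ g := by
      rw [specializes_iff_mem_closure, hz.def]; exact mem_irreducibleComponent
    obtain ⟨n, hn, hn'⟩ := Groth.Agent.VarietyA.LocDim.le_localDim_of_specializes G.hom hT hF g z hzg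
    have h1 := hgen z (hmin _ (irreducibleComponent_mem_irreducibleComponents g) z hz)
    rw [hn] at h1
    rw [hd]
    refine le_trans ?_ hn'
    exact_mod_cast h1.ge

end Groth.Agent.S5341
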