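import Groth.Statements.S5342
import Groth.Agent.S1324
import Groth.Agent.Sga3C.ArtinBase

set_option autoImplicit false
universe u
open CategoryTheory CategoryTheory.Limits MonoidalCategory CartesianMonoidalCategory MonObj GrpObj AlgebraicGeometry
open SGA3

namespace Groth.Agent.S5342

/-- Let X and Y be connected schemes over a field k such that X has a k-rational point (a section of X →
Spec k). Then X ×_k Y is connected. -/
theorem result (k : Type u) [Field k] (X Y : Scheme.{u})
    (f : X ⟶ Spec (CommRingCat.of k)) (g : Y ⟶ Spec (CommRingCat.of k)) [ConnectedSpace X] [ConnectedSpace Y]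
    (x : Spec (CommRingCat.of k) ⟶ X) (hx : x ≫ f = 𝟙 _) : ConnectedSpace ↥(pullback f g) := by
  have hsub : Subsingleton (Spec (CommRingCat.of k)) :=
    inferInstanceAs (Subsingleton (PrimeSpectrum k))
  let s' : Y ⟶ pullback f g := pullback.lift (g ≫ x) (𝟙 Y) (by
    rw [Category.assoc, hx, Category.comp_id, Category.id_comp])
  have h1 : s' ≫ pullback.snd f g = 𝟙 Y := pullback.lift_snd _ _ _
  have h2 : s' ≫ pullback.fst f g = g ≫ x := pullback.lift_fst _ _ _
  have hsc := Groth.Agent.S1324.result f x hx (pullback.snd f g) (pullback.fst f g) g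
    (IsPullback.of_hasPullback f g) s' h1 h2
  have hX : MoreMor.sectionComponents f x = Set.univ := by
    rw [Set.eq_univ_iff_forall]
    intro z
    have h3 : f ⁻¹' {f z} = Set.univ := by
      rw [Set.eq_univ_iff_forall]
      intro w
      exact Subsingleton.elim _ _
    change z ∈ connectedComponentIn (f ⁻¹' {f z}) (x (f z))
    rw [h3, connectedComponentIn_univ, PreconnectedSpace.connectedComponent_eq_univ]
    trivial
  rw [hX, Set.preimage_univ] at hsc
  have hfib : ∀ y : Y, _root_.IsConnected ((pullback.snd f g) ⁻¹' {y}) := by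
    intro y
    have h4 : (pullback.snd f g) (s' y) = y := by
      rw [← Scheme.Hom.comp_apply, h1]; rfl
    refine ⟨⟨s' y, h4⟩, ?_⟩
    have h5 : (pullback.snd f g) ⁻¹' {y} = connectedComponentIn ((pullback.snd f g) ⁻¹' {y}) (s' y) := by
      apply subset_antisymm _ (connectedComponentIn_subset _ _)
      intro z hz
      have h6 : z ∈ MoreMor.sectionComponents (pullback.snd f g) s' := by rw [hsc]; trivial
      change z ∈ connectedComponentIn ((pullback.snd f g) ⁻¹' {(pullback.snd f g) z})
        (s' ((pullback.snd f g) z)) at h6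
      rwa [show (pullback.snd f g) z = y from hz] at h6
    rw [h5]
    exact isPreconnected_connectedComponentIn
  have huo : UniversallyOpen f := Groth.Agent.Sga3C.ArtinBase.universallyOpen_of_isArtinianRing k f
  have hsurj : Function.Surjective (pullback.snd f g) := fun y =>
    ⟨s' y, by rw [← Scheme.Hom.comp_apply, h1]; rfl⟩
  have hq : Topology.IsQuotientMap (pullback.snd f g) :=
    (pullback.snd f g).isOpenMap.isQuotientMap (pullback.snd f g).continuous hsurj
  obtain ⟨y₀⟩ := (inferInstance : Nonempty Y)
  have h7 := hq.preimage_connectedComponent hfib (s' y₀)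
  rw [PreconnectedSpace.connectedComponent_eq_univ, Set.preimage_univ] at h7
  exact connectedSpace_iff_connectedComponent.mpr ⟨_, h7.symm⟩

end Groth.Agent.S5342
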