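import Groth.Statements.S5343

set_option autoImplicit false
universe u
open CategoryTheory CategoryTheory.Limits MonoidalCategory CartesianMonoidalCategory MonObj GrpObj AlgebraicGeometry
open SGA3

namespace Groth.Agent.S5343

/-- Let R be a commutative ring and B a commutative R-algebra which is projective as an R-module. Then
the image of Spec B → Spec R is an open and closed subset of Spec R. (The published statement
concerns a quasi-coherent algebra on any scheme which is a direct summand of a free module; this row
is the affine case.) -/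
theorem result (R B : Type u) [CommRing R] [CommRing B] [Algebra R B] [Module.Projective R B] :
    IsClopen (Set.range (PrimeSpectrum.comap (algebraMap R B))) := by
  classical
  obtain ⟨s, hs⟩ := Module.projective_def'.mp (‹Module.Projective R B›)
  let φ : B → B →ₗ[R] R := fun b => (Finsupp.lapply b) ∘ₗ s
  let J : Ideal R := Ideal.span ((s 1) '' ((s 1).support : Set B))
  have hJfg : J.FG := ⟨(s 1).support.image (s 1), by simp [J]⟩
  have hφJ : ∀ b, φ b 1 ∈ J := by
    intro b
    by_cases hb : b ∈ (s 1).support
    · exact Ideal.subset_span ⟨b, hb, rfl⟩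
    · have : φ b 1 = 0 := by
        simpa [φ] using hb
      rw [this]; exact J.zero_mem
  have hJle : ∀ K : Ideal R, (∀ b, φ b 1 ∈ K) → J ≤ K := by
    intro K hK
    refine Ideal.span_le.mpr ?_
    rintro _ ⟨b, -, rfl⟩
    exact hK b
  have hone : (1 : B) ∈ J.map (algebraMap R B) := by
    have h1 : Finsupp.linearCombination R (id : B → B) (s 1) = 1 := by
      have := LinearMap.congr_fun hs 1
      simpa using this
    rw [← h1, Finsupp.linearCombination_apply, Finsupp.sum]
    refine Ideal.sum_mem _ fun b hb => ?_
    rw [Algebra.smul_def]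
    exact Ideal.mul_mem_right _ _ (Ideal.mem_map_of_mem _ (hφJ b))
  have hmap : ∀ (K : Ideal R) (b : B) (y : B), y ∈ K.map (algebraMap R B) → φ b y ∈ K := by
    intro K b y hy
    have h1 : y ∈ (K • (⊤ : Submodule R B)) := by
      rw [Ideal.smul_top_eq_map]; exact hy
    have h2 : φ b y ∈ (K • (⊤ : Submodule R B)).map (φ b) := ⟨y, h1, rfl⟩
    rw [Submodule.map_smul''] at h2
    have h3 : φ b y ∈ K * ⊤ := Submodule.smul_mono le_rfl le_top h2
    rwa [Ideal.mul_top] at h3
  have hidem : IsIdempotentElem J := by
    apply le_antisymm Ideal.mul_le_left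
    refine hJle _ fun b => hmap _ b 1 ?_
    rw [Ideal.map_mul, (Ideal.eq_top_iff_one _).mpr hone, Ideal.mul_top]
    trivial
  obtain ⟨e, he, hJe⟩ := (Ideal.isIdempotentElem_iff_of_fg J hJfg).mp hidem
  have hrange : Set.range (PrimeSpectrum.comap (algebraMap R B)) =
      (PrimeSpectrum.zeroLocus (J : Set R))ᶜ := by
    ext p
    constructor
    · rintro ⟨q, rfl⟩ hq
      rw [PrimeSpectrum.mem_zeroLocus] at hq
      have h2 : J.map (algebraMap R B) ≤ q.asIdeal := Ideal.map_le_iff_le_comap.mpr hq
      exact q.isPrime.ne_top ((Ideal.eq_top_iff_one _).mpr (h2 hone))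
    · intro hp
      have h3 : (p.asIdeal.map (algebraMap R B)).comap (algebraMap R B) = p.asIdeal := by
        apply le_antisymm _ Ideal.le_comap_map
        intro r hr
        by_contra hrp
        apply hp
        rw [PrimeSpectrum.mem_zeroLocus]
        refine hJle _ fun b => ?_
        have h4 : φ b (algebraMap R B r) ∈ p.asIdeal := hmap _ b _ hr
        rw [Algebra.algebraMap_eq_smul_one, map_smul, smul_eq_mul] at h4
        exact (p.isPrime.mem_or_mem h4).resolve_left hrp
      obtain ⟨q, hq, hqp⟩ := (Ideal.comap_map_eq_self_iff_of_isPrime p.asIdeal).mp h3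
      exact ⟨⟨q, hq⟩, PrimeSpectrum.ext hqp⟩
  rw [hrange, isClopen_compl_iff, PrimeSpectrum.isClopen_iff_zeroLocus]
  exact ⟨e, he, by rw [hJe]; simp [PrimeSpectrum.zeroLocus_span]⟩

end Groth.Agent.S5343
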