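import Groth.Statements.S5345
import Groth.Agent.Sga3C.HomogConn
import Groth.Agent.Sga3C.LocConn

set_option autoImplicit false
universe u
open CategoryTheory CategoryTheory.Limits MonoidalCategory CartesianMonoidalCategory MonObj GrpObj AlgebraicGeometry
open SGA3

namespace Groth.Agent.S5345

/-- Let A be a local artinian ring and G an A-group scheme locally of finite type. Then every connected
component of G, in particular the connected component of the unit, is quasi-compact (so the open
subscheme it carries is of finite type over A). (The published statement also asserts that the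
components are irreducible and of equal dimension; this row states only their quasi-compactness.) -/
theorem result (A : Type u) [CommRing A] [IsArtinianRing A] [IsLocalRing A] (G : Over (Spec (CommRingCat.of A))) [GrpObj G] [LocallyOfFiniteType G.hom]
    (g : G.left) : IsCompact (connectedComponent g) := by
  let t : Spec (CommRingCat.of (IsLocalRing.ResidueField A)) ⟶ Spec (CommRingCat.of A) :=
    Spec.map (CommRingCat.ofHom (IsLocalRing.residue A))
  have ht : IsClosedImmersion t := IsClosedImmersion.spec_of_surjective _ IsLocalRing.residue_surjective
  have hs : Subsingleton (Spec (CommRingCat.of A)) :=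
    inferInstanceAs (Subsingleton (PrimeSpectrum A))
  have hst : Surjective t := ⟨fun x => ⟨IsLocalRing.closedPoint _, Subsingleton.elim _ _⟩⟩
  let := Functor.grpObjObj (F := Over.pullback t) (G := G)
  let G' := (Over.pullback t).obj G
  have hG' : LocallyOfFiniteType G'.hom :=
    inferInstanceAs (LocallyOfFiniteType (pullback.snd G.hom t))
  have hln : IsLocallyNoetherian G'.left := LocallyOfFiniteType.isLocallyNoetherian G'.hom
  have hlc := Groth.Agent.Sga3C.LocConn.locallyConnectedSpace_of_isLocallyNoetherian G'.left
  have hqs : QuasiSeparatedSpace G'.left := inferInstance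
  let π : G'.left ⟶ G.left := pullback.fst G.hom t
  have hπ : IsHomeomorph π := by
    rw [isHomeomorph_iff_isEmbedding_surjective]
    exact ⟨(pullback.fst G.hom t).isClosedEmbedding.isEmbedding, (pullback.fst G.hom t).surjective⟩
  obtain ⟨g', rfl⟩ := hπ.surjective g
  let φ : G'.left ≃ₜ G.left := hπ.homeomorph
  have hΦ := Groth.Agent.Sga3C.Transl.surjective_regular G'
  have hirr := Groth.Agent.Sga3C.HomogConn.isPreirreducible_connectedComponent
    (Groth.Agent.Sga3C.Transl.regular G') hΦ g'
  have hcomp := (Groth.Agent.Sga3C.HomogConn.main (Groth.Agent.Sga3C.Transl.regular G') hΦ).2.2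
  have hopen : IsOpen (connectedComponent g') := isOpen_connectedComponent
  obtain ⟨_, ⟨V, hV, rfl⟩, hgV, hVC⟩ := G'.left.isBasis_affineOpens.exists_subset_of_mem_open
    (mem_connectedComponent (x := g')) hopen
  have hsat := hcomp V hV.isCompact
  have hCsat : connectedComponent g' ⊆ Groth.Agent.Sga3C.IrrComp.sat (V : Set G'.left) := by
    intro x hx
    obtain ⟨Y, hY, hCY⟩ := exists_mem_irreducibleComponents_subset_of_isIrreducible
      (connectedComponent g') ⟨⟨g', mem_connectedComponent⟩, hirr⟩
    exact ⟨Y, hY, hCY hx, g', hCY mem_connectedComponent, hgV⟩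
  have hcpt : IsCompact (connectedComponent g') :=
    hsat.of_isClosed_subset isClosed_connectedComponent hCsat
  refine (hcpt.image π.continuous).of_isClosed_subset isClosed_connectedComponent ?_
  have h1 : φ.symm '' connectedComponent (π g') ⊆ connectedComponent g' := by
    refine (isPreconnected_connectedComponent.image _ φ.symm.continuous.continuousOn).subset_connectedComponent ?_
    exact ⟨π g', mem_connectedComponent, φ.symm_apply_apply g'⟩
  intro x hx
  exact ⟨φ.symm x, h1 ⟨x, hx, rfl⟩, φ.apply_symm_apply x⟩

end Groth.Agent.S5345
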