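import Groth.Statements.S5346
import Groth.Agent.SGA3.K204.ArtThick
import Groth.Agent.S1303
import Groth.Agent.S1309
import Groth.Agent.S1313
import Groth.Agent.S1316

set_option autoImplicit false
universe u
open CategoryTheory CategoryTheory.Limits MonoidalCategory CartesianMonoidalCategory MonObj GrpObj AlgebraicGeometry
open SGA3

namespace Groth.Agent.S5346

/-- Let A be a local artinian ring with residue field k and i : Spec k → Spec A the closed point. (i) If
X is an A-scheme whose base change X ⊗_A k is locally of finite type (resp. of finite type) over k,
then X is locally of finite type (resp. of finite type) over A. (ii) If u : X → Y is a morphism of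
A-schemes whose base change u ⊗_A k is an immersion (resp. a closed immersion), then u is an
immersion (resp. a closed immersion). -/
theorem result (A : Type u) [CommRing A] [IsArtinianRing A] [IsLocalRing A] (X Y : Over (Spec (CommRingCat.of A))) (u : X ⟶ Y) :
    letI i : Spec (CommRingCat.of (IsLocalRing.ResidueField A)) ⟶ (Spec (CommRingCat.of A)) := Spec.map (CommRingCat.ofHom (IsLocalRing.residue A))
    (LocallyOfFiniteType (pullback.snd X.hom i) → LocallyOfFiniteType X.hom) ∧
    (LocallyOfFiniteType (pullback.snd X.hom i) → QuasiCompact (pullback.snd X.hom i) → QuasiCompact X.hom) ∧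
    (IsImmersion ((Over.pullback i).map u).left → IsImmersion u.left) ∧
    (IsClosedImmersion ((Over.pullback i).map u).left → IsClosedImmersion u.left) := by
  have hth := K204.ArtThick.thick_clPt A
  have hthY := K204.ArtThick.thick_fst A Y
  have hthX := K204.ArtThick.thick_fst A X
  have hpX := IsPullback.of_hasPullback X.hom (K204.ArtThick.clPt A)
  have hpu := K204.ArtThick.isPullback_map A u
  have hlft : LocallyOfFiniteType ((Over.pullback (K204.ArtThick.clPt A)).map u).left →
      LocallyOfFiniteType u.left := fun h =>
    (Groth.Agent.S1309.result _ _ _ _ hthY hpu).mp h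
  refine ⟨fun h => ?_, fun _ h => ?_, fun h => ?_, fun h => ?_⟩
  · exact (Groth.Agent.S1309.result _ _ _ _ hth hpX).mp h
  · exact (Groth.Agent.S1303.result _ _ _ _ hthX.1 hth.1 hpX.w).mp h
  · have h1 : LocallyOfFiniteType ((Over.pullback (K204.ArtThick.clPt A)).map u).left := by
      have : IsImmersion ((Over.pullback (K204.ArtThick.clPt A)).map u).left := h
      infer_instance
    have h2 := hlft h1
    exact (Groth.Agent.S1316.result _ _ _ _ hthY.1 hpu).mp h
  · have h1 : LocallyOfFiniteType ((Over.pullback (K204.ArtThick.clPt A)).map u).left := by
      have : IsClosedImmersion ((Over.pullback (K204.ArtThick.clPt A)).map u).left := h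
      infer_instance
    have h2 := hlft h1
    exact (Groth.Agent.S1313.result _ _ _ _ hthY.1 hpu).mp h

end Groth.Agent.S5346
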