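import Groth.Statements.S5349
import Groth.Agent.Sga3C.HomogConn

set_option autoImplicit false
universe u
open CategoryTheory CategoryTheory.Limits MonoidalCategory CartesianMonoidalCategory MonObj GrpObj AlgebraicGeometry
open SGA3

namespace Groth.Agent.S5349

/-- Let G be a group scheme over a field k (not assumed of finite type) acting on an irreducible
k-scheme X so that the morphism G ×_k X → X ×_k X, (g, x) ↦ (gx, x), is surjective. Then X is
quasi-compact. -/
theorem result (k : Type u) [Field k] (G X : Over (Spec (CommRingCat.of k))) [GrpObj G] (a : AlgGrp.Action G X) (hΦ : Surjective (lift a.act (snd G X)).left)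
    [IrreducibleSpace X.left] : CompactSpace X.left := by
  obtain ⟨-, -, hc⟩ := Groth.Agent.Sga3C.HomogConn.main a hΦ
  obtain ⟨x⟩ : Nonempty X.left := inferInstance
  obtain ⟨_, ⟨U, hU, rfl⟩, hxU, -⟩ :=
    X.left.isBasis_affineOpens.exists_subset_of_mem_open (Set.mem_univ x) isOpen_univ
  change X.left.Opens at U
  have h := hc U hU.isCompact
  have h2 : Groth.Agent.Sga3C.IrrComp.sat (U : Set X.left) = Set.univ := by
    refine Set.eq_univ_of_forall fun y => ⟨Set.univ, ?_, Set.mem_univ _, x, Set.mem_univ _, hxU⟩
    rw [irreducibleComponents_eq_singleton]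
    exact Set.mem_singleton _
  rw [h2] at h
  exact isCompact_univ_iff.mp h

end Groth.Agent.S5349
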