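import Groth.Statements.S5354
import Groth.Agent.Sga3C.HomogIrr

set_option autoImplicit false
universe u
open CategoryTheory CategoryTheory.Limits MonoidalCategory CartesianMonoidalCategory MonObj GrpObj AlgebraicGeometry
open SGA3

namespace Groth.Agent.S5354

open Groth.Agent.Sga3C.IrrComp Groth.Agent.Sga3C.HomogIrr Groth.Agent.Sga3C.GenPts in
theorem closure_mem_of_generalizing {X Y : Scheme.{u}} (f : X ⟶ Y) (hf : GeneralizingMap f)
    {w : X} (hw : w ∈ genericPoints X) : closure {f w} ∈ irreducibleComponents Y := by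
  obtain ⟨D, hD, hD'⟩ := exists_mem_irreducibleComponents_subset_of_isIrreducible
    (closure {f w}) isIrreducible_singleton.closure
  obtain ⟨ζ, hζ⟩ := exists_isGenericPoint hD
  obtain ⟨w', hw', rfl⟩ := hf (hζ.specializes (hD' (subset_closure rfl)))
  rw [eq_of_specializes_of_mem_genericPoints hw w' hw'] at hζ
  rw [hζ.def]
  exact hD

/-- Let G be a group scheme over a field k (not assumed of finite type). For every point x of G there is
a point z of G ×_k G with product x whose two projections are maximal points of G (generic points of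
irreducible components). -/
theorem result (k : Type u) [Field k] (G : Over (Spec (CommRingCat.of k))) [GrpObj G] (x : G.left) :
    ∃ z : ↥(G ⊗ G).left, μ[G].left.base z = x ∧
      closure {(fst G G).left.base z} ∈ irreducibleComponents ↥G.left ∧
      closure {(snd G G).left.base z} ∈ irreducibleComponents ↥G.left := by
  let T := Groth.Agent.Sga3C.HomogIrr.ptObj G x
  let gT : T ⟶ G := Groth.Agent.Sga3C.HomogIrr.ptHom G x
  let φ : T ⊗ G ⟶ G ⊗ G := lift (snd T G) ((snd T G)⁻¹ * (fst T G ≫ gT))
  have hφ : φ ≫ μ[G] = fst T G ≫ gT := by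
    rw [← Hom.mul_def, mul_inv_cancel_left]
  have hφ1 : φ ≫ fst G G = snd T G := lift_fst _ _
  have hφ2 : φ ≫ snd G G = (Groth.Agent.Sga3C.GrpBasic.invMulShear gT).hom ≫ snd T G := by
    rw [Groth.Agent.Sga3C.GrpBasic.invMulShear_hom_snd]; exact lift_snd _ _
  obtain ⟨pt⟩ : Nonempty T.left := inferInstance
  let w₀ : (T ⊗ G).left := (lift (𝟙 T) (1 : T ⟶ G)).left pt
  obtain ⟨w, hw, -⟩ := Groth.Agent.Sga3C.GenPts.exists_mem_genericPoints_specializes w₀
  have hflat : Flat (snd T G).left := by
    rw [Over.snd_left]; infer_instance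
  have hflat2 : Flat ((Groth.Agent.Sga3C.GrpBasic.invMulShear gT).hom ≫ snd T G).left := by
    rw [Over.comp_left]
    have h1 : IsIso (Groth.Agent.Sga3C.GrpBasic.invMulShear gT).hom.left :=
      inferInstanceAs (IsIso ((Over.forget _).map (Groth.Agent.Sga3C.GrpBasic.invMulShear gT).hom))
    have h2 : Flat (Groth.Agent.Sga3C.GrpBasic.invMulShear gT).hom.left := inferInstance
    exact MorphismProperty.comp_mem _ _ _ h2 hflat
  refine ⟨φ.left w, ?_, ?_, ?_⟩
  · have h : (φ ≫ μ[G]).left w = x := by
      rw [hφ, Groth.Agent.Sga3C.HomogIrr.comp_left_apply]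
      exact Groth.Agent.Sga3C.HomogIrr.ptHom_apply _ _ _
    exact h
  · have h : (φ ≫ fst G G).left w = (fst G G).left (φ.left w) := rfl
    change closure {(fst G G).left (φ.left w)} ∈ _
    rw [← h, hφ1]
    exact closure_mem_of_generalizing _ (Flat.generalizingMap _) hw
  · have h : (φ ≫ snd G G).left w = (snd G G).left (φ.left w) := rfl
    change closure {(snd G G).left (φ.left w)} ∈ _
    rw [← h, hφ2]
    exact closure_mem_of_generalizing _ (Flat.generalizingMap _) hw

end Groth.Agent.S5354
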