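import Groth.Statements.S5355
import Groth.Agent.S3024
import Groth.Agent.Sga3C.FlatHomog
import Groth.Agent.Sga3C.HomogIrr

set_option autoImplicit false
universe u
open CategoryTheory CategoryTheory.Limits MonoidalCategory CartesianMonoidalCategory MonObj GrpObj AlgebraicGeometry
open SGA3

namespace Groth.Agent.S5355

/-- Let f : G → H be a homomorphism of group schemes over a field k (not assumed of finite type) which
is quasi-compact and dominant. Then (i) f is surjective; (ii) if H is reduced, f is flat (hence
faithfully flat). -/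
theorem result (k : Type u) [Field k] (G H : Over (Spec (CommRingCat.of k))) [GrpObj G] [GrpObj H]
    (f : G ⟶ H) [IsMonHom f] [QuasiCompact f.left] (hf : DenseRange f.left.base) :
    Surjective f.left ∧ (IsReduced H.left → Flat f.left) := by
  have hs : Surjective f.left := by
    obtain ⟨H', hH', i, f', -, -, h3, h4, -, -, h7⟩ := Groth.Agent.S3024.result k G H f
    have hi : Surjective i.left := by
      constructor
      intro y
      have h8 : Set.range f.left.base ⊆ Set.range i.left.base := by
        rw [← h3]
        rintro _ ⟨x, rfl⟩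
        exact ⟨f'.left x, (Groth.Agent.Sga3C.HomogIrr.comp_left_apply f' i x).symm⟩
      have h9 : closure (Set.range f.left.base) ⊆ Set.range i.left.base :=
        closure_minimal h8 i.left.isClosedEmbedding.isClosed_range
      rw [hf.closure_eq] at h9
      exact h9 (Set.mem_univ y)
    rw [← h3, Over.comp_left]
    infer_instance
  refine ⟨hs, fun hred => ?_⟩
  obtain ⟨η₀, hη₀, -⟩ := Groth.Agent.Sga3C.GenPts.exists_mem_genericPoints_specializes
    (f.left ((1 : G ⟶ G).left (η[G].left (IsLocalRing.closedPoint k))))
  obtain ⟨y, rfl⟩ := hs.surj η₀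
  have hy : Groth.Agent.Sga3C.FlatPt.IsFlatAt f.left y := by
    rw [Groth.Agent.Sga3C.FlatPt.isFlatAt_iff_stalkMap]
    have hfield : IsField (H.left.presheaf.stalk (f.left y)) :=
      isField_stalk_of_closure_mem_irreducibleComponents _ _ hη₀
    let := hfield.toField
    algebraize [(f.left.stalkMap y).hom]
    exact (inferInstance : Module.Flat (H.left.presheaf.stalk (f.left y)) (G.left.presheaf.stalk y))
  refine Groth.Agent.Sga3C.FlatPt.flat_of_forall_isFlatAt _ fun x => ?_
  have hflatG : Flat G.hom := inferInstance
  refine Groth.Agent.Sga3C.FlatHomog.isFlatAt_of_isFlatAt f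
    (Groth.Agent.Sga3C.GrpBasic.mulLeftShear f) ?_ x y
    (Subsingleton.elim (α := PrimeSpectrum k) _ _) hy
  ext1
  · simp
  · rw [Category.assoc, Category.assoc, Groth.Agent.Sga3C.GrpBasic.mulLeftShear_hom_snd,
      whiskerLeft_snd, ← Category.assoc, Groth.Agent.Sga3C.GrpBasic.mulLeftShear_hom_snd]
    simp [MonObj.comp_mul, MonObj.mul_comp]

end Groth.Agent.S5355
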