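import Groth.Statements.S5360
import Groth.Agent.SGA3.K205.MonoEndo

set_option autoImplicit false
universe u
open CategoryTheory CategoryTheory.Limits MonoidalCategory CartesianMonoidalCategory MonObj GrpObj AlgebraicGeometry
open SGA3

namespace Groth.Agent.S5360

/-- Let G be an S-scheme of finite presentation over S with an associative composition law m : G ×_S G →
G such that for every S-scheme S' and every point g of G with values in S' the left and right
translations by g are injective on G(S'), and such that G has an S-point. Then G is an S-group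
scheme: there is a group object structure on G over S whose multiplication is m. -/
theorem result (S : Scheme.{u}) (G : Over S)
    [LocallyOfFinitePresentation G.hom] [QuasiCompact G.hom] [QuasiSeparated G.hom]
    (m : G ⊗ G ⟶ G) (hassoc : (m ▷ G) ≫ m = (α_ G G G).hom ≫ (G ◁ m) ≫ m)
    (hl : ∀ (T : Over S) (g : T ⟶ G), Function.Injective (fun x : T ⟶ G => lift g x ≫ m))
    (hr : ∀ (T : Over S) (g : T ⟶ G), Function.Injective (fun x : T ⟶ G => lift x g ≫ m))
    (e : 𝟙_ (Over S) ⟶ G) :
    ∃ inst : GrpObj G, inst.mul = m := by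
  -- associativity on points
  have has : ∀ {T : Over S} (x y z : T ⟶ G),
      lift (lift x y ≫ m) z ≫ m = lift x (lift y z ≫ m) ≫ m := by
    intro T x y z
    have h1 := congrArg (lift (lift x y) z ≫ ·) hassoc
    simpa using h1
  have hcomp : ∀ {T T' : Over S} (t : T' ⟶ T) (x y : T ⟶ G),
      t ≫ lift x y ≫ m = lift (t ≫ x) (t ≫ y) ≫ m := by
    intro T T' t x y
    rw [← Category.assoc, comp_lift]
  -- solutions of `g y = x`
  have hsol : ∀ {T : Over S} (g x : T ⟶ G), ∃ y : T ⟶ G, lift g y ≫ m = x := by
    intro T g x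
    obtain ⟨y, hy⟩ := K205.MonoEndo.exists_solution (T := T) (X := G) (lift (fst T G ≫ g) (snd T G) ≫ m)
      (fun T' t x y h => by
        simp only [← Category.assoc, comp_lift, lift_fst, lift_snd] at h
        exact hl T' (t ≫ g) h) T (𝟙 T) x
    refine ⟨y, ?_⟩
    simpa only [← Category.assoc, comp_lift, lift_fst, lift_snd, Category.id_comp] using hy
  obtain ⟨ε, hε⟩ := hsol e e
  have hlε : ∀ {T : Over S} (x : T ⟶ G), lift (toUnit T ≫ ε) x ≫ m = x := by
    intro T x
    apply hl T (toUnit T ≫ e)
    change lift (toUnit T ≫ e) (lift (toUnit T ≫ ε) x ≫ m) ≫ m = lift (toUnit T ≫ e) x ≫ m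
    rw [← has, ← hcomp, hε]
  have hrε : ∀ {T : Over S} (x : T ⟶ G), lift x (toUnit T ≫ ε) ≫ m = x := by
    intro T x
    apply hr T x
    change lift (lift x (toUnit T ≫ ε) ≫ m) x ≫ m = lift x x ≫ m
    rw [has, hlε]
  obtain ⟨v, hv⟩ := hsol (𝟙 G) (toUnit G ≫ ε)
  have hv' : lift v (𝟙 G) ≫ m = toUnit G ≫ ε := by
    apply hr G v
    change lift (lift v (𝟙 G) ≫ m) v ≫ m = lift (toUnit G ≫ ε) v ≫ m
    rw [has, hv, hrε, hlε]
  refine ⟨{ one := ε, mul := m, one_mul := ?_, mul_one := ?_, mul_assoc := hassoc, inv := v,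
            left_inv := hv', right_inv := hv }, rfl⟩
  · have h1 : ε ▷ G = lift (toUnit _ ≫ ε) (snd (𝟙_ (Over S)) G) := by
      ext1
      · simp only [whiskerRight_fst, lift_fst]
        congr 1
      · simp
    rw [h1, hlε]
    exact (leftUnitor_hom G).symm
  · have h1 : G ◁ ε = lift (fst G (𝟙_ (Over S))) (toUnit _ ≫ ε) := by
      ext1
      · simp
      · simp only [whiskerLeft_snd, lift_snd]
        congr 1
        exact toUnit_unique _ _
    rw [h1, hrε]
    exact (rightUnitor_hom G).symm

end Groth.Agent.S5360
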