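import Groth.Statements.S5362
import Groth.Agent.SGA3.K205.Semidirect
import Groth.Agent.S3024
import Groth.Agent.S1628
import Groth.Agent.Sga3C.GeomRed
import Groth.Agent.Localalg.GrpSchComp2

set_option autoImplicit false
universe u
open CategoryTheory CategoryTheory.Limits MonoidalCategory CartesianMonoidalCategory MonObj GrpObj AlgebraicGeometry
open SGA3

namespace Groth.Agent.S5362

/-- A scheme schematically dominated by a reduced scheme is reduced. -/
theorem isReduced_of_ker_eq_bot {X Y : Scheme.{u}} (f : X ⟶ Y) [IsReduced X] (hf : f.ker = ⊥) :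
    IsReduced Y := by
  have h1 : ∀ U : Y.affineOpens, _root_.IsReduced Γ(Y, U.1) := by
    intro U
    have h2 : RingHom.ker (f.app U.1).hom = ⊥ := by
      rw [← Groth.Agent.Sga3C.GeomRed.ker_ideal_of_isReduced f U, hf]
      rfl
    exact isReduced_of_injective (f.app U.1).hom ((RingHom.injective_iff_ker_eq_bot _).mpr h2)
  let 𝒰 := Y.openCoverOfIsOpenCover (fun U : Y.affineOpens => U.1)
    (AlgebraicGeometry.iSup_affineOpens_eq_top Y)
  have h3 : ∀ i, IsReduced (𝒰.X i) := by
    intro U
    let U' : Y.affineOpens := U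
    change IsReduced (U'.1 : Scheme.{u})
    have h4 := h1 U'
    have h5 : IsAffine U'.1 := U'.2
    have h6 : _root_.IsReduced Γ(U'.1, ⊤) :=
      isReduced_of_injective (U'.1.topIso.hom).hom
        ((U'.1.topIso).commRingCatIsoToRingEquiv.injective)
    exact isReduced_of_isAffine_isReduced _
  exact IsReduced.of_openCover Y 𝒰

/-- Let G be a group scheme locally of finite type over a field k, and a : A → G, b : B → G two closed
subgroup schemes which are smooth and of finite type over k, such that B normalizes A (conjugating a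
point of A by a point of B gives a point of A). Let i : Γ → G be the smallest closed subgroup scheme
of G through which both a and b factor. Then Γ is reduced and its underlying set is A·B, the image
of A ×_k B under (x, y) ↦ a(x) b(y). -/
theorem result (k : Type u) [Field k] (G A B : Over (Spec (CommRingCat.of k))) [GrpObj G] [GrpObj A] [GrpObj B]
    [LocallyOfFiniteType G.hom] (a : A ⟶ G) [IsMonHom a] [IsClosedImmersion a.left] (b : B ⟶ G) [IsMonHom b]
    [IsClosedImmersion b.left] [Smooth A.hom] [QuasiCompact A.hom] [Smooth B.hom] [QuasiCompact B.hom]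
    (hN : ∀ (T : Over (Spec (CommRingCat.of k))) (y : T ⟶ B) (x : T ⟶ A), ∃ x' : T ⟶ A, (y ≫ b) * (x ≫ a) * (y ≫ b)⁻¹ = x' ≫ a)
    (Γ : Over (Spec (CommRingCat.of k))) [GrpObj Γ] (i : Γ ⟶ G) [IsMonHom i] [IsClosedImmersion i.left]
    (ha : ∃ a' : A ⟶ Γ, a' ≫ i = a) (hb : ∃ b' : B ⟶ Γ, b' ≫ i = b)
    (hmin : ∀ (Γ' : Over (Spec (CommRingCat.of k))) (_ : GrpObj Γ') (i' : Γ' ⟶ G), IsMonHom i' → IsClosedImmersion i'.left →
        (∃ a'' : A ⟶ Γ', a'' ≫ i' = a) → (∃ b'' : B ⟶ Γ', b'' ≫ i' = b) → ∃ j : Γ ⟶ Γ', j ≫ i' = i) :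
    IsReduced Γ.left ∧ Set.range i.left.base = Set.range ((a ⊗ₘ b) ≫ μ[G]).left.base := by
  have hma : Mono a := Groth.Agent.Sga3C.ClosedSub.mono_of_left a
  obtain ⟨P, hP, p, e, hp, hpe⟩ := K205.Semidirect.exists_semidirect a b hN
  have hei : IsIso e.inv.left := inferInstanceAs (IsIso ((Over.forget _).map e.inv))
  have heh : IsIso e.hom.left := inferInstanceAs (IsIso ((Over.forget _).map e.hom))
  have hABr : GeometricallyReduced (A ⊗ B).hom := by
    have h1 : GeometricallyReduced A.hom := by
      let : A.left.Over (Spec (CommRingCat.of k)) := ⟨A.hom⟩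
      have : Smooth (A.left ↘ (Spec (CommRingCat.of k))) := inferInstanceAs (Smooth A.hom)
      exact (Groth.Agent.S1628.result k A.left).1
    have h2 : GeometricallyReduced B.hom := by
      let : B.left.Over (Spec (CommRingCat.of k)) := ⟨B.hom⟩
      have : Smooth (B.left ↘ (Spec (CommRingCat.of k))) := inferInstanceAs (Smooth B.hom)
      exact (Groth.Agent.S1628.result k B.left).1
    exact Groth.Agent.Sga3C.GeomRed.geometricallyReduced_pullback A.hom B.hom
  have hABred : IsReduced (A ⊗ B).left :=
    self_of_isIntegral_of_geometrically hABr.geometrically_isReduced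
  have hPred : IsReduced P.left := isReduced_of_isOpenImmersion e.inv.left
  have hABq : QuasiCompact (A ⊗ B).hom := by
    rw [Over.tensorObj_hom]; infer_instance
  have hPq : QuasiCompact P.hom := by
    rw [← Over.w e.inv]; infer_instance
  have hsep : IsSeparated G.hom := Groth.Agent.Localalg.GrpSchComp2.isSeparated_hom G
  have hpq : QuasiCompact p.left := by
    have : QuasiCompact (p.left ≫ G.hom) := by rw [Over.w]; exact hPq
    exact QuasiCompact.of_comp p.left G.hom
  obtain ⟨H', hH', iH, f', h1, h2, h3, h4, h5, h6, h7⟩ := Groth.Agent.S3024.result k P G p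
  have hab : (a ⊗ₘ b) ≫ μ[G] = (fst A B ≫ a) * (snd A B ≫ b) := by
    rw [Hom.mul_def]
    congr 1
  obtain ⟨j, hj⟩ := hmin H' hH' iH h1 h4
    ⟨lift (𝟙 A) 1 ≫ e.hom ≫ f', by
      rw [Category.assoc, Category.assoc, h3, hpe, hab, comp_mul, lift_fst_assoc, lift_snd_assoc,
        one_comp, Category.id_comp, _root_.mul_one]⟩
    ⟨lift 1 (𝟙 B) ≫ e.hom ≫ f', by
      rw [Category.assoc, Category.assoc, h3, hpe, hab, comp_mul, lift_fst_assoc, lift_snd_assoc,
        one_comp, Category.id_comp, _root_.one_mul]⟩
  obtain ⟨a', ha'⟩ := ha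
  obtain ⟨b', hb'⟩ := hb
  have hpi : (e.inv ≫ ((fst A B ≫ a') * (snd A B ≫ b'))) ≫ i = p := by
    rw [Category.assoc, mul_comp, Category.assoc, Category.assoc, ha', hb', ← hab, ← hpe,
      e.inv_hom_id_assoc]
  have hker : i.left.ker ≤ iH.left.ker := by
    have h8 : iH.left.ker = p.left.ker := by
      rw [← h3, Over.comp_left, Scheme.Hom.ker_comp, h5, Scheme.IdealSheafData.map_bot]
    rw [h8, ← hpi, Over.comp_left]
    exact Scheme.Hom.le_ker_comp _ _
  obtain ⟨j', hj'⟩ := (Groth.Agent.Sga3C.ClosedSub.over_factors_iff i iH).mpr hker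
  have hmi : Mono i := Groth.Agent.Sga3C.ClosedSub.mono_of_left i
  have hmH : Mono iH := Groth.Agent.Sga3C.ClosedSub.mono_of_left iH
  let ε : Γ ≅ H' := ⟨j, j', by rw [← cancel_mono i, Category.assoc, hj', hj, Category.id_comp],
    by rw [← cancel_mono iH, Category.assoc, hj, hj', Category.id_comp]⟩
  have hεj : IsIso j := ⟨ε.inv, ε.hom_inv_id, ε.inv_hom_id⟩
  have hεi : IsIso j.left := inferInstanceAs (IsIso ((Over.forget _).map j))
  constructor
  · have h9 : IsReduced H'.left := isReduced_of_ker_eq_bot f'.left h5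
    exact isReduced_of_isOpenImmersion j.left
  · rw [← hj, Over.comp_left, ← hpe, ← h3, Over.comp_left, Over.comp_left]
    simp only [Scheme.Hom.comp_base, TopCat.coe_comp]
    have s1 : Function.Surjective j.left.base := j.left.surjective
    have s2 : Function.Surjective e.hom.left.base := e.hom.left.surjective
    have s3 : Function.Surjective f'.left.base := f'.left.surjective
    rw [s1.range_comp, s2.range_comp, s3.range_comp]

end Groth.Agent.S5362
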