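import Groth.Statements.S5363
import Groth.Agent.SGA3.K205.Transporter

set_option autoImplicit false
universe u
open CategoryTheory CategoryTheory.Limits MonoidalCategory CartesianMonoidalCategory MonObj GrpObj AlgebraicGeometry
open SGA3

namespace Groth.Agent.S5363

/-- Let G be a group scheme over a field k and g a k-rational point of G. Then the smallest closed
subgroup scheme Γ of G through which g factors (the closed subgroup generated by g) is commutative. -/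
theorem result (k : Type u) [Field k] (G : Over (Spec (CommRingCat.of k))) [GrpObj G]
    (g : 𝟙_ (Over (Spec (CommRingCat.of k))) ⟶ G) (Γ : Over (Spec (CommRingCat.of k))) [GrpObj Γ] (i : Γ ⟶ G) [IsMonHom i] [IsClosedImmersion i.left]
    (hf : ∃ f' : 𝟙_ (Over (Spec (CommRingCat.of k))) ⟶ Γ, f' ≫ i = g)
    (hmin : ∀ (Γ' : Over (Spec (CommRingCat.of k))) (_ : GrpObj Γ') (i' : Γ' ⟶ G), IsMonHom i' → IsClosedImmersion i'.left →
        (∃ f'' : 𝟙_ (Over (Spec (CommRingCat.of k))) ⟶ Γ', f'' ≫ i' = g) → ∃ j : Γ ⟶ Γ', j ≫ i' = i) :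
    IsCommMonObj Γ := by
  obtain ⟨Z₁, hZ₁, z₁, hz₁, hz₁', H₁⟩ := K205.Transporter.exists_centralizer g
  obtain ⟨j₁, hj₁⟩ := hmin Z₁ hZ₁ z₁ hz₁ hz₁' ((H₁ _ g).mpr fun T' t x => by
    rw [toUnit_unique t x])
  obtain ⟨Z₂, hZ₂, z₂, hz₂, hz₂', H₂⟩ := K205.Transporter.exists_centralizer i
  obtain ⟨j₂, hj₂⟩ := hmin Z₂ hZ₂ z₂ hz₂ hz₂' ((H₂ _ g).mpr fun T' t x =>
    ((H₁ _ i).mp ⟨j₁, hj₁⟩ T' x t).symm)
  have H := (H₂ _ i).mp ⟨j₂, hj₂⟩ (Γ ⊗ Γ) (snd Γ Γ) (fst Γ Γ)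
  have hmono : Mono i := Groth.Agent.Sga3C.ClosedSub.mono_of_left i
  refine ⟨?_⟩
  rw [← cancel_mono i, Category.assoc, IsMonHom.mul_hom]
  have h1 : (i ⊗ₘ i) ≫ μ[G] = (fst Γ Γ ≫ i) * (snd Γ Γ ≫ i) := by
    rw [Hom.mul_def]
    congr 1
  rw [h1, comp_mul]
  simpa using H

end Groth.Agent.S5363
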