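import Groth.Statements.S5365
import Groth.Agent.SGA3.K206.Comm
import Mathlib.AlgebraicGeometry.Morphisms.IsIso

set_option autoImplicit false
universe u
open CategoryTheory CategoryTheory.Limits MonoidalCategory CartesianMonoidalCategory MonObj GrpObj AlgebraicGeometry
open SGA3

namespace Groth.Agent.S5365

/-- Let G be a group scheme locally of finite type over a field k, a : A → G and b : B → G two closed
subgroup schemes which are geometrically reduced over k, and i : Γ → G the commutator subgroup
scheme (A, B), the smallest closed subgroup scheme through which (x, y) ↦ a(x) b(y) a(x)⁻¹ b(y)⁻¹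
factors. Suppose either (a) A and B are normal in G and of finite type over k, or (b) A is connected
and B is of finite type over k. Then Γ is of finite type over k, and in case (b) Γ is connected.
(The published statement also asserts that this subgroup represents the fppf sheaf generated by
commutators and describes its neutral component; this row states only the finiteness and
connectedness assertions.) -/
theorem result (k : Type u) [Field k] (G A B : Over (Spec (CommRingCat.of k))) [GrpObj G] [GrpObj A] [GrpObj B]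
    [LocallyOfFiniteType G.hom]
    (a : A ⟶ G) [IsMonHom a] [IsClosedImmersion a.left] (b : B ⟶ G) [IsMonHom b] [IsClosedImmersion b.left]
    [GeometricallyReduced A.hom] [GeometricallyReduced B.hom] [QuasiCompact B.hom]
    (hcase : (AlgGrp.IsNormalHom a ∧ AlgGrp.IsNormalHom b ∧ QuasiCompact A.hom) ∨ ConnectedSpace A.left)
    (Γ : Over (Spec (CommRingCat.of k))) [GrpObj Γ] (i : Γ ⟶ G) [IsMonHom i] [IsClosedImmersion i.left]
    (hf : ∃ f' : A ⊗ B ⟶ Γ, f' ≫ i = (((fst A B) ≫ a) * ((snd A B) ≫ b) * ((fst A B) ≫ a)⁻¹ * ((snd A B) ≫ b)⁻¹))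
    (hmin : ∀ (Γ' : Over (Spec (CommRingCat.of k))) (_ : GrpObj Γ') (i' : Γ' ⟶ G), IsMonHom i' → IsClosedImmersion i'.left →
        (∃ f'' : A ⊗ B ⟶ Γ', f'' ≫ i' = (((fst A B) ≫ a) * ((snd A B) ≫ b) * ((fst A B) ≫ a)⁻¹ * ((snd A B) ≫ b)⁻¹)) → ∃ j : Γ ⟶ Γ', j ≫ i' = i) :
    QuasiCompact Γ.hom ∧ (ConnectedSpace A.left → ConnectedSpace Γ.left) := by
  obtain ⟨f', hf'⟩ := hf
  have hmi : Mono i := Over.mono_of_mono_left i
  have hma : Mono a := Over.mono_of_mono_left a
  have hΓ : LocallyOfFiniteType Γ.hom := by
    rw [← Over.w i]; infer_instance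
  -- case (b)
  have caseb : ConnectedSpace A.left → QuasiCompact Γ.hom ∧ ConnectedSpace Γ.left := by
    intro hA
    have key : lift (toUnit B ≫ η[A]) (𝟙 B) ≫ f' = toUnit B ≫ η[Γ] := by
      rw [← cancel_mono i, Category.assoc, hf', Category.assoc, IsMonHom.one_hom i]
      simp only [comp_mul, comp_inv, lift_fst_assoc, lift_snd_assoc, Category.id_comp,
        Category.assoc, IsMonHom.one_hom a]
      rw [← Hom.one_def]
      group
    obtain ⟨Γ0, hΓ0, i0, h1, h2, h3, h4, h5, h6⟩ := K206.Comm.exists_neutral Γ
    obtain ⟨f'', hf''⟩ := K206.Comm.exists_lift_of_open i0 f' (by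
      rintro _ ⟨z, rfl⟩
      rw [h6 (IsLocalRing.closedPoint k)]
      exact K206.Comm.mem_component f' η[Γ] key _ z)
    have hcomp : IsClosedImmersion (i0 ≫ i).left := by
      rw [Over.comp_left]; infer_instance
    obtain ⟨j, hj⟩ := hmin Γ0 hΓ0 (i0 ≫ i) inferInstance hcomp
      ⟨f'', by rw [← Category.assoc, hf'', hf']⟩
    have hj0 : j ≫ i0 = 𝟙 Γ := by
      rw [← cancel_mono i, Category.assoc, hj, Category.id_comp]
    have hsurj : Function.Surjective i0.left := by
      intro x
      refine ⟨j.left x, ?_⟩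
      change (j.left ≫ i0.left) x = x
      rw [← Over.comp_left, hj0]
      rfl
    have hS : Surjective i0.left := ⟨hsurj⟩
    have hiso : IsIso i0.left := (isIso_iff_isOpenImmersion_and_surjective i0.left).mpr ⟨h3, hS⟩
    constructor
    · have : inv i0.left ≫ Γ0.hom = Γ.hom := by rw [IsIso.inv_comp_eq, Over.w i0]
      rw [← this]
      infer_instance
    · exact (i0.left.homeomorph).connectedSpace_iff.mp h4
  refine ⟨?_, fun h => (caseb h).2⟩
  rcases hcase with ⟨ha, hb, hq⟩ | h
  · obtain ⟨n, hn⟩ := ha (A ⊗ B) (snd A B ≫ b) (fst A B)⁻¹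
    obtain ⟨j, hj⟩ := hmin A ‹_› a ‹_› ‹_› ⟨fst A B * n, by
      rw [mul_comp, ← hn, inv_comp]
      group⟩
    have hja : j.left ≫ a.left = i.left := by rw [← Over.comp_left, hj]
    have hjc : IsClosedImmersion j.left := by
      have : IsClosedImmersion (j.left ≫ a.left) := by rw [hja]; infer_instance
      exact IsClosedImmersion.of_comp j.left a.left
    rw [← Over.w j]
    infer_instance
  · exact (caseb h).1

end Groth.Agent.S5365
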