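import Groth.Statements.S5366
import Groth.Agent.SGA3.K206.WordSch
import Groth.Agent.SGA3.K206.ExtPts
import Groth.Agent.Books.AntiAffine

set_option autoImplicit false
universe u
open CategoryTheory CategoryTheory.Limits MonoidalCategory CartesianMonoidalCategory MonObj GrpObj AlgebraicGeometry
open SGA3

namespace Groth.Agent.S5366

/-- (i) ⟺ (iii): let G be a smooth group scheme of finite type over a field k, Ω an algebraically closed
extension field of k and n a natural number. Then G is solvable of class n (the n-th term of the
derived series of the group G(T) is trivial for every k-scheme T) if and only if the n-th term of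
the derived series of the group of Ω-points G(Ω) is trivial; and G is nilpotent of class n (the n-th
term of the lower central series of G(T) is trivial for every T) if and only if the n-th term of the
lower central series of G(Ω) is trivial. -/
theorem result (k : Type u) [Field k] (G : Over (Spec (CommRingCat.of k))) [GrpObj G]
    [Smooth G.hom] [QuasiCompact G.hom] (Ω : Type u) [Field Ω] [Algebra k Ω] [IsAlgClosed Ω] (n : ℕ) :
    ((∀ T : Over (Spec (CommRingCat.of k)), derivedSeries (T ⟶ G) n = ⊥) ↔ derivedSeries ((Over.mk (Spec.map (CommRingCat.ofHom (algebraMap k Ω))) : Over (Spec (CommRingCat.of k))) ⟶ G) n = ⊥) ∧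
    ((∀ T : Over (Spec (CommRingCat.of k)), Subgroup.lowerCentralSeries (⊤ : Subgroup (T ⟶ G)) n = ⊥) ↔ Subgroup.lowerCentralSeries (⊤ : Subgroup (((Over.mk (Spec.map (CommRingCat.ofHom (algebraMap k Ω))) : Over (Spec (CommRingCat.of k))) ⟶ G))) n = ⊥) := by
  have hsep : IsSeparated G.hom := Groth.Agent.Books.AntiAffine.isSeparated_hom G
  have hlft : LocallyOfFiniteType G.hom := inferInstance
  constructor
  · refine ⟨fun h => h _, fun h => ?_⟩
    rw [K206.Words.forall_derivedSeries_eq_bot_iff]
    rw [K206.Words.derivedSeries_eq_bot_iff] at h
    have h1 : Smooth (K206.Words.DObj G n).hom := K206.WordSch.prop_DObj G (P := @Smooth) ‹_› n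
    have h2 : GeometricallyReduced (K206.Words.DObj G n).hom :=
      Groth.Agent.Flat2B.SmoothGeom.geometricallyReduced_of_smooth _
    exact K206.ExtPts.ext_of_geometric_points Ω (fun x => by rw [h x, comp_one])
  · refine ⟨fun h => h _, fun h => ?_⟩
    rw [K206.Words.forall_lowerCentralSeries_eq_bot_iff]
    rw [K206.Words.lowerCentralSeries_eq_bot_iff] at h
    have h1 : Smooth (K206.Words.LObj G n).hom := K206.WordSch.prop_LObj G (P := @Smooth) ‹_› n
    have h2 : GeometricallyReduced (K206.Words.LObj G n).hom :=
      Groth.Agent.Flat2B.SmoothGeom.geometricallyReduced_of_smooth _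
    exact K206.ExtPts.ext_of_geometric_points Ω (fun x => by rw [h x, comp_one])

end Groth.Agent.S5366
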