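import Groth.Statements.S5371
import Groth.Agent.SGA3.K206.QuotTransfer

set_option autoImplicit false
universe u
open CategoryTheory CategoryTheory.Limits MonoidalCategory CartesianMonoidalCategory MonObj GrpObj AlgebraicGeometry
open SGA3

namespace Groth.Agent.S5371

/-- Let u : G' → G be a monomorphism of S-group schemes and p : G → G'' a morphism of S-schemes which is
covering for the fpqc topology (some Z → G'' which is flat, surjective, with every affine open of
G'' the image of a quasi-compact open of Z, factors through p) and such that the square (g, h) ↦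
g·u(h), first projection G ×_S G' → G, p, p is cartesian, so that G'' represents the fpqc quotient
sheaf G/G'. (xii) G' is flat and locally of finite presentation over S if and only if p is
surjective, flat and locally of finite presentation; in that case, if G is locally of finite
presentation (resp. locally of finite type, of finite type, smooth, etale, unramified, locally
quasi-finite) over S, so is G''. (xiii) If G' is flat and of finite presentation over S then p is of
finite presentation, and G is of finite presentation over S if and only if G'' is. -/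
theorem result (S : Scheme.{u}) (G G' G'' : Over S) [GrpObj G] [GrpObj G']
    (u : G' ⟶ G) [IsMonHom u] [Mono u] (p : G ⟶ G'')
    (hcov : (∃ (Z : Scheme.{u}) (q : Z ⟶ G''.left) (r : Z ⟶ G.left), r ≫ p.left = q ∧ Surjective q ∧ Flat q ∧
        ∀ V : G''.left.Opens, IsAffineOpen V → ∃ W : Z.Opens, IsCompact (W : Set Z) ∧ q.base '' (W : Set Z) = (V : Set G''.left)))
    (hsq : IsPullback ((G ◁ u) ≫ μ[G]) (fst G G') p p) :
    ((Flat G'.hom ∧ LocallyOfFinitePresentation G'.hom) ↔
      (Surjective p.left ∧ Flat p.left ∧ LocallyOfFinitePresentation p.left)) ∧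
    (Flat p.left → LocallyOfFinitePresentation p.left →
      (LocallyOfFinitePresentation G.hom → LocallyOfFinitePresentation G''.hom) ∧
      (LocallyOfFiniteType G.hom → LocallyOfFiniteType G''.hom) ∧
      (LocallyOfFiniteType G.hom → QuasiCompact G.hom → QuasiCompact G''.hom) ∧
      (Smooth G.hom → Smooth G''.hom) ∧ (Etale G.hom → Etale G''.hom) ∧
      (FormallyUnramified G.hom → LocallyOfFinitePresentation G.hom → FormallyUnramified G''.hom) ∧
      (LocallyQuasiFinite G.hom → LocallyOfFiniteType G.hom → LocallyQuasiFinite G''.hom)) ∧
    (Flat G'.hom → LocallyOfFinitePresentation G'.hom → QuasiCompact G'.hom → QuasiSeparated G'.hom →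
      QuasiCompact p.left ∧ QuasiSeparated p.left ∧ LocallyOfFinitePresentation p.left ∧
      ((LocallyOfFinitePresentation G.hom ∧ QuasiCompact G.hom ∧ QuasiSeparated G.hom) ↔
        (LocallyOfFinitePresentation G''.hom ∧ QuasiCompact G''.hom ∧ QuasiSeparated G''.hom))) := by
  have hc : K206.Fpqc.IsCov p.left := K206.Fpqc.isCov_iff.mpr hcov
  have hs := hc.surjective
  have hw : p.left ≫ G''.hom = G.hom := Over.w p
  refine ⟨⟨fun h => ⟨hs, K206.QuotRed.prop_quotient_map (P := @Flat) hc hsq h.1,
      K206.QuotRed.prop_quotient_map (P := @LocallyOfFinitePresentation) hc hsq h.2⟩,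
    fun h => ⟨K206.QuotRed.prop_subgroup (P := @Flat) hsq h.2.1,
      K206.QuotRed.prop_subgroup (P := @LocallyOfFinitePresentation) hsq h.2.2⟩⟩, ?_, ?_⟩
  · intro h1 h2
    rw [← hw]
    refine ⟨fun h => ?_, fun h => ?_, fun h h' => ?_, fun h => ?_, fun h => ?_, fun h h' => ?_,
      fun h h' => ?_⟩
    · exact Groth.Agent.S0114.result p.left G''.hom
    · exact Groth.Agent.S4091.locallyOfFiniteType_of_fppf_comp p.left G''.hom
    · exact Groth.Agent.Sga3.H771.QcDesc.quasiCompact_of_surjective_comp p.left G''.hom
    · exact Groth.Agent.S0115.result p.left G''.hom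
    · exact K206.QuotTransfer.etale_of_fppf_comp p.left G''.hom
    · exact K206.QuotTransfer.formallyUnramified_of_fppf_comp p.left G''.hom
    · have := Groth.Agent.S4091.locallyOfFiniteType_of_fppf_comp p.left G''.hom
      exact Groth.Agent.S9336.result p.left G''.hom
  · intro h1 h2 h3 h4
    have e1 := K206.QuotRed.prop_quotient_map (P := @Flat) hc hsq h1
    have e2 := K206.QuotRed.prop_quotient_map (P := @LocallyOfFinitePresentation) hc hsq h2
    have e3 := K206.QuotRed.prop_quotient_map (P := @QuasiCompact) hc hsq h3
    have e4 := K206.QuotRed.prop_quotient_map (P := @QuasiSeparated) hc hsq h4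
    refine ⟨e3, e4, e2, ?_⟩
    rw [← hw]
    constructor
    · exact (Groth.Agent.S4091.result p.left G''.hom).2
    · rintro ⟨h5, h6, h7⟩
      exact ⟨inferInstance, inferInstance, inferInstance⟩

end Groth.Agent.S5371
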