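import Groth.Statements.S5376
import Groth.Agent.Books.ComodPoints

set_option autoImplicit false
universe u
open CategoryTheory CategoryTheory.Limits MonoidalCategory CartesianMonoidalCategory MonObj GrpObj AlgebraicGeometry
open SGA3

namespace Groth.Agent.S5376

/-- Let k be an algebraically closed field, A a finitely generated commutative Hopf algebra over k which
is reduced (a reduced affine algebraic k-group G), V a finite-dimensional A-comodule and v a vector
of V. Let E be the k-subspace of V spanned by the vectors g·v for g running over the k-points of G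
(algebra maps A → k). Then E is a subcomodule of V containing v, and it is the smallest one. -/
theorem result (k : Type u) [Field k] [IsAlgClosed k] (A : Type u) [CommRing A] [HopfAlgebra k A]
    [Algebra.FiniteType k A] [IsReduced A] (V : Type u) [AddCommGroup V] [Module k V] [HopfRep.Comod k A V]
    [Module.Finite k V] (v : V) :
    letI E : Submodule k V := Submodule.span k (Set.range fun g : A →ₐ[k] k => HopfRep.Comod.act k A V g v)
    HopfRep.IsSubcomod (k := k) (A := A) E ∧ v ∈ E ∧
      ∀ W : Submodule k V, HopfRep.IsSubcomod (k := k) (A := A) W → v ∈ W → E ≤ W := by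
  have hsep : ∀ a : A, (∀ g : A →ₐ[k] k, g a = 0) → a = 0 := fun a ha =>
    Groth.Agent.Books.PointsAC.eq_zero_of_forall_point (k := k) A a ha
  refine ⟨?_, ?_, ?_⟩
  · refine Groth.Agent.Books.ComodPoints.isSubcomod_of_stable hsep _ ?_
    intro h w hw
    induction hw using Submodule.span_induction with
    | mem x hx =>
      obtain ⟨g, rfl⟩ := hx
      refine Submodule.subset_span
        ⟨((WithConv.toConv h : WithConv (A →ₐ[k] k)) * WithConv.toConv g).ofConv, ?_⟩
      have := LinearMap.congr_fun (Groth.Agent.Books.ComodPoints.act_mul (V := V)
        (WithConv.toConv h : WithConv (A →ₐ[k] k)) (WithConv.toConv g)) v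
      exact this
    | zero => rw [map_zero]; exact Submodule.zero_mem _
    | add x y _ _ hx hy => rw [map_add]; exact Submodule.add_mem _ hx hy
    | smul c x _ hx => rw [map_smul]; exact Submodule.smul_mem _ c hx
  · refine Submodule.subset_span ⟨(1 : WithConv (A →ₐ[k] k)).ofConv, ?_⟩
    exact LinearMap.congr_fun (Groth.Agent.Books.ComodPoints.act_one (k := k) (A := A) (V := V)) v
  · intro W hW hv
    rw [Submodule.span_le]
    rintro _ ⟨g, rfl⟩
    exact Groth.Agent.Books.ComodPoints.act_mem_of_isSubcomod hW g hv

end Groth.Agent.S5376
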