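import Groth.Statements.S5377
import Groth.Agent.Proet.IndFlat
import Mathlib.RingTheory.RingHom.FaithfullyFlat

set_option autoImplicit false
universe u
open CategoryTheory CategoryTheory.Limits MonoidalCategory CartesianMonoidalCategory MonObj GrpObj AlgebraicGeometry
open SGA3

namespace Groth.Agent.S5377

open Groth.Agent.Proet in
theorem ff_colimit_of_isColimit {J : Type u} [SmallCategory J] [IsFiltered J] {D E : J ⥤ CommRingCat.{u}}
    (α : D ⟶ E) {c : Cocone D} {d : Cocone E} (hc : IsColimit c) (hd : IsColimit d)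
    (φ : c.pt ⟶ d.pt) (h : ∀ j, c.ι.app j ≫ φ = α.app j ≫ d.ι.app j)
    (hα : ∀ j, (α.app j).hom.FaithfullyFlat) : φ.hom.FaithfullyFlat := by
  have hflat : φ.hom.Flat := IndFlat.flat_colimit α hc hd φ h (fun j => (hα j).flat)
  algebraize [φ.hom]
  change Module.FaithfullyFlat c.pt d.pt
  refine ⟨fun {m} hm hm' => ?_⟩
  have h1 : (1 : d.pt) ∈ m.map (algebraMap c.pt d.pt) := by
    have : (1 : d.pt) ∈ (m • ⊤ : Submodule c.pt d.pt) := by rw [hm']; trivial
    rw [Ideal.smul_top_eq_map] at this
    exact this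
  obtain ⟨l, x, g, hg⟩ := Submodule.mem_span_set'.1 h1
  choose f hf hfg using fun i => (g i).2
  obtain ⟨j, f', hf'⟩ := IndFlat.exists_rep_finite hc f
  obtain ⟨k, x', hx'⟩ := IndFlat.exists_rep_finite hd x
  let n := IsFiltered.max j k
  let a := IsFiltered.leftToMax j k
  let b := IsFiltered.rightToMax j k
  have key : (d.ι.app n).hom (∑ i, (α.app n).hom ((D.map a).hom (f' i)) * (E.map b).hom (x' i)) =
      (d.ι.app n).hom 1 := by
    rw [map_one, ← hg, map_sum]
    refine Finset.sum_congr rfl fun i _ => ?_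
    rw [map_mul, smul_eq_mul, mul_comm, ← hfg i]
    congr 1
    · rw [← hx']
      exact congr(($(d.w b)).hom (x' i))
    · rw [← hf']
      have h1 := congr(($(h n)).hom ((D.map a).hom (f' i)))
      have h2 := congr(($(c.w a)).hom (f' i))
      exact h1.symm.trans (congrArg φ.hom h2)
  obtain ⟨p, t, ht⟩ := IndFlat.exists_map_eq hd _ _ key
  rw [map_one, map_sum] at ht
  have hp := hα p
  algebraize [(α.app p).hom]
  have hp' : Module.FaithfullyFlat (D.obj p) (E.obj p) := hp
  have hne : m.comap (c.ι.app p).hom ≠ ⊤ := Ideal.comap_ne_top _ hm.ne_top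
  have h5 : (1 : E.obj p) ∈ (m.comap (c.ι.app p).hom).map (algebraMap (D.obj p) (E.obj p)) := by
    rw [← ht]
    refine Ideal.sum_mem _ fun i _ => ?_
    rw [map_mul]
    refine Ideal.mul_mem_right _ _ ?_
    have h6 : (E.map t).hom ((α.app n).hom ((D.map a).hom (f' i))) =
        (α.app p).hom ((D.map (a ≫ t)).hom (f' i)) := by
      have h1 := congr(($(α.naturality t)).hom ((D.map a).hom (f' i)))
      have h2 : (D.map (a ≫ t)).hom (f' i) = (D.map t).hom ((D.map a).hom (f' i)) := by
        rw [D.map_comp]; rfl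
      rw [h2]
      exact h1.symm
    rw [h6]
    refine Ideal.mem_map_of_mem _ ?_
    rw [Ideal.mem_comap]
    have h7 := congr(($(c.w (a ≫ t))).hom (f' i))
    have h8 : (c.ι.app p).hom ((D.map (a ≫ t)).hom (f' i)) = f i := h7.trans (hf' i)
    rw [h8]
    exact hf i
  have h9 := (Module.FaithfullyFlat.iff_flat_and_ideal_smul_eq_top (D.obj p) (E.obj p)).1 hp'
  refine hne (h9.2 _ ?_)
  rw [Ideal.smul_top_eq_map, (Ideal.eq_top_iff_one _).2 h5]
  rfl

/-- Let (C_i → A_i)_i be a filtered direct system of homomorphisms of commutative rings, each of which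
is faithfully flat. Then the induced homomorphism colim C_i → colim A_i is faithfully flat. -/
theorem result (J : Type u) [SmallCategory J] [IsFiltered J]
    (C A : J ⥤ CommRingCat.{u}) (φ : C ⟶ A) (h : ∀ j : J, (φ.app j).hom.FaithfullyFlat) :
    (colimMap φ).hom.FaithfullyFlat :=
  ff_colimit_of_isColimit φ (colimit.isColimit C) (colimit.isColimit A) (colimMap φ)
    (fun j => by simp) h

end Groth.Agent.S5377
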