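import Groth.Statements.S5380
import Groth.Agent.Sga3.H788.FibCrit
import Mathlib.LinearAlgebra.TensorProduct.Quotient
import Mathlib.RingTheory.Localization.BaseChange

set_option autoImplicit false
universe u
open CategoryTheory CategoryTheory.Limits MonoidalCategory CartesianMonoidalCategory MonObj GrpObj AlgebraicGeometry
open SGA3

namespace Groth.Agent.S5380

open TensorProduct in
/-- Let R be a discrete valuation ring with uniformizer π, A a flat commutative R-algebra and M an
A-module which is flat over R. Suppose that M/πM is a flat module over A/πA and that M ⊗_R K is a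
flat module over A ⊗_R K, K the fraction field of R (equivalently, M[1/π] is flat over A[1/π], the
form used here). Then M is a flat A-module. -/
theorem result (R : Type u) [CommRing R] [IsDomain R] [IsDiscreteValuationRing R]
    (π : R) (hπ : Irreducible π) (A : Type u) [CommRing A] [Algebra R A] [Module.Flat R A]
    (M : Type u) [AddCommGroup M] [Module A M] [Module R M] [IsScalarTower R A M] [Module.Flat R M]
    (h1 : Module.Flat (A ⧸ Ideal.span {algebraMap R A π}) (M ⧸ (Ideal.span {algebraMap R A π} • (⊤ : Submodule A M))))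
    (h2 : Module.Flat (Localization.Away (algebraMap R A π)) (LocalizedModule (Submonoid.powers (algebraMap R A π)) M)) :
    Module.Flat A M := by
  refine Groth.Agent.Sga3.H788.FibCrit.flat_of_fibres (R := R) fun k _ _ => ?_
  have hcomm : algebraMap A (A ⊗[R] k) (algebraMap R A π) = 1 ⊗ₜ[R] algebraMap R k π := by
    rw [Algebra.TensorProduct.algebraMap_apply, Algebra.algebraMap_self, RingHom.id_apply,
      Algebra.algebraMap_eq_smul_one, smul_tmul, Algebra.algebraMap_eq_smul_one]
  by_cases hk : algebraMap R k π = 0
  · let I : Ideal A := Ideal.span {algebraMap R A π}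
    let f : (A ⧸ I) →ₐ[A] (A ⊗[R] k) := Ideal.Quotient.liftₐ I (Algebra.ofId A (A ⊗[R] k)) (by
      intro a ha
      obtain ⟨b, rfl⟩ := Ideal.mem_span_singleton'.1 ha
      rw [Algebra.ofId_apply, map_mul, hcomm, hk, tmul_zero, mul_zero])
    let e : ((A ⧸ I) ⊗[A] M) ≃ₗ[A ⧸ I] M ⧸ (I • (⊤ : Submodule A M)) :=
      (quotTensorEquivQuotSMul M I).extendScalarsOfSurjective Ideal.Quotient.mk_surjective
    have : Module.Flat (A ⧸ I) ((A ⧸ I) ⊗[A] M) := Module.Flat.of_linearEquiv e
    exact Groth.Agent.Sga3.H788.FibCrit.flat_of_algHom f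
  · let S := Submonoid.powers (algebraMap R A π)
    let f : Localization S →ₐ[A] (A ⊗[R] k) := IsLocalization.liftAlgHom (M := S)
      (f := Algebra.ofId A (A ⊗[R] k)) (by
        rintro ⟨_, n, rfl⟩
        rw [Algebra.ofId_apply, map_pow, hcomm]
        refine IsUnit.pow _ ?_
        exact (IsUnit.mk0 _ hk).map (Algebra.TensorProduct.includeRight : k →ₐ[R] A ⊗[R] k))
    have : Module.Flat (Localization S) (Localization S ⊗[A] M) :=
      Module.Flat.of_linearEquiv (LocalizedModule.equivTensorProduct S M).symm
    exact Groth.Agent.Sga3.H788.FibCrit.flat_of_algHom f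

end Groth.Agent.S5380
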