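import Groth.Statements.S5382
import Groth.Agent.SGA3.K207.HullEtale

set_option autoImplicit false
universe u
open CategoryTheory CategoryTheory.Limits MonoidalCategory CartesianMonoidalCategory MonObj GrpObj AlgebraicGeometry
open SGA3

namespace Groth.Agent.S5382

/-- (iii) (for S the spectrum of a Dedekind domain R with fraction field K): let G be an R-group scheme
which is flat and of finite type over R, and ρ : G → Spec O(G) the canonical morphism to its affine
hull. (ii) ρ is locally of finite presentation and Spec O(G) is of finite type over R. (iii) If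
moreover the generic fibre G_K is affine, then the kernel of ρ (the fibre of ρ over the image of the
unit section) is etale over R. (The published statement also asserts that ρ is quasi-compact and
quasi-separated, that Spec O(G) represents the fppf quotient of G by this kernel, and that the
kernel is trivial when G is separated; this row omits those assertions.) -/
theorem result (R : Type u) [CommRing R] [IsDedekindDomain R]
    (K : Type u) [Field K] [Algebra R K] [IsFractionRing R K]
    (G : Over (Spec (CommRingCat.of R))) [GrpObj G] [Flat G.hom] [QuasiCompact G.hom] [QuasiSeparated G.hom]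
    [LocallyOfFiniteType G.hom] :
    LocallyOfFinitePresentation G.left.toSpecΓ ∧
    LocallyOfFiniteType (Spec.map G.hom.appTop ≫ (Spec (CommRingCat.of R)).isoSpec.inv) ∧
    (IsAffine (pullback G.hom (Spec.map (CommRingCat.ofHom (algebraMap R K)))) →
      Etale (pullback.snd G.left.toSpecΓ (η[G].left ≫ G.left.toSpecΓ) ≫ (𝟙_ (Over (Spec (CommRingCat.of R)))).hom)) := by
  obtain ⟨h1, h2, h3⟩ := Groth.Agent.S4108.result R G
  obtain ⟨h4, h5⟩ := K207.HullEtale.noetherian_finiteType_Γ G.hom h1 h2
  have hX1 : CompactSpace G.left := QuasiCompact.compactSpace_of_compactSpace G.hom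
  have hX2 : QuasiSeparatedSpace G.left := quasiSeparatedSpace_of_quasiSeparated G.hom
  let S : Scheme.{u} := Spec (CommRingCat.of R)
  let fH : Spec Γ(G.left, ⊤) ⟶ S := Spec.map G.hom.appTop ≫ S.isoSpec.inv
  have hf : G.left.toSpecΓ ≫ fH = G.hom := by
    rw [← Category.assoc, ← Scheme.toSpecΓ_naturality, Category.assoc]
    change G.hom ≫ S.isoSpec.hom ≫ S.isoSpec.inv = G.hom
    rw [Iso.hom_inv_id, Category.comp_id]
  have h6 : LocallyOfFiniteType G.left.toSpecΓ := by
    have : LocallyOfFiniteType (G.left.toSpecΓ ≫ fH) := by rw [hf]; infer_instance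
    exact locallyOfFiniteType_of_comp G.left.toSpecΓ fH
  have h7 : IsLocallyNoetherian (Spec Γ(G.left, ⊤)) := inferInstance
  have h8 : LocallyOfFinitePresentation G.left.toSpecΓ :=
    LocallyOfFinitePresentation.iff_locallyOfFiniteType.2 h6
  refine ⟨h8, h5, fun hK => ?_⟩
  let j : Spec (CommRingCat.of K) ⟶ S := Spec.map (CommRingCat.ofHom (algebraMap R K))
  have hj1 : Flat j := by
    rw [Flat.SpecMap_iff]
    change (algebraMap R K).Flat
    rw [RingHom.flat_algebraMap_iff]
    exact IsLocalization.flat K (nonZeroDivisors R)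
  have hj2 : IsSchemeTheoreticallyDominant j := by
    have := Groth.Agent.Sga3.H789.FieldHull2.isSchemeTheoreticallyDominant_of_injective j ?_
    · exact this
    · have h1 := Scheme.ΓSpecIso_naturality (CommRingCat.ofHom (algebraMap R K))
      have h2 : j.appTop = (Scheme.ΓSpecIso _).hom ≫ CommRingCat.ofHom (algebraMap R K) ≫
          (Scheme.ΓSpecIso _).inv := by
        rw [← Category.assoc, ← h1, Category.assoc, Iso.hom_inv_id, Category.comp_id]
      rw [h2]
      simp only [CommRingCat.hom_comp, RingHom.coe_comp, CommRingCat.hom_ofHom]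
      refine ((ConcreteCategory.bijective_of_isIso
        (Scheme.ΓSpecIso (CommRingCat.of K)).inv).1.comp (IsFractionRing.injective R K)).comp
          (ConcreteCategory.bijective_of_isIso (Scheme.ΓSpecIso (CommRingCat.of R)).hom).1
  have hφ : IsIso G.left.toSpecΓ.appTop := by
    rw [Scheme.toSpecΓ_appTop]; infer_instance
  have h9 := Groth.Agent.Sga3.H789.HullIso.isIso_baseChange G.left.toSpecΓ hf
    (IsPullback.of_hasPullback G.hom j)
    (IsPullback.of_hasPullback fH j) (pullback.map G.hom j fH j G.left.toSpecΓ (𝟙 _) (𝟙 S)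
      (by rw [hf, Category.comp_id]) (by rw [Category.comp_id, Category.id_comp]))
      (pullback.lift_fst _ _ _) ((pullback.lift_snd _ _ _).trans (Category.comp_id _))
  have he : (η[G].left ≫ G.left.toSpecΓ) ≫ fH = (𝟙_ (Over (Spec (CommRingCat.of R)))).hom := by
    rw [Category.assoc, hf]
    exact Over.w η[G]
  have hm : Mono (𝟙_ (Over (Spec (CommRingCat.of R)))).hom :=
    inferInstanceAs (Mono (𝟙 (Spec (CommRingCat.of R))))
  have hf1 : Flat (𝟙_ (Over (Spec (CommRingCat.of R)))).hom :=
    inferInstanceAs (Flat (𝟙 (Spec (CommRingCat.of R))))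
  have hf2 : LocallyOfFinitePresentation (𝟙_ (Over (Spec (CommRingCat.of R)))).hom :=
    inferInstanceAs (LocallyOfFinitePresentation (𝟙 (Spec (CommRingCat.of R))))
  have h10 := K207.HullEtale.mono_ker G.left.toSpecΓ G.hom fH hf (η[G].left ≫ G.left.toSpecΓ)
    (𝟙_ (Over (Spec (CommRingCat.of R)))).hom he j inferInstance
  exact K207.HullEtale.etale_of_generic _ j h10

end Groth.Agent.S5382
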