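import Groth.Statements.S5384
import Groth.Agent.Sga3C.LocClosedGrp
import Groth.Agent.Sga3C.ArtinBase
import Mathlib.AlgebraicGeometry.IdealSheaf.Functorial
import Mathlib.AlgebraicGeometry.Morphisms.Immersion
import Mathlib.AlgebraicGeometry.Morphisms.ClosedImmersion

set_option autoImplicit false
universe u
open CategoryTheory CategoryTheory.Limits MonoidalCategory CartesianMonoidalCategory MonObj GrpObj AlgebraicGeometry
open SGA3

namespace Groth.Agent.S5384

/-- Let A be a local artinian ring, G an A-group scheme and u : H → G a homomorphism of A-group schemes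
which is an immersion (a subgroup scheme; no finiteness is assumed). Then u is a closed immersion. -/
theorem result (A : Type u) [CommRing A] [IsArtinianRing A] [IsLocalRing A] (G H : Over (Spec (CommRingCat.of A))) [GrpObj G] [GrpObj H]
    (u : H ⟶ G) [IsMonHom u] [IsImmersion u.left] : IsClosedImmersion u.left := by
  have hsub : Subsingleton (Spec (CommRingCat.of A)) := inferInstanceAs (Subsingleton (PrimeSpectrum A))
  rw [IsClosedImmersion.iff_isPreimmersion]
  refine ⟨inferInstance, ?_⟩
  let Z : TopologicalSpace.Closeds G.left := TopologicalSpace.Closeds.closure (Set.range u.left)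
  let I := Scheme.IdealSheafData.vanishingIdeal Z
  let C : Over (Spec (CommRingCat.of A)) := Over.mk (I.subschemeι ≫ G.hom)
  let i : C ⟶ G := Over.homMk I.subschemeι
  have hi : Set.range i.left = closure (Set.range u.left) := by
    change Set.range I.subschemeι = _
    rw [Scheme.IdealSheafData.range_subschemeι]
    simp [I, Z]
  obtain ⟨V, F, hV, hF, hVF⟩ := u.left.isLocallyClosed_range
  refine Groth.Agent.Sga3C.LocClosedGrp.isClosed_range_of_locallyClosed (C := C) u
    (fun T => Groth.Agent.Sga3C.ArtinBase.universallyOpen_of_isArtinianRing A T.hom) i hi V hV ?_ ?_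
  · rintro x ⟨hx, hxV⟩
    rw [hVF]
    refine ⟨hxV, ?_⟩
    have : closure (Set.range u.left) ⊆ F := by
      rw [hVF]
      exact (closure_mono Set.inter_subset_right).trans hF.closure_eq.le
    exact this hx
  · rw [hVF]
    exact Set.inter_subset_left

end Groth.Agent.S5384
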