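import Groth.Statements.S5386
import Groth.Agent.SGA3.K207.StrictRat

set_option autoImplicit false
universe u
open CategoryTheory CategoryTheory.Limits MonoidalCategory CartesianMonoidalCategory MonObj GrpObj AlgebraicGeometry
open SGA3

namespace Groth.Agent.S5386

/-- Let A be a local artinian ring, G an A-group scheme which is flat and locally of finite type over A,
and x a closed point of G. Then there is a local A-algebra A', finite and free as an A-module, such
that every point of G ⊗_A A' lying over x is strictly rational over A': it is the image of the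
closed point under some section Spec A' → G ⊗_A A' of the projection. -/
theorem result (A : Type u) [CommRing A] [IsArtinianRing A] [IsLocalRing A] (G : Over (Spec (CommRingCat.of A))) [GrpObj G] [Flat G.hom]
    [LocallyOfFiniteType G.hom] (x : G.left) (hx : IsClosed ({x} : Set G.left)) :
    ∃ (A' : Type u) (_ : CommRing A') (_ : IsLocalRing A') (_ : Algebra A A') (_ : Module.Finite A A') (_ : Module.Free A A'),
      ∀ x' : ↥(pullback G.hom (Spec.map (CommRingCat.ofHom (algebraMap A A')))),
        (pullback.fst G.hom (Spec.map (CommRingCat.ofHom (algebraMap A A')))).base x' = x →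
        ∃ s : Spec (CommRingCat.of A') ⟶ pullback G.hom (Spec.map (CommRingCat.ofHom (algebraMap A A'))),
          s ≫ pullback.snd G.hom (Spec.map (CommRingCat.ofHom (algebraMap A A'))) = 𝟙 _ ∧ x' ∈ Set.range s.base := by
  obtain ⟨B, g, hB, hfin, hfl, hz⟩ := Groth.Agent.Sga3C.QuotFinPt.exists_finFlat_pt G x hx
  obtain ⟨φ, hφ⟩ := Spec.map_surjective (g ≫ G.hom)
  rw [← hφ, IsFinite.SpecMap_iff] at hfin
  rw [← hφ, Flat.SpecMap_iff] at hfl
  letI : Algebra A B := φ.hom.toAlgebra
  have h1 : Module.Finite A B := hfin
  have h2 : Module.Flat A B := hfl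
  have h3 : Module.Free A B := Module.free_of_flat_of_isLocalRing
  let Ω := AlgebraicClosure (IsLocalRing.ResidueField A)
  letI : Algebra A Ω := ((algebraMap (IsLocalRing.ResidueField A) Ω).comp (IsLocalRing.residue A)).toAlgebra
  obtain ⟨A', _, hA', _, hf', hfr', Φ, hΦ⟩ := K207.StrictRat.exists_local A B Ω
  refine ⟨A', inferInstance, hA', inferInstance, hf', hfr', fun x' hx' => ?_⟩
  have : IsArtinianRing A' := IsArtinianRing.of_finite A A'
  exact K207.StrictRat.exists_section Φ hΦ G.hom g hφ.symm x' (IsLocalRing.closedPoint B)
    (hx'.trans (hz _).symm)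

end Groth.Agent.S5386
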