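import Groth.Statements.S5387
import Mathlib.AlgebraicGeometry.AlgClosed.Basic

set_option autoImplicit false
universe u
open CategoryTheory CategoryTheory.Limits MonoidalCategory CartesianMonoidalCategory MonObj GrpObj AlgebraicGeometry
open SGA3

namespace Groth.Agent.S5387

theorem unit_mulRight {C : Type*} [Category C] [CartesianMonoidalCategory C] {G : C} [GrpObj G] (x : 𝟙_ C ⟶ G) :
    η[G] ≫ (GrpObj.mulRight x).hom = x := by
  have e : η[G] ≫ (GrpObj.mulRight x).hom = lift (η[G]) x ≫ μ[G] := by
    simp [comp_lift_assoc]
  rw [e]
  have : lift (η[G]) x ≫ μ[G] = η[G] * x := by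
    rw [Hom.mul_def]
  rw [this, one_eq_one, _root_.one_mul]

/-- Let k be an algebraically closed field, G a group scheme locally of finite type over k and x a
closed point of G. Then the local ring of G at x is isomorphic to the local ring of G at the unit
point (an isomorphism is induced by a translation; this row asserts the existence of an isomorphism
of rings). -/
theorem result (k : Type u) [Field k] [IsAlgClosed k] (G : Over (Spec (CommRingCat.of k))) [GrpObj G]
    [LocallyOfFiniteType G.hom] (pt : ↥(𝟙_ (Over (Spec (CommRingCat.of k)))).left) (x : G.left) (hx : IsClosed ({x} : Set G.left)) :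
    Nonempty (G.left.presheaf.stalk (η[G].left.base pt) ≅ G.left.presheaf.stalk x) := by
  have : Subsingleton ↥(𝟙_ (Over (Spec (CommRingCat.of k)))).left :=
    inferInstanceAs (Subsingleton (PrimeSpectrum k))
  let x' : 𝟙_ (Over (Spec (CommRingCat.of k))) ⟶ G :=
    Over.homMk (pointOfClosedPoint G.hom x hx) (pointOfClosedPoint_comp G.hom x hx)
  let α : G ≅ G := GrpObj.mulRight (A := G) x'
  have hα : η[G] ≫ α.hom = x' := unit_mulRight x'
  have h2 : α.hom.left.base (η[G].left.base pt) = x := by
    have h3 := congr(($hα).left.base pt)
    have h4 : x'.left.base pt = x := by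
      have : pt = IsLocalRing.closedPoint k := Subsingleton.elim _ _
      rw [this]
      exact pointOfClosedPoint_apply G.hom x hx _
    rw [h4] at h3
    exact h3
  have : IsIso α.hom.left := inferInstanceAs (IsIso ((Over.forget _).map α.hom))
  rw [← h2]
  exact ⟨(asIso (α.hom.left.stalkMap (η[G].left.base pt))).symm⟩

end Groth.Agent.S5387
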