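import Groth.Statements.S5389
import Groth.Agent.SGA3.K207.MaxOpenGrp

set_option autoImplicit false
universe u
open CategoryTheory CategoryTheory.Limits MonoidalCategory CartesianMonoidalCategory MonObj GrpObj AlgebraicGeometry
open SGA3

namespace Groth.Agent.S5389

/-- Let P be a property of morphisms of schemes which is local on the target for the fpqc topology
(stable under base change, Zariski-local on the target, and descending along flat surjective
quasi-compact morphisms). Let u : G → H be a homomorphism of S-group schemes with G flat and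
universally open over S, W the largest open subscheme of H over which the restriction of u has P,
and V = u⁻¹(W). Then the image U of V in S is open and V is an open subgroup scheme of G over U: V
contains the unit point of every fibre of G that it meets, V is stable under the inversion of G, and
the product of a point of G ×_S G whose two projections lie in V lies in V. -/
theorem result (P : MorphismProperty Scheme.{u}) [P.IsStableUnderBaseChange] [IsZariskiLocalAtTarget P]
    [P.DescendsAlong (@Flat ⊓ @Surjective ⊓ @QuasiCompact)]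
    (S : Scheme.{u}) (G H : Over S) [GrpObj G] [GrpObj H] (u : G ⟶ H) [IsMonHom u] [Flat G.hom] [UniversallyOpen G.hom]
    (W : H.left.Opens) (hW : P (u.left ∣_ W)) (hmax : ∀ W' : H.left.Opens, P (u.left ∣_ W') → W' ≤ W) :
    letI V : G.left.Opens := u.left ⁻¹ᵁ W
    IsOpen (G.hom.base '' (V : Set G.left)) ∧
    (∀ g ∈ V, ∀ p : ↥(𝟙_ (Over S)).left, (𝟙_ (Over S)).hom.base p = G.hom.base g → η[G].left.base p ∈ V) ∧
    (∀ g ∈ V, ι[G].left.base g ∈ V) ∧
    (∀ z : ↥(G ⊗ G).left, (fst G G).left.base z ∈ V → (snd G G).left.base z ∈ V → μ[G].left.base z ∈ V) := by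
  have key : ∀ z : ↥(G ⊗ G).left, (snd G G).left.base z ∈ u.left ⁻¹ᵁ W →
      μ[G].left.base z ∈ u.left ⁻¹ᵁ W := by
    intro z hz
    have h1 := K207.MaxOpenGrp.shear_mem (P := P) u hW hmax ((G ◁ u).left.base z) (by
      have h2 := congr(($(whiskerLeft_snd G u)).left.base z)
      have h3 : (snd G H).left.base ((G ◁ u).left.base z) = u.left.base ((snd G G).left.base z) := h2
      rw [h3]
      exact hz)
    have h2 := congr(($((K207.MaxOpenGrp.isPullback_shear u).w)).left.base z)
    have h3 : u.left.base (μ[G].left.base z) =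
      ((Groth.Agent.Sga3C.GrpBasic.mulLeftShear u).hom ≫ snd G H).left.base ((G ◁ u).left.base z) := h2
    change u.left.base (μ[G].left.base z) ∈ W
    rw [h3]
    exact h1
  have key2 : ∀ g ∈ u.left ⁻¹ᵁ W, ∀ v : G ⟶ G, (v * 𝟙 G).left.base g ∈ u.left ⁻¹ᵁ W := by
    intro g hg v
    have h1 := key ((lift v (𝟙 G)).left.base g) (by
      have h2 := congr(($(lift_snd v (𝟙 G))).left.base g)
      have h3 : (snd G G).left.base ((lift v (𝟙 G)).left.base g) = g := h2
      rw [h3]
      exact hg)
    have h2 : v * 𝟙 G = lift v (𝟙 G) ≫ μ[G] := by rw [Hom.mul_def]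
    rw [h2]
    exact h1
  refine ⟨?_, ?_, ?_, ?_⟩
  · exact G.hom.isOpenMap _ (u.left ⁻¹ᵁ W).2
  · intro g hg p hp
    have h1 := key2 g hg (𝟙 G)⁻¹
    rw [inv_mul_cancel] at h1
    have h2 : (1 : G ⟶ G) = toUnit G ≫ η[G] := by rw [Hom.one_def]
    rw [h2] at h1
    have h3 : (toUnit G).left.base g = p := by
      have h4 : (toUnit G).left ≫ (𝟙_ (Over S)).hom = G.hom := Over.w _
      have h5 := congr(($h4).base g)
      have h6 : (𝟙_ (Over S)).hom.base ((toUnit G).left.base g) = G.hom.base g := h5
      rw [← hp] at h6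
      exact h6
    rw [← h3]
    exact h1
  · intro g hg
    have h1 := key2 g hg ((𝟙 G)⁻¹ * (𝟙 G)⁻¹)
    rw [inv_mul_cancel_right] at h1
    have h2 : (𝟙 G)⁻¹ = ι[G] := by rw [Hom.inv_def, Category.id_comp]
    rw [h2] at h1
    exact h1
  · intro z _ hz
    exact key z hz

end Groth.Agent.S5389
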