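import Groth.Statements.S5391
import Groth.Agent.SGA3.K207.QSecDim

set_option autoImplicit false
universe u
open CategoryTheory CategoryTheory.Limits MonoidalCategory CartesianMonoidalCategory MonObj GrpObj AlgebraicGeometry
open SGA3

namespace Groth.Agent.S5391

/-- Let f : X → S be a morphism locally of finite presentation, s a point of S and x a point of the
fibre X_s = f⁻¹(s) which is closed in it. Suppose f is universally open at the generic point z of
some irreducible component Z of the fibre X_s containing x, with the local dimension of X_s at x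
equal to dim Z. Then there are an affine scheme S', an etale morphism w : S' → S, a finite
surjective morphism of finite presentation π : S'' → S', and a morphism h : S'' → X with h f = π w,
such that exactly one point s'' of S'' lies over s, h(s'') = x, and h induces an isomorphism κ(x) ≅
κ(s''). -/
theorem result (X S : Scheme.{u}) (f : X ⟶ S) [LocallyOfFinitePresentation f]
    (s : S) (x : X) (hxs : f.base x = s) (hx : IsClosed ((Subtype.val : ↥(f.base ⁻¹' {s}) → X) ⁻¹' {x}))
    (Z : Set ↥(f.base ⁻¹' {s})) (hZ : Z ∈ irreducibleComponents ↥(f.base ⁻¹' {s})) (hxZ : x ∈ (Subtype.val '' Z))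
    (z : X) (hz : z ∈ Subtype.val '' Z ∧ Subtype.val '' Z ⊆ closure {z}) (hopen : EGA43.IsUnivOpenAt f z)
    (hdim : FlatMor.localDim ↥(f.base ⁻¹' {s}) ⟨x, hxs⟩ = topologicalKrullDim ↥Z) :
    ∃ (S' S'' : Scheme.{u}) (_ : IsAffine S') (w : S' ⟶ S) (π : S'' ⟶ S') (h : S'' ⟶ X),
      Etale w ∧ IsFinite π ∧ Surjective π ∧ LocallyOfFinitePresentation π ∧ h ≫ f = π ≫ w ∧
      ∃ s'' : S'', (π ≫ w).base ⁻¹' {s} = {s''} ∧ h.base s'' = x ∧ IsIso (h.residueFieldMap s'') := by
  -- the affine charts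
  obtain ⟨V, hV, hsV, -⟩ := exists_isAffineOpen_mem_and_subset (X := S) (U := ⊤) (x := s) trivial
  obtain ⟨U, hU, hxU, hUV⟩ := exists_isAffineOpen_mem_and_subset (X := X) (U := f ⁻¹ᵁ V) (x := x)
    (by
      change f.base x ∈ V
      rw [hxs]
      exact hsV)
  have hUV' : U ≤ f ⁻¹ᵁ V := hUV
  let φ₀ : Γ(S, V) ⟶ Γ(X, U) := f.appLE V U hUV'
  let _ : Algebra Γ(S, V) Γ(X, U) := φ₀.hom.toAlgebra
  let i : Spec (CommRingCat.of Γ(S, V)) ⟶ S := hV.fromSpec
  let k : Spec (CommRingCat.of Γ(X, U)) ⟶ X := hU.fromSpec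
  have hi : IsOpenImmersion i := hV.isOpenImmersion_fromSpec
  have hk : IsOpenImmersion k := hU.isOpenImmersion_fromSpec
  have hsq : k ≫ f = Spec.map (CommRingCat.ofHom (algebraMap Γ(S, V) Γ(X, U))) ≫ i :=
    (hV.SpecMap_appLE_fromSpec f hU hUV').symm
  have hfp : Algebra.FinitePresentation Γ(S, V) Γ(X, U) := by
    have := f.finitePresentation_appLE hV hU hUV'
    exact this
  -- the points
  have hrk : ∀ y : X, y ∈ U → ∃ P : PrimeSpectrum Γ(X, U), k P = y := fun y hy => by
    have : y ∈ Set.range hU.fromSpec := by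
      rw [hU.range_fromSpec]
      exact hy
    exact this
  obtain ⟨P, hP⟩ := hrk x hxU
  have hzx : z ⤳ x := by
    rw [specializes_iff_mem_closure]
    exact hz.2 hxZ
  obtain ⟨q, hq⟩ := hrk z (hzx.mem_open U.isOpen hxU)
  have hqP : q.asIdeal ≤ P.asIdeal := by
    change q ≤ P
    rw [PrimeSpectrum.le_iff_specializes]
    rw [← hq, ← hP] at hzx
    exact k.isOpenEmbedding.isInducing.specializes_iff.1 hzx
  have hzs : f.base z = s := by
    obtain ⟨w, -, hw⟩ := hz.1
    rw [← hw]
    exact w.2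
  have hunder : ∀ T : PrimeSpectrum Γ(X, U), i (PrimeSpectrum.comap (algebraMap _ _) T) = f.base (k T) :=
    fun T => by
      change _ = f (k T)
      rw [← Scheme.Hom.comp_apply, hsq, Scheme.Hom.comp_apply]
      rfl
  have hcomap : ∀ T T' : PrimeSpectrum Γ(X, U), f.base (k T) = f.base (k T') →
      T.asIdeal.comap (algebraMap Γ(S, V) Γ(X, U)) = T'.asIdeal.comap (algebraMap Γ(S, V) Γ(X, U)) :=
    fun T T' h => by
      rw [← hunder, ← hunder] at h
      exact congrArg PrimeSpectrum.asIdeal (i.isOpenEmbedding.injective h)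
  have hmax : ∀ P' : Ideal Γ(X, U), P'.IsPrime → P.asIdeal ≤ P' →
      P'.under Γ(S, V) = P.asIdeal.under Γ(S, V) → P' = P.asIdeal := by
    intro P' hP' hle hun
    let T : PrimeSpectrum Γ(X, U) := ⟨P', hP'⟩
    have h1 : f.base (k T) = s := by
      rw [← hunder, ← hxs, ← hP, ← hunder]
      congr 1
      exact PrimeSpectrum.ext hun
    have h2 : x ⤳ k T := by
      rw [← hP]
      exact ((PrimeSpectrum.le_iff_specializes P T).1 hle).map k.continuous
    have h3 : (⟨x, hxs⟩ : ↥(f.base ⁻¹' {s})) ⤳ ⟨k T, h1⟩ :=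
      Topology.IsInducing.subtypeVal.specializes_iff.1 h2
    have h4 : (⟨k T, h1⟩ : ↥(f.base ⁻¹' {s})) ∈ (Subtype.val : ↥(f.base ⁻¹' {s}) → X) ⁻¹' {x} :=
      h3.mem_closed hx rfl
    have h5 : k T = k P := by
      rw [hP]
      exact h4
    exact congrArg PrimeSpectrum.asIdeal (k.isOpenEmbedding.injective h5)
  -- dimensions
  obtain ⟨n, hn⟩ := ENat.ne_top_iff_exists.1
    (Groth.Agent.Ega43.QSExists.fh_ne_top Γ(S, V) P.asIdeal)
  have hdim' : (n : WithBot ℕ∞) ≤ topologicalKrullDim Z := by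
    have h1 := K207.QSecDim.fh_le_localDim f k i hsq P x hP s hxs
    rw [← hn] at h1
    exact h1.trans hdim.le
  obtain ⟨t, ht⟩ := K207.QSecDim.exists_t f k i hsq q s (by rw [hq]; exact hzs) n Z
    (by rw [hq]; exact hz.2) hdim'
  rw [hcomap q P (by rw [hq, hP, hzs, hxs])] at ht
  have hgen := K207.QSecDim.genAt_of_isUnivOpenAt f k i hsq q (by rw [hq]; exact hopen)
  obtain ⟨R', _, _, hEt, D, _, _, hfin, hfpD, φ, Q, hQ, h1, h2, h3, h4, h5⟩ :=
    K207.QSecAff.exists_quasiSection q.asIdeal P.asIdeal hqP hgen hmax t ht hn.symm.le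
  let Q' : PrimeSpectrum D := ⟨Q, hQ⟩
  let w₀ : Spec (CommRingCat.of R') ⟶ Spec (CommRingCat.of Γ(S, V)) :=
    Spec.map (CommRingCat.ofHom (algebraMap Γ(S, V) R'))
  let π : Spec (CommRingCat.of D) ⟶ Spec (CommRingCat.of R') :=
    Spec.map (CommRingCat.ofHom (algebraMap R' D))
  let h₀ : Spec (CommRingCat.of D) ⟶ Spec (CommRingCat.of Γ(X, U)) := Spec.map (CommRingCat.ofHom φ)
  have hw₀ : Etale w₀ := by
    rw [HasRingHomProperty.Spec_iff (P := @Etale)]
    exact RingHom.etale_algebraMap.2 hEt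
  have hπf : IsFinite π := by
    rw [IsFinite.SpecMap_iff]
    exact RingHom.finite_algebraMap.2 hfin
  have hπp : LocallyOfFinitePresentation π := by
    rw [HasRingHomProperty.Spec_iff (P := @LocallyOfFinitePresentation)]
    exact RingHom.finitePresentation_algebraMap.2 hfpD
  have hπs : Surjective π := ⟨fun T => by
    obtain ⟨T', hT', hT'c⟩ := h2 T.asIdeal T.isPrime
    exact ⟨⟨T', hT'⟩, PrimeSpectrum.ext hT'c⟩⟩
  have hcomm : (h₀ ≫ k) ≫ f = π ≫ w₀ ≫ i := by
    rw [Category.assoc, hsq]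
    have e1 : h₀ ≫ Spec.map (CommRingCat.ofHom (algebraMap Γ(S, V) Γ(X, U))) = π ≫ w₀ := by
      simp only [h₀, π, w₀, ← Spec.map_comp, ← CommRingCat.ofHom_comp]
      rw [h1]
    rw [reassoc_of% e1]
  have hh₀ : h₀ Q' = P := PrimeSpectrum.ext h3
  have hhx : (h₀ ≫ k).base Q' = x := by
    change k (h₀ Q') = x
    rw [hh₀, hP]
  have hip : i (PrimeSpectrum.comap (algebraMap _ _) P) = s := by
    rw [hunder, hP, hxs]
  refine ⟨Spec (CommRingCat.of R'), Spec (CommRingCat.of D), inferInstance, w₀ ≫ i, π, h₀ ≫ k,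
    inferInstance, hπf, hπs, hπp, hcomm, Q', ?_, hhx, ?_⟩
  · ext T
    rw [Set.mem_preimage, Set.mem_singleton_iff, Set.mem_singleton_iff]
    constructor
    · intro hT
      have e1 : i (w₀ (π T)) = s := hT
      rw [← hip] at e1
      have e2 := congrArg PrimeSpectrum.asIdeal (i.isOpenEmbedding.injective e1)
      exact PrimeSpectrum.ext (h4 T.asIdeal T.isPrime e2)
    · rintro rfl
      rw [← hcomm]
      change f.base ((h₀ ≫ k).base Q') = s
      rw [hhx, hxs]
  · rw [Scheme.residueFieldMap_comp]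
    have e1 := K207.QSecDim.isIso_residueFieldMap φ Q' h5
    have e0 : ∀ y, IsIso (k.residueFieldMap y) := fun y =>
      (IsLocalRing.ResidueField.mapEquiv
        (asIso (k.stalkMap y)).commRingCatIsoToRingEquiv).toCommRingCatIso.isIso_hom
    exact @IsIso.comp_isIso _ _ _ _ _ _ _ (e0 _) e1

end Groth.Agent.S5391
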