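import Groth.Statements.S5392
import Groth.Agent.S5283

set_option autoImplicit false
universe u
open CategoryTheory CategoryTheory.Limits MonoidalCategory CartesianMonoidalCategory MonObj GrpObj AlgebraicGeometry
open SGA3

namespace Groth.Agent.S5392

/-- Let X be an S-group scheme which is smooth and of finite presentation over S with connected fibres,
Y an S-group scheme of finite presentation over S and i : Y → X a homomorphism which is a
monomorphism. Then there is a closed immersion t : T → S, locally of finite presentation, such that
a morphism g : S' → S factors through t exactly when the base change of i along g is an isomorphism. -/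
theorem result (S : Scheme.{u}) (X Y : Over S) [GrpObj X] [GrpObj Y]
    [Smooth X.hom] [QuasiCompact X.hom] [QuasiSeparated X.hom]
    (hconn : ∀ s : S, _root_.IsConnected (X.hom.base ⁻¹' {s}))
    [LocallyOfFinitePresentation Y.hom] [QuasiCompact Y.hom] [QuasiSeparated Y.hom]
    (i : Y ⟶ X) [IsMonHom i] [Mono i] :
    ∃ (T : Scheme.{u}) (t : T ⟶ S), IsClosedImmersion t ∧ LocallyOfFinitePresentation t ∧
      ∀ (S' : Scheme.{u}) (g : S' ⟶ S),
        (∃ g' : S' ⟶ T, g' ≫ t = g) ↔ IsIso ((Over.pullback g).map i) := by
  have hconn' : ∀ s : S, ConnectedSpace ↥(Limits.pullback X.hom (S.fromSpecResidueField s)) := by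
    intro s
    have h1 := isConnected_iff_connectedSpace.mp (hconn s)
    exact (X.hom.fiberHomeo s).symm.surjective.connectedSpace (X.hom.fiberHomeo s).symm.continuous
  obtain ⟨T, t, h1, h2, h3⟩ := Groth.Agent.S5283.result X Y hconn' i
  refine ⟨T, t, h1, h2, fun S' g ↦ (h3 S' g).trans ?_⟩
  have hm1 : ((Over.pullback g).map i).left ≫ pullback.fst X.hom g = pullback.fst Y.hom g ≫ i.left :=
    pullback.lift_fst _ _ _
  have hm2 : ((Over.pullback g).map i).left ≫ pullback.snd X.hom g = pullback.snd Y.hom g :=
    pullback.lift_snd _ _ _
  constructor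
  · rintro ⟨l, hl⟩
    have hl2 : l ≫ Y.hom = pullback.snd X.hom g ≫ g := by
      rw [← Over.w i, ← Category.assoc, hl, pullback.condition]
    let s : (Over.pullback g).obj X ⟶ (Over.pullback g).obj Y :=
      Over.homMk (pullback.lift l (pullback.snd X.hom g) hl2) (pullback.lift_snd _ _ _)
    have hs : s ≫ (Over.pullback g).map i = 𝟙 _ := by
      apply Over.OverMorphism.ext
      refine pullback.hom_ext ?_ ?_
      · change (pullback.lift l (pullback.snd X.hom g) hl2 ≫ ((Over.pullback g).map i).left) ≫
          pullback.fst X.hom g = 𝟙 (pullback X.hom g) ≫ pullback.fst X.hom g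
        rw [Category.assoc, hm1, pullback.lift_fst_assoc, hl, Category.id_comp]
      · change (pullback.lift l (pullback.snd X.hom g) hl2 ≫ ((Over.pullback g).map i).left) ≫
          pullback.snd X.hom g = 𝟙 (pullback X.hom g) ≫ pullback.snd X.hom g
        rw [Category.assoc, hm2, pullback.lift_snd, Category.id_comp]
    have : Mono ((Over.pullback g).map i) := inferInstance
    refine ⟨s, ?_, hs⟩
    rw [← cancel_mono ((Over.pullback g).map i), Category.assoc, hs, Category.comp_id,
      Category.id_comp]
  · intro h
    refine ⟨(inv ((Over.pullback g).map i)).left ≫ pullback.fst Y.hom g, ?_⟩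
    rw [Category.assoc, ← hm1, ← Category.assoc, ← Over.comp_left, IsIso.inv_hom_id]
    exact Category.id_comp _

end Groth.Agent.S5392
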