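import Groth.Statements.S5393
import Groth.Agent.S1489
import Groth.Agent.S5317
import Groth.Agent.S5327
import Groth.Agent.Sga3.H778.NeutralPts
import Groth.Agent.Ega43.FPOfComp
import Mathlib.AlgebraicGeometry.Morphisms.FlatMono

set_option autoImplicit false
universe u
open CategoryTheory CategoryTheory.Limits MonoidalCategory CartesianMonoidalCategory MonObj GrpObj AlgebraicGeometry
open SGA3

namespace Groth.Agent.S5393

open Groth.Agent.Sga3.H778 NeutralPts

/-- A homomorphism from a group scheme with connected fibres factors through the neutral set. -/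
theorem mem_neutralSet_of_connected {S : Scheme.{u}} (G N : Over S) [GrpObj G] [GrpObj N]
    (hconn : ∀ s : S, _root_.IsConnected (G.hom.base ⁻¹' {s})) (v : G ⟶ N) [IsMonHom v] (x : G.left) :
    v.left x ∈ SGA3x.neutralSet N := by
  rw [neutralSet_eq]
  change _ ∈ connectedComponentIn _ _
  have hvx : ∀ y : G.left, N.hom (v.left y) = G.hom y := fun y => by
    rw [← Scheme.Hom.comp_apply, Over.w v]
  have hunit : v.left (unitSec G (G.hom x)) = unitSec N (G.hom x) := by
    rw [← Scheme.Hom.comp_apply]
    have h1 : η[G] ≫ v = η[N] := IsMonHom.one_hom v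
    have h2 : unitSec G ≫ v.left = unitSec N := congrArg (fun f => f.left) h1
    rw [h2]
  rw [hvx]
  have h1 : _root_.IsPreconnected (v.left '' (G.hom ⁻¹' {G.hom x})) :=
    (hconn (G.hom x)).2.image _ v.left.continuous.continuousOn
  refine h1.subset_connectedComponentIn ?_ ?_ ⟨x, rfl, rfl⟩
  · exact ⟨unitSec G (G.hom x), hom_unitSec G _, hunit⟩
  · rintro _ ⟨y, hy, rfl⟩
    change N.hom (v.left y) = G.hom x
    rw [hvx]
    exact hy

/-- A locally finitely presented monomorphism of `S`-schemes through which the points with image in a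
given set factor is an open immersion. -/
theorem isOpenImmersion_of_represents {S : Scheme.{u}} {H N : Over S} (j : H ⟶ N) [Mono j.left]
    [LocallyOfFinitePresentation j.left] (Z : Set N.left)
    (h : ∀ (T : Over S) (g : T ⟶ N), (∃ h : T ⟶ H, h ≫ j = g) ↔ Set.range g.left.base ⊆ Z) :
    IsOpenImmersion j.left := by
  have hE : Etale j.left := by
    rw [Groth.Agent.S1489.result]
    refine ⟨inferInstance, ?_⟩
    intro A _ I hI a b w
    let T : Over S := Over.mk (b ≫ N.hom)
    let g : T ⟶ N := Over.homMk b
    have hr : Set.range g.left.base ⊆ Z := by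
      rintro _ ⟨t, rfl⟩
      have hsurj : Function.Surjective (Spec.map (CommRingCat.ofHom (Ideal.Quotient.mk I))) := by
        intro p
        have : p ∈ Set.range (PrimeSpectrum.comap (Ideal.Quotient.mk I)) := by
          rw [range_comap_of_surjective _ _ Ideal.Quotient.mk_surjective, Ideal.mk_ker]
          intro x hx
          have h2 : x ^ 2 ∈ p.asIdeal := by
            have : x ^ 2 ∈ I ^ 2 := Ideal.pow_mem_pow hx 2
            rw [hI] at this
            rw [this]
            exact zero_mem _
          exact p.2.mem_of_pow_mem 2 h2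
        exact this
      obtain ⟨t', rfl⟩ := hsurj t
      have h1 : b (Spec.map (CommRingCat.ofHom (Ideal.Quotient.mk I)) t') = j.left (a t') := by
        rw [← Scheme.Hom.comp_apply, w, Scheme.Hom.comp_apply]
      change b _ ∈ Z
      rw [h1]
      exact (h H j).mp ⟨𝟙 _, Category.id_comp _⟩ ⟨a t', rfl⟩
    obtain ⟨z, hz⟩ := (h T g).mpr hr
    have hz' : z.left ≫ j.left = b := congrArg (fun f ↦ f.left) hz
    refine ⟨z.left, ⟨?_, hz'⟩, ?_⟩
    · rw [← cancel_mono j.left, Category.assoc, hz', w]
    · rintro l ⟨-, hl⟩
      rw [← cancel_mono j.left, hl, hz']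
  exact IsOpenImmersion.of_flat_of_mono j.left

/-- Let G be an S-group scheme locally of finite presentation and quasi-separated over S, H an S-group
scheme smooth and of finite presentation over S with connected fibres, u : H → G a homomorphism
which is a monomorphism, n : N → G the normalizer of H in G (a closed subgroup scheme) and j : H → N
the homomorphism with j n = u. The following are equivalent: (i) j is an open immersion; (ii) H
represents the neutral component of N: a point g : T → N factors through j exactly when the image of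
its underlying map lies in the union of the neutral components of the fibres of N; (iii) for every s
in S, the fibre j_s : H_s → N_s is an open immersion whose image is the neutral component of N_s.
(The published statement asks H only to be smooth over S with connected fibres; this row also asks H
quasi-compact and quasi-separated over S, the hypotheses under which the normalizer is shown to be
representable.) -/
theorem result (S : Scheme.{u}) (G H N : Over S) [GrpObj G] [GrpObj H] [GrpObj N]
    [LocallyOfFinitePresentation G.hom] [QuasiSeparated G.hom] [Smooth H.hom] [QuasiCompact H.hom] [QuasiSeparated H.hom]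
    (hconn : ∀ s : S, _root_.IsConnected (H.hom.base ⁻¹' {s})) (u : H ⟶ G) [IsMonHom u] [Mono u]
    (n : N ⟶ G) [IsClosedImmersion n.left] (hN : Red.IsNormalizerOf u n) (j : H ⟶ N) [IsMonHom j] (hj : j ≫ n = u) :
    (IsOpenImmersion j.left ↔
      ∀ (T : Over S) (g : T ⟶ N), (∃ h : T ⟶ H, h ≫ j = g) ↔ Set.range g.left.base ⊆ SGA3x.neutralSet N) ∧
    (IsOpenImmersion j.left ↔
      ∀ s : S, IsOpenImmersion ((Over.pullback (S.fromSpecResidueField s)).map j).left ∧
        j.left.base '' (H.hom.base ⁻¹' {s}) = SGA3x.neutralSet N ∩ N.hom.base ⁻¹' {s}) := by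
  have hm : Mono j := by
    have : Mono (j ≫ n) := hj ▸ inferInstance
    exact mono_of_mono j n
  have hml : Mono j.left := inferInstanceAs (Mono ((Over.forget S).map j))
  have hNl : LocallyOfFiniteType N.hom := by
    rw [← Over.w n]
    infer_instance
  have hjw : LocallyOfFinitePresentation (j.left ≫ N.hom) := by
    rw [Over.w j]
    infer_instance
  have hjl : LocallyOfFinitePresentation j.left :=
    Groth.Agent.Ega43.FPOfComp.locallyOfFinitePresentation_of_comp j.left N.hom
  have hfib : ∀ s : S, LocallyOfFiniteType (N.hom.fiberToSpecResidueField s) := fun s ↦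
    inferInstanceAs (LocallyOfFiniteType (pullback.snd _ _))
  have hrange : IsOpenImmersion j.left → Set.range j.left.base = SGA3x.neutralSet N := by
    intro ho
    apply Set.Subset.antisymm
    · rintro _ ⟨x, rfl⟩
      exact mem_neutralSet_of_connected H N hconn j x
    · exact (Groth.Agent.S5327.result S N H hfib j).1
  refine ⟨⟨fun ho T g ↦ ⟨?_, fun hg ↦ ?_⟩, fun h ↦ isOpenImmersion_of_represents j _ h⟩, ⟨fun ho s ↦ ⟨?_, ?_⟩, fun h ↦ ?_⟩⟩
  · rintro ⟨z, rfl⟩
    rintro _ ⟨t, rfl⟩
    exact mem_neutralSet_of_connected H N hconn j (z.left t)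
  · have hg' : Set.range g.left ⊆ Set.range j.left := by
      have := hrange ho
      change _ ⊆ Set.range j.left.base
      rw [this]
      exact hg
    refine ⟨Over.homMk (IsOpenImmersion.lift j.left g.left hg') ?_, ?_⟩
    · rw [← Over.w j, ← Category.assoc, IsOpenImmersion.lift_fac, Over.w g]
    · ext1
      exact IsOpenImmersion.lift_fac _ _ _
  · exact MorphismProperty.overPullbackMap (P := @IsOpenImmersion) (S.fromSpecResidueField s) j ho
  · rw [← hrange ho]
    ext x
    constructor
    · rintro ⟨y, hy, rfl⟩
      refine ⟨⟨y, rfl⟩, ?_⟩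
      change N.hom (j.left y) = s
      rw [← Scheme.Hom.comp_apply, Over.w j]
      exact hy
    · rintro ⟨⟨y, rfl⟩, hy⟩
      refine ⟨y, ?_, rfl⟩
      change H.hom y = s
      rw [← Over.w j]
      exact hy
  · have h1 := (Groth.Agent.S5317.result S H N j).2 ⊤ (fun s _ ↦ (h s).1)
    have h2 : IsIso (H.hom ⁻¹ᵁ ⊤).ι := by
      exact H.left.topIso.isIso_hom
    exact (MorphismProperty.cancel_left_of_respectsIso @IsOpenImmersion (H.hom ⁻¹ᵁ ⊤).ι j.left).mp h1

end Groth.Agent.S5393
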