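import Groth.Statements.S5395
import Mathlib.Topology.JacobsonSpace
import Mathlib.AlgebraicGeometry.Morphisms.FiniteType

set_option autoImplicit false
universe u
open CategoryTheory CategoryTheory.Limits MonoidalCategory CartesianMonoidalCategory MonObj GrpObj AlgebraicGeometry
open SGA3

namespace Groth.Agent.S5395

open Topology

/-- Every point of a constructible set lies in a locally closed subset of it. -/
theorem exists_locallyClosed_of_isConstructible {X : Type*} [TopologicalSpace X] {s : Set X}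
    (hs : IsConstructible s) :
    (∀ x ∈ s, ∃ N : Set X, IsLocallyClosed N ∧ x ∈ N ∧ N ⊆ s) ∧
    (∀ x ∈ sᶜ, ∃ N : Set X, IsLocallyClosed N ∧ x ∈ N ∧ N ⊆ sᶜ) := by
  induction hs using IsConstructible.empty_union_induction with
  | open_retrocompact U hU _ =>
    exact ⟨fun x hx ↦ ⟨U, hU.isLocallyClosed, hx, subset_rfl⟩,
      fun x hx ↦ ⟨Uᶜ, hU.isClosed_compl.isLocallyClosed, hx, subset_rfl⟩⟩
  | union s _ t _ hs ht =>
    refine ⟨?_, ?_⟩
    · rintro x (hx | hx)
      · obtain ⟨N, h1, h2, h3⟩ := hs.1 x hx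
        exact ⟨N, h1, h2, h3.trans Set.subset_union_left⟩
      · obtain ⟨N, h1, h2, h3⟩ := ht.1 x hx
        exact ⟨N, h1, h2, h3.trans Set.subset_union_right⟩
    · intro x hx
      rw [Set.compl_union] at hx ⊢
      obtain ⟨N, h1, h2, h3⟩ := hs.2 x hx.1
      obtain ⟨N', h1', h2', h3'⟩ := ht.2 x hx.2
      exact ⟨N ∩ N', h1.inter h1', ⟨h2, h2'⟩, Set.inter_subset_inter h3 h3'⟩
  | compl s _ hs =>
    refine ⟨hs.2, ?_⟩
    rw [compl_compl]
    exact hs.1

theorem isLocallyClosed_image_val {X : Type*} [TopologicalSpace X] {U : Set X} (hU : IsOpen U)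
    {N : Set ↥U} (hN : IsLocallyClosed N) : IsLocallyClosed (Subtype.val '' N : Set X) :=
  hN.image hU.isOpenEmbedding_subtypeVal.isInducing (by
    rw [Subtype.range_coe]
    exact hU.isLocallyClosed)

/-- Every point of an ind-constructible set lies in a locally closed subset of it. -/
theorem exists_locallyClosed {X : Type*} [TopologicalSpace X] {s : Set X}
    (hs : ProCons.IsIndConstructible s) (x : X) (hx : x ∈ s) :
    ∃ N : Set X, IsLocallyClosed N ∧ x ∈ N ∧ N ⊆ s := by
  obtain ⟨U, hU, hxU, 𝒮, h𝒮, h⟩ := hs x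
  have h1 : (⟨x, hxU⟩ : ↥U) ∈ ⋃₀ 𝒮 := by
    rw [← h]
    exact hx
  obtain ⟨T, hT, hxT⟩ := h1
  obtain ⟨V, hV, hV', hc⟩ := h𝒮 T hT ⟨x, hxU⟩
  obtain ⟨N, hN1, hN2, hN3⟩ := (exists_locallyClosed_of_isConstructible hc).1
    ⟨⟨x, hxU⟩, mem_of_mem_nhds hV⟩ hxT
  refine ⟨Subtype.val '' (Subtype.val '' N), isLocallyClosed_image_val hU
    (isLocallyClosed_image_val hV' hN1), ⟨_, ⟨_, hN2, rfl⟩, rfl⟩, ?_⟩
  rintro _ ⟨_, ⟨y, hy, rfl⟩, rfl⟩
  have h2 : y.1 ∈ ⋃₀ 𝒮 := ⟨T, hT, hN3 hy⟩
  rw [← h] at h2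
  exact h2

/-- Let k be an algebraically closed field, G a group scheme locally of finite type over k, and A, B two
ind-constructible subsets of G. Let A·B be the image under the multiplication of the set of points
of G ×_k G whose two projections lie in A and B. Then every closed point z of G lying in A·B is the
product of a closed point of G ×_k G whose two projections lie in A and B (and are then closed
points): the rational points of A·B are the products of rational points of A and of B. -/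
theorem result (k : Type u) [Field k] [IsAlgClosed k] (G : Over (Spec (CommRingCat.of k))) [GrpObj G]
    [LocallyOfFiniteType G.hom] (A B : Set G.left) (hA : ProCons.IsIndConstructible A) (hB : ProCons.IsIndConstructible B)
    (z : G.left) (hz : IsClosed ({z} : Set G.left))
    (hzAB : z ∈ μ[G].left.base '' {w : ↥(G ⊗ G).left | (fst G G).left.base w ∈ A ∧ (snd G G).left.base w ∈ B}) :
    ∃ w : ↥(G ⊗ G).left, IsClosed ({w} : Set ↥(G ⊗ G).left) ∧ (fst G G).left.base w ∈ A ∧ (snd G G).left.base w ∈ B ∧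
      μ[G].left.base w = z := by
  obtain ⟨w, ⟨hwA, hwB⟩, hw⟩ := hzAB
  obtain ⟨NA, hNA1, hNA2, hNA3⟩ := exists_locallyClosed hA _ hwA
  obtain ⟨NB, hNB1, hNB2, hNB3⟩ := exists_locallyClosed hB _ hwB
  have h1 : LocallyOfFiniteType (G ⊗ G).hom :=
    inferInstanceAs (LocallyOfFiniteType (pullback.fst G.hom G.hom ≫ G.hom))
  have h2 : JacobsonSpace ↥(G ⊗ G).left := LocallyOfFiniteType.jacobsonSpace (G ⊗ G).hom
  have h3 : IsLocallyClosed ((fst G G).left ⁻¹' NA ∩ (snd G G).left ⁻¹' NB ∩ μ[G].left ⁻¹' {z}) :=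
    ((hNA1.preimage (fst G G).left.continuous).inter (hNB1.preimage (snd G G).left.continuous)).inter
      (hz.preimage μ[G].left.continuous).isLocallyClosed
  have h4 : ((fst G G).left ⁻¹' NA ∩ (snd G G).left ⁻¹' NB ∩ μ[G].left ⁻¹' {z}).Nonempty :=
    ⟨w, ⟨hNA2, hNB2⟩, hw⟩
  obtain ⟨v, ⟨⟨hv1, hv2⟩, hv3⟩, hv4⟩ := nonempty_inter_closedPoints h4 h3
  exact ⟨v, hv4, hNA3 hv1, hNB3 hv2, hv3⟩

end Groth.Agent.S5395
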