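import Groth.Statements.S5399
import Groth.Agent.SGA3.K208.MaxPtFib

set_option autoImplicit false
universe u
open CategoryTheory CategoryTheory.Limits MonoidalCategory CartesianMonoidalCategory MonObj GrpObj AlgebraicGeometry
open SGA3

namespace Groth.Agent.S5399

open K208.MaxPtFib

/-- Let G be a nonempty scheme of finite type over a field k, K a field extension of k, π : G ⊗_k K → G
the projection and W a dense open subset of G ⊗_k K. Then the set U of points g of G such that W
contains every maximal point of the fibre π⁻¹(g) (every point whose closure in π⁻¹(g) is an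
irreducible component of π⁻¹(g)) is open and dense in G. -/
theorem result (k : Type u) [Field k] (K : Type u) [Field K] [Algebra k K]
    (G : Scheme.{u}) (f : G ⟶ Spec (CommRingCat.of k)) [LocallyOfFiniteType f] [QuasiCompact f] [Nonempty G]
    (W : (pullback f (Spec.map (CommRingCat.ofHom (algebraMap k K)))).Opens)
    (hW : Dense (W : Set ↥(pullback f (Spec.map (CommRingCat.ofHom (algebraMap k K)))))) :
    letI π := (pullback.fst f (Spec.map (CommRingCat.ofHom (algebraMap k K)))).base
    letI U : Set G := {g : G | ∀ z : ↥(π ⁻¹' {g}), closure {z} ∈ irreducibleComponents ↥(π ⁻¹' {g}) → z.1 ∈ W}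
    IsOpen U ∧ Dense U := by
  let t := Spec.map (CommRingCat.ofHom (algebraMap k K))
  let Y := pullback f t
  let π : Y ⟶ G := pullback.fst f t
  let U : Set G := {g : G | ∀ z : ↥(π.base ⁻¹' {g}),
    closure {z} ∈ irreducibleComponents ↥(π.base ⁻¹' {g}) → z.1 ∈ W}
  change IsOpen U ∧ Dense U
  have hU : ∀ g : G, g ∈ U ↔ ∀ z : Y, π z = g → (∀ z' : Y, π z' = g → z' ⤳ z → z' = z) → z ∈ W := by
    intro g
    constructor
    · intro h z hz hz'
      exact h ⟨z, hz⟩ ((closure_mem_iff π g ⟨z, hz⟩).mpr hz')
    · intro h z hz
      exact h z.1 z.2 ((closure_mem_iff π g z).mp hz)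
  have hopen : IsOpen U := by
    let kb := AlgebraicClosure k
    obtain ⟨L, _, _, _, _, _, _⟩ := Groth.Agent.Fdesc.GeomConn.exists_common_extension k K kb
    let tb := Spec.map (CommRingCat.ofHom (algebraMap k kb))
    let s := Spec.map (CommRingCat.ofHom (algebraMap K L))
    let sb := Spec.map (CommRingCat.ofHom (algebraMap kb L))
    have hs : s ≫ t = sb ≫ tb := by
      rw [← Spec.map_comp, ← Spec.map_comp]
      congr 1
      ext x
      change algebraMap K L (algebraMap k K x) = algebraMap kb L (algebraMap k kb x)
      rw [← IsScalarTower.algebraMap_apply, ← IsScalarTower.algebraMap_apply]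
    have hint : IsIntegralHom tb := by
      rw [IsIntegralHom.SpecMap_iff]
      exact algebraMap_isIntegral_iff.mpr inferInstance
    let Yb := pullback f tb
    let ρ : Yb ⟶ G := pullback.fst f tb
    let YL := pullback (pullback.snd f t) s
    let p : YL ⟶ Y := pullback.fst (pullback.snd f t) s
    let r : YL ⟶ Yb := pullback.lift (p ≫ π) (pullback.snd (pullback.snd f t) s ≫ sb) (by
      rw [Category.assoc, Category.assoc, ← hs, ← pullback.condition_assoc]
      change p ≫ pullback.fst f t ≫ f = _
      rw [pullback.condition])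
    have hr1 : r ≫ ρ = p ≫ π := pullback.lift_fst _ _ _
    have hr : IsPullback r (pullback.snd (pullback.snd f t) s) (pullback.snd f tb) sb := by
      refine IsPullback.of_right (h₁₂ := pullback.fst f tb) (h₂₂ := tb) (v₁₃ := f) ?_
        (pullback.lift_snd _ _ _) (IsPullback.of_hasPullback _ _)
      change IsPullback (r ≫ ρ) _ f _
      rw [hr1, ← hs]
      exact (IsPullback.of_hasPullback (pullback.snd f t) s).paste_horiz
        (IsPullback.of_hasPullback f t)
    have hrg : GeometricallyIrreducible r :=
      MorphismProperty.of_isPullback (P := @GeometricallyIrreducible) hr.flip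
        (Groth.Agent.Fdesc.GeomAlgClosed.geometricallyIrreducible_spec kb L)
    have hro : UniversallyOpen r :=
      MorphismProperty.of_isPullback (P := @UniversallyOpen) hr.flip inferInstance
    have hps : Function.Surjective p := (pullback.fst (pullback.snd f t) s).surjective
    have hpg : GeneralizingMap p := Flat.generalizingMap (pullback.fst (pullback.snd f t) s)
    have hkey : U = (ρ '' (r '' (p ⁻¹' W))ᶜ)ᶜ := by
      ext g
      rw [hU]
      have hcomm : ∀ w, ρ (r w) = π (p w) := fun w ↦ by
        rw [← Scheme.Hom.comp_apply, ← Scheme.Hom.comp_apply, hr1]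
      constructor
      · rintro h ⟨g', hg', hg⟩
        apply hg'
        -- generic point of `r⁻¹ g'`
        have hirr : IsIrreducible (r ⁻¹' {g'}) :=
          r.isIrreducible_preimage r.isOpenMap isIrreducible_singleton
        have hq : IrreducibleSpace ↥(r ⁻¹' {g'}) := by
          have : Nonempty ↥(r ⁻¹' {g'}) := hirr.nonempty.to_subtype
          have : PreirreducibleSpace ↥(r ⁻¹' {g'}) := Subtype.preirreducibleSpace hirr.2
          exact ⟨hirr.nonempty.to_subtype⟩
        have hsob : QuasiSober ↥(r ⁻¹' {g'}) := (r.fiberHomeo g').symm.isOpenEmbedding.quasiSober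
        let w := genericPoint ↥(r ⁻¹' {g'})
        have hw : ∀ v : YL, r v = g' → w.1 ⤳ v := fun v hv ↦
          (genericPoint_specializes (⟨v, hv⟩ : ↥(r ⁻¹' {g'}))).map continuous_subtype_val
        have hwg' : r w.1 = g' := w.2
        refine ⟨w.1, ?_, hwg'⟩
        have hwg : π (p w.1) = g := by rw [← hcomm, hwg', hg]
        refine h (p w.1) hwg ?_
        intro z' hz' hzz'
        obtain ⟨w', hw', rfl⟩ := hpg hzz'
        have h1 : r w' = g' := by
          have h2 : r w' ⤳ r w.1 := hw'.map r.continuous
          rw [hwg'] at h2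
          exact (Groth.Agent.S2544.eq_of_specializes_of_isIntegralHom ρ h2 (by
            rw [hg]
            change g = ρ (r w')
            rw [hcomm, hz'])).symm
        rw [(hw'.antisymm (hw w' h1)).eq]
      · intro h z hz hzmax
        obtain ⟨w₀, hw₀⟩ := hps z
        have hg' : r w₀ ∈ r '' (p ⁻¹' W) := by
          by_contra hcon
          exact h ⟨r w₀, hcon, by rw [hcomm, hw₀, hz]⟩
        have hirr : IsIrreducible (r ⁻¹' {r w₀}) :=
          r.isIrreducible_preimage r.isOpenMap isIrreducible_singleton
        have hq : IrreducibleSpace ↥(r ⁻¹' {r w₀}) := by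
          have : Nonempty ↥(r ⁻¹' {r w₀}) := hirr.nonempty.to_subtype
          have : PreirreducibleSpace ↥(r ⁻¹' {r w₀}) := Subtype.preirreducibleSpace hirr.2
          exact ⟨hirr.nonempty.to_subtype⟩
        have hsob : QuasiSober ↥(r ⁻¹' {r w₀}) := (r.fiberHomeo (r w₀)).symm.isOpenEmbedding.quasiSober
        let w := genericPoint ↥(r ⁻¹' {r w₀})
        have hw : ∀ v : YL, r v = r w₀ → w.1 ⤳ v := fun v hv ↦
          (genericPoint_specializes (⟨v, hv⟩ : ↥(r ⁻¹' {r w₀}))).map continuous_subtype_val
        have hwg' : r w.1 = r w₀ := w.2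
        have h1 : p w.1 = z := by
          refine hzmax _ ?_ ?_
          · rw [← hcomm, hwg', hcomm, hw₀, hz]
          · rw [← hw₀]
            exact (hw w₀ rfl).map p.continuous
        obtain ⟨v, hv, hv'⟩ := hg'
        rw [← h1]
        exact (hw v hv').mem_open (W.isOpen.preimage p.continuous) hv
    rw [hkey, isOpen_compl_iff]
    refine (pullback.fst f tb).isClosedMap _ ?_
    rw [isClosed_compl_iff]
    exact r.isOpenMap _ (W.isOpen.preimage p.continuous)
  refine ⟨hopen, ?_⟩
  -- density
  have hN : IsNoetherian (Spec (CommRingCat.of K)) := inferInstance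
  have hY1 : LocallyOfFiniteType (pullback.snd f t) := inferInstance
  have hY2 : IsLocallyNoetherian Y := LocallyOfFiniteType.isLocallyNoetherian (pullback.snd f t)
  have hY3 : CompactSpace Y := by
    have : QuasiCompact (pullback.snd f t) := inferInstance
    exact QuasiCompact.compactSpace_of_compactSpace (pullback.snd f t)
  have hY : IsNoetherian Y := {}
  have hπg : GeneralizingMap π := Flat.generalizingMap (pullback.fst f t)
  intro y
  obtain ⟨γ, hγ, hγy⟩ := Groth.Agent.Sga3C.GenPts.exists_mem_genericPoints_specializes y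
  have h1 : γ ∈ U := by
    rw [hU]
    intro z hz hzmax
    refine mem_of_dense W hW z fun z' hz' ↦ hzmax z' ?_ hz'
    have h2 : π z' ⤳ γ := hz ▸ hz'.map π.continuous
    exact Groth.Agent.Sga3C.GenPts.eq_of_specializes_of_mem_genericPoints hγ _ h2
  exact closure_mono (Set.singleton_subset_iff.mpr h1) hγy.mem_closure

end Groth.Agent.S5399
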