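import Groth.Statements.S5400
import Groth.Agent.S5325
import Groth.Agent.S5326
import Groth.Agent.S5322
import Groth.Agent.S4761
import Groth.Agent.Etcore.PullbackSys
import Mathlib.CategoryTheory.Filtered.Final

set_option autoImplicit false
universe u
open CategoryTheory CategoryTheory.Limits MonoidalCategory CartesianMonoidalCategory MonObj GrpObj AlgebraicGeometry
open SGA3

namespace Groth.Agent.S5400

/-- alias -/
theorem neutralSet_cons {S : Scheme.{u}} (G : Over S) [GrpObj G] [LocallyOfFinitePresentation G.hom]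
    [QuasiSeparated G.hom] [CompactSpace S] [QuasiSeparatedSpace S] :
    Topology.IsConstructible (SGA3x.neutralSet G) :=
  (Groth.Agent.S5325.result S G).2.1 inferInstance inferInstance inferInstance

/-- alias -/
theorem rep_open (S : Scheme.{u}) (G : Over S) [GrpObj G]
    [LocallyOfFinitePresentation G.hom] (G0 : Over S) (i : G0 ⟶ G) [Mono i]
    (hrep : ∀ (T : Over S) (g : T ⟶ G), (∃ z : T ⟶ G0, z ≫ i = g) ↔ Set.range g.left.base ⊆ SGA3x.neutralSet G) :
    IsOpenImmersion i.left := (Groth.Agent.S5326.result S G G0 i hrep).1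

theorem preim {P Q R : Scheme.{u}} (a : P ⟶ Q) (b : Q ⟶ R) (c : P ⟶ R) (h : a ≫ b = c)
    (N : Set R) : c ⁻¹' N = a ⁻¹' (b ⁻¹' N) := by
  subst h
  rfl

/-- The neutral component is representable iff it is open. -/
theorem rep_iff (S : Scheme.{u}) (G : Over S) [GrpObj G] [LocallyOfFinitePresentation G.hom] :
    (∃ (G0 : Over S) (i0 : G0 ⟶ G), Mono i0 ∧
      ∀ (T : Over S) (g : T ⟶ G), (∃ z : T ⟶ G0, z ≫ i0 = g) ↔
        Set.range g.left.base ⊆ SGA3x.neutralSet G) ↔ IsOpen (SGA3x.neutralSet G) := by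
  constructor
  · rintro ⟨G0, i0, h0, h⟩
    have h1 := rep_open S G G0 i0 h
    have h2 : SGA3x.neutralSet G = Set.range i0.left := by
      apply Set.Subset.antisymm
      · intro x hx
        let T : Over S := Over.mk (G.left.fromSpecResidueField x ≫ G.hom)
        let g : T ⟶ G := Over.homMk (G.left.fromSpecResidueField x)
        obtain ⟨z, hz⟩ := (h T g).mpr (by
          rintro _ ⟨t, rfl⟩
          have : g.left.base t = x := Scheme.fromSpecResidueField_apply _ _
          rw [this]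
          exact hx)
        refine ⟨z.left (IsLocalRing.closedPoint (G.left.residueField x)), ?_⟩
        rw [← Scheme.Hom.comp_apply, ← Over.comp_left, hz]
        exact Scheme.fromSpecResidueField_apply _ _
      · exact (h G0 i0).mp ⟨𝟙 _, Category.id_comp _⟩
    rw [h2]
    exact i0.left.isOpenEmbedding.isOpen_range
  · intro h
    let U : G.left.Opens := ⟨SGA3x.neutralSet G, h⟩
    let G0 : Over S := Over.mk (U.ι ≫ G.hom)
    let i0 : G0 ⟶ G := Over.homMk U.ι
    have hm : Mono i0.left := inferInstanceAs (Mono U.ι)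
    refine ⟨G0, i0, (Over.forget S).mono_of_mono_map hm, fun T g ↦ ⟨?_, fun hg ↦ ?_⟩⟩
    · rintro ⟨z, rfl⟩
      rintro _ ⟨t, rfl⟩
      exact (z.left t).2
    · have hg' : Set.range g.left ⊆ Set.range U.ι := by
        rw [Scheme.Opens.range_ι]
        exact hg
      refine ⟨Over.homMk (IsOpenImmersion.lift U.ι g.left hg') ?_, ?_⟩
      · change _ ≫ U.ι ≫ G.hom = T.hom
        rw [← Category.assoc, IsOpenImmersion.lift_fac, Over.w g]
      · ext1
        exact IsOpenImmersion.lift_fac _ _ _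

/-- Let S be the limit of a cofiltered system (S_i) of quasi-compact quasi-separated schemes with affine
transition morphisms, j an index and G_j an S_j-group scheme of finite presentation; put G = G_j
×_{S_j} S. Then the neutral component subfunctor of G is representable (there is a monomorphism G⁰ →
G through which a point factors exactly when its image lies in the union of the neutral components
of the fibres) if and only if there is an index i over j such that the neutral component of G_j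
×_{S_j} S_i is representable. -/
theorem result {I : Type u} [SmallCategory I] [IsCofiltered I]
    (D : I ⥤ Scheme.{u}) (c : Limits.Cone D) (hc : Limits.IsLimit c)
    [∀ (i i' : I) (f : i ⟶ i'), IsAffineHom (D.map f)] [∀ i, CompactSpace (D.obj i)] [∀ i, QuasiSeparatedSpace (D.obj i)]
    (j : I) (Gj : Over (D.obj j)) [GrpObj Gj]
    [LocallyOfFinitePresentation Gj.hom] [QuasiCompact Gj.hom] [QuasiSeparated Gj.hom] :
    (∃ (G0 : Over c.pt) (i0 : G0 ⟶ Red.bc (c.π.app j) Gj), Mono i0 ∧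
      ∀ (T : Over c.pt) (g : T ⟶ Red.bc (c.π.app j) Gj), (∃ z : T ⟶ G0, z ≫ i0 = g) ↔
        Set.range g.left.base ⊆ SGA3x.neutralSet (Red.bc (c.π.app j) Gj)) ↔
    ∃ (i : I) (f : i ⟶ j) (G0 : Over (D.obj i)) (i0 : G0 ⟶ Red.bc (D.map f) Gj), Mono i0 ∧
      ∀ (T : Over (D.obj i)) (g : T ⟶ Red.bc (D.map f) Gj), (∃ z : T ⟶ G0, z ≫ i0 = g) ↔
        Set.range g.left.base ⊆ SGA3x.neutralSet (Red.bc (D.map f) Gj) := by
  have inst1 : ∀ {S' : Scheme.{u}} (f : S' ⟶ D.obj j), LocallyOfFinitePresentation (Red.bc f Gj).hom :=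
    fun f ↦ inferInstanceAs (LocallyOfFinitePresentation (pullback.snd Gj.hom f))
  have inst2 : ∀ {S' : Scheme.{u}} (f : S' ⟶ D.obj j), QuasiSeparated (Red.bc f Gj).hom :=
    fun f ↦ inferInstanceAs (QuasiSeparated (pullback.snd Gj.hom f))
  rw [rep_iff]
  have h0 : ∀ (i : I) (f : i ⟶ j), (∃ (G0 : Over (D.obj i)) (i0 : G0 ⟶ Red.bc (D.map f) Gj), Mono i0 ∧
      ∀ (T : Over (D.obj i)) (g : T ⟶ Red.bc (D.map f) Gj), (∃ z : T ⟶ G0, z ≫ i0 = g) ↔
        Set.range g.left.base ⊆ SGA3x.neutralSet (Red.bc (D.map f) Gj)) ↔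
      IsOpen (SGA3x.neutralSet (Red.bc (D.map f) Gj)) := fun i f ↦ rep_iff _ _
  simp only [h0]
  let T : Over j ⥤ Scheme.{u} := Over.forget j ⋙ D
  let τ : ∀ k : Over j, T.obj k ⟶ D.obj j := fun k ↦ D.map k.hom
  have hτ : ∀ ⦃a b : Over j⦄ (h : a ⟶ b), T.map h ≫ τ b = τ a := by
    intro a b h
    change D.map h.left ≫ D.map b.hom = D.map a.hom
    rw [← D.map_comp, Over.w h]
  let c' : Cone T := c.whisker (Over.forget j)
  have hc' : IsLimit c' := (Functor.Initial.isLimitWhiskerEquiv _ _).symm hc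
  have ht : ∀ a, c'.π.app a ≫ τ a = c.π.app j := fun a ↦ c.w a.hom
  have hlim := Groth.Agent.Etcore.PullbackSys.isLimitCone T τ hτ Gj.hom c' (c.π.app j) ht hc'
  have haff : ∀ ⦃a b : Over j⦄ (h : a ⟶ b), IsAffineHom (T.map h) := fun a b h ↦
    inferInstanceAs (IsAffineHom (D.map h.left))
  have haff' : ∀ (a b : Over j) (h : a ⟶ b),
      IsAffineHom ((Groth.Agent.Etcore.PullbackSys.sys T τ hτ Gj.hom).map h) := fun a b h ↦
    Groth.Agent.Etcore.PullbackSys.isAffineHom_mapp T τ hτ Gj.hom haff h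
  have : CompactSpace (T.obj (Over.mk (𝟙 j))) := inferInstanceAs (CompactSpace (D.obj j))
  have hcomp : CompactSpace ((Groth.Agent.Etcore.PullbackSys.sys T τ hτ Gj.hom).obj (Over.mk (𝟙 j))) :=
    Groth.Agent.Etcore.PullbackSys.compactSpace_obj T τ hτ Gj.hom _
  let Z : Set ((Groth.Agent.Etcore.PullbackSys.sys T τ hτ Gj.hom).obj (Over.mk (𝟙 j))) :=
    SGA3x.neutralSet (Red.bc (D.map (𝟙 j)) Gj)
  have hZ : Topology.IsConstructible Z := neutralSet_cons (Red.bc (D.map (𝟙 j)) Gj)
  have hZ' : Z = (pullback.fst Gj.hom (D.map (𝟙 j))) ⁻¹' SGA3x.neutralSet Gj :=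
    Groth.Agent.S5322.result _ _ (D.map (𝟙 j)) Gj
  have key := Groth.Agent.S4761.result (Groth.Agent.Etcore.PullbackSys.sys T τ hτ Gj.hom)
    (Groth.Agent.Etcore.PullbackSys.cone T τ hτ Gj.hom c' (c.π.app j) ht) hlim
    (Over.mk (𝟙 j)) Z hZ
  have e1 : SGA3x.neutralSet (Red.bc (c.π.app j) Gj) =
      ((Groth.Agent.Etcore.PullbackSys.cone T τ hτ Gj.hom c' (c.π.app j) ht).π.app (Over.mk (𝟙 j))) ⁻¹' Z := by
    rw [hZ', Groth.Agent.S5322.result]
    exact preim _ _ _ (Groth.Agent.Etcore.PullbackSys.proj_fst T τ Gj.hom c' (c.π.app j) ht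
      (Over.mk (𝟙 j))) _
  have e2 : ∀ (k : Over j) (φ : k ⟶ Over.mk (𝟙 j)), SGA3x.neutralSet (Red.bc (D.map k.hom) Gj) =
      ((Groth.Agent.Etcore.PullbackSys.sys T τ hτ Gj.hom).map φ) ⁻¹' Z := by
    intro k φ
    rw [hZ', Groth.Agent.S5322.result]
    exact preim _ _ _ (Groth.Agent.Etcore.PullbackSys.mapp_fst T τ hτ Gj.hom φ) _
  constructor
  · intro h
    rw [e1] at h
    obtain ⟨k, φ, hk⟩ := key.mp h
    refine ⟨k.left, k.hom, ?_⟩
    rw [e2 k φ]
    exact hk
  · rintro ⟨i, f, hf⟩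
    have h1 : IsOpen (SGA3x.neutralSet (Red.bc (D.map (Over.mk f).hom) Gj)) := hf
    rw [e2 (Over.mk f) (Over.homMk f)] at h1
    rw [e1]
    exact key.mpr ⟨Over.mk f, Over.homMk f, h1⟩

end Groth.Agent.S5400
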