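import Groth.Statements.S5401
import Groth.Agent.SGA3.K208.LimSet
import Groth.Agent.S5325

set_option autoImplicit false
universe u
open CategoryTheory CategoryTheory.Limits MonoidalCategory CartesianMonoidalCategory MonObj GrpObj AlgebraicGeometry
open SGA3

namespace Groth.Agent.S5401

/-- alias -/
theorem neutralSet_ind {S : Scheme.{u}} (G : Over S) [GrpObj G] [LocallyOfFinitePresentation G.hom] :
    ProCons.IsIndConstructible (SGA3x.neutralSet G) := (Groth.Agent.S5325.result S G).1

/-- Let S₀ be a scheme, (S_i) a cofiltered system of quasi-compact quasi-separated S₀-schemes with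
affine transition morphisms and S its limit, and G an S₀-group scheme locally of finite presentation
over S₀. Write G⁰(T), for an S₀-scheme T, for the set of S₀-morphisms T → G whose image lies in the
union of the neutral components of the fibres of G. Then the canonical map colim G⁰(S_i) → G⁰(S) is
surjective: every element of G⁰(S) is the restriction of an element of G⁰(S_i) for some i. (The
published statement asserts that this map is bijective; its injectivity holds for S₀-morphisms to
any scheme locally of finite type over S₀ and is not stated here. The published setting takes S₀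
quasi-compact and quasi-separated and the S_i affine over S₀; this row allows any cofiltered system
of quasi-compact quasi-separated S₀-schemes with affine transition morphisms.) -/
theorem result {I : Type u} [SmallCategory I] [IsCofiltered I]
    (D : I ⥤ Scheme.{u}) (c : Limits.Cone D) (hc : Limits.IsLimit c)
    [∀ (i i' : I) (f : i ⟶ i'), IsAffineHom (D.map f)] [∀ i, CompactSpace (D.obj i)] [∀ i, QuasiSeparatedSpace (D.obj i)]
    (S₀ : Scheme.{u}) (q : ∀ i, D.obj i ⟶ S₀) (hq : ∀ (i i' : I) (f : i ⟶ i'), D.map f ≫ q i' = q i)
    (qlim : c.pt ⟶ S₀) (hqlim : ∀ i, c.π.app i ≫ q i = qlim)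
    (G : Over S₀) [GrpObj G] [LocallyOfFinitePresentation G.hom] :
    ∀ u : c.pt ⟶ G.left, u ≫ G.hom = qlim → Set.range u.base ⊆ SGA3x.neutralSet G →
      ∃ (i : I) (ui : D.obj i ⟶ G.left), ui ≫ G.hom = q i ∧ Set.range ui.base ⊆ SGA3x.neutralSet G ∧ c.π.app i ≫ ui = u := by
  intro u hu hrange
  let τ : D ⟶ (Functor.const I).obj S₀ :=
    { app := fun i ↦ q i
      naturality := fun i i' f ↦ by
        simp only [Functor.const_obj_obj, Functor.const_obj_map, Category.comp_id]
        exact hq i i' f }
  have ha : c.π ≫ τ = (Functor.const _).map (u ≫ G.hom) := by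
    ext1
    ext1 i
    simp only [NatTrans.comp_app, Functor.const_map_app, hu]
    exact hqlim i
  obtain ⟨i, ui, h1, h2⟩ := Scheme.exists_π_app_comp_eq_of_locallyOfFinitePresentation D τ G.hom c hc u ha
  have hind := Groth.Agent.S15543.result ui _ (neutralSet_ind G)
  obtain ⟨j, f, hf⟩ := K208.LimSet.exists_preimage_eq_univ D c hc i _ hind (by
    intro x
    apply hrange
    refine ⟨x, ?_⟩
    rw [← h1]
    rfl)
  refine ⟨j, D.map f ≫ ui, ?_, ?_, ?_⟩
  · rw [Category.assoc, h2]
    exact hq j i f
  · rintro _ ⟨x, rfl⟩
    exact hf x
  · rw [c.w_assoc, h1]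

end Groth.Agent.S5401
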