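import Groth.Statements.S5404
import Groth.Agent.SGA3x.K10.URZNil

set_option autoImplicit false
universe u
open CategoryTheory MonoidalCategory CartesianMonoidalCategory MonObj GrpObj AlgebraicGeometry CategoryTheory.Limits
open SGA3x

namespace Groth.Agent.S5404

/-- Let S be a scheme and G an S-group scheme, smooth over S, whose fibres are connected and nilpotent
(nilpotent on points, uniformly) and such that every maximal torus of each geometric fibre is its
own centralizer. Then G is commutative. (The published statement assumes only that the geometric
fibres have unipotent rank zero, a condition that allows an abelian-variety part; the hypothesis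
used here, that every maximal torus of each geometric fibre is its own centralizer, i.e. that the
Cartan subgroups of the geometric fibres are the maximal tori, is stronger: for smooth connected
fibres as here it holds exactly when the fibre is affine of unipotent rank zero.) -/
theorem result (S : Scheme.{u}) (G : Over S) [GrpObj G] [Smooth G.hom]
    (hconn : ∀ s : S, _root_.IsConnected (G.hom.base ⁻¹' {s}))
    (hnil : ∀ s : S, AGF.IsNilpotentGrp (Red.bc (S.fromSpecResidueField s) G))
    (hu : SGA3x.UnipotentRankZero G) : IsCommMonObj G := by
  exact K10.URZNil.isCommMonObj G hconn hnil hu

end Groth.Agent.S5404
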