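import Groth.Statements.S5405
import Groth.Agent.SGA3x.K10.URZAff

set_option autoImplicit false
universe u
open CategoryTheory MonoidalCategory CartesianMonoidalCategory MonObj GrpObj AlgebraicGeometry CategoryTheory.Limits
open SGA3x

namespace Groth.Agent.S5405

/-- Let G be an S-group scheme, smooth and of finite presentation over S, with connected fibres, such
that every maximal torus of each geometric fibre is its own centralizer, and let j : Z → G be its
centre (a subgroup scheme whose points are exactly the central points). Then Z is flat over S. (The
published statement assumes only that the geometric fibres have unipotent rank zero, a condition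
that allows an abelian-variety part; the hypothesis used here, that every maximal torus of each
geometric fibre is its own centralizer, i.e. that the Cartan subgroups of the geometric fibres are
the maximal tori, is stronger: for smooth connected fibres as here it holds exactly when the fibre
is affine of unipotent rank zero.) -/
theorem result (S : Scheme.{u}) (G : Over S) [GrpObj G] [Smooth G.hom] [QuasiCompact G.hom] [QuasiSeparated G.hom]
    (hconn : ∀ s : S, _root_.IsConnected (G.hom.base ⁻¹' {s})) (hu : SGA3x.UnipotentRankZero G)
    (Z : Over S) [GrpObj Z] (j : Z ⟶ G) (hZ : Red.IsCentre j) : Flat Z.hom := by
  exact K10.MTLoc.flat (K10.URZ.centre_isMultTypeFT G (K10.URZAff.affine_fibres G hconn hu) hconn hu j hZ)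

end Groth.Agent.S5405
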