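import Groth.Statements.S5406
import Groth.Agent.SGA3x.K10.URZNil

set_option autoImplicit false
universe u
open CategoryTheory MonoidalCategory CartesianMonoidalCategory MonObj GrpObj AlgebraicGeometry CategoryTheory.Limits
open SGA3x

namespace Groth.Agent.S5406

/-- Let G be an S-group scheme, smooth and of finite presentation over S, with connected fibres, such
that every maximal torus of each geometric fibre is its own centralizer; let j : Z → G be its
centre, i : T → G a maximal torus and c : C → G the centralizer of T (the Cartan subgroup of T).
Then C is commutative, and Z ∩ T (any subgroup scheme M sitting in a cartesian square over j and i)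
is a group of multiplicative type of finite type. (The published statement assumes only that the
geometric fibres have unipotent rank zero, a condition that allows an abelian-variety part; the
hypothesis used here, that every maximal torus of each geometric fibre is its own centralizer, i.e.
that the Cartan subgroups of the geometric fibres are the maximal tori, is stronger: for smooth
connected fibres as here it holds exactly when the fibre is affine of unipotent rank zero.) (The
published statement also asserts that C = T · Z and that, when the quotients Z/(Z ∩ T) and C/T are
representable, they are abelian schemes and the canonical monomorphism Z/(Z ∩ T) → C/T is an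
isomorphism; this row omits those clauses. Under the stronger hypothesis used here C and T have the
same geometric fibres, so the abelian-scheme case does not arise.) -/
theorem result (S : Scheme.{u}) (G : Over S) [GrpObj G] [Smooth G.hom] [QuasiCompact G.hom] [QuasiSeparated G.hom]
    (hconn : ∀ s : S, _root_.IsConnected (G.hom.base ⁻¹' {s})) (hu : SGA3x.UnipotentRankZero G)
    (Z : Over S) [GrpObj Z] (j : Z ⟶ G) (hZ : Red.IsCentre j)
    (T : Over S) [GrpObj T] (i : T ⟶ G) (hT : Red.IsMaximalTorus i)
    (C : Over S) [GrpObj C] (c : C ⟶ G) (hC : Red.IsCentralizerOf i c) :
    (∀ (X : Over S) (a b : X ⟶ C), a * b = b * a) ∧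
    (∀ (M : Over S) [GrpObj M] (a : M ⟶ Z) (b : M ⟶ T) [IsMonHom a] [IsMonHom b],
      IsPullback a b j i → SGA3x.IsMultTypeFT M) := by
  obtain ⟨hsep, -⟩ := K10.URZ.sep_qc G hconn
  have h1 : IsMonHom i := hT.1
  have h2 : Mono i := hT.2.1
  have hs := K10.URZNil.selfC hu i hT
  refine ⟨K10.URZNil.comm_centralizer hs hT.2.2.1 hC, fun M _ a b _ _ hp => ?_⟩
  exact K10.URZNil.isMultTypeFT_inter hs hZ
    (K10.URZ.centre_isMultTypeFT G (K10.URZAff.affine_fibres G hconn hu) hconn hu j hZ) a b hp

end Groth.Agent.S5406
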