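import Groth.Statements.S5407
import Groth.Agent.SGA3x.K10.URZ

set_option autoImplicit false
universe u
open CategoryTheory MonoidalCategory CartesianMonoidalCategory MonObj GrpObj AlgebraicGeometry CategoryTheory.Limits
open SGA3x

namespace Groth.Agent.S5407

/-- Let G be an S-group scheme, smooth and of finite presentation over S, with affine connected fibres,
whose geometric fibres have unipotent rank zero, and let j : Z → G be its centre. Then Z is of
multiplicative type (and of finite type). -/
theorem result (S : Scheme.{u}) (G : Over S) [GrpObj G] [Smooth G.hom] [QuasiCompact G.hom] [QuasiSeparated G.hom]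
    (haff : ∀ s : S, IsAffine (pullback G.hom (S.fromSpecResidueField s)))
    (hconn : ∀ s : S, _root_.IsConnected (G.hom.base ⁻¹' {s})) (hu : SGA3x.UnipotentRankZero G)
    (Z : Over S) [GrpObj Z] (j : Z ⟶ G) (hZ : Red.IsCentre j) : SGA3x.IsMultTypeFT Z := by
  exact K10.URZ.centre_isMultTypeFT G haff hconn hu j hZ

end Groth.Agent.S5407
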