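import Groth.Statements.S5408
import Groth.Agent.SGA3x.K10.NormAffMain

set_option autoImplicit false
universe u
open CategoryTheory MonoidalCategory CartesianMonoidalCategory MonObj GrpObj AlgebraicGeometry CategoryTheory.Limits
open SGA3x

namespace Groth.Agent.S5408

/-- Equivalence of (i), (iii), (iv): let G be an S-group scheme, smooth and of finite presentation over
S, with affine connected fibres and geometric fibres of unipotent rank zero; let i : T → G be a
maximal torus and n : N → G its normalizer. Then G is affine over S if and only if N is; and if q :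
N → W represents the fppf quotient N/T (the Weyl group), N is affine over S if and only if W is.
(The published statement lists a fourth equivalent condition, that G/Z is affine over S; this row
omits it.) -/
theorem result (S : Scheme.{u}) (G : Over S) [GrpObj G] [Smooth G.hom] [QuasiCompact G.hom] [QuasiSeparated G.hom]
    (haff : ∀ s : S, IsAffine (pullback G.hom (S.fromSpecResidueField s)))
    (hconn : ∀ s : S, _root_.IsConnected (G.hom.base ⁻¹' {s})) (hu : SGA3x.UnipotentRankZero G)
    (T : Over S) [GrpObj T] (i : T ⟶ G) (hT : Red.IsMaximalTorus i)
    (N : Over S) [GrpObj N] (n : N ⟶ G) (hN : Red.IsNormalizerOf i n) :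
    (IsAffineHom G.hom ↔ IsAffineHom N.hom) ∧
    (∀ (W : Over S) (t : T ⟶ N) [IsMonHom t] (q : N ⟶ W), t ≫ n = i → RedSub.IsQuotient t q →
      (IsAffineHom N.hom ↔ IsAffineHom W.hom)) := by
  exact ⟨K10.NormAff.isAffineHom_iff haff hconn hu i hT n hN,
    fun W t _ q ht hq => K10.NormAffMain.isAffineHom_weyl_iff hconn hu i hT n hN W t q ht hq⟩

end Groth.Agent.S5408
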