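import Groth.Statements.S5409
import Groth.Agent.SGA3x.K10.SolvAff

set_option autoImplicit false
universe u
open CategoryTheory MonoidalCategory CartesianMonoidalCategory MonObj GrpObj AlgebraicGeometry CategoryTheory.Limits
open SGA3x

namespace Groth.Agent.S5409

/-- Let G be an S-group scheme, smooth and of finite presentation over S, whose fibres are affine,
solvable (on points, uniformly) and connected and whose geometric fibres have unipotent rank zero.
Then G is affine over S. -/
theorem result (S : Scheme.{u}) (G : Over S) [GrpObj G] [Smooth G.hom] [QuasiCompact G.hom] [QuasiSeparated G.hom]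
    (haff : ∀ s : S, IsAffine (pullback G.hom (S.fromSpecResidueField s)))
    (hsolv : ∀ s : S, Red.IsSolvableGrp (Red.bc (S.fromSpecResidueField s) G))
    (hconn : ∀ s : S, _root_.IsConnected (G.hom.base ⁻¹' {s})) (hu : SGA3x.UnipotentRankZero G) :
    IsAffineHom G.hom := by
  exact K10.SolvAff.isAffineHom G haff hsolv hconn hu

end Groth.Agent.S5409
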