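import Groth.Statements.S5412
import Groth.Agent.SGA3x.K21.KerNbd
import Groth.Agent.SGA3x.K21.QuotImm

set_option autoImplicit false
universe u
open CategoryTheory MonoidalCategory CartesianMonoidalCategory MonObj GrpObj AlgebraicGeometry CategoryTheory.Limits
open SGA3x

namespace Groth.Agent.S5412

/-- Let G be an S-group scheme, smooth and of finite presentation over S, with affine connected fibres
and geometric fibres of unipotent rank zero (every maximal torus of each geometric fibre is its own
centralizer); let H be an S-group scheme, either of finite presentation over S, or locally of finite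
type over S with S locally Noetherian; let u : G → H be a homomorphism, k : K → G its kernel, and s
a point of S such that the kernel of u_s is central in G_s (on points). Then there is an open
neighbourhood U of s over which K is central in G and of multiplicative type (of finite type), and
such that for every S-group scheme Q over U representing the fppf quotient (G|U)/(K|U) through a
homomorphism q, the homomorphism Q → H|U induced by u is an immersion. (The published statement
asks, in the locally Noetherian case, that G rather than H be locally of finite type, which is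
automatic for smooth G; this row asks H locally of finite type, as the immersion criterion used by
its proof requires. The published statement also asserts that (G|U)/(K|U) is representable; this row
assumes a representing pair (Q, q) is given.) -/
theorem result (S : Scheme.{u}) (G : Over S) [GrpObj G] [Smooth G.hom] [QuasiCompact G.hom] [QuasiSeparated G.hom]
    (haff : ∀ s : S, IsAffine (pullback G.hom (S.fromSpecResidueField s)))
    (hconn : ∀ s : S, _root_.IsConnected (G.hom.base ⁻¹' {s})) (hu0 : SGA3x.UnipotentRankZero G)
    (H : Over S) [GrpObj H]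
    (hH : (LocallyOfFinitePresentation H.hom ∧ QuasiCompact H.hom ∧ QuasiSeparated H.hom) ∨
      (IsLocallyNoetherian S ∧ LocallyOfFiniteType H.hom))
    (u : G ⟶ H) [IsMonHom u] (K : Over S) [GrpObj K] (k : K ⟶ G) [IsMonHom k] (hK : AlgGrp.IsKernel k u)
    (s : S)
    (hs : ∀ (X : Over (Spec (S.residueField s))) (g x : X ⟶ Red.bc (S.fromSpecResidueField s) G),
      x ≫ (Over.pullback (S.fromSpecResidueField s)).map u = 1 → g * x = x * g) :
    ∃ U : S.Opens, s ∈ U ∧
      (∀ (X : Over (U : Scheme.{u})) (g : X ⟶ Red.bc U.ι G) (x : X ⟶ Red.bc U.ι K),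
        g * (x ≫ (Over.pullback U.ι).map k) = (x ≫ (Over.pullback U.ι).map k) * g) ∧
      SGA3x.IsMultTypeFT (Red.bc U.ι K) ∧
      (∀ (Q : Over (U : Scheme.{u})) [GrpObj Q] (q : Red.bc U.ι G ⟶ Q) [IsMonHom q]
        (m : Q ⟶ Red.bc U.ι H), RedSub.IsQuotient ((Over.pullback U.ι).map k) q →
        q ≫ m = (Over.pullback U.ι).map u → IsImmersion m.left) := by
  have hHft : LocallyOfFiniteType H.hom := by
    obtain ⟨h1, -, -⟩ | ⟨-, h1⟩ := hH
    · infer_instance
    · exact h1
  have hK' := (Groth.Agent.Sga7.H760.KerBc.isKernel_iff k u).mp hK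
  have hk : K21.KerNS.IsKer k u := by
    intro X x
    constructor
    · rintro ⟨y, rfl⟩
      rw [Category.assoc, hK'.1, MonObj.comp_one]
    · intro hx
      obtain ⟨y, hy, -⟩ := hK'.2 X x hx
      exact ⟨y, hy⟩
  have hkm : Mono k := by
    constructor
    intro X a b hab
    obtain ⟨y, -, hy⟩ := hK'.2 X (b ≫ k) (by rw [Category.assoc, hK'.1, MonObj.comp_one])
    exact (hy a hab).trans (hy b rfl).symm
  have hc : K12.Central.Cen k (Over.mk (S.fromSpecResidueField s)) := by
    rw [K12.Central.cen_mk_iff]
    intro X g x
    refine hs X g _ ?_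
    exact ((hk.bc (S.fromSpecResidueField s)) X _).mp ⟨x, rfl⟩
  obtain ⟨hsep, hqc⟩ := K10.URZ.sep_qc G hconn
  obtain ⟨U, hsU, h1, h2⟩ := K21.KerNbd.Good.exists_open
    (K21.KerNbd.good_of_urz hconn hu0 (Groth.Agent.S4124.result S G haff hconn hu0).1 hk s hc)
  have h1' := (K12.Central.cen_mk_iff U.ι k).mp h1
  refine ⟨U, hsU, h1', h2, ?_⟩
  intro Q _ q _ m hq hm
  have i1 : Smooth (Red.bc U.ι G).hom := inferInstanceAs (Smooth (pullback.snd _ _))
  have i2 : LocallyOfFiniteType (Red.bc U.ι H).hom := inferInstanceAs (LocallyOfFiniteType (pullback.snd _ _))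
  have hafU : ∀ x : (U : Scheme.{u}),
      IsAffine (pullback (Red.bc U.ι G).hom ((U : Scheme.{u}).fromSpecResidueField x)) := fun x =>
    (Groth.Agent.Sga3.H804.DimOne.affFib_of_fibres G.hom haff).of_isPullback
      (IsPullback.of_hasPullback G.hom U.ι) ((U : Scheme.{u}).residueField x)
      ((U : Scheme.{u}).fromSpecResidueField x)
  refine K21.QuotImm.isImmersion (K := Red.bc U.ι K) (u := (Over.pullback U.ι).map u) hafU
    (Groth.Agent.Sga3.H819.CentKer.isConnected_bc U.ι G hconn)
    (K10.SolvAff.urz_bc U.ι hu0) ?_ (hk.bc U.ι) h1' hq hm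
  obtain ⟨h3, h4, h5⟩ | ⟨h3, -⟩ := hH
  · exact Or.inl ⟨inferInstanceAs (LocallyOfFinitePresentation (pullback.snd _ _)),
      inferInstanceAs (QuasiCompact (pullback.snd _ _)), inferInstanceAs (QuasiSeparated (pullback.snd _ _))⟩
  · exact Or.inr (isLocallyNoetherian_of_isOpenImmersion U.ι)

end Groth.Agent.S5412
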