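import Groth.Statements.S5413
import Groth.Agent.SGA3x.K21.UrzNhd

set_option autoImplicit false
universe u
open CategoryTheory MonoidalCategory CartesianMonoidalCategory MonObj GrpObj AlgebraicGeometry CategoryTheory.Limits
open SGA3x

namespace Groth.Agent.S5413

/-- In the case the source names as its example: let G be an S-group scheme, smooth and of finite
presentation over S with connected fibres, and s a point of S such that G_s is affine and the
geometric fibre at s has unipotent rank zero (each of its maximal tori is its own centralizer). Let
H be an S-group scheme, of finite presentation over S or with S locally Noetherian, and u, v : G → H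
two homomorphisms with u_s = v_s and u_s central (its values commute with all points of H_s). Then u
= v over some open neighbourhood of s. (The published statement assumes more generally that G_s is
generated by its subtori; this row takes the affine unipotent-rank-zero case.) -/
theorem result (S : Scheme.{u}) (G : Over S) [GrpObj G] [Smooth G.hom] [QuasiCompact G.hom] [QuasiSeparated G.hom]
    (hconn : ∀ s : S, _root_.IsConnected (G.hom.base ⁻¹' {s})) (s : S)
    (haff : IsAffine (pullback G.hom (S.fromSpecResidueField s)))
    (hu0 : ∀ (T : Over (Spec (CommRingCat.of (AlgebraicClosure (S.residueField s))))) [GrpObj T]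
      (i : T ⟶ Red.geomFibre s G), Red.IsMaximalTorus i → Red.IsCentralizerOf i i)
    (H : Over S) [GrpObj H]
    (hH : (LocallyOfFinitePresentation H.hom ∧ QuasiCompact H.hom ∧ QuasiSeparated H.hom) ∨ IsLocallyNoetherian S)
    (u v : G ⟶ H) [IsMonHom u] [IsMonHom v]
    (hs : (Over.pullback (S.fromSpecResidueField s)).map u = (Over.pullback (S.fromSpecResidueField s)).map v)
    (hc : ∀ (X : Over (Spec (S.residueField s))) (g : X ⟶ Red.bc (S.fromSpecResidueField s) G)
      (h : X ⟶ Red.bc (S.fromSpecResidueField s) H),
      (g ≫ (Over.pullback (S.fromSpecResidueField s)).map u) * h = h * (g ≫ (Over.pullback (S.fromSpecResidueField s)).map u)) :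
    ∃ U : S.Opens, s ∈ U ∧ (Over.pullback U.ι).map u = (Over.pullback U.ι).map v := by
  have hE : Groth.Agent.SGA3x.K5.Clopen.Eqz u v (Over.mk (S.fromSpecResidueField s)) :=
    (K12.Central.eqz_mk_iff _ u v).mpr hs
  have hC : K12.Central.Cen u (Over.mk (S.fromSpecResidueField s)) :=
    (K12.Central.cen_mk_iff _ u).mpr fun X g h => (hc X h g).symm
  let y := Red.geomPt s
  let t : Over.mk y ⟶ Over.mk (S.fromSpecResidueField s) :=
    Over.homMk (Spec.map (CommRingCat.ofHom (algebraMap (S.residueField s) (AlgebraicClosure (S.residueField s))))) rfl
  obtain ⟨U, hU, hUU⟩ := K21.UrzNhd.exists_nhd hconn hH u v y (K21.UrzNhd.conjDense_geomFibre hconn s haff hu0)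
    (hE.comp t) (hC.comp t)
  refine ⟨U, ?_, (K12.Central.eqz_mk_iff _ u v).mp hUU⟩
  have h1 : y (IsLocalRing.closedPoint (AlgebraicClosure (S.residueField s))) = s :=
    (Scheme.Hom.comp_apply (Spec.map (CommRingCat.ofHom (algebraMap (S.residueField s)
      (AlgebraicClosure (S.residueField s))))) (S.fromSpecResidueField s) _).trans (Scheme.fromSpecResidueField_apply _ _)
  rw [← h1]
  exact hU

end Groth.Agent.S5413
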