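import Groth.Statements.S5414
import Groth.Agent.SGA3x.K10.AffDimTwo

set_option autoImplicit false
universe u
open CategoryTheory MonoidalCategory CartesianMonoidalCategory MonObj GrpObj AlgebraicGeometry CategoryTheory.Limits
open SGA3x

namespace Groth.Agent.S5414

/-- Let S be a locally Noetherian scheme of dimension at most 1, X and Y two S-schemes locally of finite
type over S and u : X → Y an S-morphism which is quasi-finite (quasi-compact, locally quasi-finite)
and separated. Suppose that for every point s of S the morphism u_s : X_s → Y_s induced on the
fibres over s is finite. Then u is affine. (The published statement takes S of dimension 1; this row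
allows dimension at most 1, which its proof covers.) -/
theorem result (S : Scheme.{u}) [IsLocallyNoetherian S] (hdim : topologicalKrullDim ↥S ≤ 1)
    (X Y : Over S) [LocallyOfFiniteType X.hom] [LocallyOfFiniteType Y.hom] (u : X ⟶ Y)
    [QuasiCompact u.left] [LocallyQuasiFinite u.left] [IsSeparated u.left]
    (hfin : ∀ s : S, IsFinite ((Over.pullback (S.fromSpecResidueField s)).map u).left) :
    IsAffineHom u.left := by
  have hu : LocallyOfFiniteType u.left := by
    have h1 : LocallyOfFiniteType (u.left ≫ Y.hom) := by
      rw [Over.w]
      infer_instance
    exact locallyOfFiniteType_of_comp u.left Y.hom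
  refine K10.AffDimTwo.isAffineHom hdim u.left Y.hom fun F _ t => ?_
  obtain ⟨s, q, rfl⟩ : ∃ (s : S) (q : Spec (CommRingCat.of F) ⟶ Spec (S.residueField s)),
      q ≫ S.fromSpecResidueField s = t := by
    refine ⟨t (IsLocalRing.closedPoint F), Spec.map (Scheme.descResidueField
      (Scheme.stalkClosedPointTo t)), ?_⟩
    exact Scheme.descResidueField_stalkClosedPointTo_fromSpecResidueField F S t
  have h1 := hfin s
  let e : pullback Y.hom (q ≫ S.fromSpecResidueField s) ⟶ pullback Y.hom (S.fromSpecResidueField s) :=
    pullback.lift (pullback.fst _ _) (pullback.snd _ _ ≫ q) (by rw [pullback.condition, Category.assoc])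
  have he : e ≫ pullback.fst Y.hom (S.fromSpecResidueField s) = pullback.fst _ _ := pullback.lift_fst _ _ _
  -- the base change square of the fibre at `s`
  have h2 : IsPullback (pullback.fst X.hom (S.fromSpecResidueField s))
      ((Over.pullback (S.fromSpecResidueField s)).map u).left u.left (pullback.fst Y.hom (S.fromSpecResidueField s)) := by
    have g1 : IsPullback (pullback.fst Y.hom (S.fromSpecResidueField s)) (pullback.snd Y.hom _) Y.hom _ :=
      IsPullback.of_hasPullback _ _
    have g2 : IsPullback (pullback.fst X.hom (S.fromSpecResidueField s)) (pullback.snd X.hom _) X.hom _ :=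
      IsPullback.of_hasPullback _ _
    have e1 : ((Over.pullback (S.fromSpecResidueField s)).map u).left ≫ pullback.fst Y.hom (S.fromSpecResidueField s) =
        pullback.fst X.hom _ ≫ u.left := by
      exact pullback.lift_fst _ _ _
    have e2 : ((Over.pullback (S.fromSpecResidueField s)).map u).left ≫ pullback.snd Y.hom (S.fromSpecResidueField s) =
        pullback.snd X.hom _ := by
      exact pullback.lift_snd _ _ _
    have e3 : u.left ≫ Y.hom = X.hom := Over.w u
    have g3 : IsPullback (pullback.fst X.hom (S.fromSpecResidueField s))
        (((Over.pullback (S.fromSpecResidueField s)).map u).left ≫ pullback.snd Y.hom _)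
        (u.left ≫ Y.hom) (S.fromSpecResidueField s) := by
      rw [e2, e3]
      exact g2
    exact IsPullback.of_bot g3 e1.symm g1
  have h3 : IsPullback (pullback.fst u.left (pullback.fst Y.hom (q ≫ S.fromSpecResidueField s)))
      (pullback.snd u.left (pullback.fst Y.hom (q ≫ S.fromSpecResidueField s))) u.left
      (e ≫ pullback.fst Y.hom (S.fromSpecResidueField s)) := by
    rw [he]
    exact IsPullback.of_hasPullback _ _
  exact MorphismProperty.of_isPullback (P := @IsFinite) (IsPullback.of_right' h3 h2) h1

end Groth.Agent.S5414
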