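import Groth.Statements.S5415
import Groth.Agent.GIT.K686.Whisk
import Groth.Agent.S0086

set_option autoImplicit false
universe u
open CategoryTheory MonoidalCategory CartesianMonoidalCategory MonObj GrpObj AlgebraicGeometry CategoryTheory.Limits
open SGA3x

namespace Groth.Agent.S5415

section

variable {C : Type*} [Category C] [CartesianMonoidalCategory C]
variable {G G' Q H : C} [GrpObj G] [GrpObj G'] [GrpObj Q] [GrpObj H]

/-- `(g, h) ↦ (g, u(g) h)` -/
def shearIso (u : G ⟶ H) : G ⊗ H ≅ G ⊗ H where
  hom := lift (fst G H) ((fst G H ≫ u) * snd G H)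
  inv := lift (fst G H) ((fst G H ≫ u)⁻¹ * snd G H)
  hom_inv_id := by
    apply CartesianMonoidalCategory.hom_ext
    · simp
    · simp only [comp_lift, lift_fst, lift_snd, comp_mul, comp_inv, Category.id_comp, lift_fst_assoc,
        inv_mul_cancel_left]
  inv_hom_id := by
    apply CartesianMonoidalCategory.hom_ext
    · simp
    · simp only [comp_lift, lift_fst, lift_snd, comp_mul, Category.id_comp, lift_fst_assoc,
        mul_inv_cancel_left]

/-- `G ×_{Q} G ≅ G × G'` over `G × H`. -/
theorem isPullback_ker (p : G ⟶ Q) [IsMonHom p] (i : G' ⟶ G) [IsMonHom i]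
    (hker : IsPullback i (toUnit G') p η[Q]) (u : G ⟶ H) [IsMonHom u] :
    IsPullback ((fst G G') * (snd G G' ≫ i)) ((G ◁ (i ≫ u)) ≫ (shearIso u).hom) (lift p u) (p ▷ H) := by
  have h1 : ∀ {T : C} (a : T ⟶ G'), a ≫ i ≫ p = 1 := by
    intro T a
    rw [hker.w, ← Category.assoc]
    change (a ≫ toUnit G') ≫ η[Q] = toUnit T ≫ η[Q]
    congr 1
    exact toUnit_unique _ _
  refine ⟨⟨?_⟩, ⟨PullbackCone.IsLimit.mk _ (fun c => lift (c.snd ≫ fst G H)
    (hker.lift ((c.snd ≫ fst G H)⁻¹ * c.fst) (toUnit _) ?_)) ?_ ?_ ?_⟩⟩
  · apply CartesianMonoidalCategory.hom_ext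
    · simp only [Category.assoc, lift_fst, whiskerRight_fst, shearIso, lift_fst_assoc, whiskerLeft_fst_assoc]
      rw [mul_comp, Category.assoc, h1, _root_.mul_one]
    · simp only [Category.assoc, lift_snd, whiskerRight_snd, shearIso, comp_mul, whiskerLeft_fst_assoc,
        whiskerLeft_snd]
      rw [mul_comp, Category.assoc]
  · have hc := congrArg (fun k => k ≫ fst Q H) c.condition
    simp only [Category.assoc, lift_fst, whiskerRight_fst] at hc
    rw [mul_comp, inv_comp, Category.assoc, hc, inv_mul_cancel]
    rfl
  · intro c
    rw [comp_mul, lift_fst, lift_snd_assoc, hker.lift_fst, mul_inv_cancel_left]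
  · intro c
    have hc := congrArg (fun k => k ≫ snd Q H) c.condition
    simp only [Category.assoc, lift_snd, whiskerRight_snd] at hc
    apply CartesianMonoidalCategory.hom_ext
    · simp only [Category.assoc, shearIso, lift_fst, whiskerLeft_fst]
    · simp only [Category.assoc, shearIso, lift_snd, comp_mul, whiskerLeft_fst_assoc,
        whiskerLeft_snd, lift_fst_assoc, lift_snd_assoc, hker.lift_fst_assoc]
      rw [mul_comp, inv_comp, Category.assoc, hc, mul_inv_cancel_left]
  · intro c m h1 h2
    have h3 : m ≫ fst G G' = c.snd ≫ fst G H := by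
      rw [← h2]
      simp only [Category.assoc, shearIso, lift_fst, whiskerLeft_fst]
    apply CartesianMonoidalCategory.hom_ext
    · rw [lift_fst, h3]
    · rw [lift_snd]
      apply hker.hom_ext
      · rw [hker.lift_fst, ← h1, ← h3, comp_mul, Category.assoc, inv_mul_cancel_left]
      · exact toUnit_unique _ _

end

/-- Let G be an S-group scheme of finite presentation over S, p : G → G'' a homomorphism which is
surjective, flat and locally of finite presentation onto an S-group scheme G'' proper and of finite
presentation over S, and i : G' → G its kernel, with G' flat and of finite presentation over S. Let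
H be an S-group scheme which is of finite presentation over S, or locally of finite presentation
over a locally Noetherian S, and u : G → H a homomorphism. If the restriction u ∘ i of u to G' is
proper, then u is proper. -/
theorem result (S : Scheme.{u}) (G G' G'' : Over S) [GrpObj G] [GrpObj G'] [GrpObj G'']
    [QuasiCompact G.hom] [QuasiSeparated G.hom] [LocallyOfFinitePresentation G.hom]
    [IsProper G''.hom] [LocallyOfFinitePresentation G''.hom]
    [Flat G'.hom] [QuasiCompact G'.hom] [QuasiSeparated G'.hom] [LocallyOfFinitePresentation G'.hom]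
    (p : G ⟶ G'') [IsMonHom p] [Surjective p.left] [Flat p.left] [LocallyOfFinitePresentation p.left]
    (i : G' ⟶ G) [IsMonHom i] (hker : AlgGrp.IsKernel i p)
    (H : Over S) [GrpObj H] [LocallyOfFinitePresentation H.hom]
    (hH : (QuasiCompact H.hom ∧ QuasiSeparated H.hom) ∨ IsLocallyNoetherian S)
    (u : G ⟶ H) [IsMonHom u] (hu : IsProper (i ≫ u).left) : IsProper u.left := by
  have hqc : QuasiCompact p.left := by
    have : QuasiCompact (p.left ≫ G''.hom) := by rw [Over.w]; infer_instance
    exact QuasiCompact.of_comp p.left G''.hom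
  have hpb := (isPullback_ker p i hker u).map (Over.forget S)
  have hpw := K686.Whisk.isPullback_whiskerRight_left p H
  have hw1 : Surjective (p ▷ H).left := MorphismProperty.of_isPullback (P := @Surjective) hpw.flip inferInstance
  have hw2 : Flat (p ▷ H).left := MorphismProperty.of_isPullback (P := @Flat) hpw.flip inferInstance
  have hw3 : QuasiCompact (p ▷ H).left := MorphismProperty.of_isPullback (P := @QuasiCompact) hpw.flip inferInstance
  have h1 : IsProper (G ◁ (i ≫ u)).left :=
    MorphismProperty.of_isPullback (P := @IsProper)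
      (K686.Whisk.isPullback_whiskerLeft_left (i ≫ u) G).flip hu
  have h2 : IsProper ((G ◁ (i ≫ u)) ≫ (shearIso u).hom).left := by
    rw [Over.comp_left]
    have : IsIso (shearIso u).hom.left := ((Over.forget S).mapIso (shearIso u)).isIso_hom
    infer_instance
  have := Groth.Agent.S0086.result.{u}
  have h3 : IsProper (lift p u).left :=
    MorphismProperty.of_isPullback_of_descendsAlong (P := @IsProper)
      (Q := @Surjective ⊓ @Flat ⊓ @QuasiCompact) hpb.flip ⟨⟨hw1, hw2⟩, hw3⟩ h2
  have h4 : IsProper (snd G'' H).left := by
    change IsProper (pullback.snd G''.hom H.hom)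
    infer_instance
  have h5 : lift p u ≫ snd G'' H = u := lift_snd _ _
  rw [← h5, Over.comp_left]
  infer_instance

end Groth.Agent.S5415
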