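import Groth.Statements.S5418
import Groth.Agent.SGA3x.K215.FlatCentre

set_option autoImplicit false
universe u
open CategoryTheory MonoidalCategory CartesianMonoidalCategory MonObj GrpObj AlgebraicGeometry CategoryTheory.Limits
open SGA3x

namespace Groth.Agent.S5418

/-- Let G be an S-group scheme, smooth and of finite presentation over S, with connected fibres, and j :
Z → G its centre, assumed flat over S. Then the quotient G/Z is representable by an S-group scheme Q
(with q : G → Q representing the fppf quotient) which is smooth, of finite presentation and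
quasi-affine over S, with affine connected fibres. -/
theorem result (S : Scheme.{u}) (G : Over S) [GrpObj G] [Smooth G.hom] [QuasiCompact G.hom] [QuasiSeparated G.hom]
    (hconn : ∀ s : S, _root_.IsConnected (G.hom.base ⁻¹' {s}))
    (Z : Over S) [GrpObj Z] (j : Z ⟶ G) (hZ : Red.IsCentre j) [Flat Z.hom] :
    ∃ (Q : Over S) (_ : GrpObj Q) (q : G ⟶ Q) (_ : IsMonHom q), RedSub.IsQuotient j q ∧
      Smooth Q.hom ∧ QuasiCompact Q.hom ∧ QuasiSeparated Q.hom ∧ Mor2.IsQuasiAffine Q.hom ∧
      (∀ s : S, IsAffine (pullback Q.hom (S.fromSpecResidueField s))) ∧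
      (∀ s : S, _root_.IsConnected (Q.hom.base ⁻¹' {s})) :=
  K215.FlatCentre.exists_quotient G hconn Z j hZ

end Groth.Agent.S5418
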