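import Groth.Statements.S5419
import Groth.Agent.SGA3x.K983.NormQuotFp

set_option autoImplicit false
universe u
open CategoryTheory MonoidalCategory CartesianMonoidalCategory MonObj GrpObj AlgebraicGeometry CategoryTheory.Limits
open SGA3x

namespace Groth.Agent.S5419

/-- Let G be an S-group scheme of finite presentation over S, i : H → G a monomorphism of S-groups with
H smooth over S with connected fibres, and n : N → G the normalizer of H in G, assumed flat over S.
Then G/N is representable by an S-scheme Q (q : G → Q representing the fppf quotient), of finite
presentation over S, which is quasi-projective over S locally on S (an immersion into a projective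
space over a neighbourhood of each point of S). (The published statement asserts that G/N is
quasi-projective over S, i.e. carries an S-ample invertible sheaf; this row asserts only
quasi-projectivity locally on S, the form available here.) -/
theorem result (S : Scheme.{u}) (G : Over S) [GrpObj G] [QuasiCompact G.hom] [QuasiSeparated G.hom] [LocallyOfFinitePresentation G.hom]
    (H : Over S) [GrpObj H] [Smooth H.hom] (hconn : ∀ s : S, _root_.IsConnected (H.hom.base ⁻¹' {s}))
    (i : H ⟶ G) [IsMonHom i] [Mono i]
    (N : Over S) [GrpObj N] (n : N ⟶ G) (hN : Red.IsNormalizerOf i n) [Flat N.hom] :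
    ∃ (Q : Over S) (q : G ⟶ Q), RedSub.IsQuotient n q ∧ QuasiCompact Q.hom ∧ QuasiSeparated Q.hom ∧
      LocallyOfFinitePresentation Q.hom ∧ RedSub.IsLocallyQuasiProjective Q := by
  obtain ⟨Q, q, h1, h2, h3, h4, h5⟩ := K983.NormQuotFp.exists_quotient i n hconn hN
  exact ⟨Q, q, h1, h3, inferInstance, h2, h5⟩

end Groth.Agent.S5419
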