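import Groth.Statements.S5421
import Groth.Agent.Red.K979.Chr

set_option autoImplicit false
universe u
open CategoryTheory MonoidalCategory CartesianMonoidalCategory MonObj GrpObj AlgebraicGeometry CategoryTheory.Limits
open Red

namespace Groth.Agent.S5421

/-- Let T be an S-torus and α : T → G_{m,S} a character. The following are equivalent: (i) for every
point s of S the character induced on the geometric fibre at s is not the trivial character; (ii)
for every morphism S' → S with S' non-empty the base change of α is not the trivial character; (iii)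
α is faithfully flat (flat and surjective). -/
theorem result (S : Scheme.{u}) (T : Over S) [GrpObj T] (hT : Red.IsTorus T) (α : T ⟶ Red.Gm S) [IsMonHom α] :
    ((∀ s : S, (Over.pullback (Red.geomPt s)).map α ≠ 1) ↔
      (∀ (S' : Scheme.{u}) (g : S' ⟶ S), Nonempty ↥S' → (Over.pullback g).map α ≠ 1)) ∧
    ((∀ s : S, (Over.pullback (Red.geomPt s)).map α ≠ 1) ↔ (Flat α.left ∧ Surjective α.left)) := by
  have h1 : (∀ s : S, (Over.pullback (Red.geomPt s)).map α ≠ 1) → Flat α.left ∧ Surjective α.left := fun h =>
    ⟨K979.Chr.flat_of_ne hT α h, K979.Chr.surjective_of_ne hT α h⟩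
  have h2 : Flat α.left ∧ Surjective α.left → ∀ (S' : Scheme.{u}) (g : S' ⟶ S), Nonempty ↥S' →
      (Over.pullback g).map α ≠ 1 := by
    rintro ⟨_, _⟩ S' g hne
    exact K979.Chr.ne_one_of_flat α g hne
  have h3 : (∀ (S' : Scheme.{u}) (g : S' ⟶ S), Nonempty ↥S' → (Over.pullback g).map α ≠ 1) →
      ∀ s : S, (Over.pullback (Red.geomPt s)).map α ≠ 1 := fun h s => h _ _ ⟨IsLocalRing.closedPoint _⟩
  exact ⟨⟨fun h => h2 (h1 h), h3⟩, ⟨h1, fun h => h3 (h2 h)⟩⟩

end Groth.Agent.S5421
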