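import Groth.Statements.S5423
import Groth.Agent.Redsub.H674.UnipPts
import Groth.Agent.Sga3A.ComodUnip

set_option autoImplicit false
universe u
open TensorProduct
open SGA3t2b

namespace Groth.Agent.S5423

open Groth.Agent.Sga3A.ComodBasic Groth.Agent.Sga3A.ComodUnip Groth.Agent.Sga3B.RG
  Groth.Agent.Sga3B.RG.ChevLine187 Groth.Agent.Books.ComodDual WithConv in
theorem act_eq_comodRep (k : Type u) [Field k] (A : Type u) [CommRing A] [HopfAlgebra k A]
    (V : Type u) [AddCommGroup V] [Module k V] [HopfRep.Comod k A V] (g : A →ₐ[k] k) :
    HopfRep.Comod.act k A V g = comodRep k A V (toConv g) := by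
  ext v
  rw [comodRep_apply, cact_apply]
  change _ = contr g.toLinearMap (HopfRep.Comod.coact (k := k) v)
  rw [contr_eq_lTensor]
  rfl

/-- Let k be an algebraically closed field and A a reduced finitely generated commutative Hopf algebra
over k (a smooth affine algebraic k-group G). Then G is unipotent (every non-zero finite-dimensional
representation has a non-zero fixed vector) if and only if every element of G(k) is unipotent, i.e.
every k-point g : A → k acts on every finite-dimensional comodule V by an endomorphism g_V with g_V
− 1 nilpotent. -/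
theorem result (k : Type u) [Field k] [IsAlgClosed k] (A : Type u) [CommRing A] [HopfAlgebra k A] [Algebra.FiniteType k A]
    [IsReduced A] :
    HopfRep.IsUnipotent k A ↔
      ∀ (g : A →ₐ[k] k) (V : Type u) [AddCommGroup V] [Module k V] [HopfRep.Comod k A V],
        Module.Finite k V → IsNilpotent (HopfRep.Comod.act k A V g - LinearMap.id) := by
  constructor
  · intro hU g V _ _ _ hV
    obtain ⟨n, hn⟩ := Groth.Agent.Sga3A.ComodUnip.exists_soc_eq_top hU V
    refine ⟨n, ?_⟩
    have h1 : ∀ m : ℕ, ∀ v ∈ Groth.Agent.Sga3A.ComodUnip.soc k A V m,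
        ((HopfRep.Comod.act k A V g - LinearMap.id : Module.End k V) ^ m) v = 0 := by
      intro m
      induction m with
      | zero => intro v hv; exact hv
      | succ m ih =>
        intro v hv
        rw [Groth.Agent.Sga3A.ComodUnip.mem_soc_succ] at hv
        have h2 := hv g.toLinearMap
        rw [AlgHom.toLinearMap_apply, map_one, one_smul] at h2
        rw [pow_succ, Module.End.mul_apply]
        exact ih _ h2
    ext v
    exact h1 n v (by rw [hn]; trivial)
  · intro h V _ _ _ hV hV' hbot
    obtain ⟨v, hv0, hv⟩ := Groth.Agent.Sga3B.RG.exists_fixed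
      (Groth.Agent.Sga3B.RG.ChevLine187.comodRep k A V) (fun g => by
        have := h g.ofConv V hV
        rw [act_eq_comodRep] at this
        exact this)
    refine hv0 ((Submodule.eq_bot_iff _).1 hbot v ?_)
    change HopfRep.Comod.coact (k := k) (A := A) v = v ⊗ₜ[k] (1 : A)
    rw [← sub_eq_zero]
    apply Groth.Agent.Redsub.H674.UnipPts.eq_zero_of_forall_contr
    intro g
    have h1 := hv (WithConv.toConv g)
    rw [← act_eq_comodRep] at h1
    rw [map_sub, map_sub, LinearMap.lTensor_tmul, TensorProduct.rid_tmul]
    change HopfRep.Comod.act k A V g v - _ = 0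
    rw [h1]
    simp

end Groth.Agent.S5423
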