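import Groth.Statements.S5424
import Groth.Agent.SGA3t2b.K218.CochMu
import Groth.Agent.SGA3t2b.K218.UnipMu
import Groth.Agent.S7951
import Groth.Agent.S2966
import Groth.Agent.Sga3.H809.Main
import Groth.Agent.Sga3.H793.MultPart
import Groth.Agent.Sga3A.FibTorus
import Groth.Agent.Agf.H601.GrothThm
import Groth.Agent.Agf.H609.SchBc
import Groth.Agent.Sga3.H786.TCAff
import Groth.Agent.Sga3B.RG.CentralTorus

set_option autoImplicit false
universe u
open TensorProduct
open SGA3t2b

namespace Groth.Agent.S5424

open Groth.Agent.Sga3B.RG Groth.Agent.Agf.H609 Groth.Agent.Agf.H601 WithConv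

/-- A quotient of multiplicative type of a unipotent group is trivial. -/
theorem bijective_of_isTorus (k : Type u) [Field k] (A : Type u) [CommRing A] [HopfAlgebra k A]
    (hU : HopfRep.IsUnipotent k A) (B : Type u) [CommRing B] [HopfAlgebra k B] (φ : A →ₐc[k] B)
    (hφ : Function.Surjective φ) (hB : SGA3b.IsTorus k B) :
    Function.Bijective (algebraMap k B) := by
  have hM := Groth.Agent.Sga3A.MultBC.IsMultType.const_of_isLocalRing
    (Groth.Agent.Sga3A.FibTorus.isMultType_of_isTorus hB)
  constructor
  · have : Function.LeftInverse (CoalgebraStruct.counit (R := k) (A := B)) (algebraMap k B) :=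
      fun c => Bialgebra.counit_algebraMap c
    exact this.injective
  · intro b
    obtain ⟨a, rfl⟩ := hφ b
    obtain ⟨n, hn⟩ := Groth.Agent.Sga3A.ComodUnip.exists_mem_soc (k := k) (A := A) hU a
    have h1 := Groth.Agent.S2966.bialgHom_mem_soc φ n a hn
    exact ⟨_, (Groth.Agent.Sga3.H793.MultPart.eq_counit_of_mem_soc hM n _ h1).symm⟩

/-- A smooth connected group all of whose subtori are trivial is unipotent. -/
theorem isUnipotent_of_no_torus (k : Type u) [Field k] (A : Type u) [CommRing A] [HopfAlgebra k A]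
    [Algebra.FiniteType k A]
    [Algebra.FormallySmooth k A] (hconn : ∀ e : A, IsIdempotentElem e → e = 0 ∨ e = 1)
    (h : ∀ (B : Type u) [CommRing B] [HopfAlgebra k B] (φ : A →ₐc[k] B), Function.Surjective φ →
        SGA3b.IsTorus k B → Function.Bijective (algebraMap k B)) : HopfRep.IsUnipotent k A := by
  rw [Groth.Agent.S7951.result k (AlgebraicClosure k) A]
  let K := AlgebraicClosure k
  haveI : IsDomain (K ⊗[k] A) := Groth.Agent.Sga3.H809.Main.isDomain_bc k K A hconn
  refine Groth.Agent.Redsub.H674.UnipPts.isUnipotent_of_forall_isUnip fun x => ?_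
  obtain ⟨T, hT, hd⟩ := GrothThm.hasTor_of_isDomain (k := k) (K := K) A
  haveI := DefSub.isHopfIdeal_J0 T hd
  have h1 := Groth.Agent.Sga3.H786.TCAff.isTorus_field (SchBc.isTorus_quot hT.1 hd)
  have h2 := h (A ⧸ DefSub.J0 (T : Set (Pt K (K ⊗[k] A))))
    (Bialgebra.Quotient.mkBialgHom (R := k) (DefSub.J0 (T : Set (Pt K (K ⊗[k] A)))))
    Ideal.Quotient.mk_surjective h1
  have h3 : T = ⊥ := by
    rw [eq_bot_iff]
    intro x hx
    rw [Subgroup.mem_bot]
    have h4 : ∀ a : A, DefSub.rs x a = DefSub.rs (1 : Pt K (K ⊗[k] A)) a := by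
      intro a
      obtain ⟨c, hc⟩ := h2.2 (Ideal.Quotient.mk _ a)
      have h5 : a - algebraMap k A c ∈ DefSub.J0 (T : Set (Pt K (K ⊗[k] A))) := by
        rw [← Ideal.Quotient.eq_zero_iff_mem, map_sub, sub_eq_zero]
        exact hc.symm
      have h6 := DefSub.mem_J0.1 h5 x hx
      have h7 := DefSub.mem_J0.1 h5 1 T.one_mem
      rw [map_sub, sub_eq_zero, AlgHom.commutes] at h6 h7
      rw [h6, h7]
    apply WithConv.ofConv_injective
    apply AlgHom.ext
    intro w
    change x w = (1 : Pt K (K ⊗[k] A)) w
    rw [DefSub.apply_eq, DefSub.apply_eq, show DefSub.rs x = DefSub.rs (1 : Pt K (K ⊗[k] A)) from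
      AlgHom.ext h4]
  obtain ⟨s, hs, u, hu, rfl⟩ := CentralTorus.exists_mul_unip hT (by rw [h3]; exact bot_le) x
  rw [h3, Subgroup.mem_bot] at hs
  rwa [hs, one_mul]

/-- (i) ⟺ (iv) ⟺ (v): let k be a field with algebraic closure k̄ and A a finitely generated commutative
Hopf algebra over k which is formally smooth and has no idempotents other than 0 and 1 (a smooth
connected affine algebraic group G). Then the following are equivalent: (i) G is unipotent
(fixed-vector form); (iv) there is an integer n > 1 such that G_{k̄} contains no closed subgroup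
isomorphic to μ_n (no surjective bialgebra map from k̄ ⊗ A onto the group algebra k̄[ℤ/n]); (v)
every subtorus of G is trivial (every Hopf quotient of A which is the algebra of a torus is k
itself). (The published condition (v) concerns maximal tori; since every torus lies in a maximal
one, this row's condition on all subtori is equivalent.) -/
theorem result (k : Type u) [Field k] (A : Type u) [CommRing A] [HopfAlgebra k A] [Algebra.FiniteType k A]
    [Algebra.FormallySmooth k A] (hconn : ∀ e : A, IsIdempotentElem e → e = 0 ∨ e = 1) :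
    (HopfRep.IsUnipotent k A ↔
      ∃ n : ℕ, 1 < n ∧ ¬ ∃ φ : (AlgebraicClosure k ⊗[k] A) →ₐc[AlgebraicClosure k]
        MonoidAlgebra (AlgebraicClosure k) (Multiplicative (ZMod n)), Function.Surjective φ) ∧
    (HopfRep.IsUnipotent k A ↔
      ∀ (B : Type u) [CommRing B] [HopfAlgebra k B] (φ : A →ₐc[k] B), Function.Surjective φ →
        SGA3b.IsTorus k B → Function.Bijective (algebraMap k B)) := by
  refine ⟨⟨fun hU => ⟨2, one_lt_two, ?_⟩, ?_⟩, fun hU B _ _ φ hφ hB =>
    bijective_of_isTorus k A hU B φ hφ hB, fun h => isUnipotent_of_no_torus k A hconn h⟩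
  · exact K218.UnipMu.not_exists_mu
      ((Groth.Agent.S7951.result k (AlgebraicClosure k) A).1 hU) 2 one_lt_two
  · rintro ⟨n, -, hn⟩
    rw [Groth.Agent.S7951.result k (AlgebraicClosure k) A]
    haveI : IsDomain (AlgebraicClosure k ⊗[k] A) :=
      Groth.Agent.Sga3.H809.Main.isDomain_bc k (AlgebraicClosure k) A hconn
    by_contra hU
    exact hn (K218.CochMu.exists_mu_of_not_isUnipotent hU n)

end Groth.Agent.S5424
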