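import Groth.Statements.S5425
import Groth.Agent.SGA3t2b.K218.CochMu

set_option autoImplicit false
universe u
open TensorProduct
open SGA3t2b

namespace Groth.Agent.S5425

open K218.Frob in
theorem isUnipotent_of_nilLie_baseChange (k : Type u) [Field k] (p : ℕ) [Fact p.Prime] [CharP k p]
    (A : Type u) [CommRing A] [HopfAlgebra k A]
    [Algebra.FiniteType k A] (hconn : ∀ e : A, IsIdempotentElem e → e = 0 ∨ e = 1)
    (hN : NilLie (AlgebraicClosure k) (AlgebraicClosure k ⊗[k] A)) : HopfRep.IsUnipotent k A := by
  haveI : CharP (AlgebraicClosure k) p :=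
    charP_of_injective_algebraMap (algebraMap k (AlgebraicClosure k)).injective p
  rw [Groth.Agent.S7951.result k (AlgebraicClosure k) A]
  refine K218.CochMu.isUnipotent_of_nilLie p ?_ hN
  intro e he
  let c : AlgebraicClosure k ⊗[k] A ≃ₐ[k] A ⊗[k] AlgebraicClosure k :=
    Algebra.TensorProduct.comm k (AlgebraicClosure k) A
  have h1 : IsIdempotentElem (c e) := he.map c
  rcases Groth.Agent.Books.HopfConn.idempotent_baseChange (K := AlgebraicClosure k)
    (Bialgebra.counitAlgHom k A) hconn (c e) h1 with h | h
  · left
    apply c.injective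
    rw [h, map_zero]
  · right
    apply c.injective
    rw [h, map_one]

/-- (i) ⟺ (iv) ⟺ (v): let k be a field of characteristic p > 0 with algebraic closure k̄, and A a
finitely generated commutative Hopf algebra over k with no idempotents other than 0 and 1 (a
connected affine algebraic group G). Then the following are equivalent: (i) G is unipotent
(fixed-vector form); (iv) G_{k̄} contains no closed subgroup isomorphic to μ_p; (v) the Lie algebra
of G is a unipotent p-Lie algebra: for every ε-derivation D : A → k some p^n-fold convolution power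
of D (n > 0) vanishes. -/
theorem result (k : Type u) [Field k] (p : ℕ) [Fact p.Prime] [CharP k p] (A : Type u) [CommRing A] [HopfAlgebra k A]
    [Algebra.FiniteType k A] (hconn : ∀ e : A, IsIdempotentElem e → e = 0 ∨ e = 1) :
    (HopfRep.IsUnipotent k A ↔
      ¬ ∃ φ : (AlgebraicClosure k ⊗[k] A) →ₐc[AlgebraicClosure k]
        MonoidAlgebra (AlgebraicClosure k) (Multiplicative (ZMod p)), Function.Surjective φ) ∧
    (HopfRep.IsUnipotent k A ↔
      ∀ D : LieHopf.Lie k A, ∃ n : ℕ, 0 < n ∧
        LieHopf.convPow (D.toLinearMap.restrictScalars k ∘ₗ LinearMap.id) (p ^ n) = 0) := by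
  haveI : CharP (AlgebraicClosure k) p :=
    charP_of_injective_algebraMap (algebraMap k (AlgebraicClosure k)).injective p
  refine ⟨⟨fun hU => ?_, fun h => ?_⟩, ⟨fun hU D => ?_, fun h => ?_⟩⟩
  · exact K218.UnipMu.not_exists_mu
      ((Groth.Agent.S7951.result k (AlgebraicClosure k) A).mp hU) p (Fact.out : p.Prime).one_lt
  · exact isUnipotent_of_nilLie_baseChange k p A hconn (K218.UnipMu.nilLie_of_not_mu p h)
  · exact Groth.Agent.S2968.result p hU D
  · refine isUnipotent_of_nilLie_baseChange k p A hconn
      (K218.FrobKer.NilLie.baseChange p (K218.FrobKer.nilLie_of_convPow fun D => ?_) _)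
    obtain ⟨n, -, hn⟩ := h D
    exact ⟨_, hn⟩

end Groth.Agent.S5425
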