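import Groth.Statements.S5427
import Groth.Agent.SGA3x.K19.TorQuot
import Groth.Agent.Sga3B.AdCentre

set_option autoImplicit false
universe u
open CategoryTheory MonoidalCategory CartesianMonoidalCategory MonObj GrpObj AlgebraicGeometry CategoryTheory.Limits
open Red

namespace Groth.Agent.S5427

/-- Let S be a scheme and G = D_S(M) a diagonalizable S-group of finite type, M a non-trivial finitely
generated commutative group. Then there are a prime number r and a closed subgroup of G isomorphic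
to (μ_r)_S: a homomorphism of S-groups D_S(ℤ/r) → D_S(M) which is a closed immersion. -/
theorem result (S : Scheme.{u}) (M : Type) [AddCommGroup M] [AddGroup.FG M] [Nontrivial M] :
    ∃ (r : ℕ) (_ : r.Prime) (j : Red.DS S (ZMod r) ⟶ Red.DS S M), IsMonHom j ∧ IsClosedImmersion j.left := by
  haveI : Module.Finite ℤ M := Module.Finite.iff_addGroup_fg.mpr inferInstance
  obtain ⟨N, hN⟩ := IsCoatomic.exists_coatom (Submodule ℤ M)
  haveI : IsSimpleModule ℤ (M ⧸ N) := isSimpleModule_iff_isCoatom.mpr hN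
  obtain ⟨I, hI, ⟨e⟩⟩ := isSimpleModule_iff_quot_maximal.mp ‹IsSimpleModule ℤ (M ⧸ N)›
  obtain ⟨r, rfl⟩ : ∃ r : ℕ, I = Ideal.span {(r : ℤ)} := by
    obtain ⟨a, ha⟩ := (IsPrincipalIdealRing.principal I).principal
    refine ⟨a.natAbs, ha.trans ?_⟩
    exact (Int.span_natAbs a).symm
  have hr0 : r ≠ 0 := by
    rintro rfl
    have h1 : (Ideal.span {((0 : ℕ) : ℤ)} : Ideal ℤ) < Ideal.span {(2 : ℤ)} := by
      rw [Nat.cast_zero, Ideal.span_singleton_eq_bot.mpr rfl, bot_lt_iff_ne_bot, Ne, Ideal.span_singleton_eq_bot]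
      decide
    have h2 := hI.eq_of_le (J := Ideal.span {(2 : ℤ)}) (by rw [Ne, Ideal.span_singleton_eq_top, Int.isUnit_iff]; decide) h1.le
    exact h1.ne h2
  have hr : r.Prime := by
    have h3 : Prime (r : ℤ) := (Ideal.span_singleton_prime (by exact_mod_cast hr0)).mp hI.isPrime
    exact Nat.prime_iff_prime_int.mpr h3
  let φ : M →+ ZMod r := ((Int.quotientSpanNatEquivZMod r).toRingHom.toAddMonoidHom.comp e.toLinearMap.toAddMonoidHom).comp N.mkQ.toAddMonoidHom
  have hφ : Function.Surjective φ := by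
    intro z
    obtain ⟨y, hy⟩ := (Int.quotientSpanNatEquivZMod r).surjective z
    obtain ⟨x, hx⟩ := e.surjective y
    obtain ⟨m, hm⟩ := N.mkQ_surjective x
    refine ⟨m, ?_⟩
    change (Int.quotientSpanNatEquivZMod r) (e (N.mkQ m)) = z
    rw [hm, hx, hy]
  exact ⟨r, hr, Red.DSmap S φ, Groth.Agent.Sga3B.AdCentre.isMonHom_DSmap φ, K19.TorQuot.isClosedImmersion_DSmap S φ hφ⟩

end Groth.Agent.S5427
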