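import Groth.Statements.S5428
import Groth.Agent.SGA3.K244.ConnKer
import Groth.Agent.SGA3.K503.Case2
import Groth.Agent.SGA3.K503.Case3

set_option autoImplicit false
universe u
open TensorProduct
open SGA3

namespace Groth.Agent.S5428

/-- In Hopf form: let k be a field, A a finitely generated commutative Hopf algebra over k (an algebraic
group E), ψ : B → A an injective bialgebra map from a finitely generated Hopf algebra B of
multiplicative type (diagonalizable after a faithfully flat extension of k; the quotient H = Spec
B), J the Hopf ideal of A generated by the image of the augmentation ideal of B (the kernel U = Spec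
(A/J)), with U unipotent in the fixed-vector sense. Then there is a bialgebra map r : A → B with r ∘
ψ = id (the extension 1 → U → E → H → 1 is trivial) in each of the cases: (i) k is perfect and U or
H is connected (no idempotents other than 0, 1 in A/J, resp. in B); (ii) U is smooth (A/J formally
smooth over k) and H is connected. -/
theorem result (k : Type u) [Field k] (A B : Type u) [CommRing A] [HopfAlgebra k A] [Algebra.FiniteType k A] [CommRing B] [HopfAlgebra k B]
    [Algebra.FiniteType k B] (hB : SGA3b.IsMultTypeConst k B) (ψ : B →ₐc[k] A) (hψ : Function.Injective ψ)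
    (J : Ideal A) [J.IsHopfIdeal k] (hJ : J = Ideal.map (ψ : B →+* A) (RingHom.ker (Bialgebra.counitAlgHom k B)))
    (hU : HopfRep.IsUnipotent k (A ⧸ J)) :
    ((PerfectField k ∧ ((∀ e : A ⧸ J, IsIdempotentElem e → e = 0 ∨ e = 1) ∨
        (∀ e : B, IsIdempotentElem e → e = 0 ∨ e = 1))) ∨
      (Algebra.FormallySmooth k (A ⧸ J) ∧ ∀ e : B, IsIdempotentElem e → e = 0 ∨ e = 1)) →
    ∃ r : A →ₐc[k] B, r.comp ψ = BialgHom.id k B := by
  rintro (⟨hk, hUc | hBc⟩ | ⟨hsm, hBc⟩)
  · exact K244.ConnKer.exists_retraction_connected_kernel A B hB ψ hψ J hJ hU hUc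
  · exact K503.Case2.exists_retraction_connected A B hB ψ hψ J hJ hU hBc
  · rcases CharP.exists k with ⟨p, hp⟩
    rcases CharP.char_is_prime_or_zero k p with hpr | h0
    · have : Fact p.Prime := ⟨hpr⟩
      exact K503.Case3.exists_retraction_smooth p A B hB ψ hψ J hJ hU hsm hBc
    · subst h0
      have : CharZero k := CharP.charP_to_charZero k
      exact K503.Case2.exists_retraction_connected A B hB ψ hψ J hJ hU hBc

end Groth.Agent.S5428
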