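import Groth.Statements.S5440
import Groth.Agent.SGA3.K203.PerfConj
import Groth.Agent.SGA3.K203.Desc
import Groth.Agent.Ega43.SmoothReduced
import Groth.Agent.Sga3.H785.GalDesc

set_option autoImplicit false
universe u
open TensorProduct
open SGA3

namespace Groth.Agent.S5440

/-- c) (Hopf form): let k be a field, A a finitely generated commutative Hopf algebra (an algebraic
group E), ψ : B → A an injective bialgebra map from a finitely generated Hopf algebra B of
multiplicative type which is smooth (formally smooth over k), J the Hopf ideal generated by the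
image of the augmentation ideal of B, with U = Spec (A/J) unipotent in the fixed-vector sense.
Suppose b) U is commutative (A/J cocommutative), or c) k is perfect and U is connected (no
idempotents other than 0, 1 in A/J). If r′, r″ : A → B are two bialgebra retractions of ψ (two
liftings of H in E), there is a k-point u of E killing J (a point of U(k)) with r″ = u · r′ · u⁻¹ as
B-valued points of E. -/
theorem result (k : Type u) [Field k] (A B : Type u) [CommRing A] [HopfAlgebra k A] [Algebra.FiniteType k A] [CommRing B] [HopfAlgebra k B]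
    [Algebra.FiniteType k B] (hB : SGA3b.IsMultTypeConst k B) (ψ : B →ₐc[k] A) (hψ : Function.Injective ψ)
    (J : Ideal A) [J.IsHopfIdeal k] (hJ : J = Ideal.map (ψ : B →+* A) (RingHom.ker (Bialgebra.counitAlgHom k B)))
    (hU : HopfRep.IsUnipotent k (A ⧸ J)) [Algebra.FormallySmooth k B]
    (hbc : Coalgebra.IsCocomm k (A ⧸ J) ∨ (PerfectField k ∧ ∀ e : A ⧸ J, IsIdempotentElem e → e = 0 ∨ e = 1))
    (r' r'' : A →ₐc[k] B) (hr' : r'.comp ψ = BialgHom.id k B) (hr'' : r''.comp ψ = BialgHom.id k B) :
    ∃ u : A →ₐ[k] k, (∀ a ∈ J, u a = 0) ∧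
      (r'' : A →ₐ[k] B) = Dyn.conv3 k A ((Algebra.ofId k B).comp u) (r' : A →ₐ[k] B)
        (((Algebra.ofId k B).comp u).comp (HopfAlgebra.antipodeAlgHom k A)) := by
  let K := AlgebraicClosure k
  obtain ⟨M, _, ⟨g⟩⟩ := Groth.Agent.Sga3.H785.GalDesc.exists_gbasis K hB
  have hcoc : Coalgebra.IsCocomm k B := K203.CommLift.isCocomm_of_gbasis g
  have hM : Group.FG M := K203.TorsPts.fg_of_gbasis g
  have hfp : Algebra.FinitePresentation k B := Algebra.FinitePresentation.of_finiteType.mp inferInstance
  have hsm : Algebra.Smooth k B := ⟨inferInstance, inferInstance⟩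
  have hred : IsReduced (K ⊗[k] B) := Groth.Agent.Ega43.SmoothReduced.isReduced_of_smooth K _
  have hp : ∀ p : ℕ, p.Prime → (p : K) = 0 → ∀ x : M, x ^ p = 1 → x = 1 :=
    fun p h1 h2 ↦ K203.TorsPts.no_torsion_of_isReduced g p h1 h2
  have h' : ∀ b, r' (ψ b) = b := fun b ↦ DFunLike.congr_fun hr' b
  have h'' : ∀ b, r'' (ψ b) = b := fun b ↦ DFunLike.congr_fun hr'' b
  have hJ' : J = K203.Pts.kerIdeal ψ := hJ
  have key : ∃ u ∈ (K203.Pts.res (R := k) ψ).ker, K203.CommConj.IsConj u (K203.Pts.pt r')
      (K203.Pts.pt r'') := by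
    rcases hbc with hb | ⟨hperf, hc⟩
    · exact K203.CommConj.exists_isConj ψ J hJ' hU g hM hp r' r'' h' h''
    · exact K203.PerfConj.exists_isConj
        (Groth.Agent.Agf.H612.GalSub.mem_range_of_fixed k K) ψ J hJ' hU hc g hM hp r' r'' h' h''
  obtain ⟨u, hu, hconj⟩ := key
  refine ⟨u.ofConv, ?_, hconj.eq_conv3⟩
  rw [hJ']
  exact (K203.Pts.kill_iff u).2 hu

end Groth.Agent.S5440
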