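import Groth.Statements.S5429
import Groth.Agent.SGA3.K203.RetMain
import Groth.Agent.S5440
import Groth.Agent.S3265
import Groth.Agent.Agf.H601.LieCartier
import Groth.Agent.Sga3A.BCIso

set_option autoImplicit false
universe u
open TensorProduct
open SGA3

namespace Groth.Agent.S5429

/-- Hopf form: let k be an algebraically closed field, A a finitely generated commutative Hopf algebra
(an algebraic group E), ψ : B → A an injective bialgebra map from a diagonalizable finitely
generated Hopf algebra B (the quotient H of multiplicative type), J the Hopf ideal generated by the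
image of the augmentation ideal of B (the kernel U), with U = Spec (A/J) unipotent in the
fixed-vector sense. Suppose H is smooth (B reduced) or U is smooth (A/J reduced). If r′, r″ : A → B
are two bialgebra retractions of ψ (two liftings H′, H″ of H in E), then there is a k-point u of E
lying in U (an algebra map u : A → k killing J) such that r″ = u · r′ · u⁻¹ as points of E with
values in B (triple convolution of u, r′ and u composed with the antipode). -/
theorem result (k : Type u) [Field k] [IsAlgClosed k] (A B : Type u) [CommRing A] [HopfAlgebra k A] [Algebra.FiniteType k A] [CommRing B] [HopfAlgebra k B]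
    [Algebra.FiniteType k B] (hB : SGA3b.IsDiag k B) (ψ : B →ₐc[k] A) (hψ : Function.Injective ψ)
    (J : Ideal A) [J.IsHopfIdeal k] (hJ : J = Ideal.map (ψ : B →+* A) (RingHom.ker (Bialgebra.counitAlgHom k B)))
    (hU : HopfRep.IsUnipotent k (A ⧸ J))
    (hsm : IsReduced B ∨ IsReduced (A ⧸ J)) (r' r'' : A →ₐc[k] B)
    (hr' : r'.comp ψ = BialgHom.id k B) (hr'' : r''.comp ψ = BialgHom.id k B) :
    ∃ u : A →ₐ[k] k, (∀ a ∈ J, u a = 0) ∧
      (r'' : A →ₐ[k] B) = Dyn.conv3 k A ((Algebra.ofId k B).comp u) (r' : A →ₐ[k] B)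
        (((Algebra.ofId k B).comp u).comp (HopfAlgebra.antipodeAlgHom k A)) := by
  have h' : ∀ b, r' (ψ b) = b := fun b ↦ DFunLike.congr_fun hr' b
  have h'' : ∀ b, r'' (ψ b) = b := fun b ↦ DFunLike.congr_fun hr'' b
  have hft : Algebra.FiniteType k (A ⧸ J) := inferInstance
  obtain ⟨q, hq⟩ := CharP.exists k
  rcases CharP.char_is_prime_or_zero k q with hp | rfl
  · have : Fact q.Prime := ⟨hp⟩
    obtain ⟨M, _, ⟨e⟩⟩ := hB
    let g : Groth.Agent.Sga3A.MTBasis.GBasis k B M := Groth.Agent.Sga3A.MTBasis.GBasis.ofBialgEquiv e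
    have hJ' : J = K203.Pts.kerIdeal ψ := hJ
    have hext : K503.Frame.Ext ψ (Bialgebra.Quotient.mkBialgHom (R := k) J) :=
      ⟨hψ, Ideal.Quotient.mk_surjective, (Ideal.mk_ker (I := J)).trans hJ⟩
    have key : ∃ u : WithConv (A →ₐ[k] k), K203.Pts.res (R := k) ψ u = 1 ∧
        K203.CommConj.IsConj u (K203.Pts.pt r') (K203.Pts.pt r'') := by
      rcases hsm with h1 | h1
      · exact K203.RetMain.exists_isConj_reduced q g hext hU r' r'' h' h''
      · have hsmo : Algebra.Smooth k (A ⧸ J) := K983.FrobRoot.smooth k _
        exact K203.RetMain.exists_isConj_smooth q g hext inferInstance hU r' r'' h' h''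
    obtain ⟨u, hu, hconj⟩ := key
    refine ⟨u.ofConv, ?_, hconj.eq_conv3⟩
    rw [hJ']
    exact (K203.Pts.kill_iff u).2 hu
  · have hch : CharZero k := CharP.charP_to_charZero k
    have hred : IsReduced B := Groth.Agent.Agf.H601.LieCartier.isReduced_hopf k B
    have hsmB : Algebra.Smooth k B := K983.FrobRoot.smooth k B
    have hmt : SGA3b.IsMultTypeConst k B := ⟨k, inferInstance, inferInstance, inferInstance,
      Groth.Agent.Sga3A.BCIso.isDiag_baseChange k hB⟩
    exact Groth.Agent.S5440.result k A B hmt ψ hψ J hJ hU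
      (Or.inr ⟨inferInstance, fun e he => Groth.Agent.S3265.result k (A ⧸ J) hU e he⟩) r' r'' hr' hr''

end Groth.Agent.S5429
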