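import Groth.Statements.S5432
import Groth.Agent.S9629
import Groth.Agent.S7951
import Groth.Agent.S2966
import Groth.Agent.Sga3.H809.Main
import Groth.Agent.Sga3.H793.MultPart
import Groth.Agent.Sga3A.NilDescent
import Groth.Agent.HopfRep.K188.UnitChar

set_option autoImplicit false
universe u
open TensorProduct
open SGA3t2b

namespace Groth.Agent.S5432

open Groth.Agent.Sga3A.ComodUnip

/-- Over an algebraically closed field: maps from a connected reduced unipotent group to a
diagonalizable group are constant. -/
theorem const_of_isAlgClosed {K : Type u} [Field K] [IsAlgClosed K] (C B : Type u) [CommRing C]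
    [HopfAlgebra K C] [Algebra.FiniteType K C] [IsDomain C] (hU : HopfRep.IsUnipotent K C)
    [CommRing B] [HopfAlgebra K B] (hB : HopfRep.IsDiagonalizable K B) (f : B →ₐ[K] C) (b : B) :
    f b = algebraMap K C (CoalgebraStruct.counit (R := K) (f b)) := by
  have hb : b ∈ Submodule.span K {a : B | IsGroupLikeElem K a} := by
    rw [show Submodule.span K {a : B | IsGroupLikeElem K a} = ⊤ from hB]
    exact Submodule.mem_top
  induction hb using Submodule.span_induction with
  | zero => rw [map_zero, map_zero, map_zero]
  | add x y _ _ hx hy => rw [map_add, map_add, map_add, ← hx, ← hy]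
  | smul c x _ hx => rw [map_smul, map_smul, smul_eq_mul, map_mul, ← hx, Algebra.smul_def]
  | mem x hx =>
    have hx' : IsGroupLikeElem K x := hx
    have hu : IsUnit (f x) := hx'.isUnit.map f
    set c : K := CoalgebraStruct.counit (R := K) (f x) with hc
    have hc0 : c ≠ 0 := by
      have h1 : IsUnit (Bialgebra.counitAlgHom K C (f x)) := hu.map _
      exact h1.ne_zero
    have hg : IsGroupLikeElem K (c⁻¹ • f x) := by
      refine K188.UnitChar.isGroupLikeElem_of_isUnit K C (fun e he => ?_) _ ?_ ?_
      · exact IsIdempotentElem.iff_eq_zero_or_one.1 he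
      · rw [Algebra.smul_def]
        exact ((isUnit_iff_ne_zero.2 (inv_ne_zero hc0)).map (algebraMap K C)).mul hu
      · rw [map_smul, ← hc, smul_eq_mul, inv_mul_cancel₀ hc0]
    obtain ⟨n, hn⟩ := exists_mem_soc (k := K) (A := C) hU (c⁻¹ • f x)
    have h1 := groupLike_eq_one_of_mem_soc _ hg n hn
    have h2 := congrArg (fun z => c • z) h1
    simp only [smul_smul, mul_inv_cancel₀ hc0, one_smul] at h2
    rw [h2, Algebra.algebraMap_eq_smul_one]

/-- Let k be a field, C a finitely generated commutative Hopf algebra which is formally smooth with no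
idempotents other than 0 and 1 and unipotent in the fixed-vector sense (a smooth connected unipotent
algebraic group U), and B a commutative Hopf algebra of multiplicative type (isomorphic to a group
algebra after a faithfully flat extension of k; the group H, not assumed of finite type). Then every
morphism of k-schemes U → H is constant: every k-algebra map f : B → C satisfies f(b) = ε_C(f(b)) ·
1. -/
theorem result (k : Type u) [Field k] (C B : Type u) [CommRing C] [HopfAlgebra k C] [Algebra.FiniteType k C]
    [Algebra.FormallySmooth k C] (hconn : ∀ e : C, IsIdempotentElem e → e = 0 ∨ e = 1)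
    (hU : HopfRep.IsUnipotent k C) [CommRing B] [HopfAlgebra k B]
    (hB : SGA3b.IsMultTypeConst k B) (f : B →ₐ[k] C) :
    ∀ b : B, f b = algebraMap k C (Bialgebra.counitAlgHom k C (f b)) := by
  obtain ⟨R', _, _, hff, hd⟩ := hB
  have : Nontrivial R' := (FaithfulSMul.algebraMap_injective k R').nontrivial
  obtain ⟨m, hm⟩ := Ideal.exists_maximal R'
  let _ : Field (R' ⧸ m) := Ideal.Quotient.field m
  let K := AlgebraicClosure (R' ⧸ m)
  let φ : R' →ₐ[k] K := (IsScalarTower.toAlgHom k (R' ⧸ m) K).comp (Ideal.Quotient.mkₐ k m)
  have h2 := Groth.Agent.Sga3.H793.MultPart.isDiagonalizable_of_isDiag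
    (Groth.Agent.Sga3A.NilDescent.isDiag_of_algHom φ hd)
  have hdom : IsDomain (AlgebraicClosure k ⊗[k] C) :=
    Groth.Agent.Sga3.H809.Main.isDomain_bc k (AlgebraicClosure k) C hconn
  have hgeom : ∀ (k' : Type u) [Field k'] [Algebra k k'], IsDomain (k' ⊗[k] C) :=
    ((Groth.Agent.S9629.result (k := k) (S := C)).out 0 2).2 hdom
  haveI : IsDomain (K ⊗[k] C) := hgeom K
  have hUK := (Groth.Agent.S7951.result k K C).1 hU
  intro b
  have h3 := const_of_isAlgClosed (K ⊗[k] C) (K ⊗[k] B) hUK h2
    (Algebra.TensorProduct.map (AlgHom.id K K) f) (1 ⊗ₜ[k] b)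
  rw [Algebra.algebraMap_eq_smul_one] at h3
  exact Groth.Agent.S2966.eq_counit_of_baseChange K (f b) _ h3

end Groth.Agent.S5432
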