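import Groth.Statements.S5437
import Groth.Agent.SGA3x.K19.CentTriv

set_option autoImplicit false
universe u
open CategoryTheory MonoidalCategory CartesianMonoidalCategory MonObj GrpObj AlgebraicGeometry CategoryTheory.Limits
open SGA3x

namespace Groth.Agent.S5437

/-- Let G be an S-group scheme, smooth and of finite presentation over S, with affine connected fibres
and geometric fibres of unipotent rank zero (every maximal torus of each geometric fibre is its own
centralizer); let j : Z → G be its centre and q : G → Q a homomorphism onto an S-group scheme Q
representing the fppf quotient G/Z. Then Q is quasi-affine over S with affine fibres, every centre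
of Q is the trivial group, and the geometric fibres of Q have unipotent rank zero in the same sense.
(The published statement also asserts that G/Z is representable, and says more about its maximal
tori; this row assumes a representing pair (Q, q) is given.) -/
theorem result (S : Scheme.{u}) (G : Over S) [GrpObj G] [Smooth G.hom] [QuasiCompact G.hom] [QuasiSeparated G.hom]
    (haff : ∀ s : S, IsAffine (pullback G.hom (S.fromSpecResidueField s)))
    (hconn : ∀ s : S, _root_.IsConnected (G.hom.base ⁻¹' {s})) (hu : SGA3x.UnipotentRankZero G)
    (Z : Over S) [GrpObj Z] (j : Z ⟶ G) (hZ : Red.IsCentre j)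
    (Q : Over S) [GrpObj Q] (q : G ⟶ Q) [IsMonHom q] (hq : RedSub.IsQuotient j q) :
    Mor2.IsQuasiAffine Q.hom ∧ (∀ s : S, IsAffine (pullback Q.hom (S.fromSpecResidueField s))) ∧
    (∀ (Z' : Over S) [GrpObj Z'] (j' : Z' ⟶ Q), Red.IsCentre j' → Red.IsTrivialGrp Z') ∧
    SGA3x.UnipotentRankZero Q :=
  K19.CentTriv.main G haff hconn hu Z j hZ Q q hq

end Groth.Agent.S5437
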