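import Groth.Statements.S5438
import Groth.Agent.SGA3x.K19.CartTrait

set_option autoImplicit false
universe u
open CategoryTheory MonoidalCategory CartesianMonoidalCategory MonObj GrpObj AlgebraicGeometry CategoryTheory.Limits
open SGA3x

namespace Groth.Agent.S5438

/-- Let S = Spec R with R a discrete valuation ring, G an S-group scheme smooth and of finite type over
S, and c : C → G a subgroup scheme (a homomorphism and an immersion) with C flat over S. Suppose
that the generic fibre of C is a Cartan subgroup of the generic fibre of G, and that, s being the
closed point of S, the reduced geometric fibre of C at s is a Cartan subgroup of the geometric fibre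
of G at s, in the sense that some reduced Cartan subgroup of that geometric fibre has the same
underlying set as the geometric fibre of C. Then C is a Cartan subgroup of G. -/
theorem result (R : Type u) [CommRing R] [IsDomain R] [IsDiscreteValuationRing R]
    (G C : Over (Spec (CommRingCat.of R))) [GrpObj G] [GrpObj C] [Smooth G.hom] [QuasiCompact G.hom]
    (c : C ⟶ G) [IsMonHom c] [IsImmersion c.left] [Flat C.hom]
    (hgen : SGA3x.IsCartan ((Over.pullback (Spec.map (CommRingCat.ofHom (algebraMap R (FractionRing R))))).map c))
    (s : ↥(Spec (CommRingCat.of R))) (hs : IsClosed ({s} : Set ↥(Spec (CommRingCat.of R))))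
    (hsp : ∃ (C' : Over (Spec (CommRingCat.of (AlgebraicClosure ((Spec (CommRingCat.of R)).residueField s)))))
      (_ : GrpObj C') (c' : C' ⟶ Red.geomFibre s G),
      SGA3x.IsCartanOver (AlgebraicClosure ((Spec (CommRingCat.of R)).residueField s)) c' ∧ IsReduced C'.left ∧
      Set.range c'.left.base = Set.range ((Over.pullback (Red.geomPt s)).map c).left.base) :
    SGA3x.IsCartan c :=
  K19.CartTrait.isCartan R G C c hgen s hs hsp

end Groth.Agent.S5438
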