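import Groth.Statements.S5439
import Groth.Agent.SGA3.K203.Rigid

set_option autoImplicit false
universe u
open TensorProduct
open SGA3

namespace Groth.Agent.S5439

/-- Let k be a field, A a finitely generated commutative Hopf algebra (an algebraic group E), ψ : B → A
an injective bialgebra map from a finitely generated Hopf algebra B of multiplicative type (the
quotient H), J the Hopf ideal generated by the image of the augmentation ideal of B (the kernel U =
Spec (A/J)), with U unipotent in the fixed-vector sense and étale over k (A/J an étale k-algebra).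
If H is connected (B has no idempotents other than 0 and 1), then there is exactly one lifting of H
in E, i.e. exactly one bialgebra map r : A → B with r ∘ ψ = id. (The published statement also
identifies this lifting as the identity component of E; this row omits that.) -/
theorem result (k : Type u) [Field k] (A B : Type u) [CommRing A] [HopfAlgebra k A] [Algebra.FiniteType k A] [CommRing B] [HopfAlgebra k B]
    [Algebra.FiniteType k B] (hB : SGA3b.IsMultTypeConst k B) (ψ : B →ₐc[k] A) (hψ : Function.Injective ψ)
    (J : Ideal A) [J.IsHopfIdeal k] (hJ : J = Ideal.map (ψ : B →+* A) (RingHom.ker (Bialgebra.counitAlgHom k B)))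
    (hU : HopfRep.IsUnipotent k (A ⧸ J)) [Algebra.Etale k (A ⧸ J)]
    (hH : ∀ e : B, IsIdempotentElem e → e = 0 ∨ e = 1) :
    ∃! r : A →ₐc[k] B, r.comp ψ = BialgHom.id k B := by
  have hH' : ConnectedSpace (PrimeSpectrum B) := by
    have : Nontrivial B := (Bialgebra.counitAlgHom k B).toRingHom.domain_nontrivial
    exact Groth.Agent.Sga3A.GeomConn.connectedSpace_of_idempotents B hH
  have hess : Algebra.EssFiniteType k (A ⧸ J) := inferInstance
  let K := AlgebraicClosure k
  obtain ⟨R, hR⟩ := K203.Desc.exists_retraction_closed K hB ψ hψ J hJ hU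
  have key : ∀ a : A, ∃ b : B, (1 : K) ⊗ₜ[k] b = R (1 ⊗ₜ a) := by
    let X := (K ⊗[k] K) ⊗[k] B
    let q : X →ₐ[k] (K ⊗[k] K) :=
      (Groth.Agent.Sga3A.GeomConn.sp (K ⊗[k] K) (Bialgebra.counitAlgHom k B)).restrictScalars k
    have hq : ∀ e : X, IsIdempotentElem e → q e = 0 → e = 0 := fun e he h0 ↦
      K203.Rigid.eq_zero_of_sp (Bialgebra.counitAlgHom k B) e he h0
    let ρ : A →ₐ[k] K ⊗[k] B :=
      ((R : (K ⊗[k] A) →ₐ[K] (K ⊗[k] B)).restrictScalars k).comp Algebra.TensorProduct.includeRight
    let i₁ : K ⊗[k] B →ₐ[k] X := Groth.Agent.Sga3A.MTBasis.bc B Algebra.TensorProduct.includeLeft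
    let i₂ : K ⊗[k] B →ₐ[k] X := Groth.Agent.Sga3A.MTBasis.bc B Algebra.TensorProduct.includeRight
    let x : WithConv (A →ₐ[k] K ⊗[k] B) := WithConv.toConv ρ
    have h1 : ∀ b, ρ (ψ b) = 1 ⊗ₜ b := fun b ↦ DFunLike.congr_fun hR (1 ⊗ₜ b)
    have h2 : ∀ i : K →ₐ[k] K ⊗[k] K, ∀ a,
        q (Groth.Agent.Sga3A.MTBasis.bc B i (ρ a)) = algebraMap k _ (Coalgebra.counit (R := k) a) := by
      intro i a
      have h3 : ∀ z : K ⊗[k] B, q (Groth.Agent.Sga3A.MTBasis.bc B i z) =
          i (Coalgebra.counit (R := K) z) := by
        intro z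
        induction z with
        | zero => simp
        | add x y hx hy => rw [map_add, map_add, map_add, map_add, hx, hy]
        | tmul c b =>
          rw [Groth.Agent.Sga3A.MTBasis.bc_tmul]
          refine (Groth.Agent.Sga3A.GeomConn.sp_tmul _ _ _ _).trans ?_
          rw [TensorProduct.counit_tmul, CommSemiring.counit_apply, Algebra.smul_def, map_mul,
            AlgHom.commutes, mul_comm]
          rfl
      rw [h3]
      have h4 : Coalgebra.counit (R := K) (ρ a) = Coalgebra.counit (R := K) ((1 : K) ⊗ₜ[k] a) :=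
        CoalgHomClass.counit_comp_apply R _
      rw [h4, TensorProduct.counit_tmul, CommSemiring.counit_apply, Algebra.smul_def, map_mul,
        AlgHom.commutes, map_one, mul_one]
    have h3 := K203.Rigid.point_eq ψ J hJ q hq (Groth.Agent.Books.DynBasic.mapPt i₁ x) (Groth.Agent.Books.DynBasic.mapPt i₂ x)
      (by
        apply K203.Pts.ext
        intro b
        change i₁ (ρ (ψ b)) = i₂ (ρ (ψ b))
        rw [h1]
        change ((Algebra.TensorProduct.includeLeft : K →ₐ[k] K ⊗[k] K) 1) ⊗ₜ[k] b =
          ((Algebra.TensorProduct.includeRight : K →ₐ[k] K ⊗[k] K) 1) ⊗ₜ[k] b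
        rw [map_one, map_one])
      (by
        apply K203.Pts.ext
        intro a
        exact (h2 _ a).trans (h2 _ a).symm)
    intro a
    apply Groth.Agent.Sga3A.MTBasis.exists_of_bc_eq
    exact DFunLike.congr_fun (congrArg WithConv.ofConv h3) a
  obtain ⟨r, hr⟩ := K203.Desc.exists_retraction_of_desc K ψ R hR key
  refine ⟨r, hr, ?_⟩
  intro r' hr'
  have hq : ∀ e : B, IsIdempotentElem e → Bialgebra.counitAlgHom k B e = 0 → e = 0 := by
    intro e he h0
    rcases hH e he with h | h
    · exact h
    · rw [h, map_one] at h0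
      exact absurd h0 one_ne_zero
  have h1 := K203.Rigid.point_eq ψ J hJ (Bialgebra.counitAlgHom k B) hq (K203.Pts.pt r') (K203.Pts.pt r)
    (by
      apply K203.Pts.ext
      intro b
      exact (DFunLike.congr_fun hr' b).trans (DFunLike.congr_fun hr b).symm)
    (by rw [K203.Pts.map_one_point, K203.Pts.map_one_point])
  apply DFunLike.ext
  intro a
  exact DFunLike.congr_fun (congrArg WithConv.ofConv h1) a

end Groth.Agent.S5439
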