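import Groth.Statements.S5451
import Groth.Agent.RootD.K219.Chain

set_option autoImplicit false
open RootD

namespace Groth.Agent.S5451

/-- If a root is a positive integer combination of roots α_i, then it can be reached from 0 by
successively adding roots taken among the α_i in such a way that every partial sum is a root. -/
theorem result {ι M N : Type*} [AddCommGroup M] [AddCommGroup N]
    (P : RootPairing ι ℤ M N) [Finite ι] {n : ℕ} (a : Fin n → ι) (m : Fin n → ℕ)
    (hm : ∀ i, 0 < m i) (k : ι) (hk : P.root k = ∑ i, m i • P.root (a i)) :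
    ∃ (l : ℕ) (b : Fin l → Fin n), 0 < l ∧
      (∀ p : Fin l, ∃ j : ι, P.root j = ∑ q ∈ Finset.univ.filter (fun q : Fin l => q.val ≤ p.val), P.root (a (b q))) ∧
      P.root k = ∑ q, P.root (a (b q)) := by
  obtain ⟨l, b, hl, h1, h2⟩ := K219.Chain.exists_chain (P := P) a (∑ i, m i • ({i} : Multiset (Fin n))) k
    (by
      rw [hk]
      have : ∀ s : Finset (Fin n), ((∑ i ∈ s, m i • ({i} : Multiset (Fin n))).map
          fun q => P.root (a q)).sum = ∑ i ∈ s, m i • P.root (a i) := by
        intro s
        induction s using Finset.induction_on with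
        | empty => simp
        | insert i s hi ih =>
          rw [Finset.sum_insert hi, Finset.sum_insert hi, Multiset.map_add, Multiset.sum_add, ih,
            Multiset.map_nsmul, Multiset.sum_nsmul]
          simp
      exact (this Finset.univ).symm)
  refine ⟨l, b, hl, fun p => ?_, h2⟩
  obtain ⟨j, hj⟩ := h1 p
  refine ⟨j, ?_⟩
  rw [hj]
  refine Finset.sum_congr ?_ fun _ _ => rfl
  ext q
  rw [Finset.mem_Iic, Finset.mem_filter]
  exact ⟨fun h => ⟨Finset.mem_univ _, h⟩, fun h => h.2⟩

end Groth.Agent.S5451
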