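import Groth.Statements.S5452
import Groth.Agent.RootD.K219.Weyl

set_option autoImplicit false
open RootPairing
open scoped Pointwise
open RootD

namespace Groth.Agent.S5452

/-- The Weyl group of a root datum acts faithfully on the set of roots. -/
theorem result {ι M N : Type*} [AddCommGroup M] [AddCommGroup N]
    (P : RootPairing ι ℤ M N) [Finite ι] :
    Function.Injective P.weylGroupToPerm := by
  rw [injective_iff_map_eq_one]
  rintro ⟨g, hg⟩ h
  refine Subtype.ext (K219.Weyl.weyl_eq_one_of_fix hg fun i => ?_)
  exact congrArg (fun e : ι ≃ ι => e i) h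

end Groth.Agent.S5452
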