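import Groth.Statements.S5457
import Groth.Agent.RootD.K219.Pos

set_option autoImplicit false
open RootD

namespace Groth.Agent.S5457

/-- Given a translation-invariant partial order (pulled back along an additive map to an ordered abelian
group) for which every root is > 0 or < 0, the roots > 0 form a system of positive roots. -/
theorem result {ι M N : Type*} [AddCommGroup M] [AddCommGroup N]
    (P : RootPairing ι ℤ M N) [Finite ι] {G : Type*} [AddCommGroup G] [PartialOrder G]
    [IsOrderedAddMonoid G] (φ : M →+ G) (hφ : ∀ i : ι, 0 < φ (P.root i) ∨ φ (P.root i) < 0) :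
    RootD.IsPosSys P {i : ι | 0 < φ (P.root i)} := by
  have hnat : ∀ x ∈ RootD.natSpan P {i : ι | 0 < φ (P.root i)}, 0 ≤ φ x := by
    have h : RootD.natSpan P {i : ι | 0 < φ (P.root i)} ≤
        { carrier := {x : M | 0 ≤ φ x}
          zero_mem' := by simp
          add_mem' := fun {a b} ha hb => by
            change 0 ≤ φ (a + b)
            rw [map_add]
            exact add_nonneg ha hb : AddSubmonoid M } :=
      K219.Basic.natSpan_le.mpr fun i hi => le_of_lt hi
    exact fun x hx => h hx
  refine ⟨?_, ?_, ?_⟩
  · intro i hi hi'
    simp only [Set.mem_setOf_eq, K219.Basic.root_neg, map_neg, Left.neg_pos_iff] at hi hi'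
    exact lt_asymm hi hi'
  · intro i
    simp only [Set.mem_setOf_eq, K219.Basic.root_neg, map_neg, Left.neg_pos_iff]
    exact hφ i
  · intro k n hn hk
    have h := hnat _ hk
    rw [map_nsmul] at h
    refine (hφ k).resolve_right fun hlt => ?_
    have : n • φ (P.root k) < 0 := nsmul_neg hlt hn.ne'
    exact absurd h (not_le_of_gt this)

end Groth.Agent.S5457
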