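import Groth.Statements.S5463
import Groth.Agent.RootD.K220.Par

set_option autoImplicit false
open RootPairing
open scoped Pointwise
open RootD

namespace Groth.Agent.S5463

/-- An element w of the Weyl group belongs to the subgroup generated by the reflections in Δ' ⊆ Δ (Δ a
system of simple roots) if and only if w(α) - α lies in the rational span of Δ' for every root α. -/
theorem result {ι M N : Type*} [AddCommGroup M] [AddCommGroup N]
    (P : RootPairing ι ℤ M N) [Finite ι] (Δ Δ' : Set ι) (hΔ : RootD.IsSimpleSys P Δ)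
    (hsub : Δ' ⊆ Δ) (g : P.Aut) (hg : g ∈ P.weylGroup) :
    g ∈ Subgroup.closure ((fun i : ι => Equiv.reflection P i) '' Δ') ↔
      ∀ k : ι, ∃ n : ℕ, 0 < n ∧ n • (P.root (g • k) - P.root k) ∈ Submodule.span ℤ (P.root '' Δ') := by
  constructor
  · intro hg' k
    refine ⟨1, one_pos, ?_⟩
    rw [one_smul, K220.Aut.root_smul]
    exact K220.Par.smul_sub_mem_span hg' _
  · intro h
    refine K220.Par.mem_closure_of_cf hΔ hsub hg fun k j hj => ?_
    obtain ⟨n, hn, hmem⟩ := h k
    have h1 := K220.Par.co_eq_zero_of_mem_span hΔ hsub hj hmem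
      (Submodule.span_mono (Set.image_subset_range _ _) hmem)
    have h2 : (⟨n • (P.root (g • k) - P.root k),
        Submodule.span_mono (Set.image_subset_range _ _) hmem⟩ :
          Submodule.span ℤ (Set.range P.root)) =
        n • (⟨P.root (g • k), Submodule.subset_span ⟨_, rfl⟩⟩ -
          ⟨P.root k, Submodule.subset_span ⟨_, rfl⟩⟩) := rfl
    rw [h2, map_nsmul, map_sub] at h1
    have h3 := (smul_eq_zero_iff_right hn.ne').mp h1
    exact sub_eq_zero.mp h3

end Groth.Agent.S5463
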