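import Groth.Statements.S5464
import Groth.Agent.RootD.K220.LexOrd

set_option autoImplicit false
open RootD

namespace Groth.Agent.S5464

/-- Given an indivisible root α and a root γ not proportional to it, there is a system of simple roots
containing α and a simple root β of it with γ = aα + bβ, a, b ∈ ℕ. -/
theorem result {ι M N : Type*} [AddCommGroup M] [AddCommGroup N]
    (P : RootPairing ι ℤ M N) [Finite ι] (i k : ι) (hα : RootD.IsIndiv P i)
    (hli : LinearIndependent ℤ ![P.root i, P.root k]) :
    ∃ Δ : Set ι, RootD.IsSimpleSys P Δ ∧ i ∈ Δ ∧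
      ∃ j ∈ Δ, ∃ a b : ℕ, P.root k = a • P.root i + b • P.root j := by
  obtain ⟨Δ, h1, h2, j, hj, -, a, b, h⟩ := K220.LexOrd.exists_simpleSys_pair hα hli
  exact ⟨Δ, h1, h2, j, hj, a, b, h⟩

end Groth.Agent.S5464
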