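import Groth.Statements.S5472
import Groth.Agent.RootD.K220.Dom

set_option autoImplicit false
open RootPairing
open scoped Pointwise
open RootD

namespace Groth.Agent.S5472

/-- Let Δ be a system of simple roots (root-only sense), γ a positive root and α, β simple roots with
(γ, α^v) > 0 and (γ, β^v) ≥ 0 (equivalently: the order of s_α(γ) along Δ is smaller than that of γ,
and the order of s_β(γ) is at most that of γ). Then for every w in the group generated by s_α and
s_β the order of w(γ) along Δ is at most that of γ, and strictly smaller unless w ∈ {1, s_β}. The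
order is the sum of the coefficients along Δ; the conclusion is stated for the coefficient vector c
of γ - w(γ) along Δ: its coefficient sum is ≥ 0, and > 0 unless w = 1 or w = s_β. -/
theorem result {ι M N : Type*} [AddCommGroup M] [AddCommGroup N]
    (P : RootPairing ι ℤ M N) [Finite ι] (Δ : Set ι) (hΔ : RootD.IsSimpleSys P Δ)
    (k i j : ι) (hk : k ∈ RootD.posOf P Δ) (hi : i ∈ Δ) (hj : j ∈ Δ)
    (hα : 0 < P.pairing k i) (hβ : 0 ≤ P.pairing k j)
    (g : P.Aut) (hg : g ∈ Subgroup.closure {Equiv.reflection P i, Equiv.reflection P j})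
    (c : ι →₀ ℤ) (hc : ↑c.support ⊆ Δ)
    (hck : Finsupp.linearCombination ℤ P.root c = P.root k - P.root (g • k)) :
    0 ≤ c.sum (fun _ a => a) ∧ (g ≠ 1 → g ≠ Equiv.reflection P j → 0 < c.sum (fun _ a => a)) := by
  have : Fintype ι := Fintype.ofFinite ι
  have hS : ({i, j} : Set ι) ⊆ Δ := by
    intro a ha
    rcases ha with rfl | rfl
    exacts [hi, hj]
  have hg' : g ∈ Subgroup.closure ((fun a : ι => Equiv.reflection P a) '' {i, j}) := by
    rw [Set.image_pair]; exact hg
  have hm : ∀ a ∈ ({i, j} : Set ι), 0 ≤ P.coroot' a (P.root k) := by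
    intro a ha
    rcases ha with rfl | rfl
    · exact hα.le
    · exact hβ
  have h1 : P.root k - P.root (g • k) ∈ RootD.natSpan P Δ := by
    rw [K220.Aut.root_smul]
    exact K220.Dom.sub_mem_natSpan hΔ hS hm hg'
  have hspan : P.root k - P.root (g • k) ∈ Submodule.span ℤ (Set.range P.root) :=
    sub_mem (Submodule.subset_span ⟨k, rfl⟩) (Submodule.subset_span ⟨g • k, rfl⟩)
  have h2 := (K219.Pos.mem_natSpan_iff_co hΔ hspan).mp h1
  have hc' : ∀ a, a ∉ Δ → c a = 0 := fun a ha => by
    by_contra hne
    exact ha (hc (by simpa using hne))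
  have h3 : ∀ a, 0 ≤ c a := by
    intro a
    have := K219.Pos.co_eq_of_sum hΔ hc' (x := ⟨_, hspan⟩) (by
      refine hck.symm.trans ?_
      rw [Finsupp.linearCombination_apply, Finsupp.sum_fintype _ _ (by simp)]) a
    rw [← this]
    exact h2 a
  refine ⟨Finset.sum_nonneg fun a _ => h3 a, fun hg1 hgj => ?_⟩
  refine lt_of_le_of_ne (Finset.sum_nonneg fun a _ => h3 a) fun h0 => ?_
  have h4 : c = 0 := by
    ext a
    by_cases ha : a ∈ c.support
    · exact (Finset.sum_eq_zero_iff_of_nonneg fun a _ => h3 a).mp h0.symm a ha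
    · simpa using ha
  rw [h4, map_zero] at hck
  have hfix : g • P.root k = P.root k := by
    rw [← K220.Aut.root_smul]; exact (sub_eq_zero.mp hck.symm).symm
  have h5 := K220.Dom.mem_closure_of_smul_eq hΔ hS hm hg' hfix
  have h6 : g ∈ Subgroup.closure {Equiv.reflection P j} := by
    refine Subgroup.closure_mono ?_ h5
    rintro _ ⟨a, ⟨ha, ha0⟩, rfl⟩
    rcases ha with rfl | rfl
    · have : P.pairing k a = 0 := ha0
      omega
    · rfl
  rw [Subgroup.mem_closure_singleton] at h6
  obtain ⟨n, rfl⟩ := h6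
  rcases Int.even_or_odd' n with ⟨t, rfl | rfl⟩
  · apply hg1
    rw [zpow_mul, zpow_two, K220.Weyl.refl_mul_self, one_zpow]
  · apply hgj
    rw [zpow_add, zpow_mul, zpow_two, K220.Weyl.refl_mul_self, one_zpow, zpow_one, one_mul]

end Groth.Agent.S5472
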