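import Groth.Statements.S5473
import Mathlib.LinearAlgebra.RootSystem.Finite.Nondegenerate

set_option autoImplicit false
open RootD

namespace Groth.Agent.S5473

/-- If a linear map f and its transpose g induce bijections from the roots of R' onto the roots of R and
from the coroots of R onto the coroots of R' respectively (a morphism of root data in the
two-bijection sense), then the two bijections correspond: the coroot of α' is g applied to the
coroot of f(α'). -/
theorem result {ι M N ι' M' N' : Type*} [AddCommGroup M] [AddCommGroup N] [AddCommGroup M'] [AddCommGroup N']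
    (P : RootPairing ι ℤ M N) (P' : RootPairing ι' ℤ M' N') [Finite ι] [Finite ι']
    (f : M' →ₗ[ℤ] M) (g : N →ₗ[ℤ] N') (hfg : ∀ (m' : M') (n : N), P.toLinearMap (f m') n = P'.toLinearMap m' (g n))
    (e : ι' ≃ ι) (he : ∀ i' : ι', f (P'.root i') = P.root (e i'))
    (e' : ι ≃ ι') (he' : ∀ i : ι, g (P.coroot i) = P'.coroot (e' i)) :
    ∀ i' : ι', g (P.coroot (e i')) = P'.coroot i' := by
  have := Fintype.ofFinite ι
  have := Fintype.ofFinite ι'
  have hN' : Module.IsReflexive ℤ N' := .of_isPerfPair P'.toLinearMap.flip
  have htf : IsAddTorsionFree N' := .of_isTorsionFree ℤ N'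
  -- `g ∘ p ∘ f = p'`
  have hpol : ∀ x : M', g (P.Polarization (f x)) = P'.Polarization x := by
    intro x
    rw [P.Polarization_apply, P'.Polarization_apply, map_sum]
    refine Fintype.sum_equiv e' _ _ fun i => ?_
    rw [map_smul, he']
    congr 1
    change P.toLinearMap (f x) (P.coroot i) = P'.toLinearMap x (P'.coroot (e' i))
    rw [hfg, he']
  have hlen : ∀ x : M', P.RootForm (f x) (f x) = P'.RootForm x x := by
    intro x
    rw [← P.toLinearMap_apply_apply_Polarization, hfg, hpol,
      P'.toLinearMap_apply_apply_Polarization]
  intro i'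
  have h1 := P.rootForm_self_smul_coroot (e i')
  have h2 := P'.rootForm_self_smul_coroot i'
  have h3 := congrArg g h1
  rw [map_smul, map_nsmul, ← he, hpol, hlen, ← h2] at h3
  have hpos : P'.RootForm (P'.root i') (P'.root i') ≠ 0 := by
    have := P'.rootForm_pos_of_ne_zero (x := P'.root i')
      (Submodule.subset_span ⟨i', rfl⟩) (P'.ne_zero i')
    exact this.ne'

  exact smul_right_injective N' hpos h3

end Groth.Agent.S5473
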