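import Groth.Statements.S5479
import Groth.Agent.RootD.K220.Weyl

set_option autoImplicit false
open RootPairing
open scoped Pointwise
open RootD

namespace Groth.Agent.S5479

/-- Aut(R) is the semidirect product of the Weyl group by the stabiliser E_Δ of a system of simple
roots: every automorphism is uniquely w · e with w ∈ W and e(Δ) = Δ. -/
theorem result {ι M N : Type*} [AddCommGroup M] [AddCommGroup N]
    (P : RootPairing ι ℤ M N) [Finite ι] (Δ : Set ι) (hΔ : RootD.IsSimpleSys P Δ) (u : P.Aut) :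
    ∃! w : P.weylGroup, (fun i : ι => ((w : P.Aut)⁻¹ * u) • i) '' Δ = Δ := by
  have hinj : ∀ v : P.Aut, (fun i : ι => v • i) '' Δ = Δ ↔ ∀ i ∈ Δ, v • i ∈ posOf P Δ := by
    intro v
    constructor
    · intro h i hi
      exact K219.Pos.subset_posOf (by rw [← h]; exact ⟨i, hi, rfl⟩)
    · exact K220.Weyl.image_eq hΔ
  -- existence
  obtain ⟨w, hw, hpos⟩ := K220.Weyl.exists_closure_inv_pos hΔ (S := Δ) le_rfl u
  rw [K220.Weyl.closure_simple hΔ] at hw
  have himg := K220.Weyl.image_eq hΔ hpos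
  refine ⟨⟨w⁻¹, inv_mem hw⟩, ?_, ?_⟩
  · change (fun i : ι => ((w⁻¹)⁻¹ * u) • i) '' Δ = Δ
    rw [inv_inv]
    conv_rhs => rw [← Set.image_id Δ]
    conv_lhs => rw [← himg]
    rw [← Set.image_comp]
    congr 1
    funext i
    change (w * u) • (w * u)⁻¹ • i = i
    rw [smul_inv_smul]
  · rintro ⟨v, hv⟩ h
    apply Subtype.ext
    change v = w⁻¹
    have h' : (fun i : ι => (v⁻¹ * u) • i) '' Δ = Δ := h
    -- `w * v` preserves `Δ`
    have h1 : ∀ i ∈ Δ, (w * v)⁻¹ • i ∈ posOf P Δ := by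
      intro i hi
      have h2 : (w * u)⁻¹ • i ∈ Δ := by
        rw [← himg]; exact ⟨i, hi, rfl⟩
      have h3 : (v⁻¹ * u) • ((w * u)⁻¹ • i) ∈ Δ := by
        rw [← h']
        exact ⟨_, h2, rfl⟩
      have h4 : (w * v)⁻¹ • i = (v⁻¹ * u) • ((w * u)⁻¹ • i) := by
        rw [smul_smul]; congr 1; group
      rw [h4]
      exact K219.Pos.subset_posOf h3
    have h5 := K220.Weyl.weyl_eq_one hΔ (inv_mem (mul_mem hw hv)) h1
    rw [inv_eq_one] at h5
    exact eq_inv_of_mul_eq_one_right h5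

end Groth.Agent.S5479
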