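import Groth.Statements.S5483
import Groth.Agent.RootD.K221.Ortho

set_option autoImplicit false
open RootD

namespace Groth.Agent.S5483

/-- If a system of simple roots Δ is the disjoint union of two mutually orthogonal subsets Δ', Δ'', then
R_{Δ'} and R_{Δ''} partition the set of roots. -/
theorem result {ι M N : Type*} [AddCommGroup M] [AddCommGroup N]
    (P : RootPairing ι ℤ M N) [Finite ι] (Δ Δ' : Set ι) (hΔ : RootD.IsSimpleSys P Δ)
    (hsub : Δ' ⊆ Δ) (horth : ∀ i ∈ Δ', ∀ j ∈ Δ \ Δ', P.IsOrthogonal i j) (k : ι) :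
    (k ∈ RootD.inSpan P Δ' ∨ k ∈ RootD.inSpan P (Δ \ Δ')) ∧
      ¬ (k ∈ RootD.inSpan P Δ' ∧ k ∈ RootD.inSpan P (Δ \ Δ')) := by
  have := Fintype.ofFinite ι
  refine ⟨K221.Ortho.mem_or hΔ hsub (fun i hi j hj => (horth i hi j hj).1) k, ?_⟩
  rintro ⟨h1, h2⟩
  exact K221.Simple.not_mem_both hΔ hsub Set.sdiff_subset Set.disjoint_sdiff_right h1 h2

end Groth.Agent.S5483
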