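import Groth.Statements.S5488
import Groth.Agent.RootD.K221.Prop

set_option autoImplicit false
open RootPairing
open scoped Pointwise
open RootD

namespace Groth.Agent.S5488

/-- The reduced datum of indivisible roots has the same Weyl group: the reflections in indivisible roots
generate W. -/
theorem result {ι M N : Type*} [AddCommGroup M] [AddCommGroup N]
    (P : RootPairing ι ℤ M N) [Finite ι] :
    Subgroup.closure ((fun i : ι => Equiv.reflection P i) '' {i : ι | RootD.IsIndiv P i}) = P.weylGroup := by
  apply le_antisymm
  · rw [Subgroup.closure_le]
    rintro _ ⟨i, -, rfl⟩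
    exact P.reflection_mem_weylGroup i
  · rw [weylGroup, Subgroup.closure_le]
    rintro _ ⟨i, rfl⟩
    rcases K221.Prop.indiv_or_two_smul P i with h | ⟨j, hj, hij⟩
    · exact Subgroup.subset_closure ⟨i, h, rfl⟩
    · have h1 : Equiv.reflection P i = Equiv.reflection P j := by
        apply Equiv.weightHom_injective P
        ext m
        exact congrArg (fun e => e m) (K221.Prop.reflection_eq_of_two_smul P hij)
      rw [h1]
      exact Subgroup.subset_closure ⟨j, hj, rfl⟩

end Groth.Agent.S5488
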