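import Groth.Statements.S5494
import Groth.Agent.RootD.K221.Simple

set_option autoImplicit false
open RootD

namespace Groth.Agent.S5494

/-- If a system of simple roots has no partition into two non-empty orthogonal subsets, then any two
roots are linked by a chain of roots with consecutive members non-orthogonal. -/
theorem result {ι M N : Type*} [AddCommGroup M] [AddCommGroup N]
    (P : RootPairing ι ℤ M N) [Finite ι] (Δ : Set ι) (hΔ : RootD.IsSimpleSys P Δ)
    (hconn : ∀ Δ' : Set ι, Δ' ⊆ Δ → (∀ i ∈ Δ', ∀ j ∈ Δ \ Δ', P.IsOrthogonal i j) → Δ' = ∅ ∨ Δ' = Δ)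
    (i j : ι) : Relation.ReflTransGen (fun a b : ι => ¬ P.IsOrthogonal a b) i j := by
  have := Fintype.ofFinite ι
  set R' : Set ι := {k : ι | Relation.ReflTransGen (fun a b : ι => ¬ P.IsOrthogonal a b) i k} with hR
  have h := K221.Conn.class_orthogonal (P := P) i
  obtain ⟨h1, h2⟩ := K221.Simple.partition_eq_inSpan hΔ h
  have hi : i ∈ R' := Relation.ReflTransGen.refl
  have h3 := hconn (Δ ∩ R') Set.inter_subset_left (fun a ha b hb =>
    (K221.Prop.isOrthogonal_iff P).2 (h a ha.2 b (fun hbR => hb.2 ⟨hb.1, hbR⟩)))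
  change j ∈ R'
  rcases h3 with h3 | h3
  · exfalso
    have h4 : i ∈ RootD.inSpan P (Δ ∩ R') := h1 ▸ hi
    rw [h3] at h4
    have h5 : P.root i ∈ Submodule.span ℤ (P.root '' ∅) := h4
    rw [Set.image_empty, Submodule.span_empty, Submodule.mem_bot] at h5
    exact P.ne_zero i h5
  · have h4 : j ∈ RootD.inSpan P (Δ ∩ R') := by
      rw [h3]
      exact K221.Simple.rootspan_le hΔ j
    exact (Set.ext_iff.1 h1 j).2 h4

end Groth.Agent.S5494
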