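import Groth.Statements.S5501
import Groth.Agent.RootD.K222.Lattice
import Mathlib.LinearAlgebra.FreeModule.Finite.Quotient

set_option autoImplicit false
universe u v w
open RootD

namespace Groth.Agent.S5501

/-- Adjoint case; the simply connected case is dual: a semisimple root datum R is adjoint if and only if
every isogeny R' → R is an isomorphism. -/
theorem result {ι : Type u} {M : Type v} {N : Type w} [AddCommGroup M] [AddCommGroup N]
    (P : RootPairing ι ℤ M N) [Finite ι] [Module.Finite ℤ M] [Module.Finite ℤ N]
    (hss : Module.finrank ℤ (Submodule.span ℤ (Set.range P.root)) = Module.finrank ℤ M) :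
    Submodule.span ℤ (Set.range P.root) = ⊤ ↔
      ∀ (ι' : Type u) (M' N' : Type v) [AddCommGroup M'] [AddCommGroup N'] [Finite ι']
        [Module.Finite ℤ M'] [Module.Finite ℤ N'] (P' : RootPairing ι' ℤ M' N') (f : RootPairing.Hom P' P),
        Function.Injective f.weightMap → Finite (M ⧸ LinearMap.range f.weightMap) →
          Function.Bijective f.weightMap := by
  constructor
  · intro htop ι' M' N' _ _ _ _ _ P' f hinj _
    refine ⟨hinj, ?_⟩
    rw [← LinearMap.range_eq_top, eq_top_iff, ← htop, Submodule.span_le]
    rintro _ ⟨i, rfl⟩
    obtain ⟨i', rfl⟩ := f.indexEquiv.surjective i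
    exact ⟨P'.root i', f.root_weightMap_apply _ _ i'⟩
  · intro h
    have htf : IsAddTorsionFree M := K222.Lattice.torsionFree P
    have hfree : Module.Free ℤ M := inferInstance
    have hfree' : Module.Free ℤ (P.rootSpan ℤ) := K222.Lattice.free_rootSpan P
    let f : RootPairing.Hom (K222.Lattice.latt P) P :=
      { weightMap := (P.rootSpan ℤ).subtype
        coweightMap := (P.rootSpan ℤ).subtype.dualMap ∘ₗ P.toLinearMap.flip
        indexEquiv := Equiv.refl ι
        weight_coweight_transpose := by
          ext n x
          rfl
        root_weightMap := by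
          ext i
          rfl
        coroot_coweightMap := by
          ext i x
          change P.toLinearMap x (P.coroot i) = P.coroot'In ℤ i x
          have := P.algebraMap_coroot'In_apply ℤ i x
          exact this.symm }
    have h1 := h ι (P.rootSpan ℤ) (Module.Dual ℤ (P.rootSpan ℤ)) (K222.Lattice.latt P) f
      (Submodule.subtype_injective _) (by
        change Finite (M ⧸ LinearMap.range (P.rootSpan ℤ).subtype)
        rw [Submodule.range_subtype]
        exact Submodule.finiteQuotientOfFreeOfRankEq _ hss)
    have h2 : LinearMap.range (P.rootSpan ℤ).subtype = ⊤ := LinearMap.range_eq_top.2 h1.2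
    rwa [Submodule.range_subtype] at h2

end Groth.Agent.S5501
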