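import Groth.Statements.S5502
import Groth.Agent.RootD.K222.Simple
import Groth.Agent.RootD.K221.PSys

set_option autoImplicit false
open RootD

namespace Groth.Agent.S5502

/-- If β = Σ_{α ∈ Δ} a_α α along a system of simple roots Δ, then ℓ(β) divides 2 a_α ℓ(α), and 2ℓ(β)
divides it when α^v is indivisible (ℓ the canonical quadratic form). -/
theorem result {ι M N : Type*} [AddCommGroup M] [AddCommGroup N]
    (P : RootPairing ι ℤ M N) [Finite ι] [Fintype ι] (Δ : Set ι) (hΔ : RootD.IsSimpleSys P Δ)
    (k : ι) (c : ι →₀ ℤ) (hc : ↑c.support ⊆ Δ) (hck : Finsupp.linearCombination ℤ P.root c = P.root k)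
    (i : ι) (hi : i ∈ Δ) :
    P.RootForm (P.root k) (P.root k) ∣ 2 * c i * P.RootForm (P.root i) (P.root i) ∧
      (RootD.IsIndiv P.flip i → 2 * P.RootForm (P.root k) (P.root k) ∣ 2 * c i * P.RootForm (P.root i) (P.root i)) := by
  -- elements `y` such that `2 y` is a combination of simple coroots, even at the indivisible ones
  let T : AddSubgroup N :=
    { carrier := {y | ∃ f : ι →₀ ℤ, (f.support : Set ι) ⊆ Δ ∧ (∀ j, RootD.IsIndiv P.flip j → 2 ∣ f j) ∧
        Finsupp.linearCombination ℤ P.coroot f = (2 : ℤ) • y}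
      add_mem' := by
        rintro x y ⟨f, hf, hf2, hfx⟩ ⟨g, hg, hg2, hgy⟩
        refine ⟨f + g, ?_, fun j hj => dvd_add (hf2 j hj) (hg2 j hj), by rw [map_add, hfx, hgy, smul_add]⟩
        have := Submodule.add_mem _ ((Finsupp.mem_supported ℤ f).2 hf) ((Finsupp.mem_supported ℤ g).2 hg)
        exact (Finsupp.mem_supported ℤ _).1 this
      zero_mem' := ⟨0, by simp, by simp, by simp⟩
      neg_mem' := by
        rintro x ⟨f, hf, hf2, hfx⟩
        exact ⟨-f, by simpa using hf, fun j hj => (dvd_neg (α := ℤ)).2 (hf2 j hj), by rw [map_neg, hfx, smul_neg]⟩ }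
  have hTsimple : ∀ j ∈ Δ, P.coroot j ∈ T := by
    intro j hj
    refine ⟨Finsupp.single j 2, K222.Simple.support_single_subset' hj 2, ?_, by simp⟩
    intro l _
    by_cases h : j = l
    · subst h; simp
    · rw [Finsupp.single_eq_of_ne' h]; exact dvd_zero 2
  have hThalf : ∀ j ∈ Δ, ∀ l, P.root l = (2 : ℤ) • P.root j → P.coroot l ∈ T := by
    intro j hj l hl
    have h1 := K222.Simple.coroot_of_root_eq P hl
    refine ⟨Finsupp.single j 1, K222.Simple.support_single_subset' hj 1, ?_, by simp [h1]⟩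
    intro m hm
    by_cases h : j = m
    · subst h
      exact absurd h1.symm (hm l)
    · rw [Finsupp.single_eq_of_ne' h]; exact dvd_zero 2
  have hT : ∀ l, RootD.IsIndiv P l → P.coroot l ∈ T ∧ ∀ l', P.root l' = (2 : ℤ) • P.root l → P.coroot l' ∈ T := by
    intro l hl
    refine K222.Simple.indiv_induction hΔ (p := fun l => P.coroot l ∈ T ∧
      ∀ l', P.root l' = (2 : ℤ) • P.root l → P.coroot l' ∈ T) ?_ ?_ hl
    · intro j hj
      exact ⟨hTsimple j hj, hThalf j hj⟩
    · rintro l j hj ⟨h1, h2⟩
      have hstep : ∀ m, P.coroot m ∈ T → P.coroot (P.reflectionPerm j m) ∈ T := by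
        intro m hm
        rw [P.coroot_reflectionPerm, P.coreflection_apply_coroot]
        exact T.sub_mem hm (T.zsmul_mem (hTsimple j hj) _)
      refine ⟨hstep l h1, fun l' hl' => ?_⟩
      have h3 := h2 (P.reflectionPerm j l') (by
        rw [P.root_reflectionPerm, hl', map_smul, P.root_reflectionPerm, P.reflection_same])
      have h4 := hstep _ h3
      rwa [P.reflectionPerm_self] at h4
  have hk : P.coroot k ∈ T := by
    by_cases hind : RootD.IsIndiv P k
    · exact (hT k hind).1
    · obtain ⟨j, hj, h⟩ := K222.Simple.exists_indiv P hind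
      exact (hT j hj).2 k h
  obtain ⟨f, hf, hf2, hfk⟩ := hk
  -- compare coefficients
  set L : ι → ℤ := fun j => P.RootForm (P.root j) (P.root j) with hL
  have hpol : ∀ j, L j • P.coroot j = (2 : ℤ) • P.Polarization (P.root j) := fun j => by
    rw [hL, P.rootForm_self_smul_coroot, two_nsmul, two_zsmul]
  let g : ι →₀ ℤ := Finsupp.onFinset c.support (fun j => c j * L j)
    (fun j hj => Finsupp.mem_support_iff.2 (left_ne_zero_of_mul hj))
  have hg : (g.support : Set ι) ⊆ Δ := fun j hj => hc (Finsupp.support_onFinset_subset hj)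
  have hgc : Finsupp.linearCombination ℤ P.coroot g = L k • P.coroot k := by
    rw [hpol, ← hck, Finsupp.linearCombination_apply, Finsupp.linearCombination_apply, Finsupp.sum, Finsupp.sum,
      map_sum, Finset.smul_sum]
    have h1 : ∑ j ∈ g.support, g j • P.coroot j = ∑ j ∈ c.support, g j • P.coroot j :=
      Finset.sum_subset Finsupp.support_onFinset_subset fun j _ hj => by
        rw [Finsupp.notMem_support_iff.1 hj, zero_smul]
    rw [h1]
    refine Finset.sum_congr rfl fun j _ => ?_
    have h2 : g j = c j * L j := rfl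
    rw [h2, mul_smul, hpol, map_smul, smul_comm]
  have hzero : L k • f - (2 : ℤ) • g = 0 := by
    refine linearIndepOn_iff.1 (K221.PSys.linInd_coroot hΔ.linInd) _ ?_ ?_
    · exact Submodule.sub_mem _ (Submodule.smul_mem _ _ ((Finsupp.mem_supported ℤ f).2 hf))
        (Submodule.smul_mem _ _ ((Finsupp.mem_supported ℤ g).2 hg))
    · rw [map_sub, map_smul, map_smul, hfk, hgc, smul_comm, sub_self]
  have hi0 := congrArg (fun h : ι →₀ ℤ => h i) hzero
  have hgi : g i = c i * L i := rfl
  simp only [Finsupp.sub_apply, Finsupp.smul_apply, smul_eq_mul, Finsupp.coe_zero, Pi.zero_apply, hgi] at hi0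
  refine ⟨⟨f i, ?_⟩, fun hind => ?_⟩
  · change 2 * c i * L i = L k * f i
    linarith
  · obtain ⟨m, hm⟩ := hf2 i hind
    refine ⟨m, ?_⟩
    change 2 * c i * L i = 2 * L k * m
    rw [hm] at hi0
    linarith

end Groth.Agent.S5502
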