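import Groth.Statements.S5504
import Groth.Agent.RootD.K222.Words

set_option autoImplicit false
open RootPairing
open scoped Pointwise
open RootD

namespace Groth.Agent.S5504

/-- Stated for the group generated by the simple reflections (rather than for the abstractly presented
group): if w = s_{α_1} ⋯ s_{α_m} is a word of minimal length in the simple reflections, then w(α_m)
is a negative root. -/
theorem result {ι M N : Type*} [AddCommGroup M] [AddCommGroup N]
    (P : RootPairing ι ℤ M N) [Finite ι] (Δ : Set ι) (hΔ : RootD.IsSimpleSys P Δ)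
    (l : List ι) (hl : ∀ a ∈ l, a ∈ Δ) (hne : l ≠ [])
    (hmin : ∀ l' : List ι, (∀ a ∈ l', a ∈ Δ) →
      (l'.map fun a => Equiv.reflection P a).prod = (l.map fun a => Equiv.reflection P a).prod → l.length ≤ l'.length) :
    -P.root ((l.map fun a => Equiv.reflection P a).prod • l.getLast hne) ∈ RootD.natSpan P Δ := by
  obtain ⟨l₀, j, rfl⟩ := (List.eq_nil_or_concat l).resolve_left hne
  have hlast : (l₀.concat j).getLast hne = j := by simp
  rw [hlast]
  simp only [List.concat_eq_append] at *
  have hj : j ∈ Δ := hl j (by simp)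
  have hl₀ : ∀ a ∈ l₀, a ∈ Δ := fun a ha => hl a (by simp [ha])
  have h1 := K222.Words.last_neg hΔ hl₀ hj hmin
  have h2 : (List.map (fun a => Equiv.reflection P a) (l₀ ++ [j])).prod = K222.Words.wd P l₀ * Equiv.reflection P j := by
    simp [K222.Words.wd]
  rw [h2, mul_smul, Groth.Agent.Sga3A.Weyl.reflection_smul_idx, Groth.Agent.Sga3A.Weyl.smul_neg_idx,
    P.root_reflectionPerm, P.reflection_apply_self, neg_neg]
  exact h1

end Groth.Agent.S5504
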