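import Groth.Statements.S5505
import Mathlib.LinearAlgebra.RootSystem.Finite.Lemmas

set_option autoImplicit false
open RootD

namespace Groth.Agent.S5505

/-- A subset of roots which, together with its complement, is closed and symmetric contains with any
root every root not orthogonal to it; so it is a union of irreducible components. -/
theorem result {ι M N : Type*} [AddCommGroup M] [AddCommGroup N]
    (P : RootPairing ι ℤ M N) [Finite ι] (R' : Set ι) (hc : RootD.IsClosedSub P R')
    (hs : RootD.IsSymmSub P R') (hc' : RootD.IsClosedSub P R'ᶜ) (hs' : RootD.IsSymmSub P R'ᶜ)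
    (i j : ι) (hi : i ∈ R') (hij : ¬ P.IsOrthogonal i j) : j ∈ R' := by
  have hpi : ∀ a b, P.pairingIn ℤ a b = P.pairing a b := fun a b => by
    simpa using P.algebraMap_pairingIn ℤ a b
  have hR : Module.IsReflexive ℤ M := .of_isPerfPair P.toLinearMap
  have hneg : ∀ a, P.root (P.reflectionPerm a a) = -P.root a := fun a => by simp
  by_contra hj
  have hj' : j ∈ R'ᶜ := hj
  have hne : i ≠ j := fun h => hj (h ▸ hi)
  have h0 : P.pairing i j ≠ 0 := by
    intro h0
    exact hij ⟨h0, P.pairing_eq_zero_iff.1 h0⟩
  rcases lt_or_gt_of_ne h0 with h0 | h0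
  · have hne' : P.root i ≠ -P.root j := by
      intro h
      rw [RootPairing.root_eq_neg_iff] at h
      exact hs' hj' (h ▸ hi)
    obtain ⟨k, hk⟩ := P.root_add_root_mem_of_pairingIn_neg (i := i) (j := j) (by rw [hpi]; exact h0) hne'
    by_cases hkR : k ∈ R'
    · exact hj (hc hkR (hs hi) (by rw [hneg, hk]; abel))
    · exact hc' (i := k) (j := P.reflectionPerm j j) (k := i) hkR (hs' hj') (by rw [hneg, hk]; abel) hi
  · obtain ⟨k, hk⟩ := P.root_sub_root_mem_of_pairingIn_pos (i := i) (j := j) (by rw [hpi]; exact h0) hne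
    by_cases hkR : k ∈ R'
    · exact hj (hc hi (hs hkR) (by rw [hneg, hk]; abel))
    · exact hc' (i := k) (j := j) (k := i) hkR hj' (by rw [hk]; abel) hi

end Groth.Agent.S5505
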