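import Groth.Statements.S5507
import Groth.Agent.RootD.K222.Simple

set_option autoImplicit false
open RootD

namespace Groth.Agent.S5507

/-- For a system of simple roots Δ there are positive integers m_α (the lengths) such that the matrix
(m_α a_{α,β}) with a_{α,β} = (α^v, β) is symmetric and positive definite. -/
theorem result {ι M N : Type*} [AddCommGroup M] [AddCommGroup N]
    (P : RootPairing ι ℤ M N) [Finite ι] (Δ : Finset ι) (hΔ : RootD.IsSimpleSys P (↑Δ : Set ι)) :
    ∃ m : ↥Δ → ℤ, (∀ a, 0 < m a) ∧
      (Matrix.of fun (a b : ↥Δ) => m a * P.pairing (b : ι) (a : ι)).IsSymm ∧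
      (Matrix.of fun (a b : ↥Δ) => m a * P.pairing (b : ι) (a : ι)).PosDef := by
  classical
  let := Fintype.ofFinite ι
  have key : ∀ a b : ι, P.RootForm (P.root a) (P.root a) * P.pairing b a =
      2 * P.RootForm (P.root a) (P.root b) := fun a b => by
    rw [K222.Simple.two_mul_form, P.root_coroot'_eq_pairing]
  have hsymm : (Matrix.of fun (a b : ↥Δ) => P.RootForm (P.root a) (P.root a) * P.pairing (b : ι) (a : ι)).IsSymm := by
    ext a b
    rw [Matrix.transpose_apply, Matrix.of_apply, Matrix.of_apply, key, key, K222.Simple.form_symm]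
  refine ⟨fun a => P.RootForm (P.root a) (P.root a), fun a => K222.Simple.form_root_pos P a, hsymm, ?_⟩
  refine Matrix.PosDef.of_dotProduct_mulVec_pos ?_ fun x hx => ?_
  · rw [Matrix.IsHermitian, Matrix.conjTranspose_eq_transpose_of_trivial]
    exact hsymm
  · set v : M := ∑ a : ↥Δ, x a • P.root (a : ι) with hv
    have hvspan : v ∈ P.rootSpan ℤ :=
      Submodule.sum_mem _ fun a _ => Submodule.smul_mem _ _ (Submodule.subset_span ⟨_, rfl⟩)
    have hv0 : v ≠ 0 := by
      intro h0
      apply hx
      have hli : LinearIndependent ℤ (fun a : ↥Δ => P.root (a : ι)) := hΔ.linInd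
      exact funext (Fintype.linearIndependent_iff.1 hli x h0)
    have hpos := P.rootForm_pos_of_ne_zero hvspan hv0
    have hcalc : star x ⬝ᵥ (Matrix.of (fun (a b : ↥Δ) =>
        P.RootForm (P.root a) (P.root a) * P.pairing (b : ι) (a : ι))).mulVec x = 2 * P.RootForm v v := by
      simp only [star_trivial, dotProduct, Matrix.mulVec, Matrix.of_apply, key, hv, map_sum, map_smul,
        LinearMap.sum_apply, LinearMap.smul_apply, smul_eq_mul, Finset.mul_sum]
      rw [Finset.sum_comm]
      refine Finset.sum_congr rfl fun a _ => Finset.sum_congr rfl fun b _ => ?_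
      ring
    rw [hcalc]
    omega

end Groth.Agent.S5507
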