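import Groth.Statements.S5508
import Groth.Agent.RootD.K222.Simple

set_option autoImplicit false
open RootPairing
open scoped Pointwise
open RootD

namespace Groth.Agent.S5508

/-- For an arbitrary (possibly non-reduced) root datum and a system of simple roots Δ in the root-only
sense: the simple reflections generate the Weyl group, and every indivisible root is conjugate under
the Weyl group to a simple root. -/
theorem result {ι M N : Type*} [AddCommGroup M] [AddCommGroup N]
    (P : RootPairing ι ℤ M N) [Finite ι] (Δ : Set ι) (hΔ : RootD.IsSimpleSys P Δ) :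
    Subgroup.closure ((fun i : ι => Equiv.reflection P i) '' Δ) = P.weylGroup ∧
      ∀ k : ι, RootD.IsIndiv P k → ∃ g : P.Aut, g ∈ P.weylGroup ∧ ∃ i ∈ Δ, g • i = k := by
  refine ⟨K222.Simple.closure_simple hΔ, fun k hk => ?_⟩
  obtain ⟨g, hg, j, hj, h⟩ := K222.Simple.exists_conj hΔ hk
  exact ⟨g, K222.Simple.closure_simple hΔ ▸ hg, j, hj, h⟩

end Groth.Agent.S5508
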