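import Groth.Statements.S5509
import Groth.Agent.RedSub.H633.CellOpenImm
import Groth.Agent.RedSub.H636.CellPts
import Groth.Agent.Sga3B.SplitModel889

set_option autoImplicit false
open CategoryTheory MonoidalCategory CartesianMonoidalCategory MonObj GrpObj AlgebraicGeometry
universe u
open RedSub

namespace Groth.Agent.S5509

open Groth.Agent.RedSub.H636.CellPts Groth.Agent.Sga3B

variable {S : Scheme.{u}} {G : Over S} [GrpObj G] (D : Red.SplitRed G)

/-- conjugating a product of root group elements by a torus point -/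
theorem exists_conj {X : Over S} (t : X ⟶ D.T) {n : ℕ} (e : Fin n → D.idx) (y : Fin n → (X ⟶ Red.Ga S)) :
    ∃ y' : Fin n → (X ⟶ Red.Ga S), (List.ofFn fun k => y' k ≫ D.u (e k)).prod =
      (t ≫ D.i) * (List.ofFn fun k => y k ≫ D.u (e k)).prod * (t ≫ D.i)⁻¹ := by
  choose y' hy' _ using fun k => (D.rootHom (e k)).2.2 X t (y k)
  refine ⟨y', ?_⟩
  have h1 : (MulAut.conj (t ≫ D.i)) ((List.ofFn fun k => y k ≫ D.u (e k)).prod) =
      (t ≫ D.i) * (List.ofFn fun k => y k ≫ D.u (e k)).prod * (t ≫ D.i)⁻¹ := rfl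
  rw [← h1, map_list_prod, List.map_ofFn]
  congr 1
  congr 1
  funext k
  exact hy' k

theorem comm {X : Over S} (s t : X ⟶ D.T) : (s ≫ D.i) * (t ≫ D.i) = (t ≫ D.i) * (s ≫ D.i) := by
  have h := ((Groth.Agent.Sga3B.isCentralizerOf_i D).2.2 X (s ≫ D.i)).1 ⟨s, rfl⟩ X (𝟙 X) t
  simpa using h

/-- Let G be a split reductive S-group (splitting D), b a system of simple roots with enumerations of
the negative and positive roots, and x a point (with values in some X) of the big cell G_a^{R_-} x_S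
T x_S G_a^{R_+}. If the image g of x in G satisfies g t g⁻¹ ∈ T for every point t of T (after every
base change), then g lies in T: g is the image of the T-component of x (so the two unipotent
components of x are trivial). In other words the big cell meets the normaliser of T in T. -/
theorem result {S : Scheme.{u}} {G : Over S} [GrpObj G] (D : Red.SplitRed G)
    (b : D.P.Base) {n m : ℕ} (eneg : Fin n → D.idx) (epos : Fin m → D.idx)
    (hneg : RedSub.Enumerates (RedSub.negRoots D.P b) eneg) (hpos : RedSub.Enumerates (RedSub.posRoots D.P b) epos)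
    (X : Over S) (x : X ⟶ RedSub.pow (Red.Ga S) n ⊗ (D.T ⊗ RedSub.pow (Red.Ga S) m))
    (hnorm : ∀ (X' : Over S) (y : X' ⟶ X) (t : X' ⟶ D.T), ∃ t' : X' ⟶ D.T,
      (y ≫ x ≫ RedSub.cellMap D eneg epos) * (t ≫ D.i) * (y ≫ x ≫ RedSub.cellMap D eneg epos)⁻¹ = t' ≫ D.i) :
    x ≫ RedSub.cellMap D eneg epos = (x ≫ snd _ _ ≫ fst _ _) ≫ D.i := by
  obtain ⟨lam, -, -, -, hs⟩ := Groth.Agent.RedSub.H633.CellOpenImm.SignEnum.of_base b hneg hpos
  have hmono : Mono (RedSub.cellMap D eneg epos) := Groth.Agent.RedSub.H633.CellOpenImm.mono_cellMap hs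
  have hi : IsMonHom D.i := D.maximalTorus.1
  have hcent := Groth.Agent.Sga3B.isCentralizerOf_i D
  -- the point centralises the torus
  have key : ∀ (X' : Over S) (y : X' ⟶ X) (t : X' ⟶ D.T),
      (y ≫ x ≫ RedSub.cellMap D eneg epos) * (t ≫ D.i) = (t ≫ D.i) * (y ≫ x ≫ RedSub.cellMap D eneg epos) := by
    intro X' y t
    obtain ⟨t', ht'⟩ := hnorm X' y t
    obtain ⟨u, τ, v, hz⟩ := exists_cell_coords D (y ≫ x)
    have hg : y ≫ x ≫ RedSub.cellMap D eneg epos =
        (List.ofFn fun k => u k ≫ D.u (eneg k)).prod *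
          ((τ ≫ D.i) * (List.ofFn fun k => v k ≫ D.u (epos k)).prod) := by
      rw [← Category.assoc, hz, cellMap_pts]
    rw [hg] at ht' ⊢
    obtain ⟨u', hu'⟩ := exists_conj D t' eneg u
    obtain ⟨v', hv'⟩ := exists_conj D t⁻¹ epos v
    rw [GrpObj.inv_comp] at hv'
    have e1 : (List.ofFn fun k => u k ≫ D.u (eneg k)).prod *
          (((τ * t) ≫ D.i) * (List.ofFn fun k => v' k ≫ D.u (epos k)).prod) =
        (List.ofFn fun k => u' k ≫ D.u (eneg k)).prod *
          (((t' * τ) ≫ D.i) * (List.ofFn fun k => v k ≫ D.u (epos k)).prod) := by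
      rw [hu', hv', MonObj.mul_comp, MonObj.mul_comp]
      rw [mul_inv_eq_iff_eq_mul] at ht'
      simp only [_root_.mul_assoc, _root_.inv_inv, _root_.mul_inv_cancel_left, _root_.inv_mul_cancel_left] at ht' ⊢
      rw [ht']
    rw [← cellMap_pts, ← cellMap_pts, cancel_mono] at e1
    have e2 : τ * t = t' * τ := by
      have := congrArg (fun z => z ≫ snd _ _ ≫ fst _ _) e1
      simpa using this
    have e3 : t' ≫ D.i = t ≫ D.i := by
      have h1 : (t ≫ D.i) * (τ ≫ D.i) = (t' ≫ D.i) * (τ ≫ D.i) := by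
        rw [← comm D τ t, ← MonObj.mul_comp, e2, MonObj.mul_comp]
      exact (mul_right_cancel h1).symm
    rw [e3, mul_inv_eq_iff_eq_mul] at ht'
    exact ht'
  obtain ⟨t₀, ht₀⟩ := (hcent.2.2 X (x ≫ RedSub.cellMap D eneg epos)).2 key
  -- compare with the point `(1, t₀, 1)`
  have h1 : ∀ (r : ℕ) (e : Fin r → D.idx),
      (List.ofFn fun k => (1 : X ⟶ Red.Ga S) ≫ D.u (e k)).prod = 1 := by
    intro r e
    apply List.prod_eq_one
    intro g hg
    obtain ⟨k, rfl⟩ := List.mem_ofFn.1 hg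
    have := (D.rootHom (e k)).1
    exact MonObj.one_comp _
  have h2 : lift (powPt n fun _ => (1 : X ⟶ Red.Ga S)) (lift t₀ (powPt m fun _ => (1 : X ⟶ Red.Ga S))) ≫
      RedSub.cellMap D eneg epos = x ≫ RedSub.cellMap D eneg epos := by
    rw [cellMap_pts, h1, h1, _root_.one_mul, _root_.mul_one, ht₀]
  rw [cancel_mono] at h2
  rw [← h2]
  simp only [Category.assoc, lift_snd_assoc, lift_fst_assoc]
  rw [cellMap_pts, h1, h1, _root_.one_mul, _root_.mul_one]

end Groth.Agent.S5509
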