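import Groth.Statements.S5511
import Groth.Agent.S2958
import Groth.Agent.S2962
import Groth.Agent.Sga3B.AdCentre
import Groth.Agent.Sga3B.MaxTorBc505
import Groth.Agent.Sga3B.TorClosed636
import Groth.Agent.Sga3B.RepDescent7
import Groth.Agent.Sga3B.RedBcAny636
import Groth.Agent.Sga3B.SplitRedField415
import Groth.Agent.RedSub.H636.CellPts
import Groth.Agent.Sga3B.BaseZ
import Groth.Agent.Sga3.H799.Transp
import Groth.Agent.RedSub.K195.PartCell

set_option autoImplicit false
open CategoryTheory MonoidalCategory CartesianMonoidalCategory MonObj GrpObj AlgebraicGeometry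
universe u
open RedSub

namespace Groth.Agent.S5511

open Groth.Agent.Sga3B Groth.Agent.Sga3B.BcPts Groth.Agent.Sga3 Groth.Agent.Sga3.H799.Ev
  Groth.Agent.RedSub.H636.CellPts Groth.Agent.Sga3B.GaPts

section split

variable {S : Scheme.{u}} {G : Over S} [GrpObj G] (D : Red.SplitRed G)

/-- A root group meets the torus trivially. -/
theorem eq_one_of_u_eq_i [Nonempty S] (a : D.idx) {X : Over S} (x : X ⟶ Red.Ga S) (t : X ⟶ D.T)
    (h : x ≫ D.u a = t ≫ D.i) : x = 1 := by
  have hred := Groth.Agent.Sga3B.SplitReduced415.isReduced D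
  obtain ⟨b⟩ := Groth.Agent.Sga3B.BaseZ.nonempty_base D.P
  have hi : IsMonHom D.i := D.maximalTorus.1
  have hu : IsMonHom (D.u a) := (D.rootHom a).1
  have h1 : (1 : X ⟶ D.T) ≫ D.i = 1 := MonObj.one_comp _
  have h2 : (1 : X ⟶ Red.Ga S) ≫ D.u a = 1 := MonObj.one_comp _
  rcases Groth.Agent.RedSub.H633.PosRoots.mem_posRoots_or_mem_negRoots b a with ha | ha
  · have h3 := _root_.K195.PartCell.isImmersion_cellMap D b (n := 0) (m := 1) Fin.elim0 (fun _ => a)
      (fun k => k.elim0) (fun k => k.elim0) (fun _ _ _ => Subsingleton.elim _ _) (fun _ => ha)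
    have h4 : Mono (RedSub.cellMap D (n := 0) (m := 1) Fin.elim0 (fun _ => a)) :=
      (Over.forget S).mono_of_mono_map (inferInstanceAs (Mono (RedSub.cellMap D (n := 0) (m := 1) _ _).left))
    have h5 : (lift (powPt 0 (Fin.elim0 : Fin 0 → (X ⟶ Red.Ga S))) (lift 1 (powPt 1 (fun _ => x)))) =
        (lift (powPt 0 (Fin.elim0 : Fin 0 → (X ⟶ Red.Ga S))) (lift t (powPt 1 (fun _ => 1)))) := by
      rw [← cancel_mono (RedSub.cellMap D (n := 0) (m := 1) Fin.elim0 (fun _ => a)), cellMap_pts, cellMap_pts]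
      simp [h1, h2, h]
    have h6 := congrArg (fun z => z ≫ snd _ _ ≫ snd _ _) h5
    simp only [lift_snd_assoc, lift_snd] at h6
    exact congrFun (powPt_injective 1 _ _ h6) 0
  · have h3 := _root_.K195.PartCell.isImmersion_cellMap D b (n := 1) (m := 0) (fun _ => a) Fin.elim0
      (fun _ _ _ => Subsingleton.elim _ _) (fun _ => ha) (fun k => k.elim0) (fun k => k.elim0)
    have h4 : Mono (RedSub.cellMap D (n := 1) (m := 0) (fun _ => a) Fin.elim0) :=
      (Over.forget S).mono_of_mono_map (inferInstanceAs (Mono (RedSub.cellMap D (n := 1) (m := 0) _ _).left))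
    have h5 : (lift (powPt 1 (fun _ => x)) (lift 1 (powPt 0 (Fin.elim0 : Fin 0 → (X ⟶ Red.Ga S))))) =
        (lift (powPt 1 (fun _ => 1)) (lift t (powPt 0 (Fin.elim0 : Fin 0 → (X ⟶ Red.Ga S))))) := by
      rw [← cancel_mono (RedSub.cellMap D (n := 1) (m := 0) (fun _ => a) Fin.elim0), cellMap_pts, cellMap_pts]
      simp [h1, h2, h]
    have h6 := congrArg (fun z => z ≫ fst _ _) h5
    simp only [lift_fst] at h6
    exact congrFun (powPt_injective 1 _ _ h6) 0

/-- A section in all the conjugates of the torus is central. -/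
theorem central_of_conj [Nonempty S] (g : 𝟙_ (Over S) ⟶ G)
    (h : ∀ c : 𝟙_ (Over S) ⟶ G, ∃ t : 𝟙_ (Over S) ⟶ D.T, t ≫ D.i = c⁻¹ * g * c) (X : Over S) (y : X ⟶ G) :
    (toUnit X ≫ g) * y = y * (toUnit X ≫ g) := by
  have hi : IsMonHom D.i := D.maximalTorus.1
  refine (S2962.result D (𝟙_ (Over S)) g).mpr ?_ X (toUnit X) y
  obtain ⟨t, ht⟩ := h 1
  have ht' : t ≫ D.i = g := by rw [ht]; simp
  refine ⟨t, ht', fun a => ?_⟩
  have hu : IsMonHom (D.u a) := (D.rootHom a).1
  let x : 𝟙_ (Over S) ⟶ Red.Ga S := gaPt _ 1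
  obtain ⟨y, hy, hy'⟩ := (D.rootHom a).2.2 (𝟙_ (Over S)) t x
  obtain ⟨t', h'⟩ := h (x ≫ D.u a)
  have h1 : (x⁻¹ * y) ≫ D.u a = (t' * t⁻¹) ≫ D.i := by
    rw [MonObj.mul_comp, MonObj.mul_comp, GrpObj.inv_comp, GrpObj.inv_comp, hy, h', ht']
    group
  have h2 := eq_one_of_u_eq_i D a _ _ h1
  have h3 : y = x := by
    rw [inv_mul_eq_one] at h2
    exact h2.symm
  rw [h3] at hy'
  simp only [x, gaFn_gaPt, _root_.mul_one] at hy'
  rw [← Category.assoc, AdCentre.dsChar_chi, ← gmFn_chi, Category.assoc]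
  exact hy'.symm

end split

section general

variable {S : Scheme.{u}} {G : Over S} [GrpObj G]

/-- the condition of being in all the maximal tori -/
def InTori (G : Over S) [GrpObj G] {X : Over S} (g : X ⟶ G) : Prop :=
  ∀ (Y : Scheme.{u}) (f : Y ⟶ S) (y : Y ⟶ X.left) (_ : y ≫ X.hom = f) (T : Over Y) [GrpObj T]
    (i : T ⟶ Red.bc f G), Red.IsMaximalTorus i → ∃ p : Y ⟶ T.left, p ≫ T.hom = 𝟙 Y ∧
      p ≫ i.left ≫ Limits.pullback.fst G.hom f = y ≫ g.left

lemma InTori.comp {X X' : Over S} {g : X ⟶ G} (h : InTori G g) (x : X' ⟶ X) : InTori G (x ≫ g) := by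
  intro Y f y hy T _ i hi
  obtain ⟨p, h1, h2⟩ := h Y f (y ≫ x.left) (by rw [Category.assoc, Over.w x, hy]) T i hi
  exact ⟨p, h1, by rw [h2, Category.assoc]; rfl⟩

lemma symm_left {S' : Scheme.{u}} (f : S' ⟶ S) {T : Over S'} {X : Over S} (x : T ⟶ Red.bc f X) :
    ((bcEquiv f T X).symm x).left = x.left ≫ Limits.pullback.fst X.hom f := by
  simp only [bcEquiv, Adjunction.homEquiv_counit]
  rfl

theorem comm_of_inTori (hG : Red.IsReductive G) {X : Over S} {g : X ⟶ G} (hg : InTori G g) (h : X ⟶ G) :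
    g * h = h * g := by
  have hloc := fun x : X.left => S2958.result (Red.bc X.hom G) (RedBcAny636.isReductive_bc X.hom hG) x
  choose U f hf hx hD using hloc
  refine RepDescent.hom_ext_cover (T := X) (X := X) (J := X.left)
    (fun x => (Over.map (f x ≫ X.hom)).obj (𝟙_ (Over (U x))))
    (fun x => Over.homMk (f x) (by simp)) (fun x => hf x)
    (fun x => ⟨x, (hx x).choose, (hx x).choose_spec⟩) (𝟙 X) _ _ ?_
  intro x R p q hpq
  rw [Category.comp_id] at hpq
  rw [hpq, Category.assoc, Category.assoc]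
  congr 1
  obtain ⟨D⟩ := hD x
  have hU : Nonempty (U x) := ⟨(hx x).choose⟩
  have D' : Red.SplitRed (Red.bc (f x ≫ X.hom) G) := SplitIso848.splitOfIso (BcIso.bcCompIso (f x) X.hom G).symm D
  set f' : (Over.map (f x ≫ X.hom)).obj (𝟙_ (Over (U x))) ⟶ X := Over.homMk (f x) (by simp) with hf'
  apply (bcEquiv (f x ≫ X.hom) _ G).injective
  rw [MonObj.comp_mul, MonObj.comp_mul, bcEquiv_mul, bcEquiv_mul]
  have key := central_of_conj D' (bcEquiv (f x ≫ X.hom) _ G (f' ≫ g)) (fun c => ?_) (𝟙_ (Over (U x)))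
    (bcEquiv (f x ≫ X.hom) _ G (f' ≫ h))
  · rw [toUnit_unique (toUnit (𝟙_ (Over (U x)))) (𝟙 _), Category.id_comp] at key
    exact key
  · have hi := H799.Transp.isMaximalTorus_conj D'.maximalTorus c
    obtain ⟨p, h1, h2⟩ := hg (U x) (f x ≫ X.hom) (f x) rfl D'.T (D'.i ≫ conj c) hi
    let t : 𝟙_ (Over (U x)) ⟶ D'.T := Over.homMk p h1
    have h3 : t ≫ D'.i ≫ conj c = bcEquiv (f x ≫ X.hom) _ G (f' ≫ g) := by
      rw [← Equiv.symm_apply_eq]
      apply Over.OverMorphism.ext
      rw [symm_left]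
      change (p ≫ (D'.i ≫ conj c).left) ≫ _ = f x ≫ g.left
      rw [Category.assoc, h2]
    refine ⟨t, ?_⟩
    rw [← h3, ← Category.assoc, comp_conj, toUnit_unique (toUnit (𝟙_ (Over (U x)))) (𝟙 _), Category.id_comp]
    group

/-- a central point is in all the maximal tori -/
theorem inTori_of_central (hG : Red.IsReductive G) {X : Over S} {g : X ⟶ G}
    (hg : ∀ (X' : Over S) (x : X' ⟶ X) (h : X' ⟶ G), (x ≫ g) * h = h * (x ≫ g)) : InTori G g := by
  intro Y f y hy T _ i hi
  subst hy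
  have hc := TorClosed636.isCentralizerOf_self (RedBcAny636.isReductive_bc (y ≫ X.hom) hG) hi
  let y' : (Over.map (y ≫ X.hom)).obj (𝟙_ (Over Y)) ⟶ X := Over.homMk y (by simp)
  obtain ⟨t, ht⟩ := (hc.2.2 (𝟙_ (Over Y)) (bcEquiv (y ≫ X.hom) _ G (y' ≫ g))).mpr (by
    intro X' x h
    obtain ⟨k, hk⟩ := (bcEquiv (y ≫ X.hom) X' G).surjective (h ≫ i)
    rw [← hk, ← comp_bcEquiv, ← bcEquiv_mul, ← bcEquiv_mul, ← Category.assoc, hg])
  refine ⟨t.left, Over.w t, ?_⟩
  have h1 := congrArg (fun z => ((bcEquiv (y ≫ X.hom) _ G).symm z).left) ht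
  simp only [symm_left, Equiv.symm_apply_apply] at h1
  rw [← Category.assoc]
  exact h1

end general

/-- The centre of a reductive group is the intersection of its maximal tori, in the functorial sense.
Let G be a reductive S-group and j : Z ⟶ G its centre. For a point g of G with values in X, g
factors through Z if and only if, for every scheme Y over X and every maximal torus T ⟶ G_Y of the
base change of G to Y, the Y-valued point of G_Y defined by g factors through T. -/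
theorem result {S : Scheme.{u}} {G Z : Over S} [GrpObj G] [GrpObj Z]
    (hG : Red.IsReductive G) (j : Z ⟶ G) (hZ : Red.IsCentre j) (X : Over S) (g : X ⟶ G) :
    (∃ z : X ⟶ Z, z ≫ j = g) ↔
      ∀ (Y : Scheme.{u}) (y : Y ⟶ X.left) (T : Over Y) [GrpObj T] (i : T ⟶ Red.bc (y ≫ X.hom) G),
        Red.IsMaximalTorus i →
          ∃ p : Y ⟶ T.left, p ≫ T.hom = 𝟙 Y ∧
            p ≫ i.left ≫ Limits.pullback.fst G.hom (y ≫ X.hom) = y ≫ g.left := by
  rw [hZ.2.2 X g]
  constructor
  · intro h Y y T _ i hi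
    exact inTori_of_central hG (fun X' x k => by simpa using h X' x k) Y (y ≫ X.hom) y rfl T i hi
  · intro h X' x k
    have h1 : InTori G g := by
      intro Y f y hy T _ i hi
      subst hy
      exact h Y y T i hi
    exact comm_of_inTori hG (h1.comp x) (k ≫ 𝟙 G)

end Groth.Agent.S5511
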