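import Groth.Statements.S5512
import Groth.Agent.Redsub.H673.LocConj
import Groth.Agent.RedSub.H641.TypeRBc
import Groth.Agent.RedSub.H648.TypeR
import Groth.Agent.Sga3B.RG.BrHc2
import Groth.Agent.Sga3.H799.Transp

set_option autoImplicit false
open CategoryTheory MonoidalCategory CartesianMonoidalCategory MonObj GrpObj AlgebraicGeometry
universe u
open RedSub

namespace Groth.Agent.S5512

open Groth.Agent Groth.Agent.Sga3B Groth.Agent.Sga3B.RG

/-- In a smooth connected closed subgroup `H` of `G` over an algebraically closed field containing a maximal torus of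
`G`, every maximal torus of `H` is a maximal torus of `G`. -/
theorem isMaximalTorus_comp {K : Type u} [Field K] [IsAlgClosed K] {G H T T' : Over (Spec (CommRingCat.of K))}
    [GrpObj G] [GrpObj H] [GrpObj T] [GrpObj T'] (i : H ⟶ G) [IsMonHom i] [IsClosedImmersion i.left]
    [IsAffine G.left] [Smooth H.hom] [ConnectedSpace H.left] (t : T ⟶ H) (ht : Red.IsMaximalTorus t)
    (t' : T' ⟶ H) [IsMonHom t'] (ht' : Red.IsMaximalTorus (t' ≫ i)) : Red.IsMaximalTorus (t ≫ i) := by
  have hm : Mono i.left := inferInstance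
  have hm' : Mono i := Over.mono_of_mono_left i
  have hA : IsAffine H.left := isAffine_of_isAffineHom i.left
  have h1 : Red.IsMaximalTorus t' := Redsub.H673.SolvBor.isMaximalTorus_of_comp t' i ht'
  obtain ⟨c, f, hf, hfc⟩ := BrHc2.exists_conj_iso H t t' ht h1
  have hfi : IsMonHom f.inv := inferInstance
  have h2 : (t' ≫ i) ≫ Sga3.H799.Ev.conj (c⁻¹ ≫ i) = f.inv ≫ (t ≫ i) := by
    have h3 : t' = (toUnit T' ≫ c) * (f.inv ≫ t) * (toUnit T' ≫ c)⁻¹ := by
      rw [← BrHc.comp_conjHom, ← hfc, Iso.inv_hom_id_assoc]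
    have h4 : t' ≫ i = (toUnit T' ≫ c ≫ i) * (f.inv ≫ t ≫ i) * (toUnit T' ≫ c ≫ i)⁻¹ := by
      conv_lhs => rw [h3]
      simp only [MonObj.mul_comp, GrpObj.inv_comp, Category.assoc]
    rw [Sga3.H799.Ev.comp_conj, h4, GrpObj.inv_comp, GrpObj.comp_inv]
    group
  have h4 := Sga3.H799.Transp.isMaximalTorus_conj ht' (c⁻¹ ≫ i)
  rw [h2] at h4
  have h5 : Red.IsMaximalTorus (f.inv ≫ (t ≫ i)) := h4
  refine AlgBc.isMaximalTorus_of_arrow (i := f.inv ≫ (t ≫ i)) (Grp.mkIso' f).symm (Iso.refl (Grp.mk G)) ?_ h5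
  change (f.inv ≫ (t ≫ i)) ≫ 𝟙 G = f.inv ≫ (t ≫ i)
  rw [Category.comp_id]

/-- For a reductive S-group G. Let i : H ⟶ G be a subgroup of type (R) and k : K ⟶ H a homomorphism.
Then k is a subgroup of type (R) of H if and only if k ≫ i is a subgroup of type (R) of G. (For H of
type (R) in a reductive G, the Cartan subgroups of the geometric fibres of H are their maximal tori,
which are maximal tori of the geometric fibres of G, so the prelude's notion of type (R) relative to
H is the source's.) -/
theorem result {S : Scheme.{u}} {G H K : Over S} [GrpObj G] [GrpObj H] [GrpObj K]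
    (hG : Red.IsReductive G) (i : H ⟶ G) (hH : RedSub.IsTypeR i) (k : K ⟶ H) [IsMonHom k] :
    RedSub.IsTypeR k ↔ RedSub.IsTypeR (k ≫ i) := by
  obtain ⟨⟨hi1, hi2⟩, hi3, hi4, hi5, hi6⟩ := hH
  have hm : Mono i.left := inferInstance
  have hm' : Mono i := Over.mono_of_mono_left i
  constructor
  · rintro ⟨⟨h1, h2⟩, h3, h4, h5, h6⟩
    refine ⟨⟨inferInstance, ?_⟩, h3, h4, h5, fun s => ?_⟩
    · rw [Over.comp_left]
      infer_instance
    · obtain ⟨T, _, t, ht, htm⟩ := h6 s
      obtain ⟨T', _, t', ht', htm'⟩ := hi6 s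
      refine ⟨T, inferInstance, t, ht, ?_⟩
      rw [Functor.map_comp, ← Category.assoc]
      have e1 : IsClosedImmersion ((Over.pullback (Red.geomPt s)).map i).left :=
        Redsub.H673.RangeLim.isClosedImmersion_field i _ (Red.geomPt s)
      have e2 : IsAffine (Red.geomFibre s G).left := (hG.2.2 s).1
      have e3 : Smooth (Red.geomFibre s H).hom := inferInstanceAs (Smooth (Limits.pullback.snd _ _))
      have e4 : ConnectedSpace (Red.geomFibre s H).left := by
        have := RedSub.H641.TypeRBc.geomIrr_of_conn hi5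
        have h7 : GeometricallyIrreducible (Red.geomFibre s H).hom :=
          MorphismProperty.pullback_snd (P := @GeometricallyIrreducible) _ _ this
        have h8 : IrreducibleSpace (Red.geomFibre s H).left :=
          GeometricallyIrreducible.irreducibleSpace_of_subsingleton (Red.geomFibre s H).hom
        infer_instance
      exact isMaximalTorus_comp ((Over.pullback (Red.geomPt s)).map i)
        (t ≫ (Over.pullback (Red.geomPt s)).map k) htm t' htm'
  · rintro ⟨⟨h1, h2⟩, h3, h4, h5, h6⟩
    refine ⟨⟨inferInstance, ?_⟩, h3, h4, h5, fun s => ?_⟩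
    · rw [Over.comp_left] at h2
      exact MorphismProperty.of_isPullback (P := @IsImmersion) ((IsPullback.of_horiz_isIso ⟨by simp⟩ :
        IsPullback (𝟙 K.left) k.left k.left (𝟙 H.left)).paste_vert (IsKernelPair.id_of_mono i.left)) h2
    · obtain ⟨T, _, t, ht, htm⟩ := h6 s
      refine ⟨T, inferInstance, t, ht, ?_⟩
      rw [Functor.map_comp, ← Category.assoc] at htm
      exact Redsub.H673.SolvBor.isMaximalTorus_of_comp _ _ htm

end Groth.Agent.S5512
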