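import Groth.Statements.S5513
import Groth.Agent.RedSub.K195.LeLoc

set_option autoImplicit false
open CategoryTheory MonoidalCategory CartesianMonoidalCategory MonObj GrpObj AlgebraicGeometry
universe u
open RedSub

namespace Groth.Agent.S5513

/-- Let G be a reductive S-group, T a maximal torus of G, and H, H' two subgroups of type (R) of G
containing T. If at a point s of S the geometric fibre of H is contained in that of H' (inside the
geometric fibre of G), then there is an open neighbourhood U of s such that H_U ⊆ H'_U (the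
inclusion of H_U into G_U factors through H'_U). -/
theorem result {S : Scheme.{u}} {G T H H' : Over S} [GrpObj G] [GrpObj T] [GrpObj H] [GrpObj H']
    (hG : Red.IsReductive G) (i : T ⟶ G) (hT : Red.IsMaximalTorus i) (h : H ⟶ G) (h' : H' ⟶ G)
    (hH : RedSub.IsTypeR h) (hH' : RedSub.IsTypeR h') (t : T ⟶ H) (t' : T ⟶ H') (ht : t ≫ h = i) (ht' : t' ≫ h' = i)
    (s : S) (hs : ∃ f : Red.geomFibre s H ⟶ Red.geomFibre s H',
      f ≫ (Over.pullback (Red.geomPt s)).map h' = (Over.pullback (Red.geomPt s)).map h) :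
    ∃ U : S.Opens, s ∈ U ∧ ∃ f : Red.bc U.ι H ⟶ Red.bc U.ι H',
      f ≫ (Over.pullback U.ι).map h' = (Over.pullback U.ι).map h := by
  obtain ⟨⟨h1, h2⟩, h3, -, h4, -⟩ := hH
  obtain ⟨⟨h1', h2'⟩, h3', -, h4', -⟩ := hH'
  have hm : Mono h'.left := inferInstance
  have hcl := K195.LeLoc.isClopen_locus hG i hT h h' h4 t t' ht ht'
  let U : S.Opens := ⟨K195.Le.locus h h', hcl.isOpen⟩
  refine ⟨U, (K195.Le.leAt_iff_bc h h' (Red.geomPt s)).2 hs, ?_⟩
  have e1 : IsImmersion ((Over.pullback U.ι).map h).left := (Groth.Agent.RedSub.H648.BorBc.isSubgrp_bc U.ι ⟨h1, h2⟩).2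
  have e2 : IsImmersion ((Over.pullback U.ι).map h').left := (Groth.Agent.RedSub.H648.BorBc.isSubgrp_bc U.ι ⟨h1', h2'⟩).2
  have e3 : Smooth (Red.bc U.ι H).hom := inferInstanceAs (Smooth (Limits.pullback.snd _ _))
  have e4 : Smooth (Red.bc U.ι H').hom := inferInstanceAs (Smooth (Limits.pullback.snd _ _))
  refine K195.LeLoc.exists_le_of_locus (Groth.Agent.Sga3B.AlgBc.isReductive_bc U.ι hG) ((Over.pullback U.ι).map i)
    (Groth.Agent.Sga3B.AlgBc.isMaximalTorus_bc U.ι hT) ((Over.pullback U.ι).map h) ((Over.pullback U.ι).map h')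
    (Groth.Agent.RedSub.H648.TypeR.hasConnectedFibres_bc U.ι h4) ((Over.pullback U.ι).map t)
    ((Over.pullback U.ι).map t') (by rw [← Functor.map_comp, ht]) (by rw [← Functor.map_comp, ht']) ?_
  intro u
  rw [K195.Le.locus_bc]
  exact u.2

end Groth.Agent.S5513
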