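import Groth.Statements.S5516
import Groth.Agent.S2958
import Groth.Agent.Sga3B.SplitBc264
import Groth.Agent.Sga3B.SplitIso848
import Groth.Agent.Sga3B.RedBcAny636
import Groth.Agent.Sga3B.MaxTorBc636
import Groth.Agent.Sga3B.Hens.SplitGalOf

set_option autoImplicit false
open CategoryTheory MonoidalCategory CartesianMonoidalCategory MonObj GrpObj AlgebraicGeometry
universe u
open RedSub

namespace Groth.Agent.S5516

/-- Let k be a field and G a reductive k-group. Then there is a finite separable extension K of k over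
which G_K is split: G_K admits a splitting in the sense of the prelude (split maximal torus, root
datum, root homomorphisms). -/
theorem result (k : Type u) [Field k] (G : Over (Spec (CommRingCat.of k))) [GrpObj G]
    (hG : Red.IsReductive G) :
    ∃ (K : Type u) (_ : Field K) (_ : Algebra k K), FiniteDimensional k K ∧ Algebra.IsSeparable k K ∧
      Nonempty (Red.SplitRed (Red.bc (Spec.map (CommRingCat.ofHom (algebraMap k K))) G)) := by
  obtain ⟨U, f, hf, ⟨u, hu⟩, ⟨D⟩⟩ := Groth.Agent.S2958.result G hG default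
  obtain ⟨L, fL, aL, x, hfd, hsep, hx⟩ := Groth.Agent.Sga3B.Hens.SplitGalOf.exists_point k f u
  let D' : Red.SplitRed (Red.bc x (Red.bc f G)) := Groth.Agent.Sga3B.SplitBc264.splitRedBc x D
    (Groth.Agent.Sga3B.RedBcAny636.isReductive_bc x D.reductive)
    (Groth.Agent.Sga3B.MaxTorBc636.isMaximalTorus_bc x D.reductive D.maximalTorus)
  exact ⟨L, fL, aL, hfd, hsep, ⟨Groth.Agent.Sga3B.SplitIso848.splitOfIso
    ((Groth.Agent.Sga3B.BcIso.bcCompIso x f G).symm ≪≫ Groth.Agent.Sga3B.BcIso.bcCongrIso hx G) D'⟩⟩

end Groth.Agent.S5516
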