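import Groth.Statements.S5518
import Groth.Agent.AutFam.K544.SplitHom

set_option autoImplicit false
open CategoryTheory MonoidalCategory CartesianMonoidalCategory MonObj GrpObj AlgebraicGeometry
universe u
open RedSub

namespace Groth.Agent.S5518

/-- Let G be a split reductive S-group with big cell map c : Ω = G_a^{R_-} x_S T x_S G_a^{R_+} ⟶ G, and
f : Ω ⟶ H an S-morphism to an S-group scheme such that f(z) = f(x) f(y) whenever x, y, z are points
of Ω with c(z) = c(x) c(y). Then f extends uniquely to a homomorphism G ⟶ H: there is exactly one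
homomorphism of S-groups whose composite with c is f. (The published statement allows H to be any
fppf sheaf of groups.) -/
theorem result {S : Scheme.{u}} {G H : Over S} [GrpObj G] [GrpObj H] (D : Red.SplitRed G)
    (b : D.P.Base) {n m : ℕ} (eneg : Fin n → D.idx) (epos : Fin m → D.idx)
    (hneg : RedSub.Enumerates (RedSub.negRoots D.P b) eneg) (hpos : RedSub.Enumerates (RedSub.posRoots D.P b) epos)
    (f : RedSub.pow (Red.Ga S) n ⊗ (D.T ⊗ RedSub.pow (Red.Ga S) m) ⟶ H)
    (hf : ∀ (X : Over S) (x y z : X ⟶ RedSub.pow (Red.Ga S) n ⊗ (D.T ⊗ RedSub.pow (Red.Ga S) m)),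
      z ≫ RedSub.cellMap D eneg epos = (x ≫ RedSub.cellMap D eneg epos) * (y ≫ RedSub.cellMap D eneg epos) →
        z ≫ f = (x ≫ f) * (y ≫ f)) :
    ∃! g : G ⟶ H, IsMonHom g ∧ RedSub.cellMap D eneg epos ≫ g = f := by
  have hG : Red.IsReductive G := D.reductive
  have h1 : Smooth G.hom := hG.2.1
  have h2 : GeometricallyIrreducible G.hom := K544.SplitHom.irr_of_isReductive hG
  have h3 : IsOpenImmersion (RedSub.cellMap D eneg epos).left :=
    Groth.Agent.RedSub.H633.CellOpenImm.isOpenImmersion_cellMap_base b hneg hpos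
  have h4 : Surjective (RedSub.pow (Red.Ga S) n ⊗ (D.T ⊗ RedSub.pow (Red.Ga S) m)).hom :=
    K544.SplitHom.surjective_Om D n m
  have hMult : K544.WeilExt.MultOn (RedSub.cellMap D eneg epos) (X := 𝟙_ (Over S))
      (fst (RedSub.pow (Red.Ga S) n ⊗ (D.T ⊗ RedSub.pow (Red.Ga S) m)) (𝟙_ (Over S)) ≫ f) := by
    intro Y x y z t h
    rw [← Category.assoc, ← Category.assoc, ← Category.assoc, lift_fst, lift_fst, lift_fst]
    exact hf Y x y z h
  obtain ⟨ψ, hψ, hψ'⟩ := K544.WeilExt.exists_hom hMult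
  have hk : ∀ (Y : Over S) (g : Y ⟶ G), g ≫ lift (𝟙 G) (toUnit G) ≫ ψ = lift g (toUnit Y) ≫ ψ := by
    intro Y g
    rw [← Category.assoc, comp_lift, Category.comp_id, toUnit_unique (g ≫ toUnit G) (toUnit Y)]
  refine ⟨lift (𝟙 G) (toUnit G) ≫ ψ, ⟨?_, ?_⟩, ?_⟩
  · have hmul : ∀ (Y : Over S) (x y : Y ⟶ G), (x * y) ≫ lift (𝟙 G) (toUnit G) ≫ ψ =
        (x ≫ lift (𝟙 G) (toUnit G) ≫ ψ) * (y ≫ lift (𝟙 G) (toUnit G) ≫ ψ) := by
      intro Y x y
      rw [hk, hk, hk, hψ]
    exact Groth.Agent.Sga3B.IsoFam.isMonHom_of_mul _ hmul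
  · have : RedSub.cellMap D eneg epos ≫ lift (𝟙 G) (toUnit G) ≫ ψ =
        lift (𝟙 _) (toUnit _) ≫ (RedSub.cellMap D eneg epos ▷ 𝟙_ (Over S)) ≫ ψ := by
      rw [hk, ← Category.assoc (lift _ _), lift_whiskerRight, Category.id_comp]
    rw [this, hψ', ← Category.assoc, lift_fst, Category.id_comp]
  · rintro g' ⟨hg', hg''⟩
    have e1 : AutFam.IsHomFamily G H (fst G (𝟙_ (Over S)) ≫ g') := by
      intro X g₁ g₂ t
      simp only [← Category.assoc, lift_fst]
      rw [MonObj.mul_comp]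
    have e2 := K544.WeilExt.hom_ext (j := RedSub.cellMap D eneg epos) e1 hψ (by
      rw [hψ', ← Category.assoc, whiskerRight_fst, Category.assoc, hg''])
    rw [← e2, ← Category.assoc, lift_fst, Category.id_comp]

end Groth.Agent.S5518
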