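import Groth.Statements.S5524
import Groth.Agent.RedSub.K193.Inter
import Groth.Agent.RedSub.K195.Conn
import Groth.Agent.Sga3B.SplitRedField415
import Groth.Agent.Sga3B.BaseZ
import Groth.Agent.RedSub.H637.PosRoots

set_option autoImplicit false
open CategoryTheory MonoidalCategory CartesianMonoidalCategory MonObj GrpObj AlgebraicGeometry
universe u
open RedSub

namespace Groth.Agent.S5524

/-- Let S be connected, G a split reductive S-group (splitting D), H a subgroup of type (R) containing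
the torus T, with root set R'. For a root a, the intersection H ∩ U_a is trivial (a point x of G_a
with u_a(x) ∈ H is the zero point) if and only if a ∉ R'. -/
theorem result {S : Scheme.{u}} [ConnectedSpace S] {G H : Over S} [GrpObj G] [GrpObj H]
    (D : Red.SplitRed G) (h : H ⟶ G) (hH : RedSub.IsTypeR h) (t : D.T ⟶ H) (ht : t ≫ h = D.i) (R' : Set D.idx)
    (hR' : ∀ a : D.idx, (∃ v : Red.Ga S ⟶ H, v ≫ h = D.u a) ↔ a ∈ R') (a : D.idx) :
    (∀ (X : Over S) (x : X ⟶ Red.Ga S) (y : X ⟶ H), x ≫ D.u a = y ≫ h → x = 1) ↔ a ∉ R' := by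
  have hred := Groth.Agent.Sga3B.SplitReduced415.isReduced D
  obtain ⟨⟨h1, h2⟩, h3, -, h4, -⟩ := id hH
  have hm : Mono h.left := inferInstance
  have hm' : Mono h := Over.mono_of_mono_left h
  constructor
  · intro hh ha
    obtain ⟨v, hv⟩ := (hR' a).2 ha
    obtain ⟨s⟩ : Nonempty S := inferInstance
    let x : Over.mk (S.fromSpecResidueField s) ⟶ Red.Ga S := Groth.Agent.Sga3B.GaPts.gaPt _ 1
    have h5 := hh _ x (x ≫ v) (by rw [Category.assoc, hv])
    have h6 := congrArg Red.gaFn h5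
    rw [Groth.Agent.Sga3B.GaPts.gaFn_gaPt, Groth.Agent.Sga3B.GaPts.gaFn_one] at h6
    have : Nontrivial Γ(Spec (S.residueField s), ⊤) :=
      (Scheme.ΓSpecIso (S.residueField s)).commRingCatIsoToRingEquiv.nontrivial
    exact one_ne_zero (α := Γ(Spec (S.residueField s), ⊤)) h6
  · intro ha X x y hxy
    obtain ⟨b⟩ : Nonempty D.P.Base := Groth.Agent.Sga3B.BaseZ.nonempty_base D.P
    obtain ⟨n, eneg, hneg⟩ := Groth.Agent.RedSub.H637.PosRoots.exists_enumerates (R' ∩ RedSub.negRoots D.P b)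
    obtain ⟨m, epos, hpos⟩ := Groth.Agent.RedSub.H637.PosRoots.exists_enumerates (R' ∩ RedSub.posRoots D.P b)
    obtain ⟨F, hF, hF'⟩ := K195.Conn.exists_cell_open D h hH t ht R' hR' b eneg epos hneg hpos
    have hn : ∀ k, eneg k ∈ R' ∩ RedSub.negRoots D.P b := fun k => hneg.2 ▸ ⟨k, rfl⟩
    have hp : ∀ k, epos k ∈ R' ∩ RedSub.posRoots D.P b := fun k => hpos.2 ▸ ⟨k, rfl⟩
    refine Groth.Agent.RedSub.K193.Inter.inter_trivial h t ht b eneg epos hneg.1 (fun k => (hn k).2) hpos.1
      (fun k => (hp k).2) ?_ ?_ F hF x y hxy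
    · rintro k rfl
      exact ha (hn k).1
    · rintro k rfl
      exact ha (hp k).1

end Groth.Agent.S5524
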