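import Groth.Statements.S5525
import Groth.Agent.RedSub.K194.Main1

set_option autoImplicit false
open CategoryTheory MonoidalCategory CartesianMonoidalCategory MonObj GrpObj AlgebraicGeometry
universe u
open RedSub

namespace Groth.Agent.S5525

/-- (i) ⟺ (iii): Let S be connected, G a split reductive S-group (splitting D), H a subgroup of type (R)
of G containing the torus T, with root set R'. Then the geometric fibres of H are solvable if and
only if R' ∩ -R' = ∅. -/
theorem result {S : Scheme.{u}} [ConnectedSpace S] {G H : Over S} [GrpObj G] [GrpObj H]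
    (D : Red.SplitRed G) (h : H ⟶ G) (hH : RedSub.IsTypeR h) (t : D.T ⟶ H) (ht : t ≫ h = D.i) (R' : Set D.idx)
    (hR' : ∀ a : D.idx, (∃ v : Red.Ga S ⟶ H, v ≫ h = D.u a) ↔ a ∈ R') :
    (∀ s : S, Red.IsSolvableGrp (Red.geomFibre s H)) ↔ ∀ a ∈ R', D.P.reflectionPerm a a ∉ R' := by
  constructor
  · intro hs a ha ha'
    obtain ⟨s⟩ := (inferInstance : Nonempty S)
    obtain ⟨b, hb⟩ := K194.Main1.exists_base D h hH t ht (Red.geomPt s) (hs s)
    have h1 := hb a ((hR' a).2 ha)
    have h2 := hb _ ((hR' _).2 ha')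
    exact (RootPairing.Base.IsPos.neg_iff_not b a).1 h2 h1
  · intro hR s
    refine K194.Main1.isSolvableGrp_fibre D h hH t ht (fun a ha ha' => ?_) (Red.geomPt s)
    exact hR a ((hR' a).1 ha) ((hR' _).1 ha')

end Groth.Agent.S5525
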