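import Groth.Statements.S5526
import Groth.Agent.RedSub.K194.Main1

set_option autoImplicit false
open CategoryTheory MonoidalCategory CartesianMonoidalCategory MonObj GrpObj AlgebraicGeometry
universe u
open RedSub

namespace Groth.Agent.S5526

/-- (iii) ⟺ (ii): Let S be connected, G a split reductive S-group (splitting D), H a subgroup of type
(R) containing the torus T, with root set R'. Then R' ∩ -R' = ∅ if and only if R' is contained in a
system of positive roots (so that H is contained in the corresponding Borel subgroup). Note R' need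
not be closed. -/
theorem result {S : Scheme.{u}} [ConnectedSpace S] {G H : Over S} [GrpObj G] [GrpObj H]
    (D : Red.SplitRed G) (h : H ⟶ G) (hH : RedSub.IsTypeR h) (t : D.T ⟶ H) (ht : t ≫ h = D.i) (R' : Set D.idx)
    (hR' : ∀ a : D.idx, (∃ v : Red.Ga S ⟶ H, v ≫ h = D.u a) ↔ a ∈ R') :
    (∀ a ∈ R', D.P.reflectionPerm a a ∉ R') ↔ ∃ b : D.P.Base, R' ⊆ RedSub.posRoots D.P b := by
  constructor
  · intro hR
    obtain ⟨s⟩ := (inferInstance : Nonempty S)
    obtain ⟨b, hb⟩ := K194.Main1.exists_base D h hH t ht (Red.geomPt s)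
      (K194.Main1.isSolvableGrp_fibre D h hH t ht (fun a ha ha' => hR a ((hR' a).1 ha) ((hR' _).1 ha'))
        (Red.geomPt s))
    refine ⟨b, fun a ha => ?_⟩
    rw [Groth.Agent.RedSub.H637.PosRoots.mem_posRoots_iff]
    exact hb a ((hR' a).2 ha)
  · rintro ⟨b, hb⟩ a ha ha'
    have h1 := hb ha
    have h2 := hb ha'
    rw [Groth.Agent.RedSub.H637.PosRoots.mem_posRoots_iff] at h1 h2
    exact (RootPairing.Base.IsPos.neg_iff_not b a).1 h2 h1

end Groth.Agent.S5526
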