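import Groth.Statements.S5528
import Groth.Agent.RedSub.K194.Semi
import Groth.Agent.RedSub.K194.Refl

set_option autoImplicit false
open CategoryTheory MonoidalCategory CartesianMonoidalCategory MonObj GrpObj AlgebraicGeometry
universe u
open RedSub

namespace Groth.Agent.S5528

/-- (i) ⟺ (v): Let S be connected, G a split reductive S-group (splitting D), H a subgroup of type (R)
containing the torus T (with root set R'). Then the geometric fibres of H are solvable if and only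
if H ∩ Norm_G(T) = T: every point of H normalising T lies in T. -/
theorem result {S : Scheme.{u}} [ConnectedSpace S] {G H : Over S} [GrpObj G] [GrpObj H]
    (D : Red.SplitRed G) (h : H ⟶ G) (hH : RedSub.IsTypeR h) (t : D.T ⟶ H) (ht : t ≫ h = D.i) (R' : Set D.idx)
    (hR' : ∀ a : D.idx, (∃ v : Red.Ga S ⟶ H, v ≫ h = D.u a) ↔ a ∈ R') :
    (∀ s : S, Red.IsSolvableGrp (Red.geomFibre s H)) ↔
      ∀ (X : Over S) (x : X ⟶ H),
        (∀ (X' : Over S) (y : X' ⟶ X) (s : X' ⟶ D.T),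
          (∃ s' : X' ⟶ D.T, (y ≫ x ≫ h) * (s ≫ D.i) * (y ≫ x ≫ h)⁻¹ = s' ≫ D.i) ∧
          (∃ s' : X' ⟶ D.T, (y ≫ x ≫ h)⁻¹ * (s ≫ D.i) * (y ≫ x ≫ h) = s' ≫ D.i)) →
        ∃ s : X ⟶ D.T, s ≫ t = x := by
  constructor
  · intro hs X x hx
    exact K194.Semi.exists_torus_of_normalizes D h hH t ht hs X x (fun X' y s => (hx X' y s).1)
  · intro hv s
    refine K194.Main1.isSolvableGrp_fibre D h hH t ht ?_ (Red.geomPt s)
    rintro a ⟨v, hv1⟩ ⟨w, hw1⟩
    have := hH.1.1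
    obtain ⟨n, hn⟩ := D.refl a
    obtain ⟨x, y, z, τ, he⟩ := K194.Refl.exists_refl_eq (Red.geomPt s) (D := D) (a := a) hn
    have hq : ((x ≫ v) * (y ≫ w) * (z ≫ v) * (τ ≫ t)) ≫ h = toUnit _ ≫ n := by
      rw [he]
      simp only [MonObj.mul_comp, Category.assoc, hv1, hw1, ht]
    obtain ⟨τ', hτ'⟩ := hv _ ((x ≫ v) * (y ≫ w) * (z ≫ v) * (τ ≫ t)) (by
      intro X' y σ
      rw [hq, ← Category.assoc, toUnit_unique (y ≫ toUnit _) (toUnit X')]
      exact ⟨⟨σ ≫ D.split.hom.hom.hom ≫ Red.DSmap S (D.P.reflection a).toLinearMap.toAddMonoidHom ≫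
        D.split.inv.hom.hom, by simpa using hn X' σ⟩, K194.Refl.IsRefl.exists_inv hn X' σ⟩)
    refine K194.Refl.refl_ne (Red.geomPt s) (D := D) (a := a) hn τ' ?_
    rw [← hq, ← hτ', Category.assoc, ht]

end Groth.Agent.S5528
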