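import Groth.Statements.S5530
import Groth.Agent.RedSub.K194.Final
import Groth.Agent.S5573

set_option autoImplicit false
open CategoryTheory MonoidalCategory CartesianMonoidalCategory MonObj GrpObj AlgebraicGeometry
universe u
open RedSub

namespace Groth.Agent.S5530

/-- Let G be a reductive S-group. The functor of subgroups of type (R) of G is representable by an
S-scheme M which is quasi-projective and of finite presentation over S: there is a universal
subgroup of type (R) of G_M such that every subgroup of type (R) of a base change G_{S'} has the
same points as its pullback along exactly one S-morphism S' ⟶ M; M is locally of finite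
presentation, quasi-compact and quasi-separated over S, and Zariski-locally on S an immersed
subscheme of a projective space over the base. -/
theorem result {S : Scheme.{u}} (G : Over S) [GrpObj G]
    (hG : Red.IsReductive G) :
    ∃ (M : Over S) (H : Over M.left) (_ : GrpObj H) (h : H ⟶ Red.bc M.hom G), RedSub.IsTypeR h ∧
      (∀ (S' : Scheme.{u}) (f : S' ⟶ S) (H' : Over S') [GrpObj H'] (h' : H' ⟶ Red.bc f G), RedSub.IsTypeR h' →
        ∃! g : S' ⟶ M.left, g ≫ M.hom = f ∧ RedSub.SamePoints G f h' M h g) ∧
      LocallyOfFinitePresentation M.hom ∧ QuasiCompact M.hom ∧ QuasiSeparated M.hom ∧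
      RedSub.IsLocallyQuasiProjective M := by
  exact K194.Final.main (fun {_ _ _} _ _ hG h hH hRC => (Groth.Agent.S5573.result hG h hH hRC).1) G hG

end Groth.Agent.S5530
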