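import Groth.Statements.S5533
-- import your own Groth.Agent.* helpers here
import Groth.Agent.RedSub.K197.RadDer

set_option autoImplicit false
open CategoryTheory MonoidalCategory CartesianMonoidalCategory MonObj GrpObj AlgebraicGeometry
universe u
open RedSub

namespace Groth.Agent.S5533

/-- Let G be a reductive S-group, D = dér(G) ⟶ G its derived group (the kernel of a homomorphism to a
commutative S-group scheme which is killed by every homomorphism from G to a commutative S-group
scheme) and R = rad(G) the maximal torus of the centre of G. Then the multiplication morphism R x_S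
D ⟶ G is an isogeny: it is surjective, flat and finite. -/
theorem result {S : Scheme.{u}} {G D Z R : Over S} [GrpObj G] [GrpObj D] [GrpObj Z]
    [GrpObj R] (hG : Red.IsReductive G) (d : D ⟶ G) [IsMonHom d]
    (hker : ∃ (C : Over S) (_ : GrpObj C) (f₀ : G ⟶ C), IsMonHom f₀ ∧ (∀ (X : Over S) (a b : X ⟶ C), a * b = b * a) ∧
      AlgGrp.IsKernel d f₀)
    (hkill : RedSub.KilledByCommutative d)
    (j : Z ⟶ G) (hZ : Red.IsCentre j) (r : R ⟶ Z) (hR : Red.IsMaximalTorus r) :
    Surjective (((r ≫ j) ⊗ₘ d) ≫ μ[G]).left ∧ Flat (((r ≫ j) ⊗ₘ d) ≫ μ[G]).left ∧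
      IsFinite (((r ≫ j) ⊗ₘ d) ≫ μ[G]).left := by
  exact (K197.Isog.isIsog_iff _).1 (K197.RadDer.isog_mul hG d hker hkill j hZ r hR)

end Groth.Agent.S5533
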