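import Groth.Statements.S5534
-- import your own Groth.Agent.* helpers here
import Groth.Agent.RedSub.K197.DerCent

set_option autoImplicit false
open CategoryTheory MonoidalCategory CartesianMonoidalCategory MonObj GrpObj AlgebraicGeometry
universe u
open RedSub

namespace Groth.Agent.S5534

/-- Let G be a reductive S-group and D = dér(G) ⟶ G its derived group. (a) For every maximal torus T of
G, the intersection T ∩ D (a fibre product T' with T' ⟶ T, T' ⟶ D homomorphisms) is a maximal torus
of D. (b) For every maximal torus T' of D, the centraliser of T' in G is representable by a maximal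
torus of G. These two constructions are inverse bijections between maximal tori of G and of D. -/
theorem result {S : Scheme.{u}} {G D : Over S} [GrpObj G] [GrpObj D]
    (hG : Red.IsReductive G) (d : D ⟶ G) [IsMonHom d]
    (hker : ∃ (C : Over S) (_ : GrpObj C) (f₀ : G ⟶ C), IsMonHom f₀ ∧ (∀ (X : Over S) (a b : X ⟶ C), a * b = b * a) ∧
      AlgGrp.IsKernel d f₀)
    (hkill : RedSub.KilledByCommutative d) :
    (∀ (T T' : Over S) [GrpObj T] [GrpObj T'] (i : T ⟶ G) (a : T' ⟶ T) (b : T' ⟶ D) [IsMonHom a] [IsMonHom b],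
        Red.IsMaximalTorus i → IsPullback a b i d → Red.IsMaximalTorus b) ∧
    (∀ (T' : Over S) [GrpObj T'] (b : T' ⟶ D), Red.IsMaximalTorus b →
        ∃ (T : Over S) (_ : GrpObj T) (i : T ⟶ G), Red.IsCentralizerOf (b ≫ d) i ∧ Red.IsMaximalTorus i) := by
  obtain ⟨C, _, f₀, _, hC, hk⟩ := hker
  obtain ⟨C₁, _, q, hq, ⟨L⟩⟩ := Groth.Agent.RedSub.H654.Coradical.exists_LQ hG
  have hd := K197.Corad.isKernel_of L hC hk hkill
  exact ⟨fun T T' _ _ i a b _ _ hi hsq => K197.DerTorus.isMaximalTorus_inter L hd hi hsq hG,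
    fun T' _ b hb => K197.DerCent.exists_cent hG L hd hb⟩

end Groth.Agent.S5534
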