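import Groth.Statements.S5535
-- import your own Groth.Agent.* helpers here
import Groth.Agent.RedSub.K197.BorDer

set_option autoImplicit false
open CategoryTheory MonoidalCategory CartesianMonoidalCategory MonObj GrpObj AlgebraicGeometry
universe u
open RedSub

namespace Groth.Agent.S5535

/-- Let G be a reductive S-group and D = dér(G) ⟶ G its derived group. (a) For every Borel subgroup B of
G, B ∩ D (a fibre product B' with homomorphisms B' ⟶ B, B' ⟶ D) is a Borel subgroup of D. (b) For
every Borel subgroup B' of D, the normaliser of B' in G is representable by a Borel subgroup of G. -/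
theorem result {S : Scheme.{u}} {G D : Over S} [GrpObj G] [GrpObj D]
    (hG : Red.IsReductive G) (d : D ⟶ G) [IsMonHom d]
    (hker : ∃ (C : Over S) (_ : GrpObj C) (f₀ : G ⟶ C), IsMonHom f₀ ∧ (∀ (X : Over S) (a b : X ⟶ C), a * b = b * a) ∧
      AlgGrp.IsKernel d f₀)
    (hkill : RedSub.KilledByCommutative d) :
    (∀ (B B' : Over S) [GrpObj B] [GrpObj B'] (i : B ⟶ G) (a : B' ⟶ B) (b : B' ⟶ D) [IsMonHom a] [IsMonHom b],
        Red.IsBorel i → IsPullback a b i d → Red.IsBorel b) ∧
    (∀ (B' : Over S) [GrpObj B'] (b : B' ⟶ D), Red.IsBorel b →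
        ∃ (B : Over S) (_ : GrpObj B) (i : B ⟶ G), Red.IsNormalizerOf (b ≫ d) i ∧ Red.IsBorel i) := by
  obtain ⟨C, _, f₀, _, hC, hk⟩ := hker
  obtain ⟨C₁, _, q, hq, ⟨L⟩⟩ := Groth.Agent.RedSub.H654.Coradical.exists_LQ hG
  have hd := K197.Corad.isKernel_of L hC hk hkill
  exact ⟨fun B B' _ _ i a b _ _ hi hsq => K197.BorDer.isBorel_inter hG L hd hi hsq,
    fun B' _ b hb => K197.BorDer.exists_norm hG L hd hb⟩

end Groth.Agent.S5535
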