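import Groth.Statements.S5539
import Groth.Agent.Par.K546.GenPos

set_option autoImplicit false
open CategoryTheory MonoidalCategory CartesianMonoidalCategory MonObj GrpObj AlgebraicGeometry
universe u
open RedSub

namespace Groth.Agent.S5539

/-- Let G be a reductive S-group and B, B' two Borel subgroups of G. If the geometric fibres of B and B'
at a point s are in general position (their intersection is a maximal torus of the geometric fibre
of G), then there is an open neighbourhood V of s such that B_V and B'_V are in general position: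
B_V ∩ B'_V is a maximal torus of G_V. -/
theorem result {S : Scheme.{u}} {G B B' : Over S} [GrpObj G] [GrpObj B] [GrpObj B']
    (hG : Red.IsReductive G) (i : B ⟶ G) (i' : B' ⟶ G) (hB : Red.IsBorel i) (hB' : Red.IsBorel i') (s : S)
    (hs : ∃ (T : Over (Spec (CommRingCat.of (AlgebraicClosure (S.residueField s))))) (_ : GrpObj T)
      (t : T ⟶ Red.geomFibre s B) (t' : T ⟶ Red.geomFibre s B'), IsMonHom t ∧
        IsPullback t t' ((Over.pullback (Red.geomPt s)).map i) ((Over.pullback (Red.geomPt s)).map i') ∧
        Red.IsMaximalTorus (t ≫ (Over.pullback (Red.geomPt s)).map i)) :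
    ∃ V : S.Opens, s ∈ V ∧ ∃ (T : Over (V : Scheme.{u})) (_ : GrpObj T) (t : T ⟶ Red.bc V.ι B) (t' : T ⟶ Red.bc V.ι B'),
      IsMonHom t ∧ IsPullback t t' ((Over.pullback V.ι).map i) ((Over.pullback V.ι).map i') ∧
        Red.IsMaximalTorus (t ≫ (Over.pullback V.ι).map i) := by
  exact K546.GenPos.exists_nhd hG i i' hB hB' (K546.GenPos.denseAt_of_geom hG hB hB' s hs)

end Groth.Agent.S5539
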