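import Groth.Statements.S5540
import Groth.Agent.RedSub.K195.LeLoc

set_option autoImplicit false
open CategoryTheory MonoidalCategory CartesianMonoidalCategory MonObj GrpObj AlgebraicGeometry
universe u
open RedSub

namespace Groth.Agent.S5540

open Groth.Agent.RedSub Groth.Agent.Sga3B K195.Le

lemma exists_le_bc {S : Scheme.{u}} {G T H H' : Over S} [GrpObj G] [GrpObj T] [GrpObj H] [GrpObj H']
    (hG : Red.IsReductive G) (i : T ⟶ G) (hT : Red.IsMaximalTorus i) (h : H ⟶ G) (h' : H' ⟶ G)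
    (hH : RedSub.IsTypeR h) (hH' : RedSub.IsTypeR h') (t : T ⟶ H) (t' : T ⟶ H') (ht : t ≫ h = i) (ht' : t' ≫ h' = i)
    (V : S.Opens) (hV : ∀ s ∈ V, s ∈ locus h h') : LeAt h h' V.ι := by
  have e1 := (H648.BorBc.isSubgrp_bc V.ι hH.1)
  have e2 := (H648.BorBc.isSubgrp_bc V.ι hH'.1)
  have i1 := e1.1
  have i2 := e2.1
  have i3 := e1.2
  have i4 := e2.2
  have j1 := hH.2.1
  have j2 := hH'.2.1
  have e3 : Smooth (Red.bc V.ι H).hom := inferInstanceAs (Smooth (Limits.pullback.snd _ _))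
  have e4 : Smooth (Red.bc V.ι H').hom := inferInstanceAs (Smooth (Limits.pullback.snd _ _))
  have j5 := hH'.1.2
  rw [leAt_iff_bc]
  refine K195.LeLoc.exists_le_of_locus (AlgBc.isReductive_bc V.ι hG) ((Over.pullback V.ι).map i)
    (AlgBc.isMaximalTorus_bc V.ι hT) _ _ (H648.TypeR.hasConnectedFibres_bc V.ι hH.2.2.2.1)
    ((Over.pullback V.ι).map t) ((Over.pullback V.ι).map t') ?_ ?_ fun s => ?_
  · rw [← Functor.map_comp, ht]
  · rw [← Functor.map_comp, ht']
  · rw [locus_bc]
    exact hV _ s.2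

/-- For a reductive S-group G. Let T be a maximal torus of G and H, H' two subgroups of type (R) of G
containing T. Then the set U of points of S where the geometric fibres of H and H' coincide inside
that of G is open and closed, and H_U = H'_U as subgroups of G_U. -/
theorem result {S : Scheme.{u}} {G T H H' : Over S} [GrpObj G] [GrpObj T] [GrpObj H] [GrpObj H']
    (hG : Red.IsReductive G) (i : T ⟶ G) (hT : Red.IsMaximalTorus i) (h : H ⟶ G) (h' : H' ⟶ G)
    (hH : RedSub.IsTypeR h) (hH' : RedSub.IsTypeR h') (t : T ⟶ H) (t' : T ⟶ H') (ht : t ≫ h = i) (ht' : t' ≫ h' = i) :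
    IsClopen {s : S | ∃ e : Red.geomFibre s H ≅ Red.geomFibre s H',
        e.hom ≫ (Over.pullback (Red.geomPt s)).map h' = (Over.pullback (Red.geomPt s)).map h} ∧
      ∀ (V : S.Opens), (∀ s ∈ V, ∃ e : Red.geomFibre s H ≅ Red.geomFibre s H',
          e.hom ≫ (Over.pullback (Red.geomPt s)).map h' = (Over.pullback (Red.geomPt s)).map h) →
        ∃ e : Red.bc V.ι H ≅ Red.bc V.ι H', e.hom ≫ (Over.pullback V.ι).map h' = (Over.pullback V.ι).map h := by
  have i1 := hH.1.1
  have i2 := hH'.1.1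
  have i3 := hH.1.2
  have i4 := hH'.1.2
  have j1 := hH.2.1
  have j2 := hH'.2.1
  have hset : {s : S | ∃ e : Red.geomFibre s H ≅ Red.geomFibre s H',
        e.hom ≫ (Over.pullback (Red.geomPt s)).map h' = (Over.pullback (Red.geomPt s)).map h} =
      locus h h' ∩ locus h' h := by
    ext s
    exact K195.LeLoc.iso_iff_leAt h h' (Red.geomPt s)
  refine ⟨?_, fun V hV => ?_⟩
  · rw [hset]
    exact (K195.LeLoc.isClopen_locus hG i hT h h' hH.2.2.2.1 t t' ht ht').inter
      (K195.LeLoc.isClopen_locus hG i hT h' h hH'.2.2.2.1 t' t ht' ht)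
  · rw [K195.LeLoc.iso_iff_leAt]
    have h1 : ∀ s ∈ V, s ∈ locus h h' ∩ locus h' h := fun s hs => by
      rw [← hset]
      exact hV s hs
    exact ⟨exists_le_bc hG i hT h h' hH hH' t t' ht ht' V fun s hs => (h1 s hs).1,
      exists_le_bc hG i hT h' h hH' hH t' t ht' ht V fun s hs => (h1 s hs).2⟩

end Groth.Agent.S5540
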