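import Groth.Statements.S5547
import Groth.Agent.RedSub.K195.MultQuot

set_option autoImplicit false
open CategoryTheory MonoidalCategory CartesianMonoidalCategory MonObj GrpObj AlgebraicGeometry
universe u
open RedSub

namespace Groth.Agent.S5547

/-- Let G be a reductive S-group and q : Q ⟶ G a normal subgroup scheme of multiplicative type (and of
finite type). Then Q is central in G, and the quotient G/Q is representable by a reductive S-group.
(The last assertion of the source, that G ⟶ G/Q is locally splittable with radicial exponents 1, is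
not stated.) -/
theorem result {S : Scheme.{u}} {G Q : Over S} [GrpObj G] [GrpObj Q]
    (hG : Red.IsReductive G) (q : Q ⟶ G) [IsMonHom q] [Mono q] (hnorm : AlgGrp.IsNormalHom q)
    (hQ : SGA3x.IsMultTypeFT Q) :
    (∀ (X X' : Over S) (x : X ⟶ Q) (y : X' ⟶ X) (g : X' ⟶ G), (y ≫ x ≫ q) * g = g * (y ≫ x ≫ q)) ∧
      ∃ (G' : Over S) (_ : GrpObj G') (p : G ⟶ G'), IsMonHom p ∧ RedSub.IsQuotient q p ∧ Red.IsReductive G' :=
  K195.MultQuot.main hG q hnorm hQ

end Groth.Agent.S5547
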