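import Groth.Statements.S5548
import Groth.Agent.RedSub.K195.SameRank

set_option autoImplicit false
open CategoryTheory MonoidalCategory CartesianMonoidalCategory MonObj GrpObj AlgebraicGeometry
universe u
open RedSub

namespace Groth.Agent.S5548

/-- Let G be a reductive S-group and k : H ⟶ G a sub-group-scheme with H a reductive S-group whose
geometric fibres have the same reductive rank as those of G. Then H is closed in G, the normaliser N
of H in G is representable by a closed subgroup scheme smooth over S, and the fppf quotient N/H is
representable by a finite etale S-scheme. -/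
theorem result {S : Scheme.{u}} {G H : Over S} [GrpObj G] [GrpObj H]
    (hG : Red.IsReductive G) (k : H ⟶ G) (hk : RedSub.IsSubgrp k) (hH : Red.IsReductive H)
    (hrank : ∀ (s : S) (r : WithBot ℕ∞), SGA3x.HasRedRank G s r ↔ SGA3x.HasRedRank H s r) :
    IsClosedImmersion k.left ∧
      ∃ (N : Over S) (_ : GrpObj N) (n : N ⟶ G) (kN : H ⟶ N), Red.IsNormalizerOf k n ∧ IsClosedImmersion n.left ∧
        Smooth N.hom ∧ kN ≫ n = k ∧ IsMonHom kN ∧
        ∃ (Q : Over S) (p : N ⟶ Q), RedSub.IsQuotient kN p ∧ IsFinite Q.hom ∧ Etale Q.hom := by
  exact K195.SameRank.main hG k hk hH hrank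

end Groth.Agent.S5548
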