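import Groth.Statements.S5555
-- import your own Groth.Agent.* helpers here
import Groth.Agent.RedSub.K196.AdKerMain

set_option autoImplicit false
open CategoryTheory MonoidalCategory CartesianMonoidalCategory MonObj GrpObj AlgebraicGeometry
universe u
open RedSub

namespace Groth.Agent.S5555

/-- Ker(Ad) = Centr(G). Let G be a reductive S-group, T = Spec B an affine S-scheme and g a T-point of
G. Then g is central in G (it commutes with all points of G after every base change) if and only if
Ad(g) is the identity on Lie(G/S)(T') for every affine T' = Spec B' over T. -/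
theorem result {S : Scheme.{u}} (G : Over S) [GrpObj G] (hG : Red.IsReductive G)
    (B : Type u) [CommRing B] (f : Spec (CommRingCat.of B) ⟶ S) (g : LieS.pt B f ⟶ G) :
    (∀ (X' : Over S) (x : X' ⟶ LieS.pt B f) (k : X' ⟶ G), (x ≫ g) * k = k * (x ≫ g)) ↔
      ∀ (B' : Type u) [CommRing B'] (φ : B →+* B')
        (v : ↥(LieS.Lie G B' (Spec.map (CommRingCat.ofHom φ) ≫ f))),
        LieS.Ad G B' (Spec.map (CommRingCat.ofHom φ) ≫ f) (LieS.ptMap f φ ≫ g) v = v := by
  constructor
  · intro h B' _ φ v
    apply Subtype.ext
    rw [LieWt.Ad_val, mul_inv_eq_iff_eq_mul]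
    have h1 := h _ (LieS.proj B' (Spec.map (CommRingCat.ofHom φ) ≫ f) ≫ LieS.ptMap f φ) v.1
    rwa [Category.assoc] at h1
  · intro h X' x k
    have ht : K196.AdKer.Triv g := by
      intro C _ f' y w hw
      obtain ⟨φ, hφ⟩ := Spec.map_surjective (R := CommRingCat.of B) (S := CommRingCat.of C) y.left
      have hf' : Spec.map φ ≫ f = f' := by
        rw [hφ]
        exact Over.w y
      subst hf'
      have h1 := congrArg Subtype.val (h C φ.hom ⟨w, hw⟩)
      rw [LieWt.Ad_val, mul_inv_eq_iff_eq_mul] at h1
      have h2 : LieS.ptMap f φ.hom = y := by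
        ext1
        exact hφ
      rw [h2] at h1
      exact h1
    exact K196.AdKer.central_of_triv hG (x ≫ g) (ht.comp x) k

end Groth.Agent.S5555
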