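import Groth.Statements.S5556
import Groth.Agent.RedSub.K196.TorLoc
import Groth.Agent.RedSub.K196.LieTg

set_option autoImplicit false
open CategoryTheory MonoidalCategory CartesianMonoidalCategory MonObj GrpObj AlgebraicGeometry
universe u
open RedSub

namespace Groth.Agent.S5556

/-- For a reductive S-group G. Let T be a maximal torus and H, H' two subgroups of type (R) of G
containing T. Then H = H' if and only if 𝔥 = 𝔥': H and H' coincide as subgroups of G (an isomorphism
over G) if and only if, for every affine S-scheme Spec B, Lie(H/S)(Spec B) and Lie(H'/S)(Spec B)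
have the same image in Lie(G/S)(Spec B). -/
theorem result {S : Scheme.{u}} {G T H H' : Over S} [GrpObj G] [GrpObj T] [GrpObj H] [GrpObj H']
    (hG : Red.IsReductive G) (i : T ⟶ G) (hT : Red.IsMaximalTorus i) (h : H ⟶ G) (h' : H' ⟶ G) [IsMonHom h]
    [IsMonHom h'] (hH : RedSub.IsTypeR h) (hH' : RedSub.IsTypeR h') (t : T ⟶ H) (t' : T ⟶ H') (ht : t ≫ h = i)
    (ht' : t' ≫ h' = i) :
    (∃ e : H ≅ H', e.hom ≫ h' = h) ↔
      ∀ (B : Type u) [CommRing B] (f : Spec (CommRingCat.of B) ⟶ S),
        (LieS.map B f h).range = (LieS.map B f h').range := by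
  have hi : IsImmersion h.left := hH.1.2
  have hi' : IsImmersion h'.left := hH'.1.2
  have hm : Mono h := Over.mono_of_mono_left h
  have hm' : Mono h' := Over.mono_of_mono_left h'
  constructor
  · rintro ⟨e, he⟩ B _ f
    apply le_antisymm
    · exact K196.LieTg.range_le_of_le h h' e.hom he B f
    · refine K196.LieTg.range_le_of_le h' h e.inv ?_ B f
      rw [← he, e.inv_hom_id_assoc]
  · intro hL
    obtain ⟨v, hv⟩ := K196.TorLoc.exists_le hG hT h h' hH hH' t t' ht ht'
      (fun U f _ D _ _ a K _ x => K196.LieTg.tg_of_range_le h h' f D a K x (hL K (x ≫ f)).le)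
    obtain ⟨w, hw⟩ := K196.TorLoc.exists_le hG hT h' h hH' hH t' t ht' ht
      (fun U f _ D _ _ a K _ x => K196.LieTg.tg_of_range_le h' h f D a K x (hL K (x ≫ f)).ge)
    refine ⟨⟨v, w, ?_, ?_⟩, hv⟩
    · rw [← cancel_mono h, Category.assoc, hw, hv, Category.id_comp]
    · rw [← cancel_mono h', Category.assoc, hv, hw, Category.id_comp]

end Groth.Agent.S5556
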