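import Groth.Statements.S5557
-- import your own Groth.Agent.* helpers here
import Groth.Agent.RedSub.K196.AdjCent
import Groth.Agent.S5547
import Groth.Agent.S5510
import Groth.Agent.S4148

set_option autoImplicit false
open CategoryTheory MonoidalCategory CartesianMonoidalCategory MonObj GrpObj AlgebraicGeometry
universe u
open RedSub

namespace Groth.Agent.S5557

/-- Let G be a reductive S-group with centre j : Z ⟶ G. Then the quotient G/Z is representable by a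
reductive S-group whose centre is trivial (an adjoint group). -/
theorem result {S : Scheme.{u}} {G Z : Over S} [GrpObj G] [GrpObj Z] (hG : Red.IsReductive G)
    (j : Z ⟶ G) (hZ : Red.IsCentre j) :
    ∃ (G' : Over S) (_ : GrpObj G') (q : G ⟶ G'), IsMonHom q ∧ RedSub.IsQuotient j q ∧ Red.IsReductive G' ∧
      ∀ (X : Over S) (g : X ⟶ G'), (∀ (X' : Over S) (x : X' ⟶ X) (h : X' ⟶ G'), (x ≫ g) * h = h * (x ≫ g)) →
        g = 1 := by
  obtain ⟨Z₀, _, j₀, hZ₀, -, hmt⟩ := Groth.Agent.S5510.result G hG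
  obtain ⟨R, _, r, hR, -⟩ := Groth.Agent.S4148.result S Z₀ hmt
  have hm : IsMonHom j₀ := hZ₀.1
  have hmo : Mono j₀ := hZ₀.2.1
  have hj : IsMonHom j := hZ.1
  have hjm : Mono j := hZ.2.1
  obtain ⟨-, G', _, p, hp, hq, hG'⟩ := Groth.Agent.S5547.result hG j₀ (fun T g n => by
    refine ⟨n, ?_⟩
    rw [← K196.AdjCent.centre_comm j₀ hZ₀ n g, mul_inv_cancel_right]) hmt
  have hq' : RedSub.IsQuotient j p := by
    obtain ⟨a, ha⟩ := (hZ₀.2.2 Z j).2 ((hZ.2.2 Z j).1 ⟨𝟙 _, Category.id_comp _⟩)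
    obtain ⟨b, hb⟩ := (hZ.2.2 Z₀ j₀).2 ((hZ₀.2.2 Z₀ j₀).1 ⟨𝟙 _, Category.id_comp _⟩)
    have h1 : a ≫ b = 𝟙 _ := by rw [← cancel_mono j, Category.assoc, hb, ha, Category.id_comp]
    have h2 : b ≫ a = 𝟙 _ := by rw [← cancel_mono j₀, Category.assoc, ha, hb, Category.id_comp]
    let e : Z ≅ Z₀ := ⟨a, b, h1, h2⟩
    refine ⟨hq.1, hq.2.1, hq.2.2.1, ?_⟩
    refine CategoryTheory.IsPullback.of_iso hq.2.2.2 (whiskerLeftIso G e.symm) (Iso.refl _) (Iso.refl _)
      (Iso.refl _) ?_ ?_ ?_ ?_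
    · simp
    · rw [Iso.refl_hom, Category.comp_id, whiskerLeftIso_hom, ← Category.assoc, ← whiskerLeft_comp]
      rw [show e.symm.hom ≫ j = j₀ from hb]
    · simp
    · simp
  exact ⟨G', inferInstance, p, hp, hq', hG', fun X g h =>
    K196.AdjCent.eq_one_of_central hG j₀ hZ₀ r hR p hq X g h⟩

end Groth.Agent.S5557
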