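import Groth.Statements.S5558
-- import your own Groth.Agent.* helpers here
import Groth.Agent.RedSub.K197.RadDer

set_option autoImplicit false
open CategoryTheory MonoidalCategory CartesianMonoidalCategory MonObj GrpObj AlgebraicGeometry
universe u
open RedSub

namespace Groth.Agent.S5558

/-- (ii) ⟺ (iv): Let G be a reductive S-group with derived group D = dér(G) ⟶ G and radical R = rad(G)
(maximal torus of the centre). Then multiplication R x_S D ⟶ G is an isomorphism if and only if R ∩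
D = e. -/
theorem result {S : Scheme.{u}} {G D Z R : Over S} [GrpObj G] [GrpObj D]
    [GrpObj Z] [GrpObj R] (hG : Red.IsReductive G) (d : D ⟶ G) [IsMonHom d]
    (hker : ∃ (C : Over S) (_ : GrpObj C) (f₀ : G ⟶ C), IsMonHom f₀ ∧ (∀ (X : Over S) (a b : X ⟶ C), a * b = b * a) ∧
      AlgGrp.IsKernel d f₀)
    (hkill : RedSub.KilledByCommutative d)
    (j : Z ⟶ G) (hZ : Red.IsCentre j) (r : R ⟶ Z) (hR : Red.IsMaximalTorus r) :
    IsIso (((r ≫ j) ⊗ₘ d) ≫ μ[G]) ↔
      ∀ (X : Over S) (x : X ⟶ R) (y : X ⟶ D), x ≫ r ≫ j = y ≫ d → x = 1 := by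
  have hj : IsMonHom j := hZ.1
  have hr : IsMonHom r := hR.1
  have hjm : Mono j := hZ.2.1
  have hrm : Mono r := hR.2.1
  constructor
  · intro hiso X x y hxy
    have h1 : lift x y⁻¹ ≫ ((r ≫ j) ⊗ₘ d) ≫ μ[G] = lift 1 1 ≫ ((r ≫ j) ⊗ₘ d) ≫ μ[G] := by
      rw [K197.RadDer.tensorHom_mul, MonObj.comp_mul, MonObj.comp_mul]
      simp only [lift_fst_assoc, lift_snd_assoc]
      rw [hxy, GrpObj.inv_comp, mul_inv_cancel, MonObj.one_comp, MonObj.one_comp, _root_.mul_one]
    have h2 := (cancel_mono (((r ≫ j) ⊗ₘ d) ≫ μ[G])).1 h1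
    have h3 := congrArg (fun t => t ≫ fst _ _) h2
    simpa using h3
  · intro h
    have hm : Mono (((r ≫ j) ⊗ₘ d) ≫ μ[G]) := by
      constructor
      intro X a a' haa
      rw [K197.RadDer.tensorHom_mul] at haa
      have e : ∀ b : X ⟶ R ⊗ D, b ≫ ((fst _ _ ≫ r ≫ j) * (snd _ _ ≫ d)) =
        ((b ≫ fst _ _) ≫ r ≫ j) * ((b ≫ snd _ _) ≫ d) := fun b => by
          rw [MonObj.comp_mul b]
          simp only [Category.assoc]
      rw [e, e] at haa
      have h1 : ((a' ≫ fst _ _)⁻¹ * (a ≫ fst _ _)) ≫ r ≫ j =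
          ((a' ≫ snd _ _) * (a ≫ snd _ _)⁻¹) ≫ d := by
        rw [MonObj.mul_comp, MonObj.mul_comp, GrpObj.inv_comp, GrpObj.inv_comp,
          inv_mul_eq_iff_eq_mul, ← _root_.mul_assoc, eq_mul_inv_iff_mul_eq, haa]
      have h2 := h X _ _ h1
      rw [inv_mul_eq_one] at h2
      have h3 : a ≫ fst _ _ = a' ≫ fst _ _ := h2.symm
      apply CartesianMonoidalCategory.hom_ext
      · exact h3
      · rw [h3] at haa
        obtain ⟨C, _, f₀, _, hC, hk⟩ := hker
        have hdm := K197.SecKer.mono_of_isKernel hk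
        exact (cancel_mono d).1 (mul_left_cancel haa)
    exact K197.RadDer.isIso_of_isog_mono _ (K197.RadDer.isog_mul hG d hker hkill j hZ r hR)

end Groth.Agent.S5558
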