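import Groth.Statements.S8493
import Groth.Agent.S3977
import Groth.Agent.Par.K545.VecSec

set_option autoImplicit false
open CategoryTheory MonoidalCategory CartesianMonoidalCategory MonObj GrpObj AlgebraicGeometry
universe u
open Par

namespace Groth.Agent.S8493

/-- Let A be a semi-local ring (finitely many maximal ideals), S = Spec A, G a reductive S-group, P a
parabolic subgroup of G and U the unipotent radical of P. Then the canonical map from U(S) to the
product of the U(Spec κ(s)) over the closed points s of S is surjective: any family of κ(s)-valued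
points of U, one for each closed point s, comes from one section of U over S. -/
theorem result {A : Type u} [CommRing A]
    (hA : {m : Ideal A | m.IsMaximal}.Finite) {G P U : Over (Spec (CommRingCat.of A))} [GrpObj G] [GrpObj P] [GrpObj U]
    (hG : Red.IsReductive G) (p : P ⟶ G) (hP : Red.IsParabolic p) (uU : U ⟶ P) (hU : Par.IsUnipotentRadical uU)
    (x : ∀ m : MaximalSpectrum A,
      Over.mk (Spec.map (CommRingCat.ofHom (Ideal.Quotient.mk m.asIdeal))) ⟶ U) :
    ∃ u : 𝟙_ (Over (Spec (CommRingCat.of A))) ⟶ U, ∀ m : MaximalSpectrum A,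
      toUnit (Over.mk (Spec.map (CommRingCat.ofHom (Ideal.Quotient.mk m.asIdeal)))) ≫ u = x m := by
  obtain ⟨E, _, _, hE1, hE2, ⟨e⟩⟩ := Groth.Agent.S3977.result hG p hP uU hU
  obtain ⟨u, hu⟩ := K545.VecSec.exists_section hA fun m => x m ≫ e.hom
  exact ⟨u ≫ e.inv, fun m => by
    rw [← Category.assoc, hu, Category.assoc, e.hom_inv_id, Category.comp_id]⟩

end Groth.Agent.S8493
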