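import Groth.Statements.S5559
import Groth.Agent.S8493

set_option autoImplicit false
open CategoryTheory MonoidalCategory CartesianMonoidalCategory MonObj GrpObj AlgebraicGeometry
universe u
open RedSub

namespace Groth.Agent.S5559

/-- Let S = Spec A with A semi-local, G a reductive S-group, B a Borel subgroup of G and U = B^u its
unipotent radical. Then the canonical map from U(S) to the product of the U(Spec κ(s_i)) over the
closed points s_i of S is surjective. -/
theorem result (A : Type u) [CommRing A]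
    [Finite (MaximalSpectrum A)] {G B U : Over (Spec (CommRingCat.of A))} [GrpObj G] [GrpObj B] [GrpObj U]
    (hG : Red.IsReductive G) (i : B ⟶ G) (hB : Red.IsBorel i) (u : U ⟶ B) (hU : Par.IsUnipotentRadical u)
    (x : ∀ m : MaximalSpectrum A,
      Over.mk (Spec.map (CommRingCat.ofHom (Ideal.Quotient.mk m.asIdeal))) ⟶ U) :
    ∃ σ : 𝟙_ (Over (Spec (CommRingCat.of A))) ⟶ U,
      ∀ m : MaximalSpectrum A,
        toUnit (Over.mk (Spec.map (CommRingCat.ofHom (Ideal.Quotient.mk m.asIdeal)))) ≫ σ = x m := by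
  have hP : Red.IsParabolic i :=
    ⟨hB.1, hB.2.1, hB.2.2.1, fun s => ⟨(hB.2.2.2 s).1, (hB.2.2.2 s).2.1, (hB.2.2.2 s).2.2.1,
      Red.geomFibre s B, inferInstance, 𝟙 _, by rw [Category.id_comp]; exact hB.2.2.2 s⟩⟩
  have hA : {m : Ideal A | m.IsMaximal}.Finite := by
    have h1 : {m : Ideal A | m.IsMaximal} = Set.range (MaximalSpectrum.asIdeal (R := A)) := by
      ext m
      exact ⟨fun h => ⟨⟨m, h⟩, rfl⟩, fun ⟨m', h⟩ => h ▸ m'.isMaximal⟩
    rw [h1]
    exact Set.finite_range _
  exact Groth.Agent.S8493.result hA hG i hP u hU x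

end Groth.Agent.S5559
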