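import Groth.Statements.S5560
import Groth.Agent.RedSub.K196.KilInt
-- import your own Groth.Agent.* helpers here

set_option autoImplicit false
open CategoryTheory MonoidalCategory CartesianMonoidalCategory MonObj GrpObj AlgebraicGeometry
universe u
open RedSub

namespace Groth.Agent.S5560

/-- Let G be a reductive S-group. The functor S' ↦ {Killing pairs T ⊆ B of G_{S'}} (B a Borel subgroup,
T a maximal torus inside B) is representable by an S-scheme M carrying a universal Killing pair,
every Killing pair of a base change G_{S'} having the same points as the pullback of the universal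
one along exactly one S-morphism S' ⟶ M; and M is smooth and affine over S with integral geometric
fibres. -/
theorem result {S : Scheme.{u}} (G : Over S) [GrpObj G] (hG : Red.IsReductive G) :
    ∃ (M : Over S) (B : Over M.left) (_ : GrpObj B) (b : B ⟶ Red.bc M.hom G) (T : Over M.left) (_ : GrpObj T)
      (t : T ⟶ B), RedSub.IsBorelSub b ∧ IsMonHom t ∧ Red.IsMaximalTorus (t ≫ b) ∧
      (∀ (S' : Scheme.{u}) (f : S' ⟶ S) (B' : Over S') [GrpObj B'] (b' : B' ⟶ Red.bc f G) (T' : Over S') [GrpObj T']
          (t' : T' ⟶ B'), RedSub.IsBorelSub b' → IsMonHom t' → Red.IsMaximalTorus (t' ≫ b') →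
        ∃! g : S' ⟶ M.left, g ≫ M.hom = f ∧ RedSub.SamePoints G f b' M b g ∧
          RedSub.SamePoints G f (t' ≫ b') M (t ≫ b) g) ∧
      Smooth M.hom ∧ IsAffineHom M.hom ∧ ∀ s : S, IsIntegral (Red.geomFibre s M).left := by
  obtain ⟨M, B, _, b, T, _, t, hb, ht, hm, hU, hsm, haff⟩ := K196.KilRep.exists_kil G hG
  have hbB : Red.IsBorel b := Groth.Agent.Redsub.H644.BorelClosed.isBorel_of_isBorelSub
    (Groth.Agent.Sga3B.RedBcAny636.isReductive_bc M.hom hG) hb
  exact ⟨M, B, inferInstance, b, T, inferInstance, t, hb, ht, hm, hU, hsm, haff,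
    fun s => K196.KilInt.isIntegral_geomFibre hG hbB ht hm hU hsm s⟩

end Groth.Agent.S5560

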