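import Groth.Statements.S5561
import Groth.Agent.RedSub.K196.PosLe
import Groth.Agent.RedSub.K196.Inter2
import Groth.Agent.RedSub.K196.Cov
import Groth.Agent.RedSub.K196.Dict

set_option autoImplicit false
open CategoryTheory MonoidalCategory CartesianMonoidalCategory MonObj GrpObj AlgebraicGeometry
universe u
open RedSub

namespace Groth.Agent.S5561

open Groth.Agent.Sga3B Groth.Agent.Sga3B.Cell Groth.Agent.Sga3B.Cell.Datum Groth.Agent.Sga3B.PinMod
  Groth.Agent.RedSub.H635.Uniq Groth.Agent.RedSub.H635.SchNbd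

/-- Let S be connected, G a split reductive S-group (splitting D), H a subgroup of type (R) containing T
whose root set R' is contained in some system of positive roots, H'' a subgroup of type (R)
containing T with root set R'', and K ⊆ H the subgroup of type (R) containing T with root set R' ∩
R''. Then H ∩ Norm_G(H'') = K: a point of H normalises H'' if and only if it factors through K. -/
theorem result {S : Scheme.{u}} [ConnectedSpace S] {G H : Over S} [GrpObj G] [GrpObj H]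
    (D : Red.SplitRed G) (h : H ⟶ G) (hH : RedSub.IsTypeR h) (t : D.T ⟶ H) (ht : t ≫ h = D.i) (R' : Set D.idx)
    (hR' : ∀ a : D.idx, (∃ v : Red.Ga S ⟶ H, v ≫ h = D.u a) ↔ a ∈ R')
    (hpos : ∃ b : D.P.Base, R' ⊆ RedSub.posRoots D.P b)
    {H'' K : Over S} [GrpObj H''] [GrpObj K] (h'' : H'' ⟶ G) (hH'' : RedSub.IsTypeR h'') (t'' : D.T ⟶ H'')
    (ht'' : t'' ≫ h'' = D.i) (R'' : Set D.idx) (hR'' : ∀ a : D.idx, (∃ v : Red.Ga S ⟶ H'', v ≫ h'' = D.u a) ↔ a ∈ R'')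
    (kG : K ⟶ G) (hK : RedSub.IsTypeR kG) (tK : D.T ⟶ K) (htK : tK ≫ kG = D.i)
    (hRK : ∀ a : D.idx, (∃ v : Red.Ga S ⟶ K, v ≫ kG = D.u a) ↔ a ∈ R' ∩ R'') (fK : K ⟶ H) (hfK : fK ≫ h = kG)
    (X : Over S) (x : X ⟶ H) :
    (∀ (X' : Over S) (y : X' ⟶ X) (z : X' ⟶ H''),
        (∃ z' : X' ⟶ H'', (y ≫ x ≫ h) * (z ≫ h'') * (y ≫ x ≫ h)⁻¹ = z' ≫ h'') ∧
        (∃ z' : X' ⟶ H'', (y ≫ x ≫ h)⁻¹ * (z ≫ h'') * (y ≫ x ≫ h) = z' ≫ h'')) ↔
      ∃ w : X ⟶ K, w ≫ fK = x := by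
  obtain ⟨⟨hm, hi⟩, hs, -, hc, -⟩ := hH
  obtain ⟨⟨hm'', hi''⟩, hs'', -, hc'', -⟩ := hH''
  obtain ⟨⟨hmK, hiK⟩, hsK, -, hcK, -⟩ := hK
  have hmono : Mono h := Over.mono_of_mono_left h
  constructor
  · intro hnorm
    suffices hsuff : ∃ w : X ⟶ K, w ≫ kG = x ≫ h by
      obtain ⟨w, hw⟩ := hsuff
      refine ⟨w, ?_⟩
      rw [← cancel_mono h, Category.assoc, hfK, hw]
    refine K196.Cov.exists_fac kG (x ≫ h) ?_
    intro R _ s _ B _ _ ψ _
    have hGa : IsAffineHom G.hom := D.reductive.1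
    obtain ⟨c⟩ := exists_chart G s
    obtain ⟨N, -, -, -⟩ := exists_nbd c h
    obtain ⟨N'', -, -, -⟩ := exists_nbd c h''
    obtain ⟨b, hb⟩ := hpos
    let L : List D.idx := Finset.univ.toList
    have hL : L.Nodup := Finset.nodup_toList _
    have hL' : ∀ a, a ∈ L := fun a => by simp [L]
    let g : Pt R c.A B := (c.pts B).symm (ψ ≫ x ≫ h)
    have hg : c.pts B g = ψ ≫ x ≫ h := MulEquiv.apply_symm_apply _ _
    have hgH : (sub c h).mem g := ⟨ψ ≫ x, by rw [hg, Category.assoc]⟩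
    obtain ⟨y, τ, hy, hgy⟩ := K196.PosLe.exists_cell_of_pos D h hc t ht b
      (fun a ha => hb ((hR' a).mp (K196.Dict.exists_of_nonempty D h t ht ha))) c hL hL' hgH
    obtain ⟨lam, hlam, hlampos⟩ := Groth.Agent.RedSub.H634.BorelStd.exists_functional b
    have hy0 : ∀ a, lam.toAddMonoidHom ((c.datum D).root a) ≤ 0 → y a = 0 := by
      intro a ha
      apply hy
      intro h1
      exact absurd ((hlampos a).mp h1) (not_lt.mpr ha)
    have h1 : ∀ a, ¬ a ∈ R' → y a = 0 := by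
      refine K196.Inter.coord_eq_zero (D := c.datum D) N (c.good D) lam.toAddMonoidHom hlam hL hL'
        (fun y => hT_sub D h c t ht y) (fun a => a ∈ R') ?_ ?_ hy0 τ (by rw [← hgy]; exact hgH)
      · intro a ha C _ _ z
        exact K196.Dict.mem_uu D h ((hR' a).mpr ha) c z
      · intro a ha
        exact K196.Dict.exists_lin D h t ht (fun h2 => ha ((hR' a).mp h2)) s c N
    have h2 : ∀ a, ¬ a ∈ R'' → y a = 0 := by
      refine K196.Inter.coord_eq_zero_of_conj (D := c.datum D) N'' (c.good D) lam.toAddMonoidHom hlam hL hL'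
        (fun y => hT_sub D h'' c t'' ht'' y) (fun a => a ∈ R'') ?_ ?_ hy0 τ ?_
      · intro a ha C _ _ z
        exact K196.Dict.mem_uu D h'' ((hR'' a).mpr ha) c z
      · intro a ha
        exact K196.Dict.exists_lin D h'' t'' ht'' (fun h2 => ha ((hR'' a).mp h2)) s c N''
      · intro C _ _ φ θ
        rw [← hgy]
        obtain ⟨w, hw⟩ := hT_sub D h'' c t'' ht'' θ
        obtain ⟨⟨z', hz'⟩, -⟩ := hnorm (tB s C) (tMap s φ ≫ ψ) w
        refine ⟨z', ?_⟩
        rw [map_mul, map_mul, map_inv, ← c.pts_nat, hg, ← hw, ← hz']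
        simp only [Category.assoc]
    obtain ⟨v, hv⟩ := K196.Dict.mem_cell D kG tK htK c L y τ (fun a ha => (hRK a).mpr ⟨by
      by_contra h3
      exact ha (h1 a h3), by
      by_contra h3
      exact ha (h2 a h3)⟩)
    exact ⟨v, by rw [hv, ← hgy, hg]⟩
  · rintro ⟨w, rfl⟩ X' y z
    have hmono'' : Mono h'' := Over.mono_of_mono_left h''
    obtain ⟨v, hv⟩ := exists_le D kG hcK tK htK h'' t'' ht'' (fun a ha => (hR'' a).mpr ((hRK a).mp ha).2)
    refine ⟨⟨(y ≫ w ≫ v) * z * (y ≫ w ≫ v)⁻¹, ?_⟩, ⟨(y ≫ w ≫ v)⁻¹ * z * (y ≫ w ≫ v), ?_⟩⟩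
    · simp only [MonObj.mul_comp, GrpObj.inv_comp, Category.assoc, hfK, hv]
    · simp only [MonObj.mul_comp, GrpObj.inv_comp, Category.assoc, hfK, hv]

end Groth.Agent.S5561
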