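import Groth.Statements.S5563
import Groth.Agent.S3953
import Groth.Agent.RedSub.K196.URad
import Groth.Agent.RedSub.K196.SimpleFn

set_option autoImplicit false
open CategoryTheory MonoidalCategory CartesianMonoidalCategory MonObj GrpObj AlgebraicGeometry
universe u
open RedSub

namespace Groth.Agent.S5563

/-- Let S be connected, G a split reductive S-group (splitting D), b a system of simple roots, a a
simple root, H = H_{R_+ ∖ {a}} the subgroup of type (R) containing T with that root set and U =
U_{â} its unipotent radical. Then U_{-a} normalises U. -/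
theorem result {S : Scheme.{u}} [ConnectedSpace S] {G H U : Over S} [GrpObj G]
    [GrpObj H] [GrpObj U] (D : Red.SplitRed G) (b : D.P.Base) (a : D.idx) (ha : a ∈ b.support) (h : H ⟶ G)
    (hH : RedSub.IsTypeR h) (t : D.T ⟶ H) (ht : t ≫ h = D.i)
    (hR : ∀ c : D.idx, (∃ v : Red.Ga S ⟶ H, v ≫ h = D.u c) ↔ (c ∈ RedSub.posRoots D.P b ∧ c ≠ a))
    (u : U ⟶ H) (hU : Par.IsUnipotentRadical u) (X : Over S) (y : X ⟶ Red.Ga S) (x : X ⟶ U) :
    ∃ x' : X ⟶ U, (y ≫ D.u (D.P.reflectionPerm a a)) * (x ≫ u ≫ h) * (y ≫ D.u (D.P.reflectionPerm a a))⁻¹ =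
      x' ≫ u ≫ h := by
  obtain ⟨lam, h0, h1⟩ := K196.SimpleFn.exists_functional_simple b ha
  have hneg : ∀ c, D.P.root (D.P.reflectionPerm c c) = -D.P.root c := fun c => by simp
  have hinv : ∀ c, D.P.reflectionPerm (D.P.reflectionPerm c c) (D.P.reflectionPerm c c) = c := by
    intro c
    apply D.P.root.injective
    rw [hneg, hneg, neg_neg]
  have hiff : ∀ c, (c ∈ RedSub.posRoots D.P b ∧ c ≠ a) ↔ 0 < lam (D.P.root c) := by
    intro c
    rw [Groth.Agent.RedSub.H637.PosRoots.mem_posRoots_iff]
    constructor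
    · rintro ⟨h2, h3⟩
      exact h1 c h2 h3
    · intro h2
      refine ⟨?_, ?_⟩
      · by_contra h3
        have h4 : b.IsPos (D.P.reflectionPerm c c) := by
          by_contra h5
          exact h5 ((RootPairing.Base.IsPos.neg_iff_not b c).mpr h3)
        by_cases h5 : D.P.reflectionPerm c c = a
        · have h6 : D.P.root c = -D.P.root a := by rw [← h5, hneg, neg_neg]
          rw [h6, map_neg, h0] at h2
          omega
        · have h6 := h1 _ h4 h5
          rw [hneg, map_neg] at h6
          omega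
      · rintro rfl
        omega
  let R' : Set D.idx := {c | c ∈ RedSub.posRoots D.P b ∧ c ≠ a}
  let R'' : Set D.idx := {D.P.reflectionPerm a a}
  have hred : D.P.IsReduced := Groth.Agent.Sga3B.SplitReduced415.isReduced D
  have hrefl : Module.IsReflexive ℤ D.M := .of_isPerfPair D.P.toLinearMap
  have htf : IsAddTorsionFree D.M := .of_isTorsionFree ℤ D.M
  obtain ⟨⟨H'', _, h'', t'', hH'', ht'', hR''⟩, -⟩ := Groth.Agent.S3953.result D R'' (by
    rintro c d e hc hd hcde
    exfalso
    rw [Set.mem_singleton_iff] at hc hd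
    subst hc hd
    refine D.P.nsmul_notMem_range_root (n := 2) (i := D.P.reflectionPerm a a) ⟨e, ?_⟩
    rw [← hcde, two_smul])
  obtain ⟨v, hv⟩ := (hR'' (D.P.reflectionPerm a a)).mpr rfl
  have hmain := K196.URad.normalizes D h hH t ht R' hR (by
    intro c d e hc hd hcde
    refine (hiff e).mpr ?_
    have h2 := (hiff c).mp hc
    have h3 := (hiff d).mp hd
    rw [← hcde, map_add]
    omega) ⟨b, fun c hc => hc.1⟩ u hU h'' hH'' t'' ht'' R'' hR'' (by
    intro c d e hc hd hcde
    rw [Set.mem_singleton_iff] at hd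
    subst hd
    refine (hiff e).mpr ?_
    have h2 := (hiff c).mp hc
    rw [← hcde, map_add, hneg, map_neg, h0]
    omega) (by
    intro c hc hca
    rw [Set.mem_singleton_iff] at hca
    apply hc.2
    rw [← hinv c, hca, hinv]) (y ≫ v) x
  obtain ⟨x', hx'⟩ := hmain
  refine ⟨x', ?_⟩
  rw [← hx', Category.assoc, hv]

end Groth.Agent.S5563
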