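import Groth.Statements.S5564
import Groth.Agent.S5534
import Groth.Agent.S5536
import Groth.Agent.RedSub.K196.DerSplit
import Groth.Agent.RedSub.K197.Corad
-- import your own Groth.Agent.* helpers here

set_option autoImplicit false
open CategoryTheory MonoidalCategory CartesianMonoidalCategory MonObj GrpObj AlgebraicGeometry
universe u
open RedSub

namespace Groth.Agent.S5564

/-- Let G be a split reductive S-group (splitting D, torus T ≅ D_S(M)), D' = dér(G) ⟶ G its derived
group and N = {m ∈ M | (α*, m) = 0 for every coroot α*}. Then (dér(G), T', M/N, R) is a splitting: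
D' admits a splitting whose character group is identified with M/N carrying root to root (through a
bijection of index sets), whose torus maps to T over the inclusion D' ⟶ G compatibly with D_S(M/N) ⟶
D_S(M), and whose root homomorphisms composed with D' ⟶ G are the u_a. -/
theorem result {S : Scheme.{u}} {G D' : Over S} [GrpObj G] [GrpObj D'] (D : Red.SplitRed G)
    (d : D' ⟶ G) [IsMonHom d]
    (hker : ∃ (C : Over S) (_ : GrpObj C) (f₀ : G ⟶ C), IsMonHom f₀ ∧ (∀ (X : Over S) (a b : X ⟶ C), a * b = b * a) ∧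
      AlgGrp.IsKernel d f₀)
    (hkill : RedSub.KilledByCommutative d)
    (N : AddSubgroup D.M) (hN : ∀ m : D.M, m ∈ N ↔ ∀ a : D.idx, D.P.coroot a m = 0) :
    ∃ (Dd : Red.SplitRed D') (τ : Dd.T ⟶ D.T) (eidx : Dd.idx ≃ D.idx) (em : Dd.M ≃+ D.M ⧸ N),
      τ ≫ D.i = Dd.i ≫ d ∧
      τ ≫ D.split.hom.hom.hom =
        Dd.split.hom.hom.hom ≫ Red.DSmap S (em.symm.toAddMonoidHom.comp (QuotientAddGroup.mk' N)) ∧
      (∀ a' : Dd.idx, em (Dd.P.root a') = QuotientAddGroup.mk' N (D.P.root (eidx a'))) ∧
      (∀ a' : Dd.idx, Dd.u a' ≫ d = D.u (eidx a')) := by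
  obtain ⟨f, hf⟩ := K197.SplitChar.exists_char D N hN
  have hfm : IsMonHom f := hf.hom
  have hd : Mono d := by
    obtain ⟨C, _, f₀, _, hC, hk₀⟩ := hker
    exact K197.SecKer.mono_of_isKernel hk₀
  have hk : AlgGrp.IsKernel d f := by
    obtain ⟨C, _, f₀, hf₀, hC, hk₀⟩ := hker
    exact K197.Corad.isKernel_of_pts (hkill _ f (K197.SplitChar.ds_comm' N)) fun X x hx =>
      K197.SecKer.exists_lift_of_isKernel hk₀ x (hf.kill C hC f₀ X x hx)
  have haff : IsAffineHom (Red.DS S N).hom := Groth.Agent.RedSub.H654.LocChart.isAffineHom_DS S N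
  have hcl : IsClosedImmersion d.left := by
    have h1 := hk.map (Over.forget S)
    have h2 : IsClosedImmersion (η[Red.DS S N] : 𝟙_ (Over S) ⟶ Red.DS S N).left := by
      have h3 : IsClosedImmersion ((η[Red.DS S N] : 𝟙_ (Over S) ⟶ Red.DS S N).left ≫ (Red.DS S N).hom) := by
        rw [Over.w]
        exact inferInstanceAs (IsClosedImmersion (𝟙 S))
      exact IsClosedImmersion.of_comp _ (Red.DS S N).hom
    exact MorphismProperty.of_isPullback (P := @IsClosedImmersion) h1.flip h2
  have hG : Red.IsReductive G := D.reductive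
  obtain ⟨σ, hσ, hσf⟩ := hf.sec
  have hi : IsMonHom D.i := D.maximalTorus.1
  obtain ⟨hsm, hconn⟩ := K197.SecKer.main f (σ ≫ D.i) (by rw [Category.assoc, hσf]) hk hG haff
  have hred : Red.IsReductive D' :=
    (Groth.Agent.S5536.result hG d hker hkill d ⟨inferInstance, inferInstance⟩ ⟨𝟙 _, Category.id_comp _⟩ hconn).2
  refine K196.DerSplit.exists_split D N hN hf hk hcl hred fun i' hi' => ?_
  have him : IsMonHom i' := K196.DerSplit.isMonHom_of_eq hi'
  exact (Groth.Agent.S5534.result hG d hker hkill).1 _ _ D.i (K196.DerSplit.tau D N) i' D.maximalTorus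
    (K196.DerSplit.isPullback_tau D N hf hk hi')

end Groth.Agent.S5564

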