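import Groth.Statements.S5565
import Groth.Agent.RedSub.K195.NormQ

set_option autoImplicit false
open CategoryTheory MonoidalCategory CartesianMonoidalCategory MonObj GrpObj AlgebraicGeometry
universe u
open RedSub

namespace Groth.Agent.S5565

/-- For a reductive S-group G (whose Weyl groups are finite). Let H ⟶ G be a subgroup of type (R) and N
⟶ G its normaliser, H ⟶ N the inclusion. Then H is closed in G if and only if the fppf quotient N/H
is representable by a finite etale S-scheme. -/
theorem result {S : Scheme.{u}} {G H N : Over S} [GrpObj G] [GrpObj H]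
    [GrpObj N] (hG : Red.IsReductive G) (h : H ⟶ G) (hH : RedSub.IsTypeR h) (nG : N ⟶ G) (hN : Red.IsNormalizerOf h nG)
    (k : H ⟶ N) [IsMonHom k] (hk : k ≫ nG = h) :
    IsClosedImmersion h.left ↔
      ∃ (Q : Over S) (p : N ⟶ Q), RedSub.IsQuotient k p ∧ IsFinite Q.hom ∧ Etale Q.hom := by
  exact K195.NormQ.isClosedImmersion_iff hG h hH nG hN k hk

end Groth.Agent.S5565
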