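import Groth.Statements.S5566
import Groth.Agent.RedSub.K196.CellTr
import Groth.Agent.RedSub.K196.SimpleFn
import Groth.Agent.RedSub.H633.CellPtsR
import Groth.Agent.RedSub.H637.PosRoots
import Groth.Agent.RedSub.H634.BorelStd
import Groth.Agent.RedSub.H638.PinFull

set_option autoImplicit false
open CategoryTheory MonoidalCategory CartesianMonoidalCategory MonObj GrpObj AlgebraicGeometry
universe u
open RedSub

namespace Groth.Agent.S5566

open Groth.Agent.Sga3B Groth.Agent.Sga3B.Cell Groth.Agent.Sga3B.Cell.Datum Groth.Agent.Sga3B.PinMod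
  Groth.Agent.Sga3B.GaPts Groth.Agent.RedSub.H633.CellPtsR K196.CellTr

section chart

variable {S : Scheme.{u}} {G : Over S} [GrpObj G] (D : Red.SplitRed G) (b : D.P.Base)
  {K : Type u} [Field K] {s : Spec (CommRingCat.of K) ⟶ S} (c : Chart G s)

/-- the chart form of the statement -/
theorem chart_or (lam : D.M →+ ℤ) (hlam : ∀ a, lam (D.P.root a) ≠ 0)
    (hpos : ∀ a, b.IsPos a ↔ 0 < lam (D.P.root a)) {L : List D.idx} (hL : L.Nodup) (hL' : ∀ a, a ∈ L)
    {a : D.idx} (ha : a ∈ b.support)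
    {g : Pt K c.A K} (hg : g ∈ Om (c.datum D) L lam K) (y : K) (x : Kˣ) :
    g * (c.datum D).uu (D.P.reflectionPerm a a) K y ∈ Om (c.datum D) L lam K ∨
      ((c.datum D).uu a K x)⁻¹ * (g * (c.datum D).uu (D.P.reflectionPerm a a) K y) ∈ Om (c.datum D) L lam K := by
  have : Smooth G.hom := D.reductive.2.1
  have : Algebra.Smooth K c.A := ChartFib.smooth_of_isPullback c.isPullback
  obtain ⟨E, ε, hε, hi, hu⟩ := Groth.Agent.RedSub.H638.PinFull.exists_pinCell_full (D := c.datum D)
    (fun K _ _ => ChartFib.isDomain D.reductive c.isPullback K) (c.good D) D.P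
    (fun a => rfl) D.pairing_eq b (fun a _ => by
      obtain ⟨n, hn⟩ := PinModelOf.exists_acts D c a
      exact ⟨n, fun t => PinModelOf.conj_of_acts (D := c.datum D) D.P (fun a => rfl)
        D.pairing_eq hn t⟩)
  obtain ⟨lam', h0, h1⟩ := K196.SimpleFn.exists_functional_simple b ha
  have hneg : ∀ c, D.P.root (D.P.reflectionPerm c c) = -D.P.root c := fun c => by simp
  have hinv : ∀ c, D.P.reflectionPerm (D.P.reflectionPerm c c) (D.P.reflectionPerm c c) = c := by
    intro c
    apply D.P.root.injective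
    rw [hneg, hneg, neg_neg]
  have hapos : b.IsPos a := RootPairing.Base.isPos_of_mem_support ha
  refine Om_or (D := c.datum D) (c.good D) hL hL' lam lam' hlam (a := a) (a' := D.P.reflectionPerm a a) h0 ?_
    ((hpos a).mp hapos) ?_ ?_ ?_ (r1 E ha) ?_ (Units.map (algebraMap K K).toMonoidHom (ε (D.P.reflectionPerm a a)))
    ?_ (fun t => hi K t) hg y x
  · change lam' (D.P.root (D.P.reflectionPerm a a)) = 0
    rw [hneg, map_neg, h0, neg_zero]
  · change lam (D.P.root (D.P.reflectionPerm a a)) < 0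
    rw [hneg, map_neg]
    have := (hpos a).mp hapos
    omega
  · intro d hd hda
    exact h1 d ((hpos d).mpr hd) hda
  · intro d hd hda
    change lam (D.P.root d) < 0 at hd
    change lam' (D.P.root d) < 0
    have h2 : b.IsPos (D.P.reflectionPerm d d) := by
      rw [hpos, hneg, map_neg]
      omega
    have h3 := h1 _ h2 (by
      intro h
      apply hda
      rw [← h, hinv])
    rw [hneg, map_neg] at h3
    omega
  · intro z
    refine (hu a K z).trans ?_
    rw [hε a hapos, Units.val_one, map_one, _root_.one_mul]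
  · intro z
    exact hu _ K z

end chart

/-- Let G be a split reductive S-group (splitting D, system of simple roots b, big cell Ω ⟶ G), a a
simple root, u_a(x) a section of U_a with x of unit coordinate, and v = u_{-a}(y) any section of
U_{-a}. Then Ω · v ⊆ Ω ∪ u_a(x) · Ω. -/
theorem result {S : Scheme.{u}} {G : Over S} [GrpObj G] (D : Red.SplitRed G)
    (b : D.P.Base) {n m : ℕ} (eneg : Fin n → D.idx) (epos : Fin m → D.idx)
    (hneg : RedSub.Enumerates (RedSub.negRoots D.P b) eneg) (hpos : RedSub.Enumerates (RedSub.posRoots D.P b) epos)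
    (a : D.idx) (ha : a ∈ b.support) (x : 𝟙_ (Over S) ⟶ Red.Ga S) (hx : IsUnit (Red.gaFn x))
    (y : 𝟙_ (Over S) ⟶ Red.Ga S) :
    Set.range (RedSub.cellMap D eneg epos * (toUnit _ ≫ y ≫ D.u (D.P.reflectionPerm a a))).left.base ⊆
      Set.range (RedSub.cellMap D eneg epos).left.base ∪
        Set.range ((toUnit _ ≫ x ≫ D.u a) * RedSub.cellMap D eneg epos).left.base := by
  rintro _ ⟨q, rfl⟩
  let Y : Over S := RedSub.pow (Red.Ga S) n ⊗ (D.T ⊗ RedSub.pow (Red.Ga S) m)
  let K : Type u := Y.left.residueField q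
  let x₀ : Spec (CommRingCat.of K) ⟶ Y.left := Y.left.fromSpecResidueField q
  let s : Spec (CommRingCat.of K) ⟶ S := x₀ ≫ Y.hom
  let X₀ : tB s K ⟶ Y := Over.homMk (Spec.map (CommRingCat.ofHom (algebraMap K K)) ≫ x₀) (Category.assoc _ _ _)
  let pt : (tB s K).left := (⊥ : PrimeSpectrum K)
  have hX₀ : X₀.left pt = q := by
    change (Spec.map (CommRingCat.ofHom (algebraMap K K)) ≫ x₀) pt = q
    rw [Scheme.Hom.comp_apply]
    exact Scheme.fromSpecResidueField_apply _ _
  have hGa : IsAffineHom G.hom := D.reductive.1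
  obtain ⟨c⟩ := exists_chart G s
  obtain ⟨φ, hφ, hφpos⟩ := Groth.Agent.RedSub.H634.BorelStd.exists_functional b
  let lam : D.M →+ ℤ := φ.toAddMonoidHom
  have hlam : ∀ a, lam (D.P.root a) ≠ 0 := hφ
  have hlampos : ∀ a, b.IsPos a ↔ 0 < lam (D.P.root a) := by
    intro a
    rw [← Groth.Agent.RedSub.H637.PosRoots.mem_posRoots_iff]
    exact hφpos a
  let L : List D.idx := Finset.univ.toList
  have hL : L.Nodup := Finset.nodup_toList _
  have hL' : ∀ a, a ∈ L := fun a => by simp [L]
  have hrp : ∀ a, a ∈ Set.range epos ↔ 0 < lam ((c.datum D).root a) := by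
    intro a
    rw [hpos.2]
    exact hφpos a
  have hrn : ∀ a, a ∈ Set.range eneg ↔ 0 < (-lam) ((c.datum D).root a) := by
    intro a
    rw [hneg.2, Groth.Agent.RedSub.H637.PosRoots.mem_negRoots_iff, hlampos, AddMonoidHom.neg_apply]
    have := hlam a
    change _ ↔ 0 < - lam (D.P.root a)
    omega
  -- the cell
  have hOm : ∀ g : Pt K c.A K, g ∈ Om (c.datum D) L lam K ↔
      ∃ z : tB s K ⟶ Y, z ≫ RedSub.cellMap D eneg epos = c.pts K g := by
    intro g
    constructor
    · rintro ⟨u, hu, τ, w, hw, rfl⟩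
      obtain ⟨zn, rfl⟩ := (mem_UP_iff_ofFn (D := c.datum D) (c.good D) hL hL' (-lam) hneg.1 hrn u).mp hu
      obtain ⟨zp, rfl⟩ := (mem_UP_iff_ofFn (D := c.datum D) (c.good D) hL hL' lam hpos.1 hrp w).mp hw
      exact ⟨srcPt D s zn τ zp, srcPt_cellMap D s c eneg epos zn τ zp⟩
    · rintro ⟨z, hz⟩
      obtain ⟨zn, τ, zp, rfl⟩ := exists_srcPt D s z
      rw [srcPt_cellMap D s c eneg epos zn τ zp] at hz
      rw [← (c.pts K).injective hz]
      exact ⟨_, (mem_UP_iff_ofFn (D := c.datum D) (c.good D) hL hL' (-lam) hneg.1 hrn _).mpr ⟨zn, rfl⟩, τ, _,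
        (mem_UP_iff_ofFn (D := c.datum D) (c.good D) hL hL' lam hpos.1 hrp _).mpr ⟨zp, rfl⟩, rfl⟩
  obtain ⟨y', hy'⟩ := (gaB_bijective s (B := K)).2 (toUnit _ ≫ y)
  obtain ⟨x', hx'⟩ := (gaB_bijective s (B := K)).2 (toUnit _ ≫ x)
  have hx0 : x' ≠ 0 := by
    rintro rfl
    have h1 : IsUnit (Red.gaFn (toUnit (tB s K) ≫ x)) := by
      rw [gaFn_comp]
      exact hx.map _
    rw [← hx', gaFn_gaPt] at h1
    have h2 : fnOf s (0 : K) = 0 := map_zero (Scheme.ΓSpecIso (CommRingCat.of K)).inv.hom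
    rw [h2, isUnit_zero_iff] at h1
    have h3 : fnOf s (0 : K) = fnOf s (1 : K) := by
      rw [h2, h1]
      exact (map_one (Scheme.ΓSpecIso (CommRingCat.of K)).inv.hom).symm
    exact zero_ne_one (fnOf_injective s h3)
  let g : Pt K c.A K := (c.pts K).symm (X₀ ≫ RedSub.cellMap D eneg epos)
  have hg : c.pts K g = X₀ ≫ RedSub.cellMap D eneg epos := MulEquiv.apply_symm_apply _ _
  have hgO : g ∈ Om (c.datum D) L lam K := (hOm g).mpr ⟨X₀, hg.symm⟩
  have huy : c.pts K ((c.datum D).uu (D.P.reflectionPerm a a) K y') =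
      toUnit _ ≫ y ≫ D.u (D.P.reflectionPerm a a) := by
    rw [pts_uu', hy', Category.assoc]
  have hux : c.pts K ((c.datum D).uu a K x') = toUnit _ ≫ x ≫ D.u a := by
    rw [pts_uu', hx', Category.assoc]
  have hprod : c.pts K (g * (c.datum D).uu (D.P.reflectionPerm a a) K y') =
      X₀ ≫ (RedSub.cellMap D eneg epos * (toUnit _ ≫ y ≫ D.u (D.P.reflectionPerm a a))) := by
    rw [map_mul, hg, huy, MonObj.comp_mul]
    congr 1
  have hval : ∀ (k : Y ⟶ G), (X₀ ≫ k).left pt = k.left q := by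
    intro k
    rw [Over.comp_left, Scheme.Hom.comp_apply, hX₀]
  rcases chart_or D b c lam hlam hlampos hL hL' ha hgO y' (Units.mk0 x' hx0) with h | h
  · left
    obtain ⟨z, hz⟩ := (hOm _).mp h
    refine ⟨z.left pt, ?_⟩
    have h2 : (z ≫ RedSub.cellMap D eneg epos).left pt =
        (RedSub.cellMap D eneg epos * (toUnit _ ≫ y ≫ D.u (D.P.reflectionPerm a a))).left q := by
      rw [hz, hprod, hval]
    exact h2
  · right
    obtain ⟨z, hz⟩ := (hOm _).mp h
    refine ⟨z.left pt, ?_⟩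
    have h2 : (z ≫ ((toUnit _ ≫ x ≫ D.u a) * RedSub.cellMap D eneg epos)).left pt =
        (RedSub.cellMap D eneg epos * (toUnit _ ≫ y ≫ D.u (D.P.reflectionPerm a a))).left q := by
      have h3 : z ≫ ((toUnit _ ≫ x ≫ D.u a) * RedSub.cellMap D eneg epos) =
          X₀ ≫ (RedSub.cellMap D eneg epos * (toUnit _ ≫ y ≫ D.u (D.P.reflectionPerm a a))) := by
        have h4 : z ≫ toUnit Y ≫ x ≫ D.u a = c.pts K ((c.datum D).uu a K x') := by
          rw [hux, ← Category.assoc z]
          congr 1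
          exact toUnit_unique _ _
        rw [MonObj.comp_mul, h4, hz, ← hprod, ← map_mul]
        congr 1
        change (c.datum D).uu a K x' * (((c.datum D).uu a K x')⁻¹ * _) = _
        rw [mul_inv_cancel_left]
      rw [h3, hval]
    exact h2

end Groth.Agent.S5566
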