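import Groth.Statements.S5568
-- import your own Groth.Agent.* helpers here
import Groth.Agent.RedSub.K197.RadSplit
import Groth.Agent.RedSub.K197.SplitChar

set_option autoImplicit false
open CategoryTheory MonoidalCategory CartesianMonoidalCategory MonObj GrpObj AlgebraicGeometry
universe u
open RedSub

namespace Groth.Agent.S5568

lemma main {S : Scheme.{u}} {R T : Over S} [GrpObj T] {A B M : Type}
    [AddCommGroup A] [AddCommGroup B] [AddCommGroup M] (σ : Red.DS S M ⟶ T) [IsMonHom σ] [IsIso σ]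
    (r' : R ⟶ T) (w : R ⟶ Red.DS S A) [IsIso w] (φ : M →+ A) (ψ : M →+ B)
    (hw : w ≫ Red.DSmap S φ ≫ σ = r') (h : K197.Isog.IsIsog (Red.DSmap S (φ.prod ψ)).left) :
    K197.Isog.IsIsog ((r' ⊗ₘ (Red.DSmap S ψ ≫ σ)) ≫ μ[T]).left := by
  have h1 : (r' ⊗ₘ (Red.DSmap S ψ ≫ σ)) ≫ μ[T] =
      (w ⊗ₘ 𝟙 _) ≫ (K197.Isog.dsProd S A B).inv ≫ Red.DSmap S (φ.prod ψ) ≫ σ := by
    have e0 : (r' ⊗ₘ (Red.DSmap S ψ ≫ σ)) ≫ μ[T] =
        (fst _ _ ≫ r') * (snd _ _ ≫ Red.DSmap S ψ ≫ σ) := by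
      rw [Hom.mul_def]
      congr 1
    have e3 : (K197.Isog.dsProd S A B).inv = (fst _ _ ≫ Red.DSmap S (AddMonoidHom.fst A B)) *
      (snd _ _ ≫ Red.DSmap S (AddMonoidHom.snd A B)) := rfl
    have e1 : (AddMonoidHom.fst A B).comp (φ.prod ψ) = φ := rfl
    have e2 : (AddMonoidHom.snd A B).comp (φ.prod ψ) = ψ := rfl
    have e4 : ((fst _ _ ≫ Red.DSmap S (AddMonoidHom.fst A B)) *
      (snd _ _ ≫ Red.DSmap S (AddMonoidHom.snd A B))) ≫ Red.DSmap S (φ.prod ψ) ≫ σ =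
      (fst _ _ ≫ Red.DSmap S (AddMonoidHom.fst A B) ≫ Red.DSmap S (φ.prod ψ) ≫ σ) *
      (snd _ _ ≫ Red.DSmap S (AddMonoidHom.snd A B) ≫ Red.DSmap S (φ.prod ψ) ≫ σ) := by
      rw [← Category.assoc, K197.Isog.mul_comp_DSmap, MonObj.mul_comp]
      simp only [Category.assoc]
    rw [e0, e3, e4, MonObj.comp_mul]
    simp only [Category.assoc, reassoc_of% (@Groth.Agent.Sga3B.BorSpan613.DSmap_comp_DSmap), e1, e2]
    congr 1
    · rw [tensorHom_fst_assoc, hw]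
    · rw [tensorHom_snd_assoc, Category.id_comp]
  have h2 : IsIso (w ⊗ₘ 𝟙 (Red.DS S B)).left :=
    inferInstanceAs (IsIso ((Over.forget _).map (w ⊗ₘ 𝟙 (Red.DS S B))))
  have h3 : IsIso (K197.Isog.dsProd S A B).inv.left :=
    inferInstanceAs (IsIso ((Over.forget _).map (K197.Isog.dsProd S A B).inv))
  have h4 : IsIso σ.left := inferInstanceAs (IsIso ((Over.forget _).map σ))
  rw [h1, Over.comp_left, Over.comp_left, Over.comp_left]
  exact (K197.Isog.IsIsog.of_isIso _).comp ((K197.Isog.IsIsog.of_isIso _).comp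
    (h.comp (K197.Isog.IsIsog.of_isIso _)))

/-- Let G be a split reductive S-group (splitting D, T ≅ D_S(M)), N = {m ∈ M | (α*, m) = 0 for all
coroots}, T' = D_S(M/N) ⟶ D_S(M) ≅ T the subtorus generated by the coroots, and R = rad(G) (the
maximal torus of the centre), lying in T through r'. Then the multiplication R x_S T' ⟶ T is an
isogeny (surjective, flat, finite). -/
theorem result {S : Scheme.{u}} {G Z R : Over S} [GrpObj G] [GrpObj Z] [GrpObj R]
    (D : Red.SplitRed G) (j : Z ⟶ G) (hZ : Red.IsCentre j) (r : R ⟶ Z) (hR : Red.IsMaximalTorus r)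
    (r' : R ⟶ D.T) (hr' : r' ≫ D.i = r ≫ j)
    (N : AddSubgroup D.M) (hN : ∀ m : D.M, m ∈ N ↔ ∀ a : D.idx, D.P.coroot a m = 0) :
    Surjective ((r' ⊗ₘ (Red.DSmap S (QuotientAddGroup.mk' N) ≫ D.split.inv.hom.hom)) ≫ μ[D.T]).left ∧
      Flat ((r' ⊗ₘ (Red.DSmap S (QuotientAddGroup.mk' N) ≫ D.split.inv.hom.hom)) ≫ μ[D.T]).left ∧
      IsFinite ((r' ⊗ₘ (Red.DSmap S (QuotientAddGroup.mk' N) ≫ D.split.inv.hom.hom)) ≫ μ[D.T]).left := by
  rw [← K197.Isog.isIsog_iff]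
  obtain ⟨w, hw, hwm, h⟩ := K197.RadSplit.rad_iso D j hZ r hR
  by_cases hS : IsEmpty S
  · exact K197.Isog.isIsog_of_isEmpty hS _
  have hS' : Nonempty S := not_isEmpty_iff.1 hS
  have hred : D.P.IsReduced := Groth.Agent.Sga3B.SplitReduced415.isReduced D
  have hi : Mono D.i := D.maximalTorus.2.1
  have hs : IsIso D.split.inv.hom.hom := inferInstanceAs (IsIso ((Grp.forget _).map D.split.inv))
  refine main D.split.inv.hom.hom r' w (QuotientAddGroup.mk' (K197.RadLat.PP D.P))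
    (QuotientAddGroup.mk' N) ?_ ?_
  · rw [← cancel_mono D.i, hr', ← h, K197.RadSplit.radI]
    simp only [Category.assoc]
  · exact K197.Isog.isIsog_DSmap S _ (K197.RadLat.injective_prod N hN D.pairing_eq)
      (K197.RadLat.torsion_prod N hN D.pairing_eq)

end Groth.Agent.S5568
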