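import Groth.Statements.S5569
-- import your own Groth.Agent.* helpers here
import Groth.Agent.RedSub.K197.DerSubTor

set_option autoImplicit false
open CategoryTheory MonoidalCategory CartesianMonoidalCategory MonObj GrpObj AlgebraicGeometry
universe u
open RedSub

namespace Groth.Agent.S5569

/-- Let G be a reductive S-group, D = dér(G) its derived group, H ⟶ G a sub-group-scheme containing D,
smooth over S with connected fibres (so H is closed and reductive), and T a maximal torus of G. Then
T ∩ H (a fibre product T' with homomorphisms T' ⟶ T, T' ⟶ H) is a maximal torus of H. (The published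
statement reads 'maximal torus of G'; for G = GL_2, H = SL_2 and T the diagonal torus, T ∩ H has
rank 1, so the assertion is stated for H, which is what the decomposition H = (T ∩ H) · dér(G) of
the same statement gives.) -/
theorem result {S : Scheme.{u}} {G D H T T' : Over S} [GrpObj G]
    [GrpObj D] [GrpObj H] [GrpObj T] [GrpObj T'] (hG : Red.IsReductive G) (d : D ⟶ G) [IsMonHom d]
    (hker : ∃ (C : Over S) (_ : GrpObj C) (f₀ : G ⟶ C), IsMonHom f₀ ∧ (∀ (X : Over S) (a b : X ⟶ C), a * b = b * a) ∧
      AlgGrp.IsKernel d f₀)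
    (hkill : RedSub.KilledByCommutative d)
    (k : H ⟶ G) (hH : RedSub.IsSubgrp k) (hDH : ∃ e : D ⟶ H, e ≫ k = d) [Smooth H.hom]
    (hconn : RedSub.HasConnectedFibres H) (i : T ⟶ G) (hT : Red.IsMaximalTorus i)
    (a : T' ⟶ T) (b : T' ⟶ H) [IsMonHom a] [IsMonHom b] (hsq : IsPullback a b i k) :
    Red.IsMaximalTorus b := by
  obtain ⟨C, _, f₀, _, hC, hkr⟩ := hker
  obtain ⟨C₁, _, q, hq, ⟨L⟩⟩ := Groth.Agent.RedSub.H654.Coradical.exists_LQ hG
  have hd := K197.Corad.isKernel_of L hC hkr hkill
  obtain ⟨e, he⟩ := hDH
  have h1 : IsMonHom k := hH.1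
  have h2 : IsImmersion k.left := hH.2
  have h3 : Mono k.left := inferInstance
  have h4 : Mono k := Over.mono_of_mono_left k
  exact K197.DerSubTor.isMaximalTorus_inter hG L hd k (K197.DerSub.main hG L hd k e he hconn).2 e he hT hsq

end Groth.Agent.S5569
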