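import Groth.Statements.S5570
-- import your own Groth.Agent.* helpers here
import Groth.Agent.RedSub.K197.Rad
import Groth.Agent.Agf.H600.CentRedK
import Groth.Agent.Sga3B.MaxTorNear900

set_option autoImplicit false
open CategoryTheory MonoidalCategory CartesianMonoidalCategory MonObj GrpObj AlgebraicGeometry
universe u
open RedSub

namespace Groth.Agent.S5570

/-- Let G be a reductive S-group, q : Q ⟶ G a subtorus, z : Z ⟶ G its centraliser, ZZ ⟶ Z the centre of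
Z and R = rad(Z) ⟶ ZZ its maximal torus. Then Q ⊆ rad(Z), and Z is the centraliser in G of rad(Z).
(So Centr_G(Q) is critical.) -/
theorem result {S : Scheme.{u}} {G Q Z ZZ R : Over S} [GrpObj G] [GrpObj Q] [GrpObj Z]
    [GrpObj ZZ] [GrpObj R] (hG : Red.IsReductive G) (q : Q ⟶ G) [IsMonHom q] [Mono q] (hQ : Red.IsTorus Q) (z : Z ⟶ G)
    (hZ : Red.IsCentralizerOf q z) (jz : ZZ ⟶ Z) (hZZ : Red.IsCentre jz) (r : R ⟶ ZZ) (hR : Red.IsMaximalTorus r) :
    (∃ q' : Q ⟶ R, q' ≫ r ≫ jz ≫ z = q) ∧ Red.IsCentralizerOf (r ≫ jz ≫ z) z := by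
  have hZred : Red.IsReductive Z := Groth.Agent.Agf.H600.CentRedK.isReductive_of_isCentralizerOf hG q hQ z hZ
  have hzh : IsMonHom z := hZ.1
  have hzm : Mono z := hZ.2.1
  have hjh : IsMonHom jz := hZZ.1
  have hjm : Mono jz := hZZ.2.1
  have hrh : IsMonHom r := hR.1
  obtain ⟨q1, hq1⟩ := (hZ.2.2 Q q).2 fun X' x h => by
    rw [← MonObj.mul_comp, Groth.Agent.Sga3B.MaxTorNear900.mul_comm_of_isTorus hQ, MonObj.mul_comp]
  have hq1h : IsMonHom q1 := by
    have : IsMonHom (q1 ≫ z) := hq1.symm ▸ inferInstance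
    exact K197.RadSplit.isMonHom_of_comp q1 z this
  obtain ⟨q2, hq2⟩ := (hZZ.2.2 Q q1).2 fun X' x h => by
    rw [Category.comp_id, ← cancel_mono z, MonObj.mul_comp, MonObj.mul_comp, Category.assoc, hq1]
    exact ((hZ.2.2 X' (h ≫ z)).1 ⟨h, rfl⟩ X' (𝟙 _) x).symm ▸ by simp
  have hq2h : IsMonHom q2 := by
    have : IsMonHom (q2 ≫ jz) := hq2.symm ▸ inferInstance
    exact K197.RadSplit.isMonHom_of_comp q2 jz this
  obtain ⟨q', hq'⟩ := K197.Rad.exists_le_rad hZred hZZ hR hQ q2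
  have hq : q' ≫ r ≫ jz ≫ z = q := by rw [reassoc_of% hq', reassoc_of% hq2, hq1]
  refine ⟨⟨q', hq⟩, hZ.1, hZ.2.1, fun X g => ⟨?_, fun h => ?_⟩⟩
  · rintro ⟨y, rfl⟩ X' x h
    have h1 := K197.RadSplit.central_of_isCentre hZZ (h ≫ r) X' (𝟙 _) (x ≫ y)
    have h2 := congrArg (fun t => t ≫ z) h1
    simp only [MonObj.mul_comp, Category.assoc, Category.id_comp] at h2
    exact h2.symm
  · refine (hZ.2.2 X g).2 fun X' x k => ?_
    have h1 := h X' x (k ≫ q')
    rwa [Category.assoc, hq] at h1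

end Groth.Agent.S5570
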