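import Groth.Statements.S5571
import Groth.Agent.RedSub.K195.NormQ
import Groth.Agent.RedSub.K195.CentTor
import Groth.Agent.Agf.H600.CentRedK
import Groth.Agent.Sga3B.CentNorm900
import Groth.Agent.S5510
import Groth.Agent.Red.K217.CritNorm

set_option autoImplicit false
open CategoryTheory MonoidalCategory CartesianMonoidalCategory MonObj GrpObj AlgebraicGeometry
universe u
open RedSub

namespace Groth.Agent.S5571

/-- Let G be a reductive S-group, q : Q ⟶ G a C-critical torus (Q is the maximal torus of the centre of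
its centraliser Z = Centr_G(Q)), and N ⟶ G the normaliser of Q with Z ⟶ N. Then W_G(Q) = N/Z is
representable by a finite etale S-scheme. -/
theorem result {S : Scheme.{u}} {G Q Z ZZ N : Over S} [GrpObj G] [GrpObj Q] [GrpObj Z]
    [GrpObj ZZ] [GrpObj N] (hG : Red.IsReductive G) (q : Q ⟶ G) [IsMonHom q] [Mono q] (hQ : Red.IsTorus Q) (z : Z ⟶ G)
    (hZ : Red.IsCentralizerOf q z) (jz : ZZ ⟶ Z) (hZZ : Red.IsCentre jz) (q' : Q ⟶ ZZ) (hq' : q' ≫ jz ≫ z = q)
    (hcrit : Red.IsMaximalTorus q') (nG : N ⟶ G) (hN : Red.IsNormalizerOf q nG) (k : Z ⟶ N) [IsMonHom k]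
    (hk : k ≫ nG = z) :
    ∃ (W : Over S) (p : N ⟶ W), RedSub.IsQuotient k p ∧ IsFinite W.hom ∧ Etale W.hom := by
  have hGa : IsAffineHom G.hom := hG.1
  have hGs : Smooth G.hom := hG.2.1
  have hZr : Red.IsReductive Z := Groth.Agent.Agf.H600.CentRedK.isReductive_of_isCentralizerOf hG q hQ z hZ
  have hZR : RedSub.IsTypeR z := K195.CentTor.isTypeR_centralizer hG q hQ z hZ
  have hZc : IsClosedImmersion z.left := by
    obtain ⟨⟨Z₀, _, z₀, h1, h2, -⟩, -⟩ := Groth.Agent.Sga3B.CentNorm900.exists_centralizer_normalizer_torus hQ q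
    obtain ⟨e, -, -, he⟩ := Groth.Agent.Agf.H600.CentRedK.exists_iso_of_isCentralizerOf hZ h1
    rw [← he, Over.comp_left]
    infer_instance
  have hm : SGA3x.IsMultTypeFT ZZ := by
    obtain ⟨Z₀, _, z₀, h1, -, h2⟩ := Groth.Agent.S5510.result Z hZr
    obtain ⟨e, he, -, -⟩ := Groth.Agent.Agf.H600.CentRedK.exists_iso_of_isCentralizerOf h1 hZZ
    exact K10.MTLoc.of_iso' e h2
  exact (K195.NormQ.isClosedImmersion_iff hG z hZR nG
    (K217.CritNorm.isNormalizerOf hZr z q hZ jz hZZ hm q' hq' hcrit nG hN) k hk).1 hZc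

end Groth.Agent.S5571
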