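import Groth.Statements.S5574
import Groth.Agent.RedSub.K844.Critical

set_option autoImplicit false
open CategoryTheory MonoidalCategory CartesianMonoidalCategory MonObj GrpObj AlgebraicGeometry
universe u
open RedSub

namespace Groth.Agent.S5574

/-- (i) ⟺ (ii): Let S be connected, G a split reductive S-group (splitting D), H a subgroup of type (R)
containing T with root set R'. Then H is reductive and critical (equal to the centraliser in G of
its radical rad(H), the maximal torus of its centre) if and only if there are a system of simple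
roots Δ and Δ' ⊆ Δ such that R' is the set of roots which are integer combinations of Δ'. -/
theorem result {S : Scheme.{u}} [ConnectedSpace S] {G H : Over S} [GrpObj G] [GrpObj H]
    (D : Red.SplitRed G) (h : H ⟶ G) (hH : RedSub.IsTypeR h) (t : D.T ⟶ H) (ht : t ≫ h = D.i) (R' : Set D.idx)
    (hR' : ∀ a : D.idx, (∃ v : Red.Ga S ⟶ H, v ≫ h = D.u a) ↔ a ∈ R') :
    (Red.IsReductive H ∧ ∀ (ZH RH : Over S) [GrpObj ZH] [GrpObj RH] (jH : ZH ⟶ H) (rH : RH ⟶ ZH),
        Red.IsCentre jH → Red.IsMaximalTorus rH → Red.IsCentralizerOf (rH ≫ jH ≫ h) h) ↔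
      ∃ (b : D.P.Base) (Δ' : Set D.idx), Δ' ⊆ (b.support : Set D.idx) ∧
        R' = {a : D.idx | D.P.root a ∈ Submodule.span ℤ (D.P.root '' Δ')} := by
  exact K844.Critical.main D h t ht hH hR'


end Groth.Agent.S5574
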