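import Groth.Statements.S5575
import Groth.Agent.RedSub.K199.RCMain
import Groth.Agent.S5573

set_option autoImplicit false
open CategoryTheory MonoidalCategory CartesianMonoidalCategory MonObj GrpObj AlgebraicGeometry
universe u
open RedSub

namespace Groth.Agent.S5575

/-- Let G be a reductive S-group. The functor of subgroups of type (RC) of G (type (R), with closed root
sets on the geometric fibres) is representable by an S-scheme M which is smooth, quasi-projective
and of finite presentation over S: there is a universal subgroup of type (RC) of G_M such that every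
subgroup of type (RC) of a base change G_{S'} has the same points as its pullback along exactly one
S-morphism S' ⟶ M. -/
theorem result {S : Scheme.{u}} (G : Over S) [GrpObj G] (hG : Red.IsReductive G) :
    ∃ (M : Over S) (H : Over M.left) (_ : GrpObj H) (h : H ⟶ Red.bc M.hom G), RedSub.IsTypeR h ∧
      (∀ (s : ↥M.left) (D' : Red.SplitRed (Red.geomFibre s (Red.bc M.hom G))) (t' : D'.T ⟶ Red.geomFibre s _),
        t' ≫ (Over.pullback (Red.geomPt s)).map h = D'.i →
        ∀ a b c : D'.idx, (∃ v, v ≫ (Over.pullback (Red.geomPt s)).map h = D'.u a) →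
          (∃ v, v ≫ (Over.pullback (Red.geomPt s)).map h = D'.u b) → D'.P.root a + D'.P.root b = D'.P.root c →
          ∃ v, v ≫ (Over.pullback (Red.geomPt s)).map h = D'.u c) ∧
      (∀ (S' : Scheme.{u}) (f : S' ⟶ S) (H' : Over S') [GrpObj H'] (h' : H' ⟶ Red.bc f G), RedSub.IsTypeR h' →
        (∀ (s : ↥S') (D' : Red.SplitRed (Red.geomFibre s (Red.bc f G))) (t' : D'.T ⟶ Red.geomFibre s _),
          t' ≫ (Over.pullback (Red.geomPt s)).map h' = D'.i →
          ∀ a b c : D'.idx, (∃ v, v ≫ (Over.pullback (Red.geomPt s)).map h' = D'.u a) →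
            (∃ v, v ≫ (Over.pullback (Red.geomPt s)).map h' = D'.u b) → D'.P.root a + D'.P.root b = D'.P.root c →
            ∃ v, v ≫ (Over.pullback (Red.geomPt s)).map h' = D'.u c) →
        ∃! g : S' ⟶ M.left, g ≫ M.hom = f ∧ RedSub.SamePoints G f h' M h g) ∧
      Smooth M.hom ∧ LocallyOfFinitePresentation M.hom ∧ QuasiCompact M.hom ∧ QuasiSeparated M.hom ∧
      RedSub.IsLocallyQuasiProjective M :=
  K199.RCMain.main (fun hG h hH hRC => (Groth.Agent.S5573.result hG h hH hRC).1) hG

end Groth.Agent.S5575
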