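import Groth.Statements.S5576
-- import your own Groth.Agent.* helpers here
import Groth.Agent.RedSub.K197.SplitChar
import Groth.Agent.RedSub.K197.DSExact

set_option autoImplicit false
open CategoryTheory MonoidalCategory CartesianMonoidalCategory MonObj GrpObj AlgebraicGeometry
universe u
open RedSub

namespace Groth.Agent.S5576

lemma val {S : Scheme.{u}} {G : Over S} [GrpObj G] (D : Red.SplitRed G) {A : Over S} [GrpObj A]
    (f : G ⟶ A) [IsMonHom f] (h : ∀ a, D.u a ≫ f = 1) {n m : ℕ} (eneg : Fin n → D.idx)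
    (epos : Fin m → D.idx) {T' : Over S} (t : T' ⟶ G) {X : Over S}
    (g : X ⟶ RedSub.pow (Red.Ga S) n ⊗ (T' ⊗ RedSub.pow (Red.Ga S) m)) :
    (g ≫ ((fst _ _ ≫ RedSub.prodMap (Red.Ga S) n (fun k => D.u (eneg k))) *
        ((snd _ _ ≫ fst _ _ ≫ t) *
          (snd _ _ ≫ snd _ _ ≫ RedSub.prodMap (Red.Ga S) m (fun k => D.u (epos k)))))) ≫ f =
      g ≫ snd _ _ ≫ fst _ _ ≫ t ≫ f := by
  rw [Category.assoc, MonObj.mul_comp, MonObj.mul_comp]
  simp only [Category.assoc]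
  rw [K197.SplitChar.prodMap_comp D f h, K197.SplitChar.prodMap_comp D f h,
      MonObj.comp_one, MonObj.comp_one, MonObj.comp_one, _root_.one_mul, _root_.mul_one]

lemma conj {S : Scheme.{u}} {G : Over S} [GrpObj G] {A : Over S} [GrpObj A]
    (f : G ⟶ A) [IsMonHom f] (hA : ∀ (X : Over S) (x y : X ⟶ A), x * y = y * x) {X : Over S}
    (x y : X ⟶ G) : (x * y * x⁻¹) ≫ f = y ≫ f := by
  rw [MonObj.mul_comp, MonObj.mul_comp, GrpObj.inv_comp, hA _ (x ≫ f), mul_inv_cancel_right]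

/-- Let G be a split reductive S-group (splitting D, T ≅ D_S(M), system of simple roots b, big cell Ω =
U⁻ · T · U), N = {m | (α*, m) = 0 for all coroots}, T' = D_S(M/N) ⊆ T and Ω' = U⁻ · T' · U ⊆ Ω. Let
a be a simple root and n_a an S-point of G realising the reflection s_a. If g is a point of Ω' such
that n_a g n_a⁻¹ lies in Ω, then n_a g n_a⁻¹ lies in Ω'. -/
theorem result {S : Scheme.{u}} {G : Over S} [GrpObj G] (D : Red.SplitRed G)
    (b : D.P.Base) {n m : ℕ} (eneg : Fin n → D.idx) (epos : Fin m → D.idx)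
    (hneg : RedSub.Enumerates (RedSub.negRoots D.P b) eneg) (hpos : RedSub.Enumerates (RedSub.posRoots D.P b) epos)
    (N : AddSubgroup D.M) (hN : ∀ x : D.M, x ∈ N ↔ ∀ c : D.idx, D.P.coroot c x = 0)
    (nr : D.idx → (𝟙_ (Over S) ⟶ G)) (hnr : RedSub.RealisesReflections D nr) (a : D.idx) (ha : a ∈ b.support)
    (X : Over S) (g : X ⟶ RedSub.pow (Red.Ga S) n ⊗ (Red.DS S (D.M ⧸ N) ⊗ RedSub.pow (Red.Ga S) m))
    (hg : ∃ y : X ⟶ RedSub.pow (Red.Ga S) n ⊗ (D.T ⊗ RedSub.pow (Red.Ga S) m),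
      (toUnit X ≫ nr a) * (g ≫ ((fst _ _ ≫ RedSub.prodMap (Red.Ga S) n (fun k => D.u (eneg k))) *
        ((snd _ _ ≫ fst _ _ ≫ Red.DSmap S (QuotientAddGroup.mk' N) ≫ D.split.inv.hom.hom ≫ D.i) *
          (snd _ _ ≫ snd _ _ ≫ RedSub.prodMap (Red.Ga S) m (fun k => D.u (epos k)))))) * (toUnit X ≫ nr a)⁻¹ = y ≫ RedSub.cellMap D eneg epos) :
    ∃ y' : X ⟶ RedSub.pow (Red.Ga S) n ⊗ (Red.DS S (D.M ⧸ N) ⊗ RedSub.pow (Red.Ga S) m),
      (toUnit X ≫ nr a) * (g ≫ ((fst _ _ ≫ RedSub.prodMap (Red.Ga S) n (fun k => D.u (eneg k))) *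
        ((snd _ _ ≫ fst _ _ ≫ Red.DSmap S (QuotientAddGroup.mk' N) ≫ D.split.inv.hom.hom ≫ D.i) *
          (snd _ _ ≫ snd _ _ ≫ RedSub.prodMap (Red.Ga S) m (fun k => D.u (epos k)))))) * (toUnit X ≫ nr a)⁻¹ =
        y' ≫ ((fst _ _ ≫ RedSub.prodMap (Red.Ga S) n (fun k => D.u (eneg k))) *
        ((snd _ _ ≫ fst _ _ ≫ Red.DSmap S (QuotientAddGroup.mk' N) ≫ D.split.inv.hom.hom ≫ D.i) *
          (snd _ _ ≫ snd _ _ ≫ RedSub.prodMap (Red.Ga S) m (fun k => D.u (epos k))))) := by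
  obtain ⟨f, hf⟩ := K197.SplitChar.exists_char D N hN
  have hmon := hf.hom
  have hi : IsMonHom D.i := D.maximalTorus.1
  have hA := fun (X : Over S) (x y : X ⟶ Red.DS S N) => K197.SplitChar.ds_comm' N X x y
  obtain ⟨y, hy⟩ := hg
  have h5 : D.split.inv.hom.hom ≫ D.split.hom.hom.hom = 𝟙 _ :=
    congrArg (fun f => f.hom.hom) D.split.inv_hom_id
  have h6 : D.split.hom.hom.hom ≫ D.split.inv.hom.hom = 𝟙 _ :=
    congrArg (fun f => f.hom.hom) D.split.hom_inv_id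
  have h0 : ∀ x, ((QuotientAddGroup.mk' N).comp N.subtype) x = 0 := fun x => by simp
  have hWf := val D f hf.root eneg epos
    (Red.DSmap S (QuotientAddGroup.mk' N) ≫ D.split.inv.hom.hom ≫ D.i) g
  have h7 : (Red.DSmap S (QuotientAddGroup.mk' N) ≫ D.split.inv.hom.hom ≫ D.i) ≫ f = 1 := by
    rw [Category.assoc, Category.assoc, hf.torus, reassoc_of% h5,
      Groth.Agent.Sga3B.BorSpan613.DSmap_comp_DSmap, K197.DSExact.DSmap_eq_one _ h0]
  rw [h7, MonObj.comp_one, MonObj.comp_one, MonObj.comp_one] at hWf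
  have hyf : y ≫ RedSub.cellMap D eneg epos ≫ f = 1 := by
    rw [← Category.assoc, ← hy]
    exact (conj f hA _ _).trans hWf
  rw [K197.SplitChar.cellMap_comp D f hf.root, hf.torus] at hyf
  obtain ⟨z, hz⟩ := K197.DSExact.exists_lift N.subtype (QuotientAddGroup.mk' N)
    (QuotientAddGroup.mk'_surjective N)
    (fun x hx => ⟨⟨x, (QuotientAddGroup.eq_zero_iff x).1 hx⟩, rfl⟩)
    (y ≫ snd _ _ ≫ fst _ _ ≫ D.split.hom.hom.hom)
    (by simpa only [Category.assoc] using hyf)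
  refine ⟨lift (y ≫ fst _ _) (lift z (y ≫ snd _ _ ≫ snd _ _)), ?_⟩
  rw [hy, RedSub.cellMap]
  simp only [MonObj.comp_mul, lift_fst_assoc, lift_snd_assoc, Category.assoc]
  congr 2
  rw [reassoc_of% hz, reassoc_of% h6]

end Groth.Agent.S5576
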