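import Groth.Statements.S5580
import Groth.Agent.ToposFin.K223.Cop

set_option autoImplicit false
open CategoryTheory CategoryTheory.Limits Opposite
universe u
open ToposFin

namespace Groth.Agent.S5580

/-- Quasi-compact and coherent cases: for the topos of sheaves of sets on a small site: let (X_i) be a
finite family of objects with coproduct X (given as a colimit cofan) and f : X -> Y a morphism with
components f_i : X_i -> Y. Then f is quasi-compact (resp. coherent) if and only if every f_i is. -/
theorem result {C : Type u} [SmallCategory C] {J : GrothendieckTopology C}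
    {Y : ToposFin.Sh J} {n : ℕ} (X : Fin n → ToposFin.Sh J) (c : Cofan X) (hc : IsColimit c)
    (f : c.pt ⟶ Y) :
    (ToposFin.IsQCHom f ↔ ∀ i, ToposFin.IsQCHom (c.inj i ≫ f)) ∧
    (ToposFin.IsCohHom f ↔ ∀ i, ToposFin.IsCohHom (c.inj i ≫ f)) := by
  refine ⟨K223.Cop.isQCHom_cofan_iff hc f, ⟨fun h i => ?_, fun h => ?_⟩⟩
  · exact ⟨(K223.Cop.isQCHom_cofan_iff hc f).1 h.1 i, (K223.Cop.isQSHom_cofan_fin_iff hc f).1 h.2 i⟩
  · exact ⟨(K223.Cop.isQCHom_cofan_iff hc f).2 fun i => (h i).1,
      (K223.Cop.isQSHom_cofan_fin_iff hc f).2 fun i => (h i).2⟩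

end Groth.Agent.S5580
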