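import Groth.Statements.S5582
import Groth.Agent.ToposFin.K223.LFP
import Groth.Agent.S3072

set_option autoImplicit false
open CategoryTheory CategoryTheory.Limits Opposite
universe u
open ToposFin

namespace Groth.Agent.S5582

/-- Equivalence of (i), (ii bis) and (iii), for the topos of sheaves of sets on a small site admitting a
generating family of coherent objects: the coequalizer of every pair of arrows between coherent
objects is coherent if and only if every object X for which Hom(X, -) commutes with small filtered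
colimits is coherent; and every object is a small filtered colimit of coherent objects if and only
if that same condition holds. -/
theorem result {C : Type u} [SmallCategory C]
    {J : GrothendieckTopology C} (hE : ToposFin.HasCoherentGenerators J) :
    ((∀ (X₀ X₁ : ToposFin.Sh J) (a b : X₁ ⟶ X₀), ToposFin.IsCoherent X₀ → ToposFin.IsCoherent X₁ →
        ToposFin.IsCoherent (coequalizer a b)) ↔
      (∀ X : ToposFin.Sh J, ToposFin.IsFP X → ToposFin.IsCoherent X)) ∧
    ((∀ X : ToposFin.Sh J, ∃ (I : Type u) (_ : SmallCategory I) (_ : IsFiltered I) (D : I ⥤ ToposFin.Sh J),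
        (∀ i, ToposFin.IsCoherent (D.obj i)) ∧ Nonempty (X ≅ colimit D)) ↔
      (∀ X : ToposFin.Sh J, ToposFin.IsFP X → ToposFin.IsCoherent X)) := by
  refine ⟨⟨fun h X hX => ?_, fun h X₀ X₁ a b h₀ h₁ => ?_⟩, ⟨fun h X hX => ?_, fun h X => ?_⟩⟩
  · obtain ⟨X₀, X₁, a, b, i, p, h₀, h₁, hip⟩ := (S3072.result hE X).1 hX
    exact K223.Lex.isCoherent_of_retract i p hip (h X₀ X₁ a b h₀ h₁)
  · exact h _ ((S3072.result hE _).2 ⟨X₀, X₁, a, b, 𝟙 _, 𝟙 _, h₀, h₁, Category.comp_id _⟩)
  · obtain ⟨I, _, _, D, hD, ⟨e⟩⟩ := h X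
    have := (K223.LFP.isFP_iff X).1 hX
    obtain ⟨i, p, hp⟩ := IsFinitelyPresentable.exists_hom_of_isColimit (colimit.isColimit D) e.hom
    refine K223.Lex.isCoherent_of_retract p (colimit.ι D i ≫ e.inv) ?_ (hD i)
    change p ≫ (colimit.cocone D).ι.app i ≫ e.inv = _
    rw [← Category.assoc, hp, e.hom_inv_id]
  · obtain ⟨I, _, _, D, hD, hX⟩ := K223.LFP.exists_filtered_colimit hE X
    exact ⟨I, inferInstance, inferInstance, D, fun i => h _ (hD i), hX⟩

end Groth.Agent.S5582
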