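import Groth.Statements.S5583
import Groth.Agent.ToposFin.K223.Eps
import Groth.Agent.S5584

set_option autoImplicit false
open CategoryTheory CategoryTheory.Limits Opposite
universe u
open ToposFin

namespace Groth.Agent.S5583

/-- Let (C, J) be a small site with fibre products all of whose objects are quasi-compact. In the topos
of sheaves of sets, if G -> F <- H are morphisms between coherent objects and F lies over the sheaf
associated to some object of C, then G x_F H is coherent (so the coherent objects lying over such
sheaves form a generating family stable under fibre products). -/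
theorem result {C : Type u} [SmallCategory C] [HasPullbacks C]
    (J : GrothendieckTopology C) (hC : ∀ X : C, ToposFin.IsQCSite J X)
    {G H F : ToposFin.Sh J} (a : G ⟶ F) (b : H ⟶ F) (hG : ToposFin.IsCoherent G) (hH : ToposFin.IsCoherent H)
    (hF : ToposFin.IsCoherent F) (X : C) (w : F ⟶ ToposFin.eps J X) :
    ToposFin.IsCoherent (pullback a b) := by
  refine ⟨hF.2 _ _ a b hG.1 hH.1, ?_⟩
  have h1 := (S5584.result J hC X (a ≫ w) (b ≫ w) hG.2 hH.2).2
  have : Mono (pullback.mapDesc a b w) := by
    refine ⟨fun {Z} s t hst => ?_⟩
    apply pullback.hom_ext
    · have := congrArg (· ≫ pullback.fst _ _) hst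
      simpa only [pullback.mapDesc, Category.assoc, pullback.lift_fst, Category.comp_id] using this
    · have := congrArg (· ≫ pullback.snd _ _) hst
      simpa only [pullback.mapDesc, Category.assoc, pullback.lift_snd, Category.comp_id] using this
  exact Groth.Agent.Sga4A.FinBase.isQS_of_mono (pullback.mapDesc a b w) h1

end Groth.Agent.S5583
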