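import Groth.Statements.S5586
import Groth.Agent.ToposFin.K223.Lex
import Groth.Agent.S3064
import Groth.Agent.S5585

set_option autoImplicit false
open CategoryTheory CategoryTheory.Limits Opposite
universe u
open ToposFin

namespace Groth.Agent.S5586

/-- Quasi-separated and coherent cases: for an algebraic topos of sheaves of sets on a small site: let f
: X -> Y be a morphism and (Y_i -> Y) a jointly epimorphic family. If the Y_i are quasi-separated
(resp. coherent), then f is quasi-separated (resp. coherent) if and only if every X x_Y Y_i is a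
quasi-separated (resp. coherent) object. -/
theorem result {C : Type u} [SmallCategory C]
    {J : GrothendieckTopology C} (hE : ToposFin.IsAlgebraic J) {X Y : ToposFin.Sh J} (f : X ⟶ Y)
    {ι : Type u} (Yi : ι → ToposFin.Sh J) (g : ∀ i, Yi i ⟶ Y)
    (hg : ∀ (Z : ToposFin.Sh J) (a b : Y ⟶ Z), (∀ i, g i ≫ a = g i ≫ b) → a = b) :
    ((∀ i, ToposFin.IsQS (Yi i)) → (ToposFin.IsQSHom f ↔ ∀ i, ToposFin.IsQS (pullback f (g i)))) ∧
    ((∀ i, ToposFin.IsCoherent (Yi i)) →
      (ToposFin.IsCohHom f ↔ ∀ i, ToposFin.IsCoherent (pullback f (g i)))) := by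
  obtain ⟨S, hqc, hgen, hpb, heq⟩ := id hE
  have hE' := Groth.Agent.Topos.H563.AlgTopos.hasQCGenerators hqc hgen
  have hjs := Groth.Agent.Sga4A.QC.js_of_epiFamily hg
  have hg' : Epi (Sigma.desc g) := (Groth.Agent.Sga4A.QC.js_iff_epi g).1 hjs
  have h := S3064.result hE' f Yi g hg'
  constructor
  · intro hY
    rw [h.2]
    exact forall_congr' fun i => ((S5585.result hE (pullback.snd f (g i))).1 (hY i)).symm
  · intro hY
    have : IsCohHom f ↔ ∀ i, IsCohHom (pullback.snd f (g i)) := by
      refine ⟨fun hf i => ⟨h.1.1 hf.1 i, h.2.1 hf.2 i⟩, fun hf => ⟨h.1.2 fun i => (hf i).1, h.2.2 fun i => (hf i).2⟩⟩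
    rw [this]
    exact forall_congr' fun i => ((S5585.result hE (pullback.snd f (g i))).2 (hY i)).symm

end Groth.Agent.S5586
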