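import Groth.Statements.S5590
import Groth.Agent.ToposFin.K223.Lex

set_option autoImplicit false
open CategoryTheory CategoryTheory.Limits Opposite
universe u
open ToposFin

namespace Groth.Agent.S5590

/-- Let f be a morphism of topoi of sheaves of sets on small sites, with inverse image functor F (left
adjoint, preserving finite limits); let S be a generating set of coherent objects of the target
topos and assume the source topos admits a generating family of quasi-compact objects. Then f is
coherent, i.e. F carries quasi-compact objects to quasi-compact objects and quasi-separated objects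
to quasi-separated objects, if and only if F(X) is coherent for every X in S. -/
theorem result {C D : Type u} [SmallCategory C] [SmallCategory D]
    {J : GrothendieckTopology C} {K : GrothendieckTopology D}
    (F : ToposFin.Sh K ⥤ ToposFin.Sh J) (R : ToposFin.Sh J ⥤ ToposFin.Sh K) (adj : F ⊣ R)
    [PreservesFiniteLimits F]
    (hE' : ToposFin.HasQCGenerators J)
    (S : Set (ToposFin.Sh K)) (hS : ∀ X ∈ S, ToposFin.IsCoherent X) (hgen : ToposFin.IsGenerating S) :
    ((∀ X : ToposFin.Sh K, ToposFin.IsQC X → ToposFin.IsQC (F.obj X)) ∧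
      (∀ X : ToposFin.Sh K, ToposFin.IsQS X → ToposFin.IsQS (F.obj X))) ↔
      ∀ X ∈ S, ToposFin.IsCoherent (F.obj X) := by
  constructor
  · rintro ⟨h1, h2⟩ X hX
    exact ⟨h1 X (hS X hX).1, h2 X (hS X hX).2⟩
  · intro h
    have hqc : ∀ X : ToposFin.Sh K, ToposFin.IsQC X → ToposFin.IsQC (F.obj X) :=
      fun X hX => K223.Lex.isQC_map F R adj hgen (fun X hX => (h X hX).1) hX
    refine ⟨hqc, fun X hX => ?_⟩
    obtain ⟨ι, G, π, hG, hπ⟩ := Groth.Agent.Topos.H563.AlgTopos.exists_js hgen X
    rw [Groth.Agent.Sga4A.QS.isQS_iff_isQC_pullback_of_coherent_cover hE' (K223.Lex.js_map F R adj hπ)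
      (fun i => h _ (hG i))]
    intro i j
    have h1 : ToposFin.IsQC (F.obj (pullback (π i) (π j))) := hqc _ (hX _ _ _ _ (hS _ (hG i)).1 (hS _ (hG j)).1)
    exact Groth.Agent.Sga4A.QC.isQC_of_iso
      ((IsPullback.of_hasPullback (π i) (π j)).map F).isoPullback h1

end Groth.Agent.S5590
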