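import Groth.Statements.S5594
import Groth.Agent.EtDesc.K223.WESec

set_option autoImplicit false
open CategoryTheory CategoryTheory.Limits AlgebraicGeometry Opposite
universe u
open EtDesc

namespace Groth.Agent.S5594

/-- Let X be a scheme, x, x' points of X with strict localisations Spec R -> X and Spec R' -> X, and ξ'
: Spec κ(R') -> Spec R' the closed point, a geometric point of X over x'. Then restricting along ξ'
is a bijection from the X-morphisms Spec R' -> Spec R (specialization arrows) onto the X-morphisms
from the geometric point Spec κ(R') to Spec R: injectivity and surjectivity are stated separately. -/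
theorem result (X : Scheme.{u}) (x x' : X)
    (R : Type u) [CommRing R] [IsLocalRing R] [Algebra (X.presheaf.stalk x) R]
    [IsLocalHom (algebraMap (X.presheaf.stalk x) R)] [Hensel.IsStrictHenselization (X.presheaf.stalk x) R]
    (R' : Type u) [CommRing R'] [IsLocalRing R'] [Algebra (X.presheaf.stalk x') R']
    [IsLocalHom (algebraMap (X.presheaf.stalk x') R')] [Hensel.IsStrictHenselization (X.presheaf.stalk x') R'] :
    (∀ g₁ g₂ : Spec (CommRingCat.of R') ⟶ Spec (CommRingCat.of R),
      g₁ ≫ Hens2.specOf X x R = Hens2.specOf X x' R' → g₂ ≫ Hens2.specOf X x R = Hens2.specOf X x' R' →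
      Spec.map (CommRingCat.ofHom (IsLocalRing.residue R')) ≫ g₁ =
        Spec.map (CommRingCat.ofHom (IsLocalRing.residue R')) ≫ g₂ → g₁ = g₂) ∧
    (∀ h : Spec (CommRingCat.of (IsLocalRing.ResidueField R')) ⟶ Spec (CommRingCat.of R),
      h ≫ Hens2.specOf X x R = Hens2.geomPt X x' R' →
      ∃ g : Spec (CommRingCat.of R') ⟶ Spec (CommRingCat.of R),
        g ≫ Hens2.specOf X x R = Hens2.specOf X x' R' ∧
        Spec.map (CommRingCat.ofHom (IsLocalRing.residue R')) ≫ g = h) := by
  have hens : HenselianLocalRing R' := Hensel.IsStrictHenselization.henselian (R := X.presheaf.stalk x')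
  have hsc : IsSepClosure (IsLocalRing.ResidueField (X.presheaf.stalk x')) (IsLocalRing.ResidueField R') :=
    Hensel.IsStrictHenselization.isSepClosure
  have hsc' : IsSepClosed (IsLocalRing.ResidueField R') :=
    IsSepClosure.sep_closed (IsLocalRing.ResidueField (X.presheaf.stalk x'))
  have hw : WeaklyEtale (Hens2.specOf X x R) := Groth.Agent.S0754.result X x R
  have hres : (Spec.map (CommRingCat.ofHom (IsLocalRing.residue R')))
      (IsLocalRing.closedPoint (IsLocalRing.ResidueField R')) = IsLocalRing.closedPoint R' :=
    IsLocalRing.comap_closedPoint (IsLocalRing.residue R')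
  constructor
  · intro g₁ g₂ h₁ h₂ h
    have h3 : pullback.lift (𝟙 _) g₁ (by rw [Category.id_comp, h₁]) =
        pullback.lift (f := Hens2.specOf X x' R') (g := Hens2.specOf X x R) (𝟙 _) g₂
          (by rw [Category.id_comp, h₂]) := by
      apply K223.WESec.section_unique (pullback.fst (Hens2.specOf X x' R') (Hens2.specOf X x R))
      · exact pullback.lift_fst _ _ _
      · exact pullback.lift_fst _ _ _
      · rw [← hres]
        refine congrArg (fun s : Spec (CommRingCat.of (IsLocalRing.ResidueField R')) ⟶
          pullback (Hens2.specOf X x' R') (Hens2.specOf X x R) =>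
          s (IsLocalRing.closedPoint (IsLocalRing.ResidueField R')))
          (?_ : Spec.map (CommRingCat.ofHom (IsLocalRing.residue R')) ≫ pullback.lift _ _ _ =
            Spec.map (CommRingCat.ofHom (IsLocalRing.residue R')) ≫ pullback.lift _ _ _)
        apply pullback.hom_ext
        · rw [Category.assoc, Category.assoc, pullback.lift_fst, pullback.lift_fst]
        · rw [Category.assoc, Category.assoc, pullback.lift_snd, pullback.lift_snd]
          exact h
    have h4 := congrArg (fun s => s ≫ pullback.snd _ _) h3
    rwa [pullback.lift_snd, pullback.lift_snd] at h4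
  · intro h hh
    obtain ⟨s, hs1, hs2⟩ := K223.WESec.exists_section_of_point
      (pullback.fst (Hens2.specOf X x' R') (Hens2.specOf X x R)) _ hres
      (pullback.lift (Spec.map (CommRingCat.ofHom (IsLocalRing.residue R'))) h hh.symm) (pullback.lift_fst _ _ _)
    refine ⟨s ≫ pullback.snd _ _, ?_, ?_⟩
    · rw [Category.assoc, ← pullback.condition, reassoc_of% hs1]
    · rw [reassoc_of% hs2]
      exact pullback.lift_snd _ _ _

end Groth.Agent.S5594
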