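import Groth.Statements.S5593
import Groth.Agent.S5594
import Groth.Agent.Pi1C.StrictHensConn

set_option autoImplicit false
open CategoryTheory CategoryTheory.Limits AlgebraicGeometry Opposite
universe u
open EtDesc

namespace Groth.Agent.S5593

/-- Let X be a scheme, x, x' points of X with strict localisations Spec R -> X and Spec R' -> X (R, R'
strict henselisations of the local rings at x and x'). There is an X-morphism Spec R' -> Spec R,
i.e. the geometric point over x is a specialization of the one over x', if and only if x lies in the
closure of x'. -/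
theorem result (X : Scheme.{u}) (x x' : X)
    (R : Type u) [CommRing R] [IsLocalRing R] [Algebra (X.presheaf.stalk x) R]
    [IsLocalHom (algebraMap (X.presheaf.stalk x) R)] [Hensel.IsStrictHenselization (X.presheaf.stalk x) R]
    (R' : Type u) [CommRing R'] [IsLocalRing R'] [Algebra (X.presheaf.stalk x') R']
    [IsLocalHom (algebraMap (X.presheaf.stalk x') R')] [Hensel.IsStrictHenselization (X.presheaf.stalk x') R'] :
    (∃ g : Spec (CommRingCat.of R') ⟶ Spec (CommRingCat.of R), g ≫ Hens2.specOf X x R = Hens2.specOf X x' R') ↔
      x' ⤳ x := by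
  have hens : HenselianLocalRing R' := Hensel.IsStrictHenselization.henselian (R := X.presheaf.stalk x')
  have hsc : IsSepClosure (IsLocalRing.ResidueField (X.presheaf.stalk x')) (IsLocalRing.ResidueField R') :=
    Hensel.IsStrictHenselization.isSepClosure
  have hsc' : IsSepClosed (IsLocalRing.ResidueField R') :=
    IsSepClosure.sep_closed (IsLocalRing.ResidueField (X.presheaf.stalk x'))
  have hw : WeaklyEtale (Hens2.specOf X x R) := Groth.Agent.S0754.result X x R
  have hres : (Spec.map (CommRingCat.ofHom (IsLocalRing.residue R')))
      (IsLocalRing.closedPoint (IsLocalRing.ResidueField R')) = IsLocalRing.closedPoint R' :=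
    IsLocalRing.comap_closedPoint (IsLocalRing.residue R')
  constructor
  · rintro ⟨g, hg⟩
    have h1 : Hens2.specOf X x R (g (IsLocalRing.closedPoint R')) = x' := by
      change (g ≫ Hens2.specOf X x R) (IsLocalRing.closedPoint R') = x'
      rw [hg]
      exact Groth.Agent.Pi1C.StrictHensConn.specOf_closedPoint X x' R'
    rw [← h1]
    have h2 := (IsLocalRing.specializes_closedPoint (g (IsLocalRing.closedPoint R'))).map
      (Hens2.specOf X x R).continuous
    rwa [Groth.Agent.Pi1C.StrictHensConn.specOf_closedPoint X x R] at h2
  · intro h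
    have h1 : x' ⤳ Hens2.specOf X x R (IsLocalRing.closedPoint R) := by
      rwa [Groth.Agent.Pi1C.StrictHensConn.specOf_closedPoint X x R]
    obtain ⟨z, -, hz⟩ := Flat.generalizingMap (Hens2.specOf X x R) h1
    obtain ⟨ξ, hξ⟩ := Groth.Agent.Proet.WEtaleScheme.exists_lift_geometricPoint (Hens2.specOf X x R)
      (Hens2.geomPt X x' R') z (IsLocalRing.closedPoint (IsLocalRing.ResidueField R')) (by
        rw [hz]
        change x' = Hens2.specOf X x' R' ((Spec.map (CommRingCat.ofHom (IsLocalRing.residue R')))
          (IsLocalRing.closedPoint (IsLocalRing.ResidueField R')))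
        rw [hres]
        exact (Groth.Agent.Pi1C.StrictHensConn.specOf_closedPoint X x' R').symm)
    obtain ⟨g, hg, -⟩ := (Groth.Agent.S5594.result X x x' R R').2 ξ hξ
    exact ⟨g, hg⟩

end Groth.Agent.S5593
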