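import Groth.Statements.S5598
import Groth.Agent.PCoh.K225.PC2

set_option autoImplicit false
universe w v u
open CategoryTheory CategoryTheory.Limits
open PCoh

namespace Groth.Agent.S5598

/-- (i') ⇔ (ii') (punctual site): let C be an abelian category and C₀ a strictly full additive
subcategory, quasi-stable under kernels of epimorphisms and quasi-liftable. An object F of D(C) is
n-pseudo-coherent (isomorphic in D(C) to a strictly n-pseudo-coherent complex) if and only if there
are a strictly perfect complex E (bounded, all terms in C₀) and a morphism E ⟶ F of D(C) which is an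
n-isomorphism: an isomorphism on H^i for i > n and an epimorphism on H^n. -/
theorem result {C : Type u} [Category.{v} C] [Abelian C] [HasDerivedCategory.{w} C]
    (P : ObjectProperty C) [P.IsClosedUnderIsomorphisms] [P.ContainsZero] (hsum : ∀ X Y : C, P X → P Y → P (X ⨯ Y))
    (hqs : PCoh.IsQuasiStableUnderKernels P) (hql : PCoh.IsQuasiLiftable P)
    (n : ℤ) (F : DerivedCategory C) :
    (∃ E : CochainComplex C ℤ, PCoh.IsStrictPC P n E ∧ Nonempty (DerivedCategory.Q.obj E ≅ F)) ↔
      ∃ (E : CochainComplex C ℤ) (a b : ℤ) (α : DerivedCategory.Q.obj E ⟶ F),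
        (∀ i : ℤ, i < a ∨ b < i → IsZero (E.X i)) ∧ (∀ i : ℤ, P (E.X i)) ∧
        (∀ i : ℤ, n < i → IsIso ((DerivedCategory.homologyFunctor C i).map α)) ∧
        Epi ((DerivedCategory.homologyFunctor C n).map α) := by
  have hP := Groth.Agent.Pic13.H565.QLift.Hyp.mk' P hsum hqs hql
  constructor
  · rintro ⟨F₀, ⟨⟨b, hb⟩, hF₀⟩, ⟨e⟩⟩
    refine ⟨Groth.Agent.CalgB.DerTri.sge F₀ n, n, b, DerivedCategory.Q.map (Groth.Agent.CalgB.DerTri.sgeHom F₀ n) ≫ e.hom,
      fun i hi => ?_, fun i => ?_, fun i hi => ?_, ?_⟩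
    · by_cases h : i < n
      · exact Groth.Agent.CalgB.DerTri.sge_isZero F₀ n i h
      · exact IsZero.of_iso (hb i (by omega)) (Groth.Agent.CalgB.DerTri.sgeXIso F₀ n i (by omega))
    · by_cases h : i < n
      · exact hP.zero (Groth.Agent.CalgB.DerTri.sge_isZero F₀ n i h)
      · exact hP.iso (Groth.Agent.CalgB.DerTri.sgeXIso F₀ n i (by omega)).symm (hF₀ i (by omega))
    · have := (Groth.Agent.CalgB.DerTri.isIso_homologyFunctor_map_Q_iff _ i).2
        (Groth.Agent.CalgB.DerTri.quasiIsoAt_sgeHom F₀ n i hi)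
      rw [Functor.map_comp]
      infer_instance
    · have := (Groth.Agent.CalgB.DerTri.epi_homologyFunctor_map_Q_iff _ n).2
        (Groth.Agent.CalgB.DerTri.epi_homologyMap_sgeHom F₀ n)
      rw [Functor.map_comp]
      exact epi_comp _ _
  · rintro ⟨E, a, b, α, hE, hEP, hα, hα'⟩
    obtain ⟨G, g, h, hT⟩ := Pretriangulated.distinguished_cocone_triangle α
    have hG : G.IsLE (n - 1) :=
      (Groth.Agent.CalgB.DerTri.isLE_obj₃_iff hT n (n - 1) (by omega)).2 ⟨hα, hα'⟩
    exact K225.PC.NPC.obj₂ hP n hT ⟨E, ⟨⟨b, fun i hi => hE i (Or.inr hi)⟩, fun i _ => hEP i⟩, ⟨Iso.refl _⟩⟩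
      (K225.PC.NPC.of_isLE hP n (n - 1) (by omega) _ hG)

end Groth.Agent.S5598
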