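import Groth.Statements.S5606
import Groth.Agent.PCoh.K225.PC3

set_option autoImplicit false
universe w v u
open CategoryTheory CategoryTheory.Limits
open PCoh

namespace Groth.Agent.S5606

/-- Let C be an abelian category, C₀ ⊆ C₁ strictly full additive subcategories with C₀ quasi-stable
under kernels of epimorphisms and quasi-liftable. If every object of C₁ is C₀-pseudo-coherent, then
C₁ is quasi-liftable in C and quasi-stable under kernels of epimorphisms. -/
theorem result {C : Type u} [Category.{v} C] [Abelian C] [HasDerivedCategory.{w} C]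
    (P : ObjectProperty C) [P.IsClosedUnderIsomorphisms] [P.ContainsZero] (hsum : ∀ X Y : C, P X → P Y → P (X ⨯ Y))
    (hqs : PCoh.IsQuasiStableUnderKernels P) (hql : PCoh.IsQuasiLiftable P)
    (P₁ : ObjectProperty C) [P₁.IsClosedUnderIsomorphisms] [P₁.ContainsZero]
    (hsum₁ : ∀ X Y : C, P₁ X → P₁ Y → P₁ (X ⨯ Y)) (hle : ∀ X : C, P X → P₁ X)
    (hpc : ∀ X : C, P₁ X → PCoh.IsPC P ((DerivedCategory.singleFunctor C 0).obj X)) :
    PCoh.IsQuasiLiftable P₁ ∧ PCoh.IsQuasiStableUnderKernels P₁ := by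
  have hP := Groth.Agent.Pic13.H565.QLift.Hyp.mk' P hsum hqs hql
  constructor
  · intro E F u hu hF
    obtain ⟨G, π, hG, hπ⟩ := (K225.PC.NPC.zero_iff hP F).1 (hpc F hF 0)
    obtain ⟨F', q, hF', hq⟩ := Groth.Agent.Pic13.H565.QLift.exists_lift hP u π hG
    exact ⟨F', q, hle _ hF', hq⟩
  · rintro K hK ⟨N, hN⟩ h
    have h1 : ∀ n : ℤ, K225.PC.NPC P n ((DerivedCategory.singleFunctor C 0).obj (K.X 0)) :=
      K225.PC.mem_zero_of_exact (Pr := fun X => ∀ n : ℤ, K225.PC.NPC P n ((DerivedCategory.singleFunctor C 0).obj X))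
        (fun e h n => (h n).of_iso ((DerivedCategory.singleFunctor C 0).mapIso e))
        (fun h n => K225.PC.NPC.of_isZero hP n ((DerivedCategory.singleFunctor C 0).map_isZero h))
        (fun S hS h₂ h₃ n => by
          obtain ⟨m, rfl⟩ : ∃ m : ℤ, n = m + 1 := ⟨n - 1, by omega⟩
          exact K225.PC.NPC.ses₁ hP m hS (h₂ _) (h₃ _)) K hK N hN (fun i hi => hpc _ (h i hi))
    obtain ⟨G, π, hG, hπ⟩ := (K225.PC.NPC.zero_iff hP _).1 (h1 0)
    exact ⟨G, π, hle _ hG, hπ⟩

end Groth.Agent.S5606
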