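import Groth.Statements.S5608
import Groth.Agent.PCoh.K225.PC3

set_option autoImplicit false
universe w v u
open CategoryTheory CategoryTheory.Limits
open PCoh

namespace Groth.Agent.S5608

theorem hqs_of_coh {C : Type u} [Category.{v} C] [Abelian C] (P : ObjectProperty C)
    (hcoh : ∀ (X E : C) (u : E ⟶ X), P X → P E → PCoh.IsOfFiniteType P (kernel u)) :
    PCoh.IsQuasiStableUnderKernels P := by
  rintro K hK - h
  have h1 := hK 1
  rw [K.exactAt_iff' 0 1 2 (by simp) (by simp)] at h1
  have h2 := hK 0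
  rw [K.exactAt_iff' 0 0 1 (by simp) (by simp), ShortComplex.exact_iff_mono _ (by
      change K.d 0 0 = 0
      exact K.shape _ _ (by simp))] at h2
  have : Mono (K.sc' 0 1 2).f := h2
  exact K225.Coh.ft_of_iso (IsLimit.conePointUniqueUpToIso (limit.isLimit _) h1.fIsKernel)
    (hcoh _ _ (K.d 1 2) (h 2 (by omega)) (h 1 (by omega)))

theorem npc_of_coh {C : Type u} [Category.{v} C] [Abelian C] [HasDerivedCategory.{w} C] {P : ObjectProperty C}
    (hP : Groth.Agent.Pic13.H565.QLift.Hyp P)
    (hcoh : ∀ (X E : C) (u : E ⟶ X), P X → P E → PCoh.IsOfFiniteType P (kernel u)) (k : ℕ) :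
    ∀ H : C, PCoh.IsOfFiniteType P H → K225.Coh.Precoh P H →
      K225.PC.NPC P (-(k : ℤ)) ((DerivedCategory.singleFunctor C 0).obj H) := by
  induction k with
  | zero =>
    intro H h _
    exact (K225.PC.NPC.zero_iff hP H).2 h
  | succ k ih =>
    rintro H ⟨E, π, hE, hπ⟩ hH
    have hS : (ShortComplex.mk (kernel.ι π) π (kernel.condition π)).ShortExact :=
      { exact := ShortComplex.exact_kernel π }
    refine K225.PC.NPC.ses₃ hP _ hS ?_ (K225.PC.NPC.of_mem hP _ hE)
    have h1 : -((k + 1 : ℕ) : ℤ) + 1 = -(k : ℤ) := by push_cast; ring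
    rw [h1]
    exact ih _ (hH E π hE) (K225.Coh.Precoh.of_mono (fun E' u hE' => hcoh _ _ u hE hE') (kernel.ι π) inferInstance)

theorem coh_of_strict {C : Type u} [Category.{v} C] [Abelian C] {P : ObjectProperty C} (hP : K225.Coh.LHyp P)
    (hcoh : ∀ (X E : C) (u : E ⟶ X), P X → P E → PCoh.IsOfFiniteType P (kernel u)) (n : ℤ)
    (E : CochainComplex C ℤ) (hE : ∀ i, n ≤ i → P (E.X i)) (i : ℤ) :
    (n ≤ i → PCoh.IsOfFiniteType P (E.homology i)) ∧ (n < i → K225.Coh.Precoh P (E.homology i)) := by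
  have h1 : ∀ i, n ≤ i → PCoh.IsOfFiniteType P (E.cycles i) := fun i hi =>
    K225.Coh.ft_of_iso (IsLimit.conePointUniqueUpToIso (limit.isLimit _)
      (E.cyclesIsKernel i (i + 1) (by simp))) (hcoh _ _ (E.d i (i + 1)) (hE _ (by omega)) (hE i hi))
  have h2 : ∀ i, n ≤ i → K225.Coh.Precoh P (E.cycles i) := fun i hi =>
    K225.Coh.Precoh.of_mono (fun E' u hE' => hcoh _ _ u (hE i hi) hE') (E.iCycles i) inferInstance
  refine ⟨fun hi => K225.Coh.ft_of_epi (E.homologyπ i) inferInstance (h1 i hi), fun hi => ?_⟩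
  have hS : (ShortComplex.mk (E.toCycles (i - 1) i) (E.homologyπ i) (by simp)).Exact :=
    ShortComplex.exact_of_g_is_cokernel _ (E.homologyIsCokernel (i - 1) i (by simp))
  exact hP.precoh_of_exact hS (by dsimp; infer_instance) (K225.Coh.ft_of_mem (hE (i - 1) (by omega))) (h2 i hi.le)

/-- Punctual site: let C be an abelian category and C₀ a strictly full additive subcategory,
quasi-liftable in C, whose objects are C₀-coherent (of C₀-finite type, and every morphism from an
object of C₀ into them has kernel of C₀-finite type). For F ∈ D(C) with bounded above cohomology and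
n an integer: F is n-pseudo-coherent (isomorphic to a strictly n-pseudo-coherent complex) if and
only if H^n(F) is of C₀-finite type and H^i(F) is C₀-coherent for every i > n. -/
theorem result {C : Type u} [Category.{v} C] [Abelian C] [HasDerivedCategory.{w} C]
    (P : ObjectProperty C) [P.IsClosedUnderIsomorphisms] [P.ContainsZero] (hsum : ∀ X Y : C, P X → P Y → P (X ⨯ Y))
    (hql : PCoh.IsQuasiLiftable P)
    (hcoh : ∀ (X E : C) (u : E ⟶ X), P X → P E → PCoh.IsOfFiniteType P (kernel u))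
    (n : ℤ) (F : DerivedCategory C) (b : ℤ) (hb : ∀ i : ℤ, b < i → IsZero ((DerivedCategory.homologyFunctor C i).obj F)) :
    (∃ E : CochainComplex C ℤ, PCoh.IsStrictPC P n E ∧ Nonempty (DerivedCategory.Q.obj E ≅ F)) ↔
      (PCoh.IsOfFiniteType P ((DerivedCategory.homologyFunctor C n).obj F) ∧
        ∀ i : ℤ, n < i → (PCoh.IsOfFiniteType P ((DerivedCategory.homologyFunctor C i).obj F) ∧
          ∀ (E : C) (u : E ⟶ (DerivedCategory.homologyFunctor C i).obj F), P E → PCoh.IsOfFiniteType P (kernel u))) := by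
  have hqs := hqs_of_coh P hcoh
  have hP := Groth.Agent.Pic13.H565.QLift.Hyp.mk' P hsum hqs hql
  have hP' := K225.Coh.LHyp.mk' P hsum hql
  constructor
  · rintro ⟨E, ⟨-, hE⟩, ⟨e⟩⟩
    let a : ∀ i, E.homology i ≅ (DerivedCategory.homologyFunctor C i).obj F := fun i =>
      ((DerivedCategory.homologyFunctorFactors C i).app E).symm ≪≫ (DerivedCategory.homologyFunctor C i).mapIso e
    refine ⟨K225.Coh.ft_of_iso (a n) ((coh_of_strict hP' hcoh n E hE n).1 le_rfl), fun i hi =>
      ⟨K225.Coh.ft_of_iso (a i) ((coh_of_strict hP' hcoh n E hE i).1 hi.le), ?_⟩⟩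
    exact K225.Coh.Precoh.of_iso ((coh_of_strict hP' hcoh n E hE i).2 hi) (a i)
  · rintro ⟨h0, h⟩
    refine K225.PC.NPC.of_homology hP n (b - n + 1).toNat F
      ((DerivedCategory.isLE_iff F _).2 (fun i hi => hb i (by omega))) (fun i hi => ?_)
    rcases hi.eq_or_lt with rfl | hi
    · rw [sub_self]
      exact (K225.PC.NPC.zero_iff hP _).2 h0
    · obtain ⟨k, hk⟩ : ∃ k : ℕ, n - i = -(k : ℤ) := ⟨(i - n).toNat, by omega⟩
      rw [hk]
      exact npc_of_coh hP hcoh k _ (h i hi).1 (h i hi).2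

end Groth.Agent.S5608
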