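import Groth.Statements.S5610
import Groth.Agent.PCoh.K225.Perf

set_option autoImplicit false
universe w v u
open CategoryTheory CategoryTheory.Limits
open PCoh

namespace Groth.Agent.S5610

/-- Let C be an abelian category and C₀ a strictly full additive subcategory, liftable and stable under
kernels of epimorphisms. Let a ≤ b, a ≤ c, and let F be a strictly perfect complex (terms in C₀)
vanishing outside [a, c] with H^i(F) = 0 for i > b. Then F has perfect amplitude in [a, min b c]: it
is isomorphic in D(C) to a strictly perfect complex vanishing outside that interval. -/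
theorem result {C : Type u} [Category.{v} C] [Abelian C] [HasDerivedCategory.{w} C]
    (P : ObjectProperty C) [P.IsClosedUnderIsomorphisms] [P.ContainsZero] (hsum : ∀ X Y : C, P X → P Y → P (X ⨯ Y))
    (hlift : ∀ (E F : C) (u : E ⟶ F), Epi u → P F → IsSplitEpi u)
    (hst : ∀ (E F : C) (u : E ⟶ F), Epi u → P E → P F → P (kernel u))
    (a b c : ℤ) (hab : a ≤ b) (hac : a ≤ c) (F : CochainComplex C ℤ)
    (hP : ∀ i : ℤ, P (F.X i)) (hvan : ∀ i : ℤ, i < a ∨ c < i → IsZero (F.X i))
    (hcoh : ∀ i : ℤ, b < i → IsZero (F.homology i)) :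
    ∃ F' : CochainComplex C ℤ, (∀ i : ℤ, P (F'.X i)) ∧ (∀ i : ℤ, i < a ∨ min b c < i → IsZero (F'.X i)) ∧
      Nonempty (DerivedCategory.Q.obj F' ≅ DerivedCategory.Q.obj F) := by
  have hP' := hP
  have hP := K225.Perf.PHyp.mk' P hsum hlift hst
  by_cases hbc : c ≤ b
  · exact ⟨F, hP', fun i hi => hvan i (by omega), ⟨Iso.refl _⟩⟩
  · have hLE : F.IsLE b := by
      rw [CochainComplex.isLE_iff]
      exact fun i hi => (HomologicalComplex.exactAt_iff_isZero_homology _ _).2 (hcoh i hi)
    have hq : QuasiIso (F.ιTruncLE b) := inferInstance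
    have : IsIso (DerivedCategory.Q.map (F.ιTruncLE b)) := by
      rw [DerivedCategory.isIso_Q_map_iff_quasiIso]; exact hq
    have hz : ∀ i, b < i → IsZero ((F.truncLE b).X i) := fun i hi =>
      CochainComplex.isZero_of_isStrictlyLE (F.truncLE b) b i hi
    refine ⟨F.truncLE b, fun i => ?_, fun i hi => ?_, ⟨asIso (DerivedCategory.Q.map (F.ιTruncLE b))⟩⟩
    · rcases lt_trichotomy i b with h | h | h
      · exact hP.iso (F.truncLEXIso b i h).symm (hP' i)
      · subst h
        exact hP.iso (F.truncLEXIsoCycles i).symm (hP.cycles F i c (fun j hj => hvan j (Or.inr hj)) (fun j _ => hP' j)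
          (fun j hj => (HomologicalComplex.exactAt_iff_isZero_homology _ _).2 (hcoh j hj)))
      · exact hP.zero (hz i h)
    · by_cases h : b < i
      · exact hz i h
      · exact IsZero.of_iso (hvan i (by omega)) (F.truncLEXIso b i (by omega))

end Groth.Agent.S5610
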