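import Groth.Statements.S5613
import Groth.Agent.Sga67.KTrBasic
import Mathlib.Tactic.Ring
import Mathlib.Algebra.Ring.NegOnePow

set_option autoImplicit false
universe v u
open CategoryTheory CategoryTheory.Limits CategoryTheory.Pretriangulated
open KZero

namespace Groth.Agent.S5613

/-- Let C be a pretriangulated category, L an object of C and n an integer such that the coproduct ∐_{i
≥ 0} L⟦2ni⟧ exists in C. Then cl(L) = 0 in K₀(C). -/
theorem result {C : Type u} [Category.{v} C] [Preadditive C] [HasZeroObject C]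
    [HasShift C ℤ] [∀ n : ℤ, (shiftFunctor C n).Additive] [Pretriangulated C]
    (L : C) (n : ℤ) [HasCoproduct (fun i : ℕ => (shiftFunctor C (2 * n * (i : ℤ))).obj L)] :
    KZero.clTri L = 0 := by
  have hcl : ∀ X : C, KZero.clTr (⊤ : ObjectProperty C) X = KZero.clTri X := fun X =>
    Groth.Agent.Sga67.KTrBasic.clTr_of X trivial
  let f : ℕ → C := fun i => (shiftFunctor C (2 * n * (i : ℤ))).obj L
  have hf : HasCoproduct f := ‹_›
  let c : C := ∐ f
  let hc : IsColimit (Cofan.mk ((shiftFunctor C (2 * n)).obj c)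
      (fun i => (shiftFunctor C (2 * n)).map (Sigma.ι f i))) :=
    isColimitOfHasCoproductOfPreservesColimit (shiftFunctor C (2 * n)) f
  let e₀ : f 0 ≅ L := (shiftFunctorZero' C (2 * n * ((0 : ℕ) : ℤ)) (by simp)).app L
  let e : ∀ i : ℕ, f (i + 1) ≅ (shiftFunctor C (2 * n)).obj (f i) := fun i =>
    (shiftFunctorAdd' C (2 * n * (i : ℤ)) (2 * n) (2 * n * ((i + 1 : ℕ) : ℤ))
      (by push_cast; ring)).app L
  let inj : ∀ i : ℕ, f i ⟶ L ⊞ (shiftFunctor C (2 * n)).obj c := fun i =>
    match i with
    | 0 => e₀.hom ≫ biprod.inl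
    | i + 1 => (e i).hom ≫ (shiftFunctor C (2 * n)).map (Sigma.ι f i) ≫ biprod.inr
  let t : Cofan f := Cofan.mk (L ⊞ (shiftFunctor C (2 * n)).obj c) inj
  have ht : IsColimit t := Cofan.IsColimit.mk t
    (fun s => biprod.desc (e₀.inv ≫ s.inj 0)
      (Cofan.IsColimit.desc hc (fun i => (e i).inv ≫ s.inj (i + 1))))
    (by
      intro s i
      match i with
      | 0 =>
        change (e₀.hom ≫ biprod.inl) ≫ biprod.desc _ _ = _
        simp
      | i + 1 =>
        change ((e i).hom ≫ (shiftFunctor C (2 * n)).map (Sigma.ι f i) ≫ biprod.inr) ≫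
          biprod.desc _ _ = _
        have := Cofan.IsColimit.fac hc (fun i => (e i).inv ≫ s.inj (i + 1)) i
        simp only [Category.assoc, biprod.inr_desc]
        erw [this]
        simp)
    (by
      intro s m hm
      apply biprod.hom_ext'
      · have := hm 0
        change (e₀.hom ≫ biprod.inl) ≫ m = _ at this
        simp [← this]
      · refine Cofan.IsColimit.hom_ext hc _ _ (fun i => ?_)
        have := hm (i + 1)
        change ((e i).hom ≫ (shiftFunctor C (2 * n)).map (Sigma.ι f i) ≫ biprod.inr) ≫ m = _ at this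
        have h2 := Cofan.IsColimit.fac hc (fun i => (e i).inv ≫ s.inj (i + 1)) i
        simp only [biprod.inr_desc]
        erw [h2]
        rw [← this]
        simp [Cofan.inj]
        rfl)
  let φ : c ≅ L ⊞ (shiftFunctor C (2 * n)).obj c :=
    (colimit.isColimit _).coconePointUniqueUpToIso ht
  have h1 : KZero.clTri (C := C) (L ⊞ (shiftFunctor C (2 * n)).obj c) =
      KZero.clTri L + KZero.clTri ((shiftFunctor C (2 * n)).obj c) := by
    have := Groth.Agent.Sga67.KTrBasic.clTr_add (P := (⊤ : ObjectProperty C)) _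
      (binaryBiproductTriangle_distinguished L ((shiftFunctor C (2 * n)).obj c))
      trivial trivial trivial
    rw [hcl, hcl, hcl] at this
    exact this
  have h2 : ∀ (m : ℤ) (X : C), KZero.clTr (⊤ : ObjectProperty C) ((shiftFunctor C m).obj X) =
      (m.negOnePow : ℤ) • KZero.clTr (⊤ : ObjectProperty C) X := by
    have h1 : ∀ (K : C),
        KZero.clTr (⊤ : ObjectProperty C) (K⟦(1 : ℤ)⟧) = - KZero.clTr (⊤ : ObjectProperty C) K :=
      fun K => Groth.Agent.Sga67.KTrBasic.clTr_shift trivial trivial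
    intro m X
    induction m using Int.induction_on with
    | zero =>
      rw [Groth.Agent.Sga67.KTrBasic.clTr_iso ((shiftFunctorZero C ℤ).app X)]; simp
    | succ m ih =>
      rw [Groth.Agent.Sga67.KTrBasic.clTr_iso ((shiftFunctorAdd C (m : ℤ) 1).app X)]
      refine (h1 _).trans ?_
      rw [ih, Int.negOnePow_succ]
      simp
    | pred m ih =>
      have h2 : KZero.clTr (⊤ : ObjectProperty C) ((X⟦(-(m : ℤ) - 1)⟧)⟦(1 : ℤ)⟧) =
          KZero.clTr (⊤ : ObjectProperty C) (X⟦(-(m : ℤ))⟧) :=
        (Groth.Agent.Sga67.KTrBasic.clTr_iso ((shiftFunctorAdd' C (-(m : ℤ) - 1) 1 (-(m : ℤ))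
          (by ring)).app X)).symm
      rw [h1 _, ih] at h2
      rw [Int.negOnePow_sub, Int.negOnePow_one,
        ← neg_neg (KZero.clTr (⊤ : ObjectProperty C) (X⟦(-(m : ℤ) - 1)⟧)), h2]
      simp
  have h3 : KZero.clTri ((shiftFunctor C (2 * n)).obj c) = KZero.clTri c := by
    have := h2 (2 * n) c
    rw [hcl, hcl, Int.negOnePow_two_mul] at this
    simpa using this
  have h4 : KZero.clTri c = KZero.clTri (C := C) (L ⊞ (shiftFunctor C (2 * n)).obj c) := by
    have := Groth.Agent.Sga67.KTrBasic.clTr_iso (P := (⊤ : ObjectProperty C)) φ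
    rwa [hcl, hcl] at this
  rw [h1, h3] at h4
  simpa using h4

end Groth.Agent.S5613
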