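import Groth.Statements.S5614
import Groth.Agent.Sga67.KTrBasic

set_option autoImplicit false
universe v u
open CategoryTheory CategoryTheory.Limits CategoryTheory.Pretriangulated
open KZero

namespace Groth.Agent.S5614

/-- Let C be a pretriangulated category and S a dense set of objects, meaning that every set of objects
which contains S and which contains the third vertex of a distinguished triangle as soon as it
contains the other two is all of C. Then K₀(C) is generated by the classes of the objects of S. -/
theorem result {C : Type u} [Category.{v} C] [Preadditive C] [HasZeroObject C]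
    [HasShift C ℤ] [∀ n : ℤ, (shiftFunctor C n).Additive] [Pretriangulated C]
    (S : Set C)
    (hdense : ∀ T : Set C, S ⊆ T →
      (∀ tr : Triangle C, tr ∈ distinguishedTriangles →
        (tr.obj₁ ∈ T → tr.obj₂ ∈ T → tr.obj₃ ∈ T) ∧ (tr.obj₁ ∈ T → tr.obj₃ ∈ T → tr.obj₂ ∈ T) ∧
          (tr.obj₂ ∈ T → tr.obj₃ ∈ T → tr.obj₁ ∈ T)) → T = Set.univ) :
    AddSubgroup.closure (KZero.clTri '' S) = (⊤ : AddSubgroup (KZero.K0tri C)) := by
  have hadd : ∀ tr : Triangle C, tr ∈ distinguishedTriangles →
      KZero.clTri tr.obj₂ = KZero.clTri tr.obj₁ + KZero.clTri tr.obj₃ := by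
    intro tr htr
    unfold KZero.clTri
    rw [← QuotientAddGroup.mk_add, QuotientAddGroup.eq]
    have : FreeAbelianGroup.of (⟨tr.obj₂, trivial⟩ : Subtype (⊤ : ObjectProperty C))
        - FreeAbelianGroup.of ⟨tr.obj₁, trivial⟩ - FreeAbelianGroup.of ⟨tr.obj₃, trivial⟩ ∈
          KZero.relTr (⊤ : ObjectProperty C) :=
      AddSubgroup.subset_closure ⟨tr, trivial, trivial, trivial, htr, rfl⟩
    rw [← AddSubgroup.neg_mem_iff] at this
    convert this using 1
    abel
  set R := AddSubgroup.closure (KZero.clTri '' S) with hR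
  have hT := hdense {X | KZero.clTri X ∈ R}
    (fun X hX => AddSubgroup.subset_closure (Set.mem_image_of_mem _ hX)) (by
      intro tr htr
      have h := hadd tr htr
      refine ⟨fun h₁ h₂ => ?_, fun h₁ h₃ => ?_, fun h₂ h₃ => ?_⟩
      · have : KZero.clTri tr.obj₃ = KZero.clTri tr.obj₂ - KZero.clTri tr.obj₁ := by
          rw [h]; abel
        show _ ∈ R
        rw [this]
        exact R.sub_mem h₂ h₁
      · show _ ∈ R
        rw [h]
        exact R.add_mem h₁ h₃
      · have : KZero.clTri tr.obj₁ = KZero.clTri tr.obj₂ - KZero.clTri tr.obj₃ := by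
          rw [h]; abel
        show _ ∈ R
        rw [this]
        exact R.sub_mem h₂ h₃)
  rw [eq_top_iff]
  rintro x -
  refine Groth.Agent.Sga67.KTrBasic.memTr_of_forall R (fun X hX => ?_) x
  have hX' : X ∈ {X | KZero.clTri X ∈ R} := hT ▸ Set.mem_univ X
  have : KZero.clTr (⊤ : ObjectProperty C) X = KZero.clTri X :=
    Groth.Agent.Sga67.KTrBasic.clTr_of X trivial
  rw [this]
  exact hX'

end Groth.Agent.S5614
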