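import Groth.Statements.S5615

set_option autoImplicit false
universe v u
open CategoryTheory CategoryTheory.Limits
open KZero

namespace Groth.Agent.S5615

/-- Let A be an abelian category and S a dense set of objects, meaning that every set of objects which
contains S and which contains the third term of a short exact sequence as soon as it contains the
other two is all of A. Then K₀(A) is generated by the classes of the objects of S. -/
theorem result {A : Type u} [Category.{v} A] [Abelian A] (S : Set A)
    (hdense : ∀ T : Set A, S ⊆ T →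
      (∀ X : ShortComplex A, X.ShortExact →
        (X.X₁ ∈ T → X.X₂ ∈ T → X.X₃ ∈ T) ∧ (X.X₁ ∈ T → X.X₃ ∈ T → X.X₂ ∈ T) ∧
          (X.X₂ ∈ T → X.X₃ ∈ T → X.X₁ ∈ T)) → T = Set.univ) :
    AddSubgroup.closure (KZero.cl '' S) = (⊤ : AddSubgroup (KZero.K0 A)) := by
  have hadd : ∀ X : ShortComplex A, X.ShortExact →
      KZero.cl X.X₂ = KZero.cl X.X₁ + KZero.cl X.X₃ := by
    intro X hX
    unfold KZero.cl
    rw [← QuotientAddGroup.mk_add, QuotientAddGroup.eq]
    have : FreeAbelianGroup.of X.X₂ - FreeAbelianGroup.of X.X₁ - FreeAbelianGroup.of X.X₃ ∈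
          KZero.relAb A :=
      AddSubgroup.subset_closure ⟨X, hX, rfl⟩
    rw [← AddSubgroup.neg_mem_iff] at this
    convert this using 1
    abel
  set R := AddSubgroup.closure (KZero.cl '' S) with hR
  have hT := hdense {X | KZero.cl X ∈ R}
    (fun X hX => AddSubgroup.subset_closure (Set.mem_image_of_mem _ hX)) (by
      intro X hX
      have h := hadd X hX
      refine ⟨fun h₁ h₂ => ?_, fun h₁ h₃ => ?_, fun h₂ h₃ => ?_⟩
      · have : KZero.cl X.X₃ = KZero.cl X.X₂ - KZero.cl X.X₁ := by
          rw [h]; abel
        show _ ∈ R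
        rw [this]
        exact R.sub_mem h₂ h₁
      · show _ ∈ R
        rw [h]
        exact R.add_mem h₁ h₃
      · have : KZero.cl X.X₁ = KZero.cl X.X₂ - KZero.cl X.X₃ := by
          rw [h]; abel
        show _ ∈ R
        rw [this]
        exact R.sub_mem h₂ h₃)
  rw [eq_top_iff]
  rintro x -
  obtain ⟨y, rfl⟩ := QuotientAddGroup.mk_surjective x
  induction y using FreeAbelianGroup.induction_on with
  | zero => exact R.zero_mem
  | of X =>
    have hX' : X ∈ {X | KZero.cl X ∈ R} := hT ▸ Set.mem_univ X
    exact hX'
  | neg M h => exact R.neg_mem h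
  | add a b ha hb => exact R.add_mem ha hb

end Groth.Agent.S5615
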