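import Groth.Statements.S5616
import Groth.Agent.S1033
import Mathlib.Algebra.Homology.DerivedCategory.Ext.Map

set_option autoImplicit false
universe w w' v v' u u'
open CategoryTheory CategoryTheory.Limits
open CohDer

namespace Groth.Agent.S5616

open CategoryTheory.Abelian

section

variable {A : Type u} [Category.{v} A] [Abelian A] [HasExt.{w} A]
    {B : Type u'} [Category.{v'} B] [Abelian B] [HasExt.{w'} B]
    (φ : A ⥤ B) [φ.Additive] [PreservesFiniteLimits φ] [PreservesFiniteColimits φ] (M : A)

lemma kernel_shortExact {L L' : A} (p : L' ⟶ L) [Epi p] :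
    (ShortComplex.mk (kernel.ι p) p (kernel.condition p)).ShortExact where
  exact := ShortComplex.exact_of_f_is_kernel _ (kernelIsKernel p)
  mono_f := inferInstanceAs (Mono (kernel.ι p))
  epi_g := inferInstanceAs (Epi p)

lemma map_precomp {L L' : A} (p : L' ⟶ L) {n : ℕ} (x : Ext.{w} L M n) :
    ((Ext.mk₀ p).comp x (zero_add n)).mapExactFunctor φ =
      (Ext.mk₀ (φ.map p)).comp (x.mapExactFunctor φ) (zero_add n) := by
  rw [Ext.mapExactFunctor_comp, Ext.mapExactFunctor_mk₀]

set_option backward.isDefEq.respectTransparency false in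
lemma map_extClass_comp {S : ShortComplex A} (hS : S.ShortExact) {n m : ℕ} (z : Ext.{w} S.X₁ M n)
    (h : 1 + n = m) : (hS.extClass.comp z h).mapExactFunctor φ =
      (hS.map_of_exact φ).extClass.comp (z.mapExactFunctor φ) h := by
  rw [Ext.mapExactFunctor_comp, Ext.mapExactFunctor_extClass]

/-- The inductive step. -/
lemma bijective_of_effaceable
    (h0 : ∀ L : A, Function.Bijective (fun f : L ⟶ M => φ.map f))
    (heff : ∀ (L : A) (n : ℕ), 1 ≤ n → ∀ x : Abelian.Ext.{w'} (φ.obj L) (φ.obj M) n,
          ∃ (L' : A) (p : L' ⟶ L), Epi p ∧ (Abelian.Ext.mk₀ (φ.map p)).comp x (zero_add n) = 0)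
    (n : ℕ) : ∀ L : A, Function.Bijective
      (fun f : Abelian.Ext.{w} L M n => Abelian.Ext.mapExactFunctor φ f) := by
  induction n with
  | zero =>
    intro L
    have h1 : (fun f : Abelian.Ext.{w} L M 0 => Abelian.Ext.mapExactFunctor φ f) =
        Ext.homEquiv₀.symm ∘ φ.map ∘ Ext.homEquiv₀ := Ext.mapExactFunctor₀ φ L M
    rw [h1]
    exact (Equiv.bijective _).comp ((h0 L).comp (Equiv.bijective _))
  | succ n ih =>
    intro L
    constructor
    · intro x y hxy
      suffices H : ∀ x : Abelian.Ext.{w} L M (n + 1), Abelian.Ext.mapExactFunctor φ x = 0 → x = 0 by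
        have h2 : (φ.mapExtAddHom L M (n + 1)) x = (φ.mapExtAddHom L M (n + 1)) y := hxy
        rw [← sub_eq_zero, ← map_sub] at h2
        exact sub_eq_zero.1 (H _ h2)
      intro x hx
      obtain ⟨L', p, hp, h⟩ := Groth.Agent.S1033.exists_epi_ext_comp_eq_zero x
      have hS := kernel_shortExact p
      obtain ⟨z, hz⟩ := Ext.contravariant_sequence_exact₃ hS M x h (n₀ := n) (by lia)
      have hS' := hS.map_of_exact φ
      have h1 : hS'.extClass.comp (z.mapExactFunctor φ) (by lia : 1 + n = n + 1) = 0 := by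
        have h3 := map_extClass_comp φ M hS z (by lia : 1 + n = n + 1)
        rw [hz, hx] at h3
        exact h3.symm
      obtain ⟨w, hw⟩ := Ext.contravariant_sequence_exact₁ hS' _ (z.mapExactFunctor φ) _ h1
      obtain ⟨w', hw'⟩ := (ih L').2 w
      change w'.mapExactFunctor φ = w at hw'
      have h2 : (Ext.mk₀ (kernel.ι p)).comp w' (zero_add n) = z := by
        apply (ih (kernel p)).1
        change ((Ext.mk₀ (kernel.ι p)).comp w' (zero_add n)).mapExactFunctor φ =
          z.mapExactFunctor φ
        rw [map_precomp, hw', ← hw]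
        rfl
      rw [← hz, ← h2]
      change hS.extClass.comp ((Ext.mk₀ (ShortComplex.mk (kernel.ι p) p
        (kernel.condition p)).f).comp w' (zero_add n)) (by lia) = 0
      rw [ShortComplex.ShortExact.extClass_comp_assoc]
    · intro x
      obtain ⟨L', p, hp, h⟩ := heff L (n + 1) (by lia) x
      have hS := kernel_shortExact p
      have hS' := hS.map_of_exact φ
      obtain ⟨z, hz⟩ := Ext.contravariant_sequence_exact₃ hS' (φ.obj M) x h (n₀ := n) (by lia)
      obtain ⟨z', hz'⟩ := (ih (kernel p)).2 z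
      change z'.mapExactFunctor φ = z at hz'
      refine ⟨hS.extClass.comp z' (by lia), ?_⟩
      change (hS.extClass.comp z' (by lia)).mapExactFunctor φ = x
      rw [map_extClass_comp, ← hz, ← hz']

end

/-- Let φ : A ⥤ B be an exact functor of abelian categories and M an object of A. The following are
equivalent: (i) for every L in A and every n, the map Ext^n_A(L, M) → Ext^n_B(φ L, φ M) induced by φ
is bijective; (ii) for every L the map Hom_A(L, M) → Hom_B(φ L, φ M) is bijective, and for every L,
every n ≥ 1 and every x ∈ Ext^n_B(φ L, φ M) there is an epimorphism L' ⟶ L of A such that x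
precomposed with its image under φ vanishes. -/
theorem result
    {A : Type u} [Category.{v} A] [Abelian A] [HasExt.{w} A]
    {B : Type u'} [Category.{v'} B] [Abelian B] [HasExt.{w'} B]
    (φ : A ⥤ B) [φ.Additive] [PreservesFiniteLimits φ] [PreservesFiniteColimits φ] (M : A) :
    (∀ (L : A) (n : ℕ), Function.Bijective (fun f : Abelian.Ext.{w} L M n => Abelian.Ext.mapExactFunctor φ f)) ↔
      ((∀ L : A, Function.Bijective (fun f : L ⟶ M => φ.map f)) ∧
        ∀ (L : A) (n : ℕ), 1 ≤ n → ∀ x : Abelian.Ext.{w'} (φ.obj L) (φ.obj M) n,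
          ∃ (L' : A) (p : L' ⟶ L), Epi p ∧ (Abelian.Ext.mk₀ (φ.map p)).comp x (zero_add n) = 0) := by
  constructor
  · intro h
    refine ⟨fun L => ?_, fun L n hn x => ?_⟩
    · have h1 : (fun f : Abelian.Ext.{w} L M 0 => Abelian.Ext.mapExactFunctor φ f) =
        Ext.homEquiv₀.symm ∘ φ.map ∘ Ext.homEquiv₀ := Ext.mapExactFunctor₀ φ L M
      have h2 := h L 0
      rw [h1, Function.Bijective.of_comp_iff' (Equiv.bijective _),
        Function.Bijective.of_comp_iff _ (Equiv.bijective _)] at h2
      exact h2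
    · obtain ⟨m, rfl⟩ : ∃ m, n = m + 1 := ⟨n - 1, by lia⟩
      obtain ⟨y, rfl⟩ := (h L (m + 1)).2 x
      obtain ⟨L', p, hp, h1⟩ := Groth.Agent.S1033.exists_epi_ext_comp_eq_zero y
      refine ⟨L', p, hp, ?_⟩
      change (Ext.mk₀ (φ.map p)).comp (y.mapExactFunctor φ) (zero_add _) = 0
      rw [← map_precomp, h1, Ext.mapExactFunctor_zero]
  · rintro ⟨h0, heff⟩ L n
    exact bijective_of_effaceable φ M h0 heff n L

end Groth.Agent.S5616
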