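import Groth.Statements.S5618
import Groth.Agent.PCoh.K225.PC2

set_option autoImplicit false
universe w v u
open CategoryTheory CategoryTheory.Limits
open PCoh

namespace Groth.Agent.S5618

/-- Second assertion (punctual site): let C be an abelian category and C₀ a strictly full additive
subcategory, quasi-stable under kernels of epimorphisms and quasi-liftable. If F ∈ D(C) is
pseudo-coherent and acyclic in degrees ≥ m, then F is isomorphic in D(C) to a strictly
pseudo-coherent complex E (all terms in C₀) with E^i = 0 for i ≥ m. -/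
theorem result {C : Type u} [Category.{v} C] [Abelian C] [HasDerivedCategory.{w} C]
    (P : ObjectProperty C) [P.IsClosedUnderIsomorphisms] [P.ContainsZero] (hsum : ∀ X Y : C, P X → P Y → P (X ⨯ Y))
    (hqs : PCoh.IsQuasiStableUnderKernels P) (hql : PCoh.IsQuasiLiftable P)
    (m : ℤ) (F : DerivedCategory C) (hF : PCoh.IsPC P F)
    (hac : ∀ i : ℤ, m ≤ i → IsZero ((DerivedCategory.homologyFunctor C i).obj F)) :
    ∃ E : CochainComplex C ℤ, (∀ i : ℤ, P (E.X i)) ∧ (∀ i : ℤ, m ≤ i → IsZero (E.X i)) ∧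
      Nonempty (DerivedCategory.Q.obj E ≅ F) := by
  have hP := Groth.Agent.Pic13.H565.QLift.Hyp.mk' P hsum hqs hql
  obtain ⟨K, hK, ⟨e⟩⟩ := hF 0
  have hLE : F.IsLE (m - 1) := (DerivedCategory.isLE_iff F (m - 1)).2 (fun i hi => hac i (by omega))
  obtain ⟨E, f, hf, hE, hE'⟩ := K225.PC.exists_resol hP (fun _ => True) (fun _ _ _ _ => trivial) K
    (fun i _ => K225.PC.NPC.of_iso (hF i) e.symm) (m - 1)
    (DerivedCategory.TStructure.t.isLE_of_iso e.symm (m - 1))
  have : IsIso (DerivedCategory.Q.map f) := by rw [DerivedCategory.isIso_Q_map_iff_quasiIso]; exact hf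
  exact ⟨E, fun i => hE' i trivial, fun i hi => hE i (by omega), ⟨asIso (DerivedCategory.Q.map f) ≪≫ e⟩⟩

end Groth.Agent.S5618
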