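import Groth.Statements.S5620
import Groth.Agent.PCoh.K225.PC3

set_option autoImplicit false
universe w v u w' v' u'
open CategoryTheory CategoryTheory.Limits
open PCoh

namespace Groth.Agent.S5620

open DerivedCategory K225.PC Groth.Agent.Pic13.H565.QLift Groth.Agent.CalgB.DerTri in
theorem npc_map_strict {C : Type u} [Category.{v} C] [Abelian C] [HasDerivedCategory.{w} C]
    (P : ObjectProperty C) (hz : ∀ {X : C}, IsZero X → P X) (hP : ∀ {X Y : C}, (X ≅ Y) → P X → P Y)
    {C' : Type u'} [Category.{v'} C'] [Abelian C'] [HasDerivedCategory.{w'} C']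
    {P' : ObjectProperty C'} (hP' : Hyp P')
    (u : DerivedCategory C ⥤ DerivedCategory C') [u.CommShift ℤ] [u.IsTriangulated] (a : ℤ)
    (hi : ∀ E : C, P E → NPC P' a (u.obj ((DerivedCategory.singleFunctor C 0).obj E))) (m : ℤ) (k : ℕ) :
    ∀ (E : CochainComplex C ℤ) (_ : ∀ i, i < m → IsZero (E.X i)) (_ : ∀ i, m + k ≤ i → IsZero (E.X i))
      (_ : ∀ i, P (E.X i)) (c : ℤ) (_ : m + k - 1 + a ≤ c), NPC P' c (u.obj (Q.obj E)) := by
  induction k with
  | zero =>
    intro E h1 h2 _ c _
    refine NPC.of_isZero hP' c (u.map_isZero (Q.map_isZero ?_))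
    rw [IsZero.iff_id_eq_zero]
    ext i
    by_cases h : i < m
    · exact (h1 i h).eq_of_src _ _
    · exact (h2 i (by push_cast; omega)).eq_of_src _ _
  | succ k ih =>
    intro E h1 h2 hE c hc
    refine NPC.obj₂ hP' c (u.map_distinguished _ (triangleOfSES_distinguished (ses_stupid E (m + k)))) ?_ ?_
    · change NPC P' c (u.obj (Q.obj (sge E (m + k))))
      obtain ⟨e⟩ := iso_single' (sge E (m + k)) (m + k) (fun i hi => by
        by_cases h : i < m + k
        · exact sge_isZero E _ i h
        · exact IsZero.of_iso (h2 i (by push_cast; omega)) (sgeXIso E (m + k) i (by omega)))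
      have h3 := hi _ (hP (sgeXIso E (m + k) (m + k) le_rfl).symm (hE (m + k)))
      have h4 : NPC P' (a + (m + k)) (u.obj (Q.obj (sge E (m + k)))) := by
        refine NPC.of_shift (m + k) a rfl ?_
        refine NPC.of_iso h3 ((u.mapIso ?_) ≪≫ (u.commShiftIso (m + (k : ℤ))).app _)
        exact (((DerivedCategory.singleFunctors C).shiftIso (m + k) 0 (m + k) (by omega)).app _).symm ≪≫
          (shiftFunctor (DerivedCategory C) (m + (k : ℤ))).mapIso e.symm
      exact h4.mono (by push_cast at hc; omega)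
    · change NPC P' c (u.obj (Q.obj (slt E (m + k))))
      refine ih _ (fun i hi => ?_) (fun i hi => slt_isZero E _ i hi) (fun i => ?_) c (by push_cast at hc; omega)
      · have := isIso_sltHom_f E (m + k) i (by omega)
        exact IsZero.of_iso (h1 i hi) (asIso ((sltHom E (m + k)).f i)).symm
      · by_cases h : i < m + k
        · have := isIso_sltHom_f E (m + k) i h
          exact hP (asIso ((sltHom E (m + k)).f i)) (hE i)
        · exact hz (slt_isZero E _ i (by omega))

/-- Let (C, C₀) and (C', C₀') be abelian categories with strictly full additive subcategories, each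
quasi-stable under kernels of epimorphisms and quasi-liftable, and let u : D(C) ⥤ D(C') be a
triangulated functor. Suppose there are integers a, b such that (i) for every E in C₀ the object
u(E[0]) is a-pseudo-coherent relative to C₀', and (ii) u sends objects acyclic in degrees > 0 to
objects acyclic in degrees > b. Then if F ∈ D(C) is m-pseudo-coherent and acyclic in degrees > n,
u(F) is max(m + b, n + a)-pseudo-coherent relative to C₀' and acyclic in degrees > n + b. (The
source lets u be defined on D^+, D^- or D^b; here u is defined on all of D(C).) -/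
theorem result {C : Type u} [Category.{v} C] [Abelian C] [HasDerivedCategory.{w} C]
    (P : ObjectProperty C) [P.IsClosedUnderIsomorphisms] [P.ContainsZero] (hsum : ∀ X Y : C, P X → P Y → P (X ⨯ Y))
    (hqs : PCoh.IsQuasiStableUnderKernels P) (hql : PCoh.IsQuasiLiftable P)
    {C' : Type u'} [Category.{v'} C'] [Abelian C'] [HasDerivedCategory.{w'} C']
    (P' : ObjectProperty C') [P'.IsClosedUnderIsomorphisms] [P'.ContainsZero] (hsum' : ∀ X Y : C', P' X → P' Y → P' (X ⨯ Y))
    (hqs' : PCoh.IsQuasiStableUnderKernels P') (hql' : PCoh.IsQuasiLiftable P')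
    (u : DerivedCategory C ⥤ DerivedCategory C') [u.CommShift ℤ] [u.IsTriangulated] (a b : ℤ)
    (hi : ∀ E : C, P E → ∃ E' : CochainComplex C' ℤ, PCoh.IsStrictPC P' a E' ∧
      Nonempty (DerivedCategory.Q.obj E' ≅ u.obj ((DerivedCategory.singleFunctor C 0).obj E)))
    (hii : ∀ F : DerivedCategory C, (∀ i : ℤ, 0 < i → IsZero ((DerivedCategory.homologyFunctor C i).obj F)) →
      ∀ i : ℤ, b < i → IsZero ((DerivedCategory.homologyFunctor C' i).obj (u.obj F)))
    (m n : ℤ) (F : DerivedCategory C) (hF : (∃ E : CochainComplex C ℤ, PCoh.IsStrictPC P m E ∧ Nonempty (DerivedCategory.Q.obj E ≅ F)))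
    (hac : ∀ i : ℤ, n < i → IsZero ((DerivedCategory.homologyFunctor C i).obj F)) :
    (∃ E' : CochainComplex C' ℤ, PCoh.IsStrictPC P' (max (m + b) (n + a)) E' ∧ Nonempty (DerivedCategory.Q.obj E' ≅ u.obj F)) ∧
      ∀ i : ℤ, n + b < i → IsZero ((DerivedCategory.homologyFunctor C' i).obj (u.obj F)) := by
  have hP := Groth.Agent.Pic13.H565.QLift.Hyp.mk' P hsum hqs hql
  have hP' := Groth.Agent.Pic13.H565.QLift.Hyp.mk' P' hsum' hqs' hql'
  have key : ∀ (n : ℤ) (F : DerivedCategory C), F.IsLE n → (u.obj F).IsLE (n + b) := fun n F hF => by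
    have h1 : (F⟦n⟧).IsLE 0 := DerivedCategory.TStructure.t.isLE_shift F n n 0 (by omega)
    have h2 : (u.obj (F⟦n⟧)).IsLE b := (DerivedCategory.isLE_iff _ _).2 (hii _ ((DerivedCategory.isLE_iff _ _).1 h1))
    let e : u.obj (F⟦n⟧) ≅ (u.obj F)⟦n⟧ := (u.commShiftIso n).app F
    have h3 : ((u.obj F)⟦n⟧).IsLE b := DerivedCategory.TStructure.t.isLE_of_iso e b
    exact DerivedCategory.TStructure.t.isLE_of_shift (u.obj F) (n + b) n b (by omega)
  have hLE : F.IsLE n := (DerivedCategory.isLE_iff _ _).2 hac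
  refine ⟨?_, (DerivedCategory.isLE_iff _ _).1 (key n F hLE)⟩
  by_cases hmn : n < m
  · exact K225.PC.NPC.of_isLE hP' _ (n + b) (by omega) _ (key n F hLE)
  · obtain ⟨K, hK, ⟨e⟩⟩ := hF
    obtain ⟨E, f, hf, hE, hE'⟩ := K225.PC.exists_resol hP (fun i => m ≤ i) (fun i j hij hi => hi.trans hij) K
      (fun i hi => K225.PC.NPC.mono hi ⟨K, hK, ⟨Iso.refl _⟩⟩) n
      (DerivedCategory.TStructure.t.isLE_of_iso e.symm n)
    have hfi : IsIso (DerivedCategory.Q.map f) := by rw [DerivedCategory.isIso_Q_map_iff_quasiIso]; exact hf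
    refine K225.PC.NPC.of_iso ?_ (u.mapIso (asIso (DerivedCategory.Q.map f) ≪≫ e))
    refine K225.PC.NPC.obj₂ hP' _ (u.map_distinguished _
      (DerivedCategory.triangleOfSES_distinguished (K225.PC.ses_stupid E m))) ?_ ?_
    · change K225.PC.NPC P' (max (m + b) (n + a)) (u.obj (DerivedCategory.Q.obj (Groth.Agent.CalgB.DerTri.sge E m)))
      refine npc_map_strict P hP.zero hP.iso hP' u a hi m (n - m + 1).toNat (Groth.Agent.CalgB.DerTri.sge E m)
        (fun i hi => Groth.Agent.CalgB.DerTri.sge_isZero E m i hi) (fun i hi => ?_) (fun i => ?_) _ (by omega)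
      · exact IsZero.of_iso (hE i (by omega)) (Groth.Agent.CalgB.DerTri.sgeXIso E m i (by omega))
      · by_cases h : i < m
        · exact hP.zero (Groth.Agent.CalgB.DerTri.sge_isZero E m i h)
        · exact hP.iso (Groth.Agent.CalgB.DerTri.sgeXIso E m i (by omega)).symm (hE' i (by omega))
    · change K225.PC.NPC P' (max (m + b) (n + a)) (u.obj (DerivedCategory.Q.obj (K225.PC.slt E m)))
      refine K225.PC.NPC.of_isLE hP' _ (m - 1 + b) (by omega) _ (key (m - 1) _ ?_)
      exact Groth.Agent.Pic13.H565.QLift.isLE_of_isZero _ _ (fun i hi => K225.PC.slt_isZero E m i (by omega))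

end Groth.Agent.S5620
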