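import Groth.Statements.S5622
import Groth.Agent.PCoh.K225.Perf
import Mathlib.Algebra.Homology.HomologicalComplexBiprod

set_option autoImplicit false
universe w v u
open CategoryTheory CategoryTheory.Limits
open PCoh

namespace Groth.Agent.S5622

open DerivedCategory in
/-- The direct sum of complexes. -/
theorem exists_biprod {C : Type u} [Category.{v} C] [Abelian C] [HasDerivedCategory.{w} C]
    (E₁ E₂ : CochainComplex C ℤ) {F₁ F₂ : DerivedCategory C} (e₁ : Q.obj E₁ ≅ F₁) (e₂ : Q.obj E₂ ≅ F₂) :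
    ∃ E : CochainComplex C ℤ, (∀ i, Nonempty (E.X i ≅ E₁.X i ⊞ E₂.X i)) ∧ Nonempty (Q.obj E ≅ F₁ ⊞ F₂) := by
  have := preservesBinaryBiproducts_of_preservesBiproducts (DerivedCategory.Q (C := C))
  exact ⟨E₁ ⊞ E₂, fun i => ⟨(HomologicalComplex.eval C (ComplexShape.up ℤ) i).mapBiprod E₁ E₂⟩,
    ⟨Q.mapBiprod E₁ E₂ ≪≫ biprod.mapIso e₁ e₂⟩⟩

open DerivedCategory in
/-- Resolutions with one bad term in the lowest degree. -/
theorem exists_trunc {C : Type u} [Category.{v} C] [Abelian C] [HasDerivedCategory.{w} C] {P : ObjectProperty C}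
    (hP : Groth.Agent.Pic13.H565.QLift.Hyp P) (a b : ℤ) (hab : a ≤ b) (F : DerivedCategory C)
    (hF : ∀ n, K225.PC.NPC P n F) (hLE : F.IsLE b) (hGE : F.IsGE a) :
    ∃ E : CochainComplex C ℤ, (∀ i : ℤ, i < a ∨ b < i → IsZero (E.X i)) ∧ (∀ i, a < i → P (E.X i)) ∧
      Nonempty (Q.obj E ≅ F) := by
  obtain ⟨K, hK, ⟨e⟩⟩ := hF 0
  obtain ⟨E, f, hf, hE, hE'⟩ := K225.PC.exists_resol hP (fun _ => True) (fun _ _ _ _ => trivial) K
    (fun i _ => K225.PC.NPC.of_iso (hF i) e.symm) b (TStructure.t.isLE_of_iso e.symm b)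
  have hfi : IsIso (Q.map f) := by rw [isIso_Q_map_iff_quasiIso]; exact hf
  have hEGE : E.IsGE a := by
    rw [← isGE_Q_obj_iff]
    exact TStructure.t.isGE_of_iso (asIso (Q.map f) ≪≫ e).symm a
  have hq : QuasiIso (E.πTruncGE a) := inferInstance
  have hqi : IsIso (Q.map (E.πTruncGE a)) := by rw [isIso_Q_map_iff_quasiIso]; exact hq
  refine ⟨E.truncGE a, fun i hi => ?_, fun i hi => ?_,
    ⟨(asIso (Q.map (E.πTruncGE a))).symm ≪≫ asIso (Q.map f) ≪≫ e⟩⟩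
  · by_cases h : i < a
    · exact CochainComplex.isZero_of_isStrictlyGE (E.truncGE a) a i h
    · rcases (show a ≤ i by omega).eq_or_lt with rfl | h'
      · exact absurd hab (by omega)
      · exact IsZero.of_iso (hE i (by omega)) (E.truncGEXIso a i h')
  · exact hP.iso (E.truncGEXIso a i hi).symm (hE' i trivial)

open DerivedCategory in
theorem isLE_of_retract {C : Type u} [Category.{v} C] [Abelian C] [HasDerivedCategory.{w} C]
    {F G : DerivedCategory C} (i : F ⟶ G) (r : G ⟶ F) (h : i ≫ r = 𝟙 F) (a b : ℤ) (hLE : G.IsLE b) (hGE : G.IsGE a) :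
    F.IsLE b ∧ F.IsGE a := by
  rw [DerivedCategory.isLE_iff] at hLE ⊢
  rw [DerivedCategory.isGE_iff] at hGE ⊢
  have key : ∀ j, IsZero ((homologyFunctor C j).obj G) → IsZero ((homologyFunctor C j).obj F) := fun j hj => by
    rw [IsZero.iff_id_eq_zero, ← CategoryTheory.Functor.map_id, ← h, Functor.map_comp,
      hj.eq_of_tgt ((homologyFunctor C j).map i) 0, zero_comp]
  exact ⟨fun j hj => key j (hLE j hj), fun j hj => key j (hGE j hj)⟩

/-- Let C be an abelian category and C₀ a strictly full additive subcategory, liftable and stable under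
kernels of epimorphisms, and a ≤ b. For F', F'' in D(C): (i) ⇒ (ii), where (i) says F' and F'' have
perfect amplitude in [a, b] (each isomorphic to a strictly perfect complex vanishing outside [a, b])
and (ii) says F' ⊞ F'' does; and (ii) ⇒ (i) when C₀ is stable under direct factors. -/
theorem result {C : Type u} [Category.{v} C] [Abelian C] [HasDerivedCategory.{w} C]
    (P : ObjectProperty C) [P.IsClosedUnderIsomorphisms] [P.ContainsZero] (hsum : ∀ X Y : C, P X → P Y → P (X ⨯ Y))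
    (hlift : ∀ (E F : C) (u : E ⟶ F), Epi u → P F → IsSplitEpi u)
    (hst : ∀ (E F : C) (u : E ⟶ F), Epi u → P E → P F → P (kernel u))
    (a b : ℤ) (hab : a ≤ b) (F' F'' : DerivedCategory C) [HasBinaryBiproduct F' F''] :
    (((∃ E : CochainComplex C ℤ, (∀ i : ℤ, P (E.X i)) ∧ (∀ i : ℤ, i < a ∨ b < i → IsZero (E.X i)) ∧ Nonempty (DerivedCategory.Q.obj E ≅ F')) ∧ (∃ E : CochainComplex C ℤ, (∀ i : ℤ, P (E.X i)) ∧ (∀ i : ℤ, i < a ∨ b < i → IsZero (E.X i)) ∧ Nonempty (DerivedCategory.Q.obj E ≅ F''))) →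
        (∃ E : CochainComplex C ℤ, (∀ i : ℤ, P (E.X i)) ∧ (∀ i : ℤ, i < a ∨ b < i → IsZero (E.X i)) ∧ Nonempty (DerivedCategory.Q.obj E ≅ (F' ⊞ F'')))) ∧
      ((∀ (E' E'' : C) [HasBinaryBiproduct E' E''], P (E' ⊞ E'') → P E' ∧ P E'') →
        (∃ E : CochainComplex C ℤ, (∀ i : ℤ, P (E.X i)) ∧ (∀ i : ℤ, i < a ∨ b < i → IsZero (E.X i)) ∧ Nonempty (DerivedCategory.Q.obj E ≅ (F' ⊞ F''))) →
          (∃ E : CochainComplex C ℤ, (∀ i : ℤ, P (E.X i)) ∧ (∀ i : ℤ, i < a ∨ b < i → IsZero (E.X i)) ∧ Nonempty (DerivedCategory.Q.obj E ≅ F')) ∧ (∃ E : CochainComplex C ℤ, (∀ i : ℤ, P (E.X i)) ∧ (∀ i : ℤ, i < a ∨ b < i → IsZero (E.X i)) ∧ Nonempty (DerivedCategory.Q.obj E ≅ F''))) := by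
  have hP := K225.Perf.PHyp.mk' P hsum hlift hst
  constructor
  · rintro ⟨⟨E₁, h₁, h₁', ⟨e₁⟩⟩, ⟨E₂, h₂, h₂', ⟨e₂⟩⟩⟩
    obtain ⟨E, hE, e⟩ := exists_biprod E₁ E₂ e₁ e₂
    refine ⟨E, fun i => ?_, fun i hi => ?_, e⟩
    · obtain ⟨ei⟩ := hE i
      exact hP.iso ei.symm (hP.sum (h₁ i) (h₂ i))
    · obtain ⟨ei⟩ := hE i
      exact IsZero.of_iso ((biprod_isZero_iff _ _).2 ⟨h₁' i hi, h₂' i hi⟩) ei
  · rintro hdf ⟨E, hE, hE', ⟨e⟩⟩
    have hNPC : ∀ n, K225.PC.NPC P n (F' ⊞ F'') := fun n =>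
      ⟨E, ⟨⟨b, fun i hi => hE' i (Or.inr hi)⟩, fun i _ => hE i⟩, ⟨e⟩⟩
    have hLE : (F' ⊞ F'').IsLE b := by
      have := Groth.Agent.Pic13.H565.QLift.isLE_of_isZero E b (fun i hi => hE' i (Or.inr hi))
      exact DerivedCategory.TStructure.t.isLE_of_iso e b
    have hGE : (F' ⊞ F'').IsGE a := by
      have : E.IsStrictlyGE a := by
        rw [CochainComplex.isStrictlyGE_iff]
        exact fun i hi => hE' i (Or.inl hi)
      have : (DerivedCategory.Q.obj E).IsGE a := inferInstance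
      exact DerivedCategory.TStructure.t.isGE_of_iso e a
    obtain ⟨hF'LE, hF'GE⟩ := isLE_of_retract (biprod.inl : F' ⟶ F' ⊞ F'') biprod.fst (by simp) a b hLE hGE
    obtain ⟨hF''LE, hF''GE⟩ := isLE_of_retract (biprod.inr : F'' ⟶ F' ⊞ F'') biprod.snd (by simp) a b hLE hGE
    obtain ⟨E₁, h₁, h₁', ⟨e₁⟩⟩ := exists_trunc hP.toHyp a b hab F'
      (fun n => (K225.PC.NPC.of_biprod hP.toHyp n _ _ (hNPC n)).1) hF'LE hF'GE
    obtain ⟨E₂, h₂, h₂', ⟨e₂⟩⟩ := exists_trunc hP.toHyp a b hab F''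
      (fun n => (K225.PC.NPC.of_biprod hP.toHyp n _ _ (hNPC n)).2) hF''LE hF''GE
    obtain ⟨G, hG, ⟨g⟩⟩ := exists_biprod E₁ E₂ e₁ e₂
    have hGa : P (G.X a) := by
      refine hP.first_term a b G (fun i hi => ?_) (fun i hi => ?_) E hE hE' (e ≪≫ g.symm)
      · obtain ⟨ei⟩ := hG i
        exact IsZero.of_iso ((biprod_isZero_iff _ _).2 ⟨h₁ i hi, h₂ i hi⟩) ei
      · obtain ⟨ei⟩ := hG i
        exact hP.iso ei.symm (hP.sum (h₁' i hi) (h₂' i hi))
    obtain ⟨ea⟩ := hG a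
    obtain ⟨k₁, k₂⟩ := hdf _ _ (hP.iso ea hGa)
    refine ⟨⟨E₁, fun i => ?_, h₁, ⟨e₁⟩⟩, ⟨E₂, fun i => ?_, h₂, ⟨e₂⟩⟩⟩
    · rcases lt_trichotomy i a with h | rfl | h
      · exact hP.zero (h₁ i (Or.inl h))
      · exact k₁
      · exact h₁' i h
    · rcases lt_trichotomy i a with h | rfl | h
      · exact hP.zero (h₂ i (Or.inl h))
      · exact k₂
      · exact h₂' i h

end Groth.Agent.S5622
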