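import Groth.Statements.S5626
import Groth.Agent.Dcoh.Spread

set_option autoImplicit false
universe u
open CategoryTheory CategoryTheory.Limits AlgebraicGeometry
open FlatMod

namespace Groth.Agent.S5626

/-- For the Zariski topos of a scheme (a special case of both hypotheses (i) and (ii) there): on a
scheme X, a direct summand of a finite free O_X-module is finite locally free. Here M is a direct
summand of O_X^n in the sense that M ⊞ N ≅ O_X^n for some module N. -/
theorem result {X : Scheme.{u}} (M N : X.Modules) [HasBinaryBiproduct M N] (n : ℕ)
    (e : M ⊞ N ≅ FlatMod.freeMod X n) :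
    FlatMod.IsFinLocFree M := by
  refine Groth.Agent.Dcoh.Spread.isFinLocFree_of_retract (biprod.inl ≫ e.hom) (e.inv ≫ biprod.fst) ?_
    (Groth.Agent.Dcoh.FinLocFree.isFinLocFree_freeMod _ _)
  rw [Category.assoc, e.hom_inv_id_assoc, biprod.inl_fst]

end Groth.Agent.S5626
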