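import Groth.Statements.S5628
import Groth.Agent.PCoh.K225.PC2
import Groth.Agent.PCoh.K225.Coh

set_option autoImplicit false
universe v u
open CategoryTheory CategoryTheory.Limits
open PCoh

namespace Groth.Agent.S5628

/-- Let C be an abelian category and C₀ a strictly full additive subcategory which is quasi-liftable in
C. Let u : E ⟶ F be an (n+1)-quasi-isomorphism of cochain complexes (isomorphism on H^i for i > n+1,
epimorphism on H^{n+1}) such that H^n of the mapping cone of u is of C₀-finite type. Then, modifying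
E in degree n only by adding an object of C₀, u becomes an n-quasi-isomorphism: u = v ≫ u' with v :
E ⟶ E' a monomorphism in each degree, an isomorphism in every degree ≠ n, with cokernel in degree n
an object of C₀, and u' : E' ⟶ F an isomorphism on H^i for i > n and an epimorphism on H^n. -/
theorem result {C : Type u} [Category.{v} C] [Abelian C]
    (P : ObjectProperty C) [P.IsClosedUnderIsomorphisms] [P.ContainsZero] (hsum : ∀ X Y : C, P X → P Y → P (X ⨯ Y))
    (hql : PCoh.IsQuasiLiftable P)
    (n : ℤ) (E F : CochainComplex C ℤ) (u : E ⟶ F)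
    (hiso : ∀ i : ℤ, n + 1 < i → IsIso (HomologicalComplex.homologyMap u i))
    (hepi : Epi (HomologicalComplex.homologyMap u (n + 1)))
    (hcone : PCoh.IsOfFiniteType P ((CochainComplex.mappingCone u).homology n)) :
    ∃ (E' : CochainComplex C ℤ) (v : E ⟶ E') (u' : E' ⟶ F), v ≫ u' = u ∧ (∀ i : ℤ, Mono (v.f i)) ∧
      (∀ i : ℤ, i ≠ n → IsIso (v.f i)) ∧ P (cokernel (v.f n)) ∧
      (∀ i : ℤ, n < i → IsIso (HomologicalComplex.homologyMap u' i)) ∧
      Epi (HomologicalComplex.homologyMap u' n) := by
  have hP := K225.Coh.LHyp.mk' P hsum hql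
  let _ := HasDerivedCategory.standard C
  have hLE : (DerivedCategory.Q.obj (CochainComplex.mappingCone u)).IsLE n := by
    refine (Groth.Agent.CalgB.DerTri.isLE_obj₃_iff (DerivedCategory.mappingCone_triangle_distinguished u) (n + 1) n
      (by omega)).2 ⟨fun i hi => ?_, ?_⟩
    · refine (Groth.Agent.CalgB.DerTri.isIso_homologyFunctor_map_Q_iff u i).2 ?_
      rw [quasiIsoAt_iff_isIso_homologyMap]
      exact hiso i hi
    · exact (Groth.Agent.CalgB.DerTri.epi_homologyFunctor_map_Q_iff u (n + 1)).2 hepi
  obtain ⟨G, π, hG, hπ⟩ := hcone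
  obtain ⟨F, q, r, hF, hr, hqr⟩ := hP.exists_lift ((CochainComplex.mappingCone u).homologyπ n) π hG
  have hq : Epi (q ≫ (CochainComplex.mappingCone u).homologyπ n) := by rw [hqr]; exact epi_comp _ _
  obtain ⟨E', v, u', hfac, hv, ⟨e, he⟩, hLE'⟩ := K225.Att.att_step u n hLE q hq
  have hdir : K225.Att.Dir P (v.f n) := ⟨F, e, hF, he⟩
  have h := (Groth.Agent.CalgB.DerTri.isLE_obj₃_iff (DerivedCategory.mappingCone_triangle_distinguished u') n (n - 1)
      (by omega)).1 hLE'
  refine ⟨E', v, u', hfac, fun i => ?_, hv, hdir.cokernel hP.iso, fun i hi => ?_, ?_⟩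
  · by_cases hi : i = n
    · subst hi
      exact hdir.mono
    · have := hv i hi
      infer_instance
  · rw [← quasiIsoAt_iff_isIso_homologyMap]
    exact (Groth.Agent.CalgB.DerTri.isIso_homologyFunctor_map_Q_iff u' i).1 (h.1 i hi)
  · exact (Groth.Agent.CalgB.DerTri.epi_homologyFunctor_map_Q_iff u' n).1 h.2

end Groth.Agent.S5628
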