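import Groth.Statements.S5634
import Groth.Agent.CAlg.K58.RadGen
import Mathlib.RingTheory.MvPolynomial.Basic
-- import your own Groth.Agent.* helpers here

set_option autoImplicit false
universe u
open CAlg

namespace Groth.Agent.S5634

open MvPolynomial K58

/-- Uniform bound for radicals of ideals generated by a family of bounded size and degree. -/
theorem exists_bound (N d : ℕ) (ι : Type) [Fintype ι] :
    ∃ R : ℕ, ∀ (k : Type u) [Field k] (g : ι → MvPolynomial (Fin N) k), (∀ i, (g i).totalDegree ≤ d) →
      (Ideal.span (Set.range g)).radical ≤ Ideal.span (RadGen.radLE (Ideal.span (Set.range g)) R) := by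
  let A := Syz.UBase.{u} N d ι
  let U : ι → MvPolynomial (Fin N) A := fun i ↦ Syz.univ i
  obtain ⟨B, hB⟩ := NoethBd.exists_bound' (A := A) (fun k _ φ R ↦
    (Ideal.span (Set.range fun i ↦ MvPolynomial.map φ (U i))).radical ≤
        Ideal.span (RadGen.radLE (Ideal.span (Set.range fun i ↦ MvPolynomial.map φ (U i))) R))
    (fun k _ φ R R' hR h ↦ h.trans (Ideal.span_mono fun f hf ↦ ⟨hf.1.trans hR, hf.2⟩))
    (by
      intro D _ _ _ π
      obtain ⟨a, ha, R, hR⟩ := RadGen.exists_generic_bound D N ι fun i ↦ MvPolynomial.map π (U i)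
      refine ⟨a, ha, R, fun k _ φ hφ ↦ ?_⟩
      have h1 := hR k φ hφ
      simp only [MvPolynomial.map_map] at h1
      exact h1)
  refine ⟨B, fun k _ g hg ↦ ?_⟩
  obtain ⟨φ, hφ⟩ := Syz.exists_spec (d := d) k g hg
  have h1 := hB k φ
  have h2 : (fun i ↦ MvPolynomial.map φ (U i)) = g := funext hφ
  rw [h2] at h1
  exact h1

/-- A set of polynomials of degree at most `m` generates the same ideal as a family indexed by `Fin ((m + 1) ^ N)`. -/
theorem exists_family (N m : ℕ) (k : Type u) [Field k] (S : Set (MvPolynomial (Fin N) k))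
    (hS : ∀ p ∈ S, p.totalDegree ≤ m) : ∃ g : Fin ((m + 1) ^ N) → MvPolynomial (Fin N) k,
      (∀ i, (g i).totalDegree ≤ m) ∧ Ideal.span (Set.range g) = Ideal.span S := by
  classical
  let V : Submodule k (MvPolynomial (Fin N) k) :=
    Submodule.span k (Set.range fun e : Fin N → Fin (m + 1) ↦ monomial (Syz.expo e) (1 : k))
  let W : Submodule k (MvPolynomial (Fin N) k) := Submodule.span k S
  have hWV : W ≤ V := by
    rw [Submodule.span_le]
    intro p hp
    rw [SetLike.mem_coe, ← support_sum_monomial_coeff p]
    refine Submodule.sum_mem _ fun x hx ↦ ?_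
    obtain ⟨e, rfl⟩ := Syz.exists_expo p (hS p hp) x (mem_support_iff.1 hx)
    have : monomial (Syz.expo e) (coeff (Syz.expo e) p) = coeff (Syz.expo e) p • monomial (Syz.expo e) (1 : k) := by
      rw [smul_monomial, smul_eq_mul, mul_one]
    rw [this]
    exact Submodule.smul_mem _ _ (Submodule.subset_span ⟨e, rfl⟩)
  have hVfin : FiniteDimensional k V := FiniteDimensional.span_of_finite k (Set.finite_range _)
  have hWfin : FiniteDimensional k W := Submodule.finiteDimensional_of_le hWV
  have hrank : Module.finrank k W ≤ (m + 1) ^ N := by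
    refine (Submodule.finrank_mono hWV).trans ((finrank_range_le_card _).trans ?_)
    simp
  have hWdeg : ∀ w ∈ W, w.totalDegree ≤ m := by
    intro w hw
    have : W ≤ restrictTotalDegree (Fin N) k m := by
      rw [Submodule.span_le]
      intro p hp
      exact (mem_restrictTotalDegree _ _ _).2 (hS p hp)
    exact (mem_restrictTotalDegree _ _ _).1 (this hw)
  let b := Module.finBasis k W
  refine ⟨fun i ↦ if h : (i : ℕ) < Module.finrank k W then (b ⟨i, h⟩ : MvPolynomial (Fin N) k) else 0, ?_, ?_⟩
  · intro i
    dsimp only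
    split_ifs with h
    · exact hWdeg _ (b ⟨i, h⟩).2
    · simp
  · apply le_antisymm
    · rw [Ideal.span_le]
      rintro _ ⟨i, rfl⟩
      dsimp only
      split_ifs with h
      · exact Submodule.span_le_restrictScalars k (MvPolynomial (Fin N) k) S (b ⟨i, h⟩).2
      · exact Ideal.zero_mem _
    · rw [Ideal.span_le]
      intro p hp
      have h1 : (⟨p, Submodule.subset_span hp⟩ : W) ∈ Submodule.span k (Set.range b) := by
        rw [b.span_eq]; trivial
      have h2 := Submodule.mem_map_of_mem (f := W.subtype) h1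
      rw [Submodule.map_span] at h2
      have h3 : p ∈ Submodule.span k (W.subtype '' Set.range b) := h2
      refine Submodule.span_le_restrictScalars k (MvPolynomial (Fin N) k) _ (Submodule.span_mono ?_ h3)
      rintro _ ⟨_, ⟨j, rfl⟩, rfl⟩
      refine ⟨⟨j, j.2.trans_le hrank⟩, ?_⟩
      dsimp only
      rw [dif_pos j.2]
      rfl

/-- For every N there is a function R_N such that, for every field k₀, every m and every ideal I of
k₀[T_1, …, T_N] generated by polynomials of total degree ≤ m, the radical of I is generated by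
polynomials of total degree ≤ R_N(m). (The published statement gives R_N as a polynomial in m; this
row asserts only a bound depending on N and m, uniform in the field and the ideal.) -/
theorem result (N : ℕ) :
    ∃ R : ℕ → ℕ, ∀ (k₀ : Type u) [Field k₀] (m : ℕ) (S : Set (MvPolynomial (Fin N) k₀)),
      (∀ p ∈ S, p.totalDegree ≤ m) →
        ∃ S' : Set (MvPolynomial (Fin N) k₀), (∀ q ∈ S', q.totalDegree ≤ R m) ∧ Ideal.span S' = (Ideal.span S).radical := by
  choose R hR using fun m : ℕ ↦ exists_bound.{u} N m (Fin ((m + 1) ^ N))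
  refine ⟨R, fun k _ m S hS ↦ ?_⟩
  obtain ⟨g, hg, hgS⟩ := exists_family N m k S hS
  refine ⟨RadGen.radLE (Ideal.span S) (R m), fun q hq ↦ hq.1, le_antisymm ?_ ?_⟩
  · rw [Ideal.span_le]
    exact fun q hq ↦ hq.2
  · have h1 := hR m k g hg
    rw [hgS] at h1
    exact h1

end Groth.Agent.S5634
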