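import Groth.Statements.S5635
import Groth.Agent.Pic13.K858.DivAlg
import Groth.Agent.Pic13.K858.DivRoot
import Groth.Agent.Pic13.H949.Glue
import Groth.Agent.Pic13.H138.Finite
import Groth.Agent.Pic13.H969.Bridge
import Groth.Agent.S4281
import Groth.Agent.S4289

set_option autoImplicit false
universe u
open CategoryTheory CategoryTheory.Limits AlgebraicGeometry
open Pic13

namespace Groth.Agent.S5635

/-- Let k be an algebraically closed field, X a proper k-scheme and n > 0 an integer invertible in k.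
Then the group of isomorphism classes of invertible O_X-modules algebraically equivalent to zero is
divisible by n: for every invertible L algebraically equivalent to zero there is an invertible M
algebraically equivalent to zero with M^{⊗ n} ≅ L. -/
theorem result (k : Type u) [Field k] [IsAlgClosed k] (X : Scheme.{u}) [X.Over (Spec (CommRingCat.of k))]
    [IsProper (X ↘ Spec (CommRingCat.of k))] (n : ℕ) (hn : 0 < n) (hnk : (n : k) ≠ 0)
    (L : X.Modules) (hL : PicF.IsInvertible L) (halg : Pic13.IsAlgEquivZero k X L) :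
    ∃ M : X.Modules, PicF.IsInvertible M ∧ Pic13.IsAlgEquivZero k X M ∧ Nonempty (CohB1.tensorPow M n ≅ L) := by
  obtain ⟨P, hP, -, hP'⟩ := Groth.Agent.S4289.result k X
  obtain ⟨s, hs, -, hf⟩ := Groth.Agent.Pic13.H138.Finite.exists_finite
    (Groth.Agent.Pic13.H969.Bridge.bridge k X _ (Groth.Agent.S4281.result k X))
  have hc := (Groth.Agent.Pic13.H138.AlgEquiv.isAlgEquivZero_iff_mem hL).mp halg
  have h1 : ∀ t : Groth.Agent.Grpsch.PicGrp.Pic X, ∀ m : ℕ, 0 < m →
      t ^ m ∈ Groth.Agent.Pic13.H138.AlgEquiv.alg0 k X →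
      ∃ b ∈ s, b * t⁻¹ ∈ Groth.Agent.Pic13.H138.AlgEquiv.alg0 k X := by
    intro t m hm ht
    obtain ⟨M, hM, rfl⟩ := Groth.Agent.Grpsch.PicGrp.exists_mk t
    obtain ⟨b, hb, hba⟩ := hf (Groth.Agent.Grpsch.PicGrp.mk M hM)
      ⟨M, hM, ⟨hM, (Groth.Agent.Pic13.H138.AlgEquiv.isTauEquivZero_iff_mem hM).mpr ⟨m, hm, ht⟩⟩, rfl⟩
    exact ⟨b, hb, Groth.Agent.Pic13.H138.AlgEquiv.algEq_iff_mem.mp hba⟩
  have h2 : ∀ m : ℕ, ∃ d : Groth.Agent.Grpsch.PicGrp.Pic X,
      d ^ (n ^ m) = Groth.Agent.Grpsch.PicGrp.mk L hL := by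
    intro m
    refine K858.DivAlg.exists_pow_of_mem_alg0 X hP (n ^ m) ?_ hc
    rw [Nat.cast_pow]
    exact pow_ne_zero m hnk
  obtain ⟨d, hd, hdn⟩ := K858.DivRoot.exists_root (Groth.Agent.Pic13.H138.AlgEquiv.alg0 k X) s hs h1 n hn
    (Groth.Agent.Grpsch.PicGrp.mk L hL) hc h2
  obtain ⟨M, hM, rfl⟩ := Groth.Agent.Grpsch.PicGrp.exists_mk d
  refine ⟨M, hM, (Groth.Agent.Pic13.H138.AlgEquiv.isAlgEquivZero_iff_mem hM).mpr hd, ?_⟩
  rw [← Groth.Agent.Grpsch.PicGrp.mk_tensorPow] at hdn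
  exact (Groth.Agent.Grpsch.PicGrp.mk_eq_iff _ _).mp hdn

end Groth.Agent.S5635
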