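import Groth.Statements.S5636
import Groth.Agent.Pic13.K836.Asm
import Groth.Agent.Pic13.K836.CompDim
import Groth.Agent.S5633
import Groth.Agent.S4277
import Groth.Agent.S4278

set_option autoImplicit false
universe u
open CategoryTheory CategoryTheory.Limits AlgebraicGeometry
open Pic13

namespace Groth.Agent.S5636

open Groth.Agent.Grpsch.PicGrp Groth.Agent.Fga.RigGrp Groth.Agent.Pic13.H138.AlgEquiv K836

/-- Let k be an algebraically closed field, Y an integral normal proper k-scheme of dimension ≥ 3 with
an ample invertible module H, φ a global section of H and X ⊆ Y its zero scheme. Then only finitely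
many isomorphism classes of invertible O_Y-modules become trivial on X: the kernel of Pic(Y) →
Pic(X) is finite. (The published statement asserts that the kernel of the morphism of Picard schemes
is a finite group scheme and assumes Y only normal; this row states the consequence on k-points and
takes Y integral: for the disjoint union of a normal threefold and a curve of positive genus the
kernel is infinite.) -/
theorem result (k : Type u) [Field k] [IsAlgClosed k] (Y : Scheme.{u}) [Y.Over (Spec (CommRingCat.of k))]
    [IsProper (Y ↘ Spec (CommRingCat.of k))] [IsIntegral Y] (hnor : Pi1.IsNormalScheme Y) (hdim : 3 ≤ topologicalKrullDim Y)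
    (H : Y.Modules) (hH : CohB1.IsAmple H) (φ : Coh.structureModule Y ⟶ H) :
    Set.Finite {c : PicF.Cl Y | PicF.IsInvertibleCl c ∧
      PicF.IsTrivialCl (PicF.pullCl (PicF2.zeroScheme H φ).subschemeι c)} := by
  by_cases hφ : φ = 0
  · subst hφ
    refine Set.Finite.subset (Set.finite_singleton (toCl (1 : Pic Y))) ?_
    rintro c ⟨⟨L, rfl, hL⟩, htriv⟩
    rw [Set.mem_singleton_iff]
    have h1 : pull (PicF2.zeroScheme H (0 : Coh.structureModule Y ⟶ H)).subschemeι (mk L hL) = 1 := by
      rw [← isTrivialCl_toCl_iff, toCl_pull]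
      exact htriv
    have h2 := Asm.eq_one_of_zero hH.1 h1
    change toCl (mk L hL) = _
    rw [h2]
  · have hloc : Curv2.IsLocPrincipal (PicF2.zeroScheme H φ) := fun x _ => by
      obtain ⟨U, hx, f, -, h⟩ := K513.Theta1.isEffCartierIdeal_zeroScheme hH.1 φ hφ x
      exact ⟨U, hx, f, h⟩
    have hcomp : ∀ Z ∈ irreducibleComponents (Y : Type u),
        ∀ W ∈ irreducibleComponents ↥(Z ∩ Set.range (PicF2.zeroScheme H φ).subschemeι.base),
          2 ≤ topologicalKrullDim ↥W := by
      intro Z hZ W hW
      rw [irreducibleComponents_eq_singleton, Set.mem_singleton_iff] at hZ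
      refine CompDim.le_dim_component k hloc (n := 2) ?_ _ ?_ W hW
      · exact_mod_cast hdim
      · rw [hZ, Set.univ_inter]
        exact Scheme.IdealSheafData.range_subschemeι _
    let i := (PicF2.zeroScheme H φ).subschemeι
    let _ : (PicF2.zeroScheme H φ).subscheme.Over (Spec (CommRingCat.of k)) := ⟨i ≫ (Y ↘ Spec (CommRingCat.of k))⟩
    have _ : IsProper ((PicF2.zeroScheme H φ).subscheme ↘ (Spec (CommRingCat.of k))) :=
      inferInstanceAs (IsProper (i ≫ (Y ↘ Spec (CommRingCat.of k))))
    refine ((Asm.finite_tau (k := k) hnor (le_trans (by norm_num) hdim) hH φ hφ).image toCl).subset ?_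
    rintro c ⟨⟨L, rfl, hL⟩, htriv⟩
    have h1 : pull i (mk L hL) = 1 := by
      rw [← isTrivialCl_toCl_iff, toCl_pull]
      exact htriv
    have hLX := Groth.Agent.Fdesc.LocGen.isInvertible_pullback i hL
    have h2 : Pic13.IsTauEquivZero k (PicF2.zeroScheme H φ).subscheme ((Scheme.Modules.pullback i).obj L) := by
      rw [isTauEquivZero_iff_mem hLX, ← pull_mk i hL, h1]
      exact one_mem _
    have h3 := Groth.Agent.S4278.result k (PicF2.zeroScheme H φ).subscheme _ hLX h2
    have h4 := Groth.Agent.S5633.result k Y H hH φ hcomp L hL h3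
    have h5 := Groth.Agent.S4277.result k Y L hL h4
    exact ⟨mk L hL, ⟨(isTauEquivZero_iff_mem hL).1 h5, h1⟩, rfl⟩

end Groth.Agent.S5636
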