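import Groth.Statements.S5637
import Groth.Agent.Pic13.K836.Asm

set_option autoImplicit false
universe u
open CategoryTheory CategoryTheory.Limits AlgebraicGeometry
open Pic13

namespace Groth.Agent.S5637

open Groth.Agent.Grpsch.PicGrp Groth.Agent.Fga.RigGrp Groth.Agent.Pic13.H138.AlgEquiv K836

/-- Let k be an algebraically closed field, Y an integral normal proper k-scheme of dimension ≥ 2 with
an ample invertible module H, φ a global section of H and X ⊆ Y its zero scheme. Then among the
invertible O_Y-modules which are τ-equivalent to zero (some positive tensor power algebraically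
equivalent to zero), only finitely many isomorphism classes become trivial on X. (The published
statement asserts that the kernel of the morphism of the τ-parts of the Picard schemes is a finite
group scheme and assumes Y only normal; this row states the consequence on k-points and takes Y
integral: for the disjoint union of a normal surface and a curve of positive genus the kernel is
infinite.) -/
theorem result (k : Type u) [Field k] [IsAlgClosed k] (Y : Scheme.{u}) [Y.Over (Spec (CommRingCat.of k))]
    [IsProper (Y ↘ Spec (CommRingCat.of k))] [IsIntegral Y] (hnor : Pi1.IsNormalScheme Y) (hdim : 2 ≤ topologicalKrullDim Y)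
    (H : Y.Modules) (hH : CohB1.IsAmple H) (φ : Coh.structureModule Y ⟶ H) :
    Set.Finite {c : PicF.Cl Y | ∃ L : Y.Modules, PicF.cl L = c ∧ PicF.IsInvertible L ∧ Pic13.IsTauEquivZero k Y L ∧
      PicF.IsTrivialCl (PicF.pullCl (PicF2.zeroScheme H φ).subschemeι c)} := by
  by_cases hφ : φ = 0
  · subst hφ
    refine Set.Finite.subset (Set.finite_singleton (toCl (1 : Pic Y))) ?_
    rintro c ⟨L, rfl, hL, -, htriv⟩
    rw [Set.mem_singleton_iff]
    have h1 : pull (PicF2.zeroScheme H (0 : Coh.structureModule Y ⟶ H)).subschemeι (mk L hL) = 1 := by
      rw [← isTrivialCl_toCl_iff, toCl_pull]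
      exact htriv
    have h2 := Asm.eq_one_of_zero hH.1 h1
    change toCl (mk L hL) = _
    rw [h2]
  · refine ((Asm.finite_tau (k := k) hnor hdim hH φ hφ).image toCl).subset ?_
    rintro c ⟨L, rfl, hL, hτ, htriv⟩
    refine ⟨mk L hL, ⟨(isTauEquivZero_iff_mem hL).1 hτ, ?_⟩, rfl⟩
    rw [← isTrivialCl_toCl_iff, toCl_pull]
    exact htriv

end Groth.Agent.S5637
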