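import Groth.Statements.S5641
import Groth.Agent.FlatMor.K249.GeomCompSpread
import Groth.Agent.FlatMor.K249.ShrinkFin

set_option autoImplicit false
universe u
open CategoryTheory CategoryTheory.Limits AlgebraicGeometry
open FlatMor

namespace Groth.Agent.S5641

open K249.GeomComp K249.GeomCompSpread

/-- Let S be an integral Noetherian scheme and f : X ⟶ S a morphism of finite type. Then there are a
nonempty open subscheme V of S, an integral scheme S' and a finite flat surjective morphism h : S' ⟶
V such that every irreducible component of X' = X ×_S S', given its reduced closed-subscheme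
structure, is flat over S' with geometrically integral fibres. (Fibres over all points of S' are
nonempty here, which the published statement does not require; it is obtained by shrinking V once
more.) -/
theorem result {X S : Scheme.{u}} [IsNoetherian S] [IsIntegral S]
    (f : X ⟶ S) [LocallyOfFiniteType f] [QuasiCompact f] :
    ∃ (V : S.Opens) (S' : Scheme.{u}) (h : S' ⟶ (V : Scheme.{u})), (V : Set S).Nonempty ∧ IsIntegral S' ∧
      IsFinite h ∧ Flat h ∧ Surjective h ∧
      ∀ (Z : Scheme.{u}) (i : Z ⟶ pullback f (h ≫ V.ι)) [IsClosedImmersion i] [IsReduced Z],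
        Set.range i.base ∈ irreducibleComponents ↥(pullback f (h ≫ V.ι)) →
          Flat (i ≫ pullback.snd f (h ≫ V.ι)) ∧ GeometricallyIntegral (i ≫ pullback.snd f (h ≫ V.ι)) := by
  have hfib : IsPullback (f.fiberι (genericPoint S)) (f.fiberToSpecResidueField (genericPoint S)) f
      (S.fromSpecResidueField (genericPoint S)) := IsPullback.of_hasPullback _ _
  have hlft : LocallyOfFiniteType (f.fiberToSpecResidueField (genericPoint S)) :=
    MorphismProperty.of_isPullback hfib inferInstance
  have hqc : QuasiCompact (f.fiberToSpecResidueField (genericPoint S)) :=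
    MorphismProperty.of_isPullback hfib inferInstance
  obtain ⟨k', _, _, hk', hGC⟩ := @exists_GC (S.residueField (genericPoint S)) _
    (f.fiber (genericPoint S)) (f.fiberToSpecResidueField (genericPoint S)) hlft hqc
  obtain ⟨V, Y', g, hY', hV, hVaff, hYaff, hgs, hgf, hgfl, e, he⟩ :=
    K249.FinSpread.exists_spread_scheme (Y := S) k'
  obtain ⟨E, hE⟩ := Groth.Agent.Flat2E.SpreadScheme.exists_fiber_iso f (g ≫ V.ι) (genericPoint S)
    (genericPoint Y') (CommRingCat.ofHom (algebraMap (S.residueField (genericPoint S)) k')) e he
  have hGC' := GC.of_iso _ _ E e hE hGC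
  have : IsLocallyNoetherian (V : Scheme.{u}) := isLocallyNoetherian_of_isOpenImmersion V.ι
  have : IsLocallyNoetherian Y' := LocallyOfFiniteType.isLocallyNoetherian g
  have : IsLocallyNoetherian (pullback f (g ≫ V.ι)) :=
    LocallyOfFiniteType.isLocallyNoetherian (pullback.snd f (g ≫ V.ι))
  have : CompactSpace (pullback f (g ≫ V.ι) : Scheme.{u}) :=
    QuasiCompact.compactSpace_of_compactSpace (pullback.snd f (g ≫ V.ι))
  have : IsNoetherian (pullback f (g ≫ V.ι)) := {}
  obtain ⟨W, hW, H⟩ := exists_opens (pullback.snd f (g ≫ V.ι)) hGC'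
    TopologicalSpace.NoetherianSpace.finite_irreducibleComponents
  obtain ⟨V2, Y2, g2, o, hV2, -, hY2, hg2f, hg2fl, hg2s, ho, hoW, -, m, -, hP⟩ :=
    K249.ShrinkFin.exists_shrink f g W hW
  exact ⟨V2, Y2, g2, hV2, hY2, hg2f, hg2fl, hg2s, fun Z i _ _ hi =>
    good_of_isPullback hP W hoW H Z i hi⟩

end Groth.Agent.S5641
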