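import Groth.Statements.S5645
import Groth.Agent.Pic13.K991.BddOpen

set_option autoImplicit false
universe u
open CategoryTheory CategoryTheory.Limits AlgebraicGeometry
open Pic13

namespace Groth.Agent.S5645

/-- Over an algebraically closed field k: let X be a proper k-scheme and let the k-scheme P, with the
maps φ_T from isomorphism classes of modules on X ×_k T to k-morphisms T ⟶ P, represent the
étale-sheafified relative Picard functor of X over k. For an invertible O_X-module L let p(L) ∈ P be
the k-point φ_{Spec k}([L]). Then a family of invertible O_X-modules is bounded (all members occur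
among the fibres at k-points of one coherent module on some X ×_k T, T of finite type) if and only
if the points p(L) of its members lie in a common quasi-compact open subset of P. (The published
statement is over a Noetherian base, for subsets of the Picard scheme and families of classes on the
fibres; this row is the case of an algebraically closed base field.) -/
theorem result (k : Type u) [Field k] [IsAlgClosed k] (X : Scheme.{u}) [X.Over (Spec (CommRingCat.of k))]
    [IsProper (X ↘ (Spec (CommRingCat.of k)))] (P : Over (Spec (CommRingCat.of k)))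
    (φ : ∀ T : Over (Spec (CommRingCat.of k)), PicF.Cl (PicF.XT (X ↘ (Spec (CommRingCat.of k))) T) → (T ⟶ P))
    (hP : PicRel.IsRelPic (X ↘ (Spec (CommRingCat.of k))) P φ)
    (Q : X.Modules → Prop) (hQ : ∀ L, Q L → PicF.IsInvertible L) :
    Pic13.IsBounded k X Q ↔ ∃ U : P.left.Opens, IsCompact (U : Set ↥P.left) ∧
      ∀ L, Q L → Set.range (φ (Over.mk (𝟙 (Spec (CommRingCat.of k))))
        (PicF.pullCl (pullback.fst (X ↘ (Spec (CommRingCat.of k))) (𝟙 (Spec (CommRingCat.of k)))) (PicF.cl L))).left.base ⊆ (U : Set ↥P.left) := by
  constructor
  · intro h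
    obtain ⟨U, hU, hU'⟩ := K991.BddOpen.exists_opens_of_bddPic hP (Groth.Agent.Pic13.H969.Bridge.bridge k X Q h)
    refine ⟨U, hU, fun L hL => ?_⟩
    have h1 := hU' _ ⟨L, hQ L hL, hL, rfl⟩
    rwa [K991.BddOpen.kpt_mk] at h1
  · rintro ⟨U, hU, h⟩
    refine Groth.Agent.Pic13.H504.Descent.isBounded_of_bddPic hQ (K991.BddOpen.bddPic_of_opens hP U hU)
      fun L hLQ hL => ?_
    have h1 := h L hL
    rwa [← K991.BddOpen.kpt_mk (φ := φ) hLQ] at h1

end Groth.Agent.S5645
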