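import Groth.Statements.S5646
import Groth.Agent.Pic13.K60.QAff
import Groth.Agent.Pic13.K60.Bridge

set_option autoImplicit false
universe u
open CategoryTheory CategoryTheory.Limits AlgebraicGeometry
open Pic13

namespace Groth.Agent.S5646

/-- Let S be an integral Noetherian scheme, p : X ⟶ S and g : Y ⟶ S proper, and f : X ⟶ Y a surjective
S-morphism. Then there is a nonempty open V ⊆ S such that the relative Picard functors of Y_V = Y
×_S V and X_V = X ×_S V over V are representable, and for all representing V-schemes (P_Y, φ_Y),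
(P_X, φ_X) and the V-morphism m : P_Y ⟶ P_X representing pullback along the base changes f_T : X_V
×_V T ⟶ Y_V ×_V T of f (that is, φ_X(f_T^* c) = φ_Y(c) ≫ m for invertible classes c), m is
quasi-affine and locally of finite presentation. (The published statement uses the fppf-sheafified
Picard functors and asserts that f^* is representable by a quasi-affine morphism of finite
presentation over V; this row uses the étale-sheafified functors through representing objects, and
asserts their existence over V.) -/
theorem result {X Y S : Scheme.{u}} [IsNoetherian S] [IsIntegral S]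
    (p : X ⟶ S) (g : Y ⟶ S) [IsProper p] [IsProper g] (f : X ⟶ Y) (hf : f ≫ g = p) [Surjective f] :
    ∃ V : S.Opens, (V : Set S).Nonempty ∧
      PicRel.Representable (pullback.snd g V.ι) ∧ PicRel.Representable (pullback.snd p V.ι) ∧
      ∀ (PY PX : Over (V : Scheme.{u}))
        (φY : ∀ T : Over (V : Scheme.{u}), PicF.Cl (PicF.XT (pullback.snd g V.ι) T) → (T ⟶ PY))
        (φX : ∀ T : Over (V : Scheme.{u}), PicF.Cl (PicF.XT (pullback.snd p V.ι) T) → (T ⟶ PX))
        (hY : PicRel.IsRelPic (pullback.snd g V.ι) PY φY) (hX : PicRel.IsRelPic (pullback.snd p V.ι) PX φX)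
        (fT : ∀ T : Over (V : Scheme.{u}), PicF.XT (pullback.snd p V.ι) T ⟶ PicF.XT (pullback.snd g V.ι) T)
        (hfT : ∀ T, fT T ≫ pullback.fst _ _ ≫ pullback.fst g V.ι = pullback.fst _ _ ≫ pullback.fst p V.ι ≫ f ∧
          fT T ≫ pullback.snd _ _ = pullback.snd _ _)
        (m : PY ⟶ PX)
        (hm : ∀ (T : Over (V : Scheme.{u})) (c : PicF.Cl (PicF.XT (pullback.snd g V.ι) T)), PicF.IsInvertibleCl c →
          φX T (PicF.pullCl (fT T) c) = φY T c ≫ m),
        Mor2.IsQuasiAffine m.left ∧ LocallyOfFinitePresentation m.left := by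
  have hbc : MorphismProperty.IsStableUnderBaseChange @Mor2.IsQuasiAffine.{u} :=
    K286.QAff.isStableUnderBaseChange_isQuasiAffine
  have hr : MorphismProperty.RespectsIso @Mor2.IsQuasiAffine.{u} :=
    MorphismProperty.IsStableUnderBaseChange.respectsIso
  obtain ⟨V, hV, hM⟩ := K60.QAff.genM_qaff (f := f) (g := g) hf
  have : IsLocallyNoetherian (Over.mk V.ι).left := inferInstanceAs (IsLocallyNoetherian V.toScheme)
  exact ⟨V, hV, K60.Bridge.final (K60.Bridge.mGood_lfp hM)⟩

end Groth.Agent.S5646
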