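import Groth.Statements.S5647
import Groth.Agent.Pic13.K243.Small

set_option autoImplicit false
universe u
open CategoryTheory CategoryTheory.Limits AlgebraicGeometry
open Pic13

namespace Groth.Agent.S5647

/-- First assertion: over the base S = Spec k with k algebraically closed: let X ⊆ P^n_k be an integral
closed subscheme of dimension r, O_X(1) the restriction of O(1), and consider a family of invertible
O_X-modules L with Hilbert polynomials written χ(L(m)) = Σ_{j ≤ r} a_j(L) C(m+j, j) (m ≥ 0, Euler
characteristics in degrees ≤ r). Then the family is bounded if and only if the coefficients a_j(L)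
stay bounded as L runs through it. (The published statement is for X projective over a Noetherian
base with a very ample O_X(1) and geometrically integral fibres of dimension r, and for families of
classes on the fibres; this row is the case of an algebraically closed base field.) -/
theorem result (k : Type u) [Field k] [IsAlgClosed k] (n : ℕ) (X : Scheme.{u}) [X.Over (Spec (CommRingCat.of k))]
    (i : X ⟶ CohB1.ProjSpace n k) [IsClosedImmersion i] (hi : i ≫ CohB1.ProjSpace.toSpec n k = X ↘ Spec (CommRingCat.of k))
    [IsIntegral X] (r : ℕ) (hdim : topologicalKrullDim X = (r : ℕ))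
    (Q : X.Modules → Prop) (hQ : ∀ L, Q L → PicF.IsInvertible L) :
    Pic13.IsBounded k X Q ↔ ∃ B : ℕ, ∀ L, Q L → ∃ a : Fin (r + 1) → ℤ,
      (∀ m : ℕ, FGA.eulerCharLE k X (Pic13.twistOn k i L m) r = ∑ j : Fin (r + 1), a j * ((m + j).choose j : ℤ)) ∧
      ∀ j, |a j| ≤ B := by
  have hP := K243.Base.isProper_of i hi
  constructor
  · intro hb
    obtain ⟨B, hB⟩ := K243.Small.coeffs_of_bounded k i hi r hdim Q hQ hb
    refine ⟨B, fun L hL => ?_⟩
    obtain ⟨a, ha, hab⟩ := hB L hL
    refine ⟨a, fun m => ?_, hab⟩
    have h1 := congrFun ha m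
    simp only [K243.Diff.ev, K243.Diff.cc_natCast] at h1
    exact h1
  · rintro ⟨B, hB⟩
    refine K243.Small.bounded_of_coeffs k i r hi hdim Q hQ B fun L hL => ?_
    obtain ⟨a, ha, hab⟩ := hB L hL
    exact ⟨a, K243.Hilb.hf_eq_ev k i r hdim.le (hQ L hL) a ha, hab⟩

end Groth.Agent.S5647
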