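import Groth.Statements.S5648
import Groth.Agent.Pic13.K243.TopThree

set_option autoImplicit false
universe u
open CategoryTheory CategoryTheory.Limits AlgebraicGeometry
open Pic13

namespace Groth.Agent.S5648

/-- Second assertion: over the base S = Spec k with k algebraically closed: let X ⊆ P^n_k be an integral
and normal closed subscheme of dimension r = s + 2 ≥ 2, O_X(1) the restriction of O(1), and consider
a family of invertible O_X-modules L with Hilbert polynomials χ(L(m)) = Σ_{j ≤ r} a_j(L) C(m+j, j)
(m ≥ 0). If the three coefficients a_r(L), a_{r-1}(L), a_{r-2}(L) stay bounded as L runs through the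
family, then the family is bounded. (The published statement is for X projective over a Noetherian
base with a very ample O_X(1) and geometrically integral and geometrically normal fibres of
dimension r, and for families of classes on the fibres; this row is the case of an algebraically
closed base field.) -/
theorem result (k : Type u) [Field k] [IsAlgClosed k] (n : ℕ) (X : Scheme.{u}) [X.Over (Spec (CommRingCat.of k))]
    (i : X ⟶ CohB1.ProjSpace n k) [IsClosedImmersion i] (hi : i ≫ CohB1.ProjSpace.toSpec n k = X ↘ Spec (CommRingCat.of k))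
    [IsIntegral X] (hnor : Pi1.IsNormalScheme X)
    (s : ℕ) (hdim : topologicalKrullDim X = (s + 2 : ℕ))
    (Q : X.Modules → Prop) (hQ : ∀ L, Q L → PicF.IsInvertible L)
    (hB : ∃ B : ℕ, ∀ L, Q L → ∃ a : Fin (s + 3) → ℤ,
      (∀ m : ℕ, FGA.eulerCharLE k X (Pic13.twistOn k i L m) (s + 2) = ∑ j : Fin (s + 3), a j * ((m + j).choose j : ℤ)) ∧
      |a (Fin.last (s + 2))| ≤ B ∧ |a (Fin.castSucc (Fin.last (s + 1)))| ≤ B ∧ |a (Fin.castSucc (Fin.castSucc (Fin.last s)))| ≤ B) :
    Pic13.IsBounded k X Q := by
  have hP := K243.Base.isProper_of i hi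
  obtain ⟨B, hB⟩ := hB
  refine K243.TopThree.isBounded k n X i hi s hdim Q hQ B fun L hL => ?_
  obtain ⟨a, ha, h2, h1, h0⟩ := hB L hL
  refine ⟨a, K243.Hilb.hf_eq_ev k i (s + 2) hdim.le (hQ L hL) a ha, fun j => ?_⟩
  fin_cases j
  · have e : (⟨0 + s, by omega⟩ : Fin (s + 3)) = Fin.castSucc (Fin.castSucc (Fin.last s)) := by ext; simp
    exact e ▸ h0
  · have e : (⟨1 + s, by omega⟩ : Fin (s + 3)) = Fin.castSucc (Fin.last (s + 1)) := by ext; simp [add_comm]
    exact e ▸ h1
  · have e : (⟨2 + s, by omega⟩ : Fin (s + 3)) = Fin.last (s + 2) := by ext; simp [add_comm]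
    exact e ▸ h2

end Groth.Agent.S5648
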