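import Groth.Statements.S5649
import Groth.Agent.Pic13.K243.NilFinal

set_option autoImplicit false
universe u
open CategoryTheory CategoryTheory.Limits AlgebraicGeometry
open Pic13

namespace Groth.Agent.S5649

/-- Let S be an integral Noetherian scheme, p : X ⟶ S and g : Y ⟶ S proper, and f : X ⟶ Y an S-morphism
which is a nilpotent immersion (a closed immersion which is surjective). Then there is a nonempty
open V ⊆ S such that the relative Picard functors of Y_V and X_V over V are representable, and for
all representing V-schemes (P_Y, φ_Y), (P_X, φ_X) and the V-morphism m : P_Y ⟶ P_X representing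
pullback along the base changes f_T of f (φ_X(f_T^* c) = φ_Y(c) ≫ m for invertible classes c), m is
affine and locally of finite presentation. (The published statement uses the fppf-sheafified Picard
functors, asserts that f^* is representable by an affine morphism of finite presentation over V and
also describes its kernel as an affine group scheme with unipotent fibres; this row uses the
étale-sheafified functors through representing objects, asserts their existence over V, and omits
the kernel.) -/
theorem result {X Y S : Scheme.{u}} [IsNoetherian S] [IsIntegral S]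
    (p : X ⟶ S) (g : Y ⟶ S) [IsProper p] [IsProper g] (f : X ⟶ Y) (hf : f ≫ g = p) [IsClosedImmersion f] [Surjective f] :
    ∃ V : S.Opens, (V : Set S).Nonempty ∧
      PicRel.Representable (pullback.snd g V.ι) ∧ PicRel.Representable (pullback.snd p V.ι) ∧
      ∀ (PY PX : Over (V : Scheme.{u}))
        (φY : ∀ T : Over (V : Scheme.{u}), PicF.Cl (PicF.XT (pullback.snd g V.ι) T) → (T ⟶ PY))
        (φX : ∀ T : Over (V : Scheme.{u}), PicF.Cl (PicF.XT (pullback.snd p V.ι) T) → (T ⟶ PX))
        (hY : PicRel.IsRelPic (pullback.snd g V.ι) PY φY) (hX : PicRel.IsRelPic (pullback.snd p V.ι) PX φX)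
        (fT : ∀ T : Over (V : Scheme.{u}), PicF.XT (pullback.snd p V.ι) T ⟶ PicF.XT (pullback.snd g V.ι) T)
        (hfT : ∀ T, fT T ≫ pullback.fst _ _ ≫ pullback.fst g V.ι = pullback.fst _ _ ≫ pullback.fst p V.ι ≫ f ∧
          fT T ≫ pullback.snd _ _ = pullback.snd _ _)
        (m : PY ⟶ PX)
        (hm : ∀ (T : Over (V : Scheme.{u})) (c : PicF.Cl (PicF.XT (pullback.snd g V.ι) T)), PicF.IsInvertibleCl c →
          φX T (PicF.pullCl (fT T) c) = φY T c ≫ m),
        IsAffineHom m.left ∧ LocallyOfFinitePresentation m.left := by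
  subst hf
  obtain ⟨V, hV, hA, hlY, hlX⟩ := K243.NilFinal.exists_open f g
  obtain ⟨P, P', φ, φ', r, h1, h2, -⟩ := id hA
  refine ⟨V, hV, ⟨P, Groth.Agent.Ega3A.PicRep.representedBy_of_repPic _ h1⟩,
    ⟨P', Groth.Agent.Ega3A.PicRep.representedBy_of_repPic _ h2⟩, ?_⟩
  intro PY PX φY φX hY hX fT hfT m hm
  have hY' := K243.NilFinal.repPic_of_isRelPic hY
  have hX' := K243.NilFinal.repPic_of_isRelPic hX
  have hfT' : ∀ T, fT T = Groth.Agent.Pic13.H508.SqMT.mT (K243.NilStep.bm f g V.ι)
      (K243.NilStep.bm_snd f g V.ι) T := by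
    intro T
    apply pullback.hom_ext
    · apply pullback.hom_ext
      · rw [Category.assoc, (hfT T).1, Groth.Agent.Pic13.H508.SqMT.mT_fst, Category.assoc,
          K243.NilStep.bm_fst]
      · rw [Category.assoc, Category.assoc, pullback.condition, ← Category.assoc, (hfT T).2,
          Groth.Agent.Pic13.H508.SqMT.mT_snd_assoc]
    · rw [(hfT T).2, Groth.Agent.Pic13.H508.SqMT.mT_snd]
  have haff : IsAffineHom m.left := hA.affine hY' hX' m (fun T c => by
    have := hm T (Groth.Agent.Fga.RigGrp.toCl c) (Groth.Agent.Fga.RigGrp.isInvertibleCl_toCl c)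
    rw [← Groth.Agent.Fga.RigGrp.toCl_pull, hfT'] at this
    exact this.symm)
  refine ⟨haff, ?_⟩
  have l1 := hlY PY _ hY'
  have l2 := hlX PX _ hX'
  have l3 : LocallyOfFiniteType (m.left ≫ PX.hom) := by
    rw [Over.w m]
    exact l1
  have l4 : LocallyOfFiniteType m.left := locallyOfFiniteType_of_comp m.left PX.hom
  have l5 : IsLocallyNoetherian PX.left := LocallyOfFiniteType.isLocallyNoetherian PX.hom
  infer_instance

end Groth.Agent.S5649
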