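import Groth.Statements.S5650
import Groth.Agent.FlatMor.K249.IsoLocusSch

set_option autoImplicit false
universe u
open CategoryTheory CategoryTheory.Limits AlgebraicGeometry
open FlatMor

namespace Groth.Agent.S5650

open Groth.Agent.Fdesc.Skyscraper K249.IsoLocusSch

/-- Let X ⟶ S be proper and of finite presentation, u : F ⟶ G a morphism of finitely presented
O_X-modules with G flat over S. Then the subfunctor of S 'making u an isomorphism' is represented by
an open subscheme of S of finite presentation over S: there is a quasi-compact open U ⊆ S such that,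
for every scheme T and t : T ⟶ S, the pullback of u to X ×_S T is an isomorphism if and only if the
image of t lies in U. -/
theorem result {X S : Scheme.{u}} (f : X ⟶ S) [IsProper f] [LocallyOfFinitePresentation f]
    (F G : X.Modules) (hF : CohB1.IsFP F) (hG : CohB1.IsFP G) (hGfl : FlatMod.IsFlatOver f G) (u : F ⟶ G) :
    ∃ U : S.Opens, QuasiCompact U.ι ∧
      ∀ (T : Scheme.{u}) (t : T ⟶ S),
        IsIso ((Scheme.Modules.pullback (pullback.fst f t)).map u) ↔ Set.range t.base ⊆ (U : Set S) := by
  let Wc : Set S := f '' (W u)ᶜ
  have hWo : IsOpen (W u) := isOpen_W f u hF hG hGfl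
  have hWcl : IsClosed Wc := f.isClosedMap _ hWo.isClosed_compl
  have hWlc : Topology.IsLocallyConstructible (W u) := isLocallyConstructible_W f u hF hG hGfl
  have hlc : Topology.IsLocallyConstructible Wc :=
    f.isLocallyConstructible_image (Groth.Agent.S1453.isLocallyConstructible_compl hWlc)
  have hlc' := Groth.Agent.S1453.isLocallyConstructible_compl hlc
  refine ⟨⟨Wcᶜ, hWcl.isOpen_compl⟩, ?_, ?_⟩
  · rw [quasiCompact_iff_forall_isAffineOpen]
    intro V hV
    have h1 := Groth.Agent.S1453.isCompact_of_isLocallyConstructible (𝟙 S) hV hlc'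
    rw [Topology.IsInducing.isCompact_iff (Scheme.Opens.ι _).isOpenEmbedding.isInducing]
    convert h1 using 1
    ext x
    simp only [Set.mem_image, Set.mem_inter_iff]
    constructor
    · rintro ⟨y, hy, rfl⟩
      exact ⟨y.2, hy⟩
    · rintro ⟨h2, h3⟩
      exact ⟨⟨x, h2⟩, h3, rfl⟩
  · intro T t
    rw [K256.StalkPull.isIso_iff_stalkMap]
    have H : IsPullback (pullback.fst f t) (pullback.snd f t) f t := IsPullback.of_hasPullback f t
    have h1 : (∀ z, Function.Bijective
        (stalkMap ((Scheme.Modules.pullback (pullback.fst f t)).map u) z)) ↔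
        ∀ z : ↥(pullback f t), (pullback.fst f t).base z ∈ W u :=
      forall_congr' fun z => bijective_pullback_iff H u hF hG hGfl z
    rw [h1]
    constructor
    · rintro h _ ⟨y, rfl⟩ ⟨x, hx, hxy⟩
      obtain ⟨z, hz1, hz2⟩ := Scheme.Pullback.exists_preimage_pullback x y hxy
      apply hx
      rw [← hz1]
      exact h z
    · intro h z
      by_contra hz
      refine h ⟨(pullback.snd f t).base z, rfl⟩ ⟨(pullback.fst f t).base z, hz, ?_⟩
      change (pullback.fst f t ≫ f).base z = (pullback.snd f t ≫ t).base z
      rw [pullback.condition]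

end Groth.Agent.S5650
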