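import Groth.Statements.S5653
import Groth.Agent.Pic13.K243.Quad

set_option autoImplicit false
universe u
open CategoryTheory CategoryTheory.Limits AlgebraicGeometry
open Pic13

namespace Groth.Agent.S5653

/-- Let k be an algebraically closed field, X ⊆ P^n_k an integral closed subscheme of dimension 2,
O_X(1), O_X(-1) the restrictions of O(1), O(-1), with χ(O_X(m)) = e_2 C(m+2,2) + e_1 C(m+1,1) + e_0,
and L an invertible O_X-module with inverse L', of degree δ = (c₁(L)·c₁(O_X(1))) ≤ 0 and with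
χ(L(m)) = a_2 C(m+2,2) + a_1 C(m+1,1) + a_0 (m ≥ 0). Put β = δ (e_2 - 1) + e_1. Then a_0 ≥ (c₁(L)²)
+ 2 e_0 + (2 e_1 - a_1) C(δ, 1) + (2 e_2 - a_2) C(δ+1, 2) - β (β + 1), where C(δ, 1) = δ and C(δ+1,
2) = δ(δ+1)/2. (The published statement has +β(β+1) as its last term, which fails for O(1,-3) on P^1
× P^1 ⊆ P^3; this row has -β(β+1), the sign the published proof yields.) Intersection numbers are
those of FGA.intNum, which takes the inverse modules as arguments. -/
theorem result (k : Type u) [Field k] [IsAlgClosed k] (n : ℕ) (X : Scheme.{u}) [X.Over (Spec (CommRingCat.of k))]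
    (i : X ⟶ CohB1.ProjSpace n k) [IsClosedImmersion i] (hi : i ≫ CohB1.ProjSpace.toSpec n k = X ↘ Spec (CommRingCat.of k))
    [IsIntegral X] (hdim : topologicalKrullDim X = (2 : ℕ))
    (L L' : X.Modules) (hL : PicF.IsInvertible L) (hLL' : Nonempty (CohB1.tensorMod L L' ≅ Coh.structureModule X))
    (hdeg : FGA.intNum k X 2 (Matrix.vecCons L' (fun _ : Fin 1 => ((Scheme.Modules.pullback i).obj (Twist.twistProjSpace n k (-1))))) (Coh.structureModule X) ≤ 0)
    (a : Fin 3 → ℤ)
    (ha : ∀ m : ℕ, FGA.eulerCharLE k X (Pic13.twistOn k i L m) 2 = ∑ j : Fin 3, a j * ((m + j).choose j : ℤ))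
    (e : Fin 3 → ℤ)
    (he : ∀ m : ℕ, FGA.eulerCharLE k X (Pic13.twistOn k i (Coh.structureModule X) m) 2 = ∑ j : Fin 3, e j * ((m + j).choose j : ℤ)) :
    FGA.intNum k X 2 (Matrix.vecCons L' (fun _ : Fin 1 => L')) (Coh.structureModule X) + 2 * e 0 +
        (2 * e 1 - a 1) * FGA.intNum k X 2 (Matrix.vecCons L' (fun _ : Fin 1 => ((Scheme.Modules.pullback i).obj (Twist.twistProjSpace n k (-1))))) (Coh.structureModule X) +
        (2 * e 2 - a 2) * (FGA.intNum k X 2 (Matrix.vecCons L' (fun _ : Fin 1 => ((Scheme.Modules.pullback i).obj (Twist.twistProjSpace n k (-1))))) (Coh.structureModule X) *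
          (FGA.intNum k X 2 (Matrix.vecCons L' (fun _ : Fin 1 => ((Scheme.Modules.pullback i).obj (Twist.twistProjSpace n k (-1))))) (Coh.structureModule X) + 1) / 2) -
        (FGA.intNum k X 2 (Matrix.vecCons L' (fun _ : Fin 1 => ((Scheme.Modules.pullback i).obj (Twist.twistProjSpace n k (-1))))) (Coh.structureModule X) * (e 2 - 1) + e 1) *
          (FGA.intNum k X 2 (Matrix.vecCons L' (fun _ : Fin 1 => ((Scheme.Modules.pullback i).obj (Twist.twistProjSpace n k (-1))))) (Coh.structureModule X) * (e 2 - 1) + e 1 + 1)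
      ≤ a 0 := by
  have hP := K243.Base.isProper_of i hi
  have hinf : Infinite k := inferInstance
  have hO := K243.Coeffs.isInvertible_unit (X := X)
  have hL' := K243.Base.isInvertible_inv hLL'
  have hL'L : Nonempty (CohB1.tensorMod L' L ≅ Coh.structureModule X) := by
    rw [← Fga.PicMon.mc_eq_iff, Fga.PicMon.mc_tensor, Fga.PicMon.mc_one, K243.Base.mc_inv_mul hLL']
  have hfL : K243.Hilb.hf k i 2 L = K243.Diff.ev a := K243.Hilb.hf_eq_ev k i 2 hdim.le hL a ha
  have hfO : K243.Hilb.hf k i 2 (Coh.structureModule X) = K243.Diff.ev e :=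
    K243.Hilb.hf_eq_ev k i 2 hdim.le hO e he
  set δ := FGA.intNum k X 2 (Matrix.vecCons L' (fun _ : Fin 1 => ((Scheme.Modules.pullback i).obj
    (Twist.twistProjSpace n k (-1))))) (Coh.structureModule X) with hδ
  set q := FGA.intNum k X 2 (Matrix.vecCons L' (fun _ : Fin 1 => L')) (Coh.structureModule X) with hq
  have hquad : ∀ m, K243.Hilb.hf k i 2 L' m = q - K243.Diff.ev a m + 2 * K243.Diff.ev e m := by
    intro m
    have h1 := K243.Quad.quad k i hdim.le hL hLL' m
    rw [hfL, hfO] at h1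
    linarith
  have htop : a 2 = e 2 := (K243.Coeffs.top_eq k i 1 hdim.le hL a hfL).trans
    (K243.Coeffs.top_eq k i 1 hdim.le hO e hfO).symm
  have he2 : 0 < e 2 := K243.Surface.top_pos k i hi hdim hO e hfO
  have hnabL' : ∀ m, K243.Diff.nab (K243.Hilb.hf k i 2 L') m = -(a 1 + a 2 * (m + 1)) + 2 * (e 1 + e 2 * (m + 1)) := by
    intro m
    rw [K243.Diff.nab_apply, hquad, hquad]
    have h1 := K243.Quad.nab_one a m
    have h2 := K243.Quad.nab_one e m
    rw [K243.Diff.nab_apply] at h1 h2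
    linarith
  have hd1 : δ = a 1 - e 1 := by
    have h1 := K243.Deg.deg_eq k i 1 hdim.le hL hLL'
    have h2 : K243.Hilb.hf k i (1 + 1) L = K243.Diff.ev a := hfL
    have h3 : K243.Hilb.hf k i (1 + 1) (Coh.structureModule X) = K243.Diff.ev e := hfO
    rw [h2, h3] at h1
    simp only [Function.iterate_one] at h1
    rw [K243.Quad.nab_one, K243.Quad.nab_one, htop] at h1
    have h4 : K243.Deg.deg k i 1 L' = δ := rfl
    linarith
  have hM := K243.Base.isInvertible_twistOn i hL' δ
  have hMM' := K243.Surface.mc_twist_inv k i hL'L δ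
  have hdegM : K243.Deg.deg k i 1 (Pic13.twistOn k i L (-δ)) = δ * (e 2 - 1) := by
    have h1 := K243.Deg.deg_twist k i 1 hdim.le hL' hL'L δ
    have h2 := K243.Deg.deg_eq k i 1 hdim.le hL' hL'L
    have h3 : K243.Hilb.hf k i (1 + 1) L' = K243.Hilb.hf k i 2 L' := rfl
    have h4 : K243.Hilb.hf k i (1 + 1) (Coh.structureModule X) = K243.Diff.ev e := hfO
    rw [h3] at h1 h2
    rw [h4] at h2
    simp only [Function.iterate_one] at h1 h2
    rw [hnabL', K243.Quad.nab_one] at h2
    rw [hnabL', hnabL', h2] at h1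
    rw [h1, htop]
    have : e 1 = a 1 - δ := by linarith
    rw [this]
    ring
  obtain ⟨b, hb⟩ := K243.Quad.exists_coeff k i 2 hdim.le hM
  obtain ⟨-, r2, -, r4, -, -⟩ := K243.Surface.main k i hi hdim hM hMM' (by
    rw [hdegM]
    nlinarith) b hb
  have hb0 : b 0 = q - K243.Diff.ev a (δ - 1) + 2 * K243.Diff.ev e (δ - 1) := by
    rw [← K243.Deg.ev_neg_one b, ← hb, K243.Hilb.hf_twist, ← hquad]
    rfl
  have hb1 : b 1 = δ * (e 2 - 1) + e 1 := by
    have h1 := K243.Quad.nab_one b (-1)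
    rw [← hb] at h1
    have h2 := K243.Deg.nab_twist k i 2 L' δ 1 (-1)
    simp only [Function.iterate_one] at h2
    rw [h2, hnabL', htop] at h1
    have : e 1 = a 1 - δ := by linarith
    rw [this]
    linarith
  have hC : δ * (δ + 1) / 2 = K243.Diff.cc 2 (δ - 1) := by
    have h1 := K243.Quad.two_cc_two (δ - 1)
    have h2 : δ * (δ + 1) = 2 * K243.Diff.cc 2 (δ - 1) := by rw [h1]; ring
    rw [h2]
    exact Int.mul_ediv_cancel_left _ (by norm_num)
  rw [hC, ← hb1]
  rw [K243.Quad.ev_three, K243.Quad.ev_three] at hb0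
  have h9 : b 0 ≤ b 1 * (b 1 + 1) := by linarith
  rw [hb0] at h9
  nlinarith

end Groth.Agent.S5653
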