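import Groth.Statements.S5654
import Groth.Agent.Sga3.H821.ExtAffine
import Groth.Agent.S3020
import Groth.Agent.S2339

set_option autoImplicit false
universe u
open CategoryTheory MonoidalCategory CartesianMonoidalCategory MonObj GrpObj AlgebraicGeometry
open GrpSch

namespace Groth.Agent.S5654

/-- Let k be a field, P and Q group schemes locally of finite type over k and f : P ⟶ Q a homomorphism
of k-group schemes whose underlying morphism of schemes is quasi-affine. Then f is affine. -/
theorem result (k : Type u) [Field k] (P Q : Over (Spec (CommRingCat.of k))) [GrpObj P] [GrpObj Q]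
    [LocallyOfFiniteType P.hom] [LocallyOfFiniteType Q.hom] (f : P ⟶ Q) [IsMonHom f] (hf : Mor2.IsQuasiAffine f.left) :
    IsAffineHom f.left := by
  have hqc : QuasiCompact f.left := hf.1
  have hK : Mor2.IsQuasiAffine (Groth.Agent.Sga3B.KerGrp.kerObj f).hom :=
    Groth.Agent.S2339.result f.left hf _
  have hq1 : ((Groth.Agent.Sga3B.KerGrp.kerObj f).hom ⁻¹ᵁ ⊤ : Scheme.{u}).IsQuasiAffine :=
    hK.2 ⊤ (isAffineOpen_top (Spec (CommRingCat.of k)))
  have hq2 : (Groth.Agent.Sga3B.KerGrp.kerObj f).left.IsQuasiAffine := by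
    let e : ((Groth.Agent.Sga3B.KerGrp.kerObj f).hom ⁻¹ᵁ ⊤ : Scheme.{u}) ≅
        (Groth.Agent.Sga3B.KerGrp.kerObj f).left :=
      Scheme.topIso (Groth.Agent.Sga3B.KerGrp.kerObj f).left
    have : CompactSpace (Groth.Agent.Sga3B.KerGrp.kerObj f).left :=
      e.inv.homeomorph.symm.compactSpace
    exact Scheme.IsQuasiAffine.of_isImmersion e.inv
  obtain ⟨_, _⟩ := Groth.Agent.Sga3B.KerGrp.exists_grpObj f
  have hlft : LocallyOfFiniteType f.left := by
    have : LocallyOfFiniteType (f.left ≫ Q.hom) := by rw [Over.w]; infer_instance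
    exact locallyOfFiniteType_of_comp f.left Q.hom
  have h0 : LocallyOfFiniteType (Groth.Agent.Sga3B.KerGrp.kerObj f).hom := by
    dsimp [Groth.Agent.Sga3B.KerGrp.kerObj]; infer_instance
  have h0' : QuasiCompact (Groth.Agent.Sga3B.KerGrp.kerObj f).hom := hK.1
  have hA : IsAffine (Groth.Agent.Sga3B.KerGrp.kerObj f).left :=
    Groth.Agent.S3020.result k (Groth.Agent.Sga3B.KerGrp.kerObj f)
  have hI : IsIntegral (𝟙_ (Over (Spec (CommRingCat.of k)))).left :=
    inferInstanceAs (IsIntegral (Spec (CommRingCat.of k)))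
  have hS : Subsingleton (𝟙_ (Over (Spec (CommRingCat.of k)))).left :=
    inferInstanceAs (Subsingleton (Spec (CommRingCat.of k)))
  obtain ⟨C, _, p, i, h1, h2, h3, h4, h5, h6, h7⟩ :=
    Groth.Agent.S3034.result k P Q f (by infer_instance)
  have hm : Mono i := Groth.Agent.Books.AlgPtsGrp.mono_of_isClosedImmersion i
  have hK' : AlgGrp.IsKernel (Groth.Agent.Sga3B.KerGrp.kerι f) p :=
    Groth.Agent.Sga3.H821.ExtAffine.isKernel_of_comp_mono f p i h3
      (Groth.Agent.Sga3B.KerGrp.kerι f) (Groth.Agent.Sga3B.KerGrp.isPullback_ker f)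
  have hpq : QuasiCompact p.left := by
    have : QuasiCompact (p.left ≫ i.left) := by
      rw [← Over.comp_left, h3]; infer_instance
    exact QuasiCompact.of_comp p.left i.left
  let e := Groth.Agent.Sga3.H821.ExtAffine.kerIso p (Groth.Agent.Sga3B.KerGrp.kerι f) hK'
  have hI : IsIso e.inv.left := inferInstanceAs (IsIso ((Over.forget _).mapIso e).inv)
  have hka : IsAffineHom (Groth.Agent.Sga3B.KerGrp.kerObj p).hom := by
    rw [← Over.w e.inv]
    infer_instance
  have hp : IsAffineHom p.left := Groth.Agent.Sga3.H821.ExtAffine.isAffineHom_of_ker p hka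
  rw [← h3, Over.comp_left]
  infer_instance

end Groth.Agent.S5654
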