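import Groth.Statements.S5655
import Groth.Agent.FlatMor.K249.NormSpread4
import Groth.Agent.FlatMor.K249.NormSpread
import Groth.Agent.FlatMor.K249.AlgGeneric

set_option autoImplicit false
universe u
open CategoryTheory CategoryTheory.Limits AlgebraicGeometry
open FlatMor

namespace Groth.Agent.S5655

/-- Let S be an integral Noetherian scheme and f : X ⟶ S flat of finite type with geometrically integral
fibres. Then there are a nonempty open U ⊆ S, an integral scheme S' with a finite flat surjective
morphism h : S' ⟶ U, a scheme X' with a flat morphism q : X' ⟶ S' whose fibres are geometrically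
integral and geometrically normal (normal after base change to any algebraically closed field), and
a finite surjective morphism g : X' ⟶ X ×_S S' over S'. (The published statement says only that X is
an S-scheme integral over S, that is, flat over S with geometrically integral fibres; this row also
assumes f of finite type, and the fibres of q over all points of S' are nonempty.) -/
theorem result {X S : Scheme.{u}} [IsNoetherian S] [IsIntegral S]
    (f : X ⟶ S) [Flat f] [GeometricallyIntegral f] [LocallyOfFiniteType f] [QuasiCompact f] :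
    ∃ (U : S.Opens) (S' : Scheme.{u}) (h : S' ⟶ (U : Scheme.{u})) (X' : Scheme.{u}) (q : X' ⟶ S')
      (g : X' ⟶ pullback f (h ≫ U.ι)),
      (U : Set S).Nonempty ∧ IsIntegral S' ∧ IsFinite h ∧ Flat h ∧ Surjective h ∧
      Flat q ∧ GeometricallyIntegral q ∧
      (∀ (Ω : Type u) [Field Ω] [IsAlgClosed Ω] (σ : Spec (CommRingCat.of Ω) ⟶ S'), Pi1.IsNormalScheme (pullback q σ)) ∧
      IsFinite g ∧ Surjective g ∧ g ≫ pullback.snd f (h ≫ U.ι) = q := by
  obtain ⟨V0, hV0, hgV0, -⟩ := exists_isAffineOpen_mem_and_subset (U := (⊤ : S.Opens))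
    (x := genericPoint S) trivial
  have hne : Nonempty V0 := ⟨⟨genericPoint S, hgV0⟩⟩
  have hN : IsNoetherianRing Γ(S, V0) := IsLocallyNoetherian.component_noetherian ⟨V0, hV0⟩
  obtain ⟨B, XB, Y', Y, a, pB, ν', g, y, hBfg, hXB, hν', hY, hYint, hYn, hrange⟩ :=
    K249.NormSpread.exists_model Γ(S, V0) (AlgebraicClosure (FractionRing Γ(S, V0))) f hV0.fromSpec
  have hBft : Algebra.FiniteType Γ(S, V0) B := (Subalgebra.fg_iff_finiteType B).1 hBfg
  have hBN : IsNoetherianRing B := Algebra.FiniteType.isNoetherianRing Γ(S, V0) B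
  have hinj1 : Function.Injective (algebraMap Γ(S, V0) B) := by
    have h := K249.AlgGeneric.algebraMap_injective (R := Γ(S, V0))
    rw [IsScalarTower.algebraMap_eq Γ(S, V0) B (AlgebraicClosure (FractionRing Γ(S, V0))),
      RingHom.coe_comp] at h
    exact Function.Injective.of_comp h
  have hinj2 : Function.Injective (algebraMap B (AlgebraicClosure (FractionRing Γ(S, V0)))) :=
    Subtype.val_injective
  have hgb : hV0.fromSpec (genericPoint (Spec Γ(S, V0))) = genericPoint S :=
    genericPoint_eq_of_isOpenImmersion _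
  have hbinj : Function.Injective hV0.fromSpec := hV0.fromSpec.isOpenEmbedding.injective
  have hlft : LocallyOfFiniteType (Spec.map (CommRingCat.ofHom (algebraMap Γ(S, V0) B))) := by
    rw [HasRingHomProperty.Spec_iff (P := @LocallyOfFiniteType)]
    exact (RingHom.finiteType_algebraMap (A := Γ(S, V0)) (B := B)).2 hBft
  have hpBl : LocallyOfFiniteType pB := MorphismProperty.of_isPullback hXB inferInstance
  have hpBq : QuasiCompact pB := MorphismProperty.of_isPullback hXB inferInstance
  have hLN : IsLocallyNoetherian Y' := LocallyOfFiniteType.isLocallyNoetherian (ν' ≫ pB)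
  have hσ := K249.AlgGeneric.map_closedPoint _ hinj2
  obtain ⟨W1, hW1, hfl, hgi, hn⟩ := K249.NormSpread3.exists_good_open (ν' ≫ pB) _ hσ g y hY hYn
  obtain ⟨W2, hW2, hdis⟩ := Flat2D.GenFibTop.exists_opens_disjoint_of_isOpen pB
  have hcl : IsClosed (Set.range ν'.base) := ν'.isClosedMap.isClosed_range
  have hsurj : ∀ x, pB x ∈ W2 → x ∈ Set.range ν'.base := by
    intro x hx
    by_contra hx'
    refine hdis (Set.range ν'.base)ᶜ hcl.isOpen_compl ?_ x hx' hx
    intro z hz hz'
    have h1 : z ∈ Set.range (g ≫ ν').base := by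
      rw [hrange]
      exact ⟨_, hσ.trans hz'.symm⟩
    obtain ⟨w, hw⟩ := h1
    exact hz ⟨g w, by rw [← hw]; exact (Scheme.Hom.comp_apply g ν' w).symm⟩
  have hg1 : genericPoint (Spec (CommRingCat.of B)) ∈ W1 := Flat2D.GenFibTop.genericPoint_mem W1 hW1
  have hg2 : genericPoint (Spec (CommRingCat.of B)) ∈ W2 := Flat2D.GenFibTop.genericPoint_mem W2 hW2
  refine K249.NormSpread4.of_model f
    (Spec.map (CommRingCat.ofHom (algebraMap Γ(S, V0) B)) ≫ hV0.fromSpec) ?_ ?_ a pB hXB ν'
    (W1 ⊓ W2) ⟨_, hg1, hg2⟩ (Flat2E.GenericQS.restrict_of_le @Flat _ inf_le_left hfl)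
    (Flat2E.GenericQS.restrict_of_le @GeometricallyIntegral _ inf_le_left hgi)
    (fun s hs => hn s hs.1) (fun x hx => hsurj x hx.2)
  · intro x hx
    refine K249.AlgGeneric.eq_genericPoint (K249.AlgGeneric.isAlgebraic_subalgebra B) x (hbinj ?_)
    rw [Scheme.Hom.comp_apply] at hx
    exact hx.trans hgb.symm
  · rw [Scheme.Hom.comp_apply, K249.AlgGeneric.map_genericPoint _ hinj1]
    exact hgb

end Groth.Agent.S5655
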