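import Groth.Statements.S5656
import Mathlib.Algebra.Polynomial.Roots
import Mathlib.Topology.Algebra.Polynomial
import Mathlib.Analysis.SpecificLimits.Basic
import Mathlib.Topology.Instances.Rat

set_option autoImplicit false
universe u
open W4sga6xxiii

namespace Groth.Agent.S5656

/-- Let G be an abelian group and G' ⊆ G a subgroup which is divisible by some prime number p (every
element of G' is p times an element of G') and such that G/G' is a torsion group. Then every
polynomial map f : G → ℚ (admitting binomial expansions f(Σ n_i x_i) = Σ_k Π_i C(n_i, k_i) y_k along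
every finite sequence x) which takes only integer values is constant. -/
theorem result {G : Type u} [AddCommGroup G] (G' : AddSubgroup G)
    (p : ℕ) (hp : p.Prime) (hdiv : ∀ x ∈ G', ∃ y ∈ G', p • y = x) (htor : ∀ x : G, ∃ n : ℤ, n ≠ 0 ∧ n • x ∈ G')
    (f : G → ℚ) (hf : W4sga6xxiii.IsPolyMap f) (hint : ∀ x, ∃ z : ℤ, f x = z) (x : G) : f x = f 0 := by
  have int_ext : ∀ P Q : Polynomial ℚ, (∀ t : ℤ, P.eval (t : ℚ) = Q.eval (t : ℚ)) → P = Q := by
    intro P Q h
    exact Polynomial.eq_of_infinite_eval_eq P Q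
      (Set.infinite_of_injective_forall_mem (f := fun t : ℤ => (t : ℚ)) Int.cast_injective h)
  -- one-variable polynomial
  have poly : ∀ a : G, ∃ P : Polynomial ℚ, ∀ t : ℤ, f (t • a) = P.eval (t : ℚ) := by
    intro a
    obtain ⟨m, y, -, hy⟩ := hf 1 (fun _ => a)
    have hch : ∀ k : ℕ, ∃ Q : Polynomial ℚ, ∀ t : ℤ, ((Ring.choose t k : ℤ) : ℚ) = Q.eval (t : ℚ) := by
      intro k
      refine ⟨Polynomial.C ((k.factorial : ℚ)⁻¹) * (descPochhammer ℤ k).map (Int.castRingHom ℚ), fun t => ?_⟩
      have h1 : ((Ring.choose t k : ℤ) : ℚ) = Ring.choose (t : ℚ) k :=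
        Ring.map_choose (Int.castRingHom ℚ) t k
      rw [h1, Ring.choose_eq_smul, ← Polynomial.aeval_eq_smeval, Polynomial.aeval_def,
        Polynomial.eval₂_eq_eval_map, Polynomial.eval_mul, Polynomial.eval_C, smul_eq_mul]
      rfl
    choose Q hQ using hch
    refine ⟨∑ k : Fin 1 → Fin (m + 1), Q (k 0) * Polynomial.C (y k), fun t => ?_⟩
    have := hy (fun _ => t)
    simp only [Finset.univ_unique, Finset.sum_singleton, Finset.prod_singleton] at this
    rw [this, Polynomial.eval_finsetSum]
    refine Finset.sum_congr rfl fun k _ => ?_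
    rw [Polynomial.eval_mul, Polynomial.eval_C, ← hQ, zsmul_eq_mul]
    rfl
  -- constancy along elements of `G'`
  have const : ∀ a ∈ G', ∀ t : ℤ, f (t • a) = f 0 := by
    intro a ha
    obtain ⟨P, hP⟩ := poly a
    -- roots
    have hroot : ∀ k : ℕ, ∃ b ∈ G', (p ^ k) • b = a := by
      intro k
      induction k with
      | zero => exact ⟨a, ha, by simp⟩
      | succ k ih =>
        obtain ⟨b, hb, hb'⟩ := ih
        obtain ⟨c, hc, hc'⟩ := hdiv b hb
        exact ⟨c, hc, by rw [pow_succ, mul_nsmul', hc', hb']⟩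
    have hp1 : (1 : ℚ) < p := by exact_mod_cast hp.one_lt
    have hval : ∀ k : ℕ, ∃ z : ℤ, P.eval (((p : ℚ) ^ k)⁻¹) = z := by
      intro k
      obtain ⟨b, hb, hb'⟩ := hroot k
      obtain ⟨Q, hQ⟩ := poly b
      have hPQ : P.comp (Polynomial.C (1 : ℚ) * Polynomial.X) =
          Q.comp (Polynomial.C ((p : ℚ) ^ k) * Polynomial.X) := by
        apply int_ext
        intro t
        have h1 : t • a = (t * (p : ℤ) ^ k) • b := by
          rw [← hb', mul_smul]; congr 1
          rw [← natCast_zsmul]; norm_cast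
        have h2 := hP t
        rw [h1, hQ] at h2
        simp only [Polynomial.eval_comp, Polynomial.eval_mul, Polynomial.eval_C,
          Polynomial.eval_X, one_mul]
        rw [← h2]
        congr 1
        push_cast
        ring
      obtain ⟨z, hz⟩ := hint b
      refine ⟨z, ?_⟩
      have hp0 : (p : ℚ) ^ k ≠ 0 := pow_ne_zero _ (by exact_mod_cast hp.ne_zero)
      have h3 := congrArg (Polynomial.eval (((p : ℚ) ^ k)⁻¹)) hPQ
      simp only [Polynomial.eval_comp, Polynomial.eval_mul, Polynomial.eval_C,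
          Polynomial.eval_X, one_mul] at h3
      rw [mul_inv_cancel₀ hp0] at h3
      rw [h3, ← hz]
      have := hQ 1
      simpa using this.symm
    obtain ⟨z₀, hz₀⟩ := hint 0
    have hP0 : P.eval 0 = z₀ := by
      have := hP 0
      simp only [zero_smul, Int.cast_zero] at this
      rw [← this, hz₀]
    have hlim : Filter.Tendsto (fun k : ℕ => P.eval (((p : ℚ) ^ k)⁻¹)) Filter.atTop
        (nhds (P.eval 0)) := by
      have h1 : Filter.Tendsto (fun k : ℕ => ((p : ℚ) ^ k)⁻¹) Filter.atTop (nhds 0) :=
        tendsto_inv_atTop_zero.comp (tendsto_pow_atTop_atTop_of_one_lt hp1)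
      exact (P.continuous.tendsto 0).comp h1
    have hev : ∀ᶠ k : ℕ in Filter.atTop, P.eval (((p : ℚ) ^ k)⁻¹) = P.eval 0 := by
      have h1 := Metric.tendsto_nhds.1 hlim 1 one_pos
      filter_upwards [h1] with k hk
      obtain ⟨z, hz⟩ := hval k
      rw [hz, hP0, Int.dist_cast_rat] at hk
      rw [hz, hP0]
      have h2 : dist z z₀ < 1 := hk
      rw [Int.dist_eq, ← Int.cast_sub, ← Int.cast_abs] at h2
      have h3 : |z - z₀| < 1 := by exact_mod_cast h2
      have h4 : z = z₀ := by
        have := Int.abs_lt_one_iff.1 h3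
        omega
      rw [h4]
    obtain ⟨N, hN⟩ := Filter.eventually_atTop.1 hev
    have hPC : P = Polynomial.C (P.eval 0) := by
      apply Polynomial.eq_of_infinite_eval_eq
      refine Set.infinite_of_injective_forall_mem (f := fun k : ℕ => (((p : ℚ) ^ (N + k))⁻¹)) ?_ ?_
      · intro k l hkl
        have h1 := inv_injective hkl
        have h2 := (pow_right_injective₀ (by linarith : (0 : ℚ) < p) (by linarith)) h1
        omega
      · intro k
        simp only [Set.mem_ofPred_eq, Polynomial.eval_C]
        exact hN _ (by omega)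
    intro t
    rw [hP, hPC, Polynomial.eval_C, hP0, hz₀]
  obtain ⟨n, hn, hnx⟩ := htor x
  obtain ⟨Q, hQ⟩ := poly x
  have h1 : Q.comp (Polynomial.C (n : ℚ) * Polynomial.X) = Polynomial.C (f 0) := by
    apply int_ext
    intro t
    have h2 := const _ hnx t
    rw [smul_smul, hQ] at h2
    simp only [Polynomial.eval_comp, Polynomial.eval_mul, Polynomial.eval_C, Polynomial.eval_X]
    rw [← h2]
    congr 1
    push_cast
    ring
  have h2 := congrArg (Polynomial.eval ((n : ℚ)⁻¹)) h1
  simp only [Polynomial.eval_comp, Polynomial.eval_mul, Polynomial.eval_C, Polynomial.eval_X] at h2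
  rw [mul_inv_cancel₀ (by exact_mod_cast hn)] at h2
  have h3 := hQ 1
  rw [one_smul] at h3
  rw [h3, ← h2]
  norm_num

end Groth.Agent.S5656
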