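import Groth.Statements.S5657


set_option autoImplicit false
universe u
open TensorProduct
open W4sga6xxiii

namespace Groth.Agent.S5657

/-- Let A be a commutative ring, I an ideal of A with I^{m+1} = 0, and P ⊆ Aˣ the subgroup of units of
the form 1 + y with y ∈ I. Then the map P → A ⊗_ℤ ℚ, x ↦ x ⊗ 1, is a polynomial map of degree ≤ m on
the abelian group P (written additively): along every finite sequence x_1, …, x_r in P one has
x_1^{n_1}⋯x_r^{n_r} ⊗ 1 = Σ_k Π_i C(n_i, k_i) y_k with y_k = 0 whenever k_1 + ⋯ + k_r > m. -/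
theorem result (A : Type u) [CommRing A] (I : Ideal A) (m : ℕ) (hI : I ^ (m + 1) = ⊥)
    (P : Subgroup Aˣ) (hP : ∀ u : Aˣ, u ∈ P ↔ (u : A) - 1 ∈ I) :
    W4sga6xxiii.IsPolyMapLE (fun u : Additive P => (((Additive.toMul u : P) : Aˣ) : A) ⊗ₜ[ℤ] (1 : ℚ)) m := by
  -- powers of `1 + a`
  have key : ∀ (u : Aˣ), u ∈ P → ∀ n : ℤ,
      ((u ^ n : Aˣ) : A) = ∑ k : Fin (m + 1), (Ring.choose n (k : ℕ) : ℤ) • (((u : A) - 1) ^ (k : ℕ)) := by
    intro u hu
    have ha : ((u : A) - 1) ^ (m + 1) = 0 := by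
      have := Ideal.pow_mem_pow ((hP u).1 hu) (m + 1)
      rwa [hI, Ideal.mem_bot] at this
    set a : A := (u : A) - 1 with ha'
    have hu' : (u : A) = 1 + a := by rw [ha']; ring
    let E : ℤ → A := fun n => ∑ k : Fin (m + 1), (Ring.choose n (k : ℕ) : ℤ) • (a ^ (k : ℕ))
    have hE0 : E 0 = 1 := by
      simp only [E]
      rw [Fin.sum_univ_succ]
      simp [Ring.choose_zero_succ]
    have hE1 : ∀ n : ℤ, E (n + 1) = E n * (u : A) := by
      intro n
      have h1 : E (n + 1) = 1 + ∑ k : Fin m, (Ring.choose n (k : ℕ) + Ring.choose n ((k : ℕ) + 1) : ℤ) • a ^ ((k : ℕ) + 1) := by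
        simp only [E]
        rw [Fin.sum_univ_succ]
        simp [Ring.choose_succ_succ]
      have h2 : E n = 1 + ∑ k : Fin m, (Ring.choose n ((k : ℕ) + 1) : ℤ) • a ^ ((k : ℕ) + 1) := by
        simp only [E]
        rw [Fin.sum_univ_succ]
        simp
      have h3 : E n * a = ∑ k : Fin m, (Ring.choose n (k : ℕ) : ℤ) • a ^ ((k : ℕ) + 1) := by
        simp only [E]
        rw [Fin.sum_univ_castSucc, add_mul, Finset.sum_mul]
        simp only [Fin.val_castSucc, smul_mul_assoc, ← pow_succ, Fin.val_last, ha, smul_zero, add_zero]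
      rw [hu', mul_add, mul_one, h3, h1]
      rw [h2]
      simp only [add_smul, Finset.sum_add_distrib]
      ring
    intro n
    change _ = E n
    induction n with
    | zero => simp [hE0]
    | succ n ih => rw [zpow_add_one, Units.val_mul, ih, hE1]
    | pred n ih =>
      have h := hE1 (-(n : ℤ) - 1)
      rw [sub_add_cancel] at h
      rw [zpow_sub_one, Units.val_mul, ih, h, mul_assoc, Units.mul_inv, mul_one]
  intro r x
  let u : Fin r → Aˣ := fun i => ((Additive.toMul (x i) : P) : Aˣ)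
  have hu : ∀ i, u i ∈ P := fun i => (Additive.toMul (x i) : P).2
  refine ⟨fun k => (∏ i, ((u i : A) - 1) ^ (k i : ℕ)) ⊗ₜ[ℤ] (1 : ℚ), ?_, ?_⟩
  · intro k hk
    have h1 : ∏ i, ((u i : A) - 1) ^ (k i : ℕ) ∈ I ^ (∑ i, (k i : ℕ)) := by
      rw [← Finset.prod_pow_eq_pow_sum]
      exact Ideal.prod_mem_prod fun i _ => Ideal.pow_mem_pow ((hP _).1 (hu i)) _
    have h2 : ∏ i, ((u i : A) - 1) ^ (k i : ℕ) ∈ I ^ (m + 1) := Ideal.pow_le_pow_right hk h1
    rw [hI, Ideal.mem_bot] at h2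
    simp only [h2, TensorProduct.zero_tmul]
  · intro n
    have h1 : (((Additive.toMul (∑ i, n i • x i) : P) : Aˣ) : A) = ∏ i, ((u i ^ n i : Aˣ) : A) := by
      have : ((Additive.toMul (∑ i, n i • x i) : P) : Aˣ) = ∏ i, u i ^ n i := by
        rw [toMul_sum]
        simp [u]
      rw [this, Units.coe_prod]
    have h2 : ∏ i, ((u i ^ n i : Aˣ) : A) =
        ∑ k : Fin r → Fin (m + 1), (∏ i, Ring.choose (n i) (k i : ℕ)) •
          ∏ i, ((u i : A) - 1) ^ (k i : ℕ) := by
      rw [Finset.prod_congr rfl fun i _ => key (u i) (hu i) (n i), Finset.prod_univ_sum,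
        Fintype.piFinset_univ]
      refine Finset.sum_congr rfl fun k _ => ?_
      simp only [zsmul_eq_mul, Finset.prod_mul_distrib, Int.cast_prod]
    change (((Additive.toMul (∑ i, n i • x i) : P) : Aˣ) : A) ⊗ₜ[ℤ] (1 : ℚ) = _
    rw [h1, h2, TensorProduct.sum_tmul]
    refine Finset.sum_congr rfl fun k _ => ?_
    rw [TensorProduct.smul_tmul']

end Groth.Agent.S5657
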