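import Groth.Statements.S5658
import Mathlib.Algebra.Order.Ring.Star
import Mathlib.RingTheory.Etale.StandardEtale
import Mathlib.RingTheory.PicardGroup
import Groth.Agent.CAlg.K59.GLElim

set_option autoImplicit false
universe u
open CAlg

namespace Groth.Agent.S5658

open Polynomial

/-- For every point of a ring there is an étale neighbourhood with a unit `u` such that `u - 1` is a unit. -/
theorem exists_unit (A : Type u) [CommRing A] (p : PrimeSpectrum A) :
    ∃ (B : Type u) (_ : CommRing B) (g : A →+* B) (q : PrimeSpectrum B), g.Etale ∧ q.asIdeal.comap g = p.asIdeal ∧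
      ∃ u : Bˣ, IsUnit ((u : B) - 1) := by
  let K := AlgebraicClosure p.asIdeal.ResidueField
  let φ : A →+* K := (algebraMap p.asIdeal.ResidueField K).comp (algebraMap A p.asIdeal.ResidueField)
  have hφ : RingHom.ker φ = p.asIdeal := by
    rw [RingHom.ker_comp_of_injective _ (algebraMap p.asIdeal.ResidueField K).injective, Ideal.ker_algebraMap_residueField]
  have hφ' : ∀ x, φ x = 0 ↔ x ∈ p.asIdeal := by
    intro x; rw [← RingHom.mem_ker]; exact iff_of_eq (congrArg (fun I => x ∈ I) hφ)
  by_cases h2 : (2 : A) ∈ p.asIdeal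
  · -- residue characteristic two: adjoin a primitive cube root of unity
    have h3 : (3 : A) ∉ p.asIdeal := by
      intro h3
      apply p.isPrime.ne_top
      rw [Ideal.eq_top_iff_one]
      have := p.asIdeal.sub_mem h3 h2
      norm_num at this
      exact this
    let P : StandardEtalePair A :=
      { f := X ^ 2 + X + 1
        monic_f := by monicity!
        g := C 3
        cond := ⟨- derivative (X ^ 2 + X + 1 : A[X]), 4, 1, by
          have h2 : (C 2 : A[X]) = 2 := map_ofNat C 2
          have h3 : (C 3 : A[X]) = 3 := map_ofNat C 3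
          simp only [derivative_add, derivative_X_pow, derivative_X, derivative_one, pow_one, Nat.cast_ofNat, h2, h3]
          ring⟩ }
    obtain ⟨x, hx⟩ : ∃ x : K, aeval x (X ^ 2 + X + 1 : K[X]) = 0 := by
      have := IsAlgClosed.exists_aeval_eq_zero K (X ^ 2 + X + 1 : K[X]) (by
        have : (X ^ 2 + X + 1 : K[X]).natDegree = 2 := by compute_degree!
        intro h
        rw [natDegree_eq_of_degree_eq_some h] at this
        exact absurd this (by norm_num))
      exact this
    let _ : Algebra A K := φ.toAlgebra
    have hmap : P.HasMap x := by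
      constructor
      · simp [P] at hx ⊢
        exact hx
      · have : φ 3 ≠ 0 := fun h => h3 ((hφ' _).1 h)
        simp only [P, aeval_C]
        exact IsUnit.mk0 _ this
    let ψ : P.Ring →+* K := (P.lift x hmap).toRingHom
    refine ⟨P.Ring, inferInstance, algebraMap A P.Ring, ⟨RingHom.ker ψ, RingHom.ker_isPrime ψ⟩, ?_, ?_, ?_⟩
    · rw [RingHom.etale_algebraMap]; infer_instance
    · change (RingHom.ker ψ).comap _ = _
      rw [RingHom.comap_ker]
      refine Eq.trans ?_ hφ
      congr 1
      exact (P.lift x hmap).comp_algebraMap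
    · have hX : P.X ^ 2 + P.X + 1 = 0 := by
        have := P.hasMap_X.1
        simpa [P] using this
      refine ⟨⟨- P.X, P.X + 1, ?_, ?_⟩, ?_⟩
      · linear_combination - hX
      · linear_combination - hX
      · refine ⟨⟨- P.X - 1, P.X, ?_, ?_⟩, rfl⟩
        · linear_combination - hX
        · linear_combination - hX
  · have h2' : φ 2 ≠ 0 := fun h => h2 ((hφ' _).1 h)
    obtain ⟨B, _, g, ψ, hg, hψ, hu⟩ := K59.GLElim.exists_away φ 2 h2'
    obtain ⟨u, hu⟩ := hu
    refine ⟨B, inferInstance, g, ⟨RingHom.ker ψ, RingHom.ker_isPrime ψ⟩, hg, ?_, u, ?_⟩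
    · change (RingHom.ker ψ).comap _ = _
      rw [RingHom.comap_ker, hψ, hφ]
    · rw [hu, map_ofNat]
      norm_num

/-- On the big étale site of a scheme the sheaf of commutator subgroups of Gl(n) is Sl(n) = Ker(det).
Concretely: let A be a commutative ring, n ≥ 0, s ∈ SL_n(A) and p a prime ideal of A. Then there are
an étale A-algebra A' with a prime ideal lying over p such that the image of s in GL_n(A') lies in
the commutator subgroup of GL_n(A'). (The inclusion of commutators in SL_n being clear, this is the
content of the statement.) -/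
theorem result (A : Type u) [CommRing A] (n : ℕ)
    (s : Matrix.SpecialLinearGroup (Fin n) A) (p : PrimeSpectrum A) :
    ∃ (A' : Type u) (_ : CommRing A') (_ : Algebra A A'), Algebra.Etale A A' ∧
      (∃ q : PrimeSpectrum A', q.asIdeal.comap (algebraMap A A') = p.asIdeal) ∧
      (Matrix.GeneralLinearGroup.map (algebraMap A A')) (Matrix.SpecialLinearGroup.toGL s) ∈
        commutator (Matrix.GeneralLinearGroup (Fin n) A') := by
  obtain ⟨B, _, g, q, hg, hq, hu⟩ := exists_unit A p
  have hfrac : ∀ x : q.asIdeal.ResidueField, ∃ a b : B, algebraMap B q.asIdeal.ResidueField b ≠ 0 ∧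
      algebraMap B q.asIdeal.ResidueField a = x * algebraMap B q.asIdeal.ResidueField b := by
    intro x
    obtain ⟨a, b, hb, rfl⟩ := IsFractionRing.div_surjective (A := B ⧸ q.asIdeal) x
    obtain ⟨a, rfl⟩ := Ideal.Quotient.mk_surjective a
    obtain ⟨b, rfl⟩ := Ideal.Quotient.mk_surjective b
    have hb' : algebraMap B q.asIdeal.ResidueField b ≠ 0 := by
      rw [Ne, Ideal.algebraMap_residueField_eq_zero, ← Ideal.Quotient.eq_zero_iff_mem]
      exact nonZeroDivisors.ne_zero hb
    refine ⟨a, b, hb', ?_⟩
    rw [Ideal.algebraMap_quotient_residueField_mk, Ideal.algebraMap_quotient_residueField_mk, div_mul_cancel₀ _ hb']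
  obtain ⟨B', _, g', φ', hg', hφ', hM⟩ := K59.GLElim.reach_SL B (algebraMap B q.asIdeal.ResidueField) hu hfrac
    (Matrix.GeneralLinearGroup.map g (Matrix.SpecialLinearGroup.toGL s)) (by
      rw [Matrix.GeneralLinearGroup.map_det]
      have : Matrix.GeneralLinearGroup.det (Matrix.SpecialLinearGroup.toGL s) = 1 := by
        apply Units.ext
        exact s.2
      rw [this, map_one])
  let _ : Algebra A B' := (g'.comp g).toAlgebra
  refine ⟨B', inferInstance, inferInstance, ?_, ⟨⟨RingHom.ker φ', RingHom.ker_isPrime φ'⟩, ?_⟩, hM⟩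
  · exact RingHom.Etale.stableUnderComposition g g' hg hg'
  · change (RingHom.ker φ').comap (g'.comp g) = _
    rw [RingHom.comap_ker, ← RingHom.comp_assoc, hφ', ← hq, ← RingHom.comap_ker, Ideal.ker_algebraMap_residueField q.asIdeal]

end Groth.Agent.S5658
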