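import Groth.Statements.S5659
import Mathlib.RingTheory.Etale.Weakly
import Groth.Agent.CAlg.K59.CharGm
import Groth.Agent.CAlg.K59.GLComm
import Groth.Agent.S5658
import Groth.Agent.S6283

set_option autoImplicit false
universe u
open CAlg

namespace Groth.Agent.S5659

open scoped TensorProduct
open TensorProduct Matrix

/-- A natural family of characters of `GL_n` is trivial on matrices of determinant one. -/
theorem char_eq_one {R : Type u} [CommRing R] {n : ℕ}
    (β : ∀ (B : Type u) [CommRing B] [Algebra R B], GL (Fin n) B →* Bˣ)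
    (hβ : ∀ (B C : Type u) [CommRing B] [Algebra R B] [CommRing C] [Algebra R C] (φ : B →ₐ[R] C) (s : GL (Fin n) B),
      β C (GeneralLinearGroup.map φ.toRingHom s) = Units.map (φ.toRingHom : B →* C) (β B s))
    (B : Type u) [CommRing B] [Algebra R B] (s : GL (Fin n) B) (hs : GeneralLinearGroup.det s = 1) : β B s = 1 := by
  obtain ⟨s', rfl⟩ : ∃ s' : SpecialLinearGroup (Fin n) B, SpecialLinearGroup.toGL s' = s := by
    refine ⟨⟨s.1, ?_⟩, ?_⟩
    · exact congrArg Units.val hs
    · apply Units.ext; rfl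
  let b : B := (β B (SpecialLinearGroup.toGL s') : B) - 1
  suffices hb : b = 0 by
    apply Units.ext
    exact sub_eq_zero.1 hb
  by_contra hb
  have hI : (Submodule.span B {b}).annihilator ≠ ⊤ := by
    intro h
    apply hb
    have h1 : (1 : B) ∈ (Submodule.span B {b}).annihilator := by rw [h]; trivial
    rw [Submodule.mem_annihilator_span_singleton, one_smul] at h1
    exact h1
  obtain ⟨m, hm, hle⟩ := Ideal.exists_le_maximal _ hI
  obtain ⟨B', _, _, _, ⟨q, hq⟩, hcomm⟩ := Groth.Agent.S5658.result B n s' ⟨m, hm.isPrime⟩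
  let _ : Algebra R B' := ((algebraMap B B').comp (algebraMap R B)).toAlgebra
  have hst : IsScalarTower R B B' := IsScalarTower.of_algebraMap_eq' rfl
  have h1 : β B' (GeneralLinearGroup.map (algebraMap B B') (SpecialLinearGroup.toGL s')) = 1 := by
    have := Abelianization.commutator_subset_ker (β B') hcomm
    exact this
  have h2 := hβ B B' (IsScalarTower.toAlgHom R B B') (SpecialLinearGroup.toGL s')
  have h3 : algebraMap B B' (β B (SpecialLinearGroup.toGL s') : B) = 1 := by
    have h4 : β B' (GeneralLinearGroup.map (IsScalarTower.toAlgHom R B B').toRingHom (SpecialLinearGroup.toGL s')) = 1 := h1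
    rw [h4] at h2
    exact (congrArg Units.val h2).symm
  have h4 : algebraMap B B' b = 0 := by
    rw [map_sub, h3, map_one, sub_self]
  have h5 : (1 : B') ⊗ₜ[B] b = 0 := by
    apply (TensorProduct.rid B B').injective
    rw [TensorProduct.rid_tmul, map_zero, Algebra.smul_def, h4, zero_mul]
  have h6 := (Groth.Agent.S6283.result (R := B) (S := B') B).1 b
  have h7 : (1 : B') ∈ (Submodule.span B' {(1 : B') ⊗ₜ[B] b}).annihilator := by
    rw [Submodule.mem_annihilator_span_singleton, h5, smul_zero]
  rw [← h6] at h7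
  have h8 : ((Submodule.span B {b}).annihilator).map (algebraMap B B') ≤ q.asIdeal := by
    rw [Ideal.map_le_iff_le_comap, hq]
    exact hle
  exact q.isPrime.ne_top ((Ideal.eq_top_iff_one _).2 (h8 h7))

/-- the determinant of the diagonal matrix with a single entry different from one -/
theorem det_diag {B : Type u} [CommRing B] {n : ℕ} (i : Fin n) (t : Bˣ) :
    GeneralLinearGroup.det (K59.GLComm.diagHom (Pi.mulSingle i t)) = t := by
  apply Units.ext
  change Matrix.det (K59.GLComm.diagHom (Pi.mulSingle i t) : Matrix (Fin n) (Fin n) B) = t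
  rw [K59.GLComm.coe_diagHom, det_diagonal, ← Units.coe_prod, Finset.prod_pi_mulSingle']
  simp

/-- Characters of `GL_n` over a connected base are powers of the determinant. -/
theorem char_GL {R : Type u} [CommRing R] [ConnectedSpace (PrimeSpectrum R)] {n : ℕ} (hn : 0 < n)
    (β : ∀ (B : Type u) [CommRing B] [Algebra R B], GL (Fin n) B →* Bˣ)
    (hβ : ∀ (B C : Type u) [CommRing B] [Algebra R B] [CommRing C] [Algebra R C] (φ : B →ₐ[R] C) (s : GL (Fin n) B),
      β C (GeneralLinearGroup.map φ.toRingHom s) = Units.map (φ.toRingHom : B →* C) (β B s)) :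
    ∃! m : ℤ, ∀ (B : Type u) [CommRing B] [Algebra R B] (s : GL (Fin n) B), β B s = GeneralLinearGroup.det s ^ m := by
  let i : Fin n := ⟨0, hn⟩
  let χ : ∀ (B : Type u) [CommRing B] [Algebra R B], Bˣ →* Bˣ := fun B _ _ =>
    (β B).comp (K59.GLComm.diagHom.comp (MonoidHom.mulSingle (fun _ : Fin n => Bˣ) i))
  have hχ : ∀ (B C : Type u) [CommRing B] [Algebra R B] [CommRing C] [Algebra R C] (φ : B →ₐ[R] C) (t : Bˣ),
      χ C (Units.map (φ : B →* C) t) = Units.map (φ : B →* C) (χ B t) := by
    intro B C _ _ _ _ φ t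
    change β C (K59.GLComm.diagHom (Pi.mulSingle i (Units.map (φ : B →* C) t))) = Units.map (φ.toRingHom : B →* C) (β B (K59.GLComm.diagHom (Pi.mulSingle i t)))
    rw [← hβ, K59.GLComm.map_diagHom]
    congr 2
    ext j
    by_cases hj : j = i
    · subst hj; simp
    · simp [hj]
  obtain ⟨m, hm, huniq⟩ := K59.CharGm.existsUnique_zpow R χ hχ
  have hval : ∀ (B : Type u) [CommRing B] [Algebra R B] (s : GL (Fin n) B), β B s = χ B (GeneralLinearGroup.det s) := by
    intro B _ _ s
    have h1 : β B (s * (K59.GLComm.diagHom (Pi.mulSingle i (GeneralLinearGroup.det s)))⁻¹) = 1 := by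
      apply char_eq_one β hβ
      rw [map_mul, map_inv, det_diag, mul_inv_cancel]
    rw [map_mul, map_inv, mul_inv_eq_one] at h1
    exact h1
  refine ⟨m, fun B _ _ s => ?_, fun m' hm' => huniq m' fun B _ _ t => ?_⟩
  · rw [hval, hm]
  · change β B (K59.GLComm.diagHom (Pi.mulSingle i t)) = t ^ m'
    rw [hm', det_diag]

/-- Every homomorphism of group sheaves Gl(n_1) × ⋯ × Gl(n_r) → G_m is (s_1, …, s_r) ↦ det(s_1)^{m_1} ⋯
det(s_r)^{m_r} with locally constant integers m_i uniquely determined by it. Concretely, over a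
commutative ring R whose prime spectrum is connected and for ranks n_i ≥ 1: every family of group
homomorphisms α_B : GL_{n_1}(B) × ⋯ × GL_{n_r}(B) → Bˣ, one for each commutative R-algebra B and
natural in B, is given by α_B(s) = Π_i det(s_i)^{m_i} for a unique m ∈ ℤ^r. (The published statement
allows ranks n_i ≥ 0; uniqueness of m_i needs n_i ≥ 1, since Gl(0) is trivial.) -/
theorem result (R : Type u) [CommRing R] [ConnectedSpace (PrimeSpectrum R)]
    (r : ℕ) (n : Fin r → ℕ) (hn : ∀ i, 0 < n i)
    (α : ∀ (B : Type u) [CommRing B] [Algebra R B], (∀ i, Matrix.GeneralLinearGroup (Fin (n i)) B) →* Bˣ)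
    (hα : ∀ (B C : Type u) [CommRing B] [Algebra R B] [CommRing C] [Algebra R C] (φ : B →ₐ[R] C)
      (s : ∀ i, Matrix.GeneralLinearGroup (Fin (n i)) B),
      α C (fun i => Matrix.GeneralLinearGroup.map φ.toRingHom (s i)) = Units.map (φ.toRingHom : B →* C) (α B s)) :
    ∃! m : Fin r → ℤ, ∀ (B : Type u) [CommRing B] [Algebra R B] (s : ∀ i, Matrix.GeneralLinearGroup (Fin (n i)) B),
      α B s = ∏ i, Matrix.GeneralLinearGroup.det (s i) ^ (m i) := by
  let β : ∀ (i : Fin r) (B : Type u) [CommRing B] [Algebra R B], GL (Fin (n i)) B →* Bˣ := fun i B _ _ =>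
    (α B).comp (MonoidHom.mulSingle (fun i => GL (Fin (n i)) B) i)
  have hβ : ∀ (i : Fin r) (B C : Type u) [CommRing B] [Algebra R B] [CommRing C] [Algebra R C] (φ : B →ₐ[R] C) (s : GL (Fin (n i)) B),
      β i C (GeneralLinearGroup.map φ.toRingHom s) = Units.map (φ.toRingHom : B →* C) (β i B s) := by
    intro i B C _ _ _ _ φ s
    change α C (Pi.mulSingle i (GeneralLinearGroup.map φ.toRingHom s)) = Units.map (φ.toRingHom : B →* C) (α B (Pi.mulSingle i s))
    rw [← hα]
    congr 1
    funext j
    by_cases hj : j = i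
    · subst hj; simp
    · rw [Pi.mulSingle_eq_of_ne hj, Pi.mulSingle_eq_of_ne hj, map_one]
  choose m hm huniq using fun i => char_GL (hn i) (β i) (hβ i)
  have hprod : ∀ (B : Type u) [CommRing B] (i : Fin r) (x : GL (Fin (n i)) B) (m' : Fin r → ℤ),
      ∏ j, GeneralLinearGroup.det ((Pi.mulSingle i x : ∀ i, GL (Fin (n i)) B) j) ^ (m' j) = GeneralLinearGroup.det x ^ (m' i) := by
    intro B _ i x m'
    rw [Finset.prod_eq_single i]
    · rw [Pi.mulSingle_eq_same]
    · intro j _ hj
      rw [Pi.mulSingle_eq_of_ne hj, map_one, _root_.one_zpow]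
    · intro h; exact absurd (Finset.mem_univ i) h
  refine ⟨m, fun B _ _ s => ?_, fun m' hm' => ?_⟩
  · let F : (∀ i, GL (Fin (n i)) B) →* Bˣ :=
      ∏ i, (zpowGroupHom (m i)).comp (GeneralLinearGroup.det.comp (Pi.evalMonoidHom (fun i => GL (Fin (n i)) B) i))
    have hF : ∀ s, F s = ∏ i, GeneralLinearGroup.det (s i) ^ (m i) := by
      intro s
      rw [MonoidHom.finsetProd_apply]
      rfl
    have : α B = F := by
      apply MonoidHom.pi_ext
      intro i x
      rw [hF, hprod]
      exact hm i B x
    rw [this, hF]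
  · funext i
    refine huniq i (m' i) fun B _ _ x => ?_
    change α B (Pi.mulSingle i x) = _
    rw [hm', hprod]

end Groth.Agent.S5659
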