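import Groth.Statements.S5660
import Groth.Agent.Pic13.K60.QFin
import Groth.Agent.Pic13.K60.Bridge

set_option autoImplicit false
universe u
open CategoryTheory CategoryTheory.Limits AlgebraicGeometry
open Pic13

namespace Groth.Agent.S5660

/-- Let S be an integral Noetherian scheme, p : X ⟶ S and g : Y ⟶ S proper with g flat and with
geometrically normal fibres (Y normal over S), and f : X ⟶ Y a surjective S-morphism. Then there is
a nonempty open V ⊆ S such that the relative Picard functors of Y_V and X_V over V are representable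
and, for all representing V-schemes (P_Y, φ_Y), (P_X, φ_X) and the V-morphism m : P_Y ⟶ P_X
representing pullback along the base changes f_T of f, m is quasi-finite: locally quasi-finite,
locally of finite type and quasi-compact. (The published statement uses the fppf-sheafified Picard
functors; this row uses the étale-sheafified ones through representing objects and asserts their
existence over V. Geometric normality of the fibres is rendered as normality of the base change to
every algebraically closed field.) -/
theorem result {X Y S : Scheme.{u}} [IsNoetherian S] [IsIntegral S]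
    (p : X ⟶ S) (g : Y ⟶ S) [IsProper p] [IsProper g] [Flat g]
    (hgn : ∀ (Ω : Type u) [Field Ω] [IsAlgClosed Ω] (σ : Spec (CommRingCat.of Ω) ⟶ S), Pi1.IsNormalScheme (pullback g σ))
    (f : X ⟶ Y) (hf : f ≫ g = p) [Surjective f] :
    ∃ V : S.Opens, (V : Set S).Nonempty ∧
      PicRel.Representable (pullback.snd g V.ι) ∧ PicRel.Representable (pullback.snd p V.ι) ∧
      ∀ (PY PX : Over (V : Scheme.{u}))
        (φY : ∀ T : Over (V : Scheme.{u}), PicF.Cl (PicF.XT (pullback.snd g V.ι) T) → (T ⟶ PY))
        (φX : ∀ T : Over (V : Scheme.{u}), PicF.Cl (PicF.XT (pullback.snd p V.ι) T) → (T ⟶ PX))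
        (hY : PicRel.IsRelPic (pullback.snd g V.ι) PY φY) (hX : PicRel.IsRelPic (pullback.snd p V.ι) PX φX)
        (fT : ∀ T : Over (V : Scheme.{u}), PicF.XT (pullback.snd p V.ι) T ⟶ PicF.XT (pullback.snd g V.ι) T)
        (hfT : ∀ T, fT T ≫ pullback.fst _ _ ≫ pullback.fst g V.ι = pullback.fst _ _ ≫ pullback.fst p V.ι ≫ f ∧
          fT T ≫ pullback.snd _ _ = pullback.snd _ _)
        (m : PY ⟶ PX)
        (hm : ∀ (T : Over (V : Scheme.{u})) (c : PicF.Cl (PicF.XT (pullback.snd g V.ι) T)), PicF.IsInvertibleCl c →
          φX T (PicF.pullCl (fT T) c) = φY T c ≫ m),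
        LocallyQuasiFinite m.left ∧ LocallyOfFiniteType m.left ∧ QuasiCompact m.left := by
  obtain ⟨V, hV, hM⟩ := K60.QFin.genM_inf (K60.QFin.genM_lqf (f := f) (g := g) hf hgn)
    (K60.QCInd.genM_qc (f := f) (g := g) hf)
  have : IsLocallyNoetherian (Over.mk V.ι).left := inferInstanceAs (IsLocallyNoetherian V.toScheme)
  obtain ⟨r1, r2, r3⟩ := K60.Bridge.final (K60.Bridge.mGood_lfp hM)
  refine ⟨V, hV, r1, r2, fun PY PX φY φX hY hX fT hfT m hm => ?_⟩
  obtain ⟨⟨a, b⟩, c⟩ := r3 PY PX φY φX hY hX fT hfT m hm
  have c' : LocallyOfFinitePresentation m.left := c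
  exact ⟨a, inferInstance, b⟩

end Groth.Agent.S5660
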