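import Groth.Statements.S5661
import Groth.Agent.Pic13.K987.GenTow

set_option autoImplicit false
universe u
open CategoryTheory CategoryTheory.Limits AlgebraicGeometry
open Pic13

namespace Groth.Agent.S5661

section aux

open K243.Diff K243.Hilb K987.GenStep K987.NumTow Groth.Agent.Fga.PicMon Finset

theorem eval_cast (x : Fin 3 → ℤ) (p : MvPolynomial (Fin 3) ℤ) :
    MvPolynomial.eval (fun t => (x t : ℚ)) (MvPolynomial.map (Int.castRingHom ℚ) p) =
      ((MvPolynomial.eval x p : ℤ) : ℚ) := by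
  rw [MvPolynomial.eval_map]
  exact (MvPolynomial.eval₂_comp_left (Int.castRingHom ℚ) (RingHom.id ℤ) x p).symm

/-- The degree of `L` through the Hilbert functions. -/
theorem intNum_eq (k : Type u) [Field k] (n : ℕ) {X : Scheme.{u}} (i : X ⟶ CohB1.ProjSpace n k)
    [X.Over (Spec (CommRingCat.of k))] [IsProper (X ↘ Spec (CommRingCat.of k))] (s : ℕ)
    (hdim : topologicalKrullDim X = ((s + 1 : ℕ) : WithBot ℕ∞)) {L L' : X.Modules} (hL : PicF.IsInvertible L)
    (h : Nonempty (CohB1.tensorMod L L' ≅ Coh.structureModule X)) :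
    FGA.intNum k X (s + 1) (Fin.cons L' (fun _ : Fin s => K243.Base.O i (-1)) : Fin (s + 1) → X.Modules)
      (Coh.structureModule X) = nab^[s] (hf k i (s + 1) L) 0 - nab^[s] (hf k i (s + 1) (Coh.structureModule X)) 0 := by
  have hO := K243.Coeffs.isInvertible_unit (X := X)
  have hL' := K243.Base.isInvertible_inv h
  have h1 : FGA.intNum k X (s + 1) (Fin.cons L' (fun _ => K243.Base.O i (-1)) : Fin (s + 1) → X.Modules)
      (Coh.structureModule X) = FGA.intNum k X (s + 1)
        (Fin.cons L' (fun _ => K243.Base.O i (-1)) : Fin (s + 1) → X.Modules) L := by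
    rw [← intNum_invariant k (s + 1) hdim.le (Fin.cons L' (fun _ : Fin s => K243.Base.O i (-1)) :
        Fin (s + 1) → X.Modules) (fun j => by
      cases j using Fin.cases with
      | zero => exact hL'
      | succ j => exact K243.Base.isInvertible_O i (-1))
      (Coh.structureModule X) (isCoh_invertible hO) (by
        rw [dim_support_invertible hO, hdim]
        exact_mod_cast Nat.lt_succ_self (s + 1)) hL]
    exact intNum_congr_mc k (s + 1) _ (by rw [mc_tensor, mc_one, mul_one])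
  have h2 : FGA.intNum k X (s + 1) (fun _ : Fin s => K243.Base.O i (-1)) (CohB1.tensorMod L' L) =
      FGA.intNum k X (s + 1) (fun _ : Fin s => K243.Base.O i (-1)) (Coh.structureModule X) :=
    intNum_congr_mc k (s + 1) _ (by rw [mc_tensor, K243.Base.mc_inv_mul h, mc_one])
  rw [h1, intNum_cons, h2, intNum_const_zero, intNum_const_zero]

/-- The universal bounds, over `ℤ`. -/
theorem bounds (hZ M : ℕ → MvPolynomial (Fin 3) ℤ) (G : ℕ → ℕ → MvPolynomial (Fin 3) ℤ)
    (hb : ∀ j, 2 ≤ j → (j = 2 → hZ j = h2) ∧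
      ∀ (r : ℕ) (H : ℕ → ℕ → ℤ → ℕ) (c : ℕ → ℤ), Tow r H c → j ≤ r →
        0 ≤ MvPolynomial.eval (pt c) (M j) ∧
        (∀ q : ℕ, 1 ≤ q → ∀ t : ℤ, MvPolynomial.eval (pt c) (M j) - q ≤ t → H j q t = 0) ∧
        (∀ t : ℤ, (H j 1 t : ℤ) ≤ MvPolynomial.eval (pt c) (hZ j)) ∧
        (∀ t : ℤ, t ≤ -2 - MvPolynomial.eval (pt c) h2 → H j 1 t = 0) ∧
        (∀ i ≤ j, |c i| ≤ MvPolynomial.eval (pt c) (G j i)))
    (k : Type u) [Field k] (n : ℕ) (X : Scheme.{u}) [X.Over (Spec (CommRingCat.of k))]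
    (i : X ⟶ CohB1.ProjSpace n k) [IsClosedImmersion i]
    (hi : i ≫ CohB1.ProjSpace.toSpec n k = X ↘ Spec (CommRingCat.of k)) (hint : IsIntegral X)
    (hnorm : Pi1.IsNormalScheme X) (s : ℕ) (hdim : topologicalKrullDim X = ((s + 2 : ℕ) : WithBot ℕ∞))
    (L L' : X.Modules) (hL : PicF.IsInvertible L) (hLL' : Nonempty (CohB1.tensorMod L L' ≅ Coh.structureModule X))
    (hdeg : FGA.intNum k X (s + 2) (Matrix.vecCons L' (fun _ : Fin (s + 1) => ((Scheme.Modules.pullback i).obj
      (Twist.twistProjSpace n k (-1))))) (Coh.structureModule X) ≤ 0)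
    (a : Fin (s + 3) → ℤ) (ha : ∀ m : ℕ, FGA.eulerCharLE k X (Pic13.twistOn k i L m) (s + 2) =
      ∑ j : Fin (s + 3), a j * ((m + j).choose j : ℤ)) (c : ℕ → ℤ) (hc : ∀ j : Fin (s + 3), c (s + 2 - j) = a j) :
    (∀ m : ℤ, m ≤ -2 - MvPolynomial.eval (pt c) h2 → Subsingleton (Coh.HH X (Pic13.twistOn k i L m) 1)) ∧
      (∀ m : ℤ, (Module.finrank k (Coh.HH X (Pic13.twistOn k i L m) 1) : ℤ) ≤
        MvPolynomial.eval (pt c) (hZ (s + 2))) ∧
      (∀ l ≤ s + 2, |c l| ≤ MvPolynomial.eval (pt c) (G (max l 2) l)) := by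
  have hp := K243.Base.isProper_of i hi
  have hlev : IsLev.{u} n (s + 2) (K987.GenLev.hh k n i L) (hf k i (s + 2) (Coh.structureModule X)) :=
    ⟨k, inferInstance, X, inferInstance, i, inferInstance, L, hi, hint, hnorm, hdim, hL, fun q t => rfl,
      fun t => rfl⟩
  have hd : nab^[s + 1] (chi (K987.GenLev.hh k n i L) (s + 2)) 0 ≤
      nab^[s + 1] (hf k i (s + 2) (Coh.structureModule X)) 0 := by
    rw [chi_eq (fun q t => rfl)]
    have h1 := intNum_eq k n i (s + 1) hdim hL hLL'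
    have h2 : FGA.intNum k X (s + 2) (Fin.cons L' (fun _ : Fin (s + 1) => K243.Base.O i (-1)) :
      Fin (s + 2) → X.Modules) (Coh.structureModule X) ≤ 0 := hdeg
    rw [h1] at h2
    linarith
  have hexp : ∀ t, chi (K987.GenLev.hh k n i L) (s + 2) t = ∑ l ∈ range (s + 2 + 1), c (s + 2 - l) * cc l t := by
    intro t
    rw [chi_eq (fun q t => rfl), hf_eq_ev k i (s + 2) hdim.le hL a ha, ev, Finset.sum_range]
    exact Finset.sum_congr rfl fun j _ => by rw [hc]
  obtain ⟨H, T, hH⟩ := K987.GenTow.exists_tow n c (s + 2) _ _ hlev (fun _ => hd) hexp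
  obtain ⟨-, hb1⟩ := hb (s + 2) (by omega)
  obtain ⟨-, -, k3, k4, -⟩ := hb1 (s + 2) H c T le_rfl
  rw [hH] at k3 k4
  refine ⟨fun m hm => ?_, fun m => k3 m, fun l hl => ?_⟩
  · have := K987.GenLev.finite_hh k n i hi hL 1 m
    exact (Module.finrank_zero_iff (R := k)).mp (k4 m hm)
  · obtain ⟨-, hb2⟩ := hb (max l 2) (le_max_right _ _)
    exact (hb2 (s + 2) H c T (by omega)).2.2.2.2 l (le_max_left _ _)

end aux

/-- There are universal polynomials h_2, h_3, … and g_0, g_1, … in three variables with rational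
coefficients, depending neither on the field nor on the scheme, with the following property. Let k
be an algebraically closed field, X ⊆ P^n_k an integral and normal closed subscheme of dimension r ≥
2, O_X(1), O_X(-1) the restrictions of O(1), O(-1), and L an invertible O_X-module with inverse L',
of degree (c₁(L)·c₁(O_X(1))^{r-1}) ≤ 0 and with Hilbert polynomial χ(L(m)) = Σ_{j ≤ r} a_j C(m+j,
j). Then (i) H^1(X, L(-m)) = 0 for every integer m ≥ 2 + h_2(a_{r-2}, a_{r-1}, a_r); (ii) h^1(X,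
L(m)) ≤ h_r(a_{r-2}, a_{r-1}, a_r) for every integer m; (iii) |a_j| ≤ g_{r-j}(a_{r-2}, a_{r-1}, a_r)
for j = 0, …, r. Intersection numbers are those of FGA.intNum, which takes the inverse modules as
arguments; h^1 is the dimension over k. -/
theorem result :
    ∃ (h g : ℕ → MvPolynomial (Fin 3) ℚ),
      ∀ (k : Type u) [Field k] [IsAlgClosed k] (n : ℕ) (X : Scheme.{u}) [X.Over (Spec (CommRingCat.of k))]
        (i : X ⟶ CohB1.ProjSpace n k) [IsClosedImmersion i],
        i ≫ CohB1.ProjSpace.toSpec n k = X ↘ Spec (CommRingCat.of k) → IsIntegral X → Pi1.IsNormalScheme X →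
        ∀ (s : ℕ), topologicalKrullDim X = (s + 2 : ℕ) →
        ∀ (L L' : X.Modules), PicF.IsInvertible L → Nonempty (CohB1.tensorMod L L' ≅ Coh.structureModule X) →
          FGA.intNum k X (s + 2) (Matrix.vecCons L' (fun _ : Fin (s + 1) => ((Scheme.Modules.pullback i).obj (Twist.twistProjSpace n k (-1))))) (Coh.structureModule X) ≤ 0 →
        ∀ (a : Fin (s + 3) → ℤ),
          (∀ m : ℕ, FGA.eulerCharLE k X (Pic13.twistOn k i L m) (s + 2) = ∑ j : Fin (s + 3), a j * ((m + j).choose j : ℤ)) →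
          let top : Fin 3 → ℚ := fun t => (a ⟨s + t, Nat.add_lt_add_left t.isLt s⟩ : ℚ)
          (∀ m : ℕ, 2 + MvPolynomial.eval top (h 2) ≤ (m : ℚ) →
              Subsingleton (Coh.HH X (Pic13.twistOn k i L (-(m : ℤ))) 1)) ∧
            (∀ m : ℤ, (Module.finrank k (Coh.HH X (Pic13.twistOn k i L m) 1) : ℚ) ≤ MvPolynomial.eval top (h (s + 2))) ∧
            (∀ j : Fin (s + 3), (|a j| : ℚ) ≤ MvPolynomial.eval top (g (s + 2 - j))) := by
  have hex := fun (j : ℕ) (hj : 2 ≤ j) => K987.NumTow.exists_bounds j hj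
  choose! hZ M G hb using hex
  refine ⟨fun j => MvPolynomial.map (Int.castRingHom ℚ) (hZ j),
    fun j => MvPolynomial.map (Int.castRingHom ℚ) (G (max j 2) j), ?_⟩
  intro k _ _ n X _ i _ hi hint hnorm s hdim L L' hL hLL' hdeg a ha top
  let c : ℕ → ℤ := fun l => if h : l ≤ s + 2 then a ⟨s + 2 - l, by omega⟩ else 0
  have hc : ∀ j : Fin (s + 3), c (s + 2 - j) = a j := by
    intro j
    have h1 : s + 2 - (j : ℕ) ≤ s + 2 := by omega
    simp only [c, dif_pos h1]
    congr 1
    ext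
    have := j.isLt
    simp only
    omega
  have htop : top = fun t => ((K987.NumTow.pt c t : ℤ) : ℚ) := by
    funext t
    fin_cases t
    · change (a ⟨s + 0, _⟩ : ℚ) = ((c 2 : ℤ) : ℚ)
      rw [← hc ⟨s + 0, by omega⟩]
      congr 2
      simp
    · change (a ⟨s + 1, _⟩ : ℚ) = ((c 1 : ℤ) : ℚ)
      rw [← hc ⟨s + 1, by omega⟩]
      congr 2
      simp only
      omega
    · change (a ⟨s + 2, _⟩ : ℚ) = ((c 0 : ℤ) : ℚ)
      rw [← hc ⟨s + 2, by omega⟩]
      congr 2
      simp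
  obtain ⟨k1, k2, k3⟩ := bounds hZ M G hb k n X i hi hint hnorm s hdim L L' hL hLL' hdeg a ha c hc
  have h2 : hZ 2 = K987.NumTow.h2 := (hb 2 le_rfl).1 rfl
  rw [htop]
  refine ⟨fun m hm => ?_, fun m => ?_, fun j => ?_⟩
  · apply k1
    rw [eval_cast, h2] at hm
    have h3 : (2 : ℤ) + MvPolynomial.eval (K987.NumTow.pt c) K987.NumTow.h2 ≤ (m : ℤ) := by exact_mod_cast hm
    linarith
  · rw [eval_cast]
    exact_mod_cast k2 m
  · rw [eval_cast]
    have h3 := k3 (s + 2 - j) (by omega)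
    rw [hc] at h3
    exact_mod_cast h3

end Groth.Agent.S5661
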