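import Groth.Statements.S5662
import Groth.Agent.FlatMor.K249.LFDesc

set_option autoImplicit false
universe u
open CategoryTheory CategoryTheory.Limits AlgebraicGeometry
open FlatMor

namespace Groth.Agent.S5662

open Groth.Agent.Sga67.Sec Groth.Agent.Sga67.LocBasis Groth.Agent.Krr.H487.LocBasisPull K249.LFDesc

/-- opens over which `M` has a basis -/
abbrev BO {Y : Scheme.{u}} (M : Y.Modules) : Type u :=
  {U : Y.Opens // ∃ (n : ℕ) (b : Fin n → Sec M U), IsLocBasis b}

theorem isBasis_BO {Y : Scheme.{u}} {M : Y.Modules} (hM : FlatMod.IsFinLocFree M) :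
    TopologicalSpace.Opens.IsBasis (Set.range (fun U : BO M => U.1)) := by
  rw [TopologicalSpace.Opens.isBasis_iff_nbhd]
  intro U y hy
  obtain ⟨V, hVU, hyV, n, b, hb⟩ := exists_basis_nhd hM hy
  exact ⟨V, ⟨⟨V, n, b, hb⟩, rfl⟩, hyV, hVU⟩

theorem exists_factor {X Y : Scheme.{u}} (f : X ⟶ Y)
    (hinj : ∀ U : Y.Opens, Function.Injective (f.app U))
    {L M : Y.Modules} (hM : FlatMod.IsFinLocFree M)
    (φ : (Scheme.Modules.pullback f).obj L ⟶ (Scheme.Modules.pullback f).obj M)
    (H : ∀ (U : BO M) (s : Sec L U.1), ∃ m : Sec M U.1,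
      pbS f M m = appS φ (f ⁻¹ᵁ U.1) (pbS f L s)) :
    ∃ ψ : L ⟶ M, (Scheme.Modules.pullback f).map ψ = φ := by
  choose m hm using H
  have inj : ∀ U : Y.Opens, Function.Injective (pbS f M (U := U)) := fun U =>
    pbS_injective f hinj hM U
  obtain ⟨ψ, hψ⟩ := exists_hom_of_basis' (isBasis_BO hM) L M
    (fun U => { toFun := m U
                map_add' := fun s t => inj _ (by
                  rw [map_add, hm, hm, hm, map_add, map_add])
                map_smul' := fun r s => inj _ (by
                  rw [RingHom.id_apply, pbS_smul, hm, hm, pbS_smul, map_smul]) })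
    (by
      intro U V h s
      apply inj
      have h' : f ⁻¹ᵁ V.1 ≤ f ⁻¹ᵁ U.1 := fun x hx => h hx
      change pbS f M (m V (res L h s)) = pbS f M (res M h (m U s))
      rw [hm, ← res_pbS f M h h', hm, ← res_pbS f L h h', appS_res])
  refine ⟨ψ, ?_⟩
  apply Groth.Agent.Dcoh.MonPull.pb_ext
  intro V s
  change appS ((Scheme.Modules.pullback f).map ψ) (f ⁻¹ᵁ V) (pbS f L s) =
    appS φ (f ⁻¹ᵁ V) (pbS f L s)
  refine eq_of_locally _ fun x hx => ?_
  obtain ⟨W, hWV, hxW, n, b, hb⟩ := exists_basis_nhd hM (show f.base x ∈ V from hx)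
  have h' : f ⁻¹ᵁ W ≤ f ⁻¹ᵁ V := fun x hx => hWV hx
  refine ⟨f ⁻¹ᵁ W, h', hxW, ?_⟩
  rw [← appS_res, ← appS_res, res_pbS f L hWV h', appS_pbS]
  have h1 := hψ ⟨W, n, b, hb⟩ (res L hWV s)
  rw [h1]
  exact hm ⟨W, n, b, hb⟩ (res L hWV s)

/-- Let f : X ⟶ Y be a morphism of schemes, p₁, p₂ : X ×_Y X ⟶ X the projections and g = p₁ ≫ f. Assume
that the sequence O_Y → f_*O_X ⇉ g_*O_{X ×_Y X} is exact, i.e. on every open U ⊆ Y the sections of
O_Y are exactly the sections of O_X over f⁻¹U whose two pullbacks to g⁻¹U agree (hypotheses hinj,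
hex; hU is the bookkeeping identity of the two preimage opens). Then f is a morphism of descent for
finite locally free modules: for finite locally free O_Y-modules L and M, every morphism φ : f^*L ⟶
f^*M whose pullbacks along p₁ and p₂ agree (compared through the canonical isomorphisms p_i^* f^* ≅
(p_i ≫ f)^* and p₁ ≫ f = p₂ ≫ f) is f^*ψ for a unique ψ : L ⟶ M. (The published statement is made
under further standing hypotheses (a surjective morphism between schemes proper and of finite
presentation over an integral Noetherian base, with flatness conditions), of which its proof uses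
only the exactness above; this row assumes only that exactness.) -/
theorem result {X Y : Scheme.{u}} (f : X ⟶ Y)
    (hU : ∀ U : Y.Opens, (pullback.fst f f) ⁻¹ᵁ (f ⁻¹ᵁ U) = (pullback.snd f f) ⁻¹ᵁ (f ⁻¹ᵁ U))
    (hinj : ∀ U : Y.Opens, Function.Injective (f.app U))
    (hex : ∀ (U : Y.Opens) (a : Γ(X, f ⁻¹ᵁ U)),
      (pullback.fst f f).app (f ⁻¹ᵁ U) a =
        ((pullback f f).presheaf.map (eqToHom (hU U)).op) ((pullback.snd f f).app (f ⁻¹ᵁ U) a) →
      a ∈ Set.range (f.app U))
    (L M : Y.Modules) (hL : FlatMod.IsFinLocFree L) (hM : FlatMod.IsFinLocFree M)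
    (φ : (Scheme.Modules.pullback f).obj L ⟶ (Scheme.Modules.pullback f).obj M)
    (hφ : ((Scheme.Modules.pullbackComp (pullback.fst f f) f).app L).inv ≫
        (Scheme.Modules.pullback (pullback.fst f f)).map φ ≫ ((Scheme.Modules.pullbackComp (pullback.fst f f) f).app M).hom =
      ((Scheme.Modules.pullbackCongr (pullback.condition (f := f) (g := f))).app L).hom ≫
        ((Scheme.Modules.pullbackComp (pullback.snd f f) f).app L).inv ≫
        (Scheme.Modules.pullback (pullback.snd f f)).map φ ≫ ((Scheme.Modules.pullbackComp (pullback.snd f f) f).app M).hom ≫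
        ((Scheme.Modules.pullbackCongr (pullback.condition (f := f) (g := f))).app M).inv) :
    ∃! ψ : L ⟶ M, (Scheme.Modules.pullback f).map ψ = φ := by
  have inj : ∀ (N : Y.Modules), FlatMod.IsFinLocFree N → ∀ U : Y.Opens,
      Function.Injective (pbS f N (U := U)) := fun N hN U => pbS_injective f hinj hN U
  have hfac : ∃ ψ : L ⟶ M, (Scheme.Modules.pullback f).map ψ = φ := by
    refine exists_factor f hinj hM φ fun U s => ?_
    obtain ⟨U, n, b, hb⟩ := U
    have hU' : (pullback.fst f f ≫ f) ⁻¹ᵁ U ≤ (pullback.snd f f ≫ f) ⁻¹ᵁ U := (hU U).le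
    refine mem_range_pbS f (pullback.fst f f) (pullback.snd f f)
      (pullback.condition (f := f) (g := f)) hb hU' (fun a ha => hex U a ?_) _ ?_
    · exact ha
    · have h1 : ∀ (p : pullback f f ⟶ X) (s : Sec L U),
          D f p M (appS φ (f ⁻¹ᵁ U) (pbS f L s)) =
            appS (((Scheme.Modules.pullbackComp p f).app L).inv ≫
              (Scheme.Modules.pullback p).map φ ≫ ((Scheme.Modules.pullbackComp p f).app M).hom)
              ((p ≫ f) ⁻¹ᵁ U) (pbS (p ≫ f) L s) := by
        intro p s
        rw [appS_comp, appS_comp]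
        have h2 : appS ((Scheme.Modules.pullbackComp p f).app L).inv ((p ≫ f) ⁻¹ᵁ U)
            (pbS (p ≫ f) L s) = pbS p _ (pbS f L s) :=
          Groth.Agent.Dcoh.MonPull.pullbackComp_inv_pb p f (M := L) (V := U) s
        rw [h2]
        have h3 := appS_pbS p φ (U := f ⁻¹ᵁ U) (pbS f L s)
        unfold D
        rw [← h3]
        rfl
      rw [h1, h1, hφ]
      set A₂ := ((Scheme.Modules.pullbackComp (pullback.snd f f) f).app L).inv ≫
        (Scheme.Modules.pullback (pullback.snd f f)).map φ ≫
          ((Scheme.Modules.pullbackComp (pullback.snd f f) f).app M).hom with hA₂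
      have h4 : appS ((Scheme.Modules.pullbackCongr (pullback.condition (f := f) (g := f))).hom.app M)
          ((pullback.fst f f ≫ f) ⁻¹ᵁ U)
          (appS (((Scheme.Modules.pullbackCongr (pullback.condition (f := f) (g := f))).app L).hom ≫
            ((Scheme.Modules.pullbackComp (pullback.snd f f) f).app L).inv ≫
            (Scheme.Modules.pullback (pullback.snd f f)).map φ ≫
            ((Scheme.Modules.pullbackComp (pullback.snd f f) f).app M).hom ≫
            ((Scheme.Modules.pullbackCongr (pullback.condition (f := f) (g := f))).app M).inv)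
            ((pullback.fst f f ≫ f) ⁻¹ᵁ U) (pbS (pullback.fst f f ≫ f) L s)) =
          appS A₂ ((pullback.fst f f ≫ f) ⁻¹ᵁ U)
            (appS ((Scheme.Modules.pullbackCongr (pullback.condition (f := f) (g := f))).hom.app L)
              ((pullback.fst f f ≫ f) ⁻¹ᵁ U) (pbS (pullback.fst f f ≫ f) L s)) := by
        rw [hA₂]
        simp only [appS_comp]
        exact appS_inv_hom ((Scheme.Modules.pullbackCongr (pullback.condition (f := f) (g := f))).app M) _ _
      rw [h4, congr_pbS _ L hU', appS_res]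
  obtain ⟨ψ, hψ⟩ := hfac
  refine ⟨ψ, hψ, fun ψ' hψ' => ?_⟩
  apply hom_ext
  intro U s
  apply inj M hM U
  rw [← appS_pbS, ← appS_pbS, hψ]
  congr 2

end Groth.Agent.S5662
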