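import Groth.Statements.S5663
import Mathlib.Algebra.Module.StablyFree.Basic
import Mathlib.LinearAlgebra.Dual.Lemmas
import Mathlib.LinearAlgebra.FreeModule.PID
import Mathlib.Order.CompletePartialOrder
import Mathlib.RingTheory.Flat.TorsionFree
import Mathlib.RingTheory.LocalRing.Module
import Mathlib.RingTheory.QuasiFinite.Basic
import Mathlib.RingTheory.SimpleRing.Principal
import Groth.Agent.CycAlg.K733.LenInj
import Groth.Agent.CycA.LocLen

set_option autoImplicit false
universe u
open TensorProduct
open CAlg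

namespace Groth.Agent.S5663

open TensorProduct

theorem notMem_support_of_eq {A C : Type u} [CommRing A] [CommRing C] [Algebra A C] [Module.Finite A C] (p : PrimeSpectrum A)
    (h : ∀ b : C, ∃ s ∉ p.asIdeal, s • (b ⊗ₜ[A] (1 : C) - (1 : C) ⊗ₜ[A] b) = 0) :
    p ∉ Module.support A (C ⧸ LinearMap.range (Algebra.linearMap A C)) := by
  rw [Module.mem_support_iff_nontrivial_residueField_tensorProduct, not_nontrivial_iff_subsingleton]
  let Q := C ⧸ LinearMap.range (Algebra.linearMap A C)
  let π : C →ₗ[A] Q := Submodule.mkQ _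
  have hπ1 : π 1 = 0 := by
    rw [Submodule.mkQ_apply, Submodule.Quotient.mk_eq_zero]
    exact ⟨1, map_one (algebraMap A C)⟩
  have key : ∀ b : C, (1 : p.asIdeal.ResidueField) ⊗ₜ[A] (π b) = 0 := by
    intro b
    let P : p.asIdeal.ResidueField ⊗[A] C →ₗ[p.asIdeal.ResidueField] p.asIdeal.ResidueField ⊗[A] Q :=
      π.baseChange p.asIdeal.ResidueField
    have hP : ∀ x c, P (x ⊗ₜ c) = x ⊗ₜ π c := fun x c => LinearMap.baseChange_tmul _ _ _
    by_cases hE : ((1 : p.asIdeal.ResidueField) ⊗ₜ[A] (1 : C)) = 0
    · have h1 : ((1 : p.asIdeal.ResidueField) ⊗ₜ[A] b) = 0 := by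
        have : ((1 : p.asIdeal.ResidueField) ⊗ₜ[A] b) = ((1 : p.asIdeal.ResidueField) ⊗ₜ[A] (1 : C)) * (1 ⊗ₜ b) := by
          rw [Algebra.TensorProduct.tmul_mul_tmul, one_mul, one_mul]
        rw [this, hE, zero_mul]
      rw [← hP, h1, map_zero]
    · obtain ⟨φ, hφ⟩ : ∃ φ : Module.Dual p.asIdeal.ResidueField (p.asIdeal.ResidueField ⊗[A] C), φ (1 ⊗ₜ 1) ≠ 0 := by
        by_contra hcon
        push Not at hcon
        exact hE ((Module.forall_dual_apply_eq_zero_iff p.asIdeal.ResidueField _).1 hcon)
      obtain ⟨s, hs, hb⟩ := h b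
      let β : C →ₗ[A] C →ₗ[A] (p.asIdeal.ResidueField ⊗[A] C) :=
        LinearMap.mk₂ A (fun c c' => φ (1 ⊗ₜ c) • ((1 : p.asIdeal.ResidueField) ⊗ₜ[A] c'))
          (fun c₁ c₂ c' => by rw [tmul_add, map_add, add_smul])
          (fun a c c' => by
            rw [tmul_smul, ← algebraMap_smul p.asIdeal.ResidueField a, map_smul, smul_assoc, algebraMap_smul])
          (fun c c₁ c₂ => by rw [tmul_add, smul_add])
          (fun a c c' => by rw [tmul_smul, smul_comm])
      have h1 := congrArg (TensorProduct.lift β) hb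
      rw [map_zero, map_smul, map_sub, lift.tmul, lift.tmul] at h1
      simp only [β, LinearMap.mk₂_apply] at h1
      have hs' : algebraMap A p.asIdeal.ResidueField s ≠ 0 := by
        rwa [Ne, Ideal.algebraMap_residueField_eq_zero]
      rw [← algebraMap_smul p.asIdeal.ResidueField s, smul_eq_zero_iff_right hs', sub_eq_zero] at h1
      have h2 := congrArg P h1
      rw [map_smul, map_smul, hP, hP, hπ1, tmul_zero, smul_zero] at h2
      exact (smul_eq_zero_iff_right hφ).1 h2.symm
  refine ⟨fun x y => ?_⟩
  have h0 : ∀ x : p.asIdeal.ResidueField ⊗[A] Q, x = 0 := by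
    intro x
    induction x with
    | zero => rfl
    | add x y hx hy => rw [hx, hy, add_zero]
    | tmul x y =>
      obtain ⟨c, rfl⟩ := Submodule.mkQ_surjective _ y
      have : x ⊗ₜ[A] (π c) = x • ((1 : p.asIdeal.ResidueField) ⊗ₜ[A] (π c)) := by
        rw [smul_tmul', smul_eq_mul, mul_one]
      change x ⊗ₜ[A] (π c) = 0
      rw [this, key, smul_zero]
  rw [h0 x, h0 y]

/-- Let A be a Noetherian ring and B a finite A-algebra with A → B injective (a finite schematically
dominant morphism Spec B → Spec A). Define subalgebras B_0 = B and B_{i+1} = the equalizer of the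
two maps B_i ⇉ B_i ⊗_A B_i, b ↦ b ⊗ 1, 1 ⊗ b. Then B_m = A (the image of A) for some m; equivalently
Spec B → Spec A factors as a finite chain of finite morphisms Spec B_i → Spec B_{i+1} each of which
is an effective epimorphism (B_{i+1} is the equalizer of B_i ⇉ B_i ⊗_{B_{i+1}} B_i). The sequence is
given here as any family C of subalgebras satisfying the recursion. (The published statement is for
a finite morphism X → Y of schemes with Y Noetherian and O_Y → f_*O_X injective; this row is the
affine case.) -/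
theorem result (A B : Type u) [CommRing A] [CommRing B] [Algebra A B]
    [IsNoetherianRing A] [Module.Finite A B] (hinj : Function.Injective (algebraMap A B))
    (C : ℕ → Subalgebra A B) (h0 : C 0 = ⊤)
    (hstep : ∀ (i : ℕ) (b : B), b ∈ C (i + 1) ↔ ∃ hb : b ∈ C i,
      ((⟨b, hb⟩ : C i) ⊗ₜ[A] (1 : C i) : C i ⊗[A] C i) = (1 : C i) ⊗ₜ[A] (⟨b, hb⟩ : C i)) :
    ∃ m : ℕ, C m = ⊥ := by
  have hle : ∀ i, C (i + 1) ≤ C i := fun i b hb => ((hstep i b).1 hb).1
  have hfin : ∀ i, Module.Finite A (C i) := fun i => Module.Finite.of_injective (C i).val.toLinearMap Subtype.val_injective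
  let M : ℕ → Type u := fun i => (C i) ⧸ LinearMap.range (Algebra.linearMap A (C i))
  have hMfin : ∀ i, Module.Finite A ((C i) ⧸ LinearMap.range (Algebra.linearMap A (C i))) := fun i => inferInstance
  -- the transition maps
  have hι : ∀ i, LinearMap.range (Algebra.linearMap A (C (i + 1))) ≤
      (LinearMap.range (Algebra.linearMap A (C i))).comap (Subalgebra.inclusion (hle i)).toLinearMap := by
    rintro i _ ⟨a, rfl⟩
    exact ⟨a, rfl⟩
  let t : ∀ i, ((C (i + 1)) ⧸ LinearMap.range (Algebra.linearMap A (C (i + 1)))) →ₗ[A]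
      ((C i) ⧸ LinearMap.range (Algebra.linearMap A (C i))) := fun i => Submodule.mapQ _ _ (Subalgebra.inclusion (hle i)).toLinearMap (hι i)
  have ht : ∀ i, Function.Injective (t i) := by
    intro i
    rw [injective_iff_map_eq_zero]
    intro x hx
    obtain ⟨x, rfl⟩ := Submodule.mkQ_surjective _ x
    have h1 : Subalgebra.inclusion (hle i) x ∈ LinearMap.range (Algebra.linearMap A (C i)) := (Submodule.Quotient.mk_eq_zero _).1 hx
    obtain ⟨a, ha⟩ := h1
    rw [Submodule.mkQ_apply, Submodule.Quotient.mk_eq_zero]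
    refine ⟨a, ?_⟩
    have h2 := congrArg (fun z : C i => (z : B)) ha
    exact Subtype.ext h2
  -- the annihilators stabilize
  have hann : ∀ i, Module.annihilator A ((C i) ⧸ LinearMap.range (Algebra.linearMap A (C i))) ≤
      Module.annihilator A ((C (i + 1)) ⧸ LinearMap.range (Algebra.linearMap A (C (i + 1)))) := fun i =>
    LinearMap.annihilator_le_of_injective (t i) (ht i)
  obtain ⟨N, hN⟩ := monotone_stabilizes_iff_noetherian.mpr (inferInstance : IsNoetherian A A)
    ⟨fun i => Module.annihilator A ((C i) ⧸ LinearMap.range (Algebra.linearMap A (C i))), monotone_nat_of_le_succ hann⟩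
  simp only [OrderHom.coe_mk] at hN
  set J := Module.annihilator A ((C N) ⧸ LinearMap.range (Algebra.linearMap A (C N))) with hJ
  by_cases hJtop : J = ⊤
  · refine ⟨N, ?_⟩
    rw [eq_bot_iff]
    intro b hb
    have h1 : (1 : A) ∈ J := by rw [hJtop]; trivial
    rw [hJ, Module.mem_annihilator] at h1
    have h2 := h1 (Submodule.mkQ _ ⟨b, hb⟩)
    rw [one_smul, Submodule.mkQ_apply, Submodule.Quotient.mk_eq_zero] at h2
    obtain ⟨a, ha⟩ := h2
    exact ⟨a, congrArg Subtype.val ha⟩
  · exfalso
    obtain ⟨p, hp⟩ := Ideal.nonempty_minimalPrimes hJtop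
    have hpprime : p.IsPrime := hp.1.1
    let P : PrimeSpectrum A := ⟨p, hpprime⟩
    have hmin : ∀ q ∈ Module.support A ((C N) ⧸ LinearMap.range (Algebra.linearMap A (C N))), q ≤ P → q = P := by
      intro q hq hqP
      rw [Module.support_eq_zeroLocus] at hq
      apply PrimeSpectrum.ext
      exact le_antisymm hqP (hp.2 ⟨q.isPrime, hq⟩ hqP)
    let L : ℕ → ℕ∞ := fun i => Module.length (Localization.AtPrime P.asIdeal) (LocalizedModule P.asIdeal.primeCompl ((C i) ⧸ LinearMap.range (Algebra.linearMap A (C i))))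
    have hL : ∀ i, L i = L (i + 1) + Module.length (Localization.AtPrime P.asIdeal) (LocalizedModule P.asIdeal.primeCompl
        (((C i) ⧸ LinearMap.range (Algebra.linearMap A (C i))) ⧸ LinearMap.range (t i))) := fun i =>
      Groth.Agent.CycA.LocLen.length_loc_add P.asIdeal (t i) (LinearMap.range (t i)).mkQ (ht i) (Submodule.mkQ_surjective _)
        (LinearMap.exact_map_mkQ_range _)
    have hLanti : Antitone L := antitone_nat_of_succ_le fun i => by rw [hL i]; exact le_self_add
    have hLN : L N ≠ ⊤ := K733.LenInj.length_loc_ne_top hmin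
    -- choose a stage where the length is minimal
    obtain ⟨i, hiN, hi⟩ : ∃ i, N ≤ i ∧ L i ≤ L (i + 1) := by
      have hne : (Set.range fun k => L (N + k)).Nonempty := ⟨_, 0, rfl⟩
      obtain ⟨k, hk⟩ := WellFounded.min_mem wellFounded_lt _ hne
      refine ⟨N + k, Nat.le_add_right _ _, ?_⟩
      have h2 := WellFounded.not_lt_min wellFounded_lt (Set.range fun k => L (N + k)) (x := L (N + (k + 1))) ⟨k + 1, rfl⟩
      have h3 : L (N + k) = WellFounded.min wellFounded_lt _ hne := hk
      rw [← h3] at h2
      exact not_lt.1 h2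
    have hLi : L (i + 1) ≠ ⊤ := ne_top_of_le_ne_top hLN (hLanti (hiN.trans (Nat.le_succ i)))
    have hzero : Module.length (Localization.AtPrime P.asIdeal) (LocalizedModule P.asIdeal.primeCompl
        (((C i) ⧸ LinearMap.range (Algebra.linearMap A (C i))) ⧸ LinearMap.range (t i))) = 0 := by
      rw [hL i] at hi
      have h3 : L (i + 1) + Module.length (Localization.AtPrime P.asIdeal) (LocalizedModule P.asIdeal.primeCompl
        (((C i) ⧸ LinearMap.range (Algebra.linearMap A (C i))) ⧸ LinearMap.range (t i))) ≤ L (i + 1) + 0 := by rwa [add_zero]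
      exact le_antisymm ((ENat.add_le_add_iff_left hLi).1 h3) bot_le
    rw [Groth.Agent.CycA.LocLen.length_loc_eq_zero_iff, Module.notMem_support_iff'] at hzero
    have hkey : P ∉ Module.support A ((C i) ⧸ LinearMap.range (Algebra.linearMap A (C i))) := by
      apply notMem_support_of_eq
      intro b
      obtain ⟨s, hs, hsb⟩ := hzero (Submodule.mkQ _ (Submodule.mkQ _ b))
      refine ⟨s, hs, ?_⟩
      rw [← map_smul, Submodule.mkQ_apply, Submodule.Quotient.mk_eq_zero] at hsb
      obtain ⟨c, hc⟩ := hsb
      obtain ⟨c, rfl⟩ := Submodule.mkQ_surjective _ c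
      have h4 : Subalgebra.inclusion (hle i) c - s • b ∈ LinearMap.range (Algebra.linearMap A (C i)) := by
        rw [← Submodule.Quotient.eq]
        exact hc
      obtain ⟨a, ha⟩ := h4
      have h5 : (s • (b : B)) ∈ C (i + 1) := by
        have h6 : (s • (b : B)) = (c : B) - algebraMap A B a := by
          have := congrArg Subtype.val ha
          change algebraMap A B a = (c : B) - s • (b : B) at this
          rw [this]; abel
        rw [h6]
        exact Subalgebra.sub_mem _ c.2 (Subalgebra.algebraMap_mem _ _)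
      obtain ⟨h7, h8⟩ := (hstep i _).1 h5
      have h9 : (⟨s • (b : B), h7⟩ : C i) = s • b := rfl
      rw [h9] at h8
      rw [smul_sub, smul_tmul', ← tmul_smul, h8, sub_self]
    apply hkey
    rw [Module.support_eq_zeroLocus]
    change Module.annihilator A _ ≤ p
    rw [← hN i hiN]
    exact hp.1.2

end Groth.Agent.S5663
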