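import Groth.Statements.S5664
import Groth.Agent.FlatMor.K116.DatMain

set_option autoImplicit false
universe u
open CategoryTheory CategoryTheory.Limits AlgebraicGeometry
open FlatMor

namespace Groth.Agent.S5664

/-- Let lam : X ⟶ S and mu : Y ⟶ S be proper and of finite presentation, f : X ⟶ Y an S-morphism, F a
finitely presented O_X-module flat over S, and n an integer. For t : T ⟶ S write X_T, Y_T, f_T : X_T
⟶ Y_T, F_T for the base changes. Then the subfunctor of S 'making R^i f_{T*} F_T flat over T for
every i ≥ n' is represented by a surjective monomorphism of finite presentation: there are a scheme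
S' and a monomorphism ι : S' ⟶ S, locally of finite presentation, quasi-compact and surjective, such
that for every t : T ⟶ S the modules R^i (f_T)_* F_T, i ≥ n, are all flat over T if and only if t
factors through ι. Higher direct images are the prelude's Coh.Rpush (right derived functors of
f_{T*}), which needs the instance binder on injective resolutions. (The published statement adds
that these higher direct images then commute with base change over S' and that the same subfunctor
is the one making the functors M ↦ R^i f_*(F ⊗ lam^* M) exact; this row omits both.) -/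
theorem result {X Y S : Scheme.{u}} (lam : X ⟶ S) (mu : Y ⟶ S)
    [IsProper lam] [LocallyOfFinitePresentation lam] [IsProper mu] [LocallyOfFinitePresentation mu]
    (f : X ⟶ Y) (hf : f ≫ mu = lam) (F : X.Modules) (hF : CohB1.IsFP F) (hFfl : FlatMod.IsFlatOver lam F) (n : ℕ) :
    ∃ (S' : Scheme.{u}) (ι : S' ⟶ S), Mono ι ∧ LocallyOfFinitePresentation ι ∧ QuasiCompact ι ∧ Surjective ι ∧
      ∀ (T : Scheme.{u}) (t : T ⟶ S) (fT : pullback lam t ⟶ pullback mu t),
        fT ≫ pullback.fst mu t = pullback.fst lam t ≫ f → fT ≫ pullback.snd mu t = pullback.snd lam t →
        ∀ [HasInjectiveResolutions (pullback lam t).Modules],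
          ((∀ i : ℕ, n ≤ i → FlatMod.IsFlatOver (pullback.snd mu t)
              ((Coh.Rpush fT i).obj ((Scheme.Modules.pullback (pullback.fst lam t)).obj F))) ↔
            ∃ t' : T ⟶ S', t' ≫ ι = t) := by
  exact K116.Dat.exists_mono' lam mu f hf F hF hFfl n

end Groth.Agent.S5664
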