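import Groth.Statements.S5669
import Groth.Agent.S2927
import Groth.Agent.ProjDual.K271.StalkExt

set_option autoImplicit false
universe u
open CategoryTheory AlgebraicGeometry
open ProjDual

namespace Groth.Agent.S5669

/-- Let `k` be an algebraically closed field, `P = P^r_k`, `F` a coherent `O_P`-module and `i + j = r`.
Then `H^i(P, F(-m)) = 0` for all sufficiently large `m` if and only if `Ext^j_{O_{P,x}}(F_x,
O_{P,x}) = 0` for every point `x` of `P`. (The published criterion concerns a closed subset `X` of
`P` and a coherent sheaf on `X`, and is phrased as the vanishing of the sheaf `Ext^(r-i)_{O_P}(F,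
ω_P)`; this row states it for every coherent `O_P`-module, with the condition read at the stalks.) -/
theorem result (k : Type u) [Field k] [IsAlgClosed k] (r : ℕ) (F : (CohB1.ProjSpace r k).Modules) (hF : Coh.IsCoh F) (i j : ℕ) (hij : i + j = r) : (∃ m₀ : ℤ, ∀ m : ℤ, m₀ ≤ m → Subsingleton (Coh.HH (CohB1.ProjSpace r k) (Twist.twistBy (CohB1.polyGrading r k) F (-m)) i)) ↔ ∀ x : (CohB1.ProjSpace r k), Subsingleton (Abelian.Ext (ModuleCat.of ((CohB1.ProjSpace r k).presheaf.stalk x) (F.presheaf.stalk x)) (ModuleCat.of ((CohB1.ProjSpace r k).presheaf.stalk x) ((CohB1.ProjSpace r k).presheaf.stalk x)) j) := by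
  have hN : IsLocallyNoetherian (CohB1.ProjSpace r k) := Groth.Agent.Sga2.PnFinal.isLocallyNoetherian_projSpace
  have hC : CompactSpace (CohB1.ProjSpace r k) := (Groth.Agent.Sga5.ProjReg.isNoetherian_projSpace r k).toCompactSpace
  rw [Groth.Agent.S2927.result k r F hF i]
  have key : ∀ x : (CohB1.ProjSpace r k), IsClosed ({x} : Set (CohB1.ProjSpace r k)) →
      (Subsingleton (LocCoh.H (IsLocalRing.maximalIdeal ((CohB1.ProjSpace r k).presheaf.stalk x)) i
        (F.presheaf.stalk x)) ↔
      Subsingleton (Abelian.Ext (ModuleCat.of ((CohB1.ProjSpace r k).presheaf.stalk x) (F.presheaf.stalk x))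
        (ModuleCat.of ((CohB1.ProjSpace r k).presheaf.stalk x) ((CohB1.ProjSpace r k).presheaf.stalk x)) j)) := by
    intro x hx
    have hreg := Groth.Agent.Sga5.ProjReg.isRegularLocalRing_stalk r k x
    have hdim := Groth.Agent.Sga2.PnStalkDim.ringKrullDim_stalk k r x hx
    have hfin := Groth.Agent.Divis.StalkMod.finite_stalk hF x
    have h := Groth.Agent.Sga2.PnLCExt.subsingleton_lc_iff_ext hdim (F.presheaf.stalk x) j (by omega)
    rw [show r - j = i by omega] at h
    exact h
  constructor
  · intro h x
    obtain ⟨y, hy', hy⟩ := isClosed_closure.exists_closed_singleton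
      (S := closure ({x} : Set (CohB1.ProjSpace r k))) ⟨_, subset_closure rfl⟩
    have hxy : x ⤳ y := specializes_iff_mem_closure.2 hy'
    exact K271.StalkExt.subsingleton_of_specializes_ring F hF hxy j ((key y hy).1 (h y hy))
  · intro h x hx
    exact (key x hx).2 (h x)

end Groth.Agent.S5669
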