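import Groth.Statements.S5674
import Groth.Agent.ProjDual.K271.CodimVan

set_option autoImplicit false
universe u
open CategoryTheory CategoryTheory.Limits AlgebraicGeometry
open ProjDual

namespace Groth.Agent.S5674

/-- Let `k` be an algebraically closed field, `X` a nonsingular algebraic set of dimension `n` over `k`
— here: a quasi-compact `k`-scheme smooth of relative dimension `n` over `k` — `F` a coherent
`O_X`-module whose support has dimension at most `n - p`, and `L` a finite locally free
`O_X`-module. Then the (global) groups `Ext^i_{O_X}(F, L)` vanish for `i < p`. (All components of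
`X` have dimension `n`; for a nonsingular algebraic set with a component of smaller dimension the
conclusion fails. The Ext instance on the category of `O_X`-modules is taken as a hypothesis; it
holds since that category is Grothendieck abelian.) -/
theorem result (k : Type u) [Field k] [IsAlgClosed k] (n : ℕ) (X : Scheme.{u}) [X.Over (Spec (CommRingCat.of k))] [SmoothOfRelativeDimension n (X ↘ Spec (CommRingCat.of k))] [CompactSpace X] [HasExt.{u} X.Modules] (F : X.Modules) (hF : Coh.IsCoh F) (L : X.Modules) (hL : FlatMod.IsFinLocFree L) (p : ℕ) (hsupp : topologicalKrullDim ↥(CohB1.support F) + p ≤ n) (i : ℕ) (hi : i < p) : Subsingleton (Abelian.Ext F L i) := by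
  have hinj : HasInjectiveResolutions X.Modules := Groth.Agent.Dcoh.DerSch.hasInjectiveResolutions X
  by_cases h0 : IsEmpty (CohB1.support F)
  · have h1 : IsZero F := by
      rw [Groth.Agent.S1478.isZero_iff_stalk]
      intro x
      by_contra h
      exact h0.elim ⟨x, h⟩
    refine subsingleton_of_forall_eq 0 fun x => ?_
    rw [← Abelian.Ext.mk₀_id_comp x, h1.eq_of_src (𝟙 F) 0, Abelian.Ext.mk₀_zero, Abelian.Ext.zero_comp]
  · obtain ⟨d, hd, hdp⟩ : ∃ d : ℕ, topologicalKrullDim (CohB1.support F) ≤ (d : WithBot ℕ∞) ∧ d + p ≤ n := by
      rw [not_isEmpty_iff] at h0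
      have h1 : topologicalKrullDim (CohB1.support F) ≠ ⊥ := by
        intro h
        have h2 := (Order.krullDim_eq_bot_iff).1 h
        obtain ⟨x⟩ := h0
        exact h2.elim ⟨closure {x}, isIrreducible_singleton.closure, isClosed_closure⟩
      obtain ⟨m, hm⟩ := WithBot.ne_bot_iff_exists.1 h1
      rw [← hm] at hsupp ⊢
      have h2 : m + (p : ℕ∞) ≤ n := by exact_mod_cast hsupp
      have h3 : m ≠ ⊤ := by
        rintro rfl
        rw [top_add, top_le_iff] at h2
        exact ENat.natCast_ne_top n h2
      obtain ⟨d, rfl⟩ := ENat.ne_top_iff_exists.1 h3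
      exact ⟨d, le_rfl, by exact_mod_cast h2⟩
    exact K271.ExtGlob.subsingleton_ext F L p (fun q hq =>
      K271.CodimVan.isZero_rightDerived n (X ↘ Spec (CommRingCat.of k)) F hF L hL d hd q (by omega)) i hi

end Groth.Agent.S5674
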