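import Groth.Statements.S5675
import Groth.Agent.Dual.K173.SmoothQuot
import Groth.Agent.Dual.K173.ExtTopReg
import Groth.Agent.Sga2.RegExt2

set_option autoImplicit false
universe u
open CategoryTheory
open Dual

namespace Groth.Agent.S5675

/-- Let `k` be a perfect field, `A` a regular affine `k`-algebra of dimension `n` — here: `A` finitely
generated and smooth over `k` with `Ω_{A/k}` of rank `n` at every prime — and `xs = (x_1, …, x_p)`,
`p ≤ n`, a sequence with each `x_i` a non-zero-divisor on `A/(x_1, …, x_{i-1})`, generating an ideal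
`J` such that `A/J` is again a regular (smooth) affine `k`-algebra. Write `Ω^m` for `m`-th exterior
powers of Kähler differentials. Then `Ext^p_A(Ω^(n-p)(A/J), Ω^n(A))` is isomorphic to `A/J` as an
`A`-module. (Existence of an `A`-linear isomorphism only; the published one is canonical and
compatible with localisation, its unit being the fundamental class of `J` in `A`.) -/
theorem result (k : Type u) [Field k] [PerfectField k] (A : Type u) [CommRing A] [Algebra k A] [Algebra.FiniteType k A] [Algebra.Smooth k A] (n : ℕ) (hn : ∀ q : PrimeSpectrum A, Module.rankAtStalk (Ω[A⁄k]) q = n) (xs : List A) (hreg : RingTheory.Sequence.IsWeaklyRegular A xs) (J : Ideal A) (hJ : Ideal.ofList xs = J) [Algebra.Smooth k (A ⧸ J)] (p : ℕ) (hp : xs.length = p) (hpn : p ≤ n) : Nonempty (Abelian.Ext (ModuleCat.of A ↥((⋀[A ⧸ J]^(n - p) (Ω[(A ⧸ J)⁄k])).restrictScalars A)) (ModuleCat.of A ↥(⋀[A]^n (Ω[A⁄k]))) p ≃ₗ[A] (A ⧸ J)) := by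
  obtain ⟨x, rfl⟩ : ∃ x : Fin p → A, xs = List.ofFn x := by
    subst hp
    exact ⟨xs.get, (List.ofFn_get xs).symm⟩
  have hJ' : J = Ideal.span (Set.range x) := by
    rw [← hJ, Ideal.ofList]
    congr 1
    ext a
    simp
  subst hJ'
  obtain ⟨b, -⟩ := Groth.Agent.S12482.result A p x hreg
  have hproj : Module.Projective A ↥(⋀[A]^n (Ω[A⁄k])) := inferInstance
  let L : Type u := ↥(⋀[A ⧸ Ideal.span (Set.range x)]^(n - p) (Ω[(A ⧸ Ideal.span (Set.range x))⁄k]))
  have hsurj : Function.Surjective (algebraMap A (A ⧸ Ideal.span (Set.range x))) :=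
    Ideal.Quotient.mk_surjective
  have hq : ∀ q : PrimeSpectrum (A ⧸ Ideal.span (Set.range x)), Module.rankAtStalk L q = 1 := by
    intro q
    have h1 := K173.SmoothQuot.rank_quot (k := k) n p hn b q
    rw [K173.ExtPow.rankAtStalk_ext, show n - p = Module.rankAtStalk
      (Ω[(A ⧸ Ideal.span (Set.range x))⁄k]) q by omega, Nat.choose_self]
  obtain ⟨e1⟩ := K173.SmoothQuot.nonempty_det_quot (k := k) n p hpn hn b
  obtain ⟨e2⟩ := K173.ExtPow.nonempty_end (B := A ⧸ Ideal.span (Set.range x)) (L := L) hq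
  let N : Type u := ↥((⋀[A ⧸ Ideal.span (Set.range x)]^(n - p)
    (Ω[(A ⧸ Ideal.span (Set.range x))⁄k])).restrictScalars A)
  let M : Type u := ↥(⋀[A]^n (Ω[A⁄k]))
  let eN : N ≃ₗ[A] L := Submodule.restrictScalarsEquiv A _ _ _ |>.restrictScalars A
  have hN : ∀ y ∈ List.ofFn x, y ∈ Module.annihilator A (ModuleCat.of A N) := by
    intro y hy
    rw [Module.mem_annihilator]
    intro m
    apply eN.injective
    have hy' : y ∈ Ideal.span (Set.range x) := by
      rw [← hJ]
      exact Ideal.subset_span hy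
    rw [map_smul, map_zero, ← algebraMap_smul (A ⧸ Ideal.span (Set.range x)) y (eN m),
      show algebraMap A (A ⧸ Ideal.span (Set.range x)) y = 0 from Ideal.Quotient.eq_zero_iff_mem.2 hy',
      zero_smul]
  have hregM : RingTheory.Sequence.IsWeaklyRegular (ModuleCat.of A M) (List.ofFn x) := by
    have h1 := RingTheory.Sequence.IsWeaklyRegular.isWeaklyRegular_lTensor (M₂ := M) hreg
    exact ((TensorProduct.rid A M).isWeaklyRegular_congr _).1 h1
  obtain ⟨e3⟩ := K173.ExtTopReg.nonempty_ext_equiv (ModuleCat.of A N) (List.ofFn x)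
    (ModuleCat.of A M) hN hregM
  rw [List.length_ofFn] at e3
  have e4 : (M ⧸ (Ideal.ofList (List.ofFn x) • (⊤ : Submodule A M))) ≃ₗ[A] L :=
    (Submodule.quotEquivOfEq _ _ (by rw [hJ])).trans
      ((TensorProduct.quotTensorEquivQuotSMul M (Ideal.span (Set.range x))).symm.trans
        (e1.restrictScalars A))
  have e5 := ((Abelian.Ext.linearEquiv₀ (R := A) (X := ModuleCat.of A N)
    (Y := ModuleCat.of A (M ⧸ (Ideal.ofList (List.ofFn x) • (⊤ : Submodule A M))))).trans
      ModuleCat.homLinearEquiv).trans (LinearEquiv.arrowCongr eN e4)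
  exact ⟨e3.symm.trans (e5.trans ((LinearMap.extendScalarsOfSurjectiveEquiv hsurj).trans
    (e2.restrictScalars A)))⟩

end Groth.Agent.S5675
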