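import Groth.Statements.S5680
import Groth.Agent.FGA.K275.Root
import Groth.Agent.CohqB.AlgThick

set_option autoImplicit false
universe u
open CategoryTheory CategoryTheory.Limits AlgebraicGeometry
open FGA

namespace Groth.Agent.S5680

/-- Let A be an artinian local ring with maximal ideal m and ν ≥ 1 an integer with m^(ν+1) = 0; let X be
a scheme proper and flat over Spec A, n a natural number whose image in the residue field of A is
nonzero, L an invertible module on X and L' an invertible module on the closed subscheme X ×_A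
Spec(A/m^ν) whose n-th tensor power is isomorphic to the pullback of L. Then there is an invertible
module M on X whose n-th tensor power is isomorphic to L (existence of an isomorphism). -/
theorem result (A : Type u) [CommRing A] [IsArtinianRing A] [IsLocalRing A]
    (ν : ℕ) (hν : 1 ≤ ν) (hm : IsLocalRing.maximalIdeal A ^ (ν + 1) = ⊥)
    (X : Scheme.{u}) (f : X ⟶ Spec (CommRingCat.of A)) [IsProper f] [Flat f]
    (n : ℕ) (hn : (n : IsLocalRing.ResidueField A) ≠ 0)
    (L : X.Modules) (hL : PicF.IsInvertible L)
    (L' : (pullback f (Spec.map (CommRingCat.ofHom (Ideal.Quotient.mk (IsLocalRing.maximalIdeal A ^ ν))))).Modules)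
    (hL' : PicF.IsInvertible L')
    (hroot : Nonempty (CohB1.tensorPow L' n ≅
      (Scheme.Modules.pullback (pullback.fst f (Spec.map (CommRingCat.ofHom (Ideal.Quotient.mk (IsLocalRing.maximalIdeal A ^ ν)))))).obj L)) :
    ∃ M : X.Modules, PicF.IsInvertible M ∧ Nonempty (CohB1.tensorPow M n ≅ L) := by
  have sq := IsPullback.of_hasPullback f
    (Spec.map (CommRingCat.ofHom (Ideal.Quotient.mk (IsLocalRing.maximalIdeal A ^ ν))))
  have hcl := CohqB.AlgThick.isClosedImmersion sq
  have hI : K275.Root.SqZ (pullback.fst f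
      (Spec.map (CommRingCat.ofHom (Ideal.Quotient.mk (IsLocalRing.maximalIdeal A ^ ν))))) := by
    intro V hV a b ha hb
    have hker := CohqB.AlgThick.ker_app sq hV
    have ha' : a ∈ (IsLocalRing.maximalIdeal A ^ ν).map (CohqB.AlgThick.aff f V) := by
      rw [← hker]; exact ha
    have hb' : b ∈ (IsLocalRing.maximalIdeal A ^ ν).map (CohqB.AlgThick.aff f V) := by
      rw [← hker]; exact hb
    have hab := Ideal.mul_mem_mul ha' hb'
    rw [← Ideal.map_mul, ← pow_add] at hab
    have hle : IsLocalRing.maximalIdeal A ^ (ν + ν) ≤ ⊥ := by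
      rw [← hm]
      exact Ideal.pow_le_pow_right (by omega)
    have h0 := Ideal.map_mono (f := CohqB.AlgThick.aff f V) hle hab
    rwa [Ideal.map_bot, Ideal.mem_bot] at h0
  obtain ⟨k, rfl⟩ : ∃ k, n = k + 1 := by
    cases n with
    | zero => exact absurd Nat.cast_zero hn
    | succ k => exact ⟨k, rfl⟩
  have hnA : IsUnit ((k + 1 : ℕ) : A) := by
    by_contra h
    apply hn
    have h' := (IsLocalRing.residue_eq_zero_iff ((k + 1 : ℕ) : A)).mpr ((IsLocalRing.mem_maximalIdeal _).mpr h)
    rwa [map_natCast] at h'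
  have hnX : IsUnit ((k + 1 : ℕ) : Γ(X, ⊤)) := by
    have := hnA.map (CohqB.AlgThick.aff f ⊤)
    rwa [map_natCast] at this
  obtain ⟨φ⟩ := hroot
  obtain ⟨M, h1, h2, -⟩ := K275.Root.exists_invertible_root hI k hnX L hL L' hL' φ
  exact ⟨M, h1, h2⟩

end Groth.Agent.S5680
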