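import Groth.Statements.S5684
import Groth.Agent.FGA.K275.PushBC
import Groth.Agent.S3223

set_option autoImplicit false
universe u
open CategoryTheory CategoryTheory.Limits AlgebraicGeometry
open FGA

namespace Groth.Agent.S5684

/-- Let f : X ⟶ S be quasi-compact and separated with the induced maps from sections of the structure
sheaf of S to sections of the structure sheaf of X bijective over every open of S, and let g : S' ⟶
S be flat, surjective and quasi-compact. If L is an invertible module on X whose pullback to X ×_S
S' is isomorphic to the pullback along the second projection of some invertible module on S', then L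
is isomorphic to the pullback along f of some invertible module on S. -/
theorem result {X S S' : Scheme.{u}} (f : X ⟶ S)
    [QuasiCompact f] [IsSeparated f] (hf : ∀ U : S.Opens, Function.Bijective (f.app U))
    (g : S' ⟶ S) [Flat g] [Surjective g] [QuasiCompact g]
    (L : X.Modules) (hL : PicF.IsInvertible L)
    (hdesc : ∃ N' : S'.Modules, PicF.IsInvertible N' ∧
      Nonempty ((Scheme.Modules.pullback (pullback.fst f g)).obj L ≅ (Scheme.Modules.pullback (pullback.snd f g)).obj N')) :
    ∃ N : S.Modules, PicF.IsInvertible N ∧ Nonempty (L ≅ (Scheme.Modules.pullback f).obj N) := by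
  have hfq : QuasiSeparated f := inferInstance
  have H : IsPullback (pullback.fst f g) (pullback.snd f g) f g := IsPullback.of_hasPullback f g
  obtain ⟨N', hN', ⟨φ⟩⟩ := hdesc
  have hinv := K275.PushBC.isInvertible_push H hf L hL N' hN' φ
  have key : ∀ s : S, ∃ (W : S.Opens) (m : Γ(L, f ⁻¹ᵁ W)), s ∈ W ∧ Groth.Agent.Fdesc.LocGen.IsGen m := by
    intro s
    obtain ⟨W₀, m, hs, hm⟩ := (Groth.Agent.Fdesc.LocGen.isInvertible_iff _).mp hinv s
    obtain ⟨W, hW, hsW, hWW₀⟩ := TopologicalSpace.Opens.isBasis_iff_nbhd.1 S.isBasis_affineOpens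
      (U := W₀) (x := s) hs
    exact ⟨W, _, hsW, K275.PushBC.isGen_of_isGen_push H hf L hL N' hN' φ hW _ (hm.res hWW₀)⟩
  have hc : IsIso ((Scheme.Modules.pullbackPushforwardAdjunction f).counit.app L) := by
    refine Fga.CounitRestrict.isIso_counit_of_locally_trivial _ hf L fun t => ?_
    obtain ⟨W, m, ht, hm⟩ := key t
    exact ⟨W, ht, S3223.trivial_of_isGen hm⟩
  exact ⟨(Scheme.Modules.pushforward f).obj L, hinv,
    ⟨(@asIso _ _ _ _ ((Scheme.Modules.pullbackPushforwardAdjunction f).counit.app L) hc).symm⟩⟩

end Groth.Agent.S5684
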