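import Groth.Statements.S5685
import Groth.Agent.S4054
import Groth.Agent.S3210
import Groth.Agent.FGA.K275.TorsSurj
import Groth.Agent.Sga7.H274.ValExt

set_option autoImplicit false
universe u
open CategoryTheory CategoryTheory.Limits MonoidalCategory CartesianMonoidalCategory MonObj GrpObj AlgebraicGeometry
open FGA

namespace Groth.Agent.S5685

/-- The hard direction of the Neron–Ogg–Shafarevich criterion (the statement of S4054). -/
def NOS : Prop :=
  ∀ (R K Ω : Type u) [CommRing R] [IsDomain R] [IsDiscreteValuationRing R] [Field K]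
    [Algebra R K] [IsFractionRing R K] [Field Ω] [Algebra K Ω] [IsSepClosure K Ω]
    (W : ValuationSubring Ω) (_ : SGA7.LiesOver K R W)
    (ℓ : ℕ) (_ : ℓ.Prime) (_ : (ℓ : IsLocalRing.ResidueField R) ≠ 0)
    (A : Over (Spec (CommRingCat.of K))) [GrpObj A] [IsProper A.hom] [GeometricallyIntegral A.hom]
    (_ : ∀ ν : ℕ, SGA7.InertiaTrivialOn W A (ℓ ^ ν)), SGA7.HasGoodReduction R K A

theorem main (hNOS : NOS.{u}) (R K : Type u) [CommRing R] [IsDomain R]
    [IsDiscreteValuationRing R] [Field K] [Algebra R K] [IsFractionRing R K]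
    (A : Over (Spec (CommRingCat.of R))) [GrpObj A] [IsProper A.hom] [Smooth A.hom]
    (hconn : ∀ (k' : Type u) [Field k'] (t : Spec (CommRingCat.of k') ⟶ Spec (CommRingCat.of R)),
      ConnectedSpace ↥(pullback A.hom t))
    (B' : Over (Spec (CommRingCat.of K))) [GrpObj B'] [IsProper B'.hom] [GeometricallyIntegral B'.hom]
    (u : (SGA7.genFib R K).obj A ⟶ B') [IsMonHom u] (hu : AlgebraicGeometry.Surjective u.left) :
    SGA7.HasGoodReduction R K B' := by
  let t : Spec (CommRingCat.of K) ⟶ Spec (CommRingCat.of R) := Spec.map (CommRingCat.ofHom (algebraMap R K))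
  let G : Over (Spec (CommRingCat.of K)) := (SGA7.genFib R K).obj A
  have i1 : IsProper G.hom := inferInstanceAs (IsProper (pullback.snd A.hom t))
  have i2 : Smooth G.hom := inferInstanceAs (Smooth (pullback.snd A.hom t))
  have i3 : ConnectedSpace G.left := hconn K t
  have i4 : GeometricallyIntegral G.hom := Groth.Agent.Sga7.H620.TorsCount.geometricallyIntegral_of_smooth_connected G
  have i5 : IsCommMonObj G := isCommMonObj_of_isProper_of_geometricallyIntegral G
  -- choose a prime
  obtain ⟨l, hl, hlR⟩ : ∃ l : ℕ, l.Prime ∧ (l : IsLocalRing.ResidueField R) ≠ 0 := by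
    by_cases h2 : ((2 : ℕ) : IsLocalRing.ResidueField R) = 0
    · refine ⟨3, Nat.prime_three, fun h3 => one_ne_zero (α := IsLocalRing.ResidueField R) ?_⟩
      have h4 : (1 : IsLocalRing.ResidueField R) = ((3 : ℕ) : IsLocalRing.ResidueField R) -
          ((2 : ℕ) : IsLocalRing.ResidueField R) := by push_cast; ring
      rw [h4, h2, h3, sub_zero]
    · exact ⟨2, Nat.prime_two, h2⟩
  have hlu : IsUnit (l : R) := by
    by_contra hcon
    apply hlR
    have : IsLocalRing.residue R (l : R) = 0 := (IsLocalRing.residue_eq_zero_iff _).2 hcon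
    rwa [map_natCast] at this
  have hlK : (l : K) ≠ 0 := by
    have h1 := hlu.map (algebraMap R K)
    rw [map_natCast] at h1
    exact h1.ne_zero
  let Ω := SeparableClosure K
  have : IsSepClosed Ω := IsSepClosure.sep_closed K
  obtain ⟨W, hW⟩ := Groth.Agent.Sga7.H274.ValExt.exists_liesOver K R Ω
  refine hNOS R K Ω W hW l hl hlR B' fun ν σ hσ x hx => ?_
  obtain ⟨m, y, hy, hyx⟩ := K275.TorsSurj.exists_torsion_lift_pts (K := K) (Ω := Ω) u hu l hl hlK ν x hx
  have hfix := Groth.Agent.S3210.result R K Ω W hW l hl hlR G
    ⟨A, inferInstance, inferInstance, inferInstance, hconn, ⟨Iso.refl _⟩⟩ m σ hσ y hy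
  rw [← hyx]
  change SGA7.specAut σ ≫ y ≫ u = y ≫ u
  rw [← Category.assoc]
  exact congrArg (· ≫ u) hfix

/-- Let R be a discrete valuation ring with fraction field K and A an abelian scheme over Spec R (a
group scheme proper and smooth over R with connected geometric fibres). Let B' be an abelian variety
over K (a group scheme proper and geometrically integral over K) and u a homomorphism of K-group
schemes from the generic fibre of A to B' whose underlying map is surjective (so that B' is the
quotient of the generic fibre of A by a subgroup scheme). Then B' has good reduction at R: it is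
isomorphic, as a K-group scheme, to the generic fibre of an abelian scheme over Spec R. (The
published statement is phrased for B' isogenous to a quotient of the generic fibre, which for
abelian varieties is the same as being a quotient.) -/
theorem result (R K : Type u) [CommRing R] [IsDomain R]
    [IsDiscreteValuationRing R] [Field K] [Algebra R K] [IsFractionRing R K]
    (A : Over (Spec (CommRingCat.of R))) [GrpObj A] [IsProper A.hom] [Smooth A.hom]
    (hconn : ∀ (k' : Type u) [Field k'] (t : Spec (CommRingCat.of k') ⟶ Spec (CommRingCat.of R)),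
      ConnectedSpace ↥(pullback A.hom t))
    (B' : Over (Spec (CommRingCat.of K))) [GrpObj B'] [IsProper B'.hom] [GeometricallyIntegral B'.hom]
    (u : (SGA7.genFib R K).obj A ⟶ B') [IsMonHom u] (hu : AlgebraicGeometry.Surjective u.left) :
    SGA7.HasGoodReduction R K B' :=
  main (fun R K Ω _ _ _ _ _ _ _ _ _ W hW l hl hlR A _ _ _ h => Groth.Agent.S4054.result R K Ω W hW l hl hlR A h)
    R K A hconn B' u hu

end Groth.Agent.S5685
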