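import Groth.Statements.S5686
import Groth.Agent.FGA.K371.PicPowMain

set_option autoImplicit false
universe u
open CategoryTheory CategoryTheory.Limits AlgebraicGeometry
open FGA

namespace Groth.Agent.S5686

/-- Let S be a locally Noetherian scheme, f : X ⟶ S proper and flat, and suppose the relative Picard
functor of X over S (sheafified for the etale topology) is represented by an S-scheme P, locally of
finite type over S, through the family of maps φ. Let n be a natural number and m : P ⟶ P an
S-morphism such that for every S-scheme T and every invertible module L on X ×_S T, φ applied to the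
class of the n-th tensor power of L equals φ applied to the class of L followed by m (so m is the
n-th power map of the Picard scheme). Then m is etale at all points of P whose residue
characteristic is prime to n: the restriction of m to the open subset of P where n is invertible is
etale. (Local finite type of P over S is recorded as a hypothesis.) -/
theorem result {X S : Scheme.{u}} [IsLocallyNoetherian S] (f : X ⟶ S) [IsProper f] [Flat f]
    (P : Over S) [LocallyOfFiniteType P.hom] (φ : ∀ T : Over S, PicF.Cl (PicF.XT f T) → (T ⟶ P))
    (hP : PicRel.IsRelPic f P φ) (n : ℕ) (m : P ⟶ P)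
    (hm : ∀ (T : Over S) (L : (PicF.XT f T).Modules), PicF.IsInvertible L →
      φ T (PicF.cl (CohB1.tensorPow L n)) = φ T (PicF.cl L) ≫ m) :
    Etale ((P.left.basicOpen (n : Γ(P.left, ⊤))).ι ≫ m.left) := by
  have hm' : ∀ (T : Over S) (c : Groth.Agent.Grpsch.PicGrp.Pic (PicF.XT f T)),
      Groth.Agent.Pic13.H965.RelGrp.cm φ (c ^ n) = Groth.Agent.Pic13.H965.RelGrp.cm φ c ≫ m := by
    intro T c
    induction c using Groth.Agent.Grpsch.PicGrp.ind with | _ L hL => ?_
    rw [← Groth.Agent.Grpsch.PicGrp.mk_tensorPow]
    exact hm T L hL
  have hn : IsUnit (n : Γ((P.left.basicOpen (n : Γ(P.left, ⊤))).toScheme, ⊤)) := by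
    have h1 := (P.left.toRingedSpace.isUnit_res_basicOpen (n : Γ(P.left, ⊤))).map
      (P.left.basicOpen (n : Γ(P.left, ⊤))).topIso.inv.hom
    rw [map_natCast] at h1
    exact (map_natCast (P.left.basicOpen (n : Γ(P.left, ⊤))).topIso.inv.hom n) ▸ h1
  let g : Over.mk ((P.left.basicOpen (n : Γ(P.left, ⊤))).ι ≫ P.hom) ⟶ P :=
    Over.homMk (P.left.basicOpen (n : Γ(P.left, ⊤))).ι rfl
  have hg : Etale g.left := inferInstanceAs (Etale (P.left.basicOpen (n : Γ(P.left, ⊤))).ι)
  exact K371.PicPow.etale_comp hP m hm' g hg hn

end Groth.Agent.S5686
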