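import Groth.Statements.S5689
import Groth.Agent.FGA.K283.RepLocInt

set_option autoImplicit false
universe u
open CategoryTheory CategoryTheory.Limits AlgebraicGeometry
open FGA

namespace Groth.Agent.S5689

/-- Let S be a locally Noetherian scheme and X a closed subscheme of projective n-space over S which is
flat over S and whose geometric fibres are locally integral: for every algebraically closed field Ω
and every Ω-point of S, all local rings of the fibre are integral domains (for instance, a
projective flat morphism with geometrically normal fibres). Then the relative Picard functor of X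
over S, sheafified for the etale topology, is representable by an S-scheme. -/
theorem result (S X : Scheme.{u})
    [IsLocallyNoetherian S] (n : ℕ) (i : X ⟶ CohB1.ProjSpaceOver n S) [IsClosedImmersion i]
    [Flat (i ≫ CohB1.ProjSpaceOver.toBase n S)]
    (hloc : ∀ (Ω : Type u) [Field Ω] [IsAlgClosed Ω] (s : Spec (CommRingCat.of Ω) ⟶ S)
      (x : ↥(pullback (i ≫ CohB1.ProjSpaceOver.toBase n S) s)),
      IsDomain ((pullback (i ≫ CohB1.ProjSpaceOver.toBase n S) s).presheaf.stalk x)) :
    PicRel.Representable (i ≫ CohB1.ProjSpaceOver.toBase n S) := by
  obtain ⟨P, hP, -⟩ := K283.RepLocInt.exists_representedBy n i hloc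
  exact ⟨P, hP⟩

end Groth.Agent.S5689
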