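import Groth.Statements.S5691
import Mathlib.CategoryTheory.Limits.Elements
import Mathlib.CategoryTheory.Limits.Types.Filtered
import Mathlib.CategoryTheory.Limits.Types.Equalizers
import Mathlib.CategoryTheory.ObjectProperty.FullSubcategory

set_option autoImplicit false
universe u
open CategoryTheory CategoryTheory.Limits
open FGA

namespace Groth.Agent.S5691

open Opposite

variable {C : Type u} [SmallCategory C] (F : C ⥤ Type u)

/-- Minimal elements of `F`: a point `ξ ∈ F X` which does not come from a proper subobject. -/
def IsMin : ObjectProperty F.Elements := fun p =>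
  ∀ ⦃Z : C⦄ (i : Z ⟶ p.1) [Mono i] (z : F.obj Z), F.map i z = p.2 → IsIso i

variable {F}

theorem eq_of_map_eq [HasFiniteLimits C] [PreservesFiniteLimits F] {p : F.Elements}
    (hp : IsMin F p) {Y : C} (f g : p.1 ⟶ Y) (h : F.map f p.2 = F.map g p.2) : f = g := by
  have w : F.map (equalizer.ι f g) ≫ F.map f = F.map (equalizer.ι f g) ≫ F.map g := by
    rw [← F.map_comp, equalizer.condition, F.map_comp]
  have hl : IsLimit (Fork.ofι (F.map (equalizer.ι f g)) w) :=
    isLimitForkMapOfIsLimit F _ (equalizerIsEqualizer f g)
  obtain ⟨z, hz, -⟩ := Types.unique_of_type_equalizer _ _ hl p.2 h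
  have := hp (equalizer.ι f g) z hz
  exact eq_of_epi_equalizer

theorem exists_min (hart : ∀ X : C, IsArtinianObject X) (p : F.Elements) :
    ∃ q : F.Elements, IsMin F q ∧ Nonempty (q ⟶ p) := by
  obtain ⟨X, ξ⟩ := p
  have := hart X
  let s : Set (Subobject X) := {A | ∃ z : F.obj (A : C), F.map A.arrow z = ξ}
  have hs : s.Nonempty := by
    refine ⟨⊤, F.map (inv (⊤ : Subobject X).arrow) ξ, ?_⟩
    rw [← Functor.map_comp_apply, IsIso.inv_hom_id, Functor.map_id_apply]
  obtain ⟨A, ⟨z, hz⟩, hmin⟩ := WellFounded.has_min (wellFounded_lt (α := Subobject X)) s hs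
  refine ⟨⟨(A : C), z⟩, ?_, ⟨CategoryOfElements.homMk _ _ A.arrow hz⟩⟩
  intro Z i _ y hy
  change Z ⟶ (A : C) at i
  change F.map i y = z at hy
  have h1 : Subobject.mk (i ≫ A.arrow) ≤ A := by
    exact Subobject.mk_le_of_comm i rfl
  have h2 : Subobject.mk (i ≫ A.arrow) ∈ s := by
    refine ⟨F.map (Subobject.underlyingIso (i ≫ A.arrow)).inv y, ?_⟩
    rw [← Functor.map_comp_apply, Subobject.underlyingIso_arrow,
      Functor.map_comp_apply, hy, hz]
  have h3 : Subobject.mk (i ≫ A.arrow) = A := by
    rcases h1.lt_or_eq with h | h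
    · exact absurd h (hmin _ h2)
    · exact h
  have h4 : IsIso (Subobject.ofMkLE (i ≫ A.arrow) A h1) := by
    have : Subobject.ofMkLE (i ≫ A.arrow) A h1 =
      (Subobject.isoOfMkEq (i ≫ A.arrow) A h3).hom := by
      rw [← cancel_mono A.arrow]
      simp
    rw [this]
    infer_instance
  have h5 : Subobject.ofMkLE (i ≫ A.arrow) A h1 = i := by
    rw [← cancel_mono A.arrow]
    simp
  rwa [h5] at h4

/-- Let C be a small category with finite limits all of whose objects are artinian (the subobjects of
each object satisfy the descending chain condition), and let F be a set-valued functor on C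
preserving finite limits. Then F is strictly pro-representable: there are a small cofiltered
category J and a diagram D : J ⥤ C all of whose transition morphisms are epimorphisms such that F is
isomorphic to the colimit of the corepresentable functors Hom(D j, -). -/
theorem result {C : Type u} [SmallCategory C]
    [HasFiniteLimits C] (hart : ∀ X : C, IsArtinianObject X) (F : C ⥤ Type u) [PreservesFiniteLimits F] :
    ∃ (J : Type u) (_ : SmallCategory J) (_ : IsCofiltered J) (D : J ⥤ C),
      (∀ ⦃j j' : J⦄ (a : j ⟶ j'), Epi (D.map a)) ∧ Nonempty (F ≅ colimit (D.op ⋙ coyoneda)) := by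
  have hE : IsCofiltered F.Elements := by
    have : HasFiniteLimits F.Elements := ⟨fun J _ _ => inferInstance⟩
    exact IsCofiltered.of_hasFiniteLimits _
  let J := (IsMin F).FullSubcategory
  have hdom (p : F.Elements) : ∃ j : J, Nonempty (j.obj ⟶ p) := by
    obtain ⟨q, hq, h⟩ := exists_min hart p
    exact ⟨⟨q, hq⟩, h⟩
  have hcof : IsCofiltered J :=
    { nonempty := by
        obtain ⟨p⟩ := hE.nonempty
        exact ⟨(hdom p).choose⟩
      cone_objs := by
        intro a b
        obtain ⟨c, f, g, -⟩ := IsCofilteredOrEmpty.cone_objs a.obj b.obj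
        obtain ⟨j, ⟨h⟩⟩ := hdom c
        exact ⟨j, ObjectProperty.homMk (h ≫ f), ObjectProperty.homMk (h ≫ g), trivial⟩
      cone_maps := by
        intro a b f g
        refine ⟨a, 𝟙 a, ?_⟩
        rw [Category.id_comp, Category.id_comp]
        ext
        exact eq_of_map_eq a.property _ _ (f.hom.2.trans g.hom.2.symm) }
  let D : J ⥤ C := (IsMin F).ι ⋙ CategoryOfElements.π F
  let el (j : J) : F.obj (D.obj j) := j.obj.2
  have hel {j j' : J} (a : j ⟶ j') : F.map (D.map a) (el j) = el j' := a.hom.2
  have huniq (j : J) {Y : C} (f g : D.obj j ⟶ Y) (h : F.map f (el j) = F.map g (el j)) : f = g :=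
    eq_of_map_eq j.property f g h
  refine ⟨J, inferInstance, hcof, D, ?_, ?_⟩
  · intro j j' a
    refine ⟨fun {Y} v w h => ?_⟩
    refine huniq j' _ _ ?_
    rw [← hel a, ← Functor.map_comp_apply, ← Functor.map_comp_apply, h]
  · let c : Cocone (D.op ⋙ coyoneda) :=
      { pt := F
        ι := { app := fun j => coyonedaEquiv.symm (el j.unop)
               naturality := fun j j' a => by
                 apply coyonedaEquiv.injective
                 have this := coyonedaEquiv_naturality (coyonedaEquiv.symm (el j'.unop)) (D.map a.unop)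
                 rw [Equiv.apply_symm_apply, hel] at this
                 dsimp
                 rw [Category.comp_id, Equiv.apply_symm_apply]
                 exact this.symm } }
    have hc : IsColimit c := by
      refine evaluationJointlyReflectsColimits _ fun X => ?_
      refine Types.FilteredColimit.isColimitOf _ _ ?_ ?_
      · intro x
        obtain ⟨j, ⟨h⟩⟩ := hdom ⟨X, x⟩
        refine ⟨op j, h.1, ?_⟩
        exact h.2.symm
      · intro j k u v huv
        obtain ⟨l, a, b, -⟩ := IsCofilteredOrEmpty.cone_objs j.unop k.unop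
        refine ⟨op l, a.op, b.op, ?_⟩
        have huv' : F.map (u : D.obj j.unop ⟶ X) (el j.unop) = F.map (v : D.obj k.unop ⟶ X) (el k.unop) := huv
        have key : D.map a ≫ (u : D.obj j.unop ⟶ X) = D.map b ≫ (v : D.obj k.unop ⟶ X) := by
          refine huniq l _ _ ?_
          rw [Functor.map_comp_apply, Functor.map_comp_apply, hel, hel, huv']
        exact key
    exact ⟨hc.coconePointUniqueUpToIso (colimit.isColimit _)⟩

end Groth.Agent.S5691
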