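import Groth.Statements.S5693
import Groth.Agent.FGA.K276.Neutral5

set_option autoImplicit false
universe u
open CategoryTheory CategoryTheory.Limits MonoidalCategory CartesianMonoidalCategory MonObj GrpObj AlgebraicGeometry
open FGA

namespace Groth.Agent.S5693

/-- Let S be a locally Noetherian scheme, G a commutative group scheme locally of finite type over S and
n ≥ 1 an integer. The set of points x of G for which n is the least positive integer such that the
n-th power morphism sends x into the union of the connected components of the identity of the fibres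
is locally constructible in G (the order function on the torsion-component set is locally
constructible). -/
theorem result (S : Scheme.{u}) [IsLocallyNoetherian S] (G : Over S) [GrpObj G]
    [IsCommMonObj G] [LocallyOfFiniteType G.hom] (n : ℕ) (hn : 0 < n) :
    Topology.IsLocallyConstructible {x : ↥G.left | ((𝟙 G : G ⟶ G) ^ n).left.base x ∈ SGA3x.neutralSet G ∧
      ∀ d : ℕ, 0 < d → d < n → ((𝟙 G : G ⟶ G) ^ d).left.base x ∉ SGA3x.neutralSet G} := by
  have h : {x : ↥G.left | ((𝟙 G : G ⟶ G) ^ n).left.base x ∈ SGA3x.neutralSet G ∧
      ∀ d : ℕ, 0 < d → d < n → ((𝟙 G : G ⟶ G) ^ d).left.base x ∉ SGA3x.neutralSet G} =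
      {x : G.left | K276.Neutral.ord G x = n} := by
    ext x
    change (K276.Neutral.Tor G x n ∧ ∀ d : ℕ, 0 < d → d < n → ¬ K276.Neutral.Tor G x d) ↔
      K276.Neutral.ord G x = n
    constructor
    · rintro ⟨h1, h2⟩
      have h3 := K276.Neutral.tor_iff.mp h1
      have h4 : K276.Neutral.ord G x ≠ 0 := by
        intro h0
        rw [h0, Nat.zero_dvd] at h3
        omega
      by_contra hne
      exact h2 _ (Nat.pos_of_ne_zero h4) (lt_of_le_of_ne (Nat.le_of_dvd hn h3) hne)
        (K276.Neutral.ord_spec h4)
    · rintro rfl
      refine ⟨K276.Neutral.ord_spec hn.ne', fun d hd hd' h => ?_⟩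
      exact absurd (Nat.le_of_dvd hd (K276.Neutral.tor_iff.mp h)) (not_le.mpr hd')
  rw [h]
  exact K276.Neutral.isLocallyConstructible_ord n

end Groth.Agent.S5693
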