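import Groth.Statements.S5701
import Groth.Agent.Dix.K280.SepNonCentral

set_option autoImplicit false
universe u v
open TensorProduct
open Dix

namespace Groth.Agent.S5701

/-- Let k be a field and A a finite-dimensional k-algebra which is absolutely semisimple (its base
change to an algebraic closure of k is a semisimple ring). For a subalgebra L of A, call L étale
when it is commutative and all its elements are separable over k. Then L is étale and equal to its
own centralizer in A if and only if L is a maximal étale subalgebra of A. -/
theorem result (k : Type u) [Field k] (A : Type v) [Ring A] [Algebra k A] [FiniteDimensional k A] (hss : IsSemisimpleRing (AlgebraicClosure k ⊗[k] A)) (L : Subalgebra k A) : ((∀ x ∈ L, ∀ y ∈ L, x * y = y * x) ∧ Algebra.IsSeparable k L ∧ Subalgebra.centralizer k (L : Set A) = L) ↔ ((∀ x ∈ L, ∀ y ∈ L, x * y = y * x) ∧ Algebra.IsSeparable k L ∧ ∀ L' : Subalgebra k A, (∀ x ∈ L', ∀ y ∈ L', x * y = y * x) → Algebra.IsSeparable k L' → L ≤ L' → L' = L) := by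
  constructor
  · rintro ⟨hcomm, hsep, hcent⟩
    refine ⟨hcomm, hsep, fun L' hcomm' _ hle => le_antisymm ?_ hle⟩
    rw [← hcent]
    intro x hx
    rw [Subalgebra.mem_centralizer_iff]
    exact fun y hy => hcomm' y (hle hy) x hx
  · rintro ⟨hcomm, hsep, hmax⟩
    refine ⟨hcomm, hsep, ?_⟩
    have hle : L ≤ Subalgebra.centralizer k (L : Set A) := by
      intro x hx
      rw [Subalgebra.mem_centralizer_iff]
      exact fun y hy => hcomm y hy x hx
    -- separable elements of the centralizer belong to `L`
    have key : ∀ x ∈ Subalgebra.centralizer k (L : Set A), IsSeparable k x → x ∈ L := by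
      intro x hx hxs
      rw [Subalgebra.mem_centralizer_iff] at hx
      have hc : ∀ a ∈ insert x (L : Set A), ∀ b ∈ insert x (L : Set A), a * b = b * a := by
        rintro a (rfl | ha) b (rfl | hb)
        · rfl
        · exact (hx b hb).symm
        · exact hx a ha
        · exact hcomm a ha b hb
      have h1 := hmax (Algebra.adjoin k (insert x (L : Set A)))
        (K280.EtaleSub.adjoin_comm hc) (K280.EtaleSub.isSeparable_adjoin _ hc (by
          rintro a (rfl | ha)
          · exact hxs
          · exact Subalgebra.isSeparable_iff.1 hsep a ha))
        (fun y hy => Algebra.subset_adjoin (Set.mem_insert_of_mem _ hy))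
      rw [← h1]
      exact Algebra.subset_adjoin (Set.mem_insert _ _)
    have hss' := K280.VNReg.semisimple_centralizer k A hss L hcomm hsep
    refine le_antisymm (fun x hx => ?_) hle
    have hcommC : ∀ a b : Subalgebra.centralizer k (L : Set A), a * b = b * a := by
      by_contra hnc
      push Not at hnc
      obtain ⟨y, hys, z, hyz⟩ := K280.SepNonCentral.exists_ss k (Subalgebra.centralizer k (L : Set A))
        (fun z hz => by
          have h1 := K280.VNReg.isSeparable_center k A hss L hcomm hsep z.1 z.2
            (fun y hy => congrArg Subtype.val (hz ⟨y, hy⟩))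
          exact (isSeparable_map_iff (Subalgebra.centralizer k (L : Set A)).val
            Subtype.val_injective).1 h1) hnc
      have h2 : IsSeparable k (y : A) := (isSeparable_map_iff (Subalgebra.centralizer k (L : Set A)).val
            Subtype.val_injective).2 hys
      have h3 := key y.1 y.2 h2
      apply hyz
      apply Subtype.ext
      exact ((Subalgebra.mem_centralizer_iff k).1 z.2 y.1 h3).symm
    exact key x hx (K280.VNReg.isSeparable_center k A hss L hcomm hsep x hx
      (fun y hy => congrArg Subtype.val (hcommC ⟨y, hy⟩ ⟨x, hx⟩)))

end Groth.Agent.S5701
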