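import Groth.Statements.S5704
import Groth.Agent.S0536
import Groth.Agent.Dix.K280.StructUniv

set_option autoImplicit false
universe u v
open TensorProduct
open Dix

namespace Groth.Agent.S5704

/-- Let R be a henselian local ring with residue field k and let A₀ be a finite-dimensional central
simple k-algebra. Then there exists an Azumaya algebra A over R whose special fibre k ⊗_R A is
isomorphic to A₀ as a k-algebra. -/
theorem result (R : Type u) [CommRing R] [HenselianLocalRing R] (A₀ : Type u) [Ring A₀] [Algebra (IsLocalRing.ResidueField R) A₀] [Algebra.IsCentral (IsLocalRing.ResidueField R) A₀] [IsSimpleRing A₀] [FiniteDimensional (IsLocalRing.ResidueField R) A₀] : ∃ (A : Type u) (_ : Ring A) (_ : Algebra R A), IsAzumaya R A ∧ Nonempty ((IsLocalRing.ResidueField R ⊗[R] A) ≃ₐ[IsLocalRing.ResidueField R] A₀) := by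
  classical
  obtain ⟨n, ⟨b⟩⟩ : ∃ n : ℕ, Nonempty (Module.Basis (Fin n) (IsLocalRing.ResidueField R) A₀) :=
    ⟨_, ⟨Module.finBasis (IsLocalRing.ResidueField R) A₀⟩⟩
  have hne : Nonempty (Fin n) := b.index_nonempty
  obtain ⟨v, hv, hvc, hvu⟩ := K280.StructUniv.exists_point (IsLocalRing.ResidueField R) A₀ b
  let σ₀ : K280.StructUniv.Univ (Fin n) R →ₐ[R] IsLocalRing.ResidueField R :=
    K280.StructUniv.lift v hv
  obtain ⟨τ, hτ⟩ := Groth.Agent.S0536.result R (K280.StructUniv.Univ (Fin n) R) R
    (IsLocalRing.maximalIdeal R) σ₀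
  have hrel := K280.StructUniv.rel_of_hom τ
  have hpt := (K280.StructUniv.isPt_iff _).2 hrel
  have hτv : ∀ s, IsLocalRing.residue R (τ (Ideal.Quotient.mk _ (MvPolynomial.X s))) = v s := by
    intro s
    have h1 := DFunLike.congr_fun hτ (Ideal.Quotient.mk _ (MvPolynomial.X s))
    refine h1.trans ?_
    exact K280.StructUniv.lift_X v hv s
  refine ⟨K280.StructConst.Alg hpt.toIsAlg, inferInstance, inferInstance,
    K280.StructConst.isAzumaya hpt.toIsAlg hpt.sand, ?_⟩
  refine K280.StructUniv.nonempty_algEquiv hpt.toIsAlg b (fun i j l => ?_) (fun i => ?_)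
  · rw [← hvc]
    exact hτv _
  · rw [← hvu]
    exact hτv _

end Groth.Agent.S5704
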