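import Groth.Statements.S5712
import Groth.Agent.Dix.K280.EdgeEt
import Groth.Agent.Dix.K280.PointHilb

set_option autoImplicit false
universe u
open CategoryTheory AlgebraicGeometry
open Dix

namespace Groth.Agent.S5712

/-- Let X be a quasi-compact quasi-separated scheme and x a point of X, with i_x : Spec κ(x) → X. Then
H¹(X_et, i_{x*} G_m) = 0, and the canonical map H²(X_et, i_{x*} G_m) → H²(Spec κ(x)_et, G_m) is
injective. (The published statement is about the sheaf of invertible rational functions, which for X
reduced with finitely many irreducible components is the finite product of the sheaves i_{x*} G_m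
over the maximal points x; the argument is the present one at each point.) The second map is
EtLim.HofPush, whose exactness hypothesis on the inverse image is carried as an instance binder. -/
theorem result (X : Scheme.{u}) [CompactSpace X] [QuasiSeparatedSpace X] (x : X) [Limits.PreservesFiniteLimits (EtCoh.pull (X.fromSpecResidueField x))] : Subsingleton (EtCoh.H X ((Dix.skyPush X x).obj (EtCoh.Gm (Spec (X.residueField x)))) 1) ∧ Function.Injective (EtLim.HofPush (X.fromSpecResidueField x) (EtCoh.Gm (Spec (X.residueField x))) 2) := by
  have h1 : Limits.IsZero ((EtCoh.Rpush (X.fromSpecResidueField x) 1).obj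
      (EtCoh.Gm (Spec (X.residueField x)))) :=
    K280.PointHilb.isZero_Rpush_one (K := X.residueField x) (X.fromSpecResidueField x)
  refine ⟨?_, K280.EdgeEt.HofPush_two_injective _ _ h1⟩
  have h2 := K280.PointHilb.subsingleton_H1_Gm_field (X.residueField x)
  exact (K280.EdgeEt.HofPush_one_injective (X.fromSpecResidueField x)
    (EtCoh.Gm (Spec (X.residueField x)))).subsingleton

end Groth.Agent.S5712
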