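import Groth.Statements.S5716
import Groth.Agent.Dix.K281.BlowMain
import Groth.Agent.Dix.K281.PnMu

set_option autoImplicit false
universe u
open CategoryTheory AlgebraicGeometry
open Dix

namespace Groth.Agent.S5716

/-- Under its condition a). Let X be a locally noetherian regular scheme, I a quasi-coherent ideal sheaf
whose closed subscheme Y is regular and has codimension at least 1 in X at each of its points
(without this Y could contain an irreducible component of X, which the blow-up deletes, and
injectivity would fail), b : X' → X a blowing up of X along I, characterised by its universal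
property, and ℓ a prime number invertible in κ(y) for every point y of Y. Then the pullback H²(X_et,
G_m) → H²(X'_et, G_m) is bijective on ℓ-primary torsion: injective on ℓ-primary classes, and every
ℓ-primary class on X' is the pullback of an ℓ-primary class on X. -/
theorem result (X X' : Scheme.{u}) [IsLocallyNoetherian X] (hreg : ∀ x : X, IsRegularLocalRing (X.presheaf.stalk x)) (I : X.IdealSheafData) (hYreg : ∀ y : ↥I.subscheme, IsRegularLocalRing (I.subscheme.presheaf.stalk y)) (hYcodim : ∀ x : X, x ∈ I.support → 1 ≤ ringKrullDim (X.presheaf.stalk x)) (b : X' ⟶ X) (hb : BlowUp.IsBlowUp b I) (ℓ : ℕ) (hℓ : ℓ.Prime) (hℓY : ∀ x : X, x ∈ I.support → (ℓ : X.residueField x) ≠ 0) [Limits.PreservesFiniteLimits (EtCoh.pull b)] : (∀ ξ : EtCoh.H X (EtCoh.Gm X) 2, (∃ m : ℕ, ℓ ^ m • ξ = 0) → EtLim.HGmPull b 2 ξ = 0 → ξ = 0) ∧ (∀ η : EtCoh.H X' (EtCoh.Gm X') 2, (∃ m : ℕ, ℓ ^ m • η = 0) → ∃ ξ : EtCoh.H X (EtCoh.Gm X) 2, (∃ m : ℕ, ℓ ^ m • ξ = 0) ∧ EtLim.HGmPull b 2 ξ = η) := by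
  exact K281.BlowMain.main (fun r k _ _ n hn y => K281.PnMu.exists_δ r k n hn y) X X' hreg I hYreg hYcodim b hb ℓ hℓY

end Groth.Agent.S5716
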