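import Groth.Statements.S5717
import Groth.Agent.Dix.K281.AzDescent
import Mathlib.LinearAlgebra.FreeModule.Finite.Matrix
import Mathlib.RingTheory.Flat.EquationalCriterion

set_option autoImplicit false
universe u v
open TensorProduct
open Dix

namespace Groth.Agent.S5717

/-- Implication (iii bis) ⇒ (ii), over an affine base with one faithfully flat cover. Let R be a
commutative ring and A an R-algebra whose underlying R-module is finitely presented. If there are a
faithfully flat commutative R-algebra R' and an integer r ≥ 1 such that R' ⊗_R A is isomorphic as an
R'-algebra to the matrix algebra M_r(R'), then A is an Azumaya algebra over R (finite locally free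
with A ⊗ A° → End_R(A) bijective). (The published condition asks the cover only to be surjective;
with that reading the implication fails — R = k[ε], A = R/(ε), R' = k — so this row asks R' to be
faithfully flat.) -/
theorem result (R : Type u) [CommRing R] (A : Type u) [Ring A] [Algebra R A] [Module.FinitePresentation R A] (R' : Type u) [CommRing R'] [Algebra R R'] [Module.FaithfullyFlat R R'] (r : ℕ) (hr : 1 ≤ r) (e : (R' ⊗[R] A) ≃ₐ[R'] Matrix (Fin r) (Fin r) R') : IsAzumaya R A := by
  have : NeZero r := ⟨by omega⟩
  have hAz' : IsAzumaya R' (Matrix (Fin r) (Fin r) R') := by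
    have h1 : IsAzumaya R' (Module.End R' (Fin r → R')) := K444.AzOps.isAzumaya_end
    exact IsAzumaya.of_AlgEquiv R' _ _ (algEquivMatrix' (R := R') (n := Fin r))
  have hAz : IsAzumaya R' (R' ⊗[R] A) := IsAzumaya.of_AlgEquiv R' _ _ e.symm
  have hflat : Module.Flat R A := by
    have : Module.Flat R' (R' ⊗[R] A) := inferInstance
    exact Module.Flat.of_flat_tensorProduct R A R'
  have hproj : Module.Projective R A := Module.Flat.projective_of_finitePresentation
  have hfaith : FaithfulSMul R A := by
    rw [faithfulSMul_iff_algebraMap_injective]
    have h2 : Function.Injective (algebraMap R' (R' ⊗[R] A)) :=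
      FaithfulSMul.algebraMap_injective R' (R' ⊗[R] A)
    have h3 : Function.Injective ((Algebra.linearMap R A).lTensor R') := by
      intro x y hxy
      obtain ⟨x, rfl⟩ := (TensorProduct.rid R R').symm.surjective x
      obtain ⟨y, rfl⟩ := (TensorProduct.rid R R').symm.surjective y
      simp at hxy
      congr 1
      exact h2 (by simpa [Algebra.TensorProduct.algebraMap_apply] using hxy)
    exact (Module.FaithfullyFlat.lTensor_injective_iff_injective R R' _).1 h3
  exact { bij := K281.AzDescent.bijective_of_faithfullyFlat R' hAz.bij }

end Groth.Agent.S5717
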