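import Groth.Statements.S5718
import Groth.Agent.S5714
import Groth.Agent.S0073
import Groth.Agent.Etrest.FppfExact

set_option autoImplicit false
universe u
open CategoryTheory AlgebraicGeometry
open Dix

namespace Groth.Agent.S5718

/-- The case of the multiplicative group. Let R be a strictly henselian local ring (henselian, with
separably closed residue field) and X = Spec R. Then H^i(X_fppf, G_m) = 0 for every i ≥ 1, the
cohomology being that of G_m on the big fppf site of X. -/
theorem result (R : Type u) [CommRing R] (hR : EtCoh.IsStrictlyHenselianLocalRing R) [EtFppf.ACont (Spec (CommRingCat.of R))] (i : ℕ) (hi : 1 ≤ i) : Subsingleton (EtFppf.HF (Spec (CommRingCat.of R)) (EtDl.GmF (Spec (CommRingCat.of R))) i) := by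
  obtain ⟨h1, h2⟩ := hR
  obtain ⟨e⟩ := Groth.Agent.Etrest.RAcyc.nonempty_extAddEquiv (EtFppf.aAdj (Spec (CommRingCat.of R)))
    (Groth.Agent.Etrest.FppfExact.aPush_injective (Spec (CommRingCat.of R)))
    (G := EtDl.GmF (Spec (CommRingCat.of R))) (Groth.Agent.S5714.result (Spec (CommRingCat.of R)))
    ((constantSheaf (Spec (CommRingCat.of R)).smallEtaleTopology AddCommGrpCat.{u + 1}).obj
      (AddCommGrpCat.of (ULift ℤ))) i
  have e2 : Abelian.Ext ((EtFppf.aPull (Spec (CommRingCat.of R))).obj
      ((constantSheaf (Spec (CommRingCat.of R)).smallEtaleTopology AddCommGrpCat.{u + 1}).obj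
      (AddCommGrpCat.of (ULift ℤ)))) (EtDl.GmF (Spec (CommRingCat.of R))) i ≃+
        EtFppf.HF (Spec (CommRingCat.of R)) (EtDl.GmF (Spec (CommRingCat.of R))) i :=
    (((Abelian.extFunctor i).mapIso
      (Groth.Agent.Etrest.FppfExact.constIso (Spec (CommRingCat.of R))
        (AddCommGrpCat.of (ULift ℤ))).symm.op).app
          (EtDl.GmF (Spec (CommRingCat.of R)))).addCommGroupIsoToAddEquiv
  have h3 : Subsingleton (EtCoh.H (Spec (CommRingCat.of R))
      ((EtFppf.aPush (Spec (CommRingCat.of R))).obj (EtDl.GmF (Spec (CommRingCat.of R)))) i) :=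
    Groth.Agent.S0073.result R _ i hi
  exact (e.trans e2).symm.injective.subsingleton

end Groth.Agent.S5718
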