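import Groth.Statements.S5719
import Groth.Agent.Dix.K281.AzLocal

set_option autoImplicit false
universe u v
open TensorProduct
open Dix

namespace Groth.Agent.S5719

/-- (i) ⇔ (ii), over an affine base. Let R be a commutative ring and A an R-algebra whose underlying
module is finite and projective (locally free of finite type). Then A ⊗_R A° → End_R(A) is bijective
with A faithful, i.e. A is an Azumaya algebra over R, if and only if every fibre κ(p) ⊗_R A, p a
prime ideal of R, is a central simple algebra over the residue field κ(p). -/
theorem result (R : Type u) [CommRing R] (A : Type u) [Ring A] [Algebra R A] [Module.Finite R A] [Module.Projective R A] : IsAzumaya R A ↔ ∀ (p : Ideal R) [p.IsPrime], Algebra.IsCentral p.ResidueField (p.ResidueField ⊗[R] A) ∧ IsSimpleRing (p.ResidueField ⊗[R] A) := by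
  constructor
  · intro hA p _
    have h1 : IsAzumaya p.ResidueField (p.ResidueField ⊗[R] A) :=
      K444.AzOps.isAzumaya_baseChange p.ResidueField
    exact K281.AzLocal.central_simple_of_field p.ResidueField (p.ResidueField ⊗[R] A)
  · intro h
    refine K281.AzLocal.isAzumaya_of_forall_maximal (fun P _ => ?_)
    have := h P
    exact K281.AzLocal.isAzumaya_localization P this

end Groth.Agent.S5719
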