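import Groth.Statements.S5726
import Groth.Agent.EGA2.K426.RVA
import Groth.Agent.Mor.K386.QPVA
import Groth.Agent.EGA2.K34.OpenTwist
import Groth.Agent.EGA2.K34.OpenHalf
import Groth.Agent.S8284
import Groth.Agent.S8258

set_option autoImplicit false
universe u
open CategoryTheory CategoryTheory.Limits AlgebraicGeometry TopologicalSpace Opposite
open scoped HomogeneousIdeal
open EGA2

namespace Groth.Agent.S5726

/-- Let Y be a scheme which is either quasi-compact and separated or Noetherian, q : X → Y a morphism of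
finite type and L an invertible O_X-module which is very ample relative to q. Then there are a
quasi-coherent graded O_Y-algebra 𝒮 generated by its degree-one part, that part being of finite
type, a relative homogeneous spectrum p : P → Y of 𝒮 (given with its charts over affine opens)
together with its twisting sheaf O_P(1) (given with its chart identifications), and an open
immersion i : X → P with dense image such that i ≫ p = q and L is isomorphic to i^*O_P(1). (The
published statement keeps the notation of the proposition it follows, in which q is of finite type;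
without that hypothesis the conclusion fails, for instance for the affine space of countably
infinite dimension over a field with the structure sheaf, which is an open subscheme of a projective
bundle over the field but is not of finite type.) -/
theorem result {X Y : Scheme.{u}}
    (hY : (CompactSpace Y ∧ Y.IsSeparated) ∨ AlgebraicGeometry.IsNoetherian Y) (q : X ⟶ Y) [QuasiCompact q] [LocallyOfFiniteType q]
    (L : X.Modules) (hL : PicF.IsInvertible L) (h : RelProj.IsRelVeryAmple q L) :
    ∃ (𝒮 : RelProj.QCGrAlg Y) (P : Scheme.{u}) (p : P ⟶ Y)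
      (chart : ∀ (U : Y.Opens) (hU : IsAffineOpen U), ((p ⁻¹ᵁ U : P.Opens) : Scheme.{u}) ≅ Proj (𝒮.deg U hU))
      (O1 : P.Modules)
      (lam : ∀ (U : Y.Opens) (hU : IsAffineOpen U),
        O1 ⟶ (Scheme.Modules.pushforward (RelProj.emb p chart U hU)).obj (GrTwist.twist (𝒮.deg U hU) 1))
      (i : X ⟶ P),
      𝒮.IsGenDegOne ∧ 𝒮.IsFTDeg 1 ∧ RelProj.IsRelProj 𝒮 p chart ∧ RelProj.IsRelTwist 𝒮 p chart 1 O1 lam ∧
        IsOpenImmersion i ∧ Dense (Set.range i.base) ∧ i ≫ p = q ∧
        Nonempty (L ≅ (Scheme.Modules.pullback i).obj O1) := by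
  have hc : CompactSpace Y ∧ QuasiSeparatedSpace Y := by
    rcases hY with ⟨h1, h2⟩ | h1
    · exact ⟨h1, inferInstance⟩
    · exact ⟨inferInstance, inferInstance⟩
  obtain ⟨hc1, hc2⟩ := hc
  obtain ⟨E, hE, φ, hφ⟩ := K43.VAForward.exists_va h
  obtain ⟨ι, hιf, W, hWa, hcov⟩ := K426.RVA.exists_cov Y
  obtain ⟨E', ψ, hE', hft, hψ, hVA⟩ := K386.QPVA.exists_ft_of_at q hL φ hE W hWa hcov
    (fun i x hx => hφ (W i) (hWa i) x hx)
  obtain ⟨P, p, chart, hP⟩ := Groth.Agent.S8258.result (K823.Criterion.𝒮 q (ψ ≫ φ) hL hE')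
  obtain ⟨O1, lam, hO1⟩ := Groth.Agent.S8284.result _ p chart hP 1
  obtain ⟨i, hi1, hi2, hip, hi⟩ := K34.OpenHalf.exists_openImm q (ψ ≫ φ) hL hE' hVA hP
  obtain ⟨j, hj⟩ := K34.OpenTwist.exists_j q (ψ ≫ φ) hL hE'
  have e := K34.OpenTwist.exists_iso q (ψ ≫ φ) hL hE' hj hVA hP hO1 hi hip
  refine ⟨_, P, p, chart, O1, lam, i, K823.Criterion.isGenDegOne q (ψ ≫ φ) hL hE',
    K823.Criterion.isFTDeg q (ψ ≫ φ) hL hE' (fun U hU => ?_), hP, hO1, hi1, hi2.1, hip, e⟩
  have : Coh.IsQCoh E' := hE'
  exact Groth.Agent.CohqB.FiniteType2.finite_sections_of_isFT E' hft hU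

end Groth.Agent.S5726
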