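import Groth.Statements.S5735
import Groth.Agent.Coherent.K46.RadStein
import Groth.Agent.Coherent.K46.DvrPoint
import Groth.Agent.S0388
import Groth.Agent.S1297

set_option autoImplicit false
universe u
open Coherent

namespace Groth.Agent.S5735

open AlgebraicGeometry CategoryTheory CategoryTheory.Limits in
/-- Let X and Y be locally Noetherian integral schemes and f : X → Y a proper dominant morphism which is
universally open in the following sense: for every irreducible locally Noetherian scheme Y' and
every dominant morphism g : Y' → Y, each irreducible component of X ×_Y Y' has dense image in Y'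
under the second projection. Suppose that the algebraic closure of the function field R(Y) in R(X)
is purely inseparable over R(Y): every element of R(X) satisfying a nonzero polynomial over R(Y) has
some p^e-th power coming from R(Y), p being the characteristic exponent. Then for every point y of Y
the fibre X_y is geometrically connected over the residue field k(y) (its base change to any field
extension is connected and nonempty). -/
theorem result {X Y : Scheme.{u}}
    [IsIntegral X] [IsIntegral Y] [IsLocallyNoetherian X] [IsLocallyNoetherian Y] (f : X ⟶ Y) [IsProper f]
    (hdom : f.base (genericPoint X) ⤳ genericPoint Y)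
    (hopen : ∀ (Y' : Scheme.{u}) (g : Y' ⟶ Y), IrreducibleSpace ↥Y' → IsLocallyNoetherian Y' →
      IsDominant g → ∀ Z ∈ irreducibleComponents ↥(pullback f g), Dense ((pullback.snd f g).base '' Z))
    (hrad : ∀ x : X.functionField,
      (∃ q : Polynomial Y.functionField, q ≠ 0 ∧
        Polynomial.eval₂ (CohIII.stalkToFunctionField f (genericPoint Y) hdom) x q = 0) →
      ∃ e : ℕ, x ^ (ringExpChar X.functionField ^ e) ∈
        Set.range (CohIII.stalkToFunctionField f (genericPoint Y) hdom))
    (y : Y) : GeometricallyConnected (f.fiberToSpecResidueField y) := by
  have h0 : GeometricallyConnected f := by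
    obtain ⟨N, p, q, hpq, hp, hq⟩ : ∃ (N : Scheme.{u}) (p : X ⟶ N) (q : N ⟶ Y), p ≫ q = f ∧
        GeometricallyConnected p ∧ IsFinite q :=
      ⟨f.normalization, f.toNormalization, f.fromNormalization, f.toNormalization_fromNormalization,
        (S0388.result f).1, S1297.result f⟩
    subst hpq
    have hpq' : Surjective (p ≫ q) := by
      have h1 : Set.range (p ≫ q) = Set.univ := by
        have hcl : IsClosed (Set.range (p ≫ q)) := (p ≫ q).isClosedMap.isClosed_range
        rw [Set.eq_univ_iff_forall]
        intro z
        have h2 : (p ≫ q) (genericPoint X) ⤳ z := hdom.trans (genericPoint_specializes z)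
        exact h2.mem_closed hcl ⟨_, rfl⟩
      exact ⟨Set.range_eq_univ.mp h1⟩
    have hq' : Surjective q := Surjective.of_comp p q
    have hinj : UniversallyInjective q := by
      refine Groth.Agent.Coherent.K46.RadStein.universallyInjective_of_points q (fun y => ?_)
      obtain ⟨V, _, _, _, _, _, _, u, hu, hy⟩ :=
        Groth.Agent.Coherent.K46.DvrPoint.exists_normal Y y
      refine ⟨Spec (CommRingCat.of V), u, hy, ?_⟩
      refine Groth.Agent.Coherent.K46.RadStein.universallyInjective_snd p q hdom hrad u hu ?_
      have hdomu : IsDominant u := by
        refine ⟨?_⟩
        have h3 : genericPoint Y ∈ Set.range u := by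
          refine ⟨Spec.map (CommRingCat.ofHom (algebraMap V Y.functionField))
            (IsLocalRing.closedPoint Y.functionField), ?_⟩
          rw [← Scheme.Hom.comp_apply, hu]
          exact Scheme.fromSpecStalk_closedPoint
        intro z
        exact (genericPoint_specializes z).mem_closed isClosed_closure (subset_closure h3)
      exact hopen (Spec (CommRingCat.of V)) u inferInstance inferInstance hdomu
    exact Groth.Agent.Coherent.K46.RadStein.geometricallyConnected_comp p q
  infer_instance

end Groth.Agent.S5735
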