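import Groth.Statements.S5744
import Groth.Agent.Sga67.CohBasic

set_option autoImplicit false
universe u
open Coherent

namespace Groth.Agent.S5744

open AlgebraicGeometry CategoryTheory in
theorem isAffineOpen_iInf_fin {X : Scheme.{u}} [X.IsSeparated] (p : ℕ) (V : Fin (p + 1) → X.Opens)
    (hV : ∀ a, IsAffineOpen (V a)) : IsAffineOpen (⨅ a, V a) := by
  induction p with
  | zero =>
    have h : (⨅ a, V a) = V 0 :=
      le_antisymm (iInf_le _ _) (le_iInf fun a => (show (0 : Fin 1) = a from Subsingleton.elim (α := Fin 1) 0 a) ▸ le_rfl)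
    rw [h]; exact hV _
  | succ p ih =>
    have h : (⨅ a, V a) = V 0 ⊓ ⨅ a : Fin (p + 1), V a.succ := by
      apply le_antisymm
      · exact le_inf (iInf_le _ _) (le_iInf fun a => iInf_le _ _)
      · refine le_iInf fun a => ?_
        induction a using Fin.cases with
        | zero => exact inf_le_left
        | succ a => exact inf_le_right.trans (iInf_le _ a)
    rw [h]
    exact (hV 0).inf (ih _ fun a => hV a.succ)

open AlgebraicGeometry CategoryTheory CategoryTheory.Limits in
theorem isAffineOpen_pi {X : Scheme.{u}} [X.IsSeparated] (p : ℕ) (V : Fin (p + 1) → X.Opens)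
    (hV : ∀ a, IsAffineOpen (V a)) : IsAffineOpen (∏ᶜ V) := by
  have h : (∏ᶜ V) = ⨅ a, V a :=
    le_antisymm (le_iInf fun a => leOfHom (Pi.π V a))
      (leOfHom (Pi.lift fun a => homOfLE (iInf_le _ a)))
  rw [h]
  exact isAffineOpen_iInf_fin p V hV

open AlgebraicGeometry CategoryTheory CategoryTheory.Limits in
theorem isQCoh_pushRestr {X : Scheme.{u}} [X.IsSeparated] (W : X.Opens) (hW : IsAffineOpen W)
    (F : X.Modules) (hF : Coh.IsQCoh F) : Coh.IsQCoh ((CechOX.pushRestr W).obj F) := by
  have h1 : IsAffine (W : Scheme.{u}) := hW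
  have h2 : Coh.IsQCoh (F.restrict W.ι) := PerfA.QCohSerre.isQCoh_restrict W.ι hF
  exact Sga67.CohBasic.isQCoh_push W.ι h2

open AlgebraicGeometry CategoryTheory in
/-- For the Čech complex of sheaves indexed by all ordered tuples with products as terms; over a finite
index type these terms are finite direct sums. Let X be a separated scheme, (U_i)_{i ∈ ι} a finite
family of affine opens covering X, and F a quasi-coherent O_X-module. Then for every p the degree-p
term of the Čech complex of sheaves 𝔠(𝒰, F), the product over ordered (p+1)-tuples of the direct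
images (j_{i_0…i_p})_*(F|_{U_{i_0…i_p}}), is a quasi-coherent O_X-module. -/
theorem result {X : Scheme.{u}} [X.IsSeparated] {ι : Type u}
    [Finite ι] (𝒰 : ι → X.Opens) (h𝒰 : ∀ i, IsAffineOpen (𝒰 i)) (hcov : ⨆ i, 𝒰 i = ⊤)
    (F : X.Modules) [Coh.IsQCoh F] (p : ℕ) :
    Coh.IsQCoh (((CechOX.cechSh 𝒰).obj F).X p) := by
  have h : ∀ i : Fin (p + 1) → ι, Coh.IsQCoh ((CechOX.pushRestr (∏ᶜ (𝒰 ∘ i))).obj F) := fun i =>
    isQCoh_pushRestr _ (isAffineOpen_pi p _ fun a => h𝒰 (i a)) F inferInstance
  have h' := Sga67.CohBasic.isQCoh_pi (J := Fin (p + 1) → ι) _ h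
  exact h'

end Groth.Agent.S5744
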