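import Groth.Statements.S5748
import Groth.Agent.Coherent.K46.AffTwist
import Groth.Agent.EGA2.K32.ProjVA
import Groth.Agent.CohqB.RelVan

set_option autoImplicit false
universe u
open CategoryTheory CategoryTheory.Limits AlgebraicGeometry Opposite TopologicalSpace
open Coherent

namespace Groth.Agent.S5748

/-- Let Y be a Noetherian scheme, f : X → Y a projective morphism, L an invertible O_X-module ample
relative to f, g : Y' → Y an affine morphism locally of finite type (the spectrum of a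
quasi-coherent O_Y-algebra 𝒮 of finite type) and X' = X ×_Y Y' with projections g' : X' → X and f' :
X' → Y'. The quasi-coherent modules of finite type over the pulled-back O_X-algebra f^*𝒮 = g'_*
O_{X'} are the direct images g'_* G of the coherent O_{X'}-modules G, and they are presented here in
that form. For such a module ℳ = g'_* G there is N such that for every n ≥ N the higher direct
images R^p f_*(ℳ ⊗ L^{⊗n}) (of the underlying abelian sheaf) vanish for all p > 0 and the canonical
morphism f^* f_*(ℳ ⊗ L^{⊗n}) → ℳ ⊗ L^{⊗n} is an epimorphism. -/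
theorem result {X Y X' Y' : Scheme.{u}}
    [AlgebraicGeometry.IsNoetherian Y] (f : X ⟶ Y) (hf : RelProj.IsProjective f)
    (L : X.Modules) (hL : PicF.IsInvertible L) (hamp : RelAmple.IsRelAmple f L)
    (g : Y' ⟶ Y) [IsAffineHom g] [LocallyOfFiniteType g] (g' : X' ⟶ X) (f' : X' ⟶ Y')
    (hsq : IsPullback g' f' f g) (G : X'.Modules) (hG : Coh.IsCoh G) :
    ∃ N : ℕ, ∀ n : ℕ, N ≤ n →
      (∀ p : ℕ, 0 < p →
        IsZero ((Coh.RpushAb f p).obj (Coh.toAb (CohB1.tensorMod ((Coh.push g').obj G) (CohB1.tensorPow L n))))) ∧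
      Epi ((Scheme.Modules.pullbackPushforwardAdjunction f).counit.app
        (CohB1.tensorMod ((Coh.push g').obj G) (CohB1.tensorPow L n))) := by
  have hf1 : IsProper f := EGA2.K32.ProjVA.isProper_of_isProjective hf
  have hf' : IsProper f' := MorphismProperty.of_isPullback hsq inferInstance
  have hg' : IsAffineHom g' := MorphismProperty.of_isPullback hsq.flip inferInstance
  have hY1 : IsLocallyNoetherian Y' := LocallyOfFiniteType.isLocallyNoetherian g
  have hY2 : CompactSpace Y' := QuasiCompact.compactSpace_of_compactSpace g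
  have hY' : AlgebraicGeometry.IsNoetherian Y' := {}
  have hamp' := Coherent.K46.AffTwist.isRelAmple_of_isPullback hsq hamp
  have hL' : PicF.IsInvertible ((Scheme.Modules.pullback g').obj L) :=
    Fdesc.LocGen.isInvertible_pullback g' hL
  have hq : ∀ n : ℕ, Coh.IsQCoh (CohB1.tensorMod G (CohB1.tensorPow
      ((Scheme.Modules.pullback g').obj L) n)) := fun n =>
    (CohqB.SerTw.isCoh_tensorMod hG (Fdesc.LocGen.isInvertible_tensorPow hL' n)).1
  obtain ⟨n₁, h₁⟩ := Gaga.H883.SerreRel.exists_vanishing f' hamp' hG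
  obtain ⟨n₂, h₂⟩ := Coherent.K46.AffTwist.exists_epi_counit f
    (fun n => CohB1.tensorMod ((Coh.push g').obj G) (CohB1.tensorPow L n)) (fun V => by
      obtain ⟨n₀, h⟩ := Gaga.H883.SerreRel.exists_globGen_over f' hamp' hG (g ⁻¹ᵁ V.1)
        (V.2.preimage g)
      refine ⟨n₀, fun n hn => ?_⟩
      obtain ⟨e⟩ := CohqB.FinAmple.nonempty_push_tw g' hL G n
      exact Ega2.GlobGenCrit.isGloballyGenerated_of_iso
        ((Scheme.Modules.restrictFunctor (f ⁻¹ᵁ V.1).ι).mapIso e.symm)
        (Coherent.K46.AffTwist.isGloballyGenerated_restrict_push hsq (hq n) V.1 V.2 (h n hn)))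
  refine ⟨max n₁ n₂, fun n hn => ⟨fun p hp => ?_, h₂ n (by omega)⟩⟩
  obtain ⟨e⟩ := CohqB.FinAmple.nonempty_push_tw g' hL G n
  have hqp := CohqA.AffPush.isQCoh_push g' _ (hq n)
  refine CohqB.RelVan.isZero_RpushAb_of_cover f _ (PerfA.QCohSerre.isQCoh_of_iso e.symm hqp) p
    (fun x => ?_)
  obtain ⟨V, hV, hxV, -⟩ := exists_isAffineOpen_mem_and_subset (X := Y) (U := ⊤) (x := x) trivial
  refine ⟨V, hxV, hV, ?_⟩
  have h3 := h₁ n (by omega) p hp (g ⁻¹ᵁ V) (hV.preimage g)
  have h4 : f' ⁻¹ᵁ (g ⁻¹ᵁ V) = g' ⁻¹ᵁ (f ⁻¹ᵁ V) := by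
    rw [← Scheme.Hom.comp_preimage, ← Scheme.Hom.comp_preimage, hsq.w]
  rw [h4] at h3
  have h5 := Coherent.K46.AffTwist.subsingleton_HHon_push g' (hq n) (f ⁻¹ᵁ V) p h3
  exact CohqA.UnifVan.subsingleton_of_iso
    ((Scheme.Modules.restrictFunctor (f ⁻¹ᵁ V).ι).mapIso e.symm) p h5

end Groth.Agent.S5748
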