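import Groth.Statements.S5752
import Groth.Agent.Localalg.Depth2

set_option autoImplicit false
universe u
open EGA41

namespace Groth.Agent.S5752

/-- Let A be a Noetherian local ring with maximal ideal m and M a finitely generated A-module. Then M
has depth 0 if and only if m is an associated prime of M, i.e. if and only if M contains a copy of
the residue field. (For M = 0 the depth is ⊤ and there are no associated primes.) -/
theorem result (A : Type u) [CommRing A] [IsLocalRing A]
    [IsNoetherianRing A] (M : Type u) [AddCommGroup M] [Module A M] [Module.Finite A M] :
    LocCoh.depth A M = 0 ↔ IsLocalRing.maximalIdeal A ∈ associatedPrimes A M := by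
  rw [LocCoh.depth, Groth.Agent.Localalg.Depth2.idealDepth_eq_zero_iff]
  constructor
  · rintro ⟨p, hp, hle⟩
    have h1 : p.IsPrime := hp.isPrime
    rwa [le_antisymm hle (IsLocalRing.le_maximalIdeal h1.ne_top)]
  · intro h
    exact ⟨_, h, le_rfl⟩

end Groth.Agent.S5752
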