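import Groth.Statements.S5753
import Groth.Agent.Ega4B.DepthFinite

set_option autoImplicit false
universe u
open EGA41

namespace Groth.Agent.S5753

/-- Let A be a Noetherian local ring with maximal ideal m and residue field k, and N a finitely
generated A-module. Then no element of m is N-regular (multiplication by it injective) if and only
if Hom_A(k, N) is nonzero. Applied to N = M/(x_1 M + ... + x_n M) for an M-regular sequence (x_i) in
m, this says that the sequence cannot be extended by an element of m if and only if Hom_A(k, M/(x_1
M + ... + x_n M)) ≠ 0. (The published statement allows an arbitrary module; for the direct sum N of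
the quotients of a two-dimensional regular local ring by all its height-one primes no element of m
is N-regular while Hom_A(k, N) = 0, and the published proof uses finiteness of the set of associated
primes, so N is taken finitely generated here.) -/
theorem result (A : Type u) [CommRing A]
    [IsLocalRing A] [IsNoetherianRing A] (N : Type u) [AddCommGroup N] [Module A N] [Module.Finite A N] :
    (∀ x ∈ IsLocalRing.maximalIdeal A, ¬ IsSMulRegular N x) ↔
      Nontrivial (IsLocalRing.ResidueField A →ₗ[A] N) := by
  have h1 : (∀ x ∈ IsLocalRing.maximalIdeal A, ¬ IsSMulRegular N x) ↔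
      IsLocalRing.maximalIdeal A ∈ associatedPrimes A N := by
    have h := Groth.Agent.Ega4B.DepthFinite.exists_isSMulRegular_mem_iff
      (IsLocalRing.maximalIdeal A) N
    constructor
    · intro h2
      by_contra h3
      obtain ⟨x, hx, hx'⟩ := h.mpr (fun P hP hle => by
        have h4 : P.IsPrime := hP.isPrime
        have h5 : P = IsLocalRing.maximalIdeal A :=
          le_antisymm (IsLocalRing.le_maximalIdeal h4.ne_top) hle
        exact h3 (h5 ▸ hP))
      exact h2 x hx hx'
    · intro h2 x hx hx'
      exact h.mp ⟨x, hx, hx'⟩ _ h2 le_rfl
  rw [h1, AssociatedPrimes.mem_iff]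
  constructor
  · intro h
    obtain ⟨-, f, hf⟩ := (isAssociatedPrime_iff_exists_injective_linearMap _ _).mp h
    refine ⟨⟨f, 0, fun h => ?_⟩⟩
    have h2 : f (1 : IsLocalRing.ResidueField A) = f 0 := by
      have h3 := congrArg (fun g : IsLocalRing.ResidueField A →ₗ[A] N => g 1) h
      exact h3.trans (map_zero f).symm
    have h4 : (1 : IsLocalRing.ResidueField A) = 0 := hf h2
    exact one_ne_zero h4
  · rintro ⟨f, g, hfg⟩
    have hsm : ∀ a : A, (f - g) (IsLocalRing.residue A a) = a • (f - g) 1 := by
      intro a
      rw [← map_smul, Algebra.smul_def, mul_one]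
      rfl
    have hn : (f - g) 1 ≠ 0 := by
      intro h
      apply hfg
      rw [← sub_eq_zero]
      ext x
      obtain ⟨a, rfl⟩ := IsLocalRing.residue_surjective x
      rw [hsm, h, smul_zero, LinearMap.zero_apply]
    rw [isAssociatedPrime_iff]
    refine ⟨inferInstance, (f - g) 1, ?_⟩
    have h3 : IsLocalRing.maximalIdeal A ≤ (⊥ : Submodule A N).colon {(f - g) 1} := by
      intro a ha
      rw [Submodule.mem_colon_singleton, ← hsm, (IsLocalRing.residue_eq_zero_iff a).mpr ha, map_zero]
      exact zero_mem _
    refine (IsLocalRing.maximalIdeal.isMaximal A).eq_of_le (fun h4 => ?_) h3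
    have h5 : (1 : A) ∈ (⊥ : Submodule A N).colon {(f - g) 1} := by rw [h4]; trivial
    rw [Submodule.mem_colon_singleton, one_smul, Submodule.mem_bot] at h5
    exact hn h5

end Groth.Agent.S5753
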