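import Groth.Statements.S5754
import Groth.Agent.Localalg.Depth2

set_option autoImplicit false
universe u
open EGA41
open scoped Pointwise

namespace Groth.Agent.S5754

/-- Let A be a Noetherian ring, M a finitely generated A-module and t an element of A which is
M-regular. For every associated prime p of M, every prime ideal minimal among those containing p +
tA is an associated prime of M/tM. -/
theorem result (A : Type u) [CommRing A]
    [IsNoetherianRing A] (M : Type u) [AddCommGroup M] [Module A M] [Module.Finite A M] (t : A)
    (ht : IsSMulRegular M t) (p : Ideal A) (hp : p ∈ associatedPrimes A M) (q : Ideal A)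
    (hq : q ∈ (p ⊔ Ideal.span {t}).minimalPrimes) : q ∈ associatedPrimes A (QuotSMulTop t M) := by
  obtain ⟨hprime, y, hy⟩ := isAssociatedPrime_iff.mp hp
  let N : Submodule A M := Submodule.torsionBySet A M (p : Set A)
  have hyN : y ∈ N := by
    rw [Submodule.mem_torsionBySet_iff]
    rintro ⟨a, ha⟩
    rw [SetLike.mem_coe, hy, Submodule.mem_colon_singleton] at ha
    simpa using ha
  -- the annihilator of `N` is `p`
  have hann : Module.annihilator A N = p := by
    refine le_antisymm ?_ ?_
    · intro a ha
      rw [hy, Submodule.mem_colon_singleton, Submodule.mem_bot]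
      exact congrArg Subtype.val (Module.mem_annihilator.mp ha ⟨y, hyN⟩)
    · intro a ha
      rw [Module.mem_annihilator]
      intro n
      exact Subtype.ext ((Submodule.mem_torsionBySet_iff _ _).mp n.2 ⟨a, ha⟩)
  -- the map N/tN → M/tM is injective
  let φ : QuotSMulTop t N →ₗ[A] QuotSMulTop t M := QuotSMulTop.map t N.subtype
  have hφ : Function.Injective φ := by
    rw [← LinearMap.ker_eq_bot, LinearMap.ker_eq_bot']
    intro m hm
    obtain ⟨n, rfl⟩ := Submodule.mkQ_surjective _ m
    have h1 : (n : M) ∈ t • (⊤ : Submodule A M) := by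
      have : φ (Submodule.mkQ _ n) = Submodule.Quotient.mk (n : M) := rfl
      rw [this, Submodule.Quotient.mk_eq_zero] at hm
      exact hm
    obtain ⟨m', -, hm'⟩ := (Submodule.mem_smul_pointwise_iff_exists _ _ _).mp h1
    have hm'N : m' ∈ N := by
      rw [Submodule.mem_torsionBySet_iff]
      rintro ⟨a, ha⟩
      apply ht.right_eq_zero_of_smul
      have h3 : a • (n : M) = 0 := (Submodule.mem_torsionBySet_iff _ _).mp n.2 ⟨a, ha⟩
      change t • a • m' = 0
      rw [smul_comm, hm', h3]
    rw [Submodule.mkQ_apply, Submodule.Quotient.mk_eq_zero,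
      Submodule.mem_smul_pointwise_iff_exists]
    exact ⟨⟨m', hm'N⟩, trivial, Subtype.ext hm'⟩
  refine associatedPrimes.subset_of_injective hφ ?_
  apply Module.associatedPrimes.minimalPrimes_annihilator_subset_associatedPrimes
  have h1 : PrimeSpectrum.zeroLocus ((Module.annihilator A (QuotSMulTop t N) : Ideal A) : Set A) =
      PrimeSpectrum.zeroLocus ((p ⊔ Ideal.span {t} : Ideal A) : Set A) := by
    rw [← Module.support_eq_zeroLocus, Module.support_quotSMulTop, Module.support_eq_zeroLocus,
      hann, PrimeSpectrum.zeroLocus_sup, PrimeSpectrum.zeroLocus_span]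
  have h2 : (Module.annihilator A (QuotSMulTop t N)).radical = (p ⊔ Ideal.span {t}).radical :=
    (PrimeSpectrum.zeroLocus_eq_iff).mp h1
  rw [← Ideal.radical_minimalPrimes, h2, Ideal.radical_minimalPrimes]
  exact hq

end Groth.Agent.S5754
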