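import Groth.Statements.S5755
import Groth.Agent.Localalg.Depth2
import Mathlib.RingTheory.Ideal.AssociatedPrime.Localization
import Mathlib.RingTheory.Nilpotent.Lemmas

set_option autoImplicit false
universe u
open EGA41

namespace Groth.Agent.S5755

/-- A reduced Noetherian local ring A has depth 0 if and only if A is a field. -/
theorem result (A : Type u) [CommRing A] [IsLocalRing A]
    [IsNoetherianRing A] [IsReduced A] : LocCoh.depth A A = 0 ↔ IsField A := by
  have h0 : LocCoh.depth A A = 0 ↔ IsLocalRing.maximalIdeal A ∈ associatedPrimes A A := by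
    rw [LocCoh.depth, Groth.Agent.Localalg.Depth2.idealDepth_eq_zero_iff]
    constructor
    · rintro ⟨p, hp, hle⟩
      have h1 : p.IsPrime := hp.isPrime
      rwa [le_antisymm hle (IsLocalRing.le_maximalIdeal h1.ne_top)]
    · intro h
      exact ⟨_, h, le_rfl⟩
  rw [h0, IsLocalRing.isField_iff_maximalIdeal_eq]
  constructor
  · intro h
    obtain ⟨-, x, hx⟩ := isAssociatedPrime_iff.mp h
    have hx0 : x ≠ 0 := by
      rintro rfl
      have h1 : (1 : A) ∈ IsLocalRing.maximalIdeal A := by
        rw [hx, Submodule.mem_colon_singleton]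
        simp
      exact (Ideal.ne_top_iff_one _).mp (IsLocalRing.maximalIdeal.isMaximal A).ne_top h1
    have hxu : IsUnit x := by
      by_contra hxu
      have h1 : x ∈ IsLocalRing.maximalIdeal A := (IsLocalRing.mem_maximalIdeal _).mpr hxu
      rw [hx, Submodule.mem_colon_singleton] at h1
      have h2 : x * x = 0 := by simpa using h1
      exact hx0 (IsReduced.eq_zero x ⟨2, by rw [pow_two]; exact h2⟩)
    rw [eq_bot_iff]
    intro a ha
    rw [hx, Submodule.mem_colon_singleton] at ha
    have h2 : a * x = 0 := by simpa using ha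
    exact (Submodule.mem_bot _).mpr ((hxu.mul_left_eq_zero).mp h2)
  · intro h
    rw [AssociatedPrimes.mem_iff, isAssociatedPrime_iff]
    refine ⟨inferInstance, 1, ?_⟩
    rw [h]
    ext a
    simp [Submodule.mem_colon_singleton]

end Groth.Agent.S5755
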