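import Groth.Statements.S5759
import Groth.Agent.Ega4A.CMModule
import Groth.Agent.Ega4A.RegSeqFlat

set_option autoImplicit false
universe u
open EGA41

namespace Groth.Agent.S5759

/-- Let A be a Noetherian local ring and M a nonzero finitely generated A-module. Suppose that for every
sequence x_1, ..., x_r of elements of the maximal ideal which is part of a system of parameters for
M (i.e. dim(M/(x_1 M + ... + x_r M)) = dim(M) - r), every associated prime p of N = M/(x_1 M + ... +
x_r M) satisfies dim(A/p) = dim(N). Then M is a Cohen-Macaulay module. (The published convention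
also counts the zero module as Cohen-Macaulay; this row assumes M nonzero.) -/
theorem result (A : Type u) [CommRing A]
    [IsLocalRing A] [IsNoetherianRing A] (M : Type u) [AddCommGroup M] [Module A M] [Module.Finite A M]
    [Nontrivial M]
    (h : ∀ xs : List A, (∀ x ∈ xs, x ∈ IsLocalRing.maximalIdeal A) →
      Module.supportDim A (M ⧸ (Ideal.ofList xs • (⊤ : Submodule A M))) + xs.length = Module.supportDim A M →
        ∀ p ∈ associatedPrimes A (M ⧸ (Ideal.ofList xs • (⊤ : Submodule A M))),
          ringKrullDim (A ⧸ p) = Module.supportDim A (M ⧸ (Ideal.ofList xs • (⊤ : Submodule A M)))) :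
    LocCoh.IsCohenMacaulayModule A M := by
  suffices H : ∀ (n : ℕ) (M : Type u) [AddCommGroup M] [Module A M] [Module.Finite A M] [Nontrivial M],
      Module.supportDim A M = n →
      (∀ xs : List A, (∀ x ∈ xs, x ∈ IsLocalRing.maximalIdeal A) →
      Module.supportDim A (M ⧸ (Ideal.ofList xs • (⊤ : Submodule A M))) + xs.length = Module.supportDim A M →
        ∀ p ∈ associatedPrimes A (M ⧸ (Ideal.ofList xs • (⊤ : Submodule A M))),
          ringKrullDim (A ⧸ p) = Module.supportDim A (M ⧸ (Ideal.ofList xs • (⊤ : Submodule A M)))) →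
      LocCoh.IsCohenMacaulayModule A M by
    obtain ⟨n, hn⟩ := Groth.Agent.Ega4A.RegSeqFlat.exists_natCast_supportDim (R := A) (M := M)
    exact H n M hn h
  clear h
  intro n
  induction n with
  | zero =>
    intro M _ _ _ _ hn _
    apply Groth.Agent.Ega4A.CMModule.isCohenMacaulayModule_of_le
    rw [hn]
    exact WithBot.coe_le_coe.mpr zero_le
  | succ n ih =>
    intro M _ _ _ _ hn h
    have e0 : (M ⧸ (Ideal.ofList ([] : List A) • (⊤ : Submodule A M))) ≃ₗ[A] M :=
      Submodule.quotEquivOfEqBot _ (by rw [Ideal.ofList_nil, Submodule.bot_smul])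
    have h0 := h [] (by simp) (by rw [Module.supportDim_eq_of_equiv e0]; simp)
    rw [Module.supportDim_eq_of_equiv e0, LinearEquiv.AssociatedPrimes.eq e0] at h0
    obtain ⟨x, hx, hreg⟩ : ∃ x ∈ IsLocalRing.maximalIdeal A, IsSMulRegular M x := by
      by_contra hcon
      push Not at hcon
      obtain ⟨q, hq, hmq⟩ :=
        Groth.Agent.Ega4A.Depth.exists_associatedPrime_of_forall_not_isSMulRegular hcon
      have hqm : q = IsLocalRing.maximalIdeal A :=
        le_antisymm (IsLocalRing.le_maximalIdeal hq.isPrime.ne_top) hmq
      have h1 := h0 q hq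
      rw [hn, hqm] at h1
      have h2 : ringKrullDim (A ⧸ IsLocalRing.maximalIdeal A) = 0 := by
        have : IsField (A ⧸ IsLocalRing.maximalIdeal A) :=
          (Ideal.Quotient.maximal_ideal_iff_isField_quotient _).mp inferInstance
        exact ringKrullDim_eq_zero_of_isField this
      rw [h2] at h1
      exact absurd h1 (by exact_mod_cast (Nat.succ_ne_zero n).symm)
    have hnt : Nontrivial (QuotSMulTop x M) :=
      nontrivial_quotSMulTop_of_mem_maximalIdeal M hx
    rw [← Groth.Agent.Ega4A.CMModule.isCohenMacaulayModule_quotSMulTop_iff hx hreg]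
    have hdim := Module.supportDim_quotSMulTop_succ_eq_supportDim hreg hx
    have hn' : Module.supportDim A (QuotSMulTop x M) = n := by
      rw [hn] at hdim
      exact Groth.Agent.Ega4A.CMModule.withBot_add_one_inj.mp (by rw [hdim]; norm_cast)
    refine ih (QuotSMulTop x M) hn' ?_
    intro xs hxs hdx p hp
    have e := Submodule.quotOfListConsSMulTopEquivQuotSMulTopInner M x xs
    rw [← LinearEquiv.AssociatedPrimes.eq e] at hp
    rw [← Module.supportDim_eq_of_equiv e] at hdx ⊢
    refine h (x :: xs) ?_ ?_ p hp
    · intro y hy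
      rcases List.mem_cons.mp hy with rfl | hy
      · exact hx
      · exact hxs y hy
    · rw [← hdim, ← hdx]
      push_cast [List.length_cons]
      rw [add_assoc]

end Groth.Agent.S5759
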