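import Groth.Statements.S5760
import Groth.Agent.Ega4A.CMModule
import Groth.Agent.Ega4A.RegSeqFlat
import Groth.Agent.Localalg.Depth2
import Groth.Agent.Pi1A.RamSeq
import Groth.Agent.EGA41.K103.Supp

set_option autoImplicit false
universe u
open EGA41

namespace Groth.Agent.S5760

/-- Let A be a Noetherian local ring, M a nonzero finitely generated Cohen-Macaulay A-module, p a prime
ideal in the support of M and r the integer dim(M) - dim(M/pM). Then there exists an M-regular
sequence x_1, ..., x_r of elements of p; for every such sequence, dim(M/(x_1 M + ... + x_r M)) =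
dim(M/pM) = dim(A/p), and p is a minimal element of the set of associated primes of M/(x_1 M + ... +
x_r M). -/
theorem result (A : Type u) [CommRing A]
    [IsLocalRing A] [IsNoetherianRing A] (M : Type u) [AddCommGroup M] [Module A M] [Module.Finite A M]
    (hM : LocCoh.IsCohenMacaulayModule A M) (p : PrimeSpectrum A) (hp : p ∈ Module.support A M) (r : ℕ)
    (hr : Module.supportDim A (M ⧸ (p.asIdeal • (⊤ : Submodule A M))) + r = Module.supportDim A M) :
    (∃ xs : List A, xs.length = r ∧ (∀ x ∈ xs, x ∈ p.asIdeal) ∧ RingTheory.Sequence.IsWeaklyRegular M xs) ∧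
      ∀ xs : List A, xs.length = r → (∀ x ∈ xs, x ∈ p.asIdeal) → RingTheory.Sequence.IsWeaklyRegular M xs →
        Module.supportDim A (M ⧸ (Ideal.ofList xs • (⊤ : Submodule A M))) =
            Module.supportDim A (M ⧸ (p.asIdeal • (⊤ : Submodule A M))) ∧
          Module.supportDim A (M ⧸ (p.asIdeal • (⊤ : Submodule A M))) = ringKrullDim (A ⧸ p.asIdeal) ∧
          p.asIdeal ∈ associatedPrimes A (M ⧸ (Ideal.ofList xs • (⊤ : Submodule A M))) ∧
          ∀ q ∈ associatedPrimes A (M ⧸ (Ideal.ofList xs • (⊤ : Submodule A M))), q ≤ p.asIdeal → q = p.asIdeal := by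
  have hnt := Groth.Agent.CalgB.CM2.nontrivial_of_cm hM
  have hpm : p.asIdeal ≤ IsLocalRing.maximalIdeal A := IsLocalRing.le_maximalIdeal p.2.ne_top
  have hdimp : Module.supportDim A (M ⧸ (p.asIdeal • (⊤ : Submodule A M))) =
      ringKrullDim (A ⧸ p.asIdeal) := K103.Supp.supportDim_quotient_prime p.asIdeal hp
  have hfin : ∃ c : ℕ, Module.supportDim A (M ⧸ (p.asIdeal • (⊤ : Submodule A M))) = c := by
    have : Nontrivial (M ⧸ (p.asIdeal • (⊤ : Submodule A M))) :=
      Submodule.Quotient.nontrivial_iff.mpr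
        (Submodule.top_ne_ideal_smul_of_le_jacobson_annihilator
          (hpm.trans (IsLocalRing.maximalIdeal_le_jacobson _))).symm
    exact Groth.Agent.Ega4A.RegSeqFlat.exists_natCast_supportDim
  obtain ⟨c, hc⟩ := hfin
  obtain ⟨d, hd⟩ := Groth.Agent.Ega4A.RegSeqFlat.exists_natCast_supportDim (R := A) (M := M)
  have hcd : c + r = d := by
    rw [hc, hd] at hr
    exact_mod_cast hr
  constructor
  · have h1 := Groth.Agent.Localalg.Depth2.supportDim_eq_add_idealDepth_of_CM p.asIdeal p.2.ne_top M hM
    rw [hc, hd] at h1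
    have h2 : (r : ℕ∞) ≤ LocCoh.idealDepth p.asIdeal M := by
      have h3 : LocCoh.idealDepth p.asIdeal M ≠ ⊤ := by
        intro htop
        rw [htop] at h1
        have : (d : ℕ∞) = (c : ℕ∞) + ⊤ := by exact_mod_cast h1
        rw [add_top] at this
        exact ENat.coe_ne_top d this
      obtain ⟨k, hk⟩ := ENat.ne_top_iff_exists.mp h3
      rw [← hk] at h1 ⊢
      have : d = c + k := by exact_mod_cast h1
      have : r = k := by omega
      rw [this]
    have hne : p.asIdeal • (⊤ : Submodule A M) ≠ ⊤ :=
      (Submodule.top_ne_ideal_smul_of_le_jacobson_annihilator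
          (hpm.trans (IsLocalRing.maximalIdeal_le_jacobson _))).symm
    obtain ⟨rs, h3, h4, h5⟩ := (Groth.Agent.Ega4A.Depth.natCast_le_idealDepth_iff hne r).mp h2
    exact ⟨rs, h3, h4, h5⟩
  · intro xs hxl hxs hreg
    have hxs' : ∀ x ∈ xs, x ∈ IsLocalRing.maximalIdeal A := fun x hx => hpm (hxs x hx)
    have hCM := Groth.Agent.Pi1A.RamSeq.cm_quot_ofList hM xs hxs' hreg
    have h1 := Module.supportDim_add_length_eq_supportDim_of_isRegular xs
      ((IsLocalRing.isRegular_iff_isWeaklyRegular_of_subset_maximalIdeal hxs').mpr hreg)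
    have hntq := Groth.Agent.CalgB.CM2.nontrivial_of_cm hCM
    obtain ⟨e, he⟩ := Groth.Agent.Ega4A.RegSeqFlat.exists_natCast_supportDim (R := A)
      (M := M ⧸ (Ideal.ofList xs • (⊤ : Submodule A M)))
    have hec : e = c := by
      rw [he, hd, hxl] at h1
      have : e + r = d := by exact_mod_cast h1
      omega
    have hle : Ideal.ofList xs ≤ p.asIdeal := Ideal.span_le.mpr hxs
    have hps : p ∈ Module.support A (M ⧸ (Ideal.ofList xs • (⊤ : Submodule A M))) := by
      rw [Module.support_quotient]
      exact ⟨hp, hle⟩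
    have hdimN : Module.supportDim A (M ⧸ (Ideal.ofList xs • (⊤ : Submodule A M))) =
        ringKrullDim (A ⧸ p.asIdeal) := by
      rw [he, hec, ← hc, hdimp]
    have hmin : ∀ q ∈ associatedPrimes A (M ⧸ (Ideal.ofList xs • (⊤ : Submodule A M))),
        q ≤ p.asIdeal → q = p.asIdeal := by
      intro q hq hqp
      have hqpr := hq.isPrime
      have h2 := Groth.Agent.Ega4A.CMModule.ringKrullDim_quotient_eq_supportDim hCM hq
      rcases hqp.eq_or_lt with h | h
      · exact h
      · exfalso
        have h3 := Groth.Agent.Ega4A.Depth.ringKrullDim_quotient_add_one_le_of_lt h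
        rw [h2, ← hdimN, he] at h3
        have : e + 1 ≤ e := by exact_mod_cast h3
        omega
    refine ⟨?_, hdimp, ?_, hmin⟩
    · rw [he, hec, hc]
    · have hann : Module.annihilator A (M ⧸ (Ideal.ofList xs • (⊤ : Submodule A M))) ≤ p.asIdeal := by
        rwa [Module.mem_support_iff_of_finite] at hps
      obtain ⟨q, hq, hqp⟩ := Ideal.exists_minimalPrimes_le hann
      have hq' := Module.associatedPrimes.minimalPrimes_annihilator_subset_associatedPrimes A _ hq
      exact hmin q hq' hqp ▸ hq'

end Groth.Agent.S5760
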