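import Groth.Statements.S5762
import Groth.Agent.Ega4A.CMModule
import Groth.Agent.EGA41.K103.Supp

set_option autoImplicit false
universe u
open EGA41

namespace Groth.Agent.S5762

/-- Let A be a Noetherian local ring, M a nonzero finitely generated Cohen-Macaulay A-module and p a
prime ideal in the support of M. Then dim(M) = dim_A(M/pM) + dim_{A_p}(M_p). -/
theorem result (A : Type u) [CommRing A]
    [IsLocalRing A] [IsNoetherianRing A] (M : Type u) [AddCommGroup M] [Module A M] [Module.Finite A M]
    (hM : LocCoh.IsCohenMacaulayModule A M) (p : PrimeSpectrum A) (hp : p ∈ Module.support A M) :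
    Module.supportDim A M =
      Module.supportDim A (M ⧸ (p.asIdeal • (⊤ : Submodule A M))) +
        Module.supportDim (Localization.AtPrime p.asIdeal) (LocalizedModule p.asIdeal.primeCompl M) := by
  have hnt : Nontrivial (LocalizedModule p.asIdeal.primeCompl M) := hp
  have hM0 : Nontrivial M := Groth.Agent.Ega4A.CMModule.nontrivial_of_isCohenMacaulayModule hM
  rw [K103.Supp.supportDim_quotient_prime p.asIdeal hp, add_comm]
  apply le_antisymm
  · calc Module.supportDim A M = ((LocCoh.depth A M : ℕ∞) : WithBot ℕ∞) := hM
      _ ≤ _ := Groth.Agent.Ega4A.Depth.depth_le_depth_localizedModule_add (M := M) p.asIdeal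
      _ ≤ _ := by
        gcongr
        exact Groth.Agent.Ega4A.CMModule.depth_le_supportDim
  · exact Groth.Agent.Ega4A.Depth.supportDim_localizedModule_add_le (M := M) p.asIdeal

end Groth.Agent.S5762
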