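import Groth.Statements.S5764
import Mathlib.RingTheory.Ideal.Height
import Mathlib.RingTheory.Ideal.GoingDown
import Mathlib.RingTheory.IntegralClosure.GoingDown
import Mathlib.RingTheory.Ideal.KrullsHeightTheorem

set_option autoImplicit false
universe u
open EGA41

namespace Groth.Agent.S5764

/-- Let B be an integral domain, A a local subring of B which is integrally closed (in its field of
fractions), and suppose B is integral over A. Then dim(B_n) = dim(A) for every maximal ideal n of B. -/
theorem result (A B : Type u) [CommRing A]
    [CommRing B] [IsDomain B] [Algebra A B] (hinj : Function.Injective (algebraMap A B)) [IsDomain A]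
    [IsLocalRing A] [IsIntegrallyClosed A] [Algebra.IsIntegral A B] (n : Ideal B) [n.IsMaximal] :
    ringKrullDim (Localization.AtPrime n) = ringKrullDim A := by
  have hfs : FaithfulSMul A B := (faithfulSMul_iff_algebraMap_injective A B).mpr hinj
  have hmax : (n.comap (algebraMap A B)).IsMaximal := Ideal.isMaximal_comap_of_isIntegral_of_isMaximal n
  have hcm : n.comap (algebraMap A B) = IsLocalRing.maximalIdeal A := IsLocalRing.eq_maximalIdeal hmax
  have hlo : n.LiesOver (IsLocalRing.maximalIdeal A) := ⟨hcm.symm⟩
  rw [IsLocalization.AtPrime.ringKrullDim_eq_height n, ← IsLocalRing.maximalIdeal_height_eq_ringKrullDim]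
  congr 1
  rw [show n.height = _ from PrimeSpectrum.height_eq_orderHeight ⟨n, inferInstance⟩,
    show (IsLocalRing.maximalIdeal A).height = _ from
      PrimeSpectrum.height_eq_orderHeight ⟨IsLocalRing.maximalIdeal A, inferInstance⟩]
  apply le_antisymm
  · have h1 : (⟨IsLocalRing.maximalIdeal A, inferInstance⟩ : PrimeSpectrum A) =
        PrimeSpectrum.comap (algebraMap A B) ⟨n, inferInstance⟩ := PrimeSpectrum.ext hcm.symm
    rw [h1]
    refine Order.height_le_height_apply_of_strictMono (PrimeSpectrum.comap (algebraMap A B)) ?_ _
    intro P Q hPQ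
    exact Ideal.IsIntegral.comap_lt_comap (R := A) (I := P.asIdeal) (J := Q.asIdeal) hPQ
  · refine Order.height_le fun l hl => ?_
    have hlo' : n.LiesOver l.last.asIdeal := by rw [hl]; exact hlo
    obtain ⟨L, hL, hL2, -⟩ := Ideal.exists_ltSeries_of_hasGoingDown l n
    rw [← hL]
    exact Order.length_le_height (by rw [hL2])

end Groth.Agent.S5764
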