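import Groth.Statements.S5766
import Groth.Agent.FlatA.DimFin
import Groth.Agent.Ega4B.DimFinite

set_option autoImplicit false
universe u
open EGA41

namespace Groth.Agent.S5766

/-- Let A be a Noetherian ring, ρ : A → B a ring homomorphism and M a B-module which is finitely
generated as an A-module via ρ. Then the dimension of M as an A-module equals its dimension as a
B-module. -/
theorem result (A B : Type u) [CommRing A] [CommRing B] [IsNoetherianRing A]
    [Algebra A B] (M : Type u) [AddCommGroup M] [Module B M] [Module A M] [IsScalarTower A B M]
    [Module.Finite A M] : Module.supportDim A M = Module.supportDim B M := by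
  have hfB : Module.Finite B M := Module.Finite.of_restrictScalars_finite A B M
  rw [Module.supportDim_eq_ringKrullDim_quotient_annihilator,
    Module.supportDim_eq_ringKrullDim_quotient_annihilator]
  have hfin := Groth.Agent.Ega4B.DimFinite.finite_quotient_annihilator (A := A) (B := B) M
  have hcomap := Groth.Agent.Ega4B.DimFinite.comap_annihilator (A := A) (B := B) M
  let φ : A ⧸ Module.annihilator A M →+* B ⧸ Module.annihilator B M :=
    Ideal.quotientMap (Module.annihilator B M) (algebraMap A B) hcomap.ge
  have hφ : Function.Injective φ := Ideal.quotientMap_injective' hcomap.le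
  have hint : φ.IsIntegral := by
    intro b
    have h1 : ((algebraMap A (B ⧸ Module.annihilator B M))).IsIntegralElem b :=
      Algebra.IsIntegral.isIntegral b
    have h2 : algebraMap A (B ⧸ Module.annihilator B M) =
        φ.comp (Ideal.Quotient.mk (Module.annihilator A M)) := by
      ext a
      rfl
    rw [h2] at h1
    exact RingHom.IsIntegralElem.of_comp h1
  let := φ.toAlgebra
  have : Algebra.IsIntegral (A ⧸ Module.annihilator A M) (B ⧸ Module.annihilator B M) := ⟨hint⟩
  exact (Groth.Agent.FlatA.DimFin.ringKrullDim_eq_of_isIntegral_of_injective _ _ hφ).symm

end Groth.Agent.S5766
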