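import Groth.Statements.S5767
import Groth.Agent.S3406
import Groth.Agent.CalgB.SuppDim

set_option autoImplicit false
universe u
open EGA41

namespace Groth.Agent.S5767

/-- Let A be a semi-local Noetherian ring, M a finitely generated A-module and x an element of the
Jacobson radical of A. One always has dim(M/xM) ≥ dim(M) - 1; equality dim(M/xM) = dim(M) - 1 holds
if and only if x belongs to none of the prime ideals p of Supp(M) with dim(A/p) = dim(M). Stated as:
dim(M/xM) + 1 = dim(M) iff x avoids those primes. -/
theorem result (A : Type u) [CommRing A] [IsNoetherianRing A]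
    [Finite (MaximalSpectrum A)] (M : Type u) [AddCommGroup M] [Module A M] [Module.Finite A M] (x : A)
    (hx : x ∈ Ring.jacobson A) :
    Module.supportDim A (QuotSMulTop x M) + 1 = Module.supportDim A M ↔
      ∀ p : PrimeSpectrum A, p ∈ Module.support A M →
        ringKrullDim (A ⧸ p.asIdeal) = Module.supportDim A M → x ∉ p.asIdeal := by
  cases subsingleton_or_nontrivial M with
  | inl hs =>
    have h1 : Module.support A M = ∅ := Module.support_eq_empty
    constructor
    · intro _ p hp
      rw [h1] at hp
      exact hp.elim
    · intro _
      have : Subsingleton (QuotSMulTop x M) :=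
        Function.Surjective.subsingleton (Submodule.Quotient.mk_surjective _)
      rw [Module.supportDim_eq_bot_of_subsingleton, Module.supportDim_eq_bot_of_subsingleton,
        WithBot.bot_add]
  | inr hnt =>
    have hnat : ∀ (N : Type u) [AddCommGroup N] [Module A N] [Nontrivial N],
        ∃ n : ℕ, Module.supportDim A N = n := by
      intro N _ _ _
      have h1 : Module.supportDim A N ≠ ⊥ := Module.supportDim_ne_bot_of_nontrivial A N
      have h2 : Module.supportDim A N ≠ ⊤ :=
        ((Module.supportDim_le_ringKrullDim A N).trans_lt
          Groth.Agent.S3406.ringKrullDim_lt_top_of_semilocal).ne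
      lift Module.supportDim A N to ℕ∞ using h1 with a ha
      have h3 : a ≠ ⊤ := by
        rintro rfl
        exact h2 rfl
      lift a to ℕ using h3
      exact ⟨a, rfl⟩
    have hxj : x ∈ (Module.annihilator A M).jacobson :=
      (Module.annihilator A M).ringJacobson_le_jacobson hx
    have hnt' : Nontrivial (QuotSMulTop x M) := by
      refine Submodule.Quotient.nontrivial_iff.mpr ?_
      rw [← Submodule.ideal_span_singleton_smul]
      exact (Submodule.top_ne_ideal_smul_of_le_jacobson_annihilator
        ((Ideal.span_singleton_le_iff_mem _).mpr hxj)).symm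
    obtain ⟨d, hd⟩ := hnat M
    obtain ⟨e, he⟩ := hnat (QuotSMulTop x M)
    constructor
    · intro h p hp hdim hxp
      have h1 : p ∈ Module.support A (QuotSMulTop x M) := by
        rw [Module.support_quotSMulTop]
        exact ⟨hp, by simpa using hxp⟩
      have h2 := Groth.Agent.CalgB.SuppDim.ringKrullDim_le_supportDim h1
      rw [hdim, hd, he] at h2
      rw [hd, he] at h
      have h3 : e + 1 = d := by exact_mod_cast h
      have h4 : d ≤ e := by exact_mod_cast h2
      omega
    · intro h
      have h1 := Module.supportDim_le_supportDim_quotSMulTop_succ_of_mem_jacobson hxj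
      obtain ⟨p, hp, hpe⟩ := Groth.Agent.CalgB.SuppDim.exists_le_dim (R := A)
        (M := QuotSMulTop x M) he.ge
      rw [Module.support_quotSMulTop] at hp
      have hxp : x ∈ p.asIdeal := by simpa using hp.2
      have h2 := Groth.Agent.CalgB.SuppDim.ringKrullDim_le_supportDim hp.1
      have h3 : ringKrullDim (A ⧸ p.asIdeal) ≠ Module.supportDim A M := fun h4 => h p hp.1 h4 hxp
      have h4 := lt_of_le_of_lt hpe (lt_of_le_of_ne h2 h3)
      rw [hd] at h4 h1 ⊢
      rw [he] at h1 ⊢
      have h5 : e < d := by exact_mod_cast h4
      have h6 : d ≤ e + 1 := by exact_mod_cast h1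
      have h7 : e + 1 = d := by omega
      exact_mod_cast h7

end Groth.Agent.S5767
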