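import Groth.Statements.S5768
import Groth.Agent.S3406
import Groth.Agent.EGA41.K103.Supp

set_option autoImplicit false
universe u
open EGA41

namespace Groth.Agent.S5768

/-- Let A be a semi-local Noetherian ring with Jacobson radical r, M a nonzero finitely generated
A-module and x_1, ..., x_k elements of r. One always has dim(M/(x_1 M + ... + x_k M)) ≥ dim(M) - k,
and equality holds if and only if there exist further elements of r which together with the x_i form
a system of parameters for M (dim(M) elements of r modulo which M has finite length). -/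
theorem result (A : Type u) [CommRing A]
    [IsNoetherianRing A] [Finite (MaximalSpectrum A)] (M : Type u) [AddCommGroup M] [Module A M]
    [Module.Finite A M] [Nontrivial M] (xs : List A) (hxs : ∀ x ∈ xs, x ∈ Ring.jacobson A) :
    Module.supportDim A (M ⧸ (Ideal.ofList xs • (⊤ : Submodule A M))) + xs.length = Module.supportDim A M ↔
      ∃ ys : List A, (∀ y ∈ ys, y ∈ Ring.jacobson A) ∧
        ((xs ++ ys).length : WithBot ℕ∞) = Module.supportDim A M ∧
        IsFiniteLength A (M ⧸ (Ideal.ofList (xs ++ ys) • (⊤ : Submodule A M))) := by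
  have hnat : ∀ (N : Type u) [AddCommGroup N] [Module A N] [Nontrivial N],
      ∃ n : ℕ, Module.supportDim A N = n := by
    intro N _ _ _
    have h1 : Module.supportDim A N ≠ ⊥ := Module.supportDim_ne_bot_of_nontrivial A N
    have h2 : Module.supportDim A N ≠ ⊤ :=
      ((Module.supportDim_le_ringKrullDim A N).trans_lt
        Groth.Agent.S3406.ringKrullDim_lt_top_of_semilocal).ne
    lift Module.supportDim A N to ℕ∞ using h1 with a ha
    have h3 : a ≠ ⊤ := by
      rintro rfl
      exact h2 rfl
    lift a to ℕ using h3
    exact ⟨a, rfl⟩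
  have hle : Ideal.ofList xs ≤ Ring.jacobson A := Ideal.span_le.mpr hxs
  have hntq : Nontrivial (M ⧸ (Ideal.ofList xs • (⊤ : Submodule A M))) :=
    Submodule.Quotient.nontrivial_iff.mpr
        (Submodule.top_ne_ideal_smul_of_le_jacobson_annihilator
          (hle.trans (Module.annihilator A M).ringJacobson_le_jacobson)).symm
  obtain ⟨d, hd⟩ := hnat M
  obtain ⟨e, he⟩ := hnat (M ⧸ (Ideal.ofList xs • (⊤ : Submodule A M)))
  have h0 := Groth.Agent.S3406.supportDim_le_add_length xs hxs M
  rw [hd, he] at h0 ⊢
  have h0' : d ≤ e + xs.length := by exact_mod_cast h0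
  have hsupp : ∀ ys : List A, Module.supportDim A (M ⧸ (Ideal.ofList (xs ++ ys) • (⊤ : Submodule A M))) =
      Module.supportDim A ((M ⧸ (Ideal.ofList xs • (⊤ : Submodule A M))) ⧸
        (Ideal.ofList ys • (⊤ : Submodule A (M ⧸ (Ideal.ofList xs • (⊤ : Submodule A M)))))) := by
    intro ys
    apply K103.Supp.supportDim_congr_support
    rw [Module.support_quotient, Module.support_quotient, Module.support_quotient,
      Ideal.ofList_append, PrimeSpectrum.zeroLocus_sup, Set.inter_assoc]
  constructor
  · intro h
    have h' : e + xs.length = d := by exact_mod_cast h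
    obtain ⟨ys, hl, hys, hfl⟩ := Groth.Agent.S3406.exists_list e
      (M ⧸ (Ideal.ofList xs • (⊤ : Submodule A M))) he.le
    refine ⟨ys, hys, ?_, ?_⟩
    · rw [List.length_append, hl]
      exact_mod_cast (by omega : xs.length + e = d)
    · apply Groth.Agent.S3406.isFiniteLength_of_supportDim_le_zero
      rw [hsupp]
      exact Groth.Agent.S3406.supportDim_le_zero_of_isFiniteLength hfl
  · rintro ⟨ys, hys, hl, hfl⟩
    have h1 := Groth.Agent.S3406.supportDim_le_zero_of_isFiniteLength hfl
    rw [hsupp] at h1
    have h2 := Groth.Agent.S3406.supportDim_le_add_length ys hys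
      (M ⧸ (Ideal.ofList xs • (⊤ : Submodule A M)))
    have h3 : Module.supportDim A (M ⧸ (Ideal.ofList xs • (⊤ : Submodule A M))) ≤ 0 + ys.length :=
      h2.trans (add_le_add h1 le_rfl)
    rw [he, zero_add] at h3
    have h4 : e ≤ ys.length := by exact_mod_cast h3
    rw [List.length_append] at hl
    have h5 : xs.length + ys.length = d := by exact_mod_cast hl
    exact_mod_cast (by omega : e + xs.length = d)

end Groth.Agent.S5768
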