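import Groth.Statements.S5776
import Groth.Agent.Smoothlim.PowRegular

set_option autoImplicit false
universe u
open EGA41

namespace Groth.Agent.S5776

/-- Let A be a ring, M an A-module and (f_i)_{1 ≤ i ≤ n} an M-regular sequence of elements of A. Then
for any exponents v_i ≥ 1 the sequence (f_i ^ v_i) is again M-regular. -/
theorem result (A : Type u) [CommRing A] (M : Type u) [AddCommGroup M]
    [Module A M] (n : ℕ) (f : Fin n → A) (v : Fin n → ℕ) (hv : ∀ i, 1 ≤ v i)
    (hf : RingTheory.Sequence.IsWeaklyRegular M (List.ofFn f)) :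
    RingTheory.Sequence.IsWeaklyRegular M (List.ofFn fun i => f i ^ v i) := by
  rw [List.ofFn_eq_map] at hf ⊢
  suffices H : ∀ (l : List (Fin n)) (N : Type u) [AddCommGroup N] [Module A N],
      RingTheory.Sequence.IsWeaklyRegular N (l.map f) →
      RingTheory.Sequence.IsWeaklyRegular N (l.map fun i => f i ^ v i) from H _ M hf
  intro l
  induction l with
  | nil => intro N _ _ _; exact .nil _ _
  | cons i l ih =>
    intro N _ _ h
    rw [List.map_cons, RingTheory.Sequence.isWeaklyRegular_cons_iff] at h ⊢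
    obtain ⟨k, hk⟩ := Nat.exists_eq_succ_of_ne_zero (Nat.one_le_iff_ne_zero.mp (hv i))
    rw [hk]
    exact ⟨h.1.pow (k + 1),
      Groth.Agent.Smoothlim.PowRegular.isWeaklyRegular_quotSMulTop_pow h.1 (ih _ h.2) k⟩

end Groth.Agent.S5776
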