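import Groth.Statements.S5777
import Groth.Agent.Flat2E.LocalCrit
import Groth.Agent.Ega4A.RegSeqFlat
import Mathlib.LinearAlgebra.TensorProduct.Quotient

set_option autoImplicit false
universe u
open EGA41

namespace Groth.Agent.S5777

open TensorProduct in
/-- auxiliary form of the statement -/
theorem aux (A B : Type u) [CommRing A] [CommRing B]
    [IsLocalRing A] [IsLocalRing B] [IsNoetherianRing A] [IsNoetherianRing B] [Algebra A B]
    [IsLocalHom (algebraMap A B)] (M : Type u) [AddCommGroup M] [Module B M] [Module A M]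
    [IsScalarTower A B M] [Module.Finite B M] (fs : List A) (hfs : ∀ f ∈ fs, f ∈ IsLocalRing.maximalIdeal A)
    (hA : RingTheory.Sequence.IsWeaklyRegular A fs) :
    Module.Flat A M ↔
      Module.Flat (A ⧸ Ideal.ofList fs) (M ⧸ (Ideal.ofList fs • (⊤ : Submodule A M))) ∧
        RingTheory.Sequence.IsWeaklyRegular M fs := by
  let J : Ideal A := Ideal.ofList fs
  have e : ((A ⧸ J) ⊗[A] M) ≃ₗ[A] M ⧸ (J • (⊤ : Submodule A M)) := quotTensorEquivQuotSMul M J
  have e' : ((A ⧸ J) ⊗[A] M) ≃ₗ[A ⧸ J] M ⧸ (J • (⊤ : Submodule A M)) :=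
    e.extendScalarsOfSurjective Ideal.Quotient.mk_surjective
  constructor
  · intro hM
    constructor
    · exact Module.Flat.of_linearEquiv e'.symm
    · exact ((TensorProduct.rid A M).isWeaklyRegular_congr fs).mp (hA.isWeaklyRegular_lTensor (M₂ := M))
  · rintro ⟨h1, h2⟩
    have hJ : J.map (algebraMap A B) ≤ (⊥ : Ideal B).jacobson := by
      refine le_trans ?_ (IsLocalRing.maximalIdeal_le_jacobson _)
      exact (Ideal.map_mono (Ideal.span_le.mpr hfs)).trans (IsLocalRing.map_maximalIdeal_le _)
    exact Groth.Agent.Flat2E.LocalCrit.flat_of_rTensor_injective (S := B) J hJ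
      (Groth.Agent.Ega4A.RegSeqFlat.rTensor_subtype_injective_of_isWeaklyRegular h2)
      (Module.Flat.of_linearEquiv e')

/-- Let φ : A → B be a local homomorphism of Noetherian local rings, M a finitely generated B-module and
(f_i)_{1 ≤ i ≤ n} an A-regular sequence of elements of the maximal ideal of A, generating the ideal
J. Then M is flat over A if and only if M/JM is flat over A/J and (f_i) is an M-regular sequence. -/
theorem result (A B : Type u) [CommRing A] [CommRing B]
    [IsLocalRing A] [IsLocalRing B] [IsNoetherianRing A] [IsNoetherianRing B] [Algebra A B]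
    [IsLocalHom (algebraMap A B)] (M : Type u) [AddCommGroup M] [Module B M] [Module A M]
    [IsScalarTower A B M] [Module.Finite B M] (fs : List A) (hfs : ∀ f ∈ fs, f ∈ IsLocalRing.maximalIdeal A)
    (hA : RingTheory.Sequence.IsWeaklyRegular A fs) :
    Module.Flat A M ↔
      Module.Flat (A ⧸ Ideal.ofList fs) (M ⧸ (Ideal.ofList fs • (⊤ : Submodule A M))) ∧
        RingTheory.Sequence.IsWeaklyRegular M fs := by
  exact aux A B M fs hfs hA

end Groth.Agent.S5777
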