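import Groth.Statements.S5780
import Groth.Agent.CalgA.RegBasic
import Mathlib.RingTheory.Ideal.AssociatedPrime.Finiteness

set_option autoImplicit false
universe u
open EGA41

namespace Groth.Agent.S5780

/-- Let A be a Noetherian local ring with maximal ideal m. If every element of m which is not in m² is a
zero divisor in A, then there is a nonzero c in A with c m = 0, i.e. m is an associated prime of A. -/
theorem result (A : Type u) [CommRing A]
    [IsLocalRing A] [IsNoetherianRing A]
    (h : ∀ a ∈ IsLocalRing.maximalIdeal A, a ∉ IsLocalRing.maximalIdeal A ^ 2 → ¬ IsSMulRegular A a) :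
    IsLocalRing.maximalIdeal A ∈ associatedPrimes A A := by
  by_contra hcon
  by_cases hm : IsLocalRing.maximalIdeal A = ⊥
  · obtain ⟨p, hp⟩ := associatedPrimes.nonempty A A
    have hp' : p.IsPrime := hp.isPrime
    have : p = IsLocalRing.maximalIdeal A :=
      le_antisymm (IsLocalRing.le_maximalIdeal hp'.ne_top) (by rw [hm]; exact bot_le)
    exact hcon (this ▸ hp)
  · obtain ⟨x, hx, hx2, hxp⟩ := Groth.Agent.CalgA.RegBasic.exists_notMem_sq_notMem_minimalPrimes
      (associatedPrimes A A) (associatedPrimes.finite A A) (fun p hp => hp.isPrime)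
      (fun p hp h => hcon (h ▸ hp)) hm
    refine h x hx hx2 ?_
    by_contra hreg
    have hmem : x ∈ ⋃ p ∈ associatedPrimes A A, (p : Set A) := by
      rw [biUnion_associatedPrimes_eq_compl_regular A A]
      exact hreg
    obtain ⟨p, hp, hxp'⟩ := Set.mem_iUnion₂.mp hmem
    exact hxp p hp hxp'

end Groth.Agent.S5780
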