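import Groth.Statements.S5782
import Groth.Agent.Models.PdQuot
import Mathlib.RingTheory.QuotSMulTop

set_option autoImplicit false
universe u
open CategoryTheory
open EGA41

namespace Groth.Agent.S5782

/-- Let A be a Noetherian local ring with maximal ideal m, E a finitely generated A-module of finite
projective dimension, and a ∈ m an element which is A-regular and E-regular. Then E/aE, as a module
over A/aA, has finite projective dimension at most the projective dimension of E over A. -/
theorem result (A : Type u) [CommRing A] [IsLocalRing A]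
    [IsNoetherianRing A] (E : Type u) [AddCommGroup E] [Module A E] [Module.Finite A E]
    (hfin : projectiveDimension (ModuleCat.of A E) ≠ ⊤) (a : A) (ha : a ∈ IsLocalRing.maximalIdeal A)
    (hA : IsSMulRegular A a) (hE : IsSMulRegular E a) :
    projectiveDimension (ModuleCat.of (A ⧸ Ideal.span {a}) (E ⧸ (Ideal.span {a} • (⊤ : Submodule A E)))) ≤
      projectiveDimension (ModuleCat.of A E) := by
  have e : (QuotSMulTop a E) ≃ₗ[A] (E ⧸ (Ideal.span {a} • (⊤ : Submodule A E))) :=
    Submodule.quotEquivOfEq _ _ (Submodule.ideal_span_singleton_smul a ⊤).symm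
  have e' : (QuotSMulTop a E) ≃ₗ[A ⧸ Ideal.span {a}] (E ⧸ (Ideal.span {a} • (⊤ : Submodule A E))) :=
    e.extendScalarsOfSurjective Ideal.Quotient.mk_surjective
  rw [← projectiveDimension_eq_of_iso e'.toModuleIso]
  have key : ∀ n : ℕ, projectiveDimension (ModuleCat.of A E) < n →
      projectiveDimension (ModuleCat.of (A ⧸ Ideal.span {a}) (QuotSMulTop a E)) < n := by
    intro n hn
    rw [projectiveDimension_lt_iff] at hn ⊢
    exact Groth.Agent.Models.PdQuot.quotSMulTop_hasProjectiveDimensionLT a hA n (ModuleCat.of A E) hE
  generalize projectiveDimension (ModuleCat.of (A ⧸ Ideal.span {a}) (QuotSMulTop a E)) = y at key ⊢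
  generalize projectiveDimension (ModuleCat.of A E) = x at key hfin ⊢
  induction x with
  | bot =>
    have h := key 0 (by exact_mod_cast WithBot.bot_lt_coe (0 : ℕ∞))
    induction y with
    | bot => exact le_rfl
    | coe y =>
      exfalso
      have : y < 0 := by exact_mod_cast h
      exact not_lt_bot this
  | coe x =>
    have hx : x ≠ ⊤ := fun h => hfin (by rw [h]; rfl)
    lift x to ℕ using hx
    have h := key (x + 1) (by exact_mod_cast Nat.lt_succ_self x)
    induction y with
    | bot => exact bot_le
    | coe y =>
      have h1 : y < (x : ℕ∞) + 1 := by exact_mod_cast h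
      have h2 : y ≤ (x : ℕ∞) := (ENat.lt_add_one_iff (ENat.natCast_ne_top x)).mp h1
      exact_mod_cast h2

end Groth.Agent.S5782
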