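import Groth.Statements.S5783
import Groth.Agent.Ega4A.RegSeqFlat
import Groth.Agent.Ega4A.CMModule
import Groth.Agent.CalgA.RegBasic
import Groth.Agent.FlatA.DimFin
import Groth.Agent.S5766
import Mathlib.RingTheory.Regular.Flat

set_option autoImplicit false
universe u
open EGA41

namespace Groth.Agent.S5783

/-- Let A be a regular local ring, B a local ring and ρ : A → B a local homomorphism making B a finitely
generated A-module. Then B is a free A-module if and only if B is a Cohen-Macaulay ring and ρ is
injective (the latter being equivalent to dim(B) = dim(A)). -/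
theorem result (A B : Type u) [CommRing A] [CommRing B]
    [IsRegularLocalRing A] [IsLocalRing B] [Algebra A B] [IsLocalHom (algebraMap A B)] [Module.Finite A B] :
    Module.Free A B ↔ LocCoh.IsCohenMacaulayLocalRing B ∧ Function.Injective (algebraMap A B) := by
  have hNA : IsNoetherianRing A := inferInstance
  have hNB : IsNoetherianRing B := IsNoetherianRing.of_finite A B
  obtain ⟨d, hd⟩ := Groth.Agent.CalgA.RegBasic.ringKrullDim_eq_natCast A
  constructor
  · intro hfree
    have hinj : Function.Injective (algebraMap A B) :=
      FaithfulSMul.algebraMap_injective A B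
    refine ⟨⟨?_⟩, hinj⟩
    have hdimB : ringKrullDim B = d := by
      rw [Groth.Agent.FlatA.DimFin.ringKrullDim_eq_of_isIntegral_of_injective A B hinj, hd]
    obtain ⟨s, hs1, hs2⟩ : ∃ s : Finset A, s.card = d ∧ Ideal.span (s : Set A) = IsLocalRing.maximalIdeal A := by
      have hreg := IsRegularLocalRing.spanFinrank_maximalIdeal (R := A)
      have hfin : (IsLocalRing.maximalIdeal A).spanFinrank = d := by
        rw [hd] at hreg; exact_mod_cast hreg
      have hfg : (IsLocalRing.maximalIdeal A).FG := (IsLocalRing.maximalIdeal A).fg_of_isNoetherianRing
      have hf := Submodule.FG.finite_generators hfg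
      refine ⟨hf.toFinset, ?_, ?_⟩
      · rw [← Set.ncard_eq_toFinset_card _ hf, ← hfin]
        exact Submodule.FG.generators_ncard hfg
      · rw [Set.Finite.coe_toFinset]
        exact Submodule.span_generators _
    have hrs : Ideal.ofList s.toList = IsLocalRing.maximalIdeal A := by
      rw [← hs2, Ideal.ofList]
      congr 1
      ext x
      simp
    have hreg := Groth.Agent.CalgA.RegBasic.isRegular_of_ofList_eq d A s.toList (by simp [hs1]) hd hrs
    have hregB : RingTheory.Sequence.IsWeaklyRegular B (s.toList.map (algebraMap A B)) :=
      hreg.toIsWeaklyRegular.of_flat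
    apply Groth.Agent.Ega4A.CMModule.isCohenMacaulayModule_of_le
    rw [Module.supportDim_self_eq_ringKrullDim, hdimB]
    have h1 : ((s.toList.map (algebraMap A B)).length : ℕ∞) ≤ LocCoh.depth B B :=
      Groth.Agent.Ega4A.Depth.length_le_idealDepth hregB (by
        intro r hr
        obtain ⟨x, hx, rfl⟩ := List.mem_map.mp hr
        have hx' : x ∈ IsLocalRing.maximalIdeal A := by
          rw [← hs2]
          exact Ideal.subset_span (by simpa using hx)
        exact IsLocalRing.map_maximalIdeal_le (algebraMap A B) (Ideal.mem_map_of_mem _ hx'))
    rw [List.length_map, Finset.length_toList, hs1] at h1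
    exact WithBot.coe_le_coe.mpr h1
  · rintro ⟨hCM, hinj⟩
    have hdimB : ringKrullDim B = d := by
      rw [Groth.Agent.FlatA.DimFin.ringKrullDim_eq_of_isIntegral_of_injective A B hinj, hd]
    have hflat : Module.Flat A B := by
      apply Groth.Agent.Ega4A.RegSeqFlat.flat_of_isCohenMacaulay_of_supportDim_eq (B := B)
        hCM.supportDim_eq_depth
      have h0 : Module.supportDim B (B ⧸ (EGA4.mB A B • (⊤ : Submodule B B))) = 0 := by
        have hnt : Nontrivial (B ⧸ (EGA4.mB A B • (⊤ : Submodule B B))) :=
          Submodule.Quotient.nontrivial_iff.mpr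
            (Submodule.top_ne_ideal_smul_of_le_jacobson_annihilator
              ((IsLocalRing.map_maximalIdeal_le _).trans (IsLocalRing.maximalIdeal_le_jacobson _))).symm
        rw [← Groth.Agent.S5766.result A B (B ⧸ (EGA4.mB A B • (⊤ : Submodule B B))),
          Module.supportDim_eq_ringKrullDim_quotient_annihilator]
        have hann : Module.annihilator A (B ⧸ (EGA4.mB A B • (⊤ : Submodule B B))) =
            IsLocalRing.maximalIdeal A := by
          apply le_antisymm
          · apply IsLocalRing.le_maximalIdeal
            rw [Ne, Module.annihilator_eq_top_iff, not_subsingleton_iff_nontrivial]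
            exact hnt
          · intro x hx
            rw [Module.mem_annihilator]
            intro z
            obtain ⟨b, rfl⟩ := Submodule.mkQ_surjective _ z
            rw [← algebraMap_smul B x, ← map_smul, Submodule.mkQ_apply, Submodule.Quotient.mk_eq_zero]
            exact Submodule.smul_mem_smul (Ideal.mem_map_of_mem _ hx) trivial
        rw [hann]
        exact ringKrullDim_eq_zero_of_isField
          ((Ideal.Quotient.maximal_ideal_iff_isField_quotient _).mp inferInstance)
      rw [h0, add_zero, Module.supportDim_self_eq_ringKrullDim, hdimB, hd]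
    exact Module.free_of_flat_of_isLocalRing

end Groth.Agent.S5783
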