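import Groth.Statements.S5789
import Groth.Agent.Localalg.InjDim
import Mathlib.RingTheory.Regular.ProjectiveDimension

set_option autoImplicit false
universe u
open CategoryTheory
open EGA41

namespace Groth.Agent.S5789

open Abelian in
/-- Dévissage for the vanishing of `Ext^n(M, -)` on finite modules. -/
theorem subsingleton_ext_of_forall_ideal {A : Type u} [CommRing A] [IsNoetherianRing A]
    (M : ModuleCat.{u} A) (n : ℕ)
    (h : ∀ I : Ideal A, Subsingleton (Ext M (ModuleCat.of A (A ⧸ I)) n))
    (N : Type u) [AddCommGroup N] [Module A N] [hN : Module.Finite A N] :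
    Subsingleton (Ext M (ModuleCat.of A N) n) := by
  induction hN using IsNoetherianRing.induction_on_isQuotientEquivQuotientPrime A with
  | subsingleton N =>
    refine subsingleton_of_forall_eq 0 fun x ↦ ?_
    rw [← x.comp_mk₀_id, (ModuleCat.isZero_of_subsingleton (ModuleCat.of A N)).eq_zero_of_src
      (𝟙 _), Ext.mk₀_zero, Ext.comp_zero]
  | quotient N p e =>
    exact Localalg.InjDim.subsingleton_ext_congr (LinearEquiv.refl A M) e.symm n (h p.asIdeal)
  | exact N₁ N₂ N₃ f g hf hg hfg ih₁ ih₃ =>
    have hS : (ModuleCat.shortComplexOfCompEqZero f g hfg.linearMap_comp_eq_zero).ShortExact :=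
      ModuleCat.shortComplex_shortExact _ hfg hf hg
    exact Localalg.InjDim.subsingleton_ext_of_X₂ hS M n ih₁ ih₃

/-- Let A be a Noetherian ring, M a finitely generated A-module and n ≥ 0. Then M has projective
dimension at most n if and only if Ext^(n+1)_A(M, N) = 0 for every monogenous A-module N, i.e. every
N = A/I with I an ideal. -/
theorem result (A : Type u) [CommRing A] [IsNoetherianRing A]
    (M : Type u) [AddCommGroup M] [Module A M] [Module.Finite A M] (n : ℕ) :
    HasProjectiveDimensionLT (ModuleCat.of A M) (n + 1) ↔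
      ∀ I : Ideal A, Subsingleton (Abelian.Ext (ModuleCat.of A M) (ModuleCat.of A (A ⧸ I)) (n + 1)) := by
  refine ⟨fun h I => HasProjectiveDimensionLT.subsingleton _ (n + 1) (n + 1) le_rfl _,
    fun h => ?_⟩
  refine ModuleCat.hasProjectiveDimensionLT_of_forall_finite _ (n + 1) fun L hL => ?_
  exact subsingleton_ext_of_forall_ideal (ModuleCat.of A M) (n + 1) h L
end Groth.Agent.S5789
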