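import Groth.Statements.S5806
import Groth.Agent.EGA41.K104.FlatCoker

set_option autoImplicit false
universe u
open EGA41

namespace Groth.Agent.S5806

open TensorProduct in
/-- Let A be a ring, B a commutative A-algebra, (f_i)_{1 ≤ i ≤ n} elements of B and M a B-module.
Suppose (f_i) is M-regular and each of the A-modules M/(f_1 M + ... + f_i M), 0 ≤ i ≤ n, is flat.
Then for every ring homomorphism A → A', writing M' = M ⊗_A A' and f'_i = f_i ⊗ 1, the sequence
(f'_i) is M'-regular and the A'-modules M'/(f'_1 M' + ... + f'_{i-1} M') are flat: concretely,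
identifying M'/(f'_1 M' + ... + f'_{i-1} M') with A' ⊗_A (M/(f_1 M + ... + f_{i-1} M)),
multiplication by f_i on the latter is injective and the latter is A'-flat, for 1 ≤ i ≤ n. (The
published hypothesis lists only the flatness of M/(f_1 M + ... + f_{i-1} M) for 1 ≤ i ≤ n, omitting
M/(f_1 M + ... + f_n M); with that omission the case n = 1, A = B = k[t], M = k[t], f_1 = t, A' =
k[t]/(t) fails, since t acts as zero on k ⊗_A M = k, and the published proof uses the flatness of
M/(f_1 M + ... + f_i M) for every i ≤ n; so flatness of all these quotients is assumed here.) -/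
theorem result (A B : Type u) [CommRing A]
    [CommRing B] [Algebra A B] (M : Type u) [AddCommGroup M] [Module B M] [Module A M] [IsScalarTower A B M]
    (fs : List B) (hreg : RingTheory.Sequence.IsWeaklyRegular M fs)
    (hflat : ∀ i : ℕ, i ≤ fs.length → Module.Flat A (M ⧸ (Ideal.ofList (fs.take i) • (⊤ : Submodule B M))))
    (A' : Type u) [CommRing A'] [Algebra A A'] (i : Fin fs.length) :
    Function.Injective (LinearMap.lTensor A'
        (((LinearMap.lsmul B (M ⧸ (Ideal.ofList (fs.take i) • (⊤ : Submodule B M)))) (fs.get i)).restrictScalars A)) ∧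
      Module.Flat A' (A' ⊗[A] (M ⧸ (Ideal.ofList (fs.take i) • (⊤ : Submodule B M)))) := by
  have hlt := i.2
  have hflat0 := hflat i hlt.le
  refine ⟨?_, inferInstance⟩
  have hle : Ideal.ofList (fs.take i) • (⊤ : Submodule B M) ≤
      Ideal.ofList (fs.take (i + 1)) • (⊤ : Submodule B M) := by
    rw [List.take_succ_eq_append_getElem hlt, Ideal.ofList_append]
    exact Submodule.smul_mono_left le_sup_left
  let g : (M ⧸ (Ideal.ofList (fs.take i) • (⊤ : Submodule B M))) →ₗ[B]
      (M ⧸ (Ideal.ofList (fs.take (i + 1)) • (⊤ : Submodule B M))) := Submodule.factor hle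
  have hg : Function.Surjective g := Submodule.factor_surjective hle
  have hinj : Function.Injective
      ((LinearMap.lsmul B (M ⧸ (Ideal.ofList (fs.take i) • (⊤ : Submodule B M))))
        (fs.get i)) := (RingTheory.Sequence.isWeaklyRegular_iff_Fin M fs).1 hreg i
  have hexact : Function.Exact ((LinearMap.lsmul B
      (M ⧸ (Ideal.ofList (fs.take i) • (⊤ : Submodule B M)))) (fs.get i)) g := by
    intro x
    obtain ⟨m, rfl⟩ := Submodule.mkQ_surjective _ x
    constructor
    · intro h
      have h1 : m ∈ Ideal.ofList (fs.take (i + 1)) • (⊤ : Submodule B M) :=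
        (Submodule.Quotient.mk_eq_zero _).1 h
      rw [List.take_succ_eq_append_getElem hlt, Ideal.ofList_append, Submodule.sup_smul,
        Ideal.ofList_singleton, Submodule.ideal_span_singleton_smul] at h1
      obtain ⟨a, ha, b, hb, hab⟩ := Submodule.mem_sup.1 h1
      obtain ⟨c, -, rfl⟩ := (Submodule.mem_smul_pointwise_iff_exists _ _ _).1 hb
      refine ⟨Submodule.mkQ _ c, ?_⟩
      rw [← hab, map_add, (Submodule.mkQ_apply _ a).trans ((Submodule.Quotient.mk_eq_zero _).2 ha),
        zero_add, map_smul]
      rfl
    · rintro ⟨y, hy⟩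
      obtain ⟨c, rfl⟩ := Submodule.mkQ_surjective _ y
      rw [← hy]
      change g ((fs.get i) • Submodule.mkQ _ c) = 0
      rw [← map_smul]
      change Submodule.Quotient.mk ((fs.get i) • c) = 0
      rw [Submodule.Quotient.mk_eq_zero]
      refine Submodule.smul_mem_smul ?_ trivial
      refine Ideal.subset_span ?_
      change fs.get i ∈ fs.take (i + 1)
      rw [List.take_succ_eq_append_getElem hlt]
      exact List.mem_append_right _ (List.mem_singleton_self _)
  have hflat1 := hflat (i + 1) hlt
  exact K104.FlatCoker.lTensor_injective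
    (g₂ := g.restrictScalars A) hinj hexact hg A'
end Groth.Agent.S5806
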