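import Groth.Statements.S5808
import Groth.Agent.S3406

set_option autoImplicit false
universe u
open EGA41

namespace Groth.Agent.S5808

section Aux

open Module Ideal

variable {A : Type u} [CommRing A] [IsNoetherianRing A]

/-- `a ∩ r` contains an element avoiding the non-maximal minimal primes of `J` when none of them
contains `a`. -/
lemma exists_avoid [Finite (MaximalSpectrum A)] (J a : Ideal A)
    (hJ : ∀ p ∈ J.minimalPrimes, ¬ p.IsMaximal → ¬ a ≤ p) :
    ∃ x ∈ a ⊓ Ring.jacobson A, ∀ p ∈ J.minimalPrimes, ¬ p.IsMaximal → x ∉ p := by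
  by_contra! hcon
  have hfin : {p ∈ J.minimalPrimes | ¬ p.IsMaximal}.Finite :=
    (J.finite_minimalPrimes_of_isNoetherianRing A).subset (Set.sep_subset _ _)
  have hsub : ((a ⊓ Ring.jacobson A : Ideal A) : Set A) ⊆
      ⋃ p ∈ {p ∈ J.minimalPrimes | ¬ p.IsMaximal}, ((id p : Ideal A) : Set A) := by
    intro x hx
    obtain ⟨p, hp, hpm, hxp⟩ := hcon x hx
    exact Set.mem_biUnion (show p ∈ {p ∈ J.minimalPrimes | ¬ p.IsMaximal} from ⟨hp, hpm⟩) hxp
  obtain ⟨p, ⟨hp, hpm⟩, hle⟩ := (Ideal.subset_union_prime_finite hfin ⊥ ⊥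
    (fun p hp _ _ => hp.1.1.1)).mp hsub
  have hpp : p.IsPrime := hp.1.1
  rcases (Ideal.IsPrime.inf_le hpp).1 hle with h | h
  · exact hJ p hp hpm h
  · cases nonempty_fintype (MaximalSpectrum A)
    have hinf : (Finset.univ.inf fun m : MaximalSpectrum A => m.asIdeal) ≤ p := by
      refine le_trans ?_ h
      rw [Ring.jacobson_eq_sInf_isMaximal]
      refine le_sInf fun m hm => ?_
      exact Finset.inf_le (f := fun m : MaximalSpectrum A => m.asIdeal) (Finset.mem_univ ⟨m, hm⟩)
    obtain ⟨m, -, hm⟩ := (Ideal.IsPrime.inf_le' hpp).mp hinf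
    exact hpm (m.isMaximal.eq_of_le hpp.ne_top hm ▸ m.isMaximal)

omit [IsNoetherianRing A] in
/-- the dimension drops when cutting by an element avoiding the non-maximal minimal primes -/
lemma dim_step (J : Ideal A) (x : A) (hx : ∀ p ∈ J.minimalPrimes, ¬ p.IsMaximal → x ∉ p) (n : ℕ)
    (h : ringKrullDim (A ⧸ J) ≤ (n + 1 : ℕ)) : ringKrullDim (A ⧸ (span {x} ⊔ J)) ≤ n := by
  rw [ringKrullDim_quotient] at h ⊢
  refine iSup_le fun p => ?_
  by_cases hp0 : p.length = 0
  · rw [hp0]; exact_mod_cast Nat.zero_le n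
  have hp := p.head.2
  rw [PrimeSpectrum.mem_zeroLocus] at hp
  have hp1 : x ∈ p.head.1.asIdeal := hp (mem_sup_left (mem_span_singleton_self x))
  have hp2 : J ≤ p.head.1.asIdeal := le_sup_right.trans hp
  have le : PrimeSpectrum.zeroLocus ((span {x} ⊔ J : Ideal A) : Set A) ⊆
      PrimeSpectrum.zeroLocus (J : Set A) := PrimeSpectrum.zeroLocus_anti_mono_ideal le_sup_right
  let q : LTSeries (PrimeSpectrum.zeroLocus (J : Set A)) :=
    p.map (Set.MapsTo.restrict id _ _ le) (fun _ _ h ↦ h)
  obtain ⟨r, hrm, hr⟩ := Ideal.exists_minimalPrimes_le hp2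
  let r' : PrimeSpectrum.zeroLocus (J : Set A) := ⟨⟨r, hrm.isPrime⟩, hrm.1.2⟩
  have hr' : r' < q.head := by
    refine lt_of_le_of_ne hr (fun heq ↦ ?_)
    have hre : r = q.head.1.asIdeal :=
      congrArg (fun t : PrimeSpectrum.zeroLocus (J : Set A) => t.1.asIdeal) heq
    refine hx r hrm (fun hmax => ?_) (by rw [hre]; exact hp1)
    have hlt : p.head < p.last := p.strictMono (by
      rw [Fin.lt_def]; simpa using Nat.pos_of_ne_zero hp0)
    have hlt' : r < p.last.1.asIdeal := by
      rw [hre]; exact hlt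
    exact hlt'.ne (hmax.eq_of_le p.last.1.isPrime.ne_top hlt'.le)
  have h1 : (((q.cons r' hr').length : ℕ) : WithBot ℕ∞) ≤ (n + 1 : ℕ) :=
    (le_iSup (fun s : LTSeries (PrimeSpectrum.zeroLocus (J : Set A)) =>
      ((s.length : ℕ) : WithBot ℕ∞)) (q.cons r' hr')).trans h
  have h2 : (q.cons r' hr').length = p.length + 1 := by simp [q]
  rw [h2] at h1
  have h3 : p.length + 1 ≤ n + 1 := by exact_mod_cast h1
  exact_mod_cast Nat.le_of_succ_le_succ h3

lemma exists_seq [Finite (MaximalSpectrum A)] (a p : Ideal A) [hp : p.IsPrime] (h d : ℕ)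
    (hh : a.height = h) (hph : p.height = h) (hd : ringKrullDim A ≤ d) (hhd : h ≤ d) (i : ℕ)
    (hi : i ≤ h) :
    ∃ x : Fin i → A, (∀ j, x j ∈ a ⊓ Ring.jacobson A) ∧
      ringKrullDim (A ⧸ span (Set.range x)) ≤ ((d - i : ℕ) : ℕ) ∧
      ∀ q : Ideal A, q.IsPrime → span (Set.range x) ≤ q → q ≤ p → (i : ℕ∞) ≤ q.height := by
  induction i with
  | zero =>
    refine ⟨Fin.elim0, fun j => j.elim0, ?_, fun q hq _ _ => by simp⟩
    exact (ringKrullDim_quotient_le _).trans (by simpa using hd)
  | succ i ih =>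
    obtain ⟨x, hx, hdim, hht⟩ := ih (by omega)
    have hav : ∀ q ∈ (span (Set.range x)).minimalPrimes, ¬ q.IsMaximal → ¬ a ≤ q := by
      intro q hq _ haq
      have h1 : q.height ≤ (Set.range x).ncard :=
        height_le_card_of_mem_minimalPrimes_span (Set.finite_range x) hq
      have h2 : (Set.range x).ncard ≤ i := by
        rw [← Set.image_univ]
        refine (Set.ncard_image_le Set.finite_univ).trans ?_
        simp
      have h3 : a.height ≤ q.height := height_mono haq
      rw [hh] at h3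
      have h4 : (h : ℕ∞) ≤ (i : ℕ∞) := h3.trans (h1.trans (by exact_mod_cast h2))
      have h5 : h ≤ i := by exact_mod_cast h4
      omega
    obtain ⟨y, hy, hyav⟩ := exists_avoid (span (Set.range x)) a hav
    refine ⟨Fin.cons y x, fun j => ?_, ?_, ?_⟩
    · refine Fin.cases ?_ (fun j => ?_) j
      · exact hy
      · exact hx j
    · rw [Fin.range_cons, Set.insert_eq, span_union]
      refine dim_step _ y hyav (d - (i + 1)) ?_
      rwa [show d - (i + 1) + 1 = d - i by omega]
    · intro q hq hxq hqp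
      rw [Fin.range_cons, Set.insert_eq, span_union, sup_le_iff] at hxq
      have h1 := hht q hq hxq.2 hqp
      by_contra hlt
      rw [not_le] at hlt
      have h2 : q.height = i := by
        refine le_antisymm ?_ h1
        exact ENat.lt_natCast_add_one_iff.1 (by exact_mod_cast hlt)
      have hmin : q ∈ (span (Set.range x)).minimalPrimes := by
        refine ⟨⟨hq, hxq.2⟩, fun q' hq' hle => ?_⟩
        by_contra hne
        have hltq : q' < q := lt_of_le_of_ne hle (fun e => hne (e ▸ le_rfl))
        have hq'p := hq'.1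
        have h3 := hht q' hq'.1 hq'.2 (hle.trans hqp)
        have h4 := height_add_one_le_of_lt_of_isPrime hltq
        rw [h2] at h4
        have h5 : (i : ℕ∞) + 1 ≤ i := (add_le_add_left h3 1).trans h4
        have h6 : i + 1 ≤ i := by exact_mod_cast h5
        omega
      refine hyav q hmin (fun hmax => ?_) (hxq.1 (mem_span_singleton_self y))
      have : q = p := hmax.eq_of_le hp.ne_top hqp
      rw [this, hph] at h2
      have : h = i := by exact_mod_cast h2
      omega

end Aux

/-- Let A be a semi-local Noetherian ring with spectrum X and Jacobson radical r, and a an ideal of A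
distinct from A with codim(V(a), X) = h > 0 (h is the height of a). Then there exist h elements x_1,
..., x_h of a which are part of a system of parameters of A (so lie in r and can be completed by
elements of r to dim(A) elements generating an ideal modulo which A has finite length) and such that
codim(V(a), V(x_1 A + ... + x_h A)) = 0, i.e. the image of a in A/(x_1 A + ... + x_h A) has height
0. -/
theorem result (A : Type u) [CommRing A] [IsNoetherianRing A]
    [Finite (MaximalSpectrum A)] (a : Ideal A) (ha : a ≠ ⊤) (h : ℕ) (hh : a.height = h) (hpos : 0 < h) :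
    ∃ x : Fin h → A, (∀ i, x i ∈ a) ∧ (∀ i, x i ∈ Ring.jacobson A) ∧
      (∃ ys : List A, (∀ y ∈ ys, y ∈ Ring.jacobson A) ∧
        (((h + ys.length : ℕ) : ℕ∞) : WithBot ℕ∞) = ringKrullDim A ∧
        IsFiniteLength A (A ⧸ (Ideal.span (Set.range x) ⊔ Ideal.ofList ys))) ∧
      (a.map (Ideal.Quotient.mk (Ideal.span (Set.range x)))).height = 0 := by

  obtain ⟨p, hp, hap, hph⟩ := Ideal.exists_isPrime_height_eq hh
  obtain ⟨d, hd⟩ : ∃ d : ℕ, ringKrullDim A = d := by
    have h1 := S3406.ringKrullDim_lt_top_of_semilocal (A := A)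
    have h2 : ringKrullDim A ≠ ⊥ := by
      have h3 : (Order.height (⟨p, hp⟩ : PrimeSpectrum A) : WithBot ℕ∞) ≤ ringKrullDim A :=
        Order.height_le_krullDim _
      intro h4
      rw [h4] at h3
      exact WithBot.coe_ne_bot (le_bot_iff.1 h3)
    obtain ⟨e, he⟩ := WithBot.ne_bot_iff_exists.1 h2
    rw [← he] at h1 ⊢
    have h3 : e ≠ ⊤ := by
      rintro rfl
      exact lt_irrefl _ h1
    obtain ⟨m, rfl⟩ := ENat.ne_top_iff_exists.1 h3
    exact ⟨m, rfl⟩
  have hhd : h ≤ d := by
    have h1 : (p.height : WithBot ℕ∞) ≤ ringKrullDim A := by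
      rw [PrimeSpectrum.height_eq_orderHeight ⟨p, hp⟩]
      exact Order.height_le_krullDim _
    rw [hd, hph] at h1
    exact_mod_cast h1
  obtain ⟨x, hx, hdim, hht⟩ := exists_seq a p h d hh hph hd.le hhd h le_rfl
  have hxp : Ideal.span (Set.range x) ≤ p := by
    rw [Ideal.span_le]
    rintro _ ⟨j, rfl⟩
    exact hap (hx j).1
  have hpm : p ∈ (Ideal.span (Set.range x)).minimalPrimes := by
    refine ⟨⟨hp, hxp⟩, fun q hq hle => ?_⟩
    by_contra hne
    have hltq : q < p := lt_of_le_of_ne hle (fun e => hne (e ▸ le_rfl))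
    have hqp := hq.1
    have h3 := hht q hq.1 hq.2 hle
    have h4 := Ideal.height_add_one_le_of_lt_of_isPrime hltq
    rw [hph] at h4
    have h5 : (h : ℕ∞) + 1 ≤ h := (add_le_add_left h3 1).trans h4
    have h6 : h + 1 ≤ h := by exact_mod_cast h5
    omega
  refine ⟨x, fun i => (hx i).1, fun i => (hx i).2, ?_, ?_⟩
  · obtain ⟨rs, hl, hrs, hfl⟩ := S3406.exists_list (d - h) (A ⧸ Ideal.span (Set.range x))
      (by rw [Module.supportDim_quotient_eq_ringKrullDim]; exact hdim)
    refine ⟨rs, hrs, ?_, ?_⟩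
    · rw [hl, hd, Nat.add_sub_cancel' hhd]
      rfl
    · have e1 : (Ideal.ofList rs • (⊤ : Submodule A (A ⧸ Ideal.span (Set.range x)))) =
          Submodule.map (Ideal.span (Set.range x)).mkQ (Ideal.ofList rs) := by
        have h2 := Submodule.map_smul'' (Ideal.ofList rs) (⊤ : Submodule A A)
          (Submodule.mkQ (Ideal.span (Set.range x)))
        rw [Submodule.map_top, Submodule.range_mkQ] at h2
        rw [← h2]
        congr 1
        simp
      rw [e1] at hfl
      exact (Submodule.quotientQuotientEquivQuotientSup (Ideal.span (Set.range x))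
        (Ideal.ofList rs)).isFiniteLength hfl
  · have h1 := hpm
    rw [Ideal.minimalPrimes_eq_comap] at h1
    obtain ⟨q, hq, hqp⟩ := h1
    have hqpr : q.IsPrime := hq.1.1
    have h2 : q.height = 0 := Ideal.height_eq_zero_iff.2 hq
    refine le_antisymm ?_ (by simp)
    rw [← h2]
    exact Ideal.height_mono (Ideal.map_le_iff_le_comap.2 (by rw [hqp]; exact hap))
end Groth.Agent.S5808
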