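import Groth.Statements.S5809
import Mathlib.Algebra.Category.ModuleCat.Monoidal.Closed
import Groth.Agent.CycA.DerShift
import Groth.Agent.Ega4A.ProjDimLocal
import Groth.Agent.Ega4A.ProjDim

set_option autoImplicit false
universe u
open CategoryTheory
open EGA41

namespace Groth.Agent.S5809

section Aux

open Limits MonoidalCategory TensorProduct

/-- the short exact sequence `0 → ker f → F → M → 0` -/
noncomputable def sc {R : Type u} [CommRing R] {F M : Type u} [AddCommGroup F] [Module R F]
    [AddCommGroup M] [Module R M] (f : F →ₗ[R] M) : ShortComplex (ModuleCat.{u} R) :=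
  ShortComplex.mk (ModuleCat.ofHom (LinearMap.ker f).subtype) (ModuleCat.ofHom f) (by
    ext x
    exact x.2)

lemma sc_shortExact {R : Type u} [CommRing R] {F M : Type u} [AddCommGroup F] [Module R F]
    [AddCommGroup M] [Module R M] (f : F →ₗ[R] M) (hf : Function.Surjective f) :
    (sc f).ShortExact where
  exact := by
    rw [ShortComplex.ShortExact.moduleCat_exact_iff_function_exact]
    exact LinearMap.exact_subtype_ker_map f
  mono_f := (ModuleCat.mono_iff_injective _).2 (LinearMap.ker f).injective_subtype
  epi_g := (ModuleCat.epi_iff_surjective _).2 hf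

/-- dimension shifting in the second variable -/
lemma isZero_succ_iff {R : Type u} [CommRing R] {F M : Type u} [AddCommGroup F] [Module R F]
    [AddCommGroup M] [Module R M] [Module.Projective R F] (f : F →ₗ[R] M)
    (hf : Function.Surjective f) (X : ModuleCat.{u} R) (n : ℕ) :
    IsZero (((Tor (ModuleCat.{u} R) (n + 2)).obj X).obj (ModuleCat.of R M)) ↔
      IsZero (((Tor (ModuleCat.{u} R) (n + 1)).obj X).obj
        (ModuleCat.of R (LinearMap.ker f))) := by
  have : Projective (sc f).X₂ := inferInstanceAs (Projective (ModuleCat.of R F))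
  exact (CycA.DerShift.shiftIso (tensorLeft X) (sc_shortExact f hf) n).isZero_iff

/-- If `Tor_1(k, M) = 0` then the kernel of a minimal presentation vanishes. -/
lemma ker_eq_bot {R : Type u} [CommRing R] [IsLocalRing R] {F M : Type u} [AddCommGroup F]
    [Module R F] [AddCommGroup M] [Module R M] [Module.Projective R F] (f : F →ₗ[R] M)
    (hf : Function.Surjective f) (hfin : (LinearMap.ker f).FG)
    (hmin : LinearMap.ker f ≤ IsLocalRing.maximalIdeal R • (⊤ : Submodule R F))
    (h : IsZero (((Tor (ModuleCat.{u} R) 1).obj
      (ModuleCat.of R (IsLocalRing.ResidueField R))).obj (ModuleCat.of R M))) :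
    LinearMap.ker f = ⊥ := by
  have : Projective (sc f).X₂ := inferInstanceAs (Projective (ModuleCat.of R F))
  have h2 := (CycA.DerShift.shiftOneIso (tensorLeft (ModuleCat.of R (IsLocalRing.ResidueField R)))
    (sc_shortExact f hf)).isZero_iff.1 h
  have hinj : Function.Injective
      ((LinearMap.ker f).subtype.lTensor (IsLocalRing.ResidueField R)) := by
    have := Preadditive.mono_of_isZero_kernel _ h2
    exact (ModuleCat.mono_iff_injective _).1 this
  have hzero : (LinearMap.ker f).subtype.lTensor (IsLocalRing.ResidueField R) = 0 := by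
    refine TensorProduct.ext' fun a x => ?_
    have hx := hmin x.2
    rw [LinearMap.lTensor_tmul, LinearMap.zero_apply]
    generalize hy : (LinearMap.ker f).subtype x = y at *
    have hy' : y ∈ IsLocalRing.maximalIdeal R • (⊤ : Submodule R F) := hy ▸ hx
    clear hx hy
    induction hy' using Submodule.smul_induction_on' with
    | smul r hr n hn =>
      rw [TensorProduct.tmul_smul, TensorProduct.smul_tmul',
        Ega4A.ProjDimLocal.smul_residueField_eq_zero r hr, TensorProduct.zero_tmul]
    | add x hx y hy h1 h2 => rw [TensorProduct.tmul_add, h1, h2, add_zero]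
  have hsub : Subsingleton (IsLocalRing.ResidueField R ⊗[R] LinearMap.ker f) :=
    ⟨fun a b => hinj (by rw [hzero]; rfl)⟩
  have : Module.Finite R (LinearMap.ker f) := Module.Finite.iff_fg.2 hfin
  have h3 : Subsingleton (LinearMap.ker f) := by
    exact IsLocalRing.subsingleton_tensorProduct.1 hsub
  exact (Submodule.subsingleton_iff_eq_bot).1 h3

theorem main (A : Type u) [CommRing A] [IsLocalRing A] [IsNoetherianRing A] (n : ℕ) :
    ∀ (M : Type u) [AddCommGroup M] [Module A M] [Module.Finite A M],
    (HasProjectiveDimensionLT (ModuleCat.of A M) (n + 1) →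
        ∀ i : ℕ, n < i → Limits.IsZero (((Tor (ModuleCat.{u} A) i).obj
          (ModuleCat.of A (IsLocalRing.ResidueField A))).obj (ModuleCat.of A M))) ∧
      (Limits.IsZero (((Tor (ModuleCat.{u} A) (n + 1)).obj
          (ModuleCat.of A (IsLocalRing.ResidueField A))).obj (ModuleCat.of A M)) →
        HasProjectiveDimensionLT (ModuleCat.of A M) (n + 1)) := by
  induction n with
  | zero =>
    intro M _ _ _
    refine ⟨fun h i hi => ?_, fun h => ?_⟩
    · obtain ⟨j, rfl⟩ : ∃ j, i = j + 1 := ⟨i - 1, by omega⟩
      have : Module.Projective A M := (Ega4A.ProjDim.hasPDLT_one_iff M).1 h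
      have : Projective (ModuleCat.of A M) := inferInstance
      exact isZero_Tor_succ_of_projective _ _ _ j
    · obtain ⟨r, f, hf, hmin⟩ := Ega4A.ProjDimLocal.exists_minimal_presentation (R := A) M
      have hbot := ker_eq_bot f hf (IsNoetherian.noetherian _) hmin h
      have e : (Fin r → A) ≃ₗ[A] M := LinearEquiv.ofBijective f
        ⟨LinearMap.ker_eq_bot.1 hbot, hf⟩
      exact (Ega4A.ProjDim.hasPDLT_one_iff M).2 (Module.Projective.of_equiv e)
  | succ n ih =>
    intro M _ _ _
    obtain ⟨r, f, hf, hmin⟩ := Ega4A.ProjDimLocal.exists_minimal_presentation (R := A) M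
    have : Module.Finite A (LinearMap.ker f) :=
      Module.Finite.iff_fg.2 (IsNoetherian.noetherian _)
    have key := Ega4A.ProjDim.hasPDLT_iff_of_exact (LinearMap.ker f).subtype f
      (LinearMap.ker f).injective_subtype hf (LinearMap.exact_subtype_ker_map f) n
    refine ⟨fun h i hi => ?_, fun h => ?_⟩
    · obtain ⟨j, rfl⟩ : ∃ j, i = j + 2 := ⟨i - 2, by omega⟩
      exact (isZero_succ_iff f hf _ j).2 ((ih _).1 (key.1 h) (j + 1) (by omega))
    · exact key.2 ((ih _).2 ((isZero_succ_iff f hf _ n).1 h))

end Aux

/-- Let A be a Noetherian local ring with residue field k, M a finitely generated A-module and n ≥ 0.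
For M to have projective dimension at most n it is necessary that Tor^A_i(M, k) = 0 for all i > n,
and it suffices that Tor^A_(n+1)(M, k) = 0. (Tor is written here as the left derived functors of k ⊗
- evaluated at M, i.e. computed from a projective resolution of M.) -/
theorem result (A : Type u) [CommRing A] [IsLocalRing A]
    [IsNoetherianRing A] (M : Type u) [AddCommGroup M] [Module A M] [Module.Finite A M] (n : ℕ) :
    (HasProjectiveDimensionLT (ModuleCat.of A M) (n + 1) →
        ∀ i : ℕ, n < i → Limits.IsZero (((Tor (ModuleCat.{u} A) i).obj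
          (ModuleCat.of A (IsLocalRing.ResidueField A))).obj (ModuleCat.of A M))) ∧
      (Limits.IsZero (((Tor (ModuleCat.{u} A) (n + 1)).obj
          (ModuleCat.of A (IsLocalRing.ResidueField A))).obj (ModuleCat.of A M)) →
        HasProjectiveDimensionLT (ModuleCat.of A M) (n + 1)) := by

  exact main A n M
end Groth.Agent.S5809
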