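import Groth.Statements.S5810
import Groth.Agent.Ega4A.DepthFlat
import Groth.Agent.S0543
import Mathlib.RingTheory.AdicCompletion.AsTensorProduct
import Mathlib.RingTheory.AdicCompletion.LocalRing

set_option autoImplicit false
universe u
open EGA41

namespace Groth.Agent.S5810

/-- A nonzero module killed by the maximal ideal has depth zero. -/
theorem depth_eq_zero_of_smul_eq_zero {R : Type u} [CommRing R] [IsLocalRing R] (N : Type u)
    [AddCommGroup N] [Module R N] [Nontrivial N]
    (h : ∀ x ∈ IsLocalRing.maximalIdeal R, ∀ y : N, x • y = 0) : LocCoh.depth R N = 0 := by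
  unfold LocCoh.depth LocCoh.idealDepth
  have h0 : IsLocalRing.maximalIdeal R • (⊤ : Submodule R N) = ⊥ := by
    rw [eq_bot_iff, Submodule.smul_le]
    intro x hx y _
    rw [h x hx y]
    exact Submodule.zero_mem _
  rw [h0, if_neg bot_ne_top]
  refine le_antisymm (iSup₂_le ?_) bot_le
  rintro (_ | ⟨r, rs⟩) ⟨h1, h2⟩
  · simp
  · exfalso
    rw [RingTheory.Sequence.isWeaklyRegular_cons_iff] at h1
    obtain ⟨y, hy⟩ := exists_ne (0 : N)
    exact hy (h1.1.right_eq_zero_of_smul (h r (h2 r (by simp)) y))

/-- Let A be a Noetherian local ring with maximal ideal m and M a finitely generated A-module; write Â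
and M̂ for the m-adic completions. Then prof_A(M) = prof_Â(M̂). -/
theorem result (A : Type u) [CommRing A] [IsLocalRing A] [IsNoetherianRing A] (M : Type u)
    [AddCommGroup M] [Module A M] [Module.Finite A M] :
    LocCoh.depth (AdicCompletion (IsLocalRing.maximalIdeal A) A) (AdicCompletion (IsLocalRing.maximalIdeal A) M) =
      LocCoh.depth A M := by
  have hN : IsNoetherianRing (AdicCompletion (IsLocalRing.maximalIdeal A) A) :=
    S0543.result A (IsLocalRing.maximalIdeal A)
  have hflat : Module.Flat A (AdicCompletion (IsLocalRing.maximalIdeal A) A) := inferInstance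
  have hloc : IsLocalHom (algebraMap A (AdicCompletion (IsLocalRing.maximalIdeal A) A)) :=
    inferInstance
  have h1 := Ega4A.DepthFlat.depth_tensor_eq_add (R := A)
    (S := AdicCompletion (IsLocalRing.maximalIdeal A) A)
    (AdicCompletion (IsLocalRing.maximalIdeal A) A) M
  rw [Ega4A.DepthFlat.depth_congr
    (AdicCompletion.ofTensorProductEquivOfFiniteNoetherian (IsLocalRing.maximalIdeal A) M)] at h1
  rw [h1]
  have hmap : (IsLocalRing.maximalIdeal A).map
      (algebraMap A (AdicCompletion (IsLocalRing.maximalIdeal A) A)) =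
      IsLocalRing.maximalIdeal (AdicCompletion (IsLocalRing.maximalIdeal A) A) :=
    AdicCompletion.maximalIdeal_eq_map.symm
  have hne : Nontrivial ((AdicCompletion (IsLocalRing.maximalIdeal A) A) ⧸
      ((IsLocalRing.maximalIdeal A).map
        (algebraMap A (AdicCompletion (IsLocalRing.maximalIdeal A) A)) •
      (⊤ : Submodule (AdicCompletion (IsLocalRing.maximalIdeal A) A)
        (AdicCompletion (IsLocalRing.maximalIdeal A) A)))) := by
    rw [Submodule.Quotient.nontrivial_iff, hmap]
    intro h
    have := Ideal.mul_top (IsLocalRing.maximalIdeal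
      (AdicCompletion (IsLocalRing.maximalIdeal A) A))
    rw [← smul_eq_mul, h] at this
    exact (IsLocalRing.maximalIdeal.isMaximal _).ne_top this.symm
  have h2 := depth_eq_zero_of_smul_eq_zero
    (R := AdicCompletion (IsLocalRing.maximalIdeal A) A)
    ((AdicCompletion (IsLocalRing.maximalIdeal A) A) ⧸
      ((IsLocalRing.maximalIdeal A).map
        (algebraMap A (AdicCompletion (IsLocalRing.maximalIdeal A) A)) •
      (⊤ : Submodule (AdicCompletion (IsLocalRing.maximalIdeal A) A)
        (AdicCompletion (IsLocalRing.maximalIdeal A) A)))) (by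
      intro x hx y
      obtain ⟨y, rfl⟩ := Submodule.mkQ_surjective _ y
      rw [← map_smul, Submodule.mkQ_apply, Submodule.Quotient.mk_eq_zero, hmap]
      exact Submodule.smul_mem_smul hx trivial)
  rw [h2, add_zero]

end Groth.Agent.S5810
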