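import Groth.Statements.S5815
import Groth.Agent.EGA41.K104.ExalC

set_option autoImplicit false
universe u
open EGA41

namespace Groth.Agent.S5815

/-- Discrete case. A commutative A-algebra B is formally smooth if and only if every A-extension of B by
a B-module L is trivial (has an A-algebra section). A and B are taken in one universe and L ranges
over that universe. (The published statement is for topological rings, with direct-limit classes of
extensions; this row is its discrete case.) -/
theorem result (A B : Type u) [CommRing A] [CommRing B] [Algebra A B] :
    Algebra.FormallySmooth A B ↔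
      ∀ (L : Type u) [AddCommGroup L] [Module B L] (X : Exal.Ext A B L), X.IsTrivial := by
  constructor
  · intro h L _ _ X
    let e := Ideal.quotientKerAlgEquivOfSurjective X.isExtension.proj_surjective
    obtain ⟨g, hg⟩ := Algebra.FormallySmooth.comp_surjective A B (RingHom.ker X.proj)
      (K104.ExalC.ker_proj_sq X) e.symm.toAlgHom
    refine ⟨g, fun b => ?_⟩
    have h1 : Ideal.Quotient.mk (RingHom.ker X.proj) (g b) = e.symm b := DFunLike.congr_fun hg b
    have h2 := congrArg e h1
    rw [AlgEquiv.apply_symm_apply] at h2
    exact h2
  · intro h
    refine Algebra.FormallySmooth.of_comp_surjective fun C _ _ J hJ u₀ => ?_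
    let _ : Module B J.Cotangent := K104.ExalC.modB J u₀
    exact K104.ExalC.exists_lift J hJ u₀ (h J.Cotangent (K104.ExalC.testExt J hJ u₀))
end Groth.Agent.S5815
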