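import Groth.Statements.S5816
import Groth.Agent.EGA41.K104.ExalC

set_option autoImplicit false
universe u
open EGA41

namespace Groth.Agent.S5816

/-- Discrete case. For ring maps Λ → A → B, B is formally smooth over A relative to Λ (square-zero test
ideals) if and only if every A-extension of B by a B-module L which is Λ-trivial is A-trivial. Λ, A,
B are taken in one universe and L ranges over it. (The published statement is for topological rings;
this row is its discrete case.) -/
theorem result (Λ A B : Type u) [CommRing Λ]
    [CommRing A] [CommRing B] [Algebra Λ A] [Algebra Λ B] [Algebra A B] [IsScalarTower Λ A B] :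
    EGA41.IsFormallySmoothRel Λ A B ↔
      ∀ (L : Type u) [AddCommGroup L] [Module B L] (X : Exal.Ext A B L),
        X.IsTrivialOver Λ → X.IsTrivial := by
  constructor
  · intro h L _ _ X hX
    let e := Ideal.quotientKerAlgEquivOfSurjective X.isExtension.proj_surjective
    obtain ⟨s, hs⟩ := hX
    let _ : Algebra Λ X.E := ((algebraMap A X.E).comp (algebraMap Λ A)).toAlgebra
    have : IsScalarTower Λ A X.E := IsScalarTower.of_algebraMap_eq fun _ => rfl
    obtain ⟨g, hg⟩ := h X.E (RingHom.ker X.proj) (K104.ExalC.ker_proj_sq X) e.symm.toAlgHom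
      ⟨{ toRingHom := s.toRingHom, commutes' := fun a => s.commutes a }, by
        ext b
        change Ideal.Quotient.mk (RingHom.ker X.proj) (s b) = e.symm b
        rw [AlgEquiv.eq_symm_apply]
        exact hs b⟩
    refine ⟨g, fun b => ?_⟩
    have h1 : Ideal.Quotient.mk (RingHom.ker X.proj) (g b) = e.symm b := DFunLike.congr_fun hg b
    have h2 := congrArg e h1
    rw [AlgEquiv.apply_symm_apply] at h2
    exact h2
  · intro h C _ _ _ _ J hJ u₀ ⟨u, hu⟩
    let _ : Module B J.Cotangent := K104.ExalC.modB J u₀
    exact K104.ExalC.exists_lift J hJ u₀ (h J.Cotangent (K104.ExalC.testExt J hJ u₀)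
      (K104.ExalC.isTrivialOver J hJ u₀ Λ u hu))
end Groth.Agent.S5816
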