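import Groth.Statements.S5819
import Groth.Agent.EGA41.K104.ExalB

set_option autoImplicit false
universe u v
open EGA41

namespace Groth.Agent.S5819

/-- Commutative rings, exactness at Exalcom_A(C, L) on underlying pointed sets. For ring maps A → B → C
and a C-module L, an A-extension Y of C by L pulls back to a trivial A-extension of B if and only if
Y is equivalent to some B-extension of C by L viewed as an A-extension. -/
theorem result {A : Type u} {B C L : Type v} [CommRing A]
    [CommRing B] [CommRing C] [Algebra A B] [Algebra B C] [Algebra A C] [IsScalarTower A B C]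
    [AddCommGroup L] [Module C L] [Module B L] [IsScalarTower B C L]
    (Y : Exal.Ext A C L) :
    (Y.pullback B).IsTrivial ↔
      ∃ X : Exal.Ext B C L, Nonempty ((X.restrictBase A).Equiv Y) := by
  constructor
  · rintro ⟨s, hs⟩
    let u : B →ₐ[A] Y.E := (AlgHom.fst A Y.E B).comp ((Y.fiberProd B).val.comp s)
    have hu : ∀ b, Y.proj (u b) = algebraMap B C b := by
      intro b
      exact (s b).2.trans (congrArg (algebraMap B C) (hs b))
    let _ : Algebra B Y.E := u.toRingHom.toAlgebra
    let X : Exal.Ext B C L :=
      { E := Y.E
        proj := { toRingHom := Y.proj.toRingHom, commutes' := hu }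
        incl := Y.incl
        isExtension :=
          { proj_surjective := Y.isExtension.proj_surjective
            incl_injective := Y.isExtension.incl_injective
            exact := Y.isExtension.exact
            mul_incl := Y.isExtension.mul_incl } }
    refine ⟨X, ⟨K104.ExalA.equivOfHom _ _
      { toRingHom := RingHom.id Y.E, commutes' := fun a => u.commutes a } (fun x => rfl)
      (fun z => rfl)⟩⟩
  · rintro ⟨X, ⟨e⟩⟩
    refine ⟨AlgHom.codRestrict (AlgHom.prod (e.toAlgEquiv.toAlgHom.comp
      { toRingHom := algebraMap B X.E, commutes' := fun a => rfl }) (AlgHom.id A B)) _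
      (fun b => ?_), fun b => rfl⟩
    rw [Exal.Ext.fiberProd, AlgHom.mem_equalizer]
    exact (e.proj_apply _).trans (X.proj.commutes b)
end Groth.Agent.S5819
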