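import Groth.Statements.S5825
import Groth.Agent.Ega41.K105.TopModA

set_option autoImplicit false
universe u v w
open EGA41

namespace Groth.Agent.S5825

/-- Let A be a topological ring, M, N topological A-modules with the topologies deduced from that of A,
and u : M → N a continuous linear map with dense image (a formal epimorphism). Then u is a formal
bimorphism (dense image and inducing) if and only if, for every open ideal J of A, the induced map
M/JM → N/JN is bijective (injectivity and surjectivity are written out elementwise). -/
theorem result {A : Type u} {M : Type v} {N : Type w} [CommRing A]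
    [TopologicalSpace A] [AddCommGroup M] [Module A M] [TopologicalSpace M] [AddCommGroup N] [Module A N]
    [TopologicalSpace N] (hM : TopMod.IsDeduced A M) (hN : TopMod.IsDeduced A N) (u : M →L[A] N)
    (hu : DenseRange u) :
    IsDenseInducing u ↔
      ∀ J : Ideal A, IsOpen (J : Set A) →
        (∀ x : M, u x ∈ (J • ⊤ : Submodule A N) → x ∈ (J • ⊤ : Submodule A M)) ∧
          ∀ y : N, ∃ x : M, y - u x ∈ (J • ⊤ : Submodule A N) := by
  have hMg := hM.1
  have hNg := hN.1
  have hdense : ∀ J : Ideal A, IsOpen (J : Set A) → ∀ y : N, ∃ x : M, y - u x ∈ (J • ⊤ : Submodule A N) := by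
    intro J hJ y
    have h1 : IsOpen {z : N | y - z ∈ ((J • ⊤ : Submodule A N) : Set N)} :=
      (K105.TopModA.isOpen_smul_top hN hJ).preimage (continuous_const.sub continuous_id)
    obtain ⟨x, hx⟩ := hu.exists_mem_open h1 ⟨y, by simp⟩
    exact ⟨x, hx⟩
  constructor
  · intro h J hJ
    refine ⟨?_, hdense J hJ⟩
    intro x hx
    have h1 : nhds (0 : M) = Filter.comap u (nhds (0 : N)) := by
      have := (Topology.isInducing_iff_nhds.1 h.isInducing) 0
      rwa [map_zero] at this
    have h2 := K105.TopModA.mem_nhds_zero hM hJ
    rw [h1] at h2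
    obtain ⟨J', hJ', hJJ'⟩ := (hN.2.comap u).mem_iff.1 h2
    have h3 : (J • ⊤ : Submodule A N) ≤
        (J • ⊤ : Submodule A M).map u.toLinearMap ⊔ (J' • ⊤ : Submodule A N) := by
      refine Submodule.smul_le.2 fun a ha y _ => ?_
      obtain ⟨x, hx⟩ := hdense J' hJ' y
      have : a • y = a • u x + a • (y - u x) := by rw [← smul_add, add_sub_cancel]
      rw [this]
      refine Submodule.add_mem_sup ⟨a • x, Submodule.smul_mem_smul ha trivial, ?_⟩
        (Submodule.smul_mem _ _ hx)
      exact map_smul u a x
    obtain ⟨_, ⟨x', hx', rfl⟩, z, hz, hsum⟩ := Submodule.mem_sup.1 (h3 hx)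
    have h4 : u (x - x') ∈ (J' • ⊤ : Submodule A N) := by
      rw [map_sub, ← hsum]
      change u x' + z - u x' ∈ _
      rwa [add_sub_cancel_left]
    have h5 : x - x' ∈ (J • ⊤ : Submodule A M) := hJJ' h4
    have := add_mem h5 hx'
    rwa [sub_add_cancel] at this
  · intro h
    refine ⟨⟨?_⟩, hu⟩
    refine Topology.IsInducing.eq_induced ?_
    refine Topology.isInducing_iff_nhds.2 fun x => ?_
    have h0 : nhds (0 : M) = Filter.comap u (nhds (0 : N)) := by
      apply le_antisymm
      · have := u.continuous.tendsto (0 : M)
        rw [map_zero] at this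
        exact Filter.map_le_iff_le_comap.1 this
      · rw [hM.2.ge_iff]
        intro J hJ
        exact (hN.2.comap u).mem_iff.2 ⟨J, hJ, fun x hx => (h J hJ).1 x hx⟩
    have h1 : nhds x = Filter.comap (fun y => y - x) (nhds (0 : M)) := by
      have := (Homeomorph.subRight x).nhds_eq_comap x
      simpa using this
    have h2 : nhds (u x) = Filter.comap (fun y => y - u x) (nhds (0 : N)) := by
      have := (Homeomorph.subRight (u x)).nhds_eq_comap (u x)
      simpa using this
    rw [h1, h2, h0, Filter.comap_comap, Filter.comap_comap]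
    congr 1
    funext y
    simp

end Groth.Agent.S5825
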