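import Groth.Statements.S5826
import Groth.Agent.Ega41.K105.TopModA

set_option autoImplicit false
universe u v w
open EGA41

namespace Groth.Agent.S5826

/-- Let A be a topological ring, M, N topological A-modules with the topologies deduced from that of A,
u : M → N a continuous linear map. Then u is formally left invertible if and only if, for every open
ideal J of A, the induced map M/JM → N/JN is left invertible, i.e. some linear map N → M/JM composes
with u to the projection M → M/JM. -/
theorem result {A : Type u} {M : Type v} {N : Type w}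
    [CommRing A] [TopologicalSpace A] [AddCommGroup M] [Module A M] [TopologicalSpace M] [AddCommGroup N]
    [Module A N] [TopologicalSpace N] (hM : TopMod.IsDeduced A M) (hN : TopMod.IsDeduced A N)
    (u : M →L[A] N) :
    TopMod.IsFormallyLeftInvertible u ↔
      ∀ J : Ideal A, IsOpen (J : Set A) →
        ∃ w : N →ₗ[A] M ⧸ (J • ⊤ : Submodule A M), ∀ x : M, w (u x) = Submodule.Quotient.mk x := by
  constructor
  · intro h J hJ
    let : TopologicalSpace (M ⧸ (J • ⊤ : Submodule A M)) := ⊥
    have : DiscreteTopology (M ⧸ (J • ⊤ : Submodule A M)) := ⟨rfl⟩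
    obtain ⟨w, hw⟩ := h (M ⧸ (J • ⊤ : Submodule A M))
      ⟨(J • ⊤ : Submodule A M).mkQ, K105.TopModA.continuous_of_smul_le_ker hM _ hJ (by
        rw [Submodule.ker_mkQ])⟩
    exact ⟨w.toLinearMap, fun x => hw x⟩
  · intro h E _ _ _ _ v
    obtain ⟨J, hJ, hJv⟩ := K105.TopModA.exists_smul_le_ker hM v.toLinearMap v.continuous
    obtain ⟨w, hw⟩ := h J hJ
    let w' : N →ₗ[A] E := ((J • ⊤ : Submodule A M).liftQ v.toLinearMap hJv) ∘ₗ w
    refine ⟨⟨w', K105.TopModA.continuous_of_smul_le_ker hN _ hJ ?_⟩, fun x => ?_⟩
    · refine Submodule.smul_le.2 fun a ha y _ => ?_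
      rw [LinearMap.mem_ker, LinearMap.comp_apply, map_smul]
      obtain ⟨z, hz⟩ := Submodule.Quotient.mk_surjective _ (w y)
      have h0 : (Submodule.Quotient.mk (p := (J • ⊤ : Submodule A M)) (a • z)) = 0 :=
        (Submodule.Quotient.mk_eq_zero _).2 (Submodule.smul_mem_smul ha Submodule.mem_top)
      rw [← hz, ← Submodule.Quotient.mk_smul, h0, map_zero]
    · change (J • ⊤ : Submodule A M).liftQ v.toLinearMap hJv (w (u x)) = v x
      rw [hw]
      rfl

end Groth.Agent.S5826
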