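import Groth.Statements.S5828
import Mathlib.Tactic.LinearCombination

set_option autoImplicit false
universe u v
open EGA41

namespace Groth.Agent.S5828

theorem fwd {A : Type u} {C L : Type v} [CommRing A] [CommRing C] [Algebra A C]
    [AddCommGroup L] [Module C L] [Module A L] [IsScalarTower A C L] (X : Exal.Ext A C L)
    (D : Derivation A C L) :
    ∃ e : X.Equiv X, ∀ x : X.E, e.toAlgEquiv x = x + X.incl (D (X.proj x)) := by
  have hp : ∀ z : L, X.proj (X.incl z) = 0 := fun z => (X.isExtension.exact _).2 ⟨z, rfl⟩
  have hii : ∀ z z' : L, X.incl z * X.incl z' = 0 := fun z z' => by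
    rw [X.isExtension.mul_incl, hp, zero_smul, map_zero]
  let f : X.E →ₐ[A] X.E :=
    { toFun := fun x => x + X.incl (D (X.proj x))
      map_one' := by simp
      map_zero' := by simp
      map_add' := fun x y => by simp only [map_add]; abel
      map_mul' := fun x y => by
        simp only [map_mul, Derivation.leibniz, map_add]
        rw [add_mul, mul_add, mul_add, hii, X.isExtension.mul_incl, mul_comm (X.incl _) y,
          X.isExtension.mul_incl, add_zero]
        abel
      commutes' := fun a => by simp }
  let g : X.E →ₐ[A] X.E :=
    { toFun := fun x => x - X.incl (D (X.proj x))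
      map_one' := by simp
      map_zero' := by simp
      map_add' := fun x y => by simp only [map_add]; abel
      map_mul' := fun x y => by
        simp only [map_mul, Derivation.leibniz, map_add]
        rw [sub_mul, mul_sub, mul_sub, hii, X.isExtension.mul_incl, mul_comm (X.incl _) y,
          X.isExtension.mul_incl, sub_zero]
        abel
      commutes' := fun a => by simp }
  have hf : ∀ x, f x = x + X.incl (D (X.proj x)) := fun _ => rfl
  have hg : ∀ x, g x = x - X.incl (D (X.proj x)) := fun _ => rfl
  let e : X.E ≃ₐ[A] X.E := AlgEquiv.ofAlgHom f g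
    (AlgHom.ext fun x => by
      rw [AlgHom.comp_apply, hf, hg, map_sub, hp, sub_zero, AlgHom.id_apply, sub_add_cancel])
    (AlgHom.ext fun x => by
      rw [AlgHom.comp_apply, hg, hf, map_add, hp, add_zero, AlgHom.id_apply, add_sub_cancel_right])
  refine ⟨⟨e, fun x => ?_, fun z => ?_⟩, fun x => rfl⟩
  · change X.proj (x + X.incl (D (X.proj x))) = _
    rw [map_add, hp, add_zero]
  · change X.incl z + X.incl (D (X.proj (X.incl z))) = _
    rw [hp, map_zero, map_zero, add_zero]

/-- Commutative case. For an A-extension X of C by a C-module L, with middle ring E, projection p and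
inclusion i, the A-derivations D : C → L and the self-equivalences of X correspond under D ↦ (x ↦ x
+ i (D (p x))): every derivation defines a self-equivalence with this formula, and every
self-equivalence is of this form for exactly one derivation. (Bijection of sets; the published
statement also records compatibility with the group laws.) -/
theorem result {A : Type u} {C L : Type v} [CommRing A] [CommRing C] [Algebra A C]
    [AddCommGroup L] [Module C L] [Module A L] [IsScalarTower A C L] (X : Exal.Ext A C L) :
    (∀ D : Derivation A C L, ∃ e : X.Equiv X, ∀ x : X.E, e.toAlgEquiv x = x + X.incl (D (X.proj x))) ∧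
      ∀ e : X.Equiv X, ∃! D : Derivation A C L, ∀ x : X.E, e.toAlgEquiv x = x + X.incl (D (X.proj x)) := by
  refine ⟨fwd X, fun e => ?_⟩
  have hp : ∀ z : L, X.proj (X.incl z) = 0 := fun z => (X.isExtension.exact _).2 ⟨z, rfl⟩
  have hinj := X.isExtension.incl_injective
  have key : ∀ x : X.E, X.proj (e.toAlgEquiv x - x) = 0 := fun x => by
    rw [map_sub, e.proj_apply, sub_self]
  -- well-definedness: the value depends only on `X.proj x`
  have hwd : ∀ x y : X.E, X.proj x = X.proj y → e.toAlgEquiv x - x = e.toAlgEquiv y - y := by
    intro x y hxy
    have : X.proj (x - y) = 0 := by rw [map_sub, hxy, sub_self]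
    obtain ⟨z, hz⟩ := (X.isExtension.exact _).1 this
    have h1 := e.apply_incl z
    rw [hz, map_sub] at h1
    rw [sub_eq_sub_iff_sub_eq_sub, h1]
  let s : C → X.E := fun c => (X.isExtension.proj_surjective c).choose
  have hs : ∀ c, X.proj (s c) = c := fun c => (X.isExtension.proj_surjective c).choose_spec
  let d : C → L := fun c => X.kerLift _ (key (s c))
  have hd : ∀ x : X.E, X.incl (d (X.proj x)) = e.toAlgEquiv x - x := fun x => by
    change X.incl (X.kerLift _ (key (s (X.proj x)))) = _
    rw [X.incl_kerLift]
    exact hwd _ _ (hs _)
  let D : Derivation A C L := Derivation.mk'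
    { toFun := d
      map_add' := fun c c' => by
        obtain ⟨x, rfl⟩ := X.isExtension.proj_surjective c
        obtain ⟨y, rfl⟩ := X.isExtension.proj_surjective c'
        apply hinj
        rw [← map_add, hd, map_add X.incl, hd, hd, map_add]
        abel
      map_smul' := fun a c => by
        obtain ⟨x, rfl⟩ := X.isExtension.proj_surjective c
        apply hinj
        rw [← map_smul, hd, RingHom.id_apply, ← algebraMap_smul C a (d _), ← X.proj.commutes a,
          ← X.isExtension.mul_incl, hd, map_smul, ← smul_sub, Algebra.smul_def] }
    (fun c c' => by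
        obtain ⟨x, rfl⟩ := X.isExtension.proj_surjective c
        obtain ⟨y, rfl⟩ := X.isExtension.proj_surjective c'
        apply hinj
        change X.incl (d _) = X.incl (_ • d _ + _ • d _)
        rw [← map_mul, hd, map_add X.incl, ← X.isExtension.mul_incl, ← X.isExtension.mul_incl, hd,
          hd, map_mul]
        have h0 : (e.toAlgEquiv x - x) * (e.toAlgEquiv y - y) = 0 := by
          rw [← hd x, ← hd y, X.isExtension.mul_incl, hp, zero_smul, map_zero]
        linear_combination h0)
  refine ⟨D, fun x => ?_, fun D' hD' => ?_⟩
  · change _ = x + X.incl (d _)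
    rw [hd]; abel
  · ext c
    obtain ⟨x, rfl⟩ := X.isExtension.proj_surjective c
    apply hinj
    change _ = X.incl (d _)
    rw [hd, hD' x]; abel

end Groth.Agent.S5828
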