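import Groth.Statements.S5830
import Mathlib.Tactic.Abel
import Mathlib.Tactic.Ring
import Mathlib.Tactic.LinearCombination
import Mathlib.Tactic.Module

set_option autoImplicit false
set_option linter.unusedSectionVars false
universe u v
open EGA41

namespace Groth.Agent.S5830

section

variable {A : Type u} {B : Type v} [CommRing A] [CommRing B] [Algebra A B]
  {L : Type v} [AddCommGroup L] [Module B L] [Module A L] [IsScalarTower A B L]

/-- The underlying type of the Hochschild extension attached to a symmetric cocycle. -/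
structure HE (f : B →ₗ[A] B →ₗ[A] L) : Type v where
  fst : B
  snd : L

namespace HE

variable {f : B →ₗ[A] B →ₗ[A] L}

@[ext] theorem ext' {x y : HE f} (h1 : x.fst = y.fst) (h2 : x.snd = y.snd) : x = y := by
  cases x; cases y; simp_all

instance : Zero (HE f) := ⟨⟨0, 0⟩⟩
instance : One (HE f) := ⟨⟨1, -f 1 1⟩⟩
instance : Add (HE f) := ⟨fun x y => ⟨x.fst + y.fst, x.snd + y.snd⟩⟩
instance : Neg (HE f) := ⟨fun x => ⟨-x.fst, -x.snd⟩⟩
instance : Mul (HE f) := ⟨fun x y => ⟨x.fst * y.fst, x.fst • y.snd + y.fst • x.snd + f x.fst y.fst⟩⟩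

theorem zero_fst : (0 : HE f).fst = 0 := rfl
theorem zero_snd : (0 : HE f).snd = 0 := rfl
theorem one_fst : (1 : HE f).fst = 1 := rfl
theorem one_snd : (1 : HE f).snd = -f 1 1 := rfl
theorem add_fst (x y : HE f) : (x + y).fst = x.fst + y.fst := rfl
theorem add_snd (x y : HE f) : (x + y).snd = x.snd + y.snd := rfl
theorem neg_fst (x : HE f) : (-x).fst = -x.fst := rfl
theorem neg_snd (x : HE f) : (-x).snd = -x.snd := rfl
theorem mul_fst (x y : HE f) : (x * y).fst = x.fst * y.fst := rfl
theorem mul_snd (x y : HE f) :
    (x * y).snd = x.fst • y.snd + y.fst • x.snd + f x.fst y.fst := rfl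

/-- The ring structure on the Hochschild extension. -/
@[reducible] def commRing (hsymm : ∀ x y : B, f x y = f y x)
    (hcoc : ∀ x y z : B, f (x * y) z + z • f x y = x • f y z + f x (y * z)) : CommRing (HE f) where
  add_assoc x y z := ext' (add_assoc _ _ _) (add_assoc _ _ _)
  zero_add x := ext' (zero_add _) (zero_add _)
  add_zero x := ext' (add_zero _) (add_zero _)
  nsmul := nsmulRec
  zsmul := zsmulRec
  neg_add_cancel x := ext' (neg_add_cancel _) (neg_add_cancel _)
  add_comm x y := ext' (add_comm _ _) (add_comm _ _)
  left_distrib x y z := by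
    refine ext' (mul_add _ _ _) ?_
    simp only [mul_snd, add_fst, add_snd, map_add, smul_add, add_smul]
    abel
  right_distrib x y z := by
    refine ext' (add_mul _ _ _) ?_
    simp only [mul_snd, add_fst, add_snd, map_add, smul_add, add_smul, LinearMap.add_apply]
    abel
  zero_mul x := by
    refine ext' (zero_mul _) ?_
    simp only [mul_snd, zero_fst, zero_snd, map_zero, LinearMap.zero_apply, zero_smul, smul_zero, add_zero]
  mul_zero x := by
    refine ext' (mul_zero _) ?_
    simp only [mul_snd, zero_fst, zero_snd, map_zero, zero_smul, smul_zero, add_zero]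
  mul_assoc x y z := by
    refine ext' (mul_assoc _ _ _) ?_
    have h := hcoc x.fst y.fst z.fst
    simp only [mul_snd, mul_fst, smul_add]
    have h1 : z.fst • x.fst • y.snd = x.fst • z.fst • y.snd := smul_comm _ _ _
    have h2 : z.fst • y.fst • x.snd = (y.fst * z.fst) • x.snd := by rw [smul_smul, mul_comm]
    have h3 : x.fst • y.fst • z.snd = (x.fst * y.fst) • z.snd := by rw [smul_smul]
    rw [h1, h2, h3]
    have h4 : z.fst • f x.fst y.fst + f (x.fst * y.fst) z.fst =
      x.fst • f y.fst z.fst + f x.fst (y.fst * z.fst) := by rw [add_comm, h]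
    calc _ = (x.fst * y.fst) • z.snd + x.fst • z.fst • y.snd + (y.fst * z.fst) • x.snd +
          (z.fst • f x.fst y.fst + f (x.fst * y.fst) z.fst) := by abel
      _ = _ := by rw [h4]; abel
  one_mul x := by
    refine ext' (one_mul _) ?_
    have h := hcoc 1 1 x.fst
    rw [one_mul, one_mul, one_smul, add_right_inj] at h
    rw [mul_snd, one_fst, one_snd, one_smul, smul_neg, h, neg_add_cancel_right]
  mul_one x := by
    refine ext' (mul_one _) ?_
    have h := hcoc 1 1 x.fst
    rw [one_mul, one_mul, one_smul, add_right_inj] at h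
    rw [mul_snd, one_fst, one_snd, one_smul, smul_neg, h, hsymm x.fst 1]
    abel
  mul_comm x y := by
    refine ext' (mul_comm _ _) ?_
    rw [mul_snd, mul_snd, hsymm x.fst y.fst]
    abel

end HE

end

/-- Discrete case. If B is a formally smooth A-algebra then, for every B-module L, every A-bilinear
symmetric Hochschild 2-cocycle f : B × B → L (f(xy, z) + z f(x, y) = x f(y, z) + f(x, yz)) is a
Hochschild 2-coboundary: f(x, y) = x g(y) − g(xy) + y g(x) for some A-linear g : B → L. (The
published statement is for topological algebras and open ideals; this row is its discrete case.) -/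
theorem result {A : Type u} {B : Type v} [CommRing A] [CommRing B]
    [Algebra A B] [Algebra.FormallySmooth A B] {L : Type v} [AddCommGroup L] [Module B L] [Module A L]
    [IsScalarTower A B L] (f : B →ₗ[A] B →ₗ[A] L) (hsymm : ∀ x y : B, f x y = f y x)
    (hcoc : ∀ x y z : B, f (x * y) z + z • f x y = x • f y z + f x (y * z)) :
    ∃ g : B →ₗ[A] L, ∀ x y : B, f x y = x • g y - g (x * y) + y • g x := by
  let _ : CommRing (HE f) := HE.commRing hsymm hcoc
  let i : A →+* HE f :=
    { toFun := fun a => ⟨algebraMap A B a, -(a • f 1 1)⟩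
      map_one' := by rw [map_one, one_smul]; rfl
      map_zero' := by rw [map_zero, zero_smul, neg_zero]; rfl
      map_add' := fun a b => HE.ext' (map_add _ _ _) (by
        rw [HE.add_snd]; simp only [add_smul]; abel)
      map_mul' := fun a b => HE.ext' (map_mul _ _ _) (by
        rw [HE.mul_snd]
        simp only [Algebra.algebraMap_eq_smul_one, map_smul, LinearMap.smul_apply, smul_neg,
          smul_assoc, one_smul]
        rw [smul_comm b a, smul_smul]
        abel) }
  let _ : Algebra A (HE f) := i.toAlgebra
  let p : HE f →ₐ[A] B :=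
    { toFun := fun x => x.fst
      map_one' := rfl
      map_zero' := rfl
      map_add' := fun _ _ => rfl
      map_mul' := fun _ _ => rfl
      commutes' := fun _ => rfl }
  have hp : Function.Surjective p := fun b => ⟨⟨b, 0⟩, rfl⟩
  have hker : IsNilpotent (RingHom.ker (p : HE f →+* B)) := by
    refine ⟨2, ?_⟩
    rw [pow_two, Submodule.zero_eq_bot, eq_bot_iff, Ideal.mul_le]
    intro x hx y hy
    have hx' : x.fst = 0 := hx
    have hy' : y.fst = 0 := hy
    rw [Ideal.mem_bot]
    refine HE.ext' ?_ ?_
    · rw [HE.mul_fst, hx', zero_mul]; rfl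
    · rw [HE.mul_snd, hx', hy', zero_smul, zero_smul, map_zero, add_zero, add_zero]; rfl
  let s : B →ₐ[A] HE f := Algebra.FormallySmooth.liftOfSurjective (AlgHom.id A B) p hp hker
  have hs : ∀ b, (s b).fst = b := fun b =>
    Algebra.FormallySmooth.liftOfSurjective_apply (AlgHom.id A B) p hp hker b
  refine ⟨{ toFun := fun b => -(s b).snd
            map_add' := fun b c => by rw [map_add, HE.add_snd, neg_add]
            map_smul' := fun a b => ?_ }, fun x y => ?_⟩
  · rw [RingHom.id_apply, Algebra.smul_def, map_mul, s.commutes, HE.mul_snd, hs]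
    change -(algebraMap A B a • (s b).snd + b • (-(a • f 1 1)) + f (algebraMap A B a) b) = _
    have h := hcoc 1 1 b
    rw [one_mul, one_mul, one_smul, add_right_inj] at h
    rw [Algebra.algebraMap_eq_smul_one, map_smul, LinearMap.smul_apply, ← h, smul_neg, smul_assoc,
      one_smul, smul_comm b a, smul_neg]
    abel
  · change f x y = x • (-(s y).snd) - -(s (x * y)).snd + y • (-(s x).snd)
    rw [map_mul, HE.mul_snd, hs, hs]
    simp only [smul_neg]
    abel

end Groth.Agent.S5830
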