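import Groth.Statements.S5831
import Mathlib.Tactic.Abel
import Mathlib.Tactic.Ring
import Mathlib.Tactic.LinearCombination

set_option autoImplicit false
universe u
open EGA41

namespace Groth.Agent.S5831

section

variable {A B C : Type u} [CommRing A] [CommRing B] [Algebra A B] [CommRing C] [Algebra A C]
  (I : Ideal C) (hI : I ^ 2 = ⊥) (s : B →ₗ[A] C)

include hI in
theorem mul_eq_zero_of_mem {x y : C} (hx : x ∈ I) (hy : y ∈ I) : x * y = 0 := by
  have : x * y ∈ I ^ 2 := by rw [pow_two]; exact Ideal.mul_mem_mul hx hy
  rwa [hI, Ideal.mem_bot] at this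

/-- The `B`-module structure on a square-zero ideal given by a linear lift `s : B → C` which is
multiplicative modulo the ideal. -/
@[reducible] def modI (h1 : s 1 - 1 ∈ I) (hmul : ∀ x y, s x * s y - s (x * y) ∈ I) : Module B I where
  smul b x := ⟨s b * x, I.mul_mem_left _ x.2⟩
  one_smul x := by
    apply Subtype.ext
    change s 1 * x = x
    have := mul_eq_zero_of_mem I hI h1 x.2
    linear_combination this
  mul_smul b c x := by
    apply Subtype.ext
    change s (b * c) * x = s b * (s c * x)
    have := mul_eq_zero_of_mem I hI (hmul b c) x.2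
    linear_combination -this
  smul_zero b := by
    apply Subtype.ext
    change s b * 0 = 0
    rw [mul_zero]
  smul_add b x y := by
    apply Subtype.ext
    change s b * (x + y) = s b * x + s b * y
    ring
  add_smul b c x := by
    apply Subtype.ext
    change s (b + c) * x = s b * x + s c * x
    rw [map_add]; ring
  zero_smul x := by
    apply Subtype.ext
    change s 0 * x = 0
    rw [map_zero, zero_mul]

end

/-- Discrete case. Let B be an A-algebra which is a projective A-module (A and B in one universe). If
for every B-module L in that universe every A-bilinear symmetric Hochschild 2-cocycle B × B → L is a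
coboundary, then B is formally smooth over A. (The published statement assumes B formally projective
as a topological A-module; for discrete rings this is projectivity.) -/
theorem result {A B : Type u} [CommRing A]
    [CommRing B] [Algebra A B] [Module.Projective A B]
    (h : ∀ (L : Type u) [AddCommGroup L] [Module B L] [Module A L] [IsScalarTower A B L]
      (f : B →ₗ[A] B →ₗ[A] L), (∀ x y : B, f x y = f y x) →
        (∀ x y z : B, f (x * y) z + z • f x y = x • f y z + f x (y * z)) →
          ∃ g : B →ₗ[A] L, ∀ x y : B, f x y = x • g y - g (x * y) + y • g x) :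
    Algebra.FormallySmooth A B := by
  refine Algebra.FormallySmooth.of_comp_surjective fun C _ _ I hI φ => ?_
  obtain ⟨s, hs⟩ := Module.projective_lifting_property (Ideal.Quotient.mkₐ A I).toLinearMap φ.toLinearMap
    Ideal.Quotient.mk_surjective
  have hs' : ∀ b, Ideal.Quotient.mk I (s b) = φ b := fun b => LinearMap.congr_fun hs b
  have h1 : s 1 - 1 ∈ I := by
    rw [← Ideal.Quotient.eq_zero_iff_mem, map_sub, hs', map_one, map_one, sub_self]
  have hmul : ∀ x y, s x * s y - s (x * y) ∈ I := fun x y => by
    rw [← Ideal.Quotient.eq_zero_iff_mem, map_sub, map_mul, hs', hs', hs', map_mul, sub_self]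
  let _ : Module B I := modI I hI s h1 hmul
  have hsm : ∀ (b : B) (x : I), ((b • x : I) : C) = s b * x := fun _ _ => rfl
  have : IsScalarTower A B I := ⟨fun a b x => by
    apply Subtype.ext
    change s (a • b) * x = a • (s b * (x : C))
    rw [map_smul, smul_mul_assoc]⟩
  let f : B →ₗ[A] B →ₗ[A] I := LinearMap.mk₂ A (fun x y => ⟨s x * s y - s (x * y), hmul x y⟩)
    (fun x x' y => by
      apply Subtype.ext
      change s (x + x') * s y - s ((x + x') * y) = s x * s y - s (x * y) + (s x' * s y - s (x' * y))
      rw [map_add, add_mul, add_mul, map_add]; ring)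
    (fun a x y => by
      apply Subtype.ext
      change s (a • x) * s y - s ((a • x) * y) = a • (s x * s y - s (x * y))
      rw [map_smul, smul_mul_assoc, smul_mul_assoc, map_smul, smul_sub])
    (fun x y y' => by
      apply Subtype.ext
      change s x * s (y + y') - s (x * (y + y')) = s x * s y - s (x * y) + (s x * s y' - s (x * y'))
      rw [map_add, mul_add, mul_add, map_add]; ring)
    (fun a x y => by
      apply Subtype.ext
      change s x * s (a • y) - s (x * (a • y)) = a • (s x * s y - s (x * y))
      rw [map_smul, mul_smul_comm, mul_smul_comm, map_smul, smul_sub])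
  have hf : ∀ x y, ((f x y : I) : C) = s x * s y - s (x * y) := fun _ _ => rfl
  obtain ⟨g, hg⟩ := h I f (fun x y => by
      apply Subtype.ext
      rw [hf, hf, mul_comm (s x), mul_comm x])
    (fun x y z => by
      apply Subtype.ext
      change s (x * y) * s z - s (x * y * z) + s z * (s x * s y - s (x * y)) =
        s x * (s y * s z - s (y * z)) + (s x * s (y * z) - s (x * (y * z)))
      rw [mul_assoc x y z]; ring)
  have hg' : ∀ x y, s x * s y - s (x * y) = s x * (g y : C) - (g (x * y) : C) + s y * (g x : C) :=
    fun x y => congrArg Subtype.val (hg x y)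
  let t : B →ₗ[A] C := s - I.subtype.restrictScalars A ∘ₗ g
  have ht : ∀ b, t b = s b - (g b : C) := fun _ => rfl
  have htmul : ∀ x y, t (x * y) = t x * t y := fun x y => by
    rw [ht, ht, ht]
    have h0 := mul_eq_zero_of_mem I hI (g x).2 (g y).2
    linear_combination -(hg' x y) - h0
  have hts : ∀ b, Ideal.Quotient.mk I (t b) = φ b := fun b => by
    rw [ht, map_sub, hs', Ideal.Quotient.eq_zero_iff_mem.2 (g b).2, sub_zero]
  have ht1 : t 1 = 1 := by
    have h2 : t 1 - 1 ∈ I := by
      rw [← Ideal.Quotient.eq_zero_iff_mem, map_sub, hts, map_one, map_one, sub_self]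
    have h3 := mul_eq_zero_of_mem I hI h2 h2
    have h4 := htmul 1 1
    rw [mul_one] at h4
    linear_combination -h3 - h4
  refine ⟨AlgHom.ofLinearMap t ht1 htmul, ?_⟩
  ext b
  exact hts b

end Groth.Agent.S5831
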