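import Groth.Statements.S5832
import Groth.Agent.Ega41.K105.ExalBasic

set_option autoImplicit false
universe u u' v
open EGA41

namespace Groth.Agent.S5832

open K105.ExalBasic in
/-- The canonical section of the inverse image of an extension with a section. -/
theorem exists_section_pullback {A : Type u'} {B C L : Type v}
    [CommRing A] [CommRing B] [CommRing C]
    [Algebra A B] [Algebra B C] [Algebra A C] [IsScalarTower A B C]
    [AddCommGroup L] [Module C L] [Module B L] [IsScalarTower B C L] (X : Exal.Ext A C L)
    (s : C →+* X.E) (hs : ∀ c, X.proj (s c) = c) :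
    ∃ (t : B →+* (X.pullback B).E) (ht : ∀ b, (X.pullback B).proj (t b) = b),
      ∀ a, der (X.pullback B) t ht a = der X s hs a := by
  let t : B →+* (X.pullback B).E :=
    { toFun := fun b => ⟨(s (algebraMap B C b), b), hs (algebraMap B C b)⟩
      map_one' := by
        apply Subtype.ext
        change (s (algebraMap B C 1), (1 : B)) = (1, 1)
        rw [map_one, map_one]
      map_mul' := fun b b' => by
        apply Subtype.ext
        change (s (algebraMap B C (b * b')), b * b') =
          (s (algebraMap B C b) * s (algebraMap B C b'), b * b')
        rw [map_mul, map_mul]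
      map_zero' := by
        apply Subtype.ext
        change (s (algebraMap B C 0), (0 : B)) = (0, 0)
        rw [map_zero, map_zero]
      map_add' := fun b b' => by
        apply Subtype.ext
        change (s (algebraMap B C (b + b')), b + b') =
          (s (algebraMap B C b) + s (algebraMap B C b'), b + b')
        rw [map_add, map_add] }
  refine ⟨t, fun b => rfl, fun a => ?_⟩
  apply X.isExtension.incl_injective
  rw [incl_der]
  have h1 := incl_der (X.pullback B) t (fun b => rfl) a
  have h2 := congrArg (fun e : X.fiberProd B => e.1.1) h1
  have h3 : (algebraMap A X.E a) - s (algebraMap B C (algebraMap A B a)) =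
      algebraMap A X.E a - s (algebraMap A C a) := by
    rw [← IsScalarTower.algebraMap_apply]
  exact h2.trans h3

/-- Surjectivity at the end of the sequence. For ring maps Λ → A → B → C and a C-module L, every
Λ-trivial A-extension of B by L is equivalent to the inverse image along B → C of a Λ-trivial
A-extension of C by L. (Exactness at the other places is that of the six-term derivation-extension
sequence restricted to Λ-trivial classes.) -/
theorem result {Λ : Type u} {A : Type u'} {B C L : Type v}
    [CommRing Λ] [CommRing A] [CommRing B] [CommRing C] [Algebra Λ A] [Algebra Λ B] [Algebra Λ C]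
    [Algebra A B] [Algebra B C] [Algebra A C] [IsScalarTower Λ A B] [IsScalarTower Λ A C] [IsScalarTower A B C]
    [AddCommGroup L] [Module C L] [Module B L] [IsScalarTower B C L]
    (Y : Exal.Ext A B L) (hY : Y.IsTrivialOver Λ) :
    ∃ X : Exal.Ext A C L, X.IsTrivialOver Λ ∧ Nonempty ((X.pullback B).Equiv Y) := by
  obtain ⟨s, hs, hsΛ⟩ := (K105.ExalBasic.isTrivialOver_iff Λ Y).1 hY
  have hD : K105.ExalBasic.IsLeibniz C (K105.ExalBasic.der Y s hs) := fun a b => by
    rw [K105.ExalBasic.isLeibniz_der Y s hs, IsScalarTower.algebraMap_apply A B C,
      IsScalarTower.algebraMap_apply A B C, algebraMap_smul C (algebraMap A B a),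
      algebraMap_smul C (algebraMap A B b)]
  refine ⟨K105.ExalBasic.ofDer hD, K105.ExalBasic.isTrivialOver_ofDer Λ hD fun a => ?_, ?_⟩
  · apply Y.isExtension.incl_injective
    rw [K105.ExalBasic.incl_der, map_zero, ← hsΛ, ← IsScalarTower.algebraMap_apply, sub_self]
  · obtain ⟨t, ht, h⟩ := exists_section_pullback (B := B) (K105.ExalBasic.ofDer hD)
      (K105.ExalBasic.ofDerSection hD) (K105.ExalBasic.proj_ofDerSection hD)
    obtain ⟨e, -⟩ := K105.ExalBasic.exists_equiv_of_der_eq _ Y t ht s hs (fun a => by
      rw [h, K105.ExalBasic.der_ofDer])
    exact ⟨e⟩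

end Groth.Agent.S5832
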