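import Groth.Statements.S5833
import Groth.Agent.Ega41.K105.InfChar

set_option autoImplicit false
universe u v
open scoped TensorProduct
open EGA41

namespace Groth.Agent.S5833

open K105.InfChar K105.CharHom K105.ExalBasic

section

variable {Λ : Type u} {A B : Type v} [CommRing Λ]
    [CommRing A] [CommRing B] [Algebra Λ A] [Algebra Λ B] [Algebra A B] [IsScalarTower Λ A B] (K : Ideal B)

/-- The map `C ⊗_A Ω_{A/Λ} → C ⊗_B Ω_{B/Λ}`. -/
noncomputable def im : (B ⧸ K) ⊗[A] Ω[A⁄Λ] →ₗ[B ⧸ K] (B ⧸ K) ⊗[B] Ω[B⁄Λ] :=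
  ((KaehlerDifferential.mapBaseChange Λ A B).baseChange (B ⧸ K)) ∘ₗ
    (TensorProduct.AlgebraTensorModule.cancelBaseChange A B (B ⧸ K) (B ⧸ K) Ω[A⁄Λ]).symm.toLinearMap

theorem im_apply (z : (B ⧸ K) ⊗[A] Ω[A⁄Λ]) : im K z =
    ((KaehlerDifferential.mapBaseChange Λ A B).baseChange (B ⧸ K))
      ((TensorProduct.AlgebraTensorModule.cancelBaseChange A B (B ⧸ K) (B ⧸ K) Ω[A⁄Λ]).symm z) := rfl

theorem im_tmul_D (c : B ⧸ K) (a : A) : im K (c ⊗ₜ KaehlerDifferential.D Λ A a) =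
    c • ((1 : B ⧸ K) ⊗ₜ[B] KaehlerDifferential.D Λ B (algebraMap A B a)) := by
  rw [im_apply, TensorProduct.AlgebraTensorModule.cancelBaseChange_symm_tmul,
    LinearMap.baseChange_tmul, KaehlerDifferential.mapBaseChange_tmul, one_smul,
    KaehlerDifferential.map_D, TensorProduct.smul_tmul', smul_eq_mul, mul_one]

theorem rho_baseChangeToMiddle
    (ρ : (B ⧸ K) ⊗[(XK A K).CharCarrier Λ] Ω[(XK A K).CharCarrier Λ⁄Λ] →ₗ[B ⧸ K] (B ⧸ K) ⊗[B] Ω[B⁄Λ])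
    (hρ : ∀ x : B, ρ ((1 : B ⧸ K) ⊗ₜ[(XK A K).CharCarrier Λ]
        KaehlerDifferential.D Λ ((XK A K).CharCarrier Λ) (toCC Λ (XK A K) (mkE A K x))) =
          (1 : B ⧸ K) ⊗ₜ[B] KaehlerDifferential.D Λ B x) (z : (B ⧸ K) ⊗[A] Ω[A⁄Λ]) :
    ρ ((XK A K).baseChangeToMiddle Λ z) = im K z := by
  induction z using induction_tmul_D with
  | h0 => rw [map_zero, map_zero, map_zero]
  | hadd x y hx hy => rw [map_add, map_add, map_add, hx, hy]
  | h c b =>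
    have h1 : c ⊗ₜ[(XK A K).CharCarrier Λ] KaehlerDifferential.D Λ ((XK A K).CharCarrier Λ)
        (toCC Λ (XK A K) (algebraMap A (XK A K).E b)) = c • ((1 : B ⧸ K) ⊗ₜ[(XK A K).CharCarrier Λ]
          KaehlerDifferential.D Λ ((XK A K).CharCarrier Λ)
            (toCC Λ (XK A K) (algebraMap A (XK A K).E b))) := by
      rw [TensorProduct.smul_tmul', smul_eq_mul, mul_one]
    rw [baseChangeToMiddle_tmul_D, h1, map_smul, algebraMap_mkE, hρ, im_tmul_D]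

theorem sigma_im
    (σ : (B ⧸ K) ⊗[B] Ω[B⁄Λ] →ₗ[B ⧸ K] (B ⧸ K) ⊗[(XK A K).CharCarrier Λ] Ω[(XK A K).CharCarrier Λ⁄Λ])
    (hσ : ∀ x : B, σ ((1 : B ⧸ K) ⊗ₜ[B] KaehlerDifferential.D Λ B x) =
        (1 : B ⧸ K) ⊗ₜ[(XK A K).CharCarrier Λ]
        KaehlerDifferential.D Λ ((XK A K).CharCarrier Λ) (toCC Λ (XK A K) (mkE A K x)))
    (z : (B ⧸ K) ⊗[A] Ω[A⁄Λ]) :
    σ (im K z) = (XK A K).baseChangeToMiddle Λ z := by
  induction z using induction_tmul_D with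
  | h0 => rw [map_zero, map_zero, map_zero]
  | hadd x y hx hy => rw [map_add, map_add, map_add, hx, hy]
  | h c b =>
    rw [baseChangeToMiddle_tmul_D, im_tmul_D, map_smul, hσ, TensorProduct.smul_tmul', smul_eq_mul,
      mul_one, algebraMap_mkE]

theorem mapBaseChange_im (z : (B ⧸ K) ⊗[A] Ω[A⁄Λ]) :
    KaehlerDifferential.mapBaseChange Λ B (B ⧸ K) (im K z) =
      KaehlerDifferential.mapBaseChange Λ A (B ⧸ K) z := by
  induction z using induction_tmul_D with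
  | h0 => rw [map_zero, map_zero, map_zero]
  | hadd x y hx hy => rw [map_add, map_add, map_add, hx, hy]
  | h c b =>
    rw [im_tmul_D, map_smul, KaehlerDifferential.mapBaseChange_tmul, KaehlerDifferential.mapBaseChange_tmul,
      one_smul, KaehlerDifferential.map_D, KaehlerDifferential.map_D, ← IsScalarTower.algebraMap_apply]

/-- Exactness of `C ⊗_A Ω_{A/Λ} → C ⊗_B Ω_{B/Λ} → C ⊗_B Ω_{B/A}`. -/
theorem exact_im (y : (B ⧸ K) ⊗[B] Ω[B⁄Λ]) :
    (KaehlerDifferential.map Λ A B B).lTensor (B ⧸ K) y = 0 ↔ ∃ z : (B ⧸ K) ⊗[A] Ω[A⁄Λ], im K z = y := by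
  have h := lTensor_exact (B ⧸ K) (KaehlerDifferential.exact_mapBaseChange_map Λ A B)
    (KaehlerDifferential.map_surjective Λ A B)
  rw [h y]
  constructor
  · rintro ⟨w, rfl⟩
    refine ⟨TensorProduct.AlgebraTensorModule.cancelBaseChange A B (B ⧸ K) (B ⧸ K) Ω[A⁄Λ] w, ?_⟩
    rw [im_apply, LinearEquiv.symm_apply_apply]
    rfl
  · rintro ⟨z, rfl⟩
    exact ⟨_, rfl⟩

end

/-- Let Λ → A → B be ring maps, K an ideal of B, C = B ⧸ K, and suppose E = B ⧸ K², as an extension of C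
by K/K², is Λ-trivial. Let χ : Υ_{C/A/Λ} → K/K² be the characteristic homomorphism of E as an
A-extension, relative to Λ → A. Then: (a) the kernel of χ consists of the elements of Υ_{C/A/Λ} ⊆ C
⊗_A Ω_{A/Λ} whose image in C ⊗_B Ω_{B/Λ} is zero (that image map is written as the base change to C
of B ⊗_A Ω_{A/Λ} → Ω_{B/Λ}, through the canonical identification C ⊗_B (B ⊗_A Ω_{A/Λ}) = C ⊗_A
Ω_{A/Λ}); (b) the image of χ is the kernel of the conormal map K/K² → C ⊗_B Ω_{B/A}, x ↦ 1 ⊗ dx.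
This is the exact sequence 0 → Υ^C_{B/A/Λ} → Υ_{C/A/Λ} → K/K² → C ⊗_B Ω_{B/A} → Ω_{C/A} → 0 up to
its last two (conormal-sequence) terms. -/
theorem result {Λ : Type u} {A B : Type v} [CommRing Λ]
    [CommRing A] [CommRing B] [Algebra Λ A] [Algebra Λ B] [Algebra A B] [IsScalarTower Λ A B] (K : Ideal B)
    (htriv : ((Exal.Ext.infinitesimal K).restrictBase A).IsTrivialOver Λ)
    (χ : ↥(EGA41.imperfection Λ A (B ⧸ K)) →ₗ[B ⧸ K] K.Cotangent)
    (hχ : ((Exal.Ext.infinitesimal K).restrictBase A).IsCharHom Λ χ) :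
    (∀ z : ↥(EGA41.imperfection Λ A (B ⧸ K)),
        χ z = 0 ↔
          ((KaehlerDifferential.mapBaseChange Λ A B).baseChange (B ⧸ K))
              ((TensorProduct.AlgebraTensorModule.cancelBaseChange A B (B ⧸ K) (B ⧸ K) Ω[A⁄Λ]).symm
                (z : (B ⧸ K) ⊗[A] Ω[A⁄Λ])) = 0) ∧
      ∀ (x : B) (hx : x ∈ K),
        K.toCotangent ⟨x, hx⟩ ∈ LinearMap.range χ ↔
          (1 : B ⧸ K) ⊗ₜ[B] KaehlerDifferential.D A B x = (0 : (B ⧸ K) ⊗[B] Ω[B⁄A]) := by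
  obtain ⟨s, hs, hsΛ⟩ := (isTrivialOver_iff Λ (XK A K)).1 htriv
  have hinj := deltaL_injective Λ (XK A K) s hs hsΛ
  obtain ⟨ρ, hρ⟩ := exists_rho (Λ := Λ) (A := A) K
  obtain ⟨σ, hσ⟩ := exists_sigma (Λ := Λ) (A := A) K
  have hχ' : ∀ z : ↥(EGA41.imperfection Λ A (B ⧸ K)),
    (XK A K).deltaL Λ (χ z) = (XK A K).baseChangeToMiddle Λ (z : (B ⧸ K) ⊗[A] Ω[A⁄Λ]) := hχ
  have key : ∀ z : ↥(EGA41.imperfection Λ A (B ⧸ K)), χ z = 0 ↔ im K (z : (B ⧸ K) ⊗[A] Ω[A⁄Λ]) = 0 := by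
    intro z
    constructor
    · intro h
      rw [← rho_baseChangeToMiddle K ρ hρ, ← hχ', h, map_zero, map_zero]
    · intro h
      apply hinj
      rw [hχ', ← sigma_im K σ hσ, h, map_zero, map_zero]
  refine ⟨key, fun x hx => ?_⟩
  have hdelta : (XK A K).deltaL Λ (K.toCotangent ⟨x, hx⟩) =
      σ ((1 : B ⧸ K) ⊗ₜ[B] KaehlerDifferential.D Λ B x) := by
    rw [hσ, deltaL_apply, incl_toCotangent]
  have hmap : (KaehlerDifferential.map Λ A B B).lTensor (B ⧸ K)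
      ((1 : B ⧸ K) ⊗ₜ[B] KaehlerDifferential.D Λ B x) =
      (1 : B ⧸ K) ⊗ₜ[B] KaehlerDifferential.D A B x := by
    rw [LinearMap.lTensor_tmul, KaehlerDifferential.map_D]
    rfl
  constructor
  · rintro ⟨z, hz⟩
    rw [← hmap]
    refine (exact_im K _).2 ⟨z, ?_⟩
    rw [← rho_baseChangeToMiddle K ρ hρ, ← hχ', hz, deltaL_apply, incl_toCotangent, hρ]
  · intro h
    rw [← hmap] at h
    obtain ⟨z, hz⟩ := (exact_im K _).1 h
    have hzΥ : z ∈ EGA41.imperfection Λ A (B ⧸ K) := by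
      change KaehlerDifferential.mapBaseChange Λ A (B ⧸ K) z = 0
      rw [← mapBaseChange_im, hz, KaehlerDifferential.mapBaseChange_tmul, one_smul,
        KaehlerDifferential.map_D]
      have : algebraMap B (B ⧸ K) x = 0 := Ideal.Quotient.eq_zero_iff_mem.2 hx
      rw [this, map_zero]
    refine ⟨⟨z, hzΥ⟩, ?_⟩
    apply hinj
    rw [hχ', hdelta, ← hz, sigma_im K σ hσ]

end Groth.Agent.S5833
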