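import Groth.Statements.S5834
import Groth.Agent.S5833
import Mathlib.RingTheory.Kaehler.JacobiZariski
import Mathlib.Algebra.Exact.Basic

set_option autoImplicit false
universe u v
open scoped TensorProduct
open EGA41

namespace Groth.Agent.S5834

theorem mapBaseChange_injective {Λ : Type u} {A B : Type v} [CommRing Λ]
    [CommRing A] [CommRing B] [Algebra Λ A] [Algebra Λ B] [Algebra A B] [IsScalarTower Λ A B]
    [Algebra.FormallySmooth A B] : Function.Injective (KaehlerDifferential.mapBaseChange Λ A B) := by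
  rw [injective_iff_map_eq_zero]
  intro z hz
  obtain ⟨y, rfl⟩ := (Algebra.H1Cotangent.exact_δ_mapBaseChange Λ A B z).1 hz
  have : y = 0 := Subsingleton.elim _ _
  rw [this, map_zero]

theorem exists_leftInverse {Λ : Type u} {A B : Type v} [CommRing Λ]
    [CommRing A] [CommRing B] [Algebra Λ A] [Algebra Λ B] [Algebra A B] [IsScalarTower Λ A B]
    [Algebra.FormallySmooth A B] :
    ∃ l : Ω[B⁄Λ] →ₗ[B] B ⊗[A] Ω[A⁄Λ], l ∘ₗ KaehlerDifferential.mapBaseChange Λ A B = LinearMap.id := by
  obtain ⟨s, hs⟩ := Module.projective_lifting_property (KaehlerDifferential.map Λ A B B) LinearMap.id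
    (KaehlerDifferential.map_surjective Λ A B)
  have h := (KaehlerDifferential.exact_mapBaseChange_map Λ A B).split_tfae'
  have h1 := h.out 0 1
  exact (h1.1 ⟨mapBaseChange_injective, s, hs⟩).2

/-- Let Λ → A → B be ring maps with B formally smooth over A, K an ideal of B, C = B ⧸ K, and suppose E
= B ⧸ K², as an extension of C by K/K², is Λ-trivial. Then the characteristic homomorphism χ :
Υ_{C/A/Λ} → K/K² of E as an A-extension relative to Λ → A is injective (so that, with the
description of its image as the kernel of K/K² → C ⊗_B Ω_{B/A}, the sequence 0 → Υ_{C/A/Λ} → K/K² →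
C ⊗_B Ω_{B/A} → Ω_{C/A} → 0 is exact). -/
theorem result {Λ : Type u} {A B : Type v} [CommRing Λ]
    [CommRing A] [CommRing B] [Algebra Λ A] [Algebra Λ B] [Algebra A B] [IsScalarTower Λ A B]
    [Algebra.FormallySmooth A B] (K : Ideal B)
    (htriv : ((Exal.Ext.infinitesimal K).restrictBase A).IsTrivialOver Λ)
    (χ : ↥(EGA41.imperfection Λ A (B ⧸ K)) →ₗ[B ⧸ K] K.Cotangent)
    (hχ : ((Exal.Ext.infinitesimal K).restrictBase A).IsCharHom Λ χ) :
    Function.Injective χ := by
  rw [injective_iff_map_eq_zero]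
  intro z hz
  rw [(Groth.Agent.S5833.result K htriv χ hχ).1] at hz
  obtain ⟨l, hl⟩ := exists_leftInverse (Λ := Λ) (A := A) (B := B)
  have h1 := congrArg (l.baseChange (B ⧸ K)) hz
  rw [← LinearMap.comp_apply, ← LinearMap.baseChange_comp, hl, LinearMap.baseChange_id,
    LinearMap.id_apply, map_zero, LinearEquiv.map_eq_zero_iff] at h1
  exact Subtype.ext h1

end Groth.Agent.S5834
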