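import Groth.Statements.S5835
import Groth.Agent.Ega41.K105.KTower
import Groth.Agent.Ega41.SepExt

set_option autoImplicit false
universe v w
open scoped TensorProduct
open EGA41

namespace Groth.Agent.S5835

open K105.KTower

/-- For fields k₀ ⊆ k ⊆ K ⊆ L, the map of imperfection modules Υ_{L/K/k₀} → Υ_{L/K/k} induced by
Ω_{K/k₀} → Ω_{K/k} is injective (k is k₀-admissible for the extension L of K) in each of the
following cases: L is separable over k; L is separable over K; k lies in k₀(K^p), p the
characteristic exponent. Separable means geometrically reduced (not necessarily algebraic). -/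
theorem result {k : Type v} {k₀ K L : Type w}
    [Field k₀] [Field k] [Field K] [Field L] [Algebra k₀ k] [Algebra k₀ K] [Algebra k₀ L] [Algebra k K]
    [Algebra k L] [Algebra K L] [IsScalarTower k₀ k K] [IsScalarTower k₀ k L] [IsScalarTower k₀ K L]
    [IsScalarTower k K L] (p : ℕ) [ExpChar K p]
    (h : Algebra.IsGeometricallyReduced k L ∨ Algebra.IsGeometricallyReduced K L ∨
      ∀ x : k, algebraMap k K x ∈ EGA41.pPowerSubalgebra p k₀ K) :
    ∀ z : L ⊗[K] Ω[K⁄k₀], z ∈ EGA41.imperfection k₀ K L →
      (KaehlerDifferential.map k₀ k K K).baseChange L z = 0 → z = 0 := by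
  intro z hz hz'
  have hz1 : KaehlerDifferential.mapBaseChange k₀ K L z = 0 := hz
  have hK : Algebra.IsGeometricallyReduced K L → z = 0 := by
    intro hKL
    have := (Groth.Agent.Ega41.SepExt.formallySmooth_iff_isGeometricallyReduced K L).2 hKL
    exact Groth.Agent.Ega41.SepExt.injective_mapBaseChange_of_formallySmooth K L k₀ (hz1.trans (map_zero _).symm)
  obtain ⟨w, rfl⟩ := (exact_im k₀ k K L z).1 hz'
  rcases h with h | h | h
  · have := (Groth.Agent.Ega41.SepExt.formallySmooth_iff_isGeometricallyReduced k L).2 h
    rw [mapBaseChange_im] at hz1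
    have hw : w = 0 := Groth.Agent.Ega41.SepExt.injective_mapBaseChange_of_formallySmooth k L k₀
      (hz1.trans (map_zero _).symm)
    rw [hw, map_zero]
  · exact hK h
  · rcases ‹ExpChar K p› with _ | hp
    · have : PerfectField K := inferInstance
      exact hK (Groth.Agent.Ega41.SepExt.isGeometricallyReduced_of_perfectField K L)
    · -- characteristic `p`: all differentials `D x`, `x ∈ k`, vanish
      have hD : ∀ y ∈ EGA41.pPowerSubalgebra p k₀ K, KaehlerDifferential.D k₀ K y = 0 := by
        intro y hy
        rw [EGA41.pPowerSubalgebra] at hy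
        induction hy using Algebra.adjoin_induction with
        | mem y hy =>
          obtain ⟨x, rfl⟩ := hy
          change KaehlerDifferential.D k₀ K (x ^ p) = 0
          rw [Derivation.leibniz_pow, ← Nat.cast_smul_eq_nsmul K, CharP.cast_eq_zero, zero_smul]
        | algebraMap r => exact Derivation.map_algebraMap _ _
        | add x y _ _ hx hy => rw [map_add, hx, hy, add_zero]
        | mul x y _ _ hx hy => rw [Derivation.leibniz, hx, hy, smul_zero, smul_zero, add_zero]
      have him : ∀ w : L ⊗[k] Ω[k⁄k₀], im k₀ k K L w = 0 := by
        intro w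
        induction w using induction_tmul_D' with
        | h0 => rw [map_zero]
        | hadd x y hx hy => rw [map_add, hx, hy, add_zero]
        | h c b => rw [im_tmul_D, hD _ (h b), TensorProduct.tmul_zero]
      exact him w

end Groth.Agent.S5835
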