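import Groth.Statements.S5836
import Groth.Agent.Ega41.K105.KTower
import Mathlib.LinearAlgebra.Dimension.RankNullity
import Mathlib.LinearAlgebra.Basis.VectorSpace
import Mathlib.LinearAlgebra.Dimension.DivisionRing

set_option autoImplicit false
universe u u' u'' w
open scoped TensorProduct
open EGA41

namespace Groth.Agent.S5836

open K105.KTower

/-- For fields k ⊆ k' ⊆ k'' ⊆ K ⊆ L put Δ(L/K, a/b) = ker(Υ_{L/K/b} → Υ_{L/K/a}) ⊆ L ⊗_K Ω_{K/b}. Then 0
→ Δ(L/K, k'/k) → Δ(L/K, k''/k) → Δ(L/K, k''/k') → 0 is exact: stated as the surjectivity of the map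
induced by L ⊗_K Ω_{K/k} → L ⊗_K Ω_{K/k'} (exactness on the left and in the middle hold by
construction), together with the resulting identity of ranks d(L/K, k''/k) = d(L/K, k''/k') + d(L/K,
k'/k). -/
theorem result {k : Type u} {k' : Type u'} {k'' : Type u''} {K L : Type w}
    [Field k] [Field k'] [Field k''] [Field K] [Field L]
    [Algebra k k'] [Algebra k k''] [Algebra k' k''] [IsScalarTower k k' k'']
    [Algebra k K] [Algebra k' K] [Algebra k'' K] [IsScalarTower k k' K] [IsScalarTower k' k'' K]
    [IsScalarTower k k'' K] [Algebra K L] [Algebra k L] [Algebra k' L] [Algebra k'' L]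
    [IsScalarTower k K L] [IsScalarTower k' K L] [IsScalarTower k'' K L] :
    (∀ w : L ⊗[K] Ω[K⁄k'], w ∈ EGA41.imperfection k' K L →
        (KaehlerDifferential.map k' k'' K K).baseChange L w = 0 →
          ∃ z : L ⊗[K] Ω[K⁄k], z ∈ EGA41.imperfection k K L ∧
            (KaehlerDifferential.map k k'' K K).baseChange L z = 0 ∧
              (KaehlerDifferential.map k k' K K).baseChange L z = w) ∧
      Module.rank L ↥(EGA41.imperfection k K L ⊓
            LinearMap.ker ((KaehlerDifferential.map k k'' K K).baseChange L)) =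
        Module.rank L ↥(EGA41.imperfection k' K L ⊓
              LinearMap.ker ((KaehlerDifferential.map k' k'' K K).baseChange L)) +
          Module.rank L ↥(EGA41.imperfection k K L ⊓
              LinearMap.ker ((KaehlerDifferential.map k k' K K).baseChange L)) := by
  have : IsScalarTower k k' L := IsScalarTower.of_algebraMap_eq fun x => by
    rw [IsScalarTower.algebraMap_apply k K L, IsScalarTower.algebraMap_apply k k' K,
      ← IsScalarTower.algebraMap_apply k' K L]
  have : IsScalarTower k k'' L := IsScalarTower.of_algebraMap_eq fun x => by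
    rw [IsScalarTower.algebraMap_apply k K L, IsScalarTower.algebraMap_apply k k'' K,
      ← IsScalarTower.algebraMap_apply k'' K L]
  have : IsScalarTower k' k'' L := IsScalarTower.of_algebraMap_eq fun x => by
    rw [IsScalarTower.algebraMap_apply k' K L, IsScalarTower.algebraMap_apply k' k'' K,
      ← IsScalarTower.algebraMap_apply k'' K L]
  have hsurj : ∀ w : L ⊗[K] Ω[K⁄k'], w ∈ EGA41.imperfection k' K L →
        (KaehlerDifferential.map k' k'' K K).baseChange L w = 0 →
          ∃ z : L ⊗[K] Ω[K⁄k], z ∈ EGA41.imperfection k K L ∧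
            (KaehlerDifferential.map k k'' K K).baseChange L z = 0 ∧
              (KaehlerDifferential.map k k' K K).baseChange L z = w := by
    intro w hw hw'
    obtain ⟨z, hz, rfl⟩ := exists_lift k k' K L w hw
    refine ⟨z, hz, ?_, rfl⟩
    have h := pr_pr k k' k'' K L z
    exact h.symm.trans hw'
  refine ⟨hsurj, ?_⟩
  let P : Submodule L (L ⊗[K] Ω[K⁄k]) := EGA41.imperfection k K L ⊓
            LinearMap.ker ((KaehlerDifferential.map k k'' K K).baseChange L)
  let Q : Submodule L (L ⊗[K] Ω[K⁄k']) := EGA41.imperfection k' K L ⊓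
              LinearMap.ker ((KaehlerDifferential.map k' k'' K K).baseChange L)
  let N : Submodule L (L ⊗[K] Ω[K⁄k]) := EGA41.imperfection k K L ⊓
              LinearMap.ker ((KaehlerDifferential.map k k' K K).baseChange L)
  have hPQ : ∀ z : P, pr k k' K L z ∈ Q := by
    rintro ⟨z, hz1, hz2⟩
    constructor
    · change KaehlerDifferential.mapBaseChange k' K L (pr k k' K L z) = 0
      have h0 : KaehlerDifferential.mapBaseChange k K L z = 0 := hz1
      rw [← map_mapBaseChange, h0, map_zero]
    · change pr k' k'' K L (pr k k' K L z) = 0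
      rw [pr_pr]
      exact hz2
  let g : P →ₗ[L] Q := LinearMap.codRestrict Q ((pr k k' K L).domRestrict P) hPQ
  have hg : Function.Surjective g := by
    rintro ⟨w, hw1, hw2⟩
    obtain ⟨z, hz1, hz2, hz3⟩ := hsurj w hw1 hw2
    exact ⟨⟨z, hz1, hz2⟩, Subtype.ext hz3⟩
  have h1 := LinearMap.rank_eq_of_surjective (R := L) (M := P) (M₁ := Q) (f := g) hg
  have hNP : N ≤ P := by
    rintro z ⟨hz1, hz2⟩
    refine ⟨hz1, ?_⟩
    change pr k k'' K L z = 0
    rw [← pr_pr k k' k'' K L]
    have : pr k k' K L z = 0 := hz2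
    rw [this, map_zero]
  let e : LinearMap.ker g ≃ₗ[L] N :=
    LinearEquiv.ofBijective
      (LinearMap.codRestrict N (P.subtype ∘ₗ (LinearMap.ker g).subtype) (fun z => by
        refine ⟨z.1.2.1, ?_⟩
        exact congrArg Subtype.val z.2))
      ⟨fun a b hab => Subtype.ext (Subtype.ext (congrArg (fun x : N => (x : L ⊗[K] Ω[K⁄k])) hab)),
        fun b => ⟨⟨⟨b.1, hNP b.2⟩, Subtype.ext b.2.2⟩, Subtype.ext rfl⟩⟩
  rw [e.rank_eq] at h1
  exact h1

end Groth.Agent.S5836
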