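import Groth.Statements.S5837
import Groth.Agent.Ega41.K105.KTower
import Mathlib.LinearAlgebra.Dimension.RankNullity
import Mathlib.LinearAlgebra.Basis.VectorSpace
import Mathlib.LinearAlgebra.Dimension.DivisionRing
import Mathlib.LinearAlgebra.Dimension.Constructions
import Mathlib.LinearAlgebra.TensorProduct.Prod
import Mathlib.RingTheory.Flat.Equalizer

set_option autoImplicit false
universe u u' w
open scoped TensorProduct
open EGA41

namespace Groth.Agent.S5837

open K105.KTower

/-- The dimension of the intersection of two kernels is unchanged by extension of scalars. -/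
theorem rank_ker_inf {L M W W₁ W₂ : Type w} [Field L] [Field M] [Algebra L M] [AddCommGroup W]
    [Module L W] [AddCommGroup W₁] [Module L W₁] [AddCommGroup W₂] [Module L W₂]
    (f : W →ₗ[L] W₁) (g : W →ₗ[L] W₂) :
    Module.rank M ↥(LinearMap.ker (f.baseChange M) ⊓ LinearMap.ker (g.baseChange M)) =
      Module.rank L ↥(LinearMap.ker f ⊓ LinearMap.ker g) := by
  have h1 : LinearMap.ker (f.prod g) = LinearMap.ker f ⊓ LinearMap.ker g := LinearMap.ker_prod f g
  have h2 : LinearMap.ker ((f.prod g).baseChange M) =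
      LinearMap.ker (f.baseChange M) ⊓ LinearMap.ker (g.baseChange M) := by
    have h3 : (TensorProduct.prodRight L M M W₁ W₂).toLinearMap ∘ₗ (f.prod g).baseChange M =
        (f.baseChange M).prod (g.baseChange M) := by
      ext y
      · simp
      · simp
    rw [← LinearMap.ker_prod, ← h3, LinearEquiv.ker_comp]
  rw [← h2, ← h1]
  have e := LinearMap.tensorKerEquiv M M (f.prod g)
  have h4 := e.rank_eq
  rw [Module.rank_baseChange, Cardinal.lift_id] at h4
  exact h4.symm

/-- Rank form. For fields k₀ ⊆ k ⊆ K ⊆ L ⊆ M, with Δ(F/E, k/k₀) = ker(Υ_{F/E/k₀} → Υ_{F/E/k}) and d its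
rank, one has d(M/K, k/k₀) = d(M/L, k/k₀) + d(L/K, k/k₀) (cardinal ranks; the published statement
gives the short exact sequence 0 → Δ(L/K, k/k₀) ⊗_L M → Δ(M/K, k/k₀) → Δ(M/L, k/k₀) → 0, of which
this row states the rank identity). -/
theorem result {k₀ : Type u} {k : Type u'} {K L M : Type w}
    [Field k₀] [Field k] [Field K] [Field L] [Field M] [Algebra k₀ k]
    [Algebra k₀ K] [Algebra k K] [IsScalarTower k₀ k K] [Algebra k₀ L] [Algebra k L] [IsScalarTower k₀ k L]
    [Algebra K L] [Algebra K M] [Algebra L M] [IsScalarTower K L M]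
    [Algebra k₀ M] [Algebra k M] [IsScalarTower k₀ K L] [IsScalarTower k K L]
    [IsScalarTower k₀ K M] [IsScalarTower k K M] [IsScalarTower k₀ L M] [IsScalarTower k L M] :
    Module.rank M ↥(EGA41.imperfection k₀ K M ⊓
          LinearMap.ker ((KaehlerDifferential.map k₀ k K K).baseChange M)) =
      Module.rank M ↥(EGA41.imperfection k₀ L M ⊓
            LinearMap.ker ((KaehlerDifferential.map k₀ k L L).baseChange M)) +
        Module.rank L ↥(EGA41.imperfection k₀ K L ⊓
            LinearMap.ker ((KaehlerDifferential.map k₀ k K K).baseChange L)) := by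
  have : IsScalarTower k₀ k M := IsScalarTower.of_algebraMap_eq fun x => by
    rw [IsScalarTower.algebraMap_apply k₀ K M, IsScalarTower.algebraMap_apply k₀ k K,
      ← IsScalarTower.algebraMap_apply k K M]
  let P : Submodule M (M ⊗[K] Ω[K⁄k₀]) := EGA41.imperfection k₀ K M ⊓
          LinearMap.ker ((KaehlerDifferential.map k₀ k K K).baseChange M)
  let Q : Submodule M (M ⊗[L] Ω[L⁄k₀]) := EGA41.imperfection k₀ L M ⊓
            LinearMap.ker ((KaehlerDifferential.map k₀ k L L).baseChange M)
  -- compatibilities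
  have him_im : ∀ v : M ⊗[k] Ω[k⁄k₀], im k₀ K L M (im k₀ k K M v) = im k₀ k L M v := by
    intro v
    induction v using induction_tmul_D' with
    | h0 => rw [map_zero, map_zero, map_zero]
    | hadd x y hx hy => rw [map_add, map_add, map_add, hx, hy]
    | h c b => rw [im_tmul_D, im_tmul_D, im_tmul_D, ← IsScalarTower.algebraMap_apply]
  have hpr_im : ∀ v : M ⊗[K] Ω[K⁄k₀], pr k₀ k L M (im k₀ K L M v) = im k K L M (pr k₀ k K M v) := by
    intro v
    induction v using induction_tmul_D' with
    | h0 => rw [map_zero, map_zero, map_zero, map_zero]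
    | hadd x y hx hy => rw [map_add, map_add, map_add, map_add, hx, hy]
    | h c b => rw [im_tmul_D, pr_tmul_D, pr_tmul_D, im_tmul_D]
  have hPQ : ∀ z : P, im k₀ K L M z ∈ Q := by
    rintro ⟨z, hz1, hz2⟩
    have h1 : KaehlerDifferential.mapBaseChange k₀ K M z = 0 := hz1
    have h2 : pr k₀ k K M z = 0 := hz2
    constructor
    · change KaehlerDifferential.mapBaseChange k₀ L M (im k₀ K L M z) = 0
      rw [mapBaseChange_im, h1]
    · change pr k₀ k L M (im k₀ K L M z) = 0
      rw [hpr_im, h2, map_zero]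
  let g : P →ₗ[M] Q := LinearMap.codRestrict Q ((im k₀ K L M).domRestrict P) hPQ
  have hg : Function.Surjective g := by
    rintro ⟨w, hw1, hw2⟩
    have h1 : KaehlerDifferential.mapBaseChange k₀ L M w = 0 := hw1
    obtain ⟨v, hv⟩ := (exact_im k₀ k L M w).1 hw2
    refine ⟨⟨im k₀ k K M v, ?_, pr_im k₀ k K M v⟩, Subtype.ext ((him_im v).trans hv)⟩
    change KaehlerDifferential.mapBaseChange k₀ K M (im k₀ k K M v) = 0
    rw [← mapBaseChange_im k₀ K L M, him_im, hv, h1]
  have h1 := LinearMap.rank_eq_of_surjective (R := M) (M := P) (M₁ := Q) (f := g) hg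
  have h2 := rank_ker_inf (M := M) (KaehlerDifferential.mapBaseChange k₀ K L)
    ((KaehlerDifferential.map k₀ k K K).baseChange L)
  let cc : M ⊗[L] (L ⊗[K] Ω[K⁄k₀]) ≃ₗ[M] M ⊗[K] Ω[K⁄k₀] :=
    TensorProduct.AlgebraTensorModule.cancelBaseChange K L M M Ω[K⁄k₀]
  let cc' : M ⊗[L] (L ⊗[K] Ω[K⁄k]) ≃ₗ[M] M ⊗[K] Ω[K⁄k] :=
    TensorProduct.AlgebraTensorModule.cancelBaseChange K L M M Ω[K⁄k]
  have hcc : ∀ y, pr k₀ k K M (cc y) =
      cc' ((((KaehlerDifferential.map k₀ k K K).baseChange L).baseChange M) y) := by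
    intro y
    induction y using TensorProduct.induction_on with
    | zero => rw [map_zero, map_zero, map_zero, map_zero]
    | add x y hx hy => rw [map_add, map_add, map_add, map_add, hx, hy]
    | tmul m y =>
      induction y using TensorProduct.induction_on with
      | zero => rw [TensorProduct.tmul_zero, map_zero, map_zero, map_zero, map_zero]
      | add x y hx hy =>
        rw [TensorProduct.tmul_add, map_add, map_add, map_add, map_add, hx, hy]
      | tmul l ω =>
        rw [LinearMap.baseChange_tmul, LinearMap.baseChange_tmul,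
          TensorProduct.AlgebraTensorModule.cancelBaseChange_tmul,
          TensorProduct.AlgebraTensorModule.cancelBaseChange_tmul]
        rfl
  have hiff : ∀ y, cc y ∈ P ∧ im k₀ K L M (cc y) = 0 ↔
      y ∈ LinearMap.ker ((KaehlerDifferential.mapBaseChange k₀ K L).baseChange M) ⊓
        LinearMap.ker (((KaehlerDifferential.map k₀ k K K).baseChange L).baseChange M) := by
    intro y
    have h3 : im k₀ K L M (cc y) = (KaehlerDifferential.mapBaseChange k₀ K L).baseChange M y := by
      change (KaehlerDifferential.mapBaseChange k₀ K L).baseChange M (cc.symm (cc y)) = _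
      rw [LinearEquiv.symm_apply_apply]
    constructor
    · rintro ⟨⟨-, hy1⟩, hy2⟩
      refine ⟨?_, ?_⟩
      · rw [SetLike.mem_coe, LinearMap.mem_ker, ← h3, hy2]
      · have h4 : pr k₀ k K M (cc y) = 0 := hy1
        rw [hcc] at h4
        exact (LinearEquiv.map_eq_zero_iff cc').1 h4
    · rintro ⟨hy1, hy2⟩
      have hy1' : (KaehlerDifferential.mapBaseChange k₀ K L).baseChange M y = 0 := hy1
      have hy2' : (((KaehlerDifferential.map k₀ k K K).baseChange L).baseChange M) y = 0 := hy2
      refine ⟨⟨?_, ?_⟩, ?_⟩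
      · change KaehlerDifferential.mapBaseChange k₀ K M (cc y) = 0
        rw [← mapBaseChange_im k₀ K L M, h3, hy1', map_zero]
      · change pr k₀ k K M (cc y) = 0
        rw [hcc, hy2', map_zero]
      · rw [h3, hy1']
  let e : LinearMap.ker g ≃ₗ[M] ↥(LinearMap.ker ((KaehlerDifferential.mapBaseChange k₀ K L).baseChange M) ⊓
        LinearMap.ker (((KaehlerDifferential.map k₀ k K K).baseChange L).baseChange M)) :=
    LinearEquiv.ofBijective
      (LinearMap.codRestrict _ (cc.symm.toLinearMap ∘ₗ P.subtype ∘ₗ (LinearMap.ker g).subtype) (fun z => by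
        rw [← hiff]
        have h5 : cc ((cc.symm.toLinearMap ∘ₗ P.subtype ∘ₗ (LinearMap.ker g).subtype) z) = z.1.1 :=
          cc.apply_symm_apply z.1.1
        rw [h5]
        exact ⟨z.1.2, congrArg Subtype.val z.2⟩))
      ⟨fun a b hab => Subtype.ext (Subtype.ext (cc.symm.injective (congrArg Subtype.val hab))),
        fun b => ⟨⟨⟨cc b.1, ((hiff b.1).2 b.2).1⟩, Subtype.ext ((hiff b.1).2 b.2).2⟩,
          Subtype.ext (cc.symm_apply_apply b.1)⟩⟩
  rw [e.rank_eq] at h1
  exact h1.trans (congrArg _ h2)

end Groth.Agent.S5837
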