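import Groth.Statements.S5838
import Groth.Agent.S5826
import Groth.Agent.Ega41.K105.LiftMod
import Mathlib.Topology.Algebra.IsUniformGroup.Basic
import Mathlib.Topology.UniformSpace.Cauchy

set_option autoImplicit false
universe u v w
open EGA41

namespace Groth.Agent.S5838

theorem exists_lim {A : Type u} {M : Type v}
    [CommRing A] [TopologicalSpace A] [AddCommGroup M] [Module A M] [UniformSpace M] [IsUniformAddGroup M]
    [CompleteSpace M]
    (𝔍 : ℕ → Ideal A) (h𝔍open : ∀ n, IsOpen (𝔍 n : Set A)) (h𝔍anti : Antitone 𝔍)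
    (h𝔍basis : (nhds (0 : A)).HasBasis (fun _ : ℕ => True) (fun n => (𝔍 n : Set A)))
    (hM : TopMod.IsDeduced A M) (m : ℕ → M)
    (hm : ∀ n, m (n + 1) - m n ∈ (𝔍 n • ⊤ : Submodule A M)) :
    ∃ x : M, ∀ n, x - m n ∈ (𝔍 n • ⊤ : Submodule A M) := by
  have hbasis : (nhds (0 : M)).HasBasis (fun _ : ℕ => True)
      (fun n => ((𝔍 n • ⊤ : Submodule A M) : Set M)) := by
    refine ⟨fun t => ?_⟩
    rw [hM.2.mem_iff]
    constructor
    · rintro ⟨J, hJ, hJt⟩
      obtain ⟨n, -, hn⟩ := h𝔍basis.mem_iff.1 (hJ.mem_nhds (zero_mem J))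
      exact ⟨n, trivial, fun x hx => hJt (Submodule.smul_mono_left hn hx)⟩
    · rintro ⟨n, -, hn⟩
      exact ⟨𝔍 n, h𝔍open n, hn⟩
  have hm' : ∀ n k, m (n + k) - m n ∈ (𝔍 n • ⊤ : Submodule A M) := by
    intro n k
    induction k with
    | zero => simp
    | succ k ih =>
      have h1 := Submodule.smul_mono_left (N := (⊤ : Submodule A M)) (h𝔍anti (Nat.le_add_right n k)) (hm (n + k))
      have := add_mem h1 ih
      rwa [sub_add_sub_cancel, add_assoc] at this
  have hcauchy : CauchySeq m := by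
    have hu : (uniformity M).HasBasis (fun _ : ℕ => True)
        (fun n => (fun x : M × M => x.2 - x.1) ⁻¹' ((𝔍 n • ⊤ : Submodule A M) : Set M)) := by
      rw [uniformity_eq_comap_nhds_zero]
      exact hbasis.comap _
    rw [hu.cauchySeq_iff]
    intro n _
    refine ⟨n, fun a ha b hb => ?_⟩
    obtain ⟨a, rfl⟩ := Nat.exists_eq_add_of_le ha
    obtain ⟨b, rfl⟩ := Nat.exists_eq_add_of_le hb
    have := sub_mem (hm' n b) (hm' n a)
    rwa [sub_sub_sub_cancel_right] at this
  obtain ⟨x, hx⟩ := cauchySeq_tendsto_of_complete hcauchy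
  refine ⟨x, fun n => ?_⟩
  have hopen := K105.TopModA.isOpen_smul_top hM (h𝔍open n)
  have hclosed : IsClosed ((𝔍 n • ⊤ : Submodule A M) : Set M) :=
    AddSubgroup.isClosed_of_isOpen (𝔍 n • ⊤ : Submodule A M).toAddSubgroup hopen
  have hc2 : IsClosed {y : M | y - m n ∈ ((𝔍 n • ⊤ : Submodule A M) : Set M)} :=
    hclosed.preimage (continuous_id.sub continuous_const)
  refine hc2.mem_of_tendsto hx ?_
  filter_upwards [Filter.eventually_ge_atTop n] with k hk
  obtain ⟨k, rfl⟩ := Nat.exists_eq_add_of_le hk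
  exact hm' n k

theorem eq_of_forall_sub_mem {A : Type u} {M : Type v}
    [CommRing A] [TopologicalSpace A] [AddCommGroup M] [Module A M] [TopologicalSpace M]
    [T2Space M]
    (𝔍 : ℕ → Ideal A)
    (h𝔍basis : (nhds (0 : A)).HasBasis (fun _ : ℕ => True) (fun n => (𝔍 n : Set A)))
    (hM : TopMod.IsDeduced A M) (x y : M)
    (h : ∀ n, x - y ∈ (𝔍 n • ⊤ : Submodule A M)) : x = y := by
  by_contra hxy
  have h1 : x - y ≠ 0 := sub_ne_zero.2 hxy
  have h2 : ({x - y}ᶜ : Set M) ∈ nhds (0 : M) := isOpen_compl_singleton.mem_nhds h1.symm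
  obtain ⟨J, hJ, hJ'⟩ := hM.2.mem_iff.1 h2
  obtain ⟨n, -, hn⟩ := h𝔍basis.mem_iff.1 (hJ.mem_nhds (zero_mem J))
  exact hJ' (Submodule.smul_mono_left hn (h n)) rfl

/-- Let A be a topological ring with a countable decreasing fundamental system (𝔍_n) of open ideals, M
and N topological A-modules with the topologies deduced from that of A, M Hausdorff and complete,
and u : M → N a continuous linear map such that for every n the cokernel of M/𝔍_n M → N/𝔍_n N is a
projective (A/𝔍_n)-module. Then u is formally left invertible if and only if it has a linear left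
inverse. (The published statement adds that u is then a topological isomorphism onto a topological
direct factor.) -/
theorem result {A : Type u} {M : Type v} {N : Type w}
    [CommRing A] [TopologicalSpace A] [AddCommGroup M] [Module A M] [UniformSpace M] [IsUniformAddGroup M]
    [CompleteSpace M] [T2Space M] [AddCommGroup N] [Module A N] [TopologicalSpace N]
    (𝔍 : ℕ → Ideal A) (h𝔍open : ∀ n, IsOpen (𝔍 n : Set A)) (h𝔍anti : Antitone 𝔍)
    (h𝔍basis : (nhds (0 : A)).HasBasis (fun _ : ℕ => True) (fun n => (𝔍 n : Set A)))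
    (hM : TopMod.IsDeduced A M) (hN : TopMod.IsDeduced A N) (u : M →L[A] N)
    (hcoker : ∀ n, Module.Projective (A ⧸ 𝔍 n)
      ((N ⧸ LinearMap.range u.toLinearMap) ⧸ (𝔍 n • (⊤ : Submodule A (N ⧸ LinearMap.range u.toLinearMap))))) :
    TopMod.IsFormallyLeftInvertible u ↔ ∃ w : N →ₗ[A] M, ∀ x : M, w (u x) = x := by
  rw [Groth.Agent.S5826.result hM hN u]
  constructor
  swap
  · rintro ⟨w, hw⟩ J _
    exact ⟨(J • ⊤ : Submodule A M).mkQ ∘ₗ w, fun x => by rw [LinearMap.comp_apply, hw]; rfl⟩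
  intro h
  let W : ℕ → Type (max v w) := fun n =>
    {w : N →ₗ[A] M ⧸ (𝔍 n • ⊤ : Submodule A M) // ∀ x : M, w (u x) = Submodule.Quotient.mk x}
  have hle : ∀ n, (𝔍 (n + 1) • ⊤ : Submodule A M) ≤ (𝔍 n • ⊤ : Submodule A M) := fun n =>
    Submodule.smul_mono_left (h𝔍anti (Nat.le_succ n))
  have step : ∀ n (w : W n), ∃ w' : W (n + 1), Submodule.factor (hle n) ∘ₗ w'.1 = w.1 := by
    rintro n ⟨w, hw⟩
    obtain ⟨w', hw'⟩ := h (𝔍 (n + 1)) (h𝔍open (n + 1))
    let δ : N →ₗ[A] M ⧸ (𝔍 n • ⊤ : Submodule A M) := Submodule.factor (hle n) ∘ₗ w' - w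
    have hδ : LinearMap.range u.toLinearMap ≤ LinearMap.ker δ := by
      rintro _ ⟨x, rfl⟩
      change Submodule.factor (hle n) (w' (u x)) - w (u x) = 0
      rw [hw, hw', sub_eq_zero]
      rfl
    let δ' : (N ⧸ LinearMap.range u.toLinearMap) →ₗ[A] M ⧸ (𝔍 n • ⊤ : Submodule A M) :=
      (LinearMap.range u.toLinearMap).liftQ δ hδ
    have := hcoker (n + 1)
    obtain ⟨g, hg⟩ := K105.LiftMod.lift_of_projective_mod (𝔍 (n + 1))
      (Module.isTorsionBySet_quotient_ideal_smul M (𝔍 (n + 1))) (Submodule.factor (hle n))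
      (Submodule.factor_surjective (hle n)) δ'
    refine ⟨⟨w' - g ∘ₗ (LinearMap.range u.toLinearMap).mkQ, fun x => ?_⟩, ?_⟩
    · rw [LinearMap.sub_apply, hw', LinearMap.comp_apply]
      have : (LinearMap.range u.toLinearMap).mkQ (u x) = 0 := by
        rw [Submodule.mkQ_apply, Submodule.Quotient.mk_eq_zero]
        exact ⟨x, rfl⟩
      rw [this, map_zero, sub_zero]
    · ext y
      have h1 := LinearMap.congr_fun hg ((LinearMap.range u.toLinearMap).mkQ y)
      rw [LinearMap.comp_apply] at h1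
      rw [LinearMap.comp_apply, LinearMap.sub_apply, map_sub, LinearMap.comp_apply, h1]
      change Submodule.factor (hle n) (w' y) - (Submodule.factor (hle n) (w' y) - w y) = w y
      rw [sub_sub_cancel]
  choose nxt hnxt using step
  obtain ⟨w0, hw0⟩ := h (𝔍 0) (h𝔍open 0)
  let W' : ∀ n, W n := fun n => Nat.rec (motive := W) ⟨w0, hw0⟩ nxt n
  have hW' : ∀ n, Submodule.factor (hle n) ∘ₗ (W' (n + 1)).1 = (W' n).1 := fun n => hnxt n (W' n)
  have hex : ∀ y : N, ∃ x : M, ∀ n, Submodule.Quotient.mk x = (W' n).1 y := by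
    intro y
    choose m hm using fun n => Submodule.Quotient.mk_surjective _ ((W' n).1 y)
    obtain ⟨x, hx⟩ := exists_lim 𝔍 h𝔍open h𝔍anti h𝔍basis hM m (fun n => by
      rw [← Submodule.Quotient.mk_eq_zero, Submodule.Quotient.mk_sub, hm n, ← hW' n, LinearMap.comp_apply,
        ← hm (n + 1), sub_eq_zero]
      rfl)
    refine ⟨x, fun n => ?_⟩
    have h1 := hx n
    rw [← Submodule.Quotient.mk_eq_zero, Submodule.Quotient.mk_sub, hm n, sub_eq_zero] at h1
    exact h1
  have huniq : ∀ x y : M, (∀ n, (Submodule.Quotient.mk x : M ⧸ (𝔍 n • ⊤ : Submodule A M)) =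
      Submodule.Quotient.mk y) → x = y := fun x y hxy =>
    eq_of_forall_sub_mem 𝔍 h𝔍basis hM x y fun n => (Submodule.Quotient.eq _).1 (hxy n)
  choose f hf using hex
  refine ⟨{ toFun := f, map_add' := fun y z => ?_, map_smul' := fun a y => ?_ }, fun x => ?_⟩
  · exact huniq _ _ fun n => by
      rw [hf, map_add, Submodule.Quotient.mk_add, hf, hf]
  · exact huniq _ _ fun n => by
      rw [hf, map_smul, RingHom.id_apply, Submodule.Quotient.mk_smul, hf]
  · exact huniq _ _ fun n => by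
      change Submodule.Quotient.mk (f (u x)) = _
      rw [hf]
      exact (W' n).2 x

end Groth.Agent.S5838
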