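import Groth.Statements.S5839
import Groth.Agent.S5827
import Groth.Agent.S5838
import Mathlib.RingTheory.Ideal.Quotient.Operations

set_option autoImplicit false
universe u v w
open EGA41

namespace Groth.Agent.S5839

theorem projective_coker {A : Type u} {M : Type v} {N : Type w} [CommRing A] [AddCommGroup M]
    [Module A M] [AddCommGroup N] [Module A N] (u : M →ₗ[A] N) (I : Ideal A)
    [Module.Projective (A ⧸ I) (N ⧸ (I • (⊤ : Submodule A N)))]
    (w : N →ₗ[A] M ⧸ (I • ⊤ : Submodule A M)) (hw : ∀ x : M, w (u x) = Submodule.Quotient.mk x) :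
    Module.Projective (A ⧸ I)
      ((N ⧸ LinearMap.range u) ⧸ (I • (⊤ : Submodule A (N ⧸ LinearMap.range u)))) := by
  -- the map induced by `u`
  have hu : (I • ⊤ : Submodule A M) ≤ (I • ⊤ : Submodule A N).comap u := by
    refine Submodule.smul_le.2 fun a ha y _ => ?_
    rw [Submodule.mem_comap, map_smul]
    exact Submodule.smul_mem_smul ha Submodule.mem_top
  let ū : (M ⧸ (I • ⊤ : Submodule A M)) →ₗ[A] N ⧸ (I • ⊤ : Submodule A N) := Submodule.mapQ _ _ u hu
  have hr : (I • ⊤ : Submodule A N) ≤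
      (I • ⊤ : Submodule A (N ⧸ LinearMap.range u)).comap (LinearMap.range u).mkQ := by
    refine Submodule.smul_le.2 fun a ha y _ => ?_
    rw [Submodule.mem_comap, map_smul]
    exact Submodule.smul_mem_smul ha Submodule.mem_top
  let π : (N ⧸ (I • ⊤ : Submodule A N)) →ₗ[A]
      ((N ⧸ LinearMap.range u) ⧸ (I • (⊤ : Submodule A (N ⧸ LinearMap.range u)))) :=
    Submodule.mapQ _ _ (LinearMap.range u).mkQ hr
  let t : N →ₗ[A] N ⧸ (I • ⊤ : Submodule A N) := (I • ⊤ : Submodule A N).mkQ - ū ∘ₗ w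
  have ht : LinearMap.range u ≤ LinearMap.ker t := by
    rintro _ ⟨x, rfl⟩
    change Submodule.Quotient.mk (u x) - ū (w (u x)) = 0
    rw [hw, sub_eq_zero]
    rfl
  let s' : (N ⧸ LinearMap.range u) →ₗ[A] N ⧸ (I • ⊤ : Submodule A N) := (LinearMap.range u).liftQ t ht
  have hs' : (I • ⊤ : Submodule A (N ⧸ LinearMap.range u)) ≤ LinearMap.ker s' := by
    refine Submodule.smul_le.2 fun a ha y _ => ?_
    rw [LinearMap.mem_ker, map_smul]
    exact @Module.isTorsionBySet_quotient_ideal_smul _ N _ _ _ I _ ⟨a, ha⟩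
  let s := (I • ⊤ : Submodule A (N ⧸ LinearMap.range u)).liftQ s' hs'
  have hsurj : Function.Surjective (algebraMap A (A ⧸ I)) := Ideal.Quotient.mk_surjective
  refine Module.Projective.of_split (LinearMap.extendScalarsOfSurjective hsurj s)
    (LinearMap.extendScalarsOfSurjective hsurj π) ?_
  ext y
  obtain ⟨y, rfl⟩ := Submodule.Quotient.mk_surjective _ y
  obtain ⟨y, rfl⟩ := Submodule.Quotient.mk_surjective _ y
  change π (Submodule.Quotient.mk y - ū (w y)) = _
  obtain ⟨m, hm⟩ := Submodule.Quotient.mk_surjective _ (w y)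
  rw [map_sub, ← hm]
  change Submodule.Quotient.mk (Submodule.Quotient.mk y) -
    Submodule.Quotient.mk (Submodule.Quotient.mk (u m)) = _
  have : (Submodule.Quotient.mk (u m) : N ⧸ LinearMap.range u) = 0 :=
    (Submodule.Quotient.mk_eq_zero _).2 ⟨m, rfl⟩
  rw [this, Submodule.Quotient.mk_zero, sub_zero]
  rfl

/-- Let A be preadmissible with ideal of definition 𝔏, the topologies of M and N deduced from that of A,
N/JN projective over A/J for every open ideal J; assuming moreover a countable decreasing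
fundamental system of open ideals and M Hausdorff and complete, u : M → N has a linear left inverse
if and only if the induced map M/𝔏M → N/𝔏N has one (both being equivalent to formal left
invertibility). -/
theorem result {A : Type u} {M : Type v} {N : Type w}
    [CommRing A] [TopologicalSpace A] [AddCommGroup M] [Module A M] [UniformSpace M] [IsUniformAddGroup M]
    [CompleteSpace M] [T2Space M] [AddCommGroup N] [Module A N] [TopologicalSpace N]
    (𝔍 : ℕ → Ideal A) (h𝔍open : ∀ n, IsOpen (𝔍 n : Set A)) (h𝔍anti : Antitone 𝔍)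
    (h𝔍basis : (nhds (0 : A)).HasBasis (fun _ : ℕ => True) (fun n => (𝔍 n : Set A)))
    (hM : TopMod.IsDeduced A M) (hN : TopMod.IsDeduced A N) (u : M →L[A] N)
    (hA : LinTop.IsPreadmissible A) (𝔏 : Ideal A) (h𝔏 : LinTop.IsIdealOfDefinition A 𝔏)
    (hproj : ∀ J : Ideal A, IsOpen (J : Set A) → Module.Projective (A ⧸ J) (N ⧸ (J • (⊤ : Submodule A N)))) :
    (∃ w : N →ₗ[A] M, ∀ x : M, w (u x) = x) ↔
      ∃ w₀ : N →ₗ[A] M ⧸ (𝔏 • ⊤ : Submodule A M), ∀ x : M, w₀ (u x) = Submodule.Quotient.mk x := by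
  constructor
  · rintro ⟨w, hw⟩
    exact ⟨(𝔏 • ⊤ : Submodule A M).mkQ ∘ₗ w, fun x => by rw [LinearMap.comp_apply, hw]; rfl⟩
  · intro h0
    have h1 := (Groth.Agent.S5827.result hA 𝔏 h𝔏 hM hN hproj u).2 h0
    have h2 := (Groth.Agent.S5826.result hM hN u).1 h1
    refine (Groth.Agent.S5838.result 𝔍 h𝔍open h𝔍anti h𝔍basis hM hN u fun n => ?_).1 h1
    obtain ⟨w, hw⟩ := h2 (𝔍 n) (h𝔍open n)
    have := hproj (𝔍 n) (h𝔍open n)
    exact projective_coker u.toLinearMap (𝔍 n) w hw

end Groth.Agent.S5839
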