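import Groth.Statements.S5887
import Groth.Agent.ConsProp.K285.Elem
import Groth.Agent.Ega43.LocusElem

set_option autoImplicit false
universe u
open CategoryTheory AlgebraicGeometry
open ConsProp

namespace Groth.Agent.S5887

/-- The property of an algebraic k-scheme X of being radicial over k (structure morphism universally
injective) is a constructible property of algebraic schemes. -/
theorem result :
    ConsProp.IsCons (fun Y T g => AlgebraicGeometry.UniversallyInjective g) :=
  K285.Elem.isCons_of_fpqcInv (P := @UniversallyInjective)
    (Groth.Agent.Ega43.Locus.FpqcInv.of_descendsAlong _)
    (fun f g hg hfg => by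
      have := hg.lfp; have := hg.qc; have := hg.qs
      have := hfg.lfp; have := hfg.qc; have := hfg.qs
      exact Groth.Agent.Ega43.LocusElem.isLocallyConstructible_locus_universallyInjective f g)

end Groth.Agent.S5887
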