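import Groth.Statements.S5888
import Groth.Agent.ConsProp.K285.Elem
import Groth.Agent.ConsProp.K285.DimField
import Groth.Agent.S1333

set_option autoImplicit false
universe u
open CategoryTheory AlgebraicGeometry
open ConsProp

namespace Groth.Agent.S5888

/-- For a given set Φ of values (natural numbers, with −∞ = ⊥ the dimension of the empty scheme), the
property of an algebraic k-scheme X that the dimension of X belongs to Φ is a constructible property
of algebraic schemes. The dimension is the Krull dimension of the underlying topological space,
valued in WithBot ℕ∞. -/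
theorem result (Φ : Set (WithBot ℕ∞)) :
    ConsProp.IsCons (fun Y T g => topologicalKrullDim ↥Y ∈ Φ) := by
  refine ⟨?_, ?_⟩
  · intro Y Y' T T' g g' e h _ _ _ _ _ _ hpb
    have := K285.DimField.topologicalKrullDim_eq g g' e h hpb
    simp only [this]
  · intro X S u _ _ _ _
    have hfp := K285.Elem.fp_of_isLocallyNoetherian u
    have := hfp.lfp; have := hfp.qc; have := hfp.qs
    let n := topologicalKrullDim ↑(u.fiber (genericPoint S))
    have h1 := Groth.Agent.S1333.result u n
    have h2 := K285.Elem.interior_nonempty_of_mem ((Groth.Agent.S3402.result _ _).1 h1).1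
      (show genericPoint S ∈ {y | topologicalKrullDim ↑(u.fiber y) = n} from rfl)
    by_cases hn : n ∈ Φ
    · refine Or.inl (h2.mono (interior_mono ?_))
      intro s (hs : topologicalKrullDim ↑(u.fiber s) = n)
      change topologicalKrullDim ↑(u.fiber s) ∈ Φ
      rwa [hs]
    · refine Or.inr (h2.mono (interior_mono ?_))
      intro s (hs : topologicalKrullDim ↑(u.fiber s) = n)
      change ¬ topologicalKrullDim ↑(u.fiber s) ∈ Φ
      rwa [hs]

end Groth.Agent.S5888
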