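import Groth.Statements.S5889
import Groth.Agent.ConsProp.K285.Elem
import Groth.Agent.Ega43.LocusQF

set_option autoImplicit false
universe u
open CategoryTheory AlgebraicGeometry
open ConsProp

namespace Groth.Agent.S5889

open Groth.Agent.Ega43.Locus Groth.Agent.Ega43.LocusAff in
/-- Being quasi-finite (locally of finite type, quasi-compact, with discrete fibres) is a constructible
property of morphisms of algebraic schemes. -/
theorem result :
    ConsProp.IsConsMor
      (fun X Y T f g => AlgebraicGeometry.LocallyOfFiniteType f ∧ AlgebraicGeometry.QuasiCompact f ∧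
        AlgebraicGeometry.LocallyQuasiFinite f) := by
  have h0 : ConsProp.IsConsMor (fun X Y T f g => AlgebraicGeometry.LocallyQuasiFinite f) :=
    K285.Elem.isConsMor_of_fpqcInv (P := @LocallyQuasiFinite)
      Groth.Agent.Ega43.LocusQF.fpqcInv_locallyQuasiFinite
      (fun f g hg hfg => Groth.Agent.Ega43.LocusQF.isLocallyConstructible_locus_locallyQuasiFinite f g
        hg hfg)
  -- the first two conditions hold automatically
  refine ⟨?_, ?_⟩
  · intro X X' Y Y' T T' f g f' g' eX eY h _ _ _ _ _ _ _ _ hY hX
    have hf : FP f :=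
      (K285.Elem.fp_of_isLocallyNoetherian (f ≫ g)).of_comp (K285.Elem.fp_of_isLocallyNoetherian g)
    have hf' : FP f' := hf.of_isPullback hX
    have h1 := h0.1 f g f' g' eX eY h hY hX
    have a1 := hf.lfp
    have a2 := hf.qc
    have a3 := hf'.lfp
    have a4 := hf'.qc
    exact ⟨fun h => ⟨inferInstance, inferInstance, h1.1 h.2.2⟩,
      fun h => ⟨inferInstance, inferInstance, h1.2 h.2.2⟩⟩
  · intro X Y S f g _ _ _ _ _ _
    have hf : FP f :=
      (K285.Elem.fp_of_isLocallyNoetherian (f ≫ g)).of_comp (K285.Elem.fp_of_isLocallyNoetherian g)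
    have h1 := h0.2 f g
    have h2 : ConsProp.locusMor (fun X Y T f g => AlgebraicGeometry.LocallyOfFiniteType f ∧
        AlgebraicGeometry.QuasiCompact f ∧ AlgebraicGeometry.LocallyQuasiFinite f) f g =
        ConsProp.locusMor (fun X Y T f g => AlgebraicGeometry.LocallyQuasiFinite f) f g := by
      ext s
      have hb : FP (bcMap f g (S.fromSpecResidueField s)) := hf.of_isPullback (isPullback_bcMap f g _)
      have a1 := hb.lfp
      have a2 := hb.qc
      have a3 : LocallyOfFiniteType (bcMap f g (S.fromSpecResidueField s)) := inferInstance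
      exact ⟨fun h => h.2.2, fun h => ⟨a3, a2, h⟩⟩
    rw [h2]
    exact h1

end Groth.Agent.S5889
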