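import Groth.Statements.S5890
import Groth.Agent.ConsProp.K285.Elem
import Groth.Agent.Ega43.LocusElem

set_option autoImplicit false
universe u
open CategoryTheory AlgebraicGeometry
open ConsProp

namespace Groth.Agent.S5890

/-- Being radicial (universally injective) is a constructible property of morphisms of algebraic
schemes. -/
theorem result :
    ConsProp.IsConsMor (fun X Y T f g => AlgebraicGeometry.UniversallyInjective f) :=
  K285.Elem.isConsMor_of_fpqcInv (P := @UniversallyInjective)
    (Groth.Agent.Ega43.Locus.FpqcInv.of_descendsAlong _)
    (fun f g hg hfg => by
      have := hg.lfp; have := hg.qc; have := hg.qs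
      have := hfg.lfp; have := hfg.qc; have := hfg.qs
      exact Groth.Agent.Ega43.LocusElem.isLocallyConstructible_locus_universallyInjective f g)

end Groth.Agent.S5890
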