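import Groth.Statements.S5892
import Groth.Agent.ConsProp.K285.ModP
import Groth.Agent.ConsProp.K285.Lim

set_option autoImplicit false
universe u
open CategoryTheory AlgebraicGeometry
open ConsProp

namespace Groth.Agent.S5892

/-- Let S = lim S_i be a cofiltered limit of schemes with affine transition maps, i₀ an index with
S_{i₀} quasi-compact, u₀ : X₀ ⟶ S_{i₀} a morphism of finite presentation (locally of finite
presentation, quasi-compact and quasi-separated), F₀ a quasi-coherent O_{X₀}-module of finite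
presentation, u : X ⟶ S the base change of u₀ along S ⟶ S_{i₀} (a pullback square with q : X ⟶ X₀)
and F the pullback of F₀ along q. Let P(X, F, k) be an ind-constructible property of algebraic
schemes with a coherent module. Then P holds for (X_s, F_s) over κ(s) for every point s of S if and
only if there is an index j over i₀ such that, for the base change u_j : X_j ⟶ S_j of u₀ with p :
X_j ⟶ X₀ and F_j the pullback of F₀ along p, P holds for the fibre data of (u_j, F_j) over every
point of S_j. (The published statement is for relations on morphisms and is extended there, with the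
same proof, to relations on algebraic schemes with a module; this row is that form.) -/
theorem result
    {P : ∀ ⦃Y T : Scheme.{u}⦄, (Y ⟶ T) → Y.Modules → Prop} (hP : ConsProp.IsIndConsMod P)
    {I : Type u} [SmallCategory I] [IsCofiltered I]
    (D : I ⥤ Scheme.{u}) (c : Limits.Cone D) (hc : Limits.IsLimit c)
    [∀ (i j : I) (a : i ⟶ j), IsAffineHom (D.map a)] (i₀ : I) [CompactSpace ↥(D.obj i₀)]
    {X₀ : Scheme.{u}} (u₀ : X₀ ⟶ D.obj i₀)
    [LocallyOfFinitePresentation u₀] [QuasiCompact u₀] [QuasiSeparated u₀]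
    (F₀ : X₀.Modules) [Coh.IsQCoh F₀] (hF₀ : CohB1.IsFP F₀)
    {X : Scheme.{u}} (u : X ⟶ c.pt) (q : X ⟶ X₀) (hX : IsPullback q u u₀ (c.π.app i₀)) :
    (∀ s : ↥c.pt, s ∈ ConsProp.locusMod P u ((Scheme.Modules.pullback q).obj F₀)) ↔
      ∃ (j : I) (φ : j ⟶ i₀) (Xj : Scheme.{u}) (uj : Xj ⟶ D.obj j) (p : Xj ⟶ X₀),
        IsPullback p uj u₀ (D.map φ) ∧
          ∀ t : ↥(D.obj j), t ∈ ConsProp.locusMod P uj ((Scheme.Modules.pullback p).obj F₀) := by
  have hF := Groth.Agent.Models2.FPCoh.isCoh_of_isFP hF₀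
  have h1 : ConsProp.locusMod P u ((Scheme.Modules.pullback q).obj F₀) =
      c.π.app i₀ ⁻¹' ConsProp.locusMod P u₀ F₀ :=
    K285.ModP.locusMod_eq_preimage hP.1 hX hF (Iso.refl _)
  have h2 := K285.Lim.range_subset_iff D c hc i₀ (K285.ModP.isInd_locusMod hP u₀ hF₀)
  have h3 : (∀ s : ↥c.pt, s ∈ ConsProp.locusMod P u ((Scheme.Modules.pullback q).obj F₀)) ↔
      Set.range (c.π.app i₀) ⊆ ConsProp.locusMod P u₀ F₀ := by
    rw [h1]
    constructor
    · rintro h _ ⟨y, rfl⟩
      exact h y
    · intro h s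
      exact h ⟨s, rfl⟩
  rw [h3, h2]
  constructor
  · rintro ⟨j, φ, hj⟩
    refine ⟨j, φ, _, Limits.pullback.snd u₀ (D.map φ), _, IsPullback.of_hasPullback _ _, ?_⟩
    intro t
    rw [K285.ModP.locusMod_eq_preimage hP.1 (IsPullback.of_hasPullback u₀ (D.map φ)) hF (Iso.refl _)]
    exact hj ⟨t, rfl⟩
  · rintro ⟨j, φ, Xj, uj, p, h4, h6⟩
    refine ⟨j, φ, ?_⟩
    rintro _ ⟨t, rfl⟩
    have h7 := h6 t
    rw [K285.ModP.locusMod_eq_preimage hP.1 h4 hF (Iso.refl _)] at h7
    exact h7

end Groth.Agent.S5892
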