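import Groth.Statements.S5913
import Groth.Agent.S3431
import Mathlib.AlgebraicGeometry.Morphisms.Immersion
import Mathlib.AlgebraicGeometry.Morphisms.FiniteType
import Mathlib.AlgebraicGeometry.Noetherian

set_option autoImplicit false
universe u
open CategoryTheory AlgebraicGeometry
open EGA43

namespace Groth.Agent.S5913

/-- In the locally Noetherian form: a locally Noetherian scheme X is Jacobson if and only if it has no
subscheme isomorphic to the spectrum of a semi-local integral domain of dimension 1, i.e. there is
no immersion Spec R ⟶ X with R an integral domain having finitely many maximal ideals and Krull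
dimension 1. -/
theorem result (X : Scheme.{u}) [IsLocallyNoetherian X] :
    JacobsonSpace X ↔
      ∀ (R : CommRingCat.{u}) [IsDomain R] (i : Spec R ⟶ X) [IsImmersion i],
        ¬ (Finite (MaximalSpectrum R) ∧ ringKrullDim R = 1) := by
  constructor
  · rintro hX R _ i hi ⟨hfin, hdim⟩
    have : JacobsonSpace (Spec R) := LocallyOfFiniteType.jacobsonSpace i
    have hJ : IsJacobsonRing R := PrimeSpectrum.isJacobsonRing_iff_jacobsonSpace.mpr this
    have hf := Groth.Agent.S3431.isField_of_finite R
    have h0 : ringKrullDim R = 0 := ringKrullDim_eq_zero_of_isField hf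
    rw [h0] at hdim
    exact absurd hdim (by norm_num)
  · intro H
    have hU : TopologicalSpace.IsOpenCover (fun U : X.affineOpens => (U : X.Opens)) := 
      iSup_affineOpens_eq_top X
    rw [hU.jacobsonSpace_iff]
    intro U
    have hUa := U.2
    have : IsNoetherianRing Γ(X, U) := IsLocallyNoetherian.component_noetherian U
    have hJ : IsJacobsonRing Γ(X, U) := by
      rw [Groth.Agent.S3431.result]
      intro p hp h
      have h1 : IsClosedImmersion (Spec.map (CommRingCat.ofHom (Ideal.Quotient.mk p))) :=
        IsClosedImmersion.spec_of_surjective _ Ideal.Quotient.mk_surjective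
      have h2 : IsImmersion (Spec.map (CommRingCat.ofHom (Ideal.Quotient.mk p)) ≫ hUa.fromSpec) := by
        have : IsOpenImmersion hUa.fromSpec := hUa.isOpenImmersion_fromSpec
        exact IsImmersion.comp _ _
      exact H (CommRingCat.of (Γ(X, U) ⧸ p)) (Spec.map (CommRingCat.ofHom (Ideal.Quotient.mk p)) ≫ hUa.fromSpec) h
    have h2 : JacobsonSpace (Spec Γ(X, U)) := PrimeSpectrum.isJacobsonRing_iff_jacobsonSpace.mp hJ
    exact JacobsonSpace.of_isOpenEmbedding (Scheme.homeoOfIso hUa.isoSpec).isOpenEmbedding

end Groth.Agent.S5913
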