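import Groth.Statements.S5915
import Groth.Agent.EGA43.K131.ArtAdic
import Groth.Agent.EGA43.K131.FinTop

set_option autoImplicit false
universe u
open CategoryTheory AlgebraicGeometry
open EGA43

namespace Groth.Agent.S5915

open CategoryTheory.Limits in
/-- Let Y be locally Noetherian, f : X ⟶ Y locally of finite type, F a coherent O_X-module, x a point of
X and y = f x. Let φ : O_{Y,y} ⟶ A' be an injective ring homomorphism which is finite (A' finitely
generated as an O_{Y,y}-module), Y' = Spec A' ⟶ Y the induced Y-scheme, X' = X ×_Y Y' and F' the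
pullback of F to X'. Then F is f-flat at x if and only if F' is flat over Y' at every point of X'
lying over x and over a closed point of Y'. (The published statement treats more generally a Zariski
ring A' whose radical pulls back to the maximal ideal and whose map on completions is injective;
this row is the case of a finite algebra with injective structure map, in which those conditions
hold.) -/
theorem result {X Y : Scheme.{u}} [IsLocallyNoetherian Y]
    (f : X ⟶ Y) [LocallyOfFiniteType f] (F : X.Modules) (hF : Coh.IsCoh F) (x : X)
    (A' : CommRingCat.{u}) (φ : Y.presheaf.stalk (f.base x) ⟶ A') (hfin : φ.hom.Finite)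
    (hinj : Function.Injective φ.hom) :
    FlatMod.IsFlatOverAt f F x ↔
      ∀ x' : ↥(pullback f (Spec.map φ ≫ Y.fromSpecStalk (f.base x))), pullback.fst f (Spec.map φ ≫ Y.fromSpecStalk (f.base x)) x' = x →
        IsClosed ({pullback.snd f (Spec.map φ ≫ Y.fromSpecStalk (f.base x)) x'} : Set ↥(Spec A')) →
          FlatMod.IsFlatOverAt (pullback.snd f (Spec.map φ ≫ Y.fromSpecStalk (f.base x))) ((Scheme.Modules.pullback (pullback.fst f (Spec.map φ ≫ Y.fromSpecStalk (f.base x)))).obj F) x' := by
  constructor
  · intro h x' hx' _
    refine Groth.Agent.Fdesc.FlatBC.isFlatOverAt_pullback (IsPullback.of_hasPullback _ _) F x' ?_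
    rw [← hx'] at h
    exact h
  · intro h
    let R := Y.presheaf.stalk (f.base x)
    letI i1 : Algebra R A' := φ.hom.toAlgebra
    haveI i2 : Module.Finite R A' := hfin
    let L : MaximalSpectrum A' → Type u := fun m => letI := m.isMaximal.isPrime; Localization.AtPrime m.asIdeal
    letI i3 : ∀ m, CommRing (L m) := fun m => by
      letI := m.isMaximal.isPrime
      exact inferInstanceAs (CommRing (Localization.AtPrime m.asIdeal))
    haveI i4 : ∀ m, IsLocalRing (L m) := fun m => by
      letI := m.isMaximal.isPrime
      exact inferInstanceAs (IsLocalRing (Localization.AtPrime m.asIdeal))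
    let ψ : ∀ m, (A' : Type u) →+* L m := fun m => by
      letI := m.isMaximal.isPrime
      exact algebraMap A' (Localization.AtPrime m.asIdeal)
    have hψ : ∀ m : MaximalSpectrum A', (IsLocalRing.maximalIdeal (L m)).comap (ψ m) = m.asIdeal := fun m => by
      letI := m.isMaximal.isPrime
      exact IsLocalization.AtPrime.under_maximalIdeal (Localization.AtPrime m.asIdeal) m.asIdeal
    have hloc : ∀ m, IsLocalHom ((ψ m).comp φ.hom) := fun m => by
      refine ((IsLocalRing.local_hom_TFAE ((ψ m).comp φ.hom)).out 0 4).mpr ?_
      rw [← Ideal.comap_comap, hψ]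
      exact K131.FinTop.comap_maximal R A' m
    refine K131.ArtAdic.adic' f F hF x L (fun m => (ψ m).comp φ.hom) hloc ?_ ?_
    · intro N
      obtain ⟨s, hs⟩ := K131.FinTop.exists_finset R A' hinj N
      refine ⟨s, fun a ha => hs a fun p hp => ?_⟩
      rw [Ideal.mem_iInf] at ha
      have h1 := ha p
      rw [Ideal.mem_iInf] at h1
      exact h1 hp
    · intro m
      have h2 : K120.FlatPt.FlatPt f F (Spec.map φ ≫ Y.fromSpecStalk (f.base x)) x
          (⟨m.asIdeal, m.isMaximal.isPrime⟩ : Spec A') := by
        intro z hz hz'
        refine h z hz ?_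
        rw [hz']
        exact (PrimeSpectrum.isClosed_singleton_iff_isMaximal _).mpr m.isMaximal
      refine K120.FlatPt.flatPt_comp (r := Spec.map (CommRingCat.ofHom (ψ m))) ?_ ?_
        (t := Spec.map φ ≫ Y.fromSpecStalk (f.base x))
      · rw [← Category.assoc, ← Spec.map_comp]
        rfl
      · have h3 : (Spec.map (CommRingCat.ofHom (ψ m))) (IsLocalRing.closedPoint (L m)) =
            (⟨m.asIdeal, m.isMaximal.isPrime⟩ : Spec A') := PrimeSpectrum.ext (hψ m)
        rw [h3]
        exact h2

end Groth.Agent.S5915
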