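import Groth.Statements.S5917
import Mathlib.Topology.Sheaves.Functors
import Mathlib.Topology.Sheaves.SheafOfFunctions
import Mathlib.Topology.Sheaves.Stalks
import Mathlib.CategoryTheory.Sites.DenseSubsite.SheafEquiv
import Mathlib.CategoryTheory.Sites.Equivalence

set_option autoImplicit false
universe u
open CategoryTheory
open EGA43

namespace Groth.Agent.S5917

open TopologicalSpace Opposite TopCat

section Dense

variable {X₀ X : TopCat.{u}} (f : X₀ ⟶ X)

/-- If `U ↦ f⁻¹ U` is bijective then it reflects inclusions. -/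
theorem le_of_map_le (h : Function.Bijective (fun U : Opens X => (Opens.map f).obj U))
    {U V : Opens X} (hUV : (Opens.map f).obj U ≤ (Opens.map f).obj V) : U ≤ V := by
  have h1 : (Opens.map f).obj (U ⊓ V) = (Opens.map f).obj U := by
    apply le_antisymm
    · intro x hx; exact hx.1
    · intro x hx; exact ⟨hx, hUV hx⟩
  have h2 : U ⊓ V = U := h.1 h1
  exact inf_eq_left.mp h2

theorem isEquivalence_map (h : Function.Bijective (fun U : Opens X => (Opens.map f).obj U)) :
    (Opens.map f).IsEquivalence where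
  full := ⟨fun {U V} g => ⟨homOfLE (le_of_map_le f h (leOfHom g)), Subsingleton.elim _ _⟩⟩
  faithful := ⟨fun _ => Subsingleton.elim _ _⟩
  essSurj := ⟨fun V => by
    obtain ⟨U, hU⟩ := h.2 V
    exact ⟨U, ⟨eqToIso hU⟩⟩⟩

theorem isDenseSubsite_map (h : Function.Bijective (fun U : Opens X => (Opens.map f).obj U)) :
    (Opens.map f).IsDenseSubsite (Opens.grothendieckTopology X) (Opens.grothendieckTopology X₀) := by
  have := isEquivalence_map f h
  refine { functorPushforward_mem_iff := ?_ }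
  intro U S
  constructor
  · intro hS x hx
    -- the union of the members of `S`
    let W : Opens X := sSup {V | ∃ g : V ⟶ U, S g}
    have hW : (Opens.map f).obj U ≤ (Opens.map f).obj W := by
      intro y hy
      obtain ⟨V₀, g, ⟨V, g', h', hS', -⟩, hyV⟩ := hS y hy
      have h1 : y ∈ (Opens.map f).obj V := leOfHom h' hyV
      exact Opens.mem_sSup.mpr ⟨V, ⟨g', hS'⟩, h1⟩
    obtain ⟨V, ⟨g, hg⟩, hxV⟩ := Opens.mem_sSup.mp (le_of_map_le f h hW hx)
    exact ⟨V, g, hg, hxV⟩
  · intro hS y hy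
    obtain ⟨V, g, hg, hyV⟩ := hS (f y) hy
    exact ⟨(Opens.map f).obj V, (Opens.map f).map g, ⟨V, g, 𝟙 _, hg, by simp⟩, hyV⟩

theorem isEquivalence_pushforward_types
    (h : Function.Bijective (fun U : Opens X => (Opens.map f).obj U)) :
    (TopCat.Sheaf.pullback (Type u) f).IsEquivalence := by
  have := isDenseSubsite_map f h
  have h1 : (TopCat.Sheaf.pushforward (Type u) f).IsEquivalence :=
    inferInstanceAs (((Opens.map f).sheafPushforwardContinuous (Type u)
      (Opens.grothendieckTopology X) (Opens.grothendieckTopology X₀)).IsEquivalence)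
  exact (TopCat.Sheaf.pullbackPushforwardAdjunction (Type u) f).isEquivalence_left_of_isEquivalence_right

theorem isEquivalence_pushforward_ab
    (h : Function.Bijective (fun U : Opens X => (Opens.map f).obj U)) :
    (TopCat.Sheaf.pullback AddCommGrpCat.{u} f).IsEquivalence := by
  have := isDenseSubsite_map f h
  have h1 : (TopCat.Sheaf.pushforward AddCommGrpCat.{u} f).IsEquivalence :=
    inferInstanceAs (((Opens.map f).sheafPushforwardContinuous AddCommGrpCat.{u}
      (Opens.grothendieckTopology X) (Opens.grothendieckTopology X₀)).IsEquivalence)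
  exact (TopCat.Sheaf.pullbackPushforwardAdjunction AddCommGrpCat.{u} f).isEquivalence_left_of_isEquivalence_right

end Dense

section Surj

variable {X₀ X : TopCat.{u}} (f : X₀ ⟶ X)

theorem surjective_of_exists (H : ∀ (V₀ : Opens X₀) (x₀ : X₀), x₀ ∈ V₀ →
      ∃ U : Opens X, f x₀ ∈ U ∧ (Opens.map f).obj U ≤ V₀) :
    Function.Surjective (fun U : Opens X => (Opens.map f).obj U) := by
  intro V₀
  refine ⟨sSup {U | (Opens.map f).obj U ≤ V₀}, ?_⟩
  apply le_antisymm
  · intro y hy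
    obtain ⟨U, hU, hyU⟩ := Opens.mem_sSup.mp hy
    exact hU hyU
  · intro y hy
    obtain ⟨U, hyU, hU⟩ := H V₀ y hy
    exact Opens.mem_sSup.mpr ⟨U, hU, hyU⟩

theorem injective_of_forall (H : ∀ (U V : Opens X), (Opens.map f).obj U = (Opens.map f).obj V →
      U ≤ V → V ≤ U) :
    Function.Injective (fun U : Opens X => (Opens.map f).obj U) := by
  have key : ∀ U V : Opens X, (Opens.map f).obj U = (Opens.map f).obj V → V ≤ U := by
    intro U V h
    have h1 : (Opens.map f).obj (U ⊓ V) = (Opens.map f).obj V := by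
      apply le_antisymm
      · intro x hx; exact hx.2
      · intro x hx; exact ⟨h.ge hx, hx⟩
    exact (H _ _ h1 inf_le_right).trans inf_le_left
  intro U V h
  exact le_antisymm (key V U h.symm) (key U V h)

end Surj

section Types

variable {X₀ X : TopCat.{u}} (f : X₀ ⟶ X)

/-- The sheaf of dependent functions. -/
noncomputable def funT (Y : TopCat.{u}) (T : Y → Type u) : TopCat.Sheaf (Type u) Y :=
  ⟨presheafToTypes Y T, TopCat.Presheaf.toTypes_isSheaf Y T⟩

theorem exists_nhd_types [hE : (TopCat.Sheaf.pushforward (Type u) f).Full] (V₀ : Opens X₀) (x₀ : X₀)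
    (hx₀ : x₀ ∈ V₀) : ∃ U : Opens X, f x₀ ∈ U ∧ (Opens.map f).obj U ≤ V₀ := by
  let G : TopCat.Sheaf (Type u) X₀ := funT X₀ (fun z => PLift (z ∉ V₀) → ULift.{u} Bool)
  let F : TopCat.Sheaf (Type u) X := (TopCat.Sheaf.pushforward (Type u) f).obj G
  let S : TopCat.Sheaf (Type u) X₀ := funT X₀ (fun z => PLift (z = x₀) → F.presheaf.stalk (f x₀))
  let ψ : F ⟶ (TopCat.Sheaf.pushforward (Type u) f).obj S :=
    ⟨{  app := fun U => ↾fun s z h => F.presheaf.germ U.unop (f x₀) (by
          have := z.2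
          rw [h.down] at this
          exact this) s
        naturality := by
          intro U V i
          ext s
          funext z h
          exact F.presheaf.germ_res_apply i.unop (f x₀) _ s }⟩
  obtain ⟨φ, hφ⟩ := (TopCat.Sheaf.pushforward (Type u) f).map_surjective ψ
  let s₀ : ∀ z : (⊤ : Opens X₀), (PLift (z.1 ∉ V₀) → ULift.{u} Bool) := fun _ _ => ⟨false⟩
  let s₁ : ∀ z : (⊤ : Opens X₀), (PLift (z.1 ∉ V₀) → ULift.{u} Bool) := fun _ _ => ⟨true⟩
  have h1 : ∀ s : (∀ z : (⊤ : Opens X₀), (PLift (z.1 ∉ V₀) → ULift.{u} Bool)),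
      (φ.hom.app (op (⊤ : Opens X₀)) s : ∀ z : (⊤ : Opens X₀), (PLift (z.1 = x₀) → _)) ⟨x₀, trivial⟩ ⟨rfl⟩ =
        F.presheaf.germ ⊤ (f x₀) trivial s := by
    intro s
    have h2 := congrArg (fun α => (α.hom.app (op (⊤ : Opens X)) s :
      ∀ z : (⊤ : Opens X₀), (PLift (z.1 = x₀) → _)) ⟨x₀, trivial⟩ ⟨rfl⟩) hφ
    exact h2
  have h3 : ∀ s : (∀ z : (⊤ : Opens X₀), (PLift (z.1 ∉ V₀) → ULift.{u} Bool)),
      (φ.hom.app (op (⊤ : Opens X₀)) s : ∀ z : (⊤ : Opens X₀), (PLift (z.1 = x₀) → _)) ⟨x₀, trivial⟩ ⟨rfl⟩ =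
      (φ.hom.app (op V₀) (G.obj.map (homOfLE le_top : V₀ ⟶ ⊤).op s) :
        ∀ z : V₀, (PLift (z.1 = x₀) → _)) ⟨x₀, hx₀⟩ ⟨rfl⟩ := by
    intro s
    have h4 := ConcreteCategory.congr_hom (φ.hom.naturality (homOfLE le_top : V₀ ⟶ ⊤).op) s
    have h5 := congrArg (fun (α : ∀ z : V₀, (PLift (z.1 = x₀) → F.presheaf.stalk (f x₀))) =>
      α ⟨x₀, hx₀⟩ ⟨rfl⟩) h4
    exact h5.symm
  have h6 : G.obj.map (homOfLE le_top : V₀ ⟶ ⊤).op s₀ = G.obj.map (homOfLE le_top : V₀ ⟶ ⊤).op s₁ := by
    funext z h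
    exact absurd z.2 h.down
  have h7 : F.presheaf.germ ⊤ (f x₀) trivial s₀ = F.presheaf.germ ⊤ (f x₀) trivial s₁ := by
    rw [← h1, ← h1, h3, h3, h6]
  obtain ⟨W, hW, i, j, h8⟩ := TopCat.Presheaf.germ_eq (C := Type u) F.presheaf (U := ⊤) (V := ⊤)
    (f x₀) trivial trivial s₀ s₁ h7
  refine ⟨W, hW, fun z hz => ?_⟩
  by_contra hzV
  have h9 := congrArg (fun (α : ∀ z : (Opens.map f).obj W, (PLift (z.1 ∉ V₀) → ULift.{u} Bool)) =>
      α ⟨z, hz⟩ ⟨hzV⟩) h8
  have h10 : (⟨false⟩ : ULift.{u} Bool) = ⟨true⟩ := h9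
  exact Bool.false_ne_true (congrArg ULift.down h10)

theorem isIso_map_res {C : Type*} [Category* C] (F : X.Presheaf C)
    {U V : Opens X} (hUV : (Opens.map f).obj U = (Opens.map f).obj V) (h : U ≤ V)
    (G : X₀.Presheaf C) (e : F ≅ (Opens.map f).op ⋙ G) :
    IsIso (F.map (homOfLE h).op) := by
  have h1 : IsIso ((Opens.map f).map (homOfLE h)) :=
    ⟨homOfLE hUV.ge, Subsingleton.elim _ _, Subsingleton.elim _ _⟩
  have h2 : IsIso (((Opens.map f).op ⋙ G).map (homOfLE h).op) := by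
    change IsIso (G.map ((Opens.map f).map (homOfLE h)).op)
    infer_instance
  have h3 : F.map (homOfLE h).op = e.hom.app _ ≫ ((Opens.map f).op ⋙ G).map (homOfLE h).op ≫
      e.inv.app _ := by
    rw [← Category.assoc, ← e.hom.naturality, Category.assoc, Iso.hom_inv_id_app, Category.comp_id]
  rw [h3]
  infer_instance

theorem le_of_eq_types [hE : (TopCat.Sheaf.pushforward (Type u) f).EssSurj] (U V : Opens X)
    (hUV : (Opens.map f).obj U = (Opens.map f).obj V) (h : U ≤ V) : V ≤ U := by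
  intro x hx
  by_contra hxU
  let F : TopCat.Sheaf (Type u) X := funT X (fun z => PLift (z = x) → ULift.{u} Bool)
  let e := (TopCat.Sheaf.pushforward (Type u) f).objObjPreimageIso F
  have h1 := isIso_map_res f F.obj hUV h _ ((sheafToPresheaf _ _).mapIso e.symm)
  let s₀ : ∀ z : V, (PLift (z.1 = x) → ULift.{u} Bool) := fun _ _ => ⟨false⟩
  let s₁ : ∀ z : V, (PLift (z.1 = x) → ULift.{u} Bool) := fun _ _ => ⟨true⟩
  have h2 : F.obj.map (homOfLE h).op s₀ = F.obj.map (homOfLE h).op s₁ := by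
    funext z h
    refine absurd z.2 ?_
    rw [h.down]
    exact hxU
  have h3 : s₀ = s₁ := (ConcreteCategory.bijective_of_isIso (F.obj.map (homOfLE h).op)).1 h2
  have h4 := congrArg (fun α => α ⟨x, hx⟩ ⟨rfl⟩) h3
  exact Bool.false_ne_true (congrArg ULift.down h4)

end Types

section Ab

variable {X₀ X : TopCat.{u}} (f : X₀ ⟶ X)

/-- The presheaf of dependent functions with values in abelian groups. -/
noncomputable def preA (Y : TopCat.{u}) (T : Y → Type u) [∀ y, AddCommGroup (T y)] :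
    Y.Presheaf AddCommGrpCat.{u} where
  obj U := AddCommGrpCat.of (∀ x : U.unop, T x)
  map i := AddCommGrpCat.ofHom
    { toFun := fun g x => g (i.unop x)
      map_zero' := rfl
      map_add' := fun _ _ => rfl }

/-- The sheaf of dependent functions with values in abelian groups. -/
noncomputable def funA (Y : TopCat.{u}) (T : Y → Type u) [∀ y, AddCommGroup (T y)] :
    TopCat.Sheaf AddCommGrpCat.{u} Y :=
  ⟨preA Y T, (TopCat.Presheaf.isSheaf_iff_isSheaf_comp (forget AddCommGrpCat.{u}) (preA Y T)).mpr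
    (TopCat.Presheaf.toTypes_isSheaf Y T)⟩

theorem exists_nhd_ab [hE : (TopCat.Sheaf.pushforward AddCommGrpCat.{u} f).Full] (V₀ : Opens X₀)
    (x₀ : X₀) (hx₀ : x₀ ∈ V₀) : ∃ U : Opens X, f x₀ ∈ U ∧ (Opens.map f).obj U ≤ V₀ := by
  let G : TopCat.Sheaf AddCommGrpCat.{u} X₀ := funA X₀ (fun z => PLift (z ∉ V₀) → ULift.{u} ℤ)
  let F : TopCat.Sheaf AddCommGrpCat.{u} X := (TopCat.Sheaf.pushforward AddCommGrpCat.{u} f).obj G
  let S : TopCat.Sheaf AddCommGrpCat.{u} X₀ :=
    funA X₀ (fun z => PLift (z = x₀) → F.presheaf.stalk (f x₀))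
  let ψ : F ⟶ (TopCat.Sheaf.pushforward AddCommGrpCat.{u} f).obj S :=
    ⟨{  app := fun U => AddCommGrpCat.ofHom
          { toFun := fun s z h => F.presheaf.germ U.unop (f x₀) (by
              have := z.2
              rw [h.down] at this
              exact this) s
            map_zero' := by funext z h; exact map_zero _
            map_add' := fun a b => by funext z h; exact map_add _ _ _ }
        naturality := by
          intro U V i
          ext s
          funext z h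
          exact F.presheaf.germ_res_apply i.unop (f x₀) _ s }⟩
  obtain ⟨φ, hφ⟩ := (TopCat.Sheaf.pushforward AddCommGrpCat.{u} f).map_surjective ψ
  let s₀ : ∀ z : (⊤ : Opens X₀), (PLift (z.1 ∉ V₀) → ULift.{u} ℤ) := fun _ _ => ⟨0⟩
  let s₁ : ∀ z : (⊤ : Opens X₀), (PLift (z.1 ∉ V₀) → ULift.{u} ℤ) := fun _ _ => ⟨1⟩
  have h1 : ∀ s : (∀ z : (⊤ : Opens X₀), (PLift (z.1 ∉ V₀) → ULift.{u} ℤ)),
      (φ.hom.app (op (⊤ : Opens X₀)) s : ∀ z : (⊤ : Opens X₀), (PLift (z.1 = x₀) → _)) ⟨x₀, trivial⟩ ⟨rfl⟩ =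
        F.presheaf.germ ⊤ (f x₀) trivial s := by
    intro s
    have h2 := congrArg (fun α => (α.hom.app (op (⊤ : Opens X)) s :
      ∀ z : (⊤ : Opens X₀), (PLift (z.1 = x₀) → _)) ⟨x₀, trivial⟩ ⟨rfl⟩) hφ
    exact h2
  have h3 : ∀ s : (∀ z : (⊤ : Opens X₀), (PLift (z.1 ∉ V₀) → ULift.{u} ℤ)),
      (φ.hom.app (op (⊤ : Opens X₀)) s : ∀ z : (⊤ : Opens X₀), (PLift (z.1 = x₀) → _)) ⟨x₀, trivial⟩ ⟨rfl⟩ =
      (φ.hom.app (op V₀) (G.obj.map (homOfLE le_top : V₀ ⟶ ⊤).op s) :
        ∀ z : V₀, (PLift (z.1 = x₀) → _)) ⟨x₀, hx₀⟩ ⟨rfl⟩ := by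
    intro s
    have h4 := ConcreteCategory.congr_hom (φ.hom.naturality (homOfLE le_top : V₀ ⟶ ⊤).op) s
    have h5 := congrArg (fun (α : ∀ z : V₀, (PLift (z.1 = x₀) → F.presheaf.stalk (f x₀))) =>
      α ⟨x₀, hx₀⟩ ⟨rfl⟩) h4
    exact h5.symm
  have h6 : G.obj.map (homOfLE le_top : V₀ ⟶ ⊤).op s₀ = G.obj.map (homOfLE le_top : V₀ ⟶ ⊤).op s₁ := by
    funext z h
    exact absurd z.2 h.down
  have h7 : F.presheaf.germ ⊤ (f x₀) trivial s₀ = F.presheaf.germ ⊤ (f x₀) trivial s₁ := by
    rw [← h1, ← h1, h3, h3, h6]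
  obtain ⟨W, hW, i, j, h8⟩ := TopCat.Presheaf.germ_eq (C := AddCommGrpCat.{u}) F.presheaf (U := ⊤)
    (V := ⊤) (f x₀) trivial trivial s₀ s₁ h7
  refine ⟨W, hW, fun z hz => ?_⟩
  by_contra hzV
  have h9 := congrArg (fun (α : ∀ z : (Opens.map f).obj W, (PLift (z.1 ∉ V₀) → ULift.{u} ℤ)) =>
      α ⟨z, hz⟩ ⟨hzV⟩) h8
  have h10 : (⟨0⟩ : ULift.{u} ℤ) = ⟨1⟩ := h9
  exact zero_ne_one (congrArg ULift.down h10)

theorem le_of_eq_ab [hE : (TopCat.Sheaf.pushforward AddCommGrpCat.{u} f).EssSurj] (U V : Opens X)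
    (hUV : (Opens.map f).obj U = (Opens.map f).obj V) (h : U ≤ V) : V ≤ U := by
  intro x hx
  by_contra hxU
  let F : TopCat.Sheaf AddCommGrpCat.{u} X := funA X (fun z => PLift (z = x) → ULift.{u} ℤ)
  let e := (TopCat.Sheaf.pushforward AddCommGrpCat.{u} f).objObjPreimageIso F
  have h1 := isIso_map_res f F.obj hUV h _ ((sheafToPresheaf _ _).mapIso e.symm)
  let s₀ : ∀ z : V, (PLift (z.1 = x) → ULift.{u} ℤ) := fun _ _ => ⟨0⟩
  let s₁ : ∀ z : V, (PLift (z.1 = x) → ULift.{u} ℤ) := fun _ _ => ⟨1⟩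
  have h2 : F.obj.map (homOfLE h).op s₀ = F.obj.map (homOfLE h).op s₁ := by
    funext z h
    refine absurd z.2 ?_
    rw [h.down]
    exact hxU
  have h3 : s₀ = s₁ := (ConcreteCategory.bijective_of_isIso (F.obj.map (homOfLE h).op)).1 h2
  have h4 := congrArg (fun α => α ⟨x, hx⟩ ⟨rfl⟩) h3
  exact zero_ne_one (congrArg ULift.down h4)

end Ab

/-- (a) ⇔ (c): for a continuous map f : X₀ ⟶ X of topological spaces the following are equivalent: U ↦
f⁻¹(U) is a bijection from the open subsets of X onto those of X₀ (that is, f is a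
quasi-homeomorphism); the inverse image functor f^* from sheaves of sets on X to sheaves of sets on
X₀ is an equivalence of categories; the inverse image functor f^* from sheaves of abelian groups on
X to sheaves of abelian groups on X₀ is an equivalence of categories. (Sheaves are taken with values
in sets, resp. abelian groups, of the universe of the two spaces.) -/
theorem result (X₀ X : TopCat.{u}) (f : X₀ ⟶ X) :
    [Function.Bijective (fun U : TopologicalSpace.Opens X => (TopologicalSpace.Opens.map f).obj U),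
      (TopCat.Sheaf.pullback (Type u) f).IsEquivalence,
      (TopCat.Sheaf.pullback AddCommGrpCat.{u} f).IsEquivalence].TFAE := by
  tfae_have 1 → 2 := isEquivalence_pushforward_types f
  tfae_have 1 → 3 := isEquivalence_pushforward_ab f
  tfae_have 2 → 1 := by
    intro h
    have h1 := (TopCat.Sheaf.pullbackPushforwardAdjunction (Type u) f).isEquivalence_right_of_isEquivalence_left
    exact ⟨injective_of_forall f (le_of_eq_types f), surjective_of_exists f (exists_nhd_types f)⟩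
  tfae_have 3 → 1 := by
    intro h
    have h1 := (TopCat.Sheaf.pullbackPushforwardAdjunction AddCommGrpCat.{u} f).isEquivalence_right_of_isEquivalence_left
    exact ⟨injective_of_forall f (le_of_eq_ab f), surjective_of_exists f (exists_nhd_ab f)⟩
  tfae_finish

end Groth.Agent.S5917
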