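import Groth.Statements.S5918
import Groth.Agent.S4856
import Groth.Agent.EGA43.K120.FlatPt

set_option autoImplicit false
universe u
open CategoryTheory AlgebraicGeometry
open EGA43

namespace Groth.Agent.S5918

open CategoryTheory.Limits in
/-- Let A be an Artinian local ring, f : X ⟶ Spec A locally of finite type, F a coherent O_X-module and
x a point of X. Let (g_i : Y_i ⟶ Spec A) be a family of A-schemes such that an element of A whose
image in every Γ(Y_i, O_{Y_i}) is zero is itself zero. If, for every i, the pullback of F to X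
×_{Spec A} Y_i is flat over Y_i at every point lying over x, then F is f-flat at x. -/
theorem result {A : Type u} [CommRing A]
    [IsArtinianRing A] [IsLocalRing A] {X : Scheme.{u}} (f : X ⟶ Spec (CommRingCat.of A))
    [LocallyOfFiniteType f] (F : X.Modules) (hF : Coh.IsCoh F) (x : X)
    {ι : Type u} (Y : ι → Scheme.{u}) (g : ∀ i, Y i ⟶ Spec (CommRingCat.of A))
    (hg : ∀ a : A, (∀ i, (g i).appTop ((Scheme.ΓSpecIso (CommRingCat.of A)).inv a) = 0) → a = 0)
    (hflat : ∀ (i : ι) (x' : ↥(pullback f (g i))), pullback.fst f (g i) x' = x →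
      FlatMod.IsFlatOverAt (pullback.snd f (g i)) ((Scheme.Modules.pullback (pullback.fst f (g i))).obj F) x') :
    FlatMod.IsFlatOverAt f F x := by
  refine Groth.Agent.S4856.result f F hF x
    (fun p : Σ i, ((Y i : Scheme.{u}) : Type u) => ((Y p.1).presheaf.stalk p.2 : Type u))
    (fun p => Groth.Agent.VarietyA.StalkBC.stalkRingHom (g p.1) p.2) ?_ ?_
  · intro a ha
    refine hg a fun i => ?_
    apply TopCat.Presheaf.section_ext (Y i).sheaf ⊤
    intro y _
    exact (ha ⟨i, y⟩).trans (map_zero ((Y i).presheaf.germ ⊤ y trivial).hom).symm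
  · intro p
    have e : (Y p.1).fromSpecStalk p.2 ≫ g p.1 =
        Spec.map (CommRingCat.ofHom (Groth.Agent.VarietyA.StalkBC.stalkRingHom (g p.1) p.2)) :=
      Groth.Agent.VarietyA.StalkBC.fromSpecStalk_comp (g p.1) p.2
    have h1 : K120.FlatPt.FlatPt f F (g p.1) x p.2 := fun z hz _ => hflat p.1 z hz
    have h2 : K120.FlatPt.FlatPt f F
        (Spec.map (CommRingCat.ofHom (Groth.Agent.VarietyA.StalkBC.stalkRingHom (g p.1) p.2))) x
        (IsLocalRing.closedPoint _) := by
      refine K120.FlatPt.flatPt_comp e ?_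
      rwa [Scheme.fromSpecStalk_closedPoint]
    exact fun z hz hz' => h2 z hz hz'

end Groth.Agent.S5918
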