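import Groth.Statements.S5924
import Groth.Agent.Ega43.MaxPoints
import Mathlib.AlgebraicGeometry.Noetherian
import Mathlib.AlgebraicGeometry.Morphisms.FiniteType
import Mathlib.RingTheory.Ideal.Operations

set_option autoImplicit false
universe u
open CategoryTheory AlgebraicGeometry
open EGA43

namespace Groth.Agent.S5924

open Groth.Agent.Ega43.MaxPoints

/-- In an affine open `U`, `t` does not vanish at `x` iff `t` is not in the prime ideal of `x`. -/
theorem mem_basicOpen_iff {X : Scheme.{u}} {U : X.Opens} (hU : IsAffineOpen U) (x : X) (hx : x ∈ U)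
    (t : Γ(X, U)) : x ∈ X.basicOpen t ↔ t ∉ (hU.primeIdealOf ⟨x, hx⟩).asIdeal := by
  rw [← PrimeSpectrum.mem_basicOpen, ← hU.fromSpec_preimage_basicOpen]
  change _ ↔ hU.fromSpec (hU.primeIdealOf ⟨x, hx⟩) ∈ X.basicOpen t
  rw [hU.fromSpec_primeIdealOf]

/-- The maximal points of a fibre of a morphism from a locally Noetherian scheme which lie in an affine
open are finitely many. -/
theorem finite_maxPts {X Y : Scheme.{u}} [IsLocallyNoetherian X] (f : X ⟶ Y) (y : Y) {U : X.Opens}
    (hU : IsAffineOpen U) :
    {z : X | f.base z = y ∧ (∀ z' : X, f.base z' = y → z ∈ closure ({z'} : Set X) → z' = z) ∧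
      z ∈ U}.Finite := by
  have : IsNoetherianRing Γ(X, U) := IsLocallyNoetherian.component_noetherian ⟨U, hU⟩
  have : TopologicalSpace.NoetherianSpace U := noetherianSpace_of_isAffineOpen U hU
  let W : (f.fiber y).Opens := f.fiberι y ⁻¹ᵁ U
  have hemb : Topology.IsEmbedding (f.fiberι y).base := (f.fiberι y).isEmbedding
  let j : W → {z : X // z ∈ U} := fun w => ⟨f.fiberι y w.1, w.2⟩
  have hj : Topology.IsInducing j :=
    (Topology.IsInducing.of_comp (g := (Subtype.val : {z : X // z ∈ U} → X))
      ((f.fiberι y).continuous.comp continuous_subtype_val |>.subtype_mk _) continuous_subtype_val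
      (hemb.isInducing.comp Topology.IsInducing.subtypeVal))
  have : TopologicalSpace.NoetherianSpace {z : X // z ∈ U} := this
  have : TopologicalSpace.NoetherianSpace W := hj.noetherianSpace
  have : QuasiSober W := W.isOpen.isOpenEmbedding_subtypeVal.quasiSober
  let S : Set W := {w | IsMaxPt w}
  have hS : S.Finite := by
    refine Set.Finite.of_injOn (f := fun w : W => closure {w}) (t := irreducibleComponents W) ?_ ?_
      TopologicalSpace.NoetherianSpace.finite_irreducibleComponents
    · intro w hw
      exact IsMaxPt.closure_mem_irreducibleComponents hw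
    · intro w hw w' hw' h
      have h1 : w ⤳ w' := by
        rw [specializes_iff_mem_closure]
        have : w' ∈ closure {w'} := subset_closure rfl
        rwa [← show closure {w} = closure {w'} from h] at this
      exact hw' w h1
  refine (hS.image (fun w : W => f.fiberι y w.1)).subset ?_
  rintro z ⟨hz, hmax, hzU⟩
  have hzr : z ∈ Set.range (f.fiberι y) := by
    rw [Scheme.Hom.range_fiberι]; exact hz
  obtain ⟨w, rfl⟩ := hzr
  refine ⟨⟨w, hzU⟩, ?_, rfl⟩
  intro v hv
  have h1 : (f.fiberι y) v.1 ⤳ (f.fiberι y) w :=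
    (hv.map continuous_subtype_val).map (f.fiberι y).continuous
  have h2 : f ((f.fiberι y) v.1) = y := by
    have : (f.fiberι y) v.1 ∈ Set.range (f.fiberι y) := ⟨_, rfl⟩
    rw [Scheme.Hom.range_fiberι] at this
    exact this
  have h3 := hmax _ h2 h1.mem_closure
  exact Subtype.ext (hemb.injective h3)

/-- Let Y be an irreducible locally Noetherian scheme, f : X ⟶ Y a morphism locally of finite type which
is equidimensional at the point x, and suppose that x is not a maximal point of its fibre f⁻¹(f x),
i.e. some point of the fibre other than x specializes to x. Then there exist an affine open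
neighbourhood U of x and a section g of O_X over U such that g vanishes at x (x is not in the basic
open set of g) while every maximal point of f⁻¹(f x) lying in U is in the basic open set of g. -/
theorem result {X Y : Scheme.{u}} [IrreducibleSpace Y]
    [IsLocallyNoetherian Y] (f : X ⟶ Y) [LocallyOfFiniteType f] (x : X) (hf : EGA43.IsEquidimAt f x)
    (hx : ∃ x' : X, f.base x' = f.base x ∧ x' ≠ x ∧ x ∈ closure ({x'} : Set X)) :
    ∃ U : X.Opens, IsAffineOpen U ∧ x ∈ U ∧ ∃ g : Γ(X, U), x ∉ X.basicOpen g ∧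
      ∀ z : X, f.base z = f.base x → (∀ z' : X, f.base z' = f.base x → z ∈ closure ({z'} : Set X) → z' = z) →
        z ∈ U → z ∈ X.basicOpen g := by
  obtain ⟨_, ⟨U, hU, rfl⟩, hxU, -⟩ := X.isBasis_affineOpens.exists_subset_of_mem_open
    (Set.mem_univ x) isOpen_univ
  have : IsLocallyNoetherian X := LocallyOfFiniteType.isLocallyNoetherian f
  have hT := finite_maxPts f (f.base x) hU
  refine ⟨U, hU, hxU, ?_⟩
  set T := {z : X | f.base z = f.base x ∧
    (∀ z' : X, f.base z' = f.base x → z ∈ closure ({z'} : Set X) → z' = z) ∧ z ∈ U} with hTdef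
  classical
  let I : X → Ideal Γ(X, U) := fun z => if h : z ∈ U then (hU.primeIdealOf ⟨z, h⟩).asIdeal else ⊥
  have hI : ∀ z (h : z ∈ U), I z = (hU.primeIdealOf ⟨z, h⟩).asIdeal := fun z h => dif_pos h
  by_cases hcov : ((hU.primeIdealOf ⟨x, hxU⟩).asIdeal : Set Γ(X, U)) ⊆ ⋃ z ∈ T, I z
  · exfalso
    rw [Ideal.subset_union_prime_finite hT x x
      (fun z hz _ _ => by rw [hI z hz.2.2]; exact (hU.primeIdealOf _).isPrime)] at hcov
    obtain ⟨z, hz, hle⟩ := hcov
    rw [hI z hz.2.2] at hle
    -- `x` specializes to `z`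
    have h1 : hU.primeIdealOf ⟨x, hxU⟩ ⤳ hU.primeIdealOf ⟨z, hz.2.2⟩ :=
      (PrimeSpectrum.le_iff_specializes _ _).mp hle
    have h2 := h1.map hU.fromSpec.continuous
    rw [hU.fromSpec_primeIdealOf, hU.fromSpec_primeIdealOf] at h2
    have h3 : x = z := hz.2.1 x rfl h2.mem_closure
    obtain ⟨x', hx'1, hx'2, hx'3⟩ := hx
    exact hx'2 (h3.symm ▸ hz.2.1 x' hx'1 (h3 ▸ hx'3))
  · obtain ⟨g, hg, hg'⟩ := Set.not_subset.mp hcov
    refine ⟨g, ?_, ?_⟩
    · rw [mem_basicOpen_iff hU x hxU]
      exact fun h => h hg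
    · intro z hz hzm hzU
      rw [mem_basicOpen_iff hU z hzU]
      intro h
      apply hg'
      simp only [Set.mem_iUnion]
      exact ⟨z, ⟨hz, hzm, hzU⟩, by rw [hI z hzU]; exact h⟩

end Groth.Agent.S5924
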