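import Groth.Statements.S5925
import Groth.Agent.EGA43.K124.Hypersurf

set_option autoImplicit false
open CategoryTheory AlgebraicGeometry
universe u
open EGA43

namespace Groth.Agent.S5925

open Groth.Agent.CycB.RelDim Groth.Agent.Ega4fib.H174.Equidim Groth.Agent.Ega4fib.H174.EquidimCrit
open K124.Hypersurf

/-- Local dimension at `j w` of the trace of the closed set `V = im j` on the fibre. -/
theorem localDim_inter {X Y W : Scheme.{u}} (f : X ⟶ Y) (j : W ⟶ X) [IsClosedImmersion j] (V : Set X)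
    (hV : Set.range j = V) (w : W) (y : Y) (hy : f (j w) = y) (hw : j w ∈ V) :
    FlatMor.fibreDimAt (j ≫ f) w = FlatMor.localDim ↥(V ∩ f ⁻¹' {y}) ⟨j w, hw, hy⟩ := by
  subst hy
  rw [Groth.Agent.FlatA.FibreDim.fibreDimAt_eq]
  let k : ((j ≫ f : W ⟶ Y) : W → Y) ⁻¹' {(j ≫ f : W ⟶ Y) w} → ↥(V ∩ f ⁻¹' {f (j w)}) :=
    fun a => ⟨j a.1, by rw [← hV]; exact ⟨a.1, rfl⟩, a.2⟩
  have hk : Topology.IsEmbedding k := by
    refine ⟨?_, ?_⟩
    · rw [← (Topology.IsInducing.subtypeVal (t := V ∩ f ⁻¹' {f (j w)})).of_comp_iff]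
      exact j.isEmbedding.isInducing.comp Topology.IsInducing.subtypeVal
    · intro a b hab
      have h1 : (k a).1 = (k b).1 := congrArg Subtype.val hab
      exact Subtype.ext (j.isEmbedding.injective h1)
  have hs : Function.Surjective k := by
    rintro ⟨z, hz, hfz⟩
    obtain ⟨a, rfl⟩ : z ∈ Set.range j := by rw [hV]; exact hz
    exact ⟨⟨a, hfz⟩, rfl⟩
  exact Groth.Agent.VarietyB.DimTop.localDim_eq_of_homeomorph
    (IsHomeomorph.homeomorph k (isHomeomorph_iff_isEmbedding_surjective.2 ⟨hk, hs⟩)) ⟨w, rfl⟩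

/-- Let Y be an irreducible locally Noetherian scheme, f : X ⟶ Y a morphism locally of finite type which
is equidimensional at the point x, y = f x and e = dim_x(f⁻¹(y)). Let g be a global section of O_X
vanishing at x whose zero set X' contains no maximal point of f⁻¹(y). Then X', with its reduced
closed subscheme structure, is equidimensional over Y at x; dim_x(X' ∩ f⁻¹(y)) = e − 1; and every
irreducible component of X' containing x has codimension 1 in X, i.e. the local ring of X at its
generic point has Krull dimension 1. (Stated for a global section; the published statement takes g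
on an affine open neighbourhood of x, to which this applies after restriction, and its codimension
assertion codim(X', X) = 1 is read for the components of X' through x: a component of the zero set
not passing through x can be a whole irreducible component of X disjoint from the fibre, of
codimension 0.) -/
theorem result {X Y : Scheme.{u}} [IrreducibleSpace Y]
    [IsLocallyNoetherian Y] (f : X ⟶ Y) [LocallyOfFiniteType f] (x : X) (hf : EGA43.IsEquidimAt f x)
    (g : Γ(X, ⊤)) (hgx : x ∈ X.zeroLocus ({g} : Set Γ(X, ⊤)))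
    (hmax : ∀ z : X, f.base z = f.base x → (∀ z' : X, f.base z' = f.base x → z ∈ closure ({z'} : Set X) → z' = z) →
      z ∉ X.zeroLocus ({g} : Set Γ(X, ⊤))) :
    (∀ w : ↥(Scheme.IdealSheafData.vanishingIdeal ⟨X.zeroLocus ({g} : Set Γ(X, ⊤)), X.zeroLocus_isClosed _⟩).subscheme,
        (Scheme.IdealSheafData.vanishingIdeal ⟨X.zeroLocus ({g} : Set Γ(X, ⊤)), X.zeroLocus_isClosed _⟩).subschemeι.base w = x →
        EGA43.IsEquidimAt ((Scheme.IdealSheafData.vanishingIdeal ⟨X.zeroLocus ({g} : Set Γ(X, ⊤)), X.zeroLocus_isClosed _⟩).subschemeι ≫ f) w) ∧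
      FlatMor.localDim ↥(X.zeroLocus ({g} : Set Γ(X, ⊤)) ∩ f.base ⁻¹' {f.base x}) ⟨x, ⟨hgx, rfl⟩⟩ + 1 = FlatMor.fibreDimAt f x ∧
      ∀ Z ∈ irreducibleComponents ↥(X.zeroLocus ({g} : Set Γ(X, ⊤))), (⟨x, hgx⟩ : ↥(X.zeroLocus ({g} : Set Γ(X, ⊤)))) ∈ Z →
        ∀ ξ : ↥(X.zeroLocus ({g} : Set Γ(X, ⊤))), closure ({ξ} : Set ↥(X.zeroLocus ({g} : Set Γ(X, ⊤)))) = Z →
          ringKrullDim (X.presheaf.stalk (ξ : X)) = 1 := by
  have hXn : IsLocallyNoetherian X := LocallyOfFiniteType.isLocallyNoetherian f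
  set V : Set X := X.zeroLocus ({g} : Set Γ(X, ⊤)) with hVdef
  have hVc : IsClosed V := X.zeroLocus_isClosed _
  set I := Scheme.IdealSheafData.vanishingIdeal ⟨V, hVc⟩ with hI
  have hrange : Set.range I.subschemeι = V := by
    rw [Scheme.IdealSheafData.range_subschemeι]
    exact Scheme.IdealSheafData.coe_support_vanishingIdeal _
  have hmax' : ∀ z : X, f z = f x → (∀ z' : X, f z' = f x → z' ⤳ z → z' = z) →
      z ∉ X.zeroLocus ({g} : Set Γ(X, ⊤)) := fun z hz h =>
    hmax z hz fun z' h1 h2 => h z' h1 (specializes_iff_mem_closure.2 h2)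
  obtain ⟨e, h1, h2, h3, h4⟩ := exists_equidim f hf
  have hemb := I.subschemeι.isEmbedding
  have hmemV : ∀ a : I.subscheme, I.subschemeι a ∈ V := fun a => by
    rw [← hrange]; exact ⟨a, rfl⟩
  -- points of `V` in the fibre of `x`
  have hfib : ∀ w : X, w ∈ V → w ⤳ x → f w = f x → ∃ n : ℕ, rtd f w = n ∧ n + 1 ≤ e := by
    intro w hwV hwx hfw
    obtain ⟨c, n, hc, hn, hcn⟩ := h4 w hwx
    have hc0 := coheight_asFiber_ne_zero f g hmax' hfw hwV
    have hc0' : c ≠ 0 := by
      rintro rfl
      exact hc0 hc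
    exact ⟨n, hn, by omega⟩
  have he : 1 ≤ e := by
    obtain ⟨n, -, hn⟩ := hfib x hgx specializes_rfl rfl
    omega
  obtain ⟨d, rfl⟩ : ∃ d, e = d + 1 := ⟨e - 1, by omega⟩
  refine ⟨?_, ?_, ?_⟩
  · intro w hw
    have hWn : IsLocallyNoetherian I.subscheme := LocallyOfFiniteType.isLocallyNoetherian I.subschemeι
    rw [isEquidimAt_iff_generic]
    refine ⟨d, fun ζ hζ hζw => ?_⟩
    have hζx : I.subschemeι ζ ⤳ x := by
      rw [← hw]; exact hζw.map I.subschemeι.continuous
    have hζmin : ∀ z ∈ X.zeroLocus ({g} : Set Γ(X, ⊤)), z ⤳ I.subschemeι ζ →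
        z = I.subschemeι ζ := by
      intro z hz hzζ
      obtain ⟨z, rfl⟩ : z ∈ Set.range I.subschemeι := by rw [hrange]; exact hz
      rw [hζ z (hemb.isInducing.specializes_iff.1 hzζ)]
    obtain ⟨-, h5, n, hn, hnd⟩ := maximal_zeroLocus f g (d + 1) h1 h4 hmax' hζx (hmemV ζ) hζmin
    refine ⟨h5, ?_, ?_⟩
    · rw [rtd_comp_closedImmersion, hn]
      have : n = d := by omega
      rw [this]
    · intro w' h6 h7 h8
      rw [rtd_comp_closedImmersion]
      obtain ⟨m, hm, hm'⟩ := hfib (I.subschemeι w') (hmemV w')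
        (by rw [← hw]; exact h7.map I.subschemeι.continuous)
        (by
          have h9 : f (I.subschemeι w') = f (I.subschemeι w) := h8
          rw [h9]
          exact congrArg f hw)
      rw [hm]
      have : m ≤ d := by omega
      exact_mod_cast this
  · obtain ⟨w, hw⟩ : x ∈ Set.range I.subschemeι := by rw [hrange]; exact hgx
    have h5 : FlatMor.fibreDimAt (I.subschemeι ≫ f) w =
        FlatMor.localDim ↥(V ∩ f ⁻¹' {f x}) ⟨x, ⟨hgx, rfl⟩⟩ := by
      have h6 := localDim_inter f I.subschemeι V hrange w (f x) (by rw [hw]) (hmemV w)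
      rw [h6]
      congr 1
      exact Subtype.ext hw
    have h6 : FlatMor.fibreDimAt (I.subschemeι ≫ f) w = d := by
      apply le_antisymm
      · refine Groth.Agent.VarietyA.LocDim.fibreDimAt_le _ w d fun z hz hfz => ?_
        rw [rtd_comp_closedImmersion]
        obtain ⟨m, hm, hm'⟩ := hfib (I.subschemeι z) (hmemV z)
          (by rw [← hw]; exact hz.map I.subschemeι.continuous)
          (by
            have h9 : f (I.subschemeι z) = f (I.subschemeι w) := hfz
            rw [h9, hw])
        rw [hm]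
        have : m ≤ d := by omega
        exact_mod_cast this
      · obtain ⟨z, hz, hfz, hzmax⟩ := exists_maximal_fiber (I.subschemeι ≫ f) w
        obtain ⟨n, hn, hn'⟩ := Groth.Agent.VarietyA.LocDim.le_fibreDimAt (I.subschemeι ≫ f) w z hz hfz
        rw [rtd_comp_closedImmersion] at hn
        have hzx : I.subschemeι z ⤳ x := by
          rw [← hw]; exact hz.map I.subschemeι.continuous
        obtain ⟨c, m, hc, hm, hcm⟩ := h4 _ hzx
        have h7 : Order.coheight (f.asFiber (I.subschemeι z)) ≤ 1 := by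
          refine coheight_asFiber_le_one f g _ (hmemV z) fun a ha haz hfa => ?_
          obtain ⟨a, rfl⟩ : a ∈ Set.range I.subschemeι := by rw [hrange]; exact ha
          rw [hzmax a (hemb.isInducing.specializes_iff.1 haz) hfa]
        rw [hc] at h7
        have h8 : c ≤ 1 := by exact_mod_cast h7
        rw [hm] at hn
        have h9 : m = n := by exact_mod_cast hn
        refine le_trans ?_ hn'
        have h10 : d ≤ n := by omega
        exact_mod_cast h10
    have h7 : FlatMor.localDim ↥(V ∩ f ⁻¹' {f x}) ⟨x, ⟨hgx, rfl⟩⟩ = (d : WithBot ℕ∞) := h5.symm.trans h6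
    have h8 := h3 x specializes_rfl
    change FlatMor.localDim ↥(V ∩ f ⁻¹' {f x}) ⟨x, ⟨hgx, rfl⟩⟩ + 1 = FlatMor.fibreDimAt f x
    rw [h7, h8]
    push_cast
    rfl
  · intro Z hZ hxZ ξ hξ
    have hξx : (ξ : X) ⤳ x := by
      have h5 : ξ ⤳ (⟨x, hgx⟩ : V) := by
        rw [specializes_iff_mem_closure, hξ]
        exact hxZ
      exact (subtype_specializes_iff _ _).1 h5
    have hξmin : ∀ z ∈ X.zeroLocus ({g} : Set Γ(X, ⊤)), z ⤳ (ξ : X) → z = ξ := by
      intro z hz hzξ
      have h5 : (⟨z, hz⟩ : V) ⤳ ξ := (subtype_specializes_iff _ _).2 hzξ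
      have h6 : closure {(⟨z, hz⟩ : V)} ⊆ Z := by
        refine hZ.2 isIrreducible_singleton.closure ?_
        rw [← hξ]
        exact h5.closure_subset
      have h7 : ξ ⤳ (⟨z, hz⟩ : V) := by
        rw [specializes_iff_mem_closure, hξ]
        exact h6 (subset_closure rfl)
      exact congrArg Subtype.val (h5.antisymm h7).eq
    obtain ⟨h5, -⟩ := maximal_zeroLocus f g (d + 1) h1 h4 hmax' hξx ξ.2 hξmin
    rw [ringKrullDim_stalk_eq_coheight, h5]
    rfl

end Groth.Agent.S5925
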