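import Groth.Statements.S5947
import Groth.Agent.OmegaSh.K583.DerAffine

set_option autoImplicit false
universe u
open CategoryTheory AlgebraicGeometry TopologicalSpace
open Nrm16

namespace Groth.Agent.S5947

variable (A B : Type u) [CommRing A] [CommRing B] [Algebra A B]
    (L : Type u) [AddCommGroup L] [Module B L]

theorem isoTop_smul (b : B) (l : L) :
    (tilde.isoTop (ModuleCat.of (CommRingCat.of B) L)).hom (b • l) =
      (show Γ(tilde (ModuleCat.of (CommRingCat.of B) L), ⊤) from
        (show Γ(Spec (CommRingCat.of B), ⊤) from (Scheme.ΓSpecIso (CommRingCat.of B)).inv b) •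
        (show Γ(tilde (ModuleCat.of (CommRingCat.of B) L), ⊤) from
          (tilde.isoTop (ModuleCat.of (CommRingCat.of B) L)).hom l)) := by
  have h := ((tilde.isoTop (ModuleCat.of (CommRingCat.of B) L)).hom.hom).map_smul b l
  refine h.trans ?_
  refine (Scheme.Modules.smul_Spec_def (R := CommRingCat.of B)
    (M := tilde (ModuleCat.of (CommRingCat.of B) L)) (U := ⊤) b _).trans ?_
  congr 1

/-- The identification of `L` with the global sections, as an additive equivalence. -/
noncomputable def e : L ≃+ Γ(tilde (ModuleCat.of (CommRingCat.of B) L), ⊤) :=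
  ((tilde.isoTop (ModuleCat.of (CommRingCat.of B) L)).toLinearEquiv).toAddEquiv

theorem e_apply (l : L) : e B L l = (tilde.isoTop (ModuleCat.of (CommRingCat.of B) L)).hom l := rfl

theorem e_smul (b : B) (l : L) :
    e B L (b • l) = (show Γ(Spec (CommRingCat.of B), ⊤) from
      (Scheme.ΓSpecIso (CommRingCat.of B)).inv b) • e B L l := isoTop_smul B L b l

theorem e_symm_smul (b : B) (l : Γ(tilde (ModuleCat.of (CommRingCat.of B) L), ⊤)) :
    (e B L).symm ((show Γ(Spec (CommRingCat.of B), ⊤) from
      (Scheme.ΓSpecIso (CommRingCat.of B)).inv b) • l) = b • (e B L).symm l := by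
  rw [AddEquiv.symm_apply_eq, e_smul, AddEquiv.apply_symm_apply]

theorem appTop_inv (a : A) :
    (Spec.map (CommRingCat.ofHom (algebraMap A B))).appTop
      ((Scheme.ΓSpecIso (CommRingCat.of A)).inv a) =
      (Scheme.ΓSpecIso (CommRingCat.of B)).inv (algebraMap A B a) := by
  have h := Scheme.ΓSpecIso_inv_naturality (CommRingCat.ofHom (algebraMap A B))
  exact congr($h a).symm

variable [Module A L] [IsScalarTower A B L]

/-- Let A be a commutative ring, B an A-algebra and L a B-module; put S = Spec A, X = Spec B and let F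
be the O_X-module associated with L. For an S-derivation D of O_X into F write Γ(D) : B → L for its
effect on global sections (global sections of O_X and of F being identified with B and L by the
canonical isomorphisms). Then D ↦ Γ(D) is a bijection from the set of S-derivations of O_X into F
onto the set of A-derivations of B into L: every Γ(D) is an A-derivation, and every A-derivation of
B into L is Γ(D) for exactly one D. (The published statement asserts an isomorphism of B-modules; no
module structure is placed on sheaf derivations here, so this row states the bijection.) -/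
theorem result (A B : Type u) [CommRing A] [CommRing B] [Algebra A B]
    (L : Type u) [AddCommGroup L] [Module B L] [Module A L] [IsScalarTower A B L] :
    (∀ D : OmegaSh.Der (Spec.map (CommRingCat.ofHom (algebraMap A B))) (tilde (ModuleCat.of (CommRingCat.of B) L)),
      ∃ δ : Derivation A B L, ∀ t : B, D.app ⊤ ((Scheme.ΓSpecIso (CommRingCat.of B)).inv t) =
        (tilde.isoTop (ModuleCat.of (CommRingCat.of B) L)).hom (δ t)) ∧
    ∀ δ : Derivation A B L,
      ∃! D : OmegaSh.Der (Spec.map (CommRingCat.ofHom (algebraMap A B))) (tilde (ModuleCat.of (CommRingCat.of B) L)),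
        ∀ t : B, D.app ⊤ ((Scheme.ΓSpecIso (CommRingCat.of B)).inv t) =
          (tilde.isoTop (ModuleCat.of (CommRingCat.of B) L)).hom (δ t) := by
  constructor
  · intro D
    have hD1 : ∀ a b : B, D.app ⊤ ((Scheme.ΓSpecIso (CommRingCat.of B)).inv (a * b)) =
        (show Γ(Spec (CommRingCat.of B), ⊤) from (Scheme.ΓSpecIso (CommRingCat.of B)).inv a) •
          D.app ⊤ ((Scheme.ΓSpecIso (CommRingCat.of B)).inv b) +
        (show Γ(Spec (CommRingCat.of B), ⊤) from (Scheme.ΓSpecIso (CommRingCat.of B)).inv b) •
          D.app ⊤ ((Scheme.ΓSpecIso (CommRingCat.of B)).inv a) := by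
      intro a b
      rw [map_mul]
      exact K583.DerAffine.app_mul D ⊤ _ _
    have hD0 : ∀ a : A, D.app ⊤ ((Scheme.ΓSpecIso (CommRingCat.of B)).inv (algebraMap A B a)) = 0 := by
      intro a
      rw [← appTop_inv]
      exact K583.DerAffine.app_base D ⊤ _
    let δ₀ : B →+ L := ((e B L).symm.toAddMonoidHom.comp (D.app ⊤)).comp
      (Scheme.ΓSpecIso (CommRingCat.of B)).inv.hom.toAddMonoidHom
    have hδ₀ : ∀ t, δ₀ t = (e B L).symm (D.app ⊤ ((Scheme.ΓSpecIso (CommRingCat.of B)).inv t)) :=
      fun _ => rfl
    have hmul : ∀ a b, δ₀ (a * b) = a • δ₀ b + b • δ₀ a := by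
      intro a b
      rw [hδ₀, hδ₀, hδ₀, hD1, map_add, e_symm_smul, e_symm_smul]
    have hzero : ∀ a : A, δ₀ (algebraMap A B a) = 0 := by
      intro a
      rw [hδ₀, hD0, map_zero]
    refine ⟨{ toFun := δ₀
              map_add' := map_add δ₀
              map_smul' := fun c b => ?_
              map_one_eq_zero' := ?_
              leibniz' := hmul }, fun t => ?_⟩
    · rw [Algebra.smul_def, hmul, hzero, smul_zero, add_zero, algebraMap_smul]
      rfl
    · have := hmul 1 1
      simpa using this
    · exact ((e B L).apply_symm_apply _).symm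
  · intro δ
    let e' : B ≃+* Γ(Spec (CommRingCat.of B), ⊤) :=
      (Scheme.ΓSpecIso (CommRingCat.of B)).symm.commRingCatIsoToRingEquiv
    have he' : ∀ b, e' b = (Scheme.ΓSpecIso (CommRingCat.of B)).inv b := fun _ => rfl
    let d₀ : Γ(Spec (CommRingCat.of B), ⊤) →+ Γ(tilde (ModuleCat.of (CommRingCat.of B) L), ⊤) :=
      ((e B L).toAddMonoidHom.comp δ.toLinearMap.toAddMonoidHom).comp e'.symm.toAddMonoidHom
    have hd₀ : ∀ b, d₀ (e' b) = e B L (δ b) := by
      intro b
      change e B L (δ (e'.symm (e' b))) = _
      rw [RingEquiv.symm_apply_apply]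
    obtain ⟨D, hD⟩ := K583.DerAffine.exists_der (Spec.map (CommRingCat.ofHom (algebraMap A B)))
      (tilde (ModuleCat.of (CommRingCat.of B) L)) d₀ (by
        intro a b
        obtain ⟨a, rfl⟩ := e'.surjective a
        obtain ⟨b, rfl⟩ := e'.surjective b
        rw [← map_mul, hd₀, hd₀, hd₀, δ.leibniz, map_add, e_smul, e_smul]
        rfl) (by
        intro c
        obtain ⟨a, rfl⟩ : ∃ a : A, (Scheme.ΓSpecIso (CommRingCat.of A)).inv a = c :=
          ⟨(Scheme.ΓSpecIso (CommRingCat.of A)).hom c, by simp⟩
        rw [appTop_inv, ← he', hd₀, δ.map_algebraMap, map_zero])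
    refine ⟨D, fun t => ?_, fun D' hD' => ?_⟩
    · rw [hD]
      exact hd₀ t
    · apply K583.DerAffine.ext_top
      intro a
      obtain ⟨b, rfl⟩ := e'.surjective a
      rw [hD, hd₀]
      exact hD' b

end Groth.Agent.S5947
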