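import Groth.Statements.S5965
import Groth.Agent.Nrm16.K137.InfNbhd
import Mathlib.AlgebraicGeometry.Morphisms.Integral
-- import your own Groth.Agent.* helpers here

set_option autoImplicit false
universe u
open CategoryTheory CategoryTheory.Limits AlgebraicGeometry TopologicalSpace Opposite
open Nrm16

namespace Groth.Agent.S5965

open PrinPart

/-- An infinitesimal neighbourhood of a section is affine over the base. -/
theorem isAffineHom {X Y : Scheme.{u}} (g : X ⟶ Y) (f : Y ⟶ X)
    [IsClosedImmersion f] (hf : f ≫ g = 𝟙 Y) (n : ℕ) : IsAffineHom (infNbhdι f n ≫ g) := by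
  have hgf : ∀ y, g (f y) = y := fun y => by rw [← Scheme.Hom.comp_apply, hf]; rfl
  apply isAffineHom_of_forall_exists_isAffineOpen
  intro y
  obtain ⟨V, U, hyV, hyU, -, -, e⟩ := Groth.Agent.Divis.IdealComap.exists_affine_le g (f y) ⊤ trivial ⊤ trivial
  rw [hgf] at hyV
  have hUV : f ⁻¹ᵁ U.1 ≤ V.1 := fun y' hy' => by
    have := e hy'
    change g (f y') ∈ V.1 at this
    rwa [hgf] at this
  obtain ⟨a, ha, hya⟩ := V.2.exists_basicOpen_le (V := f ⁻¹ᵁ U.1) ⟨y, hyU⟩ hyV
  refine ⟨Y.basicOpen a, hya, V.2.basicOpen a, ?_⟩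
  have h1 : IsAffineOpen (X.basicOpen (g.appLE V U e a)) := U.2.basicOpen _
  have h2 : (infNbhdι f n ≫ g) ⁻¹ᵁ Y.basicOpen a = infNbhdι f n ⁻¹ᵁ X.basicOpen (g.appLE V U e a) := by
    ext x
    obtain ⟨y', rfl⟩ := toInfNbhd_surjective f n x
    have h3 : (infNbhdι f n) (toInfNbhd f n y') = f y' := by
      rw [← Scheme.Hom.comp_apply, toInfNbhd_ι]
    have h4 : (infNbhdι f n ≫ g) (toInfNbhd f n y') = y' := by
      rw [Scheme.Hom.comp_apply, h3, hgf]
    change (infNbhdι f n ≫ g) (toInfNbhd f n y') ∈ Y.basicOpen a ↔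
      (infNbhdι f n) (toInfNbhd f n y') ∈ X.basicOpen (g.appLE V U e a)
    rw [h3, h4, Scheme.basicOpen_appLE]
    constructor
    · intro h
      exact ⟨ha h, show g (f y') ∈ Y.basicOpen a by rwa [hgf]⟩
    · rintro ⟨-, h⟩
      have h' : g (f y') ∈ Y.basicOpen a := h
      rwa [hgf] at h'
  rw [h2]
  exact h1.preimage (infNbhdι f n)

/-- Let g : X ⟶ Y be a morphism locally of finite type with a section f : Y ⟶ X which is a closed
immersion. Then for every n the n-th infinitesimal neighbourhood of Y in X, mapped to Y through its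
inclusion into X followed by g, is finite over Y. (The published statement allows any section f and
says that the structure sheaf of the neighbourhood is a quasi-coherent O_Y-algebra which is an
O_Y-module of finite type; this row assumes f a closed immersion and states the conclusion as
finiteness of the morphism to Y.) -/
theorem result {X Y : Scheme.{u}} (g : X ⟶ Y) [LocallyOfFiniteType g] (f : Y ⟶ X)
    [IsClosedImmersion f] (hf : f ≫ g = 𝟙 Y) (n : ℕ) :
    IsFinite (PrinPart.infNbhdι f n ≫ g) := by
  have h1 := isAffineHom g f hf n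
  have h2 : UniversallyClosed (infNbhdι f n ≫ g) := by
    have : Surjective (toInfNbhd f n) := ⟨toInfNbhd_surjective f n⟩
    have h3 : UniversallyClosed (toInfNbhd f n ≫ infNbhdι f n ≫ g) := by
      rw [toInfNbhd_ι_assoc, hf]
      infer_instance
    exact UniversallyClosed.of_comp_surjective (toInfNbhd f n) _
  rw [IsFinite.iff_isIntegralHom_and_locallyOfFiniteType]
  exact ⟨IsIntegralHom.iff_universallyClosed_and_isAffineHom.mpr ⟨h2, h1⟩, inferInstance⟩

end Groth.Agent.S5965
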