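import Groth.Statements.S5970
import Groth.Agent.Nrm16.K137.SymOmega
import Groth.Agent.OmegaSh.K583.UnivAffine
import Groth.Agent.CohqA.PullbackQCoh
import Groth.Agent.VarietyB.PullSec
import Groth.Agent.EGA2.K36.SymAlg
import Groth.Agent.S8255

set_option autoImplicit false
universe u
open CategoryTheory CategoryTheory.Limits AlgebraicGeometry TopologicalSpace Opposite
open Nrm16

namespace Groth.Agent.S5970

open K583.UnivAffine K36.SymAlg VarietyB in
theorem bijective_app {S : Scheme.{u}} (E : S.Modules) (hE : Coh.IsQCoh E)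
    (A : RelSpec.QCAlg S) (j : E ⟶ A.toModule) (hA : RelSpec.IsSymAlg E A j)
    (Ω' : A.spec.Modules) (d : OmegaSh.Der A.π Ω') (hd : OmegaSh.IsUniversal d)
    (φ : (Scheme.Modules.pullback A.π).obj E ⟶ Ω')
    (hφ : ∀ (U : S.Opens) (t : Γ(E, U)) (t' : Γ(A.spec, A.π ⁻¹ᵁ U)),
      A.gammaMap.app (op U) t' = j.app U t →
        φ.app (A.π ⁻¹ᵁ U) (OmegaSh.pullSect A.π E U t) = d.app (A.π ⁻¹ᵁ U) t')
    (U : S.Opens) (hU : IsAffineOpen U) : Function.Bijective (φ.app (A.π ⁻¹ᵁ U)) := by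
  have hW : IsAffineOpen (A.π ⁻¹ᵁ U) := hU.preimage A.π
  have hiso : IsIso A.gammaMap := S8255.result A
  let j1 : Algebra Γ(S, U) Γ(A.spec, A.π ⁻¹ᵁ U) := (A.π.appLE U (A.π ⁻¹ᵁ U) le_rfl).hom.toAlgebra
  let j2 := PullSec.secModule A.π E (le_refl (A.π ⁻¹ᵁ U))
  have j3 : IsScalarTower Γ(S, U) Γ(A.spec, A.π ⁻¹ᵁ U) Γ((Scheme.Modules.pullback A.π).obj E, A.π ⁻¹ᵁ U) :=
      ⟨fun a b c => by rw [Algebra.smul_def, mul_smul]; rfl⟩
  have hbc := PullSec.isBaseChange_secₗ A.π E (le_refl (A.π ⁻¹ᵁ U)) hE hU hW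
  have hu := isAlgUniv_app hd hW hU le_rfl
  -- the identification of rings
  let e₁ : SymmetricAlgebra Γ(S, U) Γ(E, U) ≃+* A.presheaf.obj (op U) :=
    RingEquiv.ofBijective _ (bijective_symHom hE hA U hU)
  let e₂ : Γ(A.spec, A.π ⁻¹ᵁ U) ≃+* A.presheaf.obj (op U) :=
    (asIso (A.gammaMap.app (op U))).commRingCatIsoToRingEquiv
  have he₂ : ∀ r : Γ(S, U), e₂ (algebraMap Γ(S, U) Γ(A.spec, A.π ⁻¹ᵁ U) r) = (A.str.app (op U)).hom r := by
    intro r
    have h := congr($(A.π_c_gammaMap).app (op U) r)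
    refine Eq.trans ?_ h
    change A.gammaMap.app (op U) (A.π.appLE U (A.π ⁻¹ᵁ U) le_rfl r) = A.gammaMap.app (op U) (A.π.app U r)
    rw [Scheme.Hom.appLE_eq_app]
  let σ : SymmetricAlgebra Γ(S, U) Γ(E, U) ≃ₐ[Γ(S, U)] Γ(A.spec, A.π ⁻¹ᵁ U) :=
    AlgEquiv.ofRingEquiv (f := e₁.trans e₂.symm) (fun r => by
      change e₂.symm (symHom E A j U (algebraMap _ _ r)) = _
      rw [symHom_algebraMap, ← he₂, RingEquiv.symm_apply_apply])
  refine K137.SymOmega.bijective_of_isBaseChange σ _ hbc hu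
    (Groth.Agent.Sga67.Sec.appS φ (A.π ⁻¹ᵁ U)) (fun m => ?_)
  have h1 : PullSec.secₗ A.π E (le_refl (A.π ⁻¹ᵁ U)) m = OmegaSh.pullSect A.π E U m := by
    change ((Scheme.Modules.pullback A.π).obj E).presheaf.map (homOfLE _).op (OmegaSh.pullSect A.π E U m) = _
    have h2 : (homOfLE (le_refl (A.π ⁻¹ᵁ U))).op = 𝟙 _ := rfl
    rw [h2, CategoryTheory.Functor.map_id]
    rfl
  rw [h1]
  refine hφ U m _ ?_
  change e₂ (e₂.symm (symHom E A j U (SymmetricAlgebra.ι _ _ m))) = _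
  rw [RingEquiv.apply_symm_apply, symHom_ι]
  rfl

/-- Let S be a scheme, E a quasi-coherent O_S-module and A its symmetric algebra, given as a
quasi-coherent O_S-algebra with a module map j : E ⟶ A having the universal property; let X = V(E)
be the relative spectrum of A with structure morphism p : X ⟶ S, and let (Ω', d) be a sheaf of
differentials of X over S (d a universal S-derivation of O_X into Ω'). Let φ : p^*E ⟶ Ω' be an
O_X-linear map such that, whenever a local section t of E over U and a function t' on p⁻¹U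
correspond (t' maps to j(t) under the canonical identification of p_*O_X with A), φ sends the
pullback of t to d t'. Then φ is an isomorphism. -/
theorem result {S : Scheme.{u}} (E : S.Modules) (hE : Coh.IsQCoh E)
    (A : RelSpec.QCAlg S) (j : E ⟶ A.toModule) (hA : RelSpec.IsSymAlg E A j)
    (Ω' : A.spec.Modules) (d : OmegaSh.Der A.π Ω') (hd : OmegaSh.IsUniversal d)
    (φ : (Scheme.Modules.pullback A.π).obj E ⟶ Ω')
    (hφ : ∀ (U : S.Opens) (t : Γ(E, U)) (t' : Γ(A.spec, A.π ⁻¹ᵁ U)),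
      A.gammaMap.app (op U) t' = j.app U t →
        φ.app (A.π ⁻¹ᵁ U) (OmegaSh.pullSect A.π E U t) = d.app (A.π ⁻¹ᵁ U) t') :
    IsIso φ := by
  have h1 : ∀ x : A.spec, ∃ U : S.Opens, IsAffineOpen U ∧ A.π x ∈ U := fun x => by
    obtain ⟨_, ⟨V, hV, rfl⟩, hxV, -⟩ :=
      S.isBasis_affineOpens.exists_subset_of_mem_open (Set.mem_univ (A.π x)) isOpen_univ
    exact ⟨V, hV, hxV⟩
  choose U hU hx using h1
  have hq : ((Scheme.Modules.pullback A.π).obj E).IsQuasicoherent := VarietyB.PullSec.isQCoh_pullback A.π E hE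
  have hq' : Ω'.IsQuasicoherent := K583.UnivAffine.isQuasicoherent_of_isUniversal hd
  refine CohqA.PullbackQCoh.isIso_of_bijective_affineCover φ (fun x => A.π ⁻¹ᵁ U x) ?_
    (fun x => (hU x).preimage A.π) fun x => bijective_app E hE A j hA Ω' d hd φ hφ (U x) (hU x)
  exact top_le_iff.1 fun x _ => Opens.mem_iSup.2 ⟨x, hx x⟩

end Groth.Agent.S5970
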