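import Groth.Statements.S5972
import Groth.Agent.Nrm16.K137.Chart
-- import your own Groth.Agent.* helpers here

set_option autoImplicit false
universe u
open CategoryTheory CategoryTheory.Limits AlgebraicGeometry TopologicalSpace Opposite
open Nrm16

namespace Groth.Agent.S5972

/-- Let A → B be a ring homomorphism, X = Spec B, S = Spec A with f : X ⟶ S the induced morphism, and n
a natural number; identify B with the ring of global functions on X through the canonical
isomorphism. If ψ : B ⊗_A B → Γ(X, P^n_{X/S}) is the additive map with ψ(b ⊗ b') = b · d^n(b') for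
all b, b' in B, then ψ is surjective with kernel the (n+1)-st power of the kernel I of the
multiplication map B ⊗_A B → B. -/
theorem result (A B : Type u) [CommRing A] [CommRing B] [Algebra A B] (n : ℕ)
    (ψ : TensorProduct A B B →+
      Γ(PrinPart.P (Spec.map (CommRingCat.ofHom (algebraMap A B))) n, (⊤ : (Spec (CommRingCat.of B)).Opens)))
    (hψ : ∀ b b' : B, ψ (b ⊗ₜ[A] b') =
      (Scheme.ΓSpecIso (CommRingCat.of B)).inv b •
        PrinPart.dn (Spec.map (CommRingCat.ofHom (algebraMap A B))) n ⊤
          ((Scheme.ΓSpecIso (CommRingCat.of B)).inv b')) :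
    Function.Surjective ψ ∧ ψ.ker = (KaehlerDifferential.ideal A B ^ (n + 1)).toAddSubgroup := by
  obtain ⟨t, ht, hs, hk⟩ := K137.Chart.exists_tot (f := Spec.map (CommRingCat.ofHom (algebraMap A B)))
    (V := ⊤) (U := ⊤) le_top (A := A) (B := B) n (isAffineOpen_top _) (isAffineOpen_top _)
    (Scheme.ΓSpecIso (CommRingCat.of A)).symm (Scheme.ΓSpecIso (CommRingCat.of B)).symm
    (by exact Scheme.ΓSpecIso_inv_naturality _)
  have key : ∀ x, K137.Chart.th _ n ⊤ (ψ x) = t x := by
    intro x
    induction x using TensorProduct.induction_on with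
    | zero => exact ((congrArg _ (map_zero ψ)).trans (map_zero _)).trans (map_zero t).symm
    | add x y hx hy => rw [map_add, map_add, map_add, hx, hy]
    | tmul b b' =>
      rw [hψ, K137.Chart.th_smul, K137.Chart.th_dn, ht]
      rfl
  have hb := K137.Chart.th_bijective (Spec.map (CommRingCat.ofHom (algebraMap A B))) n ⊤
  constructor
  · intro p
    obtain ⟨x, hx⟩ := hs (K137.Chart.th _ n ⊤ p)
    exact ⟨x, hb.1 (by rw [key, hx])⟩
  · ext x
    rw [AddMonoidHom.mem_ker, Submodule.mem_toAddSubgroup, ← hk, RingHom.mem_ker, ← key,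
      map_eq_zero_iff _ hb.1]

end Groth.Agent.S5972
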