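import Groth.Statements.S5974
import Groth.Agent.Nrm16.K137.Imm
import Groth.Agent.Nrm16.K137.Ideal
-- import your own Groth.Agent.* helpers here

set_option autoImplicit false
universe u
open CategoryTheory CategoryTheory.Limits AlgebraicGeometry TopologicalSpace Opposite
open Nrm16

namespace Groth.Agent.S5974

open K137.Basic K583.DerAffine OmegaSh

/-- Let f : Y ⟶ X and j : Y' ⟶ Y be quasi-compact immersions. Let φ₁ : j^* N_{Y/X} ⟶ N_{Y'/X} and φ₂ :
N_{Y'/X} ⟶ N_{Y'/Y} be the canonical maps of conormal sheaves (the first induced by the identity of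
X, the second by f, on local sections of the ideals). Then φ₂ is an epimorphism and the image of φ₁
is the kernel of φ₂: the sequence j^* N_{Y/X} ⟶ N_{Y'/X} ⟶ N_{Y'/Y} ⟶ 0 is exact. (The published
statement allows arbitrary immersions; this row assumes them quasi-compact, the case in which the
conormal sheaves used here are those of the immersions.) -/
theorem result {Y' Y X : Scheme.{u}} (f : Y ⟶ X) [IsImmersion f] [QuasiCompact f]
    (j : Y' ⟶ Y) [IsImmersion j] [QuasiCompact j]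
    (φ₁ : (Scheme.Modules.pullback j).obj (Omega.conormal f) ⟶ Omega.conormal (j ≫ f))
    (hφ₁ : OmegaSh.IsConormalMap (j ≫ f) f (𝟙 X) j φ₁)
    (φ₂ : (Scheme.Modules.pullback (𝟙 Y')).obj (Omega.conormal (j ≫ f)) ⟶ Omega.conormal j)
    (hφ₂ : OmegaSh.IsConormalMap j (j ≫ f) f (𝟙 Y') φ₂) :
    Epi φ₂ ∧
      imageSubobject φ₁ =
        kernelSubobject ((Scheme.Modules.pullbackId Y').inv.app (Omega.conormal (j ≫ f)) ≫ φ₂) := by
  set p := (Scheme.Modules.pullbackId Y').inv.app (Omega.conormal (j ≫ f)) with hp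
  -- the map `I_{Y'/X} → f_* I_{Y'/Y}`
  have hmk : ∀ (U : X.Opens) (s' : Γ(ClSub.idealMod (j ≫ f).ker, U)),
      j.app (f ⁻¹ᵁ U) (f.app U (idealSect (j ≫ f).ker U s')) = 0 := by
    intro U s'
    have h := K137.Ideal.app_idealSect (j ≫ f) U s'
    rw [Scheme.Hom.comp_app] at h
    exact h
  let π₀ : ∀ (U : X.Opens), Γ(ClSub.idealMod (j ≫ f).ker, U) → Γ(ClSub.idealMod j.ker, f ⁻¹ᵁ U) :=
    fun U s' => K137.Ideal.mk j (f ⁻¹ᵁ U) (f.app U (idealSect (j ≫ f).ker U s')) (hmk U s')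
  have hπ₀ : ∀ (U : X.Opens) (s' : Γ(ClSub.idealMod (j ≫ f).ker, U)),
      idealSect j.ker (f ⁻¹ᵁ U) (π₀ U s') = f.app U (idealSect (j ≫ f).ker U s') :=
    fun U s' => K137.Ideal.idealSect_mk j _ _ _
  let π : ∀ (U : X.Opens), Γ(ClSub.idealMod (j ≫ f).ker, U) →+ Γ(ClSub.idealMod j.ker, f ⁻¹ᵁ U) := fun U =>
    { toFun := π₀ U
      map_zero' := by
        apply K137.Ideal.idealSect_injective
        rw [hπ₀, map_zero, map_zero, map_zero]
      map_add' := fun a b => by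
        apply K137.Ideal.idealSect_injective
        rw [hπ₀, map_add, map_add, map_add, hπ₀, hπ₀] }
  have hπ : ∀ (U : X.Opens) (s' : Γ(ClSub.idealMod (j ≫ f).ker, U)),
      idealSect j.ker (f ⁻¹ᵁ U) (π U s') = f.app U (idealSect (j ≫ f).ker U s') := hπ₀
  -- `φ₂` on classes
  have h2 : ∀ (U : X.Opens) (s' : Γ(ClSub.idealMod (j ≫ f).ker, U)),
      (p ≫ φ₂).app ((j ≫ f) ⁻¹ᵁ U) (conormalSect (j ≫ f) U s') = conormalSect j (f ⁻¹ᵁ U) (π U s') := by
    intro U s'
    have h := hφ₂.2 U s' (π U s') (hπ U s') ((j ≫ f) ⁻¹ᵁ U) le_rfl le_rfl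
    have e3 : (homOfLE (le_refl ((j ≫ f) ⁻¹ᵁ U))).op = 𝟙 _ := rfl
    have h4 := h
    erw [CategoryTheory.Functor.map_id] at h4
    change φ₂.app ((j ≫ f) ⁻¹ᵁ U) (p.app ((j ≫ f) ⁻¹ᵁ U) (conormalSect (j ≫ f) U s')) = _
    rw [hp, id_inv]
    exact h4
  -- `φ₁` on classes
  have h1 : ∀ (U : X.Opens) (s' : Γ(ClSub.idealMod f.ker, U)) (s : Γ(ClSub.idealMod (j ≫ f).ker, U)),
      idealSect (j ≫ f).ker U s = idealSect f.ker U s' →
      φ₁.app (j ⁻¹ᵁ (f ⁻¹ᵁ U)) (pullSect j (Omega.conormal f) (f ⁻¹ᵁ U) (conormalSect f U s')) =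
        conormalSect (j ≫ f) U s := by
    intro U s' s hs
    have h := hφ₁.2 U s' s (by
      rw [Scheme.Hom.id_app]
      exact hs) (j ⁻¹ᵁ (f ⁻¹ᵁ U)) le_rfl le_rfl
    erw [CategoryTheory.Functor.map_id] at h
    exact h
  -- surjectivity over charts of `f`
  have hsurj : ∀ k : K137.Imm.Ch f, Function.Surjective (π k.V) := by
    intro k s
    obtain ⟨a, ha⟩ := K137.Imm.app_surjective k (idealSect j.ker (f ⁻¹ᵁ k.V) s)
    have ha0 : (j ≫ f).app k.V a = 0 := by
      rw [Scheme.Hom.comp_app]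
      change j.app (f ⁻¹ᵁ k.V) (f.app k.V a) = 0
      rw [ha]
      exact K137.Ideal.app_idealSect j _ s
    refine ⟨K137.Ideal.mk (j ≫ f) k.V a ha0, ?_⟩
    apply K137.Ideal.idealSect_injective
    rw [hπ, K137.Ideal.idealSect_mk, ha]
  have hepi : Epi (p ≫ φ₂) := by
    refine ⟨fun {N} a b hab => ?_⟩
    apply pull_hom_ext
    intro U s
    change a.app (j ⁻¹ᵁ U) (conormalSect j U s) = b.app (j ⁻¹ᵁ U) (conormalSect j U s)
    apply eq_of_locally
    intro y hy
    obtain ⟨k, hk, hkU⟩ := K137.Imm.exists_ch (i := f) (j y) U hy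
    refine ⟨j ⁻¹ᵁ (f ⁻¹ᵁ k.V), j.preimage_mono hkU, hk, ?_⟩
    obtain ⟨s', hs'⟩ := hsurj k ((ClSub.idealMod j.ker).presheaf.map (homOfLE hkU).op s)
    rw [← app_res, ← app_res]
    have e1 : (Omega.conormal j).presheaf.map (homOfLE (j.preimage_mono hkU)).op (conormalSect j U s) =
        (p ≫ φ₂).app ((j ≫ f) ⁻¹ᵁ k.V) (conormalSect (j ≫ f) k.V s') := by
      rw [h2, hs']
      exact (pullSect_map j (ClSub.idealMod j.ker) hkU s).symm
    rw [e1]
    exact congr(($(hab).app ((j ≫ f) ⁻¹ᵁ k.V)) (conormalSect (j ≫ f) k.V s'))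
  have : Epi φ₂ := epi_of_epi p φ₂
  -- sections of the ideal of `Y` as sections of the ideal of `Y'`
  have hmk' : ∀ (U : X.Opens) (s' : Γ(ClSub.idealMod f.ker, U)),
      (j ≫ f).app U (idealSect f.ker U s') = 0 := by
    intro U s'
    rw [Scheme.Hom.comp_app]
    change j.app (f ⁻¹ᵁ U) (f.app U (idealSect f.ker U s')) = 0
    rw [K137.Ideal.app_idealSect, map_zero]
  refine ⟨inferInstance, ?_⟩
  refine image_eq_kernel _ _ ?_ ?_
  · -- the composite is zero
    have h0 : adj j (φ₁ ≫ p ≫ φ₂) = 0 := by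
      apply pull_hom_ext
      intro U s'
      refine (adj_app j (φ₁ ≫ p ≫ φ₂) (f ⁻¹ᵁ U) (conormalSect f U s')).trans ?_
      change (p ≫ φ₂).app (j ⁻¹ᵁ (f ⁻¹ᵁ U)) (φ₁.app (j ⁻¹ᵁ (f ⁻¹ᵁ U))
        (pullSect j (Omega.conormal f) (f ⁻¹ᵁ U) (conormalSect f U s'))) = 0
      rw [h1 U s' (K137.Ideal.mk (j ≫ f) U (idealSect f.ker U s') (hmk' U s'))
        (K137.Ideal.idealSect_mk _ _ _ _)]
      refine (h2 U _).trans ?_
      have h3 : π U (K137.Ideal.mk (j ≫ f) U (idealSect f.ker U s') (hmk' U s')) = 0 := by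
        apply K137.Ideal.idealSect_injective
        rw [hπ, K137.Ideal.idealSect_mk, K137.Ideal.app_idealSect, map_zero]
      rw [h3, map_zero]
    apply pull_hom_ext
    intro U s
    rw [← adj_app, h0]
    rfl
  · intro N k hk
    obtain ⟨β, hβ⟩ := K137.Imm.exists_desc_presheaf (i := f) (fun c : K137.Imm.Ch f => c.V) K137.Imm.isBasis
      (ClSub.idealMod (j ≫ f).ker).presheaf (ClSub.idealMod j.ker).presheaf
      ((Scheme.Modules.pushforward j).obj N).presheaf ((Scheme.Modules.pushforward j).obj N).isSheaf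
      π
      (fun U V h q => by
        apply K137.Ideal.idealSect_injective
        rw [hπ, K137.Ideal.idealSect_map, K137.Ideal.idealSect_map, hπ, sapp_res])
      (fun U => ((k.app ((j ≫ f) ⁻¹ᵁ U)).hom.comp (conormalSect (j ≫ f) U).hom :
        Γ(ClSub.idealMod (j ≫ f).ker, U) →+ Γ(N, j ⁻¹ᵁ (f ⁻¹ᵁ U))))
      (fun U V h q => by
        change k.app ((j ≫ f) ⁻¹ᵁ V) (conormalSect (j ≫ f) V
          ((ClSub.idealMod (j ≫ f).ker).presheaf.map (homOfLE h).op q)) = _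
        have e1 : conormalSect (j ≫ f) V ((ClSub.idealMod (j ≫ f).ker).presheaf.map (homOfLE h).op q) =
          (Omega.conormal (j ≫ f)).presheaf.map (homOfLE ((j ≫ f).preimage_mono h)).op
            (conormalSect (j ≫ f) U q) := pullSect_map (j ≫ f) (ClSub.idealMod (j ≫ f).ker) h q
        rw [e1, app_res]
        rfl)
      hsurj
      (fun U q hq => by
        change k.app ((j ≫ f) ⁻¹ᵁ U) (conormalSect (j ≫ f) U q) = 0
        have e1 : f.app U (idealSect (j ≫ f).ker U q) = 0 := by rw [← hπ, hq, map_zero]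
        obtain ⟨s', hs'⟩ := (K137.Ideal.app_eq_zero_iff f U _).mp e1
        rw [← h1 U s' q hs'.symm]
        exact congr(($(hk).app (j ⁻¹ᵁ (f ⁻¹ᵁ U))) (pullSect j (Omega.conormal f) (f ⁻¹ᵁ U) (conormalSect f U s'))))
    have hβn : ∀ (U V : Y.Opens) (h : V ≤ U) (s : Γ(ClSub.idealMod j.ker, U)),
        β.app (op V) ((ClSub.idealMod j.ker).presheaf.map (homOfLE h).op s) =
          ((Scheme.Modules.pushforward j).obj N).presheaf.map (homOfLE h).op (β.app (op U) s) := by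
      intro U V h s
      exact NatTrans.naturality_apply β _ _
    have hβ' : ∀ (U : X.Opens) (q : Γ(ClSub.idealMod (j ≫ f).ker, U)), β.app (op (f ⁻¹ᵁ U)) (π U q) =
      k.app ((j ≫ f) ⁻¹ᵁ U) (conormalSect (j ≫ f) U q) := hβ
    let l' : ClSub.idealMod j.ker ⟶ (Scheme.Modules.pushforward j).obj N := homMk β (by
      intro U a m
      apply eq_of_locally
      intro y hy
      obtain ⟨k', hk', hkU⟩ := K137.Imm.exists_ch (i := f) y U hy
      refine ⟨f ⁻¹ᵁ k'.V, hkU, hk', ?_⟩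
      obtain ⟨s, hs⟩ := K137.Imm.app_surjective k' (Y.presheaf.map (homOfLE hkU).op a)
      obtain ⟨t, ht⟩ := hsurj k' ((ClSub.idealMod j.ker).presheaf.map (homOfLE hkU).op m)
      rw [← hβn, Scheme.Modules.map_smul, Scheme.Modules.map_smul, ← hβn, ← hs, ← ht]
      have e1 : f.app k'.V s • π k'.V t = π k'.V (s • t) := by
        apply K137.Ideal.idealSect_injective
        rw [hπ, K137.Ideal.idealSect_smul, K137.Ideal.idealSect_smul, hπ, map_mul]
      rw [e1, hβ', hβ']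
      have e2 : conormalSect (j ≫ f) k'.V (s • t) = (j ≫ f).app k'.V s • conormalSect (j ≫ f) k'.V t :=
        pullSect_smul (j ≫ f) (ClSub.idealMod (j ≫ f).ker) k'.V s t
      rw [e2, Scheme.Modules.Hom.app_smul, Scheme.Hom.comp_app]
      rfl)
    obtain ⟨l, hl⟩ := exists_desc j l'
    refine ⟨l, ?_⟩
    apply pull_hom_ext
    intro U q
    change l.app ((j ≫ f) ⁻¹ᵁ U) ((p ≫ φ₂).app ((j ≫ f) ⁻¹ᵁ U) (conormalSect (j ≫ f) U q)) = _
    rw [h2]
    refine (hl (f ⁻¹ᵁ U) (π U q)).trans ?_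
    exact hβ' U q

end Groth.Agent.S5974
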