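import Groth.Statements.S5978
import Groth.Agent.Nrm16.K137.SplitOne
import Groth.Agent.Nrm16.K137.Span
import Groth.Agent.Nrm16.K136.DiffProd
import Groth.Agent.Nrm16.K136.UnivOmega
import Groth.Agent.Sga67.LocBasis

set_option autoImplicit false
universe u
open CategoryTheory CategoryTheory.Limits AlgebraicGeometry TopologicalSpace Opposite
open Nrm16

namespace Groth.Agent.S5978

open scoped TensorProduct
open Groth.Agent.Sga67.Sec PrinPart in
theorem bijective_chart {X S : Scheme.{u}} (f : X ⟶ S) [QuasiSeparated f]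
    (e : Coh.structureModule X ⟶ PrinPart.P f 1)
    (he : ∀ (U : X.Opens) (s : Γ(X, U)), e.app U (OmegaSh.strSect X U s) = s • PrinPart.dn f 1 U 1)
    (ι : Omega.sheaf f ⟶ PrinPart.P f 1)
    (hι : ∀ (U : X.Opens) (s : Γ(X, U)),
      ι.app U ((OmegaSh.dOmega f).app U s) = PrinPart.dn f 1 U s - s • PrinPart.dn f 1 U 1)
    {V : S.Opens} {U : X.Opens} (l : U ≤ f ⁻¹ᵁ V) (hV : IsAffineOpen V) (hU : IsAffineOpen U) :
    Function.Bijective (LinearMap.coprod (appS e U) (appS ι U)) := by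
  let := (f.appLE V U l).hom.toAlgebra
  obtain ⟨t, ht, hs, hk⟩ := K137.Chart.exists_tot l (A := Γ(S, V)) (B := Γ(X, U)) 1 hV hU (Iso.refl _)
    (Iso.refl _) rfl
  have hu : K583.AlgUniv.IsAlgUniv (algebraMap Γ(S, V) Γ(X, U)) ((OmegaSh.dOmega f).app U) :=
    K136.UnivOmega.isAlgUniv_dOmega f l hV hU
  let L : Γ(Omega.sheaf f, U) →+ Γ(nbhd f 1, pr1 f 1 ⁻¹ᵁ U) := (K137.Chart.th f 1 U).comp (ι.app U).hom
  have h1 : ∀ b : Γ(X, U), t (b ⊗ₜ 1) = (pr1 f 1).app U b := fun b => by
    rw [ht]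
    change (pr1 f 1).app U b * (pr2 f 1).appLE U _ _ 1 = _
    rw [map_one, mul_one]
  have h1' : ∀ b : Γ(X, U), t (1 ⊗ₜ b) = K137.Chart.th f 1 U (dn f 1 U b) := fun b => by
    rw [ht, K137.Chart.th_dn]
    change (pr1 f 1).app U 1 * _ = _
    rw [map_one, one_mul]
    rfl
  have h1'' : K137.Chart.th f 1 U (dn f 1 U 1) = 1 := by
    rw [K137.Chart.th_dn, map_one]
  have hE : ∀ b : Γ(X, U), K137.Chart.th f 1 U (e.app U (OmegaSh.strSect X U b)) = t (b ⊗ₜ 1) := fun b => by
    rw [he, K137.Chart.th_smul, h1'', mul_one, h1]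
  obtain ⟨k1, k2⟩ := K137.SplitOne.bijective_split ((OmegaSh.dOmega f).app U) hu t hs hk L (fun b m => by
      change K137.Chart.th f 1 U (ι.app U (b • m)) = _
      rw [Scheme.Modules.Hom.app_smul, K137.Chart.th_smul, h1]
      rfl) (fun s => by
      change K137.Chart.th f 1 U (ι.app U ((OmegaSh.dOmega f).app U s)) = _
      rw [hι, map_sub, K137.Chart.th_smul, h1'', mul_one, h1, h1'])
  have hadd : ∀ (b : Γ(X, U)) (m : Γ(Omega.sheaf f, U)), K137.Chart.th f 1 U
      (LinearMap.coprod (appS e U) (appS ι U) (OmegaSh.strSect X U b, m)) = t (b ⊗ₜ 1) + L m := by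
    intro b m
    rw [← hE]
    exact map_add (K137.Chart.th f 1 U) _ _
  constructor
  · rw [injective_iff_map_eq_zero]
    rintro ⟨b, m⟩ h
    have h2 := k1 b m ((hadd b m).symm.trans ((congrArg _ h).trans (map_zero _)))
    exact Prod.ext h2.1 h2.2
  · intro p
    obtain ⟨b, m, h⟩ := k2 (K137.Chart.th f 1 U p)
    exact ⟨(OmegaSh.strSect X U b, m), (K137.Chart.th_bijective f 1 U).1 ((hadd b m).trans h)⟩

/-- Let f : X ⟶ S be a quasi-separated morphism, Ω_{X/S} its sheaf of differentials (the conormal sheaf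
of the diagonal) with its derivation d, e : O_X ⟶ P^1_{X/S} the O_X-linear map s ↦ s·1 and ι :
Ω_{X/S} ⟶ P^1_{X/S} the O_X-linear map with ι(d s) = d^1 s − s·1 for every local function s. Then
the map O_X ⊕ Ω_{X/S} ⟶ P^1_{X/S} induced by e and ι is an isomorphism of O_X-modules for the left
structure of P^1_{X/S}; in other words Ω_{X/S} is identified with the augmentation ideal of
P^1_{X/S} and d s = d^1 s − s. (The published text takes this as the definition of Ω_{X/S} for every
f; here Ω_{X/S} is the conormal sheaf of the diagonal, formed for quasi-separated f, and the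
identification is stated.) -/
theorem result {X S : Scheme.{u}} (f : X ⟶ S) [QuasiSeparated f]
    (e : Coh.structureModule X ⟶ PrinPart.P f 1)
    (he : ∀ (U : X.Opens) (s : Γ(X, U)), e.app U (OmegaSh.strSect X U s) = s • PrinPart.dn f 1 U 1)
    (ι : Omega.sheaf f ⟶ PrinPart.P f 1)
    (hι : ∀ (U : X.Opens) (s : Γ(X, U)),
      ι.app U ((OmegaSh.dOmega f).app U s) = PrinPart.dn f 1 U s - s • PrinPart.dn f 1 U 1) :
    IsIso (coprod.desc e ι) := by
  have h1 : IsIso (biprod.desc e ι) := by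
    refine Sga67.LocBasis.isIso_of_bijective _ fun x U hx => ?_
    obtain ⟨p, hxp, hp⟩ := K136.UnivOmega.exists_pair f hx
    exact ⟨p.W, hp, hxp, K136.DiffProd.bijective_desc e ι (bijective_chart f e he ι hι p.le p.hU p.hW)⟩
  have h2 : coprod.desc e ι = (biprod.isoCoprod _ _).inv ≫ biprod.desc e ι := by
    apply coprod.hom_ext
    · simp [coprod.inl_desc]
    · simp [coprod.inr_desc]
  rw [h2]
  infer_instance

end Groth.Agent.S5978
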