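import Groth.Statements.S5979
import Groth.Agent.Nrm16.K137.InfNbhd
import Groth.Agent.Nrm16.K137.IsoPull
-- import your own Groth.Agent.* helpers here

set_option autoImplicit false
universe u
open CategoryTheory CategoryTheory.Limits AlgebraicGeometry TopologicalSpace Opposite
open Nrm16

namespace Groth.Agent.S5979

theorem isIso_toInfNbhd_zero {Y X : Scheme.{u}} (i : Y ⟶ X) [IsClosedImmersion i] :
    IsIso (PrinPart.toInfNbhd i 0) := by
  have h1 : IsClosedImmersion (PrinPart.toInfNbhd i 0 ≫ PrinPart.infNbhdι i 0) := by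
    rw [PrinPart.toInfNbhd_ι]; infer_instance
  have : IsClosedImmersion (PrinPart.toInfNbhd i 0) :=
    IsClosedImmersion.of_comp _ (PrinPart.infNbhdι i 0)
  rw [IsClosedImmersion.isIso_iff_ker_eq_bot]
  have h2 := K137.InfNbhd.ker_toInfNbhd_pow i 0
  rwa [zero_add, pow_one] at h2

/-- Let f : X ⟶ S be a morphism of schemes and F an O_X-module. For every open U of X the canonical
operator d^0 : Γ(U, F) ⟶ Γ(U, P^0_{X/S}(F)) is bijective; so P^0_{X/S}(F) is identified with F, and
P^0_{X/S} with O_X, through d^0. -/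
theorem result {X S : Scheme.{u}} (f : X ⟶ S) (F : X.Modules) (U : X.Opens) :
    Function.Bijective (PrinPart.dP f 0 F U) := by
  have h1 : IsIso (PrinPart.toNbhd f 0) := isIso_toInfNbhd_zero _
  have h2 : IsIso (PrinPart.pr2 f 0) := by
    have h3 : IsIso (PrinPart.toNbhd f 0 ≫ PrinPart.pr2 f 0) := by
      rw [PrinPart.toNbhd_pr2]; infer_instance
    exact IsIso.of_isIso_comp_left (PrinPart.toNbhd f 0) _
  have h4 := K137.IsoPull.bijective_pullSect (PrinPart.pr2 f 0) F U
  have h5 : Function.Bijective (((Scheme.Modules.pullback (PrinPart.pr2 f 0)).obj F).presheaf.map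
      (homOfLE (PrinPart.preimage_pr1 f 0 U).le).op) := by
    have : IsIso (homOfLE (PrinPart.preimage_pr1 f 0 U).le) := by
      have h6 : homOfLE (PrinPart.preimage_pr1 f 0 U).le = eqToHom (PrinPart.preimage_pr1 f 0 U) := rfl
      rw [h6]; infer_instance
    exact ConcreteCategory.bijective_of_isIso _
  exact h5.comp h4

end Groth.Agent.S5979
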