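import Groth.Statements.S7658

set_option autoImplicit false
universe u
open CategoryTheory CategoryTheory.Limits AlgebraicGeometry
open Variety

namespace Groth.Agent.S7658

theorem isIso_stalkMap_of_nhd {X Y : Scheme.{u}} (f : X ⟶ Y) (x : X) (U : X.Opens) (hx : x ∈ U)
    [IsOpenImmersion (U.ι ≫ f)] : IsIso (f.stalkMap x) := by
  have h := Scheme.Hom.stalkMap_comp U.ι f ⟨x, hx⟩
  have h1 : IsIso ((U.ι ≫ f).stalkMap ⟨x, hx⟩) := inferInstance
  rw [h] at h1
  exact (isIso_comp_right_iff (f.stalkMap (U.ι ⟨x, hx⟩)) (U.ι.stalkMap ⟨x, hx⟩)).mp h1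

/-- A morphism inducing an isomorphism on the local rings at `x` has a section over the local scheme. -/
theorem exists_section {X Y : Scheme.{u}} (f : X ⟶ Y) (y : Y) (x : X) (hxy : f x = y)
    [h : IsIso (f.stalkMap x)] :
    ∃ s : Spec (Y.presheaf.stalk y) ⟶ X, s ≫ f = Y.fromSpecStalk y ∧
      s (IsLocalRing.closedPoint _) = x ∧ Set.range s = {z | z ⤳ x} ∧
      Topology.IsEmbedding s := by
  subst hxy
  have h1 : Function.Surjective (Spec.map (inv (f.stalkMap x))) := (Spec.map (inv (f.stalkMap x))).homeomorph.surjective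
  refine ⟨Spec.map (inv (f.stalkMap x)) ≫ X.fromSpecStalk x, ?_, ?_, ?_, ?_⟩
  · rw [Category.assoc, ← Scheme.SpecMap_stalkMap_fromSpecStalk, ← Category.assoc,
      ← Spec.map_comp]
    simp
  · have : IsLocalHom (inv (f.stalkMap x)).hom := inferInstance
    rw [Scheme.Hom.comp_apply]
    have h2 : (Spec.map (inv (f.stalkMap x))) (IsLocalRing.closedPoint _) = IsLocalRing.closedPoint _ :=
      IsLocalRing.comap_closedPoint _
    rw [h2, Scheme.fromSpecStalk_closedPoint]
  · rw [Scheme.Hom.comp_base, TopCat.coe_comp, Set.range_comp, h1.range_eq, Set.image_univ,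
      Scheme.range_fromSpecStalk]
  · rw [Scheme.Hom.comp_base, TopCat.coe_comp]
    exact (X.fromSpecStalk x).isEmbedding.comp (Spec.map (inv (f.stalkMap x))).homeomorph.isEmbedding

/-- The image of a minimal point under a morphism as in `exists_section` is the generic point of an irreducible
component. -/
theorem isComp_of_min {X : Scheme.{u}} {R : CommRingCat.{u}} {x : X} (s : Spec R ⟶ X)
    (he : Topology.IsEmbedding s) (hr : Set.range s = {z | z ⤳ x}) (η : Spec R)
    (hη : ∀ z, z ⤳ η → z = η) : closure ({s η} : Set X) ∈ irreducibleComponents (X : Type u) := by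
  have hmin : ∀ z : X, z ⤳ s η → z = s η := by
    intro z hz
    have h1 : s η ⤳ x := by
      have : s η ∈ Set.range s := ⟨η, rfl⟩
      rw [hr] at this
      exact this
    have h2 : z ∈ Set.range s := by
      rw [hr]; exact hz.trans h1
    obtain ⟨w, rfl⟩ := h2
    rw [hη w (he.isInducing.specializes_iff.mp hz)]
  have hirr : IsIrreducible (closure ({s η} : Set X)) := isIrreducible_singleton.closure
  refine ⟨hirr, ?_⟩
  intro Z hZ hle
  have h2 := hle (subset_closure (Set.mem_singleton (s η)))
  obtain ⟨z, hz⟩ := QuasiSober.sober hZ.closure isClosed_closure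
  have h3 : z ⤳ s η := by
    rw [specializes_iff_mem_closure, hz.def]
    exact subset_closure h2
  rw [← hmin z h3, hz.def]
  exact subset_closure

theorem eq_at_closedPoint {X Y : Scheme.{u}} (f : X ⟶ Y) [IsSeparated f] {R : CommRingCat.{u}}
    [IsLocalRing R] (s s' : Spec R ⟶ X) (hss' : s ≫ f = s' ≫ f) (η : Spec R) (h : s η = s' η)
    (U : X.Opens) (hU : s η ∈ U) [IsOpenImmersion (U.ι ≫ f)] :
    s (IsLocalRing.closedPoint R) = s' (IsLocalRing.closedPoint R) := by
  let S : Over Y := Over.mk (s ≫ f)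
  let T : Over Y := Over.mk f
  have : IsSeparated T.hom := ‹IsSeparated f›
  let a : S ⟶ T := Over.homMk s rfl
  let b : S ⟶ T := Over.homMk s' hss'.symm
  have hcl : IsClosedImmersion (equalizer.ι a b).left := inferInstance
  -- the point `η` lies in the equalizer
  let t : Spec ((Spec R).residueField η) ⟶ Spec R := (Spec R).fromSpecResidueField η
  have ht : ∀ z, t z = η := by
    intro z
    have := Scheme.range_fromSpecResidueField (X := Spec R) η
    have h1 : t z ∈ Set.range t := ⟨z, rfl⟩
    rw [this] at h1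
    exact h1
  have h1 : Set.range (t ≫ s) ⊆ Set.range U.ι := by
    rintro _ ⟨z, rfl⟩
    rw [Scheme.Opens.range_ι, Scheme.Hom.comp_apply, ht]
    exact hU
  have h2 : Set.range (t ≫ s') ⊆ Set.range U.ι := by
    rintro _ ⟨z, rfl⟩
    rw [Scheme.Opens.range_ι, Scheme.Hom.comp_apply, ht, ← h]
    exact hU
  have h3 : t ≫ s = t ≫ s' := by
    rw [← IsOpenImmersion.lift_fac U.ι (t ≫ s) h1, ← IsOpenImmersion.lift_fac U.ι (t ≫ s') h2]
    congr 1
    rw [← cancel_mono (U.ι ≫ f), ← Category.assoc, ← Category.assoc, IsOpenImmersion.lift_fac,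
      IsOpenImmersion.lift_fac, Category.assoc, Category.assoc, hss']
  let t' : Over.mk (t ≫ s ≫ f) ⟶ S := Over.homMk t rfl
  have h4 : t' ≫ a = t' ≫ b := by
    apply Over.OverMorphism.ext
    exact h3
  let l := equalizer.lift t' h4
  have h5 : l ≫ equalizer.ι a b = t' := equalizer.lift_ι _ _
  have h6 : η ∈ Set.range (equalizer.ι a b).left := by
    refine ⟨l.left (IsLocalRing.closedPoint ((Spec R).residueField η)), ?_⟩
    rw [← Scheme.Hom.comp_apply, ← Over.comp_left, h5]
    exact ht _
  have h7 : IsLocalRing.closedPoint R ∈ Set.range (equalizer.ι a b).left := by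
    have : IsClosed (Set.range (equalizer.ι a b).left) := (equalizer.ι a b).left.isClosedEmbedding.isClosed_range
    exact (IsLocalRing.specializes_closedPoint η).mem_closed this h6
  obtain ⟨w, hw⟩ := h7
  have h8 : (equalizer.ι a b).left ≫ s = (equalizer.ι a b).left ≫ s' :=
    congrArg CommaMorphism.left (equalizer.condition a b)
  rw [← hw, ← Scheme.Hom.comp_apply, ← Scheme.Hom.comp_apply, h8]

/-- A separated morphism of schemes f : X → Y such that X has an open covering on whose members f
restricts to open immersions, and such that no two distinct generic points of irreducible components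
of X have the same image under f, is an open immersion. -/
theorem result {X Y : Scheme.{u}}
    (f : X ⟶ Y) [IsSeparated f]
    (hloc : ∀ x : X, ∃ U : X.Opens, x ∈ U ∧ IsOpenImmersion (U.ι ≫ f))
    (hinj : ∀ ξ ξ' : X, closure ({ξ} : Set X) ∈ irreducibleComponents (X : Type u) → closure ({ξ'} : Set X) ∈ irreducibleComponents (X : Type u) →
      f.base ξ = f.base ξ' → ξ = ξ') :
    IsOpenImmersion f := by
  have hstalk : ∀ x, IsIso (f.stalkMap x) := fun x => by
    obtain ⟨U, hx, hU⟩ := hloc x
    exact isIso_stalkMap_of_nhd f x U hx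
  have hopen : IsOpenMap f := by
    rw [isOpenMap_iff_nhds_le]
    intro x
    obtain ⟨U, hx, hU⟩ := hloc x
    have h1 : IsOpenMap (U.ι ≫ f) := (U.ι ≫ f).isOpenEmbedding.isOpenMap
    have h2 := h1.nhds_le ⟨x, hx⟩
    have h3 : Filter.map U.ι (nhds (⟨x, hx⟩ : U)) = nhds x :=
      U.ι.isOpenEmbedding.map_nhds_eq _
    rw [← h3, Filter.map_map]
    exact h2
  have hinjf : Function.Injective f := by
    intro x x' hxx'
    obtain ⟨s, hs, hsx, hsr, hse⟩ := exists_section f (f x) x rfl
    obtain ⟨s', hs', hsx', hsr', hse'⟩ := exists_section f (f x) x' hxx'.symm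
    have hη : ∃ η : Spec (Y.presheaf.stalk (f x)), ∀ z, z ⤳ η → z = η := by
      obtain ⟨p, hp⟩ := Ideal.nonempty_minimalPrimes (bot_ne_top (α := Ideal (Y.presheaf.stalk (f x))))
      refine ⟨⟨p, hp.1.1⟩, ?_⟩
      intro z hz
      have h1 : z.asIdeal ≤ p := (PrimeSpectrum.le_iff_specializes _ _).mpr hz
      have h2 := hp.2 ⟨z.2, bot_le⟩ h1
      exact PrimeSpectrum.ext (le_antisymm h1 h2)
    obtain ⟨η, hη⟩ := hη
    have h1 := hinj (s η) (s' η) (isComp_of_min s hse hsr η hη) (isComp_of_min s' hse' hsr' η hη)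
      (by
        have e1 : (s ≫ f) η = (s' ≫ f) η := by rw [hs, hs']
        exact e1)
    obtain ⟨U, hxU, hU⟩ := hloc (s η)
    have h2 := eq_at_closedPoint f s s' (hs.trans hs'.symm) η h1 U hxU
    rw [← hsx, ← hsx', h2]
  exact IsOpenImmersion.of_isIso_stalkMap f
    (Topology.IsOpenEmbedding.of_continuous_injective_isOpenMap f.continuous hinjf hopen)

end Groth.Agent.S7658
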