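import Groth.Statements.S5980
import Groth.Agent.Nrm16.K137.ConZero
import Groth.Agent.S7658
import Groth.Agent.Flat2D.LfpComp
-- import your own Groth.Agent.* helpers here

set_option autoImplicit false
universe u
open CategoryTheory CategoryTheory.Limits AlgebraicGeometry TopologicalSpace Opposite
open Nrm16

namespace Groth.Agent.S5980

/-- Consider a point y of Y and an immersion j : Y ⟶ X that is quasi-compact and locally of finite
presentation. The stalk at y of the conormal sheaf N_{Y/X} = I/I² is zero exactly when y has an open
neighbourhood U in Y on which the restriction of j is an open immersion. (The published statement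
covers every immersion locally of finite presentation. Here j is additionally assumed quasi-compact,
since in that case the conormal sheaf used here is the one attached to j.) -/
theorem result {Y X : Scheme.{u}} (j : Y ⟶ X) [IsImmersion j]
    [QuasiCompact j] [LocallyOfFinitePresentation j] (y : Y) :
    (∃ U : Y.Opens, y ∈ U ∧ IsOpenImmersion (U.ι ≫ j)) ↔
      Subsingleton ((Omega.conormal j).presheaf.stalk y) := by
  have hlfp : LocallyOfFinitePresentation j.liftCoborder := by
    have : LocallyOfFinitePresentation (j.liftCoborder ≫ j.coborderRange.ι) := by
      rw [Scheme.Hom.liftCoborder_ι]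
      infer_instance
    exact Flat2D.LfpComp.lfp_of_comp j.liftCoborder j.coborderRange.ι
  have e : (Omega.conormal j).presheaf.stalk y ≅ (Omega.conormal j.liftCoborder).presheaf.stalk y :=
    (CycB.StalkExact.stalkFun y).mapIso (K137.ConZero.conormalIso j)
  rw [(Equiv.ofBijective _ (ConcreteCategory.bijective_of_isIso e.hom)).subsingleton_congr, ← K137.ConZero.isIso_stalkMap_iff]
  constructor
  · rintro ⟨U, hy, hU⟩
    have : IsOpenImmersion ((U.ι ≫ j.liftCoborder) ≫ j.coborderRange.ι) := by
      rw [Category.assoc, Scheme.Hom.liftCoborder_ι]
      exact hU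
    have : IsOpenImmersion (U.ι ≫ j.liftCoborder) := .of_comp _ j.coborderRange.ι
    exact S7658.isIso_stalkMap_of_nhd _ y U hy
  · intro h
    obtain ⟨U, hy, hU⟩ := K653.LocalIso.exists_isOpenImmersion j.liftCoborder y
    refine ⟨U, hy, ?_⟩
    rw [← Scheme.Hom.liftCoborder_ι j, ← Category.assoc]
    infer_instance

end Groth.Agent.S5980
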