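import Groth.Statements.S5982
import Groth.Agent.CInt.K138.StReg
import Groth.Agent.S4764
import Groth.Agent.S4758
import Groth.Agent.Lim8.K116.ProConsLim
import Groth.Agent.Subtr.K835.LocClosed

set_option autoImplicit false
universe u
open CategoryTheory AlgebraicGeometry
open CInt

namespace Groth.Agent.S5982

/-- Let S = lim S_i be a cofiltered limit of schemes with affine, flat transition maps, such that either
every S_i is locally Noetherian or every transition map is surjective; let S_{i₀} be a quasi-compact
stage and f_1, …, f_n global sections of the structure sheaf of S_{i₀}. Then the images of the f_k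
form a regular sequence for the structure sheaf of S (that is, a weakly regular sequence in Γ(U,
O_S) for every affine open U of S; no condition on the last quotient) if and only if, for some index
j over i₀, their images form a regular sequence for the structure sheaf of S_j in the same sense.
This is the case of the structure sheaf. -/
theorem result {I : Type u} [SmallCategory I] [IsCofiltered I]
    (D : I ⥤ Scheme.{u}) (c : Limits.Cone D) (hc : Limits.IsLimit c)
    [∀ (i j : I) (f : i ⟶ j), IsAffineHom (D.map f)]
    (hflat : ∀ (i j : I) (f : i ⟶ j), Flat (D.map f))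
    (hcase : (∀ i : I, IsLocallyNoetherian (D.obj i)) ∨
      ∀ (i j : I) (f : i ⟶ j), Surjective (D.map f))
    (i₀ : I) [CompactSpace (D.obj i₀)] (fs : List Γ(D.obj i₀, ⊤)) :
    (∀ U : c.pt.affineOpens, RingTheory.Sequence.IsWeaklyRegular Γ(c.pt, U.1)
        (fs.map (fun f => (c.pt.presheaf.map (homOfLE (le_top : U.1 ≤ ⊤)).op).hom ((c.π.app i₀).appTop.hom f)))) ↔
      ∃ (j : I) (φ : j ⟶ i₀), ∀ U : (D.obj j).affineOpens,
        RingTheory.Sequence.IsWeaklyRegular Γ(D.obj j, U.1)
          (fs.map (fun f => ((D.obj j).presheaf.map (homOfLE (le_top : U.1 ≤ ⊤)).op).hom ((D.map φ).appTop.hom f))) := by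
  have hfl0 : Flat (c.π.app i₀) := S4764.result D c hc i₀ fun j φ => hflat _ _ φ
  refine Iff.trans (K138.StReg.forall_affine_iff (X' := c.pt) (c.π.app i₀) fs) ?_
  have key : ∀ (j : I) (φ : j ⟶ i₀), (∀ U : (D.obj j).affineOpens,
        RingTheory.Sequence.IsWeaklyRegular Γ(D.obj j, U.1)
          (fs.map (fun f => ((D.obj j).presheaf.map (homOfLE (le_top : U.1 ≤ ⊤)).op).hom
            ((D.map φ).appTop.hom f)))) ↔
      ∀ x, K138.StReg.StReg fs (D.map φ x) trivial := by
    intro j φ
    have := hflat _ _ φ
    exact K138.StReg.forall_affine_iff (D.map φ) fs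
  simp only [key]
  constructor
  · intro h
    rcases hcase with hN | hsurj
    · have hN0 := hN i₀
      have hcl : IsClosed {x | K138.StReg.StReg fs x trivial}ᶜ :=
        (K138.StReg.isOpen_stReg fs).isClosed_compl
      have hpro := K835.LocClosed.isPro_of_isClosed hcl
      obtain ⟨j, φ, hj⟩ := K116.ProConsLim.exists_preimage_eq_empty hc hpro (by
        rw [Set.preimage_compl, Set.compl_empty_iff, Set.eq_univ_iff_forall]
        exact h)
      refine ⟨j, φ, ?_⟩
      rw [Set.preimage_compl, Set.compl_empty_iff, Set.eq_univ_iff_forall] at hj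
      exact hj
    · have hs : Surjective (c.π.app i₀) := (S4758.result D c hc i₀).mpr fun j φ => hsurj _ _ φ
      refine ⟨i₀, 𝟙 i₀, fun x => ?_⟩
      obtain ⟨y, hy⟩ := hs.surj (D.map (𝟙 i₀) x)
      rw [← hy]
      exact h y
  · rintro ⟨j, φ, h⟩ x
    have := h (c.π.app j x)
    rw [← Scheme.Hom.comp_apply, c.w] at this
    exact this

end Groth.Agent.S5982
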