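import Groth.Statements.S5983
import Groth.Agent.CInt.K138.StReg
import Groth.Agent.CInt.K138.LimOpen
import Groth.Agent.CInt.K138.LimGen
import Groth.Agent.CInt.K138.TransImm
import Groth.Agent.S4764
import Groth.Agent.S4758

set_option autoImplicit false
universe u
open CategoryTheory AlgebraicGeometry
open CInt

namespace Groth.Agent.S5983

open K138.StReg K138.LimOpen K138.LimGen Groth.Agent.Ega43.LimBC K473.RegImmCalc
open RingTheory.Sequence

/-- Regularity at a point from generators that are weakly regular on the stalks near the point. -/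
theorem at_of_gen {X Y : Scheme.{u}} (i : Y ⟶ X) (z : Y) {W : X.Opens} (hW : IsAffineOpen W) {x : X}
    (hx : i z = x) (hxW : x ∈ W) (hcl : IsClosedImmersion (i ∣_ W)) (rs : List Γ(X, W))
    (hk : RingHom.ker (i.app W).hom = Ideal.ofList rs) (V : X.Opens) (hxV : x ∈ V)
    (h : ∀ (x' : X) (hx' : x' ∈ W), x' ∈ V → StReg rs x' hx') :
    RegImm.IsRegularImmersionAt .regular i z := by
  subst hx
  obtain ⟨U, hU, hzU, hUV⟩ := exists_isAffineOpen_mem_and_subset (x := i z)
    (U := W ⊓ V) ⟨hxW, hxV⟩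
  have e1 : U ≤ W := fun y hy => (hUV hy).1
  have e2 : U ≤ V := fun y hy => (hUV hy).2
  obtain ⟨h1, h2⟩ := ker_app_of_isPullback (i := i) (i' := i) (g := 𝟙 X) (g' := 𝟙 Y)
    (IsPullback.of_horiz_isIso ⟨by simp⟩) hW hU e1 hcl
  have e4 : (𝟙 X : X ⟶ X).appLE W U e1 = X.presheaf.map (homOfLE e1).op := by
    rw [Scheme.Hom.appLE]
    exact Category.id_comp _
  rw [hk, Ideal.map_ofList, e4] at h2
  refine ⟨⟨U, hU⟩, hzU, h1, rs.map (X.presheaf.map (homOfLE e1).op).hom, ⟨?_, ?_⟩, h2⟩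
  · rw [isWeaklyRegular_iff_stalk hU]
    intro x hx
    exact (stReg_res e1 rs x hx).mpr (h x (e1 hx) (e2 hx))
  · have h3 := ker_app_ne_top (i := i) hzU
    rw [h2] at h3
    intro h4
    apply h3
    rw [← Ideal.mul_top (Ideal.ofList _)]
    exact h4.symm

theorem isOpen_at {X Y : Scheme.{u}} (i : Y ⟶ X) :
    IsOpen {z | RegImm.IsRegularImmersionAt .regular i z} := by
  rw [isOpen_iff_forall_mem_open]
  rintro z ⟨U, hz, h1⟩
  exact ⟨i ⁻¹ᵁ U.1, fun z' hz' => ⟨U, hz', h1⟩, (i ⁻¹ᵁ U.1).2, hz⟩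

theorem fg_ker {X₀ Y₀ : Scheme.{u}} (j₀ : Y₀ ⟶ X₀) [LocallyOfFinitePresentation j₀] (W₀ : X₀.Opens)
    (hW₀ : IsAffineOpen W₀) (h : IsClosedImmersion (j₀ ∣_ W₀)) :
    (RingHom.ker (j₀.app W₀).hom).FG := by
  obtain ⟨h1, h2⟩ := (K561.RegImmDict.isClosedImmersion_restrict_iff j₀ W₀ hW₀).1 h
  have h3 : (j₀.app W₀).hom.FinitePresentation := by
    have := j₀.finitePresentation_appLE hW₀ h1 le_rfl
    rwa [Scheme.Hom.appLE_eq_app] at this
  algebraize [(j₀.app W₀).hom]
  have h4 : Algebra.FinitePresentation Γ(X₀, W₀) Γ(Y₀, j₀ ⁻¹ᵁ W₀) := h3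
  exact Algebra.FinitePresentation.ker_fG_of_surjective
    (Algebra.ofId Γ(X₀, W₀) Γ(Y₀, j₀ ⁻¹ᵁ W₀)) h2

/-- Weak regularity of germs descends along flat morphisms. -/
theorem stReg_descend {X X' : Scheme.{u}} (f' : X' ⟶ X) [Flat f'] {W : X.Opens} {U : X'.Opens}
    (hπ : f' ⁻¹ᵁ W ≤ U) (rs' : List Γ(X, W)) (rs : List Γ(X', U))
    (h : rs'.map (f'.appLE W (f' ⁻¹ᵁ W) le_rfl).hom = rs.map (X'.presheaf.map (homOfLE hπ).op).hom)
    (x' : X') (hx : f' x' ∈ W) (hT : StReg rs x' (hπ hx)) : StReg rs' (f' x') hx := by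
  unfold StReg at hT ⊢
  rw [← ringHom_iff (f'.stalkMap x').hom (Flat.stalkMap f' x')]
  have h1 := K138.TransImm.map_germ_appLE (f' := f') (U := W) (U' := f' ⁻¹ᵁ W) le_rfl rs' x' hx
  have h2 : rs'.map (fun s => (f'.appLE W (f' ⁻¹ᵁ W) le_rfl).hom s) =
      rs.map (X'.presheaf.map (homOfLE hπ).op).hom := h
  rw [h2, K138.TransImm.map_germ_res hπ] at h1
  rw [h1]
  exact hT

/-- Let S = lim S_i be a cofiltered limit of schemes with affine, flat transition maps, S_{i₀} a stage
and j₀ : X₀ ⟶ S_{i₀} an immersion with X₀ quasi-compact; assume either that every S_i is locally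
Noetherian, or that every transition map is surjective and j₀ is locally of finite presentation.
Then the base change X₀ ×_{S_{i₀}} S ⟶ S of j₀ is a regular immersion if and only if, for some index
j over i₀, the base change X₀ ×_{S_{i₀}} S_j ⟶ S_j is a regular immersion. -/
theorem result {I : Type u} [SmallCategory I] [IsCofiltered I]
    (D : I ⥤ Scheme.{u}) (c : Limits.Cone D) (hc : Limits.IsLimit c)
    [∀ (i j : I) (f : i ⟶ j), IsAffineHom (D.map f)]
    (hflat : ∀ (i j : I) (f : i ⟶ j), Flat (D.map f))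
    (i₀ : I) {X₀ : Scheme.{u}} (j₀ : X₀ ⟶ D.obj i₀) [CompactSpace X₀] [IsImmersion j₀]
    (hcase : (∀ i : I, IsLocallyNoetherian (D.obj i)) ∨
      ((∀ (i j : I) (f : i ⟶ j), Surjective (D.map f)) ∧ LocallyOfFinitePresentation j₀)) :
    RegImm.IsRegularImmersion RegImm.Kind.regular (Limits.pullback.snd j₀ (c.π.app i₀)) ↔
      ∃ (j : I) (φ : j ⟶ i₀),
        RegImm.IsRegularImmersion RegImm.Kind.regular (Limits.pullback.snd j₀ (D.map φ)) := by
  have hflatπ : ∀ i, Flat (c.π.app i) := fun i => Groth.Agent.S4764.result D c hc i (fun j φ => hflat j i φ)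
  constructor
  · rintro ⟨-, h⟩
    have hfg : ∀ W₀ : (D.obj i₀).Opens, IsAffineOpen W₀ → IsClosedImmersion (j₀ ∣_ W₀) →
        (RingHom.ker (j₀.app W₀).hom).FG := by
      intro W₀ hW₀ hcl
      rcases hcase with hN | ⟨-, hfp⟩
      · have := hN i₀
        have : IsNoetherianRing Γ(D.obj i₀, W₀) := IsLocallyNoetherian.component_noetherian ⟨W₀, hW₀⟩
        exact IsNoetherian.noetherian _
      · exact fg_ker j₀ W₀ hW₀ hcl
    have haff : ∀ (i j : Over i₀) (f : i ⟶ j), IsAffineHom ((Over.forget i₀ ⋙ D).map f) :=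
      fun i j f => inferInstanceAs (IsAffineHom (D.map f.left))
    have hpt : ∀ y : (bcCone D c i₀ j₀).pt, ∃ j : Over i₀,
        RegImm.IsRegularImmersionAt .regular (Limits.pullback.snd j₀ (D.map j.hom))
          ((bcCone D c i₀ j₀).π.app j y) := by
      intro y
      obtain ⟨U, hz, hcl, rs, hrs, hk⟩ := h y
      obtain ⟨j, -, W, hW, hπ, rs', hxW, hclW, hkW, hrs'⟩ := exists_stage_gen
        (D := Over.forget i₀ ⋙ D) (c := c.whisker (Over.forget i₀))
        ((Functor.Initial.isLimitWhiskerEquiv (Over.forget i₀) c).symm hc) j₀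
        (fun j => D.map j.hom)
        (fun j k φ => (D.map_comp φ.left k.hom).symm.trans (congrArg D.map (Over.w φ))) (c.π.app i₀)
        (fun j => c.w j.hom) hfg (Over.mk (𝟙 i₀)) y U.1 U.2 hz hcl rs hk
      refine ⟨j, ?_⟩
      have hpt' : Limits.pullback.snd j₀ (D.map j.hom) ((bcCone D c i₀ j₀).π.app j y) =
          c.π.app j.left (Limits.pullback.snd j₀ (c.π.app i₀) y) := by
        have h2 := congrArg (fun φ => φ.base y) (isPullback_π D c i₀ j₀ j).w
        exact h2
      have key : ∀ (x' : c.pt) (hx' : c.π.app j.left x' ∈ W), StReg rs' (c.π.app j.left x') hx' := by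
        intro x' hx'
        have := hflatπ j.left
        refine stReg_descend (c.π.app j.left) hπ rs' rs hrs' x' hx' ?_
        exact (isWeaklyRegular_iff_stalk U.2 rs).mp hrs.1 x' (hπ hx')
      rcases hcase with hN | ⟨hsurj, -⟩
      · have := hN j.left
        obtain ⟨V, hxV, hV⟩ := exists_nhd (X := D.obj j.left) hW rs' _ hxW (key _ hxW)
        exact at_of_gen _ _ hW hpt' hxW hclW rs' hkW V hxV hV
      · have : Surjective (c.π.app j.left) :=
          (Groth.Agent.S4758.result D c hc j.left).mpr fun k φ => hsurj k j.left φ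
        refine at_of_gen _ _ hW hpt' hxW hclW rs' hkW ⊤ trivial fun x' hx' _ => ?_
        obtain ⟨x'', rfl⟩ := (c.π.app j.left).surjective x'
        exact key x'' hx'
    obtain ⟨j, -, hj⟩ := exists_stage_bc hc j₀
      (fun j y => RegImm.IsRegularImmersionAt .regular (Limits.pullback.snd j₀ (D.map j.hom)) y)
      (fun j => isOpen_at _)
      (fun j k φ y hy => by
        have := hflat _ _ φ.left
        exact At.of_isPullback (isPullback_map D i₀ j₀ φ) hy)
      hpt (Over.mk (𝟙 i₀))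
    exact ⟨j.left, j.hom, inferInstance, hj⟩
  · rintro ⟨j, φ, h⟩
    have := hflatπ j
    exact isRegularImmersion_of_isPullback (isPullback_π D c i₀ j₀ (Over.mk φ)) h

end Groth.Agent.S5983
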