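import Groth.Statements.S5984
import Groth.Agent.CInt.K138.TransImm
import Groth.Agent.CInt.K138.LimFlat
import Groth.Agent.CInt.K138.LimGen

set_option autoImplicit false
universe u
open CategoryTheory AlgebraicGeometry
open CInt

namespace Groth.Agent.S5984

open K138.TransSch K138.TransImm K138.LimOpen K138.LimFlat K138.LimGen Groth.Agent.Ega43.LimBC

section Kap

open Limits

/-- the base change of `j₀` as a morphism of base changes over `S` -/
noncomputable def kap {S T X₀ Y₀ : Scheme.{u}} (j₀ : Y₀ ⟶ X₀) (g₀ : X₀ ⟶ S) (t : T ⟶ S) :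
    pullback (j₀ ≫ g₀) t ⟶ pullback g₀ t :=
  pullback.lift (pullback.fst _ _ ≫ j₀) (pullback.snd _ _)
    (by rw [Category.assoc, pullback.condition])

theorem isPullback_kap {S T X₀ Y₀ : Scheme.{u}} (j₀ : Y₀ ⟶ X₀) (g₀ : X₀ ⟶ S) (t : T ⟶ S) :
    IsPullback (pullback.fst (j₀ ≫ g₀) t) (kap j₀ g₀ t) j₀ (pullback.fst g₀ t) := by
  refine IsPullback.of_bot (v₂₁ := pullback.snd g₀ t) (v₂₂ := g₀) (h₃₁ := t) ?_ ?_ ?_
  · rw [kap, pullback.lift_snd]
    exact IsPullback.of_hasPullback _ _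
  · rw [kap, pullback.lift_fst]
  · exact IsPullback.of_hasPullback g₀ t

theorem kap_comp {S T T' X₀ Y₀ : Scheme.{u}} (j₀ : Y₀ ⟶ X₀) (g₀ : X₀ ⟶ S) {t : T ⟶ S} {t' : T' ⟶ S}
    {u : T' ⟶ T} {a : pullback (j₀ ≫ g₀) t' ⟶ pullback (j₀ ≫ g₀) t}
    {b : pullback g₀ t' ⟶ pullback g₀ t}
    (ha : a ≫ pullback.fst (j₀ ≫ g₀) t = pullback.fst (j₀ ≫ g₀) t')
    (ha' : a ≫ pullback.snd (j₀ ≫ g₀) t = pullback.snd (j₀ ≫ g₀) t' ≫ u)
    (hb : b ≫ pullback.fst g₀ t = pullback.fst g₀ t')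
    (hb' : b ≫ pullback.snd g₀ t = pullback.snd g₀ t' ≫ u) :
    IsPullback a (kap j₀ g₀ t') (kap j₀ g₀ t) b := by
  have hab : kap j₀ g₀ t' ≫ b = a ≫ kap j₀ g₀ t := by
    apply pullback.hom_ext
    · rw [Category.assoc, hb, Category.assoc, kap, pullback.lift_fst, kap, pullback.lift_fst,
        ← Category.assoc, ha]
    · rw [Category.assoc, hb', Category.assoc, kap, kap, pullback.lift_snd, ha', ← Category.assoc,
        pullback.lift_snd]
  refine IsPullback.of_right (h₁₂ := pullback.fst (j₀ ≫ g₀) t) (h₂₂ := pullback.fst g₀ t)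
    (v₁₃ := j₀) ?_ hab.symm (isPullback_kap j₀ g₀ t)
  rw [ha, hb]
  exact isPullback_kap j₀ g₀ t'

theorem fg_ker {X₀ Y₀ : Scheme.{u}} (j₀ : Y₀ ⟶ X₀) [LocallyOfFinitePresentation j₀] (W₀ : X₀.Opens)
    (hW₀ : IsAffineOpen W₀) (h : IsClosedImmersion (j₀ ∣_ W₀)) :
    (RingHom.ker (j₀.app W₀).hom).FG := by
  obtain ⟨h1, h2⟩ := (K561.RegImmDict.isClosedImmersion_restrict_iff j₀ W₀ hW₀).1 h
  have h3 : (j₀.app W₀).hom.FinitePresentation := by
    have := j₀.finitePresentation_appLE hW₀ h1 le_rfl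
    rwa [Scheme.Hom.appLE_eq_app] at this
  algebraize [(j₀.app W₀).hom]
  have h4 : Algebra.FinitePresentation Γ(X₀, W₀) Γ(Y₀, j₀ ⁻¹ᵁ W₀) := h3
  exact Algebra.FinitePresentation.ker_fG_of_surjective
    (Algebra.ofId Γ(X₀, W₀) Γ(Y₀, j₀ ⁻¹ᵁ W₀)) h2

theorem kap_iso {S T X₀ Y₀ : Scheme.{u}} (j₀ : Y₀ ⟶ X₀) (g₀ : X₀ ⟶ S) (t : T ⟶ S)
    (h : ∀ y, RegImm.IsTransRegularImmersionAt (pullback.snd g₀ t) (kap j₀ g₀ t) y) (y) :
    RegImm.IsTransRegularImmersionAt (pullback.snd g₀ t) (pullback.snd j₀ (pullback.fst g₀ t)) y := by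
  have h1 : IsPullback (isPullback_kap j₀ g₀ t).isoPullback.inv
      (pullback.snd j₀ (pullback.fst g₀ t)) (kap j₀ g₀ t) (𝟙 _) :=
    IsPullback.of_horiz_isIso ⟨by simp⟩
  exact at_of_isPullback (IsPullback.of_horiz_isIso ⟨by simp⟩ :
    IsPullback (𝟙 _) (pullback.snd g₀ t) (pullback.snd g₀ t) (𝟙 _)) h1 (h _)

theorem of_kap_iso {S T X₀ Y₀ : Scheme.{u}} (j₀ : Y₀ ⟶ X₀) (g₀ : X₀ ⟶ S) (t : T ⟶ S)
    (y : ↥(pullback (j₀ ≫ g₀) t))
    (h : RegImm.IsTransRegularImmersionAt (pullback.snd g₀ t) (pullback.snd j₀ (pullback.fst g₀ t))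
      ((isPullback_kap j₀ g₀ t).isoPullback.hom y)) :
    RegImm.IsTransRegularImmersionAt (pullback.snd g₀ t) (kap j₀ g₀ t) y := by
  have h1 : IsPullback (isPullback_kap j₀ g₀ t).isoPullback.hom
      (kap j₀ g₀ t) (pullback.snd j₀ (pullback.fst g₀ t)) (𝟙 _) :=
    IsPullback.of_horiz_isIso ⟨by simp⟩
  exact at_of_isPullback (IsPullback.of_horiz_isIso ⟨by simp⟩ :
    IsPullback (𝟙 _) (pullback.snd g₀ t) (pullback.snd g₀ t) (𝟙 _)) h1 h

theorem snd_iso_apply {S T X₀ Y₀ : Scheme.{u}} (j₀ : Y₀ ⟶ X₀) (g₀ : X₀ ⟶ S) (t : T ⟶ S)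
    (y : ↥(pullback (j₀ ≫ g₀) t)) :
    pullback.snd j₀ (pullback.fst g₀ t) ((isPullback_kap j₀ g₀ t).isoPullback.hom y) =
      kap j₀ g₀ t y := by
  rw [← Scheme.Hom.comp_apply, IsPullback.isoPullback_hom_snd]

theorem at_of_gen' {X Y S : Scheme.{u}} (g : X ⟶ S) (hg : LocallyOfFinitePresentation g) (i : Y ⟶ X) (z : Y)
    {W : X.Opens} (hW : IsAffineOpen W) {x : X} (hx : i z = x) (hxW : x ∈ W)
    (hcl : IsClosedImmersion (i ∣_ W)) (rs : List Γ(X, W))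
    (hk : RingHom.ker (i.app W).hom = Ideal.ofList rs)
    (h : TransLoc (g.stalkMap x).hom (rs.map (fun s => X.presheaf.germ W x hxW s))) :
    RegImm.IsTransRegularImmersionAt g i z := by
  subst hx
  exact at_of_gen g i z hW hxW hcl rs hk h

theorem descend' {X S X' S' : Scheme.{u}} {g : X ⟶ S} {f : S' ⟶ S} {f' : X' ⟶ X} {g' : X' ⟶ S'}
    (H : IsPullback f' g' g f) (hg : LocallyOfFinitePresentation g)
    {x' : X'} {l : List (X.presheaf.stalk (f' x'))} (hflat : (g.stalkMap (f' x')).hom.Flat)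
    (h : TransLoc (g'.stalkMap x').hom (l.map (f'.stalkMap x').hom)) :
    TransLoc (g.stalkMap (f' x')).hom l :=
  TransLoc.descend H hflat h

theorem flat_bc {X S X' S' : Scheme.{u}} {g : X ⟶ S} {f : S' ⟶ S} {f' : X' ⟶ X} {g' : X' ⟶ S'}
    (H : IsPullback f' g' g f) {x' : X'} {x : X} (hx : f' x' = x)
    (hflat : (g.stalkMap x).hom.Flat) : (g'.stalkMap x').hom.Flat := by
  subst hx
  have h1 : TransLoc (g.stalkMap (f' x')).hom ([] : List (X.presheaf.stalk (f' x'))) :=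
    (transLoc_nil_iff _).mpr hflat
  exact (TransLoc.baseChange H h1).flat

theorem germ_list {X X' : Scheme.{u}} (f' : X' ⟶ X) {W : X.Opens} {U : X'.Opens} (hπ : f' ⁻¹ᵁ W ≤ U)
    (rs' : List Γ(X, W)) (rs : List Γ(X', U))
    (h : rs'.map (f'.appLE W (f' ⁻¹ᵁ W) le_rfl).hom = rs.map (X'.presheaf.map (homOfLE hπ).op).hom)
    (x' : X') (hx : f' x' ∈ W) :
    (rs'.map (fun s => X.presheaf.germ W (f' x') hx s)).map (f'.stalkMap x').hom =
      rs.map (fun s => X'.presheaf.germ U x' (hπ hx) s) := by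
  have h1 := map_germ_appLE (f' := f') (U := W) (U' := f' ⁻¹ᵁ W) le_rfl rs' x' hx
  refine h1.trans ?_
  have h2 : rs'.map (fun s => (f'.appLE W (f' ⁻¹ᵁ W) le_rfl).hom s) =
      rs.map (X'.presheaf.map (homOfLE hπ).op).hom := h
  rw [h2, map_germ_res hπ]

theorem descend_gen {X S X' S' : Scheme.{u}} {g : X ⟶ S} {f : S' ⟶ S} {f' : X' ⟶ X} {g' : X' ⟶ S'}
    (H : IsPullback f' g' g f) (hg : LocallyOfFinitePresentation g)
    {W : X.Opens} {U : X'.Opens} (hπ : f' ⁻¹ᵁ W ≤ U)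
    (rs' : List Γ(X, W)) (rs : List Γ(X', U))
    (h : rs'.map (f'.appLE W (f' ⁻¹ᵁ W) le_rfl).hom = rs.map (X'.presheaf.map (homOfLE hπ).op).hom)
    {x' : X'} (hx : f' x' ∈ W) (hflat : (g.stalkMap (f' x')).hom.Flat)
    (hT : TransLoc (g'.stalkMap x').hom (rs.map (fun s => X'.presheaf.germ U x' (hπ hx) s))) :
    TransLoc (g.stalkMap (f' x')).hom (rs'.map (fun s => X.presheaf.germ W (f' x') hx s)) := by
  refine TransLoc.descend H hflat ?_
  rw [germ_list f' hπ rs' rs h x' hx]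
  exact hT

end Kap

/-- Let S = lim S_i be a cofiltered limit of schemes with affine transition maps, S_{i₀} a stage, g₀ :
X₀ ⟶ S_{i₀} locally of finite presentation with X₀ quasi-compact, and j₀ : Y₀ ⟶ X₀ an immersion
locally of finite presentation with Y₀ quasi-compact. Then the base change Y₀ ×_{S_{i₀}} S ⟶ X₀
×_{S_{i₀}} S of j₀ is an immersion transversally regular relative to S if and only if, for some
index j over i₀, the base change Y₀ ×_{S_{i₀}} S_j ⟶ X₀ ×_{S_{i₀}} S_j is transversally regular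
relative to S_j. -/
theorem result {I : Type u} [SmallCategory I]
    [IsCofiltered I] (D : I ⥤ Scheme.{u}) (c : Limits.Cone D) (hc : Limits.IsLimit c)
    [∀ (i j : I) (f : i ⟶ j), IsAffineHom (D.map f)]
    (i₀ : I) {X₀ Y₀ : Scheme.{u}} (g₀ : X₀ ⟶ D.obj i₀) [CompactSpace X₀]
    [LocallyOfFinitePresentation g₀] (j₀ : Y₀ ⟶ X₀) [CompactSpace Y₀] [IsImmersion j₀]
    [LocallyOfFinitePresentation j₀] :
    RegImm.IsTransRegularImmersion (Limits.pullback.snd g₀ (c.π.app i₀))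
        (Limits.pullback.snd j₀ (Limits.pullback.fst g₀ (c.π.app i₀))) ↔
      ∃ (j : I) (φ : j ⟶ i₀), RegImm.IsTransRegularImmersion (Limits.pullback.snd g₀ (D.map φ))
        (Limits.pullback.snd j₀ (Limits.pullback.fst g₀ (D.map φ))) := by
  constructor
  · rintro ⟨-, h⟩
    -- finiteness of the ideal
    have hfg : ∀ W₀ : X₀.Opens, IsAffineOpen W₀ → IsClosedImmersion (j₀ ∣_ W₀) →
        (RingHom.ker (j₀.app W₀).hom).FG := fun W₀ hW₀ h => fg_ker j₀ W₀ hW₀ h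
    have hpt : ∀ y : (bcCone D c i₀ (j₀ ≫ g₀)).pt, ∃ j : Over i₀,
        RegImm.IsTransRegularImmersionAt (Limits.pullback.snd g₀ (D.map j.hom))
          (kap j₀ g₀ (D.map j.hom)) ((bcCone D c i₀ (j₀ ≫ g₀)).π.app j y) := by
      intro y
      obtain ⟨U, V, e, hz, hcl, rs, hrs, hk⟩ := h ((isPullback_kap j₀ g₀ (c.π.app i₀)).isoPullback.hom y)
      have hTL := (isTransRegularSeq_iff _ U.2 V.2 e rs).mp hrs _ hz
      obtain ⟨j₁, hj₁⟩ := exists_stage_flat_at hc g₀ _ hTL.flat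
      obtain ⟨j, a, W, hW, hπ, rs', hxW, hclW, hkW, hrs'⟩ := exists_stage_gen
        (isLimitBcCone D c i₀ g₀ hc) j₀ (fun j => Limits.pullback.fst g₀ (D.map j.hom))
        (fun j k φ => bcDiagram_map_fst D i₀ g₀ φ) (Limits.pullback.fst g₀ (c.π.app i₀))
        (fun j => bcCone_π_fst D c i₀ g₀ j) hfg j₁ _ U.1 U.2 hz hcl rs hk
      refine ⟨j, of_kap_iso j₀ g₀ (D.map j.hom) _ ?_⟩
      have hlfp : LocallyOfFinitePresentation (Limits.pullback.snd g₀ (D.map j.hom)) :=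
        MorphismProperty.pullback_snd _ _ inferInstance
      refine at_of_gen' (Limits.pullback.snd g₀ (D.map j.hom)) hlfp _ _ hW ?_ hxW hclW rs' hkW ?_
      · rw [snd_iso_apply]
        refine Eq.trans ?_ (congrArg (fun x => (bcCone D c i₀ g₀).π.app j x)
          (snd_iso_apply j₀ g₀ (c.π.app i₀) y)).symm
        have h1 := (kap_comp j₀ g₀ (bcCone_π_fst D c i₀ (j₀ ≫ g₀) j) (isPullback_π D c i₀ (j₀ ≫ g₀) j).w
          (bcCone_π_fst D c i₀ g₀ j) (isPullback_π D c i₀ g₀ j).w).w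
        have h2 := congrArg (fun φ => φ.base y) h1
        exact h2
      · refine descend_gen (isPullback_π D c i₀ g₀ j) hlfp hπ rs' rs hrs' hxW ?_ hTL
        refine flat_bc (isPullback_map D i₀ g₀ a) ?_ hj₁
        have h1 := (bcCone D c i₀ g₀).w a
        rw [← Scheme.Hom.comp_apply, h1]
        rfl
    obtain ⟨j, -, hj⟩ := exists_stage_bc hc (j₀ ≫ g₀)
      (fun j y => RegImm.IsTransRegularImmersionAt (Limits.pullback.snd g₀ (D.map j.hom))
        (kap j₀ g₀ (D.map j.hom)) y)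
      (fun j => isOpen_at _ _)
      (fun j k φ y hy => by
        exact at_of_isPullback (isPullback_map D i₀ g₀ φ) (kap_comp j₀ g₀
          (bcDiagram_map_fst D i₀ (j₀ ≫ g₀) φ) (isPullback_map D i₀ (j₀ ≫ g₀) φ).w
          (bcDiagram_map_fst D i₀ g₀ φ) (isPullback_map D i₀ g₀ φ).w) hy)
      hpt (Over.mk (𝟙 i₀))
    exact ⟨j.left, j.hom, inferInstance, fun y => kap_iso j₀ g₀ (D.map j.hom) hj y⟩
  · rintro ⟨j, φ, -, h⟩
    refine ⟨inferInstance, fun y => ?_⟩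
    exact at_snd_comp (isPullback_π D c i₀ g₀ (Over.mk φ)) j₀ (bcCone_π_fst D c i₀ g₀ (Over.mk φ)) h y

end Groth.Agent.S5984
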