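import Groth.Statements.S5985
import Groth.Agent.S9762
import Groth.Agent.S9389

set_option autoImplicit false
universe u
open CategoryTheory AlgebraicGeometry
open Unram

namespace Groth.Agent.S5985

/-- In a locally of finite type morphism, the points of a finite fibre are isolated in it. -/
theorem quasiFiniteAt_of_finite {X Y : Scheme.{u}} (f : X ⟶ Y) [LocallyOfFiniteType f] (x : X)
    (hfin : (f ⁻¹' {f x}).Finite) : f.QuasiFiniteAt x := by
  rw [Scheme.Hom.quasiFiniteAt_iff_isOpen_singleton_asFiber]
  have h1 : Finite (f ⁻¹' {f x}) := hfin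
  have h2 : Finite ↑(f.fiber (f x)) := Finite.of_equiv _ (f.fiberHomeo (f x)).symm.toEquiv
  have h0 : LocallyOfFiniteType (f.fiberToSpecResidueField (f x)) :=
    inferInstanceAs (LocallyOfFiniteType (Limits.pullback.snd _ _))
  have h3 : LocallyQuasiFinite (f.fiberToSpecResidueField (f x)) :=
    LocallyQuasiFinite.of_finite_preimage_singleton _ fun _ => Set.toFinite _
  have h4 : DiscreteTopology ↑(f.fiber (f x)) := by
    have h5 := (f.fiberToSpecResidueField (f x)).isDiscrete_preimage
      (s := Set.univ) (isDiscrete_univ_iff.2 inferInstance)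
    rw [Set.preimage_univ] at h5
    exact isDiscrete_univ_iff.1 h5
  exact isOpen_discrete _

/-- Let f : X ⟶ Y be separated and locally of finite type, and y a point of Y whose fibre f⁻¹(y) is
finite (hence discrete). Then there are an étale morphism g : Y' ⟶ Y, a point y' of Y' with g(y') =
y inducing an isomorphism of residue fields κ(y) ≅ κ(y'), and two complementary open subschemes V, W
of X' = X ×_Y Y' such that V ⟶ Y' is finite and W contains no point of X' lying over y'. -/
theorem result {X Y : Scheme.{u}} (f : X ⟶ Y)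
    [LocallyOfFiniteType f] [IsSeparated f] (y : Y) (hfin : (f ⁻¹' {y}).Finite) :
    ∃ (Y' : Scheme.{u}) (g : Y' ⟶ Y) (y' : Y'), Etale g ∧ g y' = y ∧
      IsIso (g.residueFieldMap y') ∧
      ∃ (V W : (Limits.pullback f g).Opens), IsCompl V W ∧
        IsFinite (V.ι ≫ Limits.pullback.snd f g) ∧
        ∀ x : ↥(Limits.pullback f g), Limits.pullback.snd f g x = y' → x ∈ V := by
  have hfib : {x : ↑(f.fiber y) | IsOpen ({x} : Set ↑(f.fiber y))}.Finite := by
    have h1 : Finite (f ⁻¹' {y}) := hfin
    have h2 : Finite ↑(f.fiber y) := Finite.of_equiv _ (f.fiberHomeo y).symm.toEquiv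
    exact Set.toFinite _
  obtain ⟨Y', g, y', hg, V, hV, hVf, hW⟩ := Groth.Agent.S9762.result f y hfib
  have hg1 := hg.etale
  refine ⟨Y', g, y', hg.etale, hg.base_eq, ?_, V, ⟨(V : Set ↑(Limits.pullback f g))ᶜ, hV.1.isOpen_compl⟩,
    ?_, hVf, ?_⟩
  · have := hg.residue_bijective
    exact (ConcreteCategory.isIso_iff_bijective _).2 this
  · refine ⟨?_, ?_⟩
    · rw [disjoint_iff]
      ext z
      simp
    · rw [codisjoint_iff]
      ext z
      simp
  · intro x hx
    subst hx
    by_contra hxV
    refine hW ((Limits.pullback.snd f g).asFiber x) ?_ ?_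
    · rwa [Scheme.Hom.fiberι_asFiber]
    · rw [← Scheme.Hom.quasiFiniteAt_iff_isOpen_singleton_asFiber]
      have h1 := Groth.Agent.S9389.result f g _ _ (IsPullback.of_hasPullback f g)
      have h2 : x ∈ (Limits.pullback.fst f g).base ⁻¹' {x : ↑X | f.QuasiFiniteAt x} := by
        refine quasiFiniteAt_of_finite f _ ?_
        have h3 : f (Limits.pullback.fst f g x) = y := by
          rw [← Scheme.Hom.comp_apply, Limits.pullback.condition, Scheme.Hom.comp_apply]
          exact hg.base_eq
        rw [h3]
        exact hfin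
      rw [← h1] at h2
      exact h2

end Groth.Agent.S5985
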