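import Groth.Statements.S5987
import Groth.Agent.EGA418.K148.CMLift

set_option autoImplicit false
universe u
open EGA418

namespace Groth.Agent.S5987

/-- Let A be a Noetherian local ring and p a prime ideal of A such that the local ring A_p is
Cohen–Macaulay, of dimension s; let t_1, …, t_s be a system of parameters of A_p (elements of its
maximal ideal such that A_p/(t_1, …, t_s) has dimension 0). Then there are elements x_1, …, x_s of p
which form part of a system of parameters of A, in the sense that dim A/(x_1, …, x_s) + s = dim A,
and elements a_1, …, a_s of A outside p, such that for every i the image of x_i in A_p is congruent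
to a_i t_i modulo the ideal (t_1, …, t_{i-1}) A_p. (The published statement asks for the image of
x_i to be congruent to t_i itself; this row allows the factor a_i outside p, which is what the
published proof gives, since it first multiplies each t_i by a unit of A_p to bring it into the
image of A. The published form fails already for s = 1: for A the localization of k[X, Y] at (X, Y),
p = (X) and t_1 = X/Y, the congruence modulo the zero ideal asks for an element of A with image X/Y
in A_p, and there is none.) -/
theorem result (A : Type u) [CommRing A]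
    [IsNoetherianRing A] [IsLocalRing A] (p : Ideal A) [p.IsPrime]
    [LocCoh.IsCohenMacaulayLocalRing (Localization.AtPrime p)] (s : ℕ)
    (hs : ringKrullDim (Localization.AtPrime p) = s) (t : Fin s → Localization.AtPrime p)
    (ht : ∀ i, t i ∈ IsLocalRing.maximalIdeal (Localization.AtPrime p))
    (hsop : ringKrullDim (Localization.AtPrime p ⧸ Ideal.span (Set.range t)) = 0) :
    ∃ x a : Fin s → A, (∀ i, x i ∈ p) ∧ (∀ i, a i ∉ p) ∧
      ringKrullDim (A ⧸ Ideal.span (Set.range x)) + (s : WithBot ℕ∞) = ringKrullDim A ∧
      ∀ i : Fin s, algebraMap A (Localization.AtPrime p) (x i) -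
          algebraMap A (Localization.AtPrime p) (a i) * t i ∈
        Ideal.span (t '' {j : Fin s | j < i}) := by
  classical
  obtain ⟨d, hd⟩ : ∃ d : ℕ, ringKrullDim A = d := by
    obtain ⟨d, hd⟩ := K148.CMLift.exists_nat_dim (A := A) ⊥ bot_le
    exact ⟨d, by rw [← hd]; exact (ringKrullDim_eq_of_ringEquiv (RingEquiv.quotientBot A)).symm⟩
  obtain ⟨x, a, hx, ha, hxa, n, hn, hnd⟩ := K148.CMLift.exists_family A p s hs t ht hsop d hd
    (fun j => if h : j < s then t ⟨j, h⟩ else 0) (fun i => by simp) s le_rfl
  refine ⟨fun i => x i, fun i => a i, fun i => hx i i.2, fun i => ha i i.2, ?_, fun i => ?_⟩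
  · have hrange : Set.range (fun i : Fin s => x i) = x '' {l | l < s} := by
      ext z
      constructor
      · rintro ⟨i, rfl⟩
        exact ⟨i, i.2, rfl⟩
      · rintro ⟨i, hi, rfl⟩
        exact ⟨⟨i, hi⟩, rfl⟩
    rw [hrange, hn, hd]
    have h1 := ringKrullDim_le_ringKrullDim_quotient_add_encard (R := A) (x '' {l | l < s}) (by
      rintro _ ⟨i, hi, rfl⟩
      rw [IsLocalRing.ringJacobson_eq_maximalIdeal]
      exact IsLocalRing.le_maximalIdeal (Ideal.IsPrime.ne_top (I := p) inferInstance) (hx i hi))
    rw [hn, hd] at h1
    have h2 : (x '' {l | l < s}).encard ≤ (s : ℕ∞) := by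
      refine (Set.encard_image_le _ _).trans ?_
      have h4 : ({l | l < s} : Set ℕ) = (Finset.range s : Finset ℕ) := by
        ext j; simp
      rw [h4, Set.encard_coe_eq_coe_finsetCard, Finset.card_range]
    have h3 : (d : WithBot ℕ∞) ≤ ((n + s : ℕ) : WithBot ℕ∞) := by
      refine h1.trans ?_
      push_cast
      exact add_le_add le_rfl (by exact_mod_cast WithBot.coe_le_coe.mpr h2)
    have h4 : d ≤ n + s := by exact_mod_cast h3
    have h5 : n + s = d := le_antisymm hnd h4
    exact_mod_cast h5
  · have h1 := hxa i i.2
    rw [dif_pos i.2] at h1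
    have hset : (fun j => if h : j < s then t ⟨j, h⟩ else 0) '' {l | l < (i : ℕ)} =
        t '' {j : Fin s | j < i} := by
      ext z
      constructor
      · rintro ⟨l, hl, rfl⟩
        have hl' : l < (i : ℕ) := hl
        refine ⟨⟨l, hl'.trans i.2⟩, hl, ?_⟩
        have h6 : l < s := hl'.trans i.2
        simp [h6]
      · rintro ⟨l, hl, rfl⟩
        refine ⟨l, hl, ?_⟩
        simp
    rw [hset] at h1
    exact h1

end Groth.Agent.S5987
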