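import Groth.Statements.S5990
import Groth.Agent.CInt.K138.TransSch
import Groth.Agent.CInt.K138.LimOpen

set_option autoImplicit false
universe u
open CategoryTheory AlgebraicGeometry
open CInt

namespace Groth.Agent.S5990

open K138.TransSch K138.LimOpen Groth.Agent.Ega43.LimBC

theorem res_eq {X Y : Scheme.{u}} (p : X ⟶ Y) (U : X.Opens) (fs : List Γ(Y, ⊤)) :
    (fs.map (fun f => (X.presheaf.map (homOfLE (le_top : U ≤ ⊤)).op).hom (p.appTop.hom f))) =
      res U (fs.map (fun f => p.appTop.hom f)) := by
  unfold res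
  rw [List.map_map]
  rfl

/-- Let S = lim S_i be a cofiltered limit of schemes with affine transition maps, S_{i₀} a stage, g₀ :
X₀ ⟶ S_{i₀} locally of finite presentation with X₀ quasi-compact, and f_1, …, f_n global sections of
the structure sheaf of X₀. Say that a sequence of global sections of O_X is transversally regular
relative to a base T (for g : X ⟶ T) when, for every affine open U of X and affine open V of T with
g(U) ⊆ V, its restriction to U is a weakly regular sequence in Γ(U, O_X) all of whose partial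
quotients Γ(U, O_X)/(f_1, …, f_j) are flat over Γ(V, O_T). Then the images of the f_k on X₀
×_{S_{i₀}} S are transversally regular relative to S if and only if, for some index j over i₀, their
images on X₀ ×_{S_{i₀}} S_j are transversally regular relative to S_j. This is the case of the
structure sheaf. -/
theorem result {I : Type u} [SmallCategory I]
    [IsCofiltered I] (D : I ⥤ Scheme.{u}) (c : Limits.Cone D) (hc : Limits.IsLimit c)
    [∀ (i j : I) (f : i ⟶ j), IsAffineHom (D.map f)]
    (i₀ : I) {X₀ : Scheme.{u}} (g₀ : X₀ ⟶ D.obj i₀) [CompactSpace X₀]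
    [LocallyOfFinitePresentation g₀] (fs : List Γ(X₀, ⊤)) :
    (∀ (U : (Limits.pullback g₀ (c.π.app i₀)).affineOpens) (V : c.pt.affineOpens)
        (e : U.1 ≤ Limits.pullback.snd g₀ (c.π.app i₀) ⁻¹ᵁ V.1),
        @RegImm.IsTransRegularSeq Γ(c.pt, V.1) Γ(Limits.pullback g₀ (c.π.app i₀), U.1) _ _
          ((Limits.pullback.snd g₀ (c.π.app i₀)).appLE V.1 U.1 e).hom.toAlgebra
          (fs.map (fun f => ((Limits.pullback g₀ (c.π.app i₀)).presheaf.map
            (homOfLE (le_top : U.1 ≤ ⊤)).op).hom
              ((Limits.pullback.fst g₀ (c.π.app i₀)).appTop.hom f)))) ↔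
      ∃ (j : I) (φ : j ⟶ i₀),
        ∀ (U : (Limits.pullback g₀ (D.map φ)).affineOpens) (V : (D.obj j).affineOpens)
          (e : U.1 ≤ Limits.pullback.snd g₀ (D.map φ) ⁻¹ᵁ V.1),
          @RegImm.IsTransRegularSeq Γ(D.obj j, V.1) Γ(Limits.pullback g₀ (D.map φ), U.1) _ _
            ((Limits.pullback.snd g₀ (D.map φ)).appLE V.1 U.1 e).hom.toAlgebra
            (fs.map (fun f => ((Limits.pullback g₀ (D.map φ)).presheaf.map
              (homOfLE (le_top : U.1 ≤ ⊤)).op).hom
                ((Limits.pullback.fst g₀ (D.map φ)).appTop.hom f))) := by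
  have key : ∀ {T : Scheme.{u}} (t : T ⟶ D.obj i₀),
      (∀ (U : (Limits.pullback g₀ t).affineOpens) (V : T.affineOpens)
        (e : U.1 ≤ Limits.pullback.snd g₀ t ⁻¹ᵁ V.1),
        @RegImm.IsTransRegularSeq Γ(T, V.1) Γ(Limits.pullback g₀ t, U.1) _ _
          ((Limits.pullback.snd g₀ t).appLE V.1 U.1 e).hom.toAlgebra
          (fs.map (fun f => ((Limits.pullback g₀ t).presheaf.map
            (homOfLE (le_top : U.1 ≤ ⊤)).op).hom
              ((Limits.pullback.fst g₀ t).appTop.hom f)))) ↔
      ∀ x, TransAt (Limits.pullback.snd g₀ t)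
        (fs.map (fun f => (Limits.pullback.fst g₀ t).appTop.hom f)) x := by
    intro T t
    rw [← forall_affine_iff]
    refine forall_congr' fun U => forall_congr' fun V => forall_congr' fun e => ?_
    rw [res_eq]
  refine (key (c.π.app i₀)).trans (Iff.trans ?_ (exists_congr fun j => exists_congr fun φ =>
    (key (D.map φ)).symm))
  constructor
  · intro h
    have hflat : Flat (Limits.pullback.snd g₀ (c.π.app i₀)) := by
      rw [Flat.iff_flat_stalkMap]
      exact fun x => (h x).flat
    obtain ⟨j₁, φ₁, hj₁⟩ := exists_stage_flat hc g₀ hflat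
    obtain ⟨j, -, hj⟩ := exists_stage_bc hc g₀
      (fun j x => TransAt (Limits.pullback.snd g₀ (D.map j.hom))
        (fs.map (fun f => (Limits.pullback.fst g₀ (D.map j.hom)).appTop.hom f)) x)
      (fun j => by
        have : LocallyOfFinitePresentation (Limits.pullback.snd g₀ (D.map j.hom)) :=
          MorphismProperty.pullback_snd _ _ inferInstance
        exact isOpen_transAt (Limits.pullback.snd g₀ (D.map j.hom)) _)
      (fun j k φ x hx => TransAt.baseChange_comp (isPullback_map D i₀ g₀ φ)
        (bcDiagram_map_fst D i₀ g₀ φ) hx)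
      (fun x => ⟨Over.mk φ₁, TransAt.descend_comp (isPullback_π D c i₀ g₀ (Over.mk φ₁))
        (MorphismProperty.pullback_snd _ _ inferInstance) (bcCone_π_fst D c i₀ g₀ (Over.mk φ₁))
        (Flat.stalkMap (Limits.pullback.snd g₀ (D.map φ₁)) _) (h x)⟩) (Over.mk (𝟙 i₀))
    exact ⟨j.left, j.hom, hj⟩
  · rintro ⟨j, φ, h⟩ x
    exact TransAt.baseChange_comp (isPullback_π D c i₀ g₀ (Over.mk φ))
      (bcCone_π_fst D c i₀ g₀ (Over.mk φ)) (h _)

end Groth.Agent.S5990
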