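import Groth.Statements.S5992
import Groth.Agent.EGA418.K148.SepRed
import Groth.Agent.EGA418.K148.RankEq

set_option autoImplicit false
universe u
open scoped TensorProduct
open EGA418

namespace Groth.Agent.S5992

/-- Let k be a field of characteristic exponent p such that k is finite over its subfield k^p (the
Frobenius endomorphism of k is a finite ring map), and A a complete Noetherian local k-algebra which
is an integral domain, not a field, whose residue field is a finite extension of k; let n = dim A.
Then there is a finite purely inseparable extension k' of k such that, A' denoting the reduction of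
k' ⊗_k A modulo its nilradical, A' is a local domain and there is a local k'-algebra homomorphism
from the power series ring k'[[T_1, …, T_n]] to A' which is injective, makes A' a finite algebra,
and is unramified at the zero ideal of A' (so the fraction field of A' is a finite separable
extension of that of k'[[T_1, …, T_n]]). -/
theorem result (p : ℕ) (k A : Type u) [Field k]
    [ExpChar k p] (hk : (frobenius k p).Finite) [CommRing A] [IsDomain A] [IsNoetherianRing A] [IsLocalRing A]
    [Algebra k A] [IsAdicComplete (IsLocalRing.maximalIdeal A) A]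
    [Module.Finite k (IsLocalRing.ResidueField A)] (hA : ¬ IsField A) (n : ℕ) (hn : ringKrullDim A = n) :
    ∃ (k' : Type u) (_ : Field k') (_ : Algebra k k'), Module.Finite k k' ∧ IsPurelyInseparable k k' ∧
      ∃ (_ : IsDomain ((k' ⊗[k] A) ⧸ nilradical (k' ⊗[k] A)))
        (_ : IsLocalRing ((k' ⊗[k] A) ⧸ nilradical (k' ⊗[k] A)))
        (_ : Algebra (MvPowerSeries (Fin n) k') ((k' ⊗[k] A) ⧸ nilradical (k' ⊗[k] A)))
        (_ : IsScalarTower k' (MvPowerSeries (Fin n) k') ((k' ⊗[k] A) ⧸ nilradical (k' ⊗[k] A))),
        IsLocalHom (algebraMap (MvPowerSeries (Fin n) k') ((k' ⊗[k] A) ⧸ nilradical (k' ⊗[k] A))) ∧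
        Function.Injective (algebraMap (MvPowerSeries (Fin n) k') ((k' ⊗[k] A) ⧸ nilradical (k' ⊗[k] A))) ∧
        Module.Finite (MvPowerSeries (Fin n) k') ((k' ⊗[k] A) ⧸ nilradical (k' ⊗[k] A)) ∧
        Algebra.IsUnramifiedAt (MvPowerSeries (Fin n) k') (⊥ : Ideal ((k' ⊗[k] A) ⧸ nilradical (k' ⊗[k] A))) := by
  rcases ‹ExpChar k p› with _ | hprime
  · refine ⟨k, inferInstance, inferInstance, inferInstance, inferInstance, ?_⟩
    have h1 : IsDomain (K148.RedExt.Red k k A) := K148.RedExt.isDomain_red k k A
    have h2 : IsLocalRing (K148.RedExt.Red k k A) := K148.RedExt.isLocalRing_red k k A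
    have h3 : IsNoetherianRing (K148.RedExt.Red k k A) := K148.RedExt.isNoetherianRing_red k k A
    have h4 := K148.RedExt.isAdicComplete_red k k A
    have h5 := K148.RedExt.finite_residueField k k A
    obtain ⟨i1, i2, j1, j2, j3, j4⟩ := K148.RankEq.exists_unramified_zero k (K148.RedExt.Red k k A) n
      ((K148.RedExt.ringKrullDim_red k k A).trans hn)
    exact ⟨h1, h2, i1, i2, j1, j2, j3, j4⟩
  · have hp : Fact p.Prime := ⟨hprime⟩
    obtain ⟨k', f1, f2, f3, f4, f5⟩ := K148.SepRed.exists_geomReduced p k A (FractionRing A) n hn
    refine ⟨k', f1, f2, f3, f4, ?_⟩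
    have h1 : IsDomain (K148.RedExt.Red k k' A) := K148.RedExt.isDomain_red k k' A
    have h2 : IsLocalRing (K148.RedExt.Red k k' A) := K148.RedExt.isLocalRing_red k k' A
    have h3 : IsNoetherianRing (K148.RedExt.Red k k' A) := K148.RedExt.isNoetherianRing_red k k' A
    have h4 := K148.RedExt.isAdicComplete_red k k' A
    have h5 := K148.RedExt.finite_residueField k k' A
    have hchar : CharP k' p := charP_of_injective_algebraMap (algebraMap k k').injective p
    have hk' : (frobenius k' p).Finite := by
      refine RingHom.Finite.of_comp_finite (f := algebraMap k k') ?_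
      have : (frobenius k' p).comp (algebraMap k k') = (algebraMap k k').comp (frobenius k p) := by
        ext x; simp [frobenius_def]
      rw [this]
      exact RingHom.Finite.comp (RingHom.finite_algebraMap.mpr f3) hk
    obtain ⟨i1, i2, j1, j2, j3, j4⟩ := K148.RankEq.exists_unramified p k' (K148.RedExt.Red k k' A) hk' n
      ((K148.RedExt.ringKrullDim_red k k' A).trans hn) (by
        intro hbot
        apply hA
        have hf : IsField (K148.RedExt.Red k k' A) := by
          rw [IsLocalRing.isField_iff_maximalIdeal_eq]
          exact hbot.symm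
        let _ : Algebra A (K148.RedExt.Red k k' A) := (K148.RedExt.toRed k k' A).toAlgebra
        have hfin : Module.Finite A (K148.RedExt.Red k k' A) := K148.RedExt.finite_toRed k k' A
        exact isField_of_isIntegral_of_isField (K148.RedExt.injective_toRed k k' A) hf) (by
        intro L' _ _ _ _ _
        exact K148.SepRed.geomReduced_frac k k' A (FractionRing A) L' f5)
    exact ⟨h1, h2, i1, i2, j1, j2, j3, j4⟩

end Groth.Agent.S5992
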