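import Groth.Statements.S5995
import Groth.Agent.S5994

set_option autoImplicit false
universe u
open CategoryTheory AlgebraicGeometry
open Unram

namespace Groth.Agent.S5995

theorem isOpenImmersion_of_unramified {U X Y : Scheme.{u}} (u : U ⟶ X) (f : X ⟶ Y)
    [FormallyUnramified f] [LocallyOfFiniteType f] [IsOpenImmersion (u ≫ f)] :
    IsOpenImmersion u :=
  have : MorphismProperty.HasOfPostcompProperty @IsOpenImmersion
      (MorphismProperty.diagonal @IsOpenImmersion) :=
    MorphismProperty.hasOfPostcompProperty_iff_le_diagonal.2 le_rfl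
  MorphismProperty.of_postcomp (W := @IsOpenImmersion)
    (W' := MorphismProperty.diagonal @IsOpenImmersion) u f
    (inferInstanceAs (IsOpenImmersion (Limits.pullback.diagonal f))) ‹_›

theorem mem_range_of_mem_closure {X Y : Scheme.{u}} (f : X ⟶ Y) [IsSeparated f] (U : Y.Opens)
    (u : (U : Scheme.{u}) ⟶ X) (hu : u ≫ f = U.ι) (x : X) (hx : x ∈ closure (Set.range u))
    (hxU : f x ∈ U) : x ∈ Set.range u := by
  have hr : Set.range u ⊆ Set.range (f ⁻¹ᵁ U).ι := by
    rintro _ ⟨z, rfl⟩
    rw [Scheme.Opens.range_ι]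
    change f (u z) ∈ U
    rw [← Scheme.Hom.comp_apply, hu]
    exact z.2
  let s : (U : Scheme.{u}) ⟶ (f ⁻¹ᵁ U : X.Opens) := IsOpenImmersion.lift (f ⁻¹ᵁ U).ι u hr
  have hs : s ≫ (f ⁻¹ᵁ U).ι = u := IsOpenImmersion.lift_fac _ _ _
  have hs' : s ≫ (f ∣_ U) = 𝟙 _ := by
    rw [← cancel_mono U.ι, Category.assoc, morphismRestrict_ι, ← Category.assoc, hs, hu,
      Category.id_comp]
  have hsep : IsSeparated (f ∣_ U) := inferInstance
  have hcl : IsClosedImmersion s := by
    have : IsClosedImmersion (s ≫ (f ∣_ U)) := by rw [hs']; infer_instance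
    exact IsClosedImmersion.of_comp s (f ∣_ U)
  have hclr : IsClosed (Set.range s) := s.isClosedEmbedding.isClosed_range
  obtain ⟨C, hC, hCr⟩ := (f ⁻¹ᵁ U).ι.isOpenEmbedding.isInducing.isClosed_iff.1 hclr
  have hsub : Set.range u ⊆ C := by
    rintro _ ⟨z, rfl⟩
    have : s z ∈ (f ⁻¹ᵁ U).ι ⁻¹' C := by rw [hCr]; exact ⟨z, rfl⟩
    have h2 : (f ⁻¹ᵁ U).ι (s z) ∈ C := this
    rwa [← Scheme.Hom.comp_apply, hs] at h2
  have hxC : x ∈ C := closure_minimal hsub hC hx
  let x' : (f ⁻¹ᵁ U : X.Opens) := ⟨x, hxU⟩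
  have : x' ∈ Set.range s := by
    rw [← hCr]; exact hxC
  obtain ⟨z, hz⟩ := this
  refine ⟨z, ?_⟩
  rw [← hs, Scheme.Hom.comp_apply, hz]
  rfl

/-- Let Y be a reduced scheme whose irreducible components form a locally finite family and all of whose
local rings are geometrically unibranch, f : X ⟶ Y a separated, locally of finite type, formally
unramified morphism, and u : U ⟶ X a section of f over a dense open U of Y which cannot be extended:
whenever v is a section of f over an open V agreeing with u on U ∩ V, V is contained in U (so U is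
the domain of definition of the rational section defined by u). Then the image u(U) is an open and
closed subset of X. -/
theorem result {X Y : Scheme.{u}} [IsReduced Y]
    (hcomp : LocallyFinite (fun Z : ↥(irreducibleComponents ↥Y) => (Z : Set ↥Y)))
    (f : X ⟶ Y) [IsSeparated f] [LocallyOfFiniteType f] [FormallyUnramified f]
    (U : Y.Opens) (hU : Dense (U : Set ↥Y)) (u : (U : Scheme.{u}) ⟶ X) (hu : u ≫ f = U.ι)
    (hY : ∀ y : Y, CAlg2.IsGeomUnibranch (Y.presheaf.stalk y))
    (hmax : ∀ (V : Y.Opens) (v : (V : Scheme.{u}) ⟶ X), v ≫ f = V.ι →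
      Y.homOfLE (inf_le_left : U ⊓ V ≤ U) ≫ u = Y.homOfLE (inf_le_right : U ⊓ V ≤ V) ≫ v → V ≤ U) :
    IsOpen (Set.range u) ∧ IsClosed (Set.range u) := by
  have : IsOpenImmersion (u ≫ f) := by rw [hu]; infer_instance
  have hui : IsOpenImmersion u := isOpenImmersion_of_unramified u f
  refine ⟨u.isOpenEmbedding.isOpen_range, ?_⟩
  refine isClosed_of_closure_subset fun x hx => ?_
  obtain ⟨V, v, hyV, hv, hag⟩ := Groth.Agent.S5994.result hcomp f U hU u hu (f x) (hY _) ⟨x, hx, rfl⟩
  exact mem_range_of_mem_closure f U u hu x hx (hmax V v hv hag hyV)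

end Groth.Agent.S5995
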