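import Groth.Statements.S5996
import Groth.Agent.S5994

set_option autoImplicit false
universe u
open CategoryTheory AlgebraicGeometry
open Unram

namespace Groth.Agent.S5996

/-- The generic point of an irreducible component lies in every dense open subset, when the family of
irreducible components is locally finite. -/
theorem genericPoint_mem_of_dense {Y : Type u} [TopologicalSpace Y] [QuasiSober Y]
    (hcomp : LocallyFinite (fun Z : ↥(irreducibleComponents Y) => (Z : Set Y)))
    (Z₀ : Set Y) (hZ₀ : Z₀ ∈ irreducibleComponents Y) (ξ : Y) (hξ : IsGenericPoint ξ Z₀)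
    (U : Set Y) (hUo : IsOpen U) (hU : Dense U) : ξ ∈ U := by
  obtain ⟨W, hW, hfin⟩ := hcomp ξ
  obtain ⟨W₀, hW₀W, hW₀o, hξW₀⟩ := mem_nhds_iff.1 hW
  let F : Set ↥(irreducibleComponents Y) := {i | ((i : Set Y) ∩ W).Nonempty ∧ (i : Set Y) ≠ Z₀}
  have hF : F.Finite := hfin.subset (fun i hi => hi.1)
  let C : Set Y := ⋃ i ∈ F, (i : Set Y)
  have hC : IsClosed C := hF.isClosed_biUnion
    (fun i _ => isClosed_of_mem_irreducibleComponents _ i.2)
  have hξC : ξ ∉ C := by
    intro h
    obtain ⟨i, hi, hξi⟩ := Set.mem_iUnion₂.1 h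
    apply hi.2
    have hsub : Z₀ ⊆ (i : Set Y) := by
      rw [← hξ.def]
      exact closure_minimal (Set.singleton_subset_iff.2 hξi)
        (isClosed_of_mem_irreducibleComponents _ i.2)
    exact (Set.Subset.antisymm hsub (hZ₀.2 i.2.1 hsub)).symm
  have hopen : IsOpen (W₀ ∩ Cᶜ) := hW₀o.inter hC.isOpen_compl
  obtain ⟨z, hz, hzU⟩ := hU.inter_open_nonempty _ hopen ⟨ξ, hξW₀, hξC⟩
  have hzZ : z ∈ Z₀ := by
    by_contra hzn
    apply hz.2
    refine Set.mem_iUnion₂.2 ⟨⟨irreducibleComponent z, irreducibleComponent_mem_irreducibleComponents z⟩,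
      ⟨⟨z, mem_irreducibleComponent, hW₀W hz.1⟩, ?_⟩, mem_irreducibleComponent⟩
    intro h
    apply hzn
    rw [← h]
    exact mem_irreducibleComponent
  have hsp : ξ ⤳ z := by
    rw [specializes_iff_mem_closure, hξ.def]; exact hzZ
  exact hsp.mem_open hUo hzU

/-- Let Y be a reduced scheme whose irreducible components form a locally finite family, f : X ⟶ Y a
separated, locally of finite type, formally unramified morphism such that f(T) is closed in Y for
every closed irreducible subset T of X, and u : U ⟶ X a section of f over a dense open U of Y. Then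
for every point y of Y whose local ring is geometrically unibranch there are an open V ∋ y and a
section v : V ⟶ X of f agreeing with u on U ∩ V: the rational section defined by u is defined at
every geometrically unibranch point. -/
theorem result {X Y : Scheme.{u}} [IsReduced Y]
    (hcomp : LocallyFinite (fun Z : ↥(irreducibleComponents ↥Y) => (Z : Set ↥Y)))
    (f : X ⟶ Y) [IsSeparated f] [LocallyOfFiniteType f] [FormallyUnramified f]
    (U : Y.Opens) (hU : Dense (U : Set ↥Y)) (u : (U : Scheme.{u}) ⟶ X) (hu : u ≫ f = U.ι)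
    (hcl : ∀ T : Set ↥X, IsClosed T → IsIrreducible T → IsClosed (f '' T))
    (y : Y) (hy : CAlg2.IsGeomUnibranch (Y.presheaf.stalk y)) :
    ∃ (V : Y.Opens) (v : (V : Scheme.{u}) ⟶ X), y ∈ V ∧ v ≫ f = V.ι ∧
      Y.homOfLE (inf_le_left : U ⊓ V ≤ U) ≫ u = Y.homOfLE (inf_le_right : U ⊓ V ≤ V) ≫ v := by
  obtain ⟨ξ, hξ⟩ := QuasiSober.sober (isIrreducible_irreducibleComponent (x := y))
    isClosed_irreducibleComponent
  have hξU : ξ ∈ U := genericPoint_mem_of_dense hcomp _
    (irreducibleComponent_mem_irreducibleComponents y) ξ hξ _ U.2 hU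
  let T : Set X := closure {u ⟨ξ, hξU⟩}
  have hT := hcl T isClosed_closure isIrreducible_singleton.closure
  have hfu : f (u ⟨ξ, hξU⟩) = ξ := by
    rw [← Scheme.Hom.comp_apply, hu]; rfl
  have hξT : ξ ∈ f '' T := ⟨u ⟨ξ, hξU⟩, subset_closure rfl, hfu⟩
  have hyT : y ∈ f '' T := by
    have : irreducibleComponent y ⊆ f '' T := by
      rw [← hξ.def]
      exact closure_minimal (Set.singleton_subset_iff.2 hξT) hT
    exact this mem_irreducibleComponent
  obtain ⟨x, hxT, hxy⟩ := hyT
  refine Groth.Agent.S5994.result hcomp f U hU u hu y hy ⟨x, ?_, hxy⟩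
  exact closure_mono (Set.singleton_subset_iff.2 (Set.mem_range_self _)) hxT

end Groth.Agent.S5996
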