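import Groth.Statements.S6001
import Groth.Agent.SGA1.K151.AnRed

set_option autoImplicit false
universe u
open SGA1

namespace Groth.Agent.S6001

/-- Let A be a Noetherian local ring which is analytically reduced (its completion has no nonzero
nilpotents), and let B be the local ring at a prime q, lying over the maximal ideal of A, of an
A-algebra C of finite type that is etale over A at q (an etale local homomorphism A ⟶ B). Then B is
analytically reduced, and in particular reduced. -/
theorem result (A C : Type u) [CommRing A] [IsLocalRing A]
    [IsNoetherianRing A] [CommRing C] [Algebra A C] [Algebra.FiniteType A C] (q : Ideal C) [q.IsPrime]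
    (hq : Ideal.comap (algebraMap A C) q = IsLocalRing.maximalIdeal A) (hC : Algebra.IsEtaleAt A q)
    (hA : IsReduced (AdicCompletion (IsLocalRing.maximalIdeal A) A)) :
    IsReduced (AdicCompletion (IsLocalRing.maximalIdeal (Localization.AtPrime q)) (Localization.AtPrime q)) ∧
      IsReduced (Localization.AtPrime q) := by
  have hFP : Algebra.FinitePresentation A C := (Algebra.FinitePresentation.of_finiteType).mp inferInstance
  have hN : IsNoetherianRing C := Algebra.FiniteType.isNoetherianRing A C
  have hN' : IsNoetherianRing (Localization.AtPrime q) :=
    IsLocalization.isNoetherianRing q.primeCompl _ hN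
  have hloc : IsLocalHom (algebraMap A (Localization.AtPrime q)) := by
    apply ((IsLocalRing.local_hom_TFAE (algebraMap A (Localization.AtPrime q))).out 0 4).mpr
    have h0 : Ideal.comap (algebraMap C (Localization.AtPrime q))
        (IsLocalRing.maximalIdeal (Localization.AtPrime q)) = q :=
      Localization.AtPrime.under_maximalIdeal
    rw [IsScalarTower.algebraMap_eq A C (Localization.AtPrime q), ← Ideal.comap_comap, h0, hq]
  have hflat : Module.Flat A (Localization.AtPrime q) := by
    obtain ⟨f, hf, h⟩ := Algebra.exists_etale_of_isEtaleAt (R := A) q
    have h1 : Module.Flat A (Localization.Away f) := inferInstance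
    have h2 : ∀ s : Submonoid.powers f, IsUnit (algebraMap C (Localization.AtPrime q) s) := by
      rintro ⟨_, n, rfl⟩
      rw [map_pow]
      exact (IsLocalization.map_units (M := q.primeCompl) (Localization.AtPrime q) ⟨f, hf⟩).pow n
    let _ : Algebra (Localization.Away f) (Localization.AtPrime q) :=
      (IsLocalization.lift (M := Submonoid.powers f) h2).toAlgebra
    have h3 : IsScalarTower C (Localization.Away f) (Localization.AtPrime q) :=
      IsScalarTower.of_algebraMap_eq fun x => (IsLocalization.lift_eq h2 x).symm
    have h4 : IsScalarTower A (Localization.Away f) (Localization.AtPrime q) := by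
      refine IsScalarTower.of_algebraMap_eq fun x => ?_
      rw [IsScalarTower.algebraMap_apply A C (Localization.Away f),
        ← IsScalarTower.algebraMap_apply C (Localization.Away f) (Localization.AtPrime q),
        ← IsScalarTower.algebraMap_apply A C (Localization.AtPrime q)]
    have h5 : Module.Flat (Localization.Away f) (Localization.AtPrime q) := by
      rw [Module.flat_iff_of_isLocalization (Localization.Away f) (Submonoid.powers f)]
      infer_instance
    exact Module.Flat.trans A (Localization.Away f) (Localization.AtPrime q)
  have hEss : Algebra.EssFiniteType A (Localization.AtPrime q) :=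
    Algebra.EssFiniteType.comp A C (Localization.AtPrime q)
  have hE : Algebra.FormallyEtale A (Localization.AtPrime q) := hC
  have h1 := K151.AnRed.isReduced_cpl A (Localization.AtPrime q)
  exact ⟨h1, K151.AnRed.isReduced_of_isReduced_cpl _⟩

end Groth.Agent.S6001
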