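import Groth.Statements.S6002
import Groth.Agent.SGA1.K151.NilLift

set_option autoImplicit false
universe u
open SGA1

namespace Groth.Agent.S6002

open AlgebraicGeometry CategoryTheory CategoryTheory.Limits in
/-- Let Y be a locally Noetherian scheme, Y₀ a closed subscheme of Y with the same underlying space (a
closed immersion i : Y₀ ⟶ Y that is surjective on points) and X₀ an affine scheme smooth over Y₀.
Then there is a smooth Y-scheme X together with a Y₀-isomorphism e : X₀ ≅ X ×_Y Y₀, and X is unique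
up to a (non-unique) isomorphism: for every smooth Y-scheme X' with a Y₀-isomorphism e' : X₀ ≅ X'
×_Y Y₀ there is a Y-isomorphism φ : X ≅ X' under which the closed immersion of X₀ into X given by e
corresponds to the one into X' given by e'. -/
theorem result {Y₀ Y X₀ : Scheme.{u}} [IsLocallyNoetherian Y]
    (i : Y₀ ⟶ Y) [IsClosedImmersion i] (hi : Function.Surjective i.base)
    (f₀ : X₀ ⟶ Y₀) [Smooth f₀] [IsAffine X₀] :
    ∃ (X : Scheme.{u}) (g : X ⟶ Y) (_ : Smooth g) (e : X₀ ≅ pullback g i),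
      e.hom ≫ pullback.snd g i = f₀ ∧
      ∀ (X' : Scheme.{u}) (g' : X' ⟶ Y) [Smooth g'] (e' : X₀ ≅ pullback g' i),
        e'.hom ≫ pullback.snd g' i = f₀ →
        ∃ φ : X ≅ X', φ.hom ≫ g' = g ∧
          (e.hom ≫ pullback.fst g i) ≫ φ.hom = e'.hom ≫ pullback.fst g' i := by
  have : Surjective i := ⟨hi⟩
  obtain ⟨X, j, g, h⟩ := K151.NilLift.hasLift i f₀
  have hg := h.smooth
  refine ⟨X, g, hg, h.isPullback.isoPullback, h.isPullback.isoPullback_hom_snd, ?_⟩
  intro X' g' hg' e' he'
  have h' : K151.NilLift.IsLift i f₀ (e'.hom ≫ pullback.fst g' i) g' := by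
    refine ⟨hg', ?_⟩
    exact (IsPullback.of_hasPullback g' i).of_iso e'.symm (Iso.refl _) (Iso.refl _) (Iso.refl _)
      (by simp) (by simp [← he']) (by simp) (by simp)
  obtain ⟨φ, h1, h2⟩ := K151.NilLift.exists_iso i h h'
  refine ⟨φ, h1, ?_⟩
  rw [h.isPullback.isoPullback_hom_fst, h2]

end Groth.Agent.S6002
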