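import Groth.Statements.S6017
import Groth.Agent.SGA1.K151.DecompCpl

set_option autoImplicit false
universe u
open scoped Pointwise
open SGA1

namespace Groth.Agent.S6017

/-- Stated in affine form, at the level of rings: let a finite group `G` act on a commutative ring `R`;
suppose the ring of invariants `B = R^G` is Noetherian and `R` is a finite `B`-module. Let `q` be a
prime of `R`, let `H` be a subgroup of `G` containing the stabilizer of `q` (the decomposition
group), and put `R' = R^H`, `q' = q ∩ R'`, `p = q ∩ B = q' ∩ B`. Then the local homomorphism `B_p →
R'_{q'}` induces an isomorphism between the completions of these two Noetherian local rings;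
equivalently, and this is the form stated, for every `n` the composite `B_p → R'_{q'} → R'_{q'} /
m_{q'}^n` is surjective and its kernel is exactly `m_p^n`. (The published statement concerns a
prescheme `X` finite over a locally Noetherian `Y = X/G` and the local rings of `Y` and `X/H` at the
images of a point `x`; the assertion is local on `Y` and `X` is affine over `Y`, so it is stated for
`X = Spec R`, `Y = Spec R^G`, `X/H = Spec R^H`. The hypothesis `hle` only records the inclusion `R^G
⊆ R^H`, which always holds.) -/
theorem result
    (G R : Type u) [Group G] [Finite G] [CommRing R] [MulSemiringAction G R]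
    [IsNoetherianRing (FixedPoints.subring R G)] [Module.Finite (FixedPoints.subring R G) R]
    (H : Subgroup G) (q : Ideal R) [q.IsPrime] (hD : MulAction.stabilizer G q ≤ H)
    (hle : FixedPoints.subring R G ≤ FixedPoints.subring R H) (n : ℕ) :
    let q' : Ideal (FixedPoints.subring R H) := Ideal.comap (FixedPoints.subring R H).subtype q
    let φ := Localization.localRingHom (Ideal.comap (Subring.inclusion hle) q') q' (Subring.inclusion hle) rfl
    Function.Surjective ((Ideal.Quotient.mk (IsLocalRing.maximalIdeal (Localization.AtPrime q') ^ n)).comp φ) ∧
      Ideal.comap φ (IsLocalRing.maximalIdeal (Localization.AtPrime q') ^ n) =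
        IsLocalRing.maximalIdeal (Localization.AtPrime (Ideal.comap (Subring.inclusion hle) q')) ^ n := by
  intro q' φ
  let _ : Algebra (FixedPoints.subring R G) (FixedPoints.subring R H) :=
    (Subring.inclusion hle).toAlgebra
  have : IsScalarTower (FixedPoints.subring R G) (FixedPoints.subring R H) R :=
    IsScalarTower.of_algebraMap_eq fun _ => rfl
  have : Algebra.IsInvariant (FixedPoints.subring R G) R G := ⟨fun b hb => ⟨⟨b, hb⟩, rfl⟩⟩
  have : Algebra.IsInvariant (FixedPoints.subring R H) R H := ⟨fun b hb => ⟨⟨b, hb⟩, rfl⟩⟩
  have hinj : Function.Injective (algebraMap (FixedPoints.subring R H) R) :=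
    Subtype.val_injective
  have hinj' : Function.Injective (algebraMap (FixedPoints.subring R G) R) :=
    Subtype.val_injective
  have hfin : Module.Finite (FixedPoints.subring R G) (FixedPoints.subring R H) := by
    have : IsNoetherian (FixedPoints.subring R G) R := isNoetherian_of_isNoetherianRing_of_finite _ _
    exact Module.Finite.of_injective
      (IsScalarTower.toAlgHom (FixedPoints.subring R G) (FixedPoints.subring R H) R).toLinearMap
      hinj
  have : IsNoetherianRing (FixedPoints.subring R H) := IsNoetherianRing.of_finite
    (FixedPoints.subring R G) _
  have : Module.Finite (FixedPoints.subring R H) R :=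
    Module.Finite.of_restrictScalars_finite (FixedPoints.subring R G) _ _
  have : q'.IsPrime := Ideal.comap_isPrime _ _
  have : (Ideal.comap (Subring.inclusion hle) q').IsPrime := Ideal.comap_isPrime _ _
  exact K151.DecompCpl.final H hinj hinj' q hD q' rfl _ rfl n

end Groth.Agent.S6017
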