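import Groth.Statements.S6028
import Mathlib.CategoryTheory.Abelian.DiagramLemmas.KernelCokernelComp

set_option autoImplicit false
universe u
open CategoryTheory CategoryTheory.Limits TopologicalSpace
open LocCohZ

namespace Groth.Agent.S6028

/-- Third isomorphism theorem: for monomorphisms `f : A ⟶ B`, `g : B ⟶ C`, the sequence
`0 ⟶ coker f ⟶ coker (f ≫ g) ⟶ coker g ⟶ 0` is short exact. -/
theorem shortExact_cokernel {C : Type*} [Category* C] [Abelian C] {X Y Z : C} (f : X ⟶ Y) (g : Y ⟶ Z)
    (h : X ⟶ Z) (hfg : f ≫ g = h) [Mono g]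
    (a : cokernel f ⟶ cokernel h) (b : cokernel h ⟶ cokernel g)
    (ha : cokernel.π f ≫ a = g ≫ cokernel.π h) (hb : cokernel.π h ≫ b = cokernel.π g) :
    ∃ w : a ≫ b = 0, (ShortComplex.mk a b w).ShortExact := by
  subst hfg
  have w : a ≫ b = 0 := by
    rw [← cancel_epi (cokernel.π f), reassoc_of% ha, hb, cokernel.condition, comp_zero]
  refine ⟨w, ?_⟩
  have hb' : Epi b := by
    have : Epi (cokernel.π (f ≫ g) ≫ b) := by rw [hb]; infer_instance
    exact epi_of_epi (cokernel.π (f ≫ g)) b
  have ha' : Mono a := by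
    have e : a = cokernel.map f (f ≫ g) (𝟙 _) g (by simp) := by
      rw [← cancel_epi (cokernel.π f), ha]
      simp
    have ex := kernelCokernelCompSequence_exact f g
    have ex2 := (ex.exact 2)
    have hz : (kernelCokernelCompSequence f g).map' 2 3 = 0 := by
      apply IsZero.eq_of_src
      exact isZero_kernel_of_mono g
    have := (ShortComplex.exact_iff_mono _ (by exact hz)).1 (ex.exact 2)
    rw [e]
    exact this
  exact
    { exact := by
        apply ShortComplex.exact_of_g_is_cokernel
        refine CokernelCofork.IsColimit.ofπ' b w (fun {A} k hk => ?_)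
        refine ⟨cokernel.desc g (cokernel.π (f ≫ g) ≫ k) ?_, ?_⟩
        · rw [← reassoc_of% ha]
          change cokernel.π f ≫ a ≫ k = 0
          rw [hk, comp_zero]
        · rw [← cancel_epi (cokernel.π (f ≫ g)), reassoc_of% hb, cokernel.π_desc]
      mono_f := ha'
      epi_g := hb' }

/-- Let X be a topological space and W ⊆ V ⊆ T opens of X; put Z = T − W, Z' = T − V and Z'' = V − W, so
that Z' is closed in Z with complement Z''. Then 0 → ℤ_{Z'',X} → ℤ_{Z,X} → ℤ_{Z',X} → 0 is a short
exact sequence of abelian sheaves on X, where ℤ_{Z,X} = ℤ_T/ℤ_W and the maps are the induced ones. -/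
theorem result {X : TopCat.{u}} {W V T : Opens X} (hWV : W ≤ V) (hVT : V ≤ T) :
    ∃ w : LocCohZ.zqMap (hWV.trans hVT) hWV le_rfl hVT ≫ LocCohZ.zqMap hVT (hWV.trans hVT) hWV le_rfl = 0,
      (ShortComplex.mk _ _ w).ShortExact := by
  have hm : Mono (CohCx.freeSheafMap (Opens.grothendieckTopology X) (homOfLE hVT)) :=
    (zqSeq_shortExact hVT).mono_f
  refine shortExact_cokernel (CohCx.freeSheafMap (Opens.grothendieckTopology X) (homOfLE hWV))
    (CohCx.freeSheafMap (Opens.grothendieckTopology X) (homOfLE hVT))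
    (CohCx.freeSheafMap (Opens.grothendieckTopology X) (homOfLE (hWV.trans hVT)))
    ?_ _ _ ?_ ?_
  · rw [← CohFree.freeSheafMap_comp]
    rfl
  · exact cokernel.π_desc _ _ _
  · refine (cokernel.π_desc _ _ _).trans ?_
    have : CohCx.freeSheafMap (Opens.grothendieckTopology X) (homOfLE (le_refl T)) = 𝟙 _ :=
      CohFree.freeSheafMap_id _ _
    rw [this, Category.id_comp]

end Groth.Agent.S6028
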