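import Groth.Statements.S6030
import Groth.Agent.PerfB.GammaZ
import Groth.Agent.Cohder.RDInt

set_option autoImplicit false
universe u
open CategoryTheory CategoryTheory.Limits TopologicalSpace AlgebraicGeometry
open LocCohZ

namespace Groth.Agent.S6030

open Groth.Agent.PerfA.QCohSerre

/-- Let Y be a scheme, j : U → Y a quasi-compact open immersion with closed complement Z, and M a
quasi-coherent O_Y-module. Then the local cohomology sheaves ℋ^q_Z(M) (right derived functors of Γ_Z
on O_Y-modules) are quasi-coherent for every q. -/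
theorem result {U Y : Scheme.{u}} (j : U ⟶ Y) [IsOpenImmersion j] [QuasiCompact j]
    [HasInjectiveResolutions Y.Modules] (M : Y.Modules) (hM : Coh.IsQCoh M) (q : ℕ) :
    Coh.IsQCoh ((LocCohZ.HZshM j q).obj M) := by
  obtain ⟨R⟩ : Nonempty (InjectiveResolution M) := ⟨injectiveResolution M⟩
  refine isQCoh_of_iso (Groth.Agent.Cohder.RDInt.isoH₀ (DCoh.gammaZ j) R q (q : ℤ) rfl).symm ?_
  refine Groth.Agent.PerfB.GammaZ.isQCoh_homology_gammaZ j R.cochainComplex (fun n => inferInstance) 0 ?_ _
  intro n
  have e : ((CochainComplex.singleFunctor Y.Modules 0).obj M).homology n ≅ R.cochainComplex.homology n :=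
    asIso (HomologicalComplex.homologyMap R.ι' n)
  refine isQCoh_of_iso e ?_
  by_cases hn : n = 0
  · subst hn
    exact isQCoh_of_iso (HomologicalComplex.singleObjHomologySelfIso (ComplexShape.up ℤ) 0 M).symm hM
  · exact isQCoh_of_isZero ((HomologicalComplex.exactAt_single_obj (ComplexShape.up ℤ) 0 M n hn).isZero_homology)

end Groth.Agent.S6030
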