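import Groth.Statements.S6031
import Groth.Agent.LocCohZ.K287.AbsLES
import Groth.Agent.CohqA.AffineVanish

set_option autoImplicit false
universe u
open CategoryTheory CategoryTheory.Limits TopologicalSpace AlgebraicGeometry
open LocCohZ

namespace Groth.Agent.S6031

open Groth.Agent.LocCohZ.K287

theorem aux {X : TopCat.{u}} (F : CohTop.Ab X) (U : Opens X)
    (h : ∀ i : ℕ, Subsingleton (CohTop.HU F (i + 1) ⊤)) :
    Function.Surjective (LocCohZ.delta F 0 (le_top : U ≤ ⊤)) ∧
      ∀ i : ℕ, 1 ≤ i → Function.Bijective (LocCohZ.delta F i (le_top : U ≤ ⊤)) := by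
  refine ⟨AbsLES.surjective_dl (LocCohZ.zqSeq_shortExact (le_top : U ≤ ⊤)) F 0 (h 0), fun i hi => ?_⟩
  obtain ⟨i, rfl⟩ : ∃ k, i = k + 1 := ⟨i - 1, by omega⟩
  exact ⟨AbsLES.injective_dl (LocCohZ.zqSeq_shortExact (le_top : U ≤ ⊤)) F (i + 1) (h i),
    AbsLES.surjective_dl (LocCohZ.zqSeq_shortExact (le_top : U ≤ ⊤)) F (i + 1) (h (i + 1))⟩

/-- Let Y be an affine scheme, U an open subset with closed complement Z and M a quasi-coherent
O_Y-module with underlying abelian sheaf F. Then 0 → H^0_Z(Y, F) → H^0(Y, F) → H^0(U, F) → H^1_Z(Y,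
F) → 0 is exact, i.e. the connecting map H^0(U, F) → H^1_Z(Y, F) is surjective, and the connecting
maps H^i(U, F) → H^{i+1}_Z(Y, F) are bijective for all i ≥ 1. (The published statement assumes U
quasi-compact; the printed proof of these two assertions only uses the vanishing of the higher
cohomology of F on the affine scheme Y, so U is an arbitrary open here.) -/
theorem result (Y : Scheme.{u}) [IsAffine Y] (M : Y.Modules)
    (hM : Coh.IsQCoh M) (U : Y.Opens) :
    Function.Surjective (LocCohZ.delta (X := Y.carrier) (Coh.toAb M) 0 (le_top : U ≤ ⊤)) ∧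
      ∀ i : ℕ, 1 ≤ i →
        Function.Bijective (LocCohZ.delta (X := Y.carrier) (Coh.toAb M) i (le_top : U ≤ ⊤)) :=
  aux (X := Y.carrier) (Coh.toAb M) U fun i =>
    @Groth.Agent.CohqA.AffineVanish.HU_subsingleton Y M hM (i + 1) (Nat.succ_pos i) ⊤ (isAffineOpen_top Y)

end Groth.Agent.S6031
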