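import Groth.Statements.S6033
import Groth.Agent.S6032
import Groth.Agent.S6024
import Groth.Agent.S6023

set_option autoImplicit false
universe u
open CategoryTheory CategoryTheory.Limits TopologicalSpace AlgebraicGeometry
open LocCohZ

namespace Groth.Agent.S6033

theorem aux6023 {X : TopCat.{u}} (F : CohTop.Ab X) [TopCat.Sheaf.IsFlasque F] (U : Opens X) (i : ℕ) (hi : 0 < i) :
    Subsingleton (LocCohZ.HZc F i U) :=
  (Groth.Agent.S6023.result F).1 U ⊤ le_top i hi

theorem exists_list (A : Type u) [CommRing A] [NoetherianSpace (PrimeSpectrum A)]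
    (U : (Spec (CommRingCat.of A)).Opens) :
    ∃ fs : List A, LocCoh.puncturedOpen A (Ideal.span {a | a ∈ fs}) = U := by
  have hc : IsCompact (show Set (PrimeSpectrum A) from U.carrier) := NoetherianSpace.isCompact _
  obtain ⟨t, ht⟩ := PrimeSpectrum.isCompact_isOpen_iff.1 ⟨hc, U.isOpen⟩
  refine ⟨t.toList, ?_⟩
  apply Opens.ext
  refine Eq.trans ?_ ht
  change (PrimeSpectrum.zeroLocus ((Ideal.span {a | a ∈ t.toList} : Ideal A) : Set A))ᶜ = _
  rw [PrimeSpectrum.zeroLocus_span]
  congr 2
  ext a
  exact Finset.mem_toList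

theorem fwd (A : Type u) [CommRing A]
    (h : ∀ (M : Type u) [AddCommGroup M] [Module A M], Module.Injective A M →
        TopCat.Sheaf.IsFlasque (Coh.toAb (AlgebraicGeometry.tilde (R := CommRingCat.of A) (ModuleCat.of A M))))
    (fs : List A) (M : Type u) [AddCommGroup M] [Module A M] (hM : Module.Injective A M) (i : ℕ) (hi : 0 < i) :
    Subsingleton (CohIII.koszulHLim fs (ModuleCat.of A M) i) := by
  have h1 := h M hM
  have h2 := aux6023 (X := (Spec (CommRingCat.of A)).toTopCat)
    (Coh.toAb (AlgebraicGeometry.tilde (R := CommRingCat.of A) (ModuleCat.of A M)))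
    (LocCoh.puncturedOpen A (Ideal.span {a | a ∈ fs})) i hi
  obtain ⟨e⟩ := Groth.Agent.S6032.result A fs M i
  exact @Equiv.subsingleton _ _ e.toEquiv h2

/-- Let A be a commutative ring such that the underlying space of X = Spec A is Noetherian. Then M~ is
flasque for every injective A-module M if and only if colim_n H^1(f^n, M) = 0 (direct limit of
Koszul cohomology of the powers) for every finite family f of elements of A and every injective
A-module M; and in that case colim_n H^i(f^n, M) = 0 for all i > 0 as well. -/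
theorem result (A : Type u) [CommRing A]
    [NoetherianSpace (PrimeSpectrum A)] :
    ((∀ (M : Type u) [AddCommGroup M] [Module A M], Module.Injective A M →
        TopCat.Sheaf.IsFlasque (Coh.toAb (AlgebraicGeometry.tilde (R := CommRingCat.of A) (ModuleCat.of A M)))) ↔
      ∀ (fs : List A) (M : Type u) [AddCommGroup M] [Module A M], Module.Injective A M →
        Subsingleton (CohIII.koszulHLim fs (ModuleCat.of A M) 1)) ∧
    ((∀ (M : Type u) [AddCommGroup M] [Module A M], Module.Injective A M →
        TopCat.Sheaf.IsFlasque (Coh.toAb (AlgebraicGeometry.tilde (R := CommRingCat.of A) (ModuleCat.of A M)))) →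
      ∀ (fs : List A) (M : Type u) [AddCommGroup M] [Module A M], Module.Injective A M →
        ∀ i : ℕ, 0 < i → Subsingleton (CohIII.koszulHLim fs (ModuleCat.of A M) i)) := by
  refine ⟨⟨fun h fs M _ _ hM => fwd A h fs M hM 1 one_pos, fun h M _ _ hM => ?_⟩,
    fun h fs M _ _ hM i hi => fwd A h fs M hM i hi⟩
  refine Groth.Agent.S6024.result (X := (Spec (CommRingCat.of A)).toTopCat) _ (fun U => ?_)
  obtain ⟨fs, rfl⟩ := exists_list A U
  have h1 := h fs M hM
  obtain ⟨e⟩ := Groth.Agent.S6032.result A fs M 1
  exact @Equiv.subsingleton _ _ e.symm.toEquiv h1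

end Groth.Agent.S6033
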