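import Groth.Statements.S6039
import Groth.Agent.LocCohZ.K288.DepthGen
import Groth.Agent.LocCohZ.K288.Res0
import Groth.Agent.S6021

set_option autoImplicit false
universe u
open CategoryTheory CategoryTheory.Limits TopologicalSpace AlgebraicGeometry Opposite
open LocCohZ

namespace Groth.Agent.S6039

open Groth.Agent.LocCohZ.K287 in
theorem aux {X : Scheme.{u}} [IsLocallyNoetherian X] (U : X.Opens) (M : X.Modules) (hM : Coh.IsCoh M) :
    (∀ x : X, x ∉ (U : Set X) → (2 : ℕ∞) ≤ LocCoh.depth (X.presheaf.stalk x) (M.presheaf.stalk x)) ↔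
      ∀ V : X.Opens, Function.Bijective ((Coh.toAb M).obj.map (homOfLE (inf_le_left : V ⊓ U ≤ V)).op) := by
  have h0 := K288.DepthGen.main M hM U 2
  refine Iff.trans h0.symm ⟨fun h V => ?_, fun h i hi => ?_⟩
  · have h1 := (Vanish.forall_isZero_HZsh_iff (X := X.toTopCat) U (Coh.toAb M) 2).1 h V
    have h2 := (LES.forall_HZ_iff (X := X.toTopCat) (Coh.toAb M) (inf_le_left : V ⊓ U ≤ V) 1).1
      fun i hi => h1 i (by omega)
    exact (K288.Res0.bijective_iff (X := X.toTopCat) (Coh.toAb M) (inf_le_left : V ⊓ U ≤ V)).1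
      (h2.1 0 one_pos)
  · exact Groth.Agent.S6021.result (X := X.toTopCat) (Coh.toAb M) U 1 one_pos (fun V i hi => by
      obtain rfl : i = 0 := by omega
      exact (K288.Res0.bijective_iff (X := X.toTopCat) (Coh.toAb M) (inf_le_left : V ⊓ U ≤ V)).2 (h V))
      i (by omega)

/-- Let X be a locally Noetherian scheme, Y a closed subset with open complement U and M a coherent
O_X-module. Then depth M_x ≥ 2 for every x ∈ Y if and only if, for every open V of X, the
restriction map Γ(V, M) → Γ(V ∩ U, M) is bijective. -/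
theorem result (X : Scheme.{u}) [IsLocallyNoetherian X] (U : X.Opens)
    (M : X.Modules) (hM : Coh.IsCoh M) :
    (∀ x : X, x ∉ (U : Set X) → (2 : ℕ∞) ≤ LocCoh.depth (X.presheaf.stalk x) (M.presheaf.stalk x)) ↔
      ∀ V : X.Opens, Function.Bijective (M.val.map (homOfLE (inf_le_left : V ⊓ U ≤ V)).op).hom := by
  exact aux U M hM

end Groth.Agent.S6039
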