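import Groth.Statements.S6040
import Groth.Agent.CohtopA.RestrCoh
import Groth.Agent.Sga4h.RDExact

set_option autoImplicit false
universe u
open CategoryTheory CategoryTheory.Limits TopologicalSpace
open LocCohZ

namespace Groth.Agent.S6040

/-- Let X be a topological space, U an open subset and j : U → X the inclusion, so that the sheaf of
sections with supports in the open U is Γ_U(F) = j_*(F|_U). For every q the local cohomology sheaf
functor ℋ^q_U, i.e. the q-th right derived functor of F ↦ j_*(F|_U), is isomorphic to F ↦ R^q
j_*(F|_U). (Existence of an isomorphism of functors for each q.) -/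
theorem result {X : TopCat.{u}} (U : Opens X) (q : ℕ) :
    Nonempty (CohCx.RpushOn (𝟙 X) U q ≅ CohTop.restrFunctor U ⋙ CohTop.Rpush (CohCx.incl U) q) := by
  have h1 : (CohTop.push (CohCx.incl U)).Additive := CohTop.instAdditiveAbPush _
  have h2 : (CohTop.restrFunctor U ⋙ CohTop.push (CohCx.incl U)).Additive := inferInstance
  have e : CohTop.restrFunctor U ⋙ CohTop.push (CohCx.incl U ≫ 𝟙 X) ≅
      CohTop.restrFunctor U ⋙ CohTop.push (CohCx.incl U) :=
    eqToIso (by rw [Category.comp_id])
  exact ⟨Sga4h.RDExact.congrIso e q ≪≫
    Sga4h.RDExact.preIso (CohTop.restrFunctor U) (CohTop.push (CohCx.incl U))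
      (fun I _ => CohtopA.RestrCoh.injective_restr _ I) q⟩

end Groth.Agent.S6040
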