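import Groth.Statements.S6045
import Groth.Agent.GrpQ.K185.EffMono
import Groth.Agent.GrpQ.K185.OpenDesc

set_option autoImplicit false
open CategoryTheory CategoryTheory.Limits AlgebraicGeometry
universe u
open GrpQ

namespace Groth.Agent.S6045

/-- Open immersions descend along the fpqc topology. For an fpqc covering family `f i : X i ⟶ S` of a
scheme `S`, every descent datum for schemes relative to the family all of whose members `Z i ⟶ X i`
are open immersions is effective. -/
theorem result {S : Scheme.{u}} {ι : Type u} {X : ι → Scheme.{u}}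
    (f : ∀ i, X i ⟶ S) (hf : Presieve.ofArrows X f ∈ Scheme.fpqcPrecoverage S)
    (D : Desc.SchDDFam f) (hD : ∀ i, IsOpenImmersion (D.obj i).hom) :
    D.IsEffective := by
  obtain ⟨O, h⟩ := K185.SubDesc.exists_open
    (K185.SubDesc.isFpqcLocal_famQ f fun i => (D.obj i).hom) f hf
    fun i => ⟨_, (D.obj i).hom, hD i, fun T x => K185.SubDesc.famQ_iff (K185.SubDesc.comp_of_ddFam D) x⟩
  refine K185.SubDesc.isEffective_of_mono D O.ι fun T x => (h x).trans ⟨fun hx => ?_, ?_⟩
  · have hx' : Set.range x ⊆ Set.range O.ι := by rwa [Scheme.Opens.range_ι]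
    exact ⟨IsOpenImmersion.lift O.ι x hx', IsOpenImmersion.lift_fac _ _ _⟩
  · rintro ⟨v, rfl⟩ _ ⟨t, rfl⟩
    rw [Scheme.Hom.comp_apply]
    exact (v t).2

end Groth.Agent.S6045
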