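import Groth.Statements.S6048
import Groth.Agent.ShfCat.K186.Exact
import Groth.Agent.ShfCat.K186.ExactSheaf
import Groth.Agent.ShfCat.K186.PbCrit

set_option autoImplicit false
open CategoryTheory CategoryTheory.Limits MonoidalCategory
universe w v₁ u₁
open ShfCat

namespace Groth.Agent.S6048

open CartesianMonoidalCategory SemiCartesianMonoidalCategory in
/-- For sheaves of sets on a site with sheafification: let `p₁, p₂ : R ⇉ X` be an equivalence relation
of sheaves with universally effective quotient `π : X ⟶ X/R` and `Y` a sheaf. (a) A subsheaf `Z ⊆ X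
× Y` stable under `R × Y`, covering `Y`, and any two of whose points over the same point of `Y` are
`R`-related, is the pullback of `π` along exactly one `f : Y ⟶ X/R`; (b) every `f : Y ⟶ X/R` arises
in this way. -/
theorem result {C : Type u₁} [Category.{v₁} C]
    (J : GrothendieckTopology C) [HasSheafify J (Type w)]
    {R X : Sheaf J (Type w)} {p₁ p₂ : R ⟶ X}
    (e : UniversallyEffectiveEquivalenceRelation p₁ p₂) (Y : Sheaf J (Type w)) :
    (∀ (Z : Sheaf J (Type w)) (ι : Z ⟶ X ⊗ Y), Mono ι →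
      (∀ (W : Sheaf J (Type w)) (r : W ⟶ R) (y : W ⟶ Y),
        (∃ z : W ⟶ Z, z ≫ ι = lift (r ≫ p₁) y) ↔ (∃ z : W ⟶ Z, z ≫ ι = lift (r ≫ p₂) y)) →
      Epi (ι ≫ snd X Y) →
      (∀ (W : Sheaf J (Type w)) (z₁ z₂ : W ⟶ Z), z₁ ≫ ι ≫ snd X Y = z₂ ≫ ι ≫ snd X Y →
        ∃ r : W ⟶ R, r ≫ p₁ = z₁ ≫ ι ≫ fst X Y ∧ r ≫ p₂ = z₂ ≫ ι ≫ fst X Y) →
      ∃! f : Y ⟶ e.B, IsPullback (ι ≫ fst X Y) (ι ≫ snd X Y) e.π f) ∧
    (∀ f : Y ⟶ e.B, ∃ (Z : Sheaf J (Type w)) (ι : Z ⟶ X ⊗ Y), Mono ι ∧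
      (∀ (W : Sheaf J (Type w)) (r : W ⟶ R) (y : W ⟶ Y),
        (∃ z : W ⟶ Z, z ≫ ι = lift (r ≫ p₁) y) ↔ (∃ z : W ⟶ Z, z ≫ ι = lift (r ≫ p₂) y)) ∧
      Epi (ι ≫ snd X Y) ∧
      (∀ (W : Sheaf J (Type w)) (z₁ z₂ : W ⟶ Z), z₁ ≫ ι ≫ snd X Y = z₂ ≫ ι ≫ snd X Y →
        ∃ r : W ⟶ R, r ≫ p₁ = z₁ ≫ ι ≫ fst X Y ∧ r ≫ p₂ = z₂ ≫ ι ≫ fst X Y) ∧
      IsPullback (ι ≫ fst X Y) (ι ≫ snd X Y) e.π f) := by
  refine ⟨?_, ?_⟩
  · intro Z ι hι hst hepi hrel
    have hcov : Epi (ι ≫ snd X Y) := hepi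
    obtain ⟨f, hf⟩ : ∃ f : Y ⟶ e.B, (ι ≫ snd X Y) ≫ f = (ι ≫ fst X Y) ≫ e.π := by
      apply K186.Exact.exists_desc
      intro T a b hab
      obtain ⟨r, hr₁, hr₂⟩ := hrel T a b hab
      have := r ≫= e.isKernelPair.w
      rw [reassoc_of% hr₁, reassoc_of% hr₂] at this
      simpa using this
    refine ⟨f, K186.PbCrit.isPullback_of_exists hf.symm ?_ ?_, ?_⟩
    · intro T a b h₁ h₂
      rw [← cancel_mono ι]
      apply CartesianMonoidalCategory.hom_ext
      · simpa using h₁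
      · simpa using h₂
    · intro T x y hxy
      obtain ⟨T', p, z, hp, hz⟩ := K186.Exact.exists_lift (ι ≫ snd X Y) y
      have h₁ : (z ≫ ι ≫ fst X Y) ≫ e.π = (p ≫ x) ≫ e.π := by
        have hf' := z ≫= hf
        simp only [Category.assoc] at hf' ⊢
        rw [← hf', reassoc_of% hz, hxy]
      let r : T' ⟶ R := e.isKernelPair.lift _ _ h₁
      have hr₁ : r ≫ p₁ = z ≫ ι ≫ fst X Y := e.isKernelPair.lift_fst _ _ _
      have hr₂ : r ≫ p₂ = p ≫ x := e.isKernelPair.lift_snd _ _ _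
      obtain ⟨z', hz'⟩ := (hst T' r (p ≫ y)).1 ⟨z, by
        apply CartesianMonoidalCategory.hom_ext
        · rw [lift_fst, hr₁, Category.assoc]
        · rw [lift_snd, Category.assoc, hz]⟩
      rw [hr₂, ← comp_lift] at hz'
      obtain ⟨s, hs⟩ := K186.Exact.exists_factor_of_epi p ι (lift x y) z' hz'.symm
      refine ⟨s, ?_, ?_⟩
      · rw [reassoc_of% hs, lift_fst]
      · rw [reassoc_of% hs, lift_snd]
    · intro f' hf'
      rw [← cancel_epi (ι ≫ snd X Y), hf, hf'.w]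
  · intro f
    have hpb := IsPullback.of_hasPullback e.π f
    refine ⟨pullback e.π f, lift (pullback.fst e.π f) (pullback.snd e.π f), ?_, ?_, ?_, ?_, ?_⟩
    · constructor
      intro T a b hab
      apply pullback.hom_ext
      · simpa using hab =≫ fst X Y
      · simpa using hab =≫ snd X Y
    · have key : ∀ (W : Sheaf J (Type w)) (x : W ⟶ X) (y : W ⟶ Y),
          (∃ z : W ⟶ pullback e.π f, z ≫ lift (pullback.fst e.π f) (pullback.snd e.π f) =
            lift x y) ↔ x ≫ e.π = y ≫ f := by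
        intro W x y
        constructor
        · rintro ⟨z, hz⟩
          have h₁ : z ≫ pullback.fst e.π f = x := by simpa using hz =≫ fst X Y
          have h₂ : z ≫ pullback.snd e.π f = y := by simpa using hz =≫ snd X Y
          rw [← h₁, ← h₂, Category.assoc, Category.assoc, pullback.condition]
        · intro h
          refine ⟨pullback.lift x y h, ?_⟩
          rw [comp_lift, pullback.lift_fst, pullback.lift_snd]
      intro W r y
      rw [key, key, Category.assoc, Category.assoc, e.isKernelPair.w]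
    · rw [lift_snd]
      infer_instance
    · intro W z₁ z₂ h
      rw [lift_snd] at h
      refine ⟨e.isKernelPair.lift (z₁ ≫ pullback.fst e.π f) (z₂ ≫ pullback.fst e.π f) ?_, ?_, ?_⟩
      · rw [Category.assoc, Category.assoc, pullback.condition, reassoc_of% h]
      · rw [e.isKernelPair.lift_fst, lift_fst]
      · rw [e.isKernelPair.lift_snd, lift_fst]
    · rw [lift_fst, lift_snd]
      exact hpb

end Groth.Agent.S6048
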