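import Groth.Statements.S6056
-- import your own Groth.Agent.* helpers here
import Groth.Agent.RedSub.K197.QuotPts
import Groth.Agent.S0114
import Groth.Agent.Sga3C.FlatOfComp

set_option autoImplicit false
open CategoryTheory CategoryTheory.Limits AlgebraicGeometry MonoidalCategory
universe u
open RedSub

namespace Groth.Agent.S6056

open MonObj CartesianMonoidalCategory SemiCartesianMonoidalCategory in
/-- For group schemes and fppf quotients: let `K ⊆ G` be a subgroup scheme and `H ⊆ K` a subgroup scheme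
normal in `K`; suppose `G/H` is represented by `q_H : G ⟶ Q_H` and `K/H` by a homomorphism `K ⟶ K'`
of group schemes, and let `act : Q_H ×_S K' ⟶ Q_H` be the right action induced by the multiplication
of `G`. Then: (i) if `G/K` is represented by `q_K : G ⟶ Q_K`, the map `Q_H ⟶ Q_K` under `G` is an
fppf covering whose kernel pair is `Q_H ×_S K' ⇉ Q_H` (projection, action), i.e. `Q_K =
(G/H)/(K/H)`; (ii) conversely, if `p : Q_H ⟶ Y` is an fppf covering with that kernel pair, then `q_H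
≫ p` represents `G/K`. -/
theorem result {S : Scheme.{u}} {H K G QH Kb : Over S}
    [hH : GrpObj H] [hK : GrpObj K] [hG : GrpObj G] [hKb : GrpObj Kb]
    (h : H ⟶ K) (k : K ⟶ G) [Mono h] [Mono k] [IsMonHom h] [IsMonHom k]
    (hn : AlgGrp.IsNormalHom h)
    (qH : G ⟶ QH) (hqH : RedSub.IsQuotient (h ≫ k) qH)
    (qKb : K ⟶ Kb) [IsMonHom qKb] (hqKb : RedSub.IsQuotient h qKb)
    (act : QH ⊗ Kb ⟶ QH) (hact : (qH ⊗ₘ qKb) ≫ act = (G ◁ k) ≫ μ[G] ≫ qH) :
    (∀ (QK : Over S) (qK : G ⟶ QK), RedSub.IsQuotient k qK →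
      ∀ qbar : QH ⟶ QK, qH ≫ qbar = qK →
        Surjective qbar.left ∧ Flat qbar.left ∧ LocallyOfFinitePresentation qbar.left ∧
          IsPullback (fst QH Kb) act qbar qbar) ∧
    (∀ (Y : Over S) (p : QH ⟶ Y),
      Surjective p.left → Flat p.left → LocallyOfFinitePresentation p.left →
      IsPullback (fst QH Kb) act p p → RedSub.IsQuotient k (qH ≫ p)) := by
  have act_pts : ∀ {T : Over S} (g : T ⟶ G) (κ : T ⟶ K),
      lift (g ≫ qH) (κ ≫ qKb) ≫ act = (g * (κ ≫ k)) ≫ qH := by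
    intro T g κ
    rw [← lift_map, Category.assoc, hact, ← K197.QuotPts.lift_whisker_mul, Category.assoc,
      Category.assoc]
  have act_inj : ∀ {T : Over S} (x : T ⟶ QH) (b b' : T ⟶ Kb),
      lift x b ≫ act = lift x b' ≫ act → b = b' := by
    intro T x b b' hb
    obtain ⟨T1, c1, g, hc1, hg⟩ := K197.Fppf.exists_lift_local (K197.QuotPts.isCov hqH) x
    obtain ⟨T2, c2, κ, hc2, hκ⟩ := K197.Fppf.exists_lift_local (K197.QuotPts.isCov hqKb) (c1 ≫ b)
    obtain ⟨T3, c3, κ', hc3, hκ'⟩ :=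
      K197.Fppf.exists_lift_local (K197.QuotPts.isCov hqKb) (c2 ≫ c1 ≫ b')
    apply K197.Fppf.hom_ext (hc3.comp (hc2.comp hc1))
    have e1 : (c3 ≫ c2 ≫ c1) ≫ b = (c3 ≫ κ) ≫ qKb := by
      rw [Category.assoc, Category.assoc, Category.assoc, hκ]
    have e2 : (c3 ≫ c2 ≫ c1) ≫ b' = κ' ≫ qKb := by
      rw [hκ', Category.assoc, Category.assoc]
    have e3 : (c3 ≫ c2 ≫ c1) ≫ x = (c3 ≫ c2 ≫ g) ≫ qH := by
      rw [Category.assoc, Category.assoc, Category.assoc, Category.assoc, hg]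
    have h1 : ((c3 ≫ c2 ≫ g) * ((c3 ≫ κ) ≫ k)) ≫ qH = ((c3 ≫ c2 ≫ g) * (κ' ≫ k)) ≫ qH := by
      rw [← act_pts, ← act_pts, ← e1, ← e2, ← e3, ← comp_lift, ← comp_lift,
        Category.assoc _ _ act, Category.assoc _ _ act, hb]
    obtain ⟨w, hw⟩ := K197.QuotPts.exists_of_eq hqH _ _ h1
    rw [_root_.mul_assoc] at hw
    have h2 := mul_left_cancel hw
    have h3 : κ' = (c3 ≫ κ) * (w ≫ h) := by
      rw [← cancel_mono k, MonObj.mul_comp, h2, Category.assoc, Category.assoc]
    rw [e1, e2, h3, K197.QuotPts.mul_comp_eq hqKb]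
  constructor
  · intro QK qK hqK qbar hqbar
    obtain ⟨h1, h2, h3, h4⟩ := hqK
    have hqK : RedSub.IsQuotient k qK := ⟨h1, h2, h3, h4⟩
    obtain ⟨a1, a2, a3, -⟩ := id hqH
    have e : qH.left ≫ qbar.left = qK.left := by rw [← Over.comp_left, hqbar]
    have b1 : Surjective (qH.left ≫ qbar.left) := by rw [e]; exact h1
    have b2 : Flat (qH.left ≫ qbar.left) := by rw [e]; exact h2
    have b3 : LocallyOfFinitePresentation (qH.left ≫ qbar.left) := by rw [e]; exact h3
    refine ⟨Surjective.of_comp qH.left qbar.left, Sga3C.FlatOfComp.flat_of_comp qH.left qbar.left,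
      S0114.result qH.left qbar.left, K197.QuotPts.isPullback_of_pts ?_ ?_ ?_⟩
    · -- commutation
      obtain ⟨T1, c1, g, hc1, hg⟩ := K197.Fppf.exists_lift_local
        (K197.QuotPts.isCov hqH) (fst QH Kb)
      obtain ⟨T2, c2, κ, hc2, hκ⟩ := K197.Fppf.exists_lift_local
        (K197.QuotPts.isCov hqKb) (c1 ≫ snd QH Kb)
      apply K197.Fppf.hom_ext (hc2.comp hc1)
      have e1 : (c2 ≫ c1) = lift ((c2 ≫ g) ≫ qH) (κ ≫ qKb) := by
        apply CartesianMonoidalCategory.hom_ext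
        · rw [lift_fst, Category.assoc, Category.assoc, hg]
        · rw [lift_snd, Category.assoc, hκ]
      rw [← Category.assoc, ← Category.assoc, e1, lift_fst, act_pts, Category.assoc, hqbar,
        Category.assoc _ qH qbar, hqbar, K197.QuotPts.mul_comp_eq hqK]
    · intro T x y hxy
      obtain ⟨T1, c1, g, hc1, hg⟩ := K197.Fppf.exists_lift_local (K197.QuotPts.isCov hqH) x
      obtain ⟨T2, c2, g', hc2, hg'⟩ :=
        K197.Fppf.exists_lift_local (K197.QuotPts.isCov hqH) (c1 ≫ y)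
      have hc := hc2.comp hc1
      have h5 : (c2 ≫ g) ≫ qK = g' ≫ qK := by
        rw [← hqbar, ← Category.assoc, ← Category.assoc, hg', Category.assoc c2, hg,
          Category.assoc, Category.assoc, hxy, Category.assoc, Category.assoc]
      obtain ⟨κ, hκ⟩ := K197.QuotPts.exists_of_eq hqK _ _ h5
      have h6 : lift ((c2 ≫ c1) ≫ x) (κ ≫ qKb) ≫ act = (c2 ≫ c1) ≫ y := by
        have e1 : (c2 ≫ c1) ≫ x = (c2 ≫ g) ≫ qH := by
          rw [Category.assoc, Category.assoc, hg]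
        rw [e1, act_pts, ← hκ, hg', Category.assoc]
      obtain ⟨b, hb⟩ := K197.Fppf.exists_desc hc (κ ≫ qKb) (by
        intro Z u v huv
        apply act_inj (u ≫ (c2 ≫ c1) ≫ x)
        have h7 : u ≫ (c2 ≫ c1) ≫ x = v ≫ (c2 ≫ c1) ≫ x := by
          rw [← Category.assoc, huv, Category.assoc]
        have h8 : u ≫ (c2 ≫ c1) ≫ y = v ≫ (c2 ≫ c1) ≫ y := by
          rw [← Category.assoc, huv, Category.assoc]
        rw [← comp_lift, Category.assoc _ _ act, h6, h7, ← comp_lift, Category.assoc _ _ act, h6, h8])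
      refine ⟨lift x b, lift_fst _ _, ?_⟩
      apply K197.Fppf.hom_ext hc
      rw [← Category.assoc, comp_lift, hb, h6]
    · intro T a a' h5 h6
      have e1 : ∀ a : T ⟶ QH ⊗ Kb, a = lift (a ≫ fst _ _) (a ≫ snd _ _) := by
        intro a
        rw [← comp_lift, lift_fst_snd, Category.comp_id]
      rw [e1 a, e1 a', h5] at h6
      rw [e1 a, e1 a', h5, act_inj _ _ _ h6]
  · intro Y p hp1 hp2 hp3 hp
    have hcov : K197.Fppf.IsCov (qH ≫ p) := (K197.QuotPts.isCov hqH).comp ⟨hp1, hp2, hp3⟩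
    apply K197.QuotPts.isQuotient_of_pts hcov
    · intro T g κ
      rw [← Category.assoc, ← act_pts, Category.assoc, ← hp.w, lift_fst_assoc, Category.assoc]
    · intro T g g' hgg
      obtain ⟨l, h1, h2⟩ := hp.exists_lift (g ≫ qH) (g' ≫ qH) (by
        rw [Category.assoc, Category.assoc, hgg])
      obtain ⟨T1, c1, κ, hc1, hκ⟩ := K197.Fppf.exists_lift_local
        (K197.QuotPts.isCov hqKb) (l ≫ snd _ _)
      have e1 : c1 ≫ l = lift ((c1 ≫ g) ≫ qH) (κ ≫ qKb) := by
        apply CartesianMonoidalCategory.hom_ext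
        · rw [lift_fst, Category.assoc, h1, Category.assoc]
        · rw [lift_snd, Category.assoc, hκ]
      have h3 : ((c1 ≫ g) * (κ ≫ k)) ≫ qH = (c1 ≫ g') ≫ qH := by
        rw [← act_pts, ← e1, Category.assoc, h2, Category.assoc]
      obtain ⟨w, hw⟩ := K197.QuotPts.exists_of_eq hqH _ _ h3
      obtain ⟨l₀, hl₀⟩ := K197.Fppf.exists_desc_mono hc1 k (g⁻¹ * g') (κ * (w ≫ h)) (by
        rw [MonObj.mul_comp, MonObj.comp_mul, GrpObj.comp_inv, hw, Category.assoc]
        group)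
      exact ⟨l₀, by rw [hl₀]; group⟩

end Groth.Agent.S6056
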