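import Groth.Statements.S6057

set_option autoImplicit false
open CategoryTheory
universe v₁ u₁
open ShfCat

namespace Groth.Agent.S6057

/-- Let `S` be an object whose representable presheaf is a sheaf for `J` and `φ : F ⟶ h_S` a morphism of
presheaves of sets. The relative presheaf on `C/S` (sections of `F` over `T` lying over the given `T
⟶ S`) is separated (resp. a sheaf) for the induced topology on `C/S` if and only if `F` is separated
(resp. a sheaf). -/
theorem result {C : Type u₁} [Category.{v₁} C] (J : GrothendieckTopology C)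
    {S : C} (hS : Presieve.IsSheaf J (yoneda.obj S)) {F : Cᵒᵖ ⥤ Type v₁} (φ : F ⟶ yoneda.obj S) :
    (Presieve.IsSeparated (J.over S) (ShfCat.relPsh φ) ↔ Presieve.IsSeparated J F) ∧
    (Presieve.IsSheaf (J.over S) (ShfCat.relPsh φ) ↔ Presieve.IsSheaf J F) := by
  have hSs : Presieve.IsSeparated J (yoneda.obj S) := hS.isSeparated
  -- separatedness passes to the relative presheaf
  have sep₁ : Presieve.IsSeparated J F → Presieve.IsSeparated (J.over S) (ShfCat.relPsh φ) := by
    intro hF Y R hR x t₁ t₂ h₁ h₂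
    apply Subtype.ext
    refine hF (Sieve.overEquiv Y R) ((J.mem_over_iff R).1 hR)
      (fun Z f _ => F.map f.op t₁.1) t₁.1 t₂.1 (fun Z f _ => rfl) ?_
    intro Z f hf
    rw [Sieve.overEquiv_iff] at hf
    have e₁ := congr_arg Subtype.val (h₁ _ hf)
    have e₂ := congr_arg Subtype.val (h₂ _ hf)
    exact e₂.trans e₁.symm
  -- separatedness descends from the relative presheaf
  have sep₂ : Presieve.IsSeparated (J.over S) (ShfCat.relPsh φ) → Presieve.IsSeparated J F := by
    intro hF T R hR x t₁ t₂ h₁ h₂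
    have e : φ.app _ t₁ = φ.app _ t₂ := by
      refine hSs R hR (fun Z f hf => φ.app _ (x f hf)) _ _ ?_ ?_
      · intro Z f hf
        exact (NatTrans.naturality_apply φ f.op t₁).symm.trans (congr_arg (φ.app _) (h₁ f hf))
      · intro Z f hf
        exact (NatTrans.naturality_apply φ f.op t₂).symm.trans (congr_arg (φ.app _) (h₂ f hf))
    let Y : Over S := Over.mk (φ.app _ t₁ : T ⟶ S)
    let s₁ : (ShfCat.relPsh φ).obj (Opposite.op Y) := ⟨t₁, rfl⟩
    let s₂ : (ShfCat.relPsh φ).obj (Opposite.op Y) := ⟨t₂, e.symm⟩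
    have key : s₁ = s₂ := by
      refine hF ((Sieve.overEquiv Y).symm R) (J.overEquiv_symm_mem_over Y R hR)
        (fun Z f _ => (ShfCat.relPsh φ).map f.op s₁) s₁ s₂ (fun Z f _ => rfl) ?_
      intro Z f hf
      apply Subtype.ext
      exact (h₂ f.left hf).trans (h₁ f.left hf).symm
    exact congr_arg Subtype.val key
  refine ⟨⟨sep₂, sep₁⟩, ⟨fun H => ?_, fun H => ?_⟩⟩
  · intro T R hR x hx
    obtain ⟨t, ht, -⟩ := hS R hR (fun Z f hf => φ.app _ (x f hf)) (by
      intro Y₁ Y₂ Z g₁ g₂ f₁ f₂ h₁ h₂ hg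
      exact (NatTrans.naturality_apply φ g₁.op _).symm.trans
        ((congr_arg (φ.app _) (hx g₁ g₂ h₁ h₂ hg)).trans (NatTrans.naturality_apply φ g₂.op _)))
    let Y : Over S := Over.mk (t : T ⟶ S)
    have hY : ∀ ⦃Z : Over S⦄ (f : Z ⟶ Y) (hf : R f.left),
        φ.app _ (x f.left hf) = Z.hom := fun Z f hf =>
      (ht f.left hf).symm.trans (Over.w f)
    obtain ⟨s, hs, -⟩ := H ((Sieve.overEquiv Y).symm R) (J.overEquiv_symm_mem_over Y R hR)
      (fun Z f hf => (⟨x f.left hf, hY f hf⟩ : ShfCat.RelSections φ Z)) (by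
        intro Y₁ Y₂ Z g₁ g₂ f₁ f₂ h₁ h₂ hg
        apply Subtype.ext
        exact hx g₁.left g₂.left h₁ h₂ (congr_arg CommaMorphism.left hg))
    refine ⟨s.1, ?_, ?_⟩
    · intro Z f hf
      exact congr_arg Subtype.val (hs (Over.homMk f : Over.mk (f ≫ Y.hom) ⟶ Y) hf)
    · intro s' hs'
      refine sep₂ H.isSeparated R hR x _ _ hs' ?_
      intro Z f hf
      exact congr_arg Subtype.val (hs (Over.homMk f : Over.mk (f ≫ Y.hom) ⟶ Y) hf)
  · intro Y R hR x hx
    have hR' := (J.mem_over_iff R).1 hR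
    obtain ⟨t, ht, -⟩ := H (Sieve.overEquiv Y R) hR'
      (fun Z f hf => (x (Over.homMk f : Over.mk (f ≫ Y.hom) ⟶ Y)
        ((Sieve.overEquiv_iff R f).1 hf)).1) (by
        intro Y₁ Y₂ Z g₁ g₂ f₁ f₂ h₁ h₂ hg
        have h := hx (Y₁ := Over.mk (f₁ ≫ Y.hom)) (Y₂ := Over.mk (f₂ ≫ Y.hom))
          (Z := Over.mk (g₁ ≫ f₁ ≫ Y.hom))
          (Over.homMk g₁ : Over.mk (g₁ ≫ f₁ ≫ Y.hom) ⟶ Over.mk (f₁ ≫ Y.hom))
          (Over.homMk g₂ (by simp [reassoc_of% hg]) :
            Over.mk (g₁ ≫ f₁ ≫ Y.hom) ⟶ Over.mk (f₂ ≫ Y.hom))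
          ((Sieve.overEquiv_iff R f₁).1 h₁) ((Sieve.overEquiv_iff R f₂).1 h₂)
          (by ext; simpa using hg)
        exact congr_arg Subtype.val h)
    have htY : φ.app _ t = Y.hom := by
      refine hSs (Sieve.overEquiv Y R) hR' (fun Z f _ => f ≫ Y.hom) _ _ ?_ ?_
      · intro Z f hf
        refine (NatTrans.naturality_apply φ f.op t).symm.trans ?_
        refine (congr_arg (φ.app _) (ht f hf)).trans ?_
        exact (x (Over.homMk f : Over.mk (f ≫ Y.hom) ⟶ Y) ((Sieve.overEquiv_iff R f).1 hf)).2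
      · intro Z f hf
        rfl
    have hs : Presieve.FamilyOfElements.IsAmalgamation x
        (⟨t, htY⟩ : (ShfCat.relPsh φ).obj (Opposite.op Y)) := by
      intro Z f hf
      have hf' : R (Over.homMk f.left : Over.mk (f.left ≫ Y.hom) ⟶ Y) := by
        have e : (Over.homMk f.left : Over.mk (f.left ≫ Y.hom) ⟶ Y) =
            (Over.homMk (𝟙 Z.left) (by simp) : Over.mk (f.left ≫ Y.hom) ⟶ Z) ≫ f := by
          ext
          simp
        rw [e]
        exact R.downward_closed hf _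
      apply Subtype.ext
      have h₁ := ht f.left ((Sieve.overEquiv_iff R f.left).2 hf')
      refine h₁.trans ?_
      have h₂ := hx (Y₁ := Over.mk (f.left ≫ Y.hom)) (Y₂ := Z) (Z := Z)
        (Over.homMk (𝟙 Z.left) (by simp) : Z ⟶ Over.mk (f.left ≫ Y.hom)) (𝟙 Z) hf' hf
        (by ext; simp)
      have h₃ := congr_arg Subtype.val h₂
      have h₄ : F.map (𝟙 (Opposite.op Z.left))
          (x (Over.homMk f.left : Over.mk (f.left ≫ Y.hom) ⟶ Y) hf').1 =
          F.map (𝟙 (Opposite.op Z.left)) (x f hf).1 := h₃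
      rw [F.map_id] at h₄
      exact h₄
    refine ⟨_, hs, ?_⟩
    intro s' hs'
    exact sep₁ H.isSeparated R hR x _ _ hs' hs

end Groth.Agent.S6057
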