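import Groth.Statements.S6060
import Groth.Agent.SGA3x.K12.CentNhd

set_option autoImplicit false
open CategoryTheory MonoidalCategory CartesianMonoidalCategory MonObj GrpObj AlgebraicGeometry
universe u
open SGA3x

namespace Groth.Agent.S6060

/-- Let G be an S-group, suppose S locally Noetherian or G of finite presentation over S, and let i₁ :
H₁ ⟶ G, i₂ : H₂ ⟶ G be two sub-group-schemes (homomorphisms which are immersions) of multiplicative
type and of finite type. Let s ∈ S be a point such that the fibre (H₁)_s is central in G_s (every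
point of G_s commutes with every point of (H₁)_s) and (H₁)_s = (H₂)_s as subgroups of G_s (an
isomorphism of the fibres compatible with the inclusions). Then there is an open neighbourhood U of
s such that H₁|_U = H₂|_U as subgroups of G|_U. -/
theorem result {S : Scheme.{u}} (G H₁ H₂ : Over S) [GrpObj G] [GrpObj H₁] [GrpObj H₂]
    (hG : IsLocallyNoetherian S ∨ (LocallyOfFinitePresentation G.hom ∧ QuasiCompact G.hom ∧ QuasiSeparated G.hom))
    (h₁ : SGA3x.IsMultTypeFT H₁) (h₂ : SGA3x.IsMultTypeFT H₂)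
    (i₁ : H₁ ⟶ G) [IsMonHom i₁] [IsImmersion i₁.left] (i₂ : H₂ ⟶ G) [IsMonHom i₂] [IsImmersion i₂.left] (s : S)
    (hc : ∀ (X : Over (Spec (S.residueField s))) (g : X ⟶ Red.bc (S.fromSpecResidueField s) G)
      (h : X ⟶ Red.bc (S.fromSpecResidueField s) H₁),
      g * (h ≫ (Over.pullback (S.fromSpecResidueField s)).map i₁) = (h ≫ (Over.pullback (S.fromSpecResidueField s)).map i₁) * g)
    (hs : ∃ ψ : Red.bc (S.fromSpecResidueField s) H₁ ≅ Red.bc (S.fromSpecResidueField s) H₂,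
      ψ.hom ≫ (Over.pullback (S.fromSpecResidueField s)).map i₂ = (Over.pullback (S.fromSpecResidueField s)).map i₁) :
    ∃ U : S.Opens, s ∈ U ∧ ∃ ψ : Red.bc U.ι H₁ ≅ Red.bc U.ι H₂,
      ψ.hom ≫ (Over.pullback U.ι).map i₂ = (Over.pullback U.ι).map i₁ := by
  obtain ⟨ψ, hψ⟩ := hs
  have m₁ : Mono i₁ := Over.mono_of_mono_left _
  have m₂ : Mono i₂ := Over.mono_of_mono_left _
  have hψ' : ψ.inv ≫ (Over.pullback (S.fromSpecResidueField s)).map i₁ =
      (Over.pullback (S.fromSpecResidueField s)).map i₂ := by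
    rw [← hψ, Iso.inv_hom_id_assoc]
  have hc₁ : K12.Central.Cen i₁ (Over.mk (S.fromSpecResidueField s)) := (K12.Central.cen_mk_iff _ _).2 hc
  have hc₂ : K12.Central.Cen i₂ (Over.mk (S.fromSpecResidueField s)) := by
    rw [K12.Central.cen_mk_iff]
    intro X g h
    have h1 := hc X g (h ≫ ψ.inv)
    rwa [Category.assoc, hψ'] at h1
  obtain ⟨U₁, hU₁, hF₁⟩ := K12.CentNhd.exists_nhd_fac hG h₁ h₂ i₁ i₂ s hc₁
    ((K12.FacMono.fac_mk_iff _).2 ⟨ψ.hom, hψ⟩)
  obtain ⟨U₂, hU₂, hF₂⟩ := K12.CentNhd.exists_nhd_fac hG h₂ h₁ i₂ i₁ s hc₂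
    ((K12.FacMono.fac_mk_iff _).2 ⟨ψ.inv, hψ'⟩)
  let W : S.Opens := U₁ ⊓ U₂
  refine ⟨W, ⟨hU₁, hU₂⟩, K12.FacMono.exists_iso W.ι (hF₁.comp ?_) (hF₂.comp ?_)⟩
  · exact Over.homMk (S.homOfLE inf_le_left) (S.homOfLE_ι _)
  · exact Over.homMk (S.homOfLE inf_le_right) (S.homOfLE_ι _)

end Groth.Agent.S6060
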