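import Groth.Statements.S6065
import Groth.Agent.SGA3x.K12.DensePow
import Groth.Agent.SGA3x.K12.DenseRep

set_option autoImplicit false
open CategoryTheory MonoidalCategory CartesianMonoidalCategory MonObj GrpObj AlgebraicGeometry
universe u
open SGA3x

namespace Groth.Agent.S6065

open K12.DenseGeo K12.DenseRep K12.DensePow

open CategoryTheory.Limits in
theorem fac_iff {S X Y : Scheme.{u}} (f : X ⟶ S) (y : Y ⟶ X) {P' : Scheme.{u}} (p : P' ⟶ S) :
    Fac f (𝟙 S) (pullback.fst f (𝟙 S)) y p ↔ ∃ l : pullback f p ⟶ Y, l ≫ y = pullback.fst f p := by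
  constructor
  · intro h
    obtain ⟨l, hl⟩ := h (pullback f p) (pullback.fst f p) (pullback.snd f p) (by
      rw [Category.comp_id, pullback.condition])
    exact ⟨l, by rw [hl, pullback.lift_fst]⟩
  · rintro ⟨l, hl⟩ Q q1 q2 hq
    have hq' : q1 ≫ f = q2 ≫ p := by rw [hq, Category.comp_id]
    exact ⟨pullback.lift q1 q2 hq' ≫ l, by rw [Category.assoc, hl, pullback.lift_fst, pullback.lift_fst]⟩

open CategoryTheory.Limits in
theorem facN_iff {S X Y Z : Scheme.{u}} (f : X ⟶ S) (y : Y ⟶ X) (z : Z ⟶ X) {P' : Scheme.{u}} (p : P' ⟶ S) :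
    FacN f (𝟙 S) (pullback.fst f (𝟙 S)) y z p ↔
      ∃ l : pullback (z ≫ f) p ⟶ Y, l ≫ y = pullback.fst (z ≫ f) p ≫ z := by
  constructor
  · intro h
    obtain ⟨l, hl⟩ := h (pullback (z ≫ f) p) (pullback.fst (z ≫ f) p) (pullback.snd (z ≫ f) p) (by
      rw [Category.comp_id, Category.assoc, pullback.condition])
    exact ⟨l, by rw [hl, pullback.lift_fst]⟩
  · rintro ⟨l, hl⟩ Q q1 q2 hq
    have hq' : q1 ≫ z ≫ f = q2 ≫ p := by rw [← Category.assoc, hq, Category.comp_id]
    exact ⟨pullback.lift q1 q2 hq' ≫ l, by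
      rw [Category.assoc, hl, pullback.lift_fst, pullback.lift_fst_assoc]⟩

open CategoryTheory.Limits in
/-- Let S be a locally Noetherian scheme, H a commutative S-group which is of finite type over S, and E
a nonempty set of integers n > 0 stable under multiplication, such that: a) for every n ∈ E the
kernel ₙH of the n-th power map of H (the pullback of the unit section along that map) is finite and
flat over S; b) for every s ∈ S the family of fibres (ₙH)_s ⟶ H_s, n ∈ E, is schematically dense in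
H_s (a section of the structure sheaf of H_s over an open subset whose pullback to every (ₙH)_s
vanishes is zero). Let Y be a closed subscheme of H. Then the functor on S-schemes whose value at S'
⟶ S is a point when H ×_S S' ⟶ H factors through Y and empty otherwise is representable by a closed
subscheme T of S; and if S is Noetherian there is n ∈ E such that, for every S' ⟶ S, H ×_S S' ⟶ H
factors through Y if and only if ₙH ×_S S' ⟶ H does. -/
theorem result {S : Scheme.{u}} [IsLocallyNoetherian S]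
    (H : Over S) [GrpObj H] [IsCommMonObj H] [LocallyOfFiniteType H.hom] [QuasiCompact H.hom]
    (E : Set ℕ) (hE : E.Nonempty) (hE0 : ∀ n ∈ E, 0 < n) (hEmul : ∀ m ∈ E, ∀ n ∈ E, m * n ∈ E)
    (ha : ∀ n ∈ E, IsFinite ((pullback.snd η[H].left (𝟙 H ^ n : H ⟶ H).left) ≫ H.hom) ∧ Flat ((pullback.snd η[H].left (𝟙 H ^ n : H ⟶ H).left) ≫ H.hom))
    (hb : ∀ (s : S) (V : (H.hom.fiber s).Opens) (t : Γ(H.hom.fiber s, V)),
      (∀ n ∈ E, (MoreMor.fiberMap (pullback.snd η[H].left (𝟙 H ^ n : H ⟶ H).left) H.hom s).app V t = 0) → t = 0)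
    (Y : Scheme.{u}) (y : Y ⟶ H.left) [IsClosedImmersion y] :
    (∃ (T : Scheme.{u}) (t : T ⟶ S), IsClosedImmersion t ∧
      ∀ (S' : Scheme.{u}) (g : S' ⟶ S), (∃ g' : S' ⟶ T, g' ≫ t = g) ↔
        ∃ l : pullback H.hom g ⟶ Y, l ≫ y = pullback.fst H.hom g) ∧
    (AlgebraicGeometry.IsNoetherian S → ∃ n ∈ E, ∀ (S' : Scheme.{u}) (g : S' ⟶ S),
      (∃ l : pullback H.hom g ⟶ Y, l ≫ y = pullback.fst H.hom g) ↔
        ∃ l : pullback ((pullback.snd η[H].left (𝟙 H ^ n : H ⟶ H).left) ≫ H.hom) g ⟶ Y,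
          l ≫ y = pullback.fst ((pullback.snd η[H].left (𝟙 H ^ n : H ⟶ H).left) ≫ H.hom) g ≫ (pullback.snd η[H].left (𝟙 H ^ n : H ⟶ H).left)) := by
  let IX : Type u := ULift.{u} E
  let w : ∀ i : IX, pullback η[H].left (𝟙 H ^ i.down.1 : H ⟶ H).left ⟶ H.left := fun i => z H i.down.1
  have hfin : ∀ i : IX, IsFinite (w i ≫ H.hom) := fun i => (ha _ i.down.2).1
  have hflat : ∀ i : IX, Flat (w i ≫ H.hom) := fun i => (ha _ i.down.2).2
  have hd : FibDense H.hom w := fun s V t ht => hb s V t fun n hn => ht ⟨⟨n, hn⟩⟩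
  have hne : Nonempty IX := ⟨⟨⟨_, hE.some_mem⟩⟩⟩
  constructor
  · obtain ⟨T, t, ht, hT, -⟩ := exists_rep (f := H.hom) (b := 𝟙 S) (c := pullback.fst H.hom (𝟙 S)) (j := y)
      w hfin hflat hd
    exact ⟨T, t, ht, fun S' g => (hT S' g).trans (fac_iff _ _ _)⟩
  · intro hN
    obtain ⟨i, hi⟩ := exists_index (f := H.hom) (b := 𝟙 S) (c := pullback.fst H.hom (𝟙 S)) (j := y)
      w hfin hflat hd (by
        intro i k
        refine ⟨⟨⟨i.down.1 * k.down.1, hEmul _ i.down.2 _ k.down.2⟩⟩, exists_factor _ _, ?_⟩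
        have := exists_factor (H := H) k.down.1 i.down.1
        rwa [mul_comm] at this)
    exact ⟨i.down.1, i.down.2, fun S' g => ((fac_iff _ _ _).symm.trans (hi S' g)).trans (facN_iff _ _ _ _)⟩

end Groth.Agent.S6065
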