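import Groth.Statements.S6066
import Groth.Agent.SGA3x.K12.DensePow
import Groth.Agent.SGA3x.K12.DenseRep

set_option autoImplicit false
open CategoryTheory MonoidalCategory CartesianMonoidalCategory MonObj GrpObj AlgebraicGeometry
universe u
open SGA3x

namespace Groth.Agent.S6066

open K12.DenseGeo K12.DenseRep K12.DensePow

open CategoryTheory.Limits

section

variable {S : Scheme.{u}} (H G K : Over S) [GrpObj H] [GrpObj G] [GrpObj K] (u : H ⟶ G)
  (k : K ⟶ G)

/-- `H ×_S G` with its structure morphism. -/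
noncomputable abbrev Q0 : Over S := Over.mk (pullback.fst H.hom G.hom ≫ H.hom)

/-- The universal point of `H`. -/
noncomputable abbrev hU : Q0 H G ⟶ H := Over.homMk (pullback.fst H.hom G.hom) rfl

/-- The universal point of `G`. -/
noncomputable abbrev gU : Q0 H G ⟶ G := Over.homMk (pullback.snd H.hom G.hom) pullback.condition.symm

/-- `(h, g) ↦ g u(h) g⁻¹`. -/
noncomputable abbrev cj : Q0 H G ⟶ G := gU H G * (hU H G ≫ u) * (gU H G)⁻¹

variable {H G K u}

theorem cj_left {X' : Over S} (h : X' ⟶ H) (g : X' ⟶ G) (hq : h.left ≫ H.hom = g.left ≫ G.hom) :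
    pullback.lift h.left g.left hq ≫ (cj H G u).left = (g * (h ≫ u) * g⁻¹).left := by
  let φ : X' ⟶ Q0 H G := Over.homMk (pullback.lift h.left g.left hq) (by
    change pullback.lift h.left g.left hq ≫ pullback.fst _ _ ≫ H.hom = _
    rw [pullback.lift_fst_assoc]
    exact Over.w h)
  have h1 : φ ≫ hU H G = h := by
    ext1
    exact pullback.lift_fst _ _ _
  have h2 : φ ≫ gU H G = g := by
    ext1
    exact pullback.lift_snd _ _ _
  have h3 : φ ≫ cj H G u = g * (h ≫ u) * g⁻¹ := by
    rw [MonObj.comp_mul, MonObj.comp_mul, GrpObj.comp_inv, h2, ← Category.assoc, h1]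
  rw [← h3]
  rfl

theorem factor_iff {X' : Over S} (h : X' ⟶ H) (g : X' ⟶ G) (hq : h.left ≫ H.hom = g.left ≫ G.hom) :
    (∃ l : X'.left ⟶ K.left, l ≫ k.left = pullback.lift h.left g.left hq ≫ (cj H G u).left) ↔
      ∃ κ : X' ⟶ K, g * (h ≫ u) * g⁻¹ = κ ≫ k := by
  rw [cj_left]
  constructor
  · rintro ⟨l, hl⟩
    refine ⟨Over.homMk l ?_, ?_⟩
    · have h1 : k.left ≫ G.hom = K.hom := Over.w k
      rw [← h1, ← Category.assoc, hl]
      exact Over.w _
    · ext1
      exact hl.symm
  · rintro ⟨κ, hκ⟩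
    exact ⟨κ.left, by rw [hκ]; rfl⟩

theorem fac_iff {X : Over S} (g : X ⟶ G) :
    Fac H.hom G.hom (cj H G u).left k.left g.left ↔
      ∀ (X' : Over S) (x : X' ⟶ X) (h : X' ⟶ H), ∃ κ : X' ⟶ K, (x ≫ g) * (h ≫ u) * (x ≫ g)⁻¹ = κ ≫ k := by
  constructor
  · intro hF X' x h
    rw [← factor_iff k h (x ≫ g) ((Over.w h).trans (Over.w (x ≫ g)).symm)]
    exact hF X'.left h.left x.left ((Over.w h).trans (Over.w (x ≫ g)).symm)
  · intro hF Q q1 q2 hq
    let X' : Over S := Over.mk (q1 ≫ H.hom)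
    let h : X' ⟶ H := Over.homMk q1 rfl
    let x : X' ⟶ X := Over.homMk q2 (by
      change q2 ≫ X.hom = q1 ≫ H.hom
      rw [hq, Category.assoc, Over.w g])
    exact (factor_iff k h (x ≫ g) hq).2 (hF X' x h)

theorem facN_iff {X : Over S} (g : X ⟶ G) (n : ℕ) :
    FacN H.hom G.hom (cj H G u).left k.left (z H n) g.left ↔
      ∀ (X' : Over S) (x : X' ⟶ X) (h : X' ⟶ H), h ^ n = 1 →
        ∃ κ : X' ⟶ K, (x ≫ g) * (h ≫ u) * (x ≫ g)⁻¹ = κ ≫ k := by
  constructor
  · intro hF X' x h hn
    rw [← factor_iff k h (x ≫ g) ((Over.w h).trans (Over.w (x ≫ g)).symm)]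
    obtain ⟨l, hl⟩ := (pow_eq_one_iff h n).1 hn
    obtain ⟨m, hm⟩ := hF X'.left l x.left (by rw [hl]; exact (Over.w h).trans (Over.w (x ≫ g)).symm)
    exact ⟨m, by rw [hm]; congr 2⟩
  · intro hF Q q1 q2 hq
    let X' : Over S := Over.mk ((q1 ≫ z H n) ≫ H.hom)
    let h : X' ⟶ H := Over.homMk (q1 ≫ z H n) rfl
    let x : X' ⟶ X := Over.homMk q2 (by
      change q2 ≫ X.hom = (q1 ≫ z H n) ≫ H.hom
      rw [hq, Category.assoc, Over.w g])
    exact (factor_iff k h (x ≫ g) hq).2 (hF X' x h ((pow_eq_one_iff h n).2 ⟨q1, rfl⟩))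

end

open CategoryTheory.Limits in
/-- Let S be a locally Noetherian scheme, H a commutative S-group which is of finite type over S, and E
a nonempty set of integers n > 0 stable under multiplication such that a) every kernel ₙH of the
n-th power map (n ∈ E; the pullback of the unit section along that map) is finite and flat over S
and b) for every s ∈ S the family of fibres (ₙH)_s ⟶ H_s, n ∈ E, is schematically dense in H_s. Let
u : H ⟶ G be a homomorphism into an S-group G locally of finite type over S and k : K ⟶ G a closed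
sub-group-scheme. Then the transporter of u into K — the subfunctor of G of those points g, with
values in an S-scheme X, such that for every X' ⟶ X and every X'-valued point h of H the point g
u(h) g⁻¹ lies in K — is representable by a closed subscheme of G; and if the scheme G is Noetherian
there is n ∈ E such that a point g of G lies in the transporter if and only if g u(h) g⁻¹ lies in K
for all points h of H with h^n = 1. (The published statement is over an arbitrary base S and also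
asserts that the transporter is smooth over S when G is smooth, K is smooth or of multiplicative
type and the ₙH, n ∈ E, are of multiplicative type; this row assumes S locally Noetherian, the
setting in which the printed argument through the base G applies, and does not state the smoothness
assertion.) -/
theorem result {S : Scheme.{u}} [IsLocallyNoetherian S]
    (H : Over S) [GrpObj H] [IsCommMonObj H] [LocallyOfFiniteType H.hom] [QuasiCompact H.hom]
    (E : Set ℕ) (hE : E.Nonempty) (hE0 : ∀ n ∈ E, 0 < n) (hEmul : ∀ m ∈ E, ∀ n ∈ E, m * n ∈ E)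
    (ha : ∀ n ∈ E, IsFinite ((pullback.snd η[H].left (𝟙 H ^ n : H ⟶ H).left) ≫ H.hom) ∧ Flat ((pullback.snd η[H].left (𝟙 H ^ n : H ⟶ H).left) ≫ H.hom))
    (hb : ∀ (s : S) (V : (H.hom.fiber s).Opens) (t : Γ(H.hom.fiber s, V)),
      (∀ n ∈ E, (MoreMor.fiberMap (pullback.snd η[H].left (𝟙 H ^ n : H ⟶ H).left) H.hom s).app V t = 0) → t = 0)
    (G K : Over S) [GrpObj G] [GrpObj K] [LocallyOfFiniteType G.hom] (u : H ⟶ G) [IsMonHom u]
    (k : K ⟶ G) [IsMonHom k] [IsClosedImmersion k.left] :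
    (∃ (T : Over S) (j : T ⟶ G), IsClosedImmersion j.left ∧
      ∀ (X : Over S) (g : X ⟶ G), (∃ t : X ⟶ T, t ≫ j = g) ↔
        ∀ (X' : Over S) (x : X' ⟶ X) (h : X' ⟶ H), ∃ κ : X' ⟶ K, (x ≫ g) * (h ≫ u) * (x ≫ g)⁻¹ = κ ≫ k) ∧
    (AlgebraicGeometry.IsNoetherian G.left → ∃ n ∈ E, ∀ (X : Over S) (g : X ⟶ G),
      (∀ (X' : Over S) (x : X' ⟶ X) (h : X' ⟶ H), ∃ κ : X' ⟶ K, (x ≫ g) * (h ≫ u) * (x ≫ g)⁻¹ = κ ≫ k) ↔
        ∀ (X' : Over S) (x : X' ⟶ X) (h : X' ⟶ H), h ^ n = 1 → ∃ κ : X' ⟶ K, (x ≫ g) * (h ≫ u) * (x ≫ g)⁻¹ = κ ≫ k) := by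
  let IX : Type u := ULift.{u} E
  let w : ∀ i : IX, pullback η[H].left (𝟙 H ^ i.down.1 : H ⟶ H).left ⟶ H.left := fun i => z H i.down.1
  have hfin : ∀ i : IX, IsFinite (w i ≫ H.hom) := fun i => (ha _ i.down.2).1
  have hflat : ∀ i : IX, Flat (w i ≫ H.hom) := fun i => (ha _ i.down.2).2
  have hd : FibDense H.hom w := fun s V t ht => hb s V t fun n hn => ht ⟨⟨n, hn⟩⟩
  have hne : Nonempty IX := ⟨⟨⟨_, hE.some_mem⟩⟩⟩
  have hN0 : IsLocallyNoetherian G.left := LocallyOfFiniteType.isLocallyNoetherian G.hom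
  constructor
  · obtain ⟨T, t, ht, hT, -⟩ := exists_rep (f := H.hom) (b := G.hom) (c := (cj H G u).left) (j := k.left)
      w hfin hflat hd
    refine ⟨Over.mk (t ≫ G.hom), Over.homMk t rfl, ht, fun X g => ?_⟩
    rw [← fac_iff, ← hT]
    constructor
    · rintro ⟨a, rfl⟩
      exact ⟨a.left, rfl⟩
    · rintro ⟨a, ha⟩
      refine ⟨Over.homMk a ?_, ?_⟩
      · change a ≫ t ≫ G.hom = X.hom
        rw [← Category.assoc, ha]
        exact Over.w g
      · ext1
        exact ha
  · intro hN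
    obtain ⟨i, hi⟩ := exists_index (f := H.hom) (b := G.hom) (c := (cj H G u).left) (j := k.left)
      w hfin hflat hd (by
        intro i k
        refine ⟨⟨⟨i.down.1 * k.down.1, hEmul _ i.down.2 _ k.down.2⟩⟩, exists_factor _ _, ?_⟩
        have := exists_factor (H := H) k.down.1 i.down.1
        rwa [mul_comm] at this)
    exact ⟨i.down.1, i.down.2, fun X g => ((fac_iff k g).symm.trans (hi X.left g.left)).trans (facN_iff k g _)⟩

end Groth.Agent.S6066
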