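import Groth.Statements.S6067
import Groth.Agent.SGA3x.K13.Transp

set_option autoImplicit false
open CategoryTheory MonoidalCategory CartesianMonoidalCategory MonObj GrpObj AlgebraicGeometry
universe u
open SGA3x

namespace Groth.Agent.S6067

/-- Connectedness of the scheme-theoretic fibre is connectedness of the set-theoretic fibre. -/
theorem isConnected_fibre {X S : Scheme.{u}} (f : X ⟶ S) (s : S)
    (h : ConnectedSpace ↥(Limits.pullback f (S.fromSpecResidueField s))) :
    _root_.IsConnected (f.base ⁻¹' {s}) := by
  have h1 : ConnectedSpace ↥(f.fiber s) := h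
  exact isConnected_iff_connectedSpace.mpr
    ((f.fiberHomeo s).surjective.connectedSpace (f.fiberHomeo s).continuous)

/-- Transporter: Let G be an S-group locally of finite type and quasi-separated over S, H an S-group
which is smooth and of finite presentation over S with connected fibres, i : H ⟶ G a homomorphism
which is a monomorphism, and j : K ⟶ G a homomorphism of S-groups which is a monomorphism of finite
presentation. Then the transporter of H into K — the subfunctor of G of those points g, with values
in an S-scheme X, such that for every X' ⟶ X and every X'-valued point h of H the point g i(h) g⁻¹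
lies in K — is representable by a closed subscheme of G whose immersion into G is of finite
presentation. -/
theorem result {S : Scheme.{u}} (G H K : Over S) [GrpObj G] [GrpObj H] [GrpObj K]
    [LocallyOfFiniteType G.hom] [QuasiSeparated G.hom] [Smooth H.hom] [QuasiCompact H.hom] [QuasiSeparated H.hom]
    (hconn : ∀ s : S, ConnectedSpace ↥(Limits.pullback H.hom (S.fromSpecResidueField s)))
    (i : H ⟶ G) [IsMonHom i] [Mono i] (j : K ⟶ G) [IsMonHom j] [Mono j]
    [LocallyOfFinitePresentation j.left] [QuasiCompact j.left] [QuasiSeparated j.left] :
    ∃ (T : Over S) (t : T ⟶ G), IsClosedImmersion t.left ∧ LocallyOfFinitePresentation t.left ∧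
      ∀ (X : Over S) (g : X ⟶ G), (∃ x : X ⟶ T, x ≫ t = g) ↔
        ∀ (X' : Over S) (x : X' ⟶ X) (h : X' ⟶ H), ∃ κ : X' ⟶ K, (x ≫ g) * (h ≫ i) * (x ≫ g)⁻¹ = κ ≫ j := by
  have hirr : GeometricallyIrreducible H.hom := by
    have : GrpObj (Over.mk H.hom) := inferInstanceAs (GrpObj H)
    exact Groth.Agent.Sga3C.GrpIrr.geometricallyIrreducible_of_connected_fibres H.hom
      (fun s => isConnected_fibre H.hom s (hconn s))
  exact K13.Transp.exists_transporter i j

end Groth.Agent.S6067
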