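import Groth.Statements.S6071
import Groth.Agent.SGA3b.K202.SubringDesc

set_option autoImplicit false
universe u
open TensorProduct SGA3b
open SGA3b

namespace Groth.Agent.S6071

/-- Let A be a ring which is the union of a directed family of subrings A_i, and H = Spec C an A-group
of multiplicative type and of finite type which is quasi-isotrivial (resp. isotrivial). Then there
are an index i and an A_i-group H_i = Spec C_i of multiplicative type and of finite type,
quasi-isotrivial (resp. isotrivial), such that H ≅ H_i ×_{A_i} A as A-groups: a bialgebra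
isomorphism A ⊗_{A_i} C_i ≅ C (existence of an isomorphism; the descended group is not unique).
(Affine group schemes over an affine base are taken in Hopf-algebra form; base change is the tensor
product.) -/
theorem result (A : Type u) [CommRing A] {ι : Type u} [Preorder ι] [IsDirected ι (· ≤ ·)] [Nonempty ι]
    (B : ι → Subring A) (hmono : Monotone B) (hsup : ⨆ i, B i = ⊤)
    (C : Type u) [CommRing C] [HopfAlgebra A C] (hft : Algebra.FiniteType A C) :
    (IsQuasiIsotrivial A C → ∃ (i : ι) (Ci : Type u) (_ : CommRing Ci) (_ : HopfAlgebra (B i) Ci),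
      Algebra.FiniteType (B i) Ci ∧ IsQuasiIsotrivial (B i) Ci ∧ Nonempty ((A ⊗[B i] Ci) ≃ₐc[A] C)) ∧
    (IsIsotrivial A C → ∃ (i : ι) (Ci : Type u) (_ : CommRing Ci) (_ : HopfAlgebra (B i) Ci),
      Algebra.FiniteType (B i) Ci ∧ IsIsotrivial (B i) Ci ∧ Nonempty ((A ⊗[B i] Ci) ≃ₐc[A] C)) := by
  refine ⟨fun h => K202.SubringDesc.exists_isQuasiIsotrivial hmono hsup C h, fun h => ?_⟩
  cases subsingleton_or_nontrivial A with
  | inr hA => exact K202.SubringDesc.exists_isIsotrivial hmono hsup C h
  | inl hA =>
    -- over the zero ring everything is trivial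
    obtain ⟨i⟩ := ‹Nonempty ι›
    have hB : Subsingleton (B i) := ⟨fun a b => Subtype.ext (Subsingleton.elim _ _)⟩
    have hC : Subsingleton C := Module.subsingleton A C
    have hd : IsDiag (B i) (B i) := by
      have h1 : Subsingleton (MonoidAlgebra (B i) PUnit.{u + 1}) := Module.subsingleton (B i) _
      let f : MonoidAlgebra (B i) PUnit.{u + 1} →ₐc[B i] B i := Bialgebra.counitBialgHom (B i) _
      exact ⟨PUnit.{u + 1}, inferInstance, ⟨(BialgEquiv.ofBijective f
        ⟨Function.injective_of_subsingleton _, fun x => ⟨0, Subsingleton.elim _ _⟩⟩).symm⟩⟩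
    have hd' : IsDiag (B i) (B i ⊗[B i] B i) := by
      obtain ⟨M, iM, ⟨e⟩⟩ := hd
      have h1 : Subsingleton (B i ⊗[B i] B i) := Module.subsingleton (B i) _
      have h2 : Subsingleton (MonoidAlgebra (B i) M) := Module.subsingleton (B i) _
      let f : B i ⊗[B i] B i →ₐc[B i] MonoidAlgebra (B i) M :=
        (Bialgebra.unitBialgHom (B i) _).comp (Bialgebra.counitBialgHom (B i) _)
      exact ⟨M, iM, ⟨BialgEquiv.ofBijective f
        ⟨Function.injective_of_subsingleton _, fun x => ⟨0, Subsingleton.elim _ _⟩⟩⟩⟩
    refine ⟨i, B i, inferInstance, inferInstance, inferInstance,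
      ⟨B i, inferInstance, inferInstance, inferInstance, inferInstance, inferInstance, hd'⟩, ?_⟩
    have h1 : Subsingleton (A ⊗[B i] B i) := Module.subsingleton A _
    let f : A ⊗[B i] B i →ₐc[A] C := (Bialgebra.unitBialgHom A _).comp (Bialgebra.counitBialgHom A _)
    exact ⟨BialgEquiv.ofBijective f
        ⟨Function.injective_of_subsingleton _, fun x => ⟨0, Subsingleton.elim _ _⟩⟩⟩

end Groth.Agent.S6071
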