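import Groth.Statements.S6072
import Groth.Agent.Sga3A.LiftHens
import Groth.Agent.S0532
import Groth.Agent.S2974
import Groth.Agent.Sga3A.LiftMain

set_option autoImplicit false
universe u
open TensorProduct SGA3b
open SGA3b

namespace Groth.Agent.S6072

theorem lift_of_henselian (R : Type u) [CommRing R] (I : Ideal R) [HenselianRing R I]
    (A₀ : Type u) [CommRing A₀] [HopfAlgebra (R ⧸ I) A₀] (h0 : IsIsotrivial (R ⧸ I) A₀) :
    ∃ (A : Type u) (_ : CommRing A) (_ : HopfAlgebra R A), IsIsotrivial R A ∧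
      (Nontrivial (R ⧸ I) → Module.Finite (R ⧸ I) A₀ → Module.Finite R A) ∧
      Nonempty (((R ⧸ I) ⊗[R] A) ≃ₐc[R ⧸ I] A₀) := by
  classical
  obtain ⟨R', iR', iA', hE, hfin, hF, M, iM, ⟨e⟩⟩ := h0
  obtain ⟨B, iB, iAB, hBf, hBe, ⟨φ⟩⟩ := Groth.Agent.S0532.result R I R'
  have hflat : Module.Flat R B := inferInstance
  have hff : Module.FaithfullyFlat R B := by
    refine Groth.Agent.Sga3A.LiftHens.faithfullyFlat_of_le_jacobson I HenselianRing.jac B (R' := R')
      (((φ : (R ⧸ I) ⊗[R] B →ₐ[R ⧸ I] R').toRingHom).comp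
        (Algebra.TensorProduct.includeRight : B →ₐ[R] (R ⧸ I) ⊗[R] B).toRingHom) (fun p => ?_)
    change φ ((1 : R ⧸ I) ⊗ₜ[R] algebraMap R B p) = _
    rw [Algebra.algebraMap_eq_smul_one, ← TensorProduct.smul_tmul, ← Algebra.algebraMap_eq_smul_one]
    exact φ.commutes (Ideal.Quotient.mk I p)
  have hffpi : Module.FaithfullyFlat R (∀ _ : PUnit.{1}, B) :=
    Module.FaithfullyFlat.of_linearEquiv _ B (LinearEquiv.funUnique PUnit.{1} R B)
  have g1 : Groth.Agent.Sga3A.MTBasis.GBasis R' (R' ⊗[R ⧸ I] A₀) M :=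
      (Groth.Agent.Sga3A.MTBasis.GBasis.ofBialgEquiv e)
  obtain ⟨A, iA, iH, h1, h2⟩ := Groth.Agent.Sga3A.LiftMain.exists_lift (R := R) (R₀ := R ⧸ I) (A₀ := A₀)
    (S := fun _ : PUnit.{1} => B) (M := fun _ => M) (fun i => g1.bc (φ.symm : R' →ₐ[R ⧸ I] (R ⧸ I) ⊗[R] B))
    (fun i => Groth.Agent.Sga3A.LiftHens.idemLift_of_henselian R I _)
    (fun i j => Groth.Agent.Sga3A.LiftHens.idemLift_of_henselian R I _)
    (fun i j k => Groth.Agent.Sga3A.LiftHens.idemLift_of_henselian R I _)
  refine ⟨A, iA, iH, ⟨B, iB, iAB, hBe, hBf, hff, M, iM, h1 ⟨⟩⟩, fun hnt hA₀ => ?_, h2⟩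
  have hntR' : Nontrivial R' := (FaithfulSMul.algebraMap_injective (R ⧸ I) R').nontrivial
  have h3 : Module.Finite R' (MonoidAlgebra R' M) :=
    Module.Finite.equiv (M := R' ⊗[R ⧸ I] A₀) (e : R' ⊗[R ⧸ I] A₀ ≃ₐ[R'] MonoidAlgebra R' M).toLinearEquiv
  have hMfin : Finite M := Module.Finite.finite_basis (MonoidAlgebra.basis M R')
  obtain ⟨e1⟩ := h1 ⟨⟩
  have h4 : Module.Finite B (MonoidAlgebra B M) := Module.Finite.of_basis (MonoidAlgebra.basis M B)
  have h5 : Module.Finite B (B ⊗[R] A) :=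
    Module.Finite.equiv (M := MonoidAlgebra B M) (e1 : B ⊗[R] A ≃ₐ[B] MonoidAlgebra B M).toLinearEquiv.symm
  exact Module.Finite.of_finite_tensorProduct_of_faithfullyFlat B

/-- Let R be a henselian local ring with residue field k and H₀ = Spec C₀ a k-group of multiplicative
type which is finite over k. Then H₀ lifts to R: there is an R-group H = Spec C of multiplicative
type, finite over R and isotrivial, together with an isomorphism of k-groups H ×_R k ≅ H₀, i.e. a
bialgebra isomorphism k ⊗_R C ≅ C₀ (existence of an isomorphism; the lift is determined up to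
isomorphism only). (Affine group schemes over an affine base are taken in Hopf-algebra form; base
change is the tensor product.) -/
theorem result (R : Type u) [CommRing R] [HenselianLocalRing R]
    (C₀ : Type u) [CommRing C₀] [HopfAlgebra (IsLocalRing.ResidueField R) C₀] [Module.Finite (IsLocalRing.ResidueField R) C₀]
    (h₀ : IsMultType (IsLocalRing.ResidueField R) C₀) :
    ∃ (C : Type u) (_ : CommRing C) (_ : HopfAlgebra R C), Module.Finite R C ∧ IsIsotrivial R C ∧
      Nonempty ((IsLocalRing.ResidueField R ⊗[R] C) ≃ₐc[IsLocalRing.ResidueField R] C₀) := by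
  have h0 : IsIsotrivial (IsLocalRing.ResidueField R) C₀ := by
    have hft : Algebra.FiniteType (IsLocalRing.ResidueField R) C₀ := inferInstance
    exact Groth.Agent.S2974.result (IsLocalRing.ResidueField R) C₀ hft h₀
  have hfinC : Module.Finite (IsLocalRing.ResidueField R) C₀ := inferInstance
  have hnt : Nontrivial (IsLocalRing.ResidueField R) := inferInstance
  let iHopf : HopfAlgebra (IsLocalRing.ResidueField R) C₀ := inferInstance
  obtain ⟨C, iC, iH, hC, hfin, he⟩ := @lift_of_henselian R _ (IsLocalRing.maximalIdeal R) _ C₀ _ iHopf h0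
  exact ⟨C, iC, iH, hfin hnt hfinC, hC, he⟩

end Groth.Agent.S6072
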