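import Groth.Statements.S6073
import Groth.Agent.SGA3.K209.WordComm

set_option autoImplicit false
universe u
open CategoryTheory CategoryTheory.Limits MonoidalCategory CartesianMonoidalCategory MonObj GrpObj AlgebraicGeometry
open SGA3

namespace Groth.Agent.S6073

/-- Let k be an algebraically closed field, G a group scheme locally of finite type over k, and a : A →
G, b : B → G two closed subgroup schemes which are geometrically reduced over k, such that either
(a) A and B are normal in G and of finite type over k, or (b) A is connected and B is of finite type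
over k. Let i : Γ → G be the commutator subgroup scheme (A, B): the smallest closed subgroup scheme
of G through which A ×_k B → G, (x, y) ↦ a(x) b(y) a(x)⁻¹ b(y)⁻¹, factors. Then the image of Γ(k) in
G(k) is the commutator subgroup of the images of A(k) and B(k): the subgroup of G(k) generated by
the commutators of a k-point of A with a k-point of B. -/
theorem result (k : Type u) [Field k] [IsAlgClosed k]
    (G A B : Over (Spec (CommRingCat.of k))) [GrpObj G] [GrpObj A] [GrpObj B] [LocallyOfFiniteType G.hom]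
    (a : A ⟶ G) [IsMonHom a] [IsClosedImmersion a.left] (b : B ⟶ G) [IsMonHom b] [IsClosedImmersion b.left]
    [GeometricallyReduced A.hom] [GeometricallyReduced B.hom] [QuasiCompact B.hom]
    (hcase : (AlgGrp.IsNormalHom a ∧ AlgGrp.IsNormalHom b ∧ QuasiCompact A.hom) ∨ ConnectedSpace A.left)
    (Γ : Over (Spec (CommRingCat.of k))) [GrpObj Γ] (i : Γ ⟶ G) [IsMonHom i] [IsClosedImmersion i.left]
    (hf : ∃ f' : A ⊗ B ⟶ Γ, f' ≫ i = (((fst A B) ≫ a) * ((snd A B) ≫ b) * ((fst A B) ≫ a)⁻¹ * ((snd A B) ≫ b)⁻¹))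
    (hmin : ∀ (Γ' : Over (Spec (CommRingCat.of k))) (_ : GrpObj Γ') (i' : Γ' ⟶ G), IsMonHom i' → IsClosedImmersion i'.left →
        (∃ f'' : A ⊗ B ⟶ Γ', f'' ≫ i' = (((fst A B) ≫ a) * ((snd A B) ≫ b) * ((fst A B) ≫ a)⁻¹ * ((snd A B) ≫ b)⁻¹)) → ∃ j : Γ ⟶ Γ', j ≫ i' = i) :
    Set.range (fun z : 𝟙_ (Over (Spec (CommRingCat.of k))) ⟶ Γ => z ≫ i) =
      ((⁅Subgroup.closure (Set.range (fun x : 𝟙_ (Over (Spec (CommRingCat.of k))) ⟶ A => x ≫ a)),
         Subgroup.closure (Set.range (fun y : 𝟙_ (Over (Spec (CommRingCat.of k))) ⟶ B => y ≫ b))⁆ : Subgroup (𝟙_ (Over (Spec (CommRingCat.of k))) ⟶ G)) :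
        Set (𝟙_ (Over (Spec (CommRingCat.of k))) ⟶ G)) := by
  have hlG : LocallyOfFiniteType Γ.hom := by rw [← Over.w i]; infer_instance
  have hlA : LocallyOfFiniteType A.hom := by rw [← Over.w a]; infer_instance
  have hlB : LocallyOfFiniteType B.hom := by rw [← Over.w b]; infer_instance
  have hred := K209.WordConn.isReduced_left (A ⊗ B)
  obtain ⟨N, hN⟩ : open scoped Pointwise in ∃ N : ℕ, ∀ m : ℕ, N ≤ m → IsClosed (K209.Words.W (K209.WordNorm.comm a b) m) ∧
      (K209.Words.Y (K209.WordNorm.comm a b) ^ m : Set (Sga3.H782.Points.Pts G)) =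
        (Subgroup.closure (K209.Words.Y (K209.WordNorm.comm a b)) : Set (Sga3.H782.Points.Pts G)) := by
    rcases hcase with ⟨hA, hB, hq⟩ | hconn
    · exact K209.WordNorm.good_of_normal a b hA hB
    · exact K209.WordNorm.good_of_connected a b
  obtain ⟨h1, h2⟩ := hN (N + 1) (by omega)
  have hev : ∀ x : Sga3.H782.Points.Pts G, Sga3.H782.Points.ev x ∈ K209.Words.W (K209.WordNorm.comm a b) (N + 1) ↔
      x ∈ Subgroup.closure (K209.Words.Y (K209.WordNorm.comm a b)) := by
    intro x
    rw [K209.Words.ev_mem_W_iff, h2]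
    rfl
  have hone : lift (1 : Sga3.H782.Points.Pts A) (1 : Sga3.H782.Points.Pts B) ≫ K209.WordNorm.comm a b = 1 := by
    rw [K209.WordNorm.lift_comm, MonObj.one_comp, MonObj.one_comp]
    simp
  have hF := K209.WordBC.isSubgrpSet_id h1 (by rw [hev]; exact one_mem _)
    (by intro x y hx hy; rw [hev] at *; exact mul_mem hx hy) (by intro x hx; rw [hev] at *; exact inv_mem hx)
  have hr := K209.WordBC.range_eq (K209.WordNorm.comm a b) hF
    ((K209.WordBC.range_subset_W_one _).trans (K209.WordBC.W_mono _ _ hone (by omega))) Γ i hf hmin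
  have e1 : Subgroup.closure (Set.range (fun x : 𝟙_ (Over (Spec (CommRingCat.of k))) ⟶ A => x ≫ a)) =
      (K209.WordConn.compHom a).range := Subgroup.closure_eq (K209.WordConn.compHom a).range
  have e2 : Subgroup.closure (Set.range (fun x : 𝟙_ (Over (Spec (CommRingCat.of k))) ⟶ B => x ≫ b)) =
      (K209.WordConn.compHom b).range := Subgroup.closure_eq (K209.WordConn.compHom b).range
  rw [e1, e2, ← K209.Baer.closure_cset]
  have e3 : K209.Words.Y (K209.WordNorm.comm a b) = K209.Baer.cset
      ((K209.WordConn.compHom a).range : Set (Sga3.H782.Points.Pts G)) ((K209.WordConn.compHom b).range : Set _) :=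
    K209.WordNorm.Y_comm a b
  rw [← e3]
  ext x
  rw [SetLike.mem_coe, ← hev x, ← hr]
  constructor
  · rintro ⟨z, rfl⟩
    exact ⟨Sga3.H782.Points.ev z, (Sga3.H782.Points.ev_comp z i).symm⟩
  · intro h
    exact K209.Words.exists_lift i x h

end Groth.Agent.S6073
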