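import Groth.Statements.S6077
import Groth.Agent.SGA3.K209.WordBC

set_option autoImplicit false
universe u
open CategoryTheory CategoryTheory.Limits MonoidalCategory CartesianMonoidalCategory MonObj GrpObj AlgebraicGeometry
open SGA3

namespace Groth.Agent.S6077

open Topology Sga3.H782.Points in

/-- Let k be an algebraically closed field, G a group scheme locally of finite type over k, X a
geometrically reduced k-scheme locally of finite type, f : X → G a k-morphism, and h : H → G a
closed subgroup scheme whose underlying set is contained in the image of f. Let i : Γ → G be the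
smallest closed subgroup scheme of G through which f factors. Say that a point of G lies under a
word of length n in f when there are a k-scheme T, a point p of T, T-valued points x_1, …, x_n of X
and signs such that f(x_1)^{±1} ⋯ f(x_n)^{±1} maps p to it; let Γ'₀ be the set of k-points of G
whose point lies under some word (of any length n ≥ 0). Suppose that Γ'₀ is covered by finitely many
left translates a · H(k) of the image of H(k) in G(k), with the a in Γ'₀ (H(k) has finite index in
Γ'₀). Then there is m such that the underlying set of Γ is the set of points of G lying under a word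
of length m, and there are finitely many k-points a_1, …, a_r of G such that the underlying set of Γ
is the union of the left translates a_j · H of the underlying set of H. -/
theorem result (k : Type u) [Field k] [IsAlgClosed k]
    (G X H : Over (Spec (CommRingCat.of k))) [GrpObj G] [GrpObj H] [LocallyOfFiniteType G.hom]
    [LocallyOfFiniteType X.hom] [GeometricallyReduced X.hom] (f : X ⟶ G)
    (h : H ⟶ G) [IsMonHom h] [IsClosedImmersion h.left] (hH : Set.range h.left.base ⊆ Set.range f.left.base)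
    (Γ : Over (Spec (CommRingCat.of k))) [GrpObj Γ] (i : Γ ⟶ G) [IsMonHom i] [IsClosedImmersion i.left]
    (hf : ∃ f' : X ⟶ Γ, f' ≫ i = f)
    (hmin : ∀ (Γ' : Over (Spec (CommRingCat.of k))) (_ : GrpObj Γ') (i' : Γ' ⟶ G), IsMonHom i' → IsClosedImmersion i'.left →
        (∃ f'' : X ⟶ Γ', f'' ≫ i' = f) → ∃ j : Γ ⟶ Γ', j ≫ i' = i)
    (hfin : ∃ F : Finset (𝟙_ (Over (Spec (CommRingCat.of k))) ⟶ G),
      (∀ a ∈ F, ∃ (n : ℕ) (T : Over (Spec (CommRingCat.of k))) (p : T.left) (p₀ : (𝟙_ (Over (Spec (CommRingCat.of k)))).left) (x : Fin n → (T ⟶ X)) (ε : Fin n → Bool),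
        ((List.ofFn fun j : Fin n => if ε j then x j ≫ f else (x j ≫ f)⁻¹).prod : T ⟶ G).left.base p = a.left.base p₀) ∧
      ∀ g : 𝟙_ (Over (Spec (CommRingCat.of k))) ⟶ G, (∃ (n : ℕ) (T : Over (Spec (CommRingCat.of k))) (p : T.left) (p₀ : (𝟙_ (Over (Spec (CommRingCat.of k)))).left) (x : Fin n → (T ⟶ X)) (ε : Fin n → Bool),
        ((List.ofFn fun j : Fin n => if ε j then x j ≫ f else (x j ≫ f)⁻¹).prod : T ⟶ G).left.base p = g.left.base p₀) →
        ∃ a ∈ F, ∃ y : 𝟙_ (Over (Spec (CommRingCat.of k))) ⟶ H, g = a * (y ≫ h)) :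
    (∃ m : ℕ, Set.range i.left.base =
      {g : G.left | ∃ (T : Over (Spec (CommRingCat.of k))) (p : T.left) (x : Fin m → (T ⟶ X)) (ε : Fin m → Bool),
        ((List.ofFn fun j : Fin m => if ε j then x j ≫ f else (x j ≫ f)⁻¹).prod : T ⟶ G).left.base p = g}) ∧
    ∃ F : Finset (𝟙_ (Over (Spec (CommRingCat.of k))) ⟶ G), Set.range i.left.base =
      ⋃ a ∈ F, (fun z => ((λ_ G).inv ≫ (a ▷ G) ≫ μ[G]).left.base z) '' Set.range h.left.base := by
  classical
  have hp₀ : ∀ (p₀ : (𝟙_ (Over (Spec (CommRingCat.of k)))).left) (g : 𝟙_ (Over (Spec (CommRingCat.of k))) ⟶ G),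
      g.left.base p₀ = ev g := by
    intro p₀ g
    have : p₀ = IsLocalRing.closedPoint k :=
      Subsingleton.elim (α := PrimeSpectrum k) p₀ (IsLocalRing.closedPoint k)
    rw [this]; rfl
  obtain ⟨A, hA, hcov⟩ := hfin
  have hlftH : LocallyOfFiniteType H.hom := by rw [← Over.w h]; infer_instance
  -- left translations
  let tr : (𝟙_ (Over (Spec (CommRingCat.of k))) ⟶ G) → (G ⟶ G) := fun a => (λ_ G).inv ≫ (a ▷ G) ≫ μ[G]
  have htr : ∀ a, tr a = (toUnit G ≫ a) * 𝟙 G := by
    intro a
    change (λ_ G).inv ≫ (a ▷ G) ≫ μ[G] = _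
    rw [Hom.mul_def, ← Category.assoc]
    congr 1
    ext1 <;> simp
  have hcomp : ∀ (T : Over (Spec (CommRingCat.of k))) (g : T ⟶ G) (a), g ≫ tr a = (toUnit T ≫ a) * g := by
    intro T g a
    rw [htr, MonObj.comp_mul, Category.comp_id, ← Category.assoc, comp_toUnit]
  have hiso : ∀ a, IsIso (tr a) := by
    intro a
    refine ⟨tr a⁻¹, ?_, ?_⟩
    · rw [hcomp, htr a, ← _root_.mul_assoc, GrpObj.comp_inv, inv_mul_cancel, _root_.one_mul]
    · rw [hcomp, htr a⁻¹, ← _root_.mul_assoc, GrpObj.comp_inv, mul_inv_cancel, _root_.one_mul]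
  -- the closed set
  let F : Set G.left := ⋃ a ∈ A, (tr a).left.base '' Set.range h.left.base
  have hFcl : IsClosed F := by
    refine A.finite_toSet.isClosed_biUnion fun a _ => ?_
    have := hiso a
    have : IsIso (tr a).left := inferInstanceAs (IsIso ((Over.forget _).map (tr a)))
    exact (tr a).left.homeomorph.isClosedMap _ h.left.isClosedEmbedding.isClosed_range
  have hY : ∀ g : 𝟙_ (Over (Spec (CommRingCat.of k))) ⟶ G, (∃ n : ℕ, ev g ∈ K209.Words.W f n) ↔
      g ∈ Subgroup.closure (K209.Words.Y f) := by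
    intro g
    rw [K209.Words.mem_closure_iff_exists_pow (K209.Words.inv_Y f)]
    simp only [K209.Words.ev_mem_W_iff]
  have hA' : ∀ a ∈ A, ∃ n : ℕ, ev a ∈ K209.Words.W f n := by
    intro a ha
    obtain ⟨n, T, p, p₀, x, ε, hx⟩ := hA a ha
    rw [hp₀] at hx
    exact ⟨n, T, p, x, ε, hx⟩
  have hHf : ∀ y : 𝟙_ (Over (Spec (CommRingCat.of k))) ⟶ H, ∃ x : 𝟙_ (Over (Spec (CommRingCat.of k))) ⟶ X,
      x ≫ f = y ≫ h := by
    intro y
    apply K209.Words.exists_lift f (y ≫ h)
    apply hH
    rw [ev_comp]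
    exact ⟨_, rfl⟩
  -- rational points of `F`
  have hFpts : ∀ g : 𝟙_ (Over (Spec (CommRingCat.of k))) ⟶ G, ev g ∈ F ↔
      g ∈ Subgroup.closure (K209.Words.Y f) := by
    intro g
    rw [← hY]
    constructor
    · intro hg
      obtain ⟨a, ha, z, ⟨w, rfl⟩, hz⟩ := Set.mem_iUnion₂.mp hg
      have h1 : ev g ∈ Set.range (h ≫ tr a).left.base :=
        ⟨w, by rw [← hz]; exact Groth.Agent.Sga3C.HomogIrr.comp_left_apply h (tr a) w⟩
      obtain ⟨y, hy⟩ := K209.Words.exists_lift (h ≫ tr a) g h1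
      rw [hY, ← hy, ← Category.assoc, hcomp]
      refine mul_mem ?_ ?_
      · have : toUnit (𝟙_ (Over (Spec (CommRingCat.of k)))) ≫ a = a := by
          rw [toUnit_unit, Category.id_comp]
        rw [this, ← hY]
        exact hA' a ha
      · obtain ⟨x, hx⟩ := hHf y
        rw [← hx]
        exact Subgroup.subset_closure ⟨x, Or.inl rfl⟩
    · rintro ⟨n, T, p, x, ε, hx⟩
      obtain ⟨a, ha, y, rfl⟩ := hcov g ⟨n, T, p, IsLocalRing.closedPoint k, x, ε, hx⟩
      refine Set.mem_iUnion₂.mpr ⟨a, ha, ev (y ≫ h), ⟨ev y, (ev_comp y h).symm⟩, ?_⟩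
      rw [← ev_comp, hcomp]
      congr 2
  -- words lie in `F`
  have hWF : ∀ n, K209.Words.W f n ⊆ F := by
    intro n
    rw [K209.Words.W_eq]
    refine Set.iUnion_subset fun ε => ?_
    rintro _ ⟨q, rfl⟩
    have hJ : JacobsonSpace (K209.Words.P X n).left :=
      LocallyOfFiniteType.jacobsonSpace (K209.Words.P X n).hom
    have h1 : closedPoints (K209.Words.P X n).left ⊆ (K209.Words.uw f n ε).left.base ⁻¹' F := by
      intro z hz
      rw [← range_ev] at hz
      obtain ⟨t, rfl⟩ := hz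
      rw [Set.mem_preimage, ← ev_comp, hFpts, ← hY]
      refine ⟨n, ?_⟩
      rw [K209.Words.mem_W_iff]
      exact ⟨ε, ev t, (ev_comp t _).symm⟩
    have h2 : q ∈ closure (closedPoints (K209.Words.P X n).left) := by
      rw [closure_closedPoints]; trivial
    exact (closure_minimal h1 (hFcl.preimage (K209.Words.uw f n ε).left.continuous)) h2
  -- the unit is a value of `f`
  obtain ⟨x₀, hx₀⟩ := hHf 1
  have hx₀' : x₀ ≫ f = 1 := by rw [hx₀, MonObj.one_comp]
  -- bounded length
  have hbound : ∃ m : ℕ, 1 ≤ m ∧ F ⊆ K209.Words.W f m := by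
    choose! n hn using hA'
    refine ⟨A.sup n + 1, Nat.le_add_left _ _, ?_⟩
    intro g hg
    obtain ⟨a, ha, z, hz, rfl⟩ := Set.mem_iUnion₂.mp hg
    obtain ⟨x, rfl⟩ := hH hz
    refine K209.WordBC.W_mono f x₀ hx₀' (Nat.add_le_add_right (Finset.le_sup (f := n) ha) 1) ?_
    -- `a` is a word with rational entries
    have h1 := hn a ha
    rw [K209.Words.mem_W_iff] at h1
    obtain ⟨ε, hε⟩ := h1
    obtain ⟨t, ht⟩ := K209.Words.exists_lift _ a hε
    rw [K209.Words.uw, K209.Words.comp_wv] at ht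
    refine ⟨X, x, Fin.snoc (fun j => toUnit X ≫ t ≫ K209.Words.pr X (n a) j) (𝟙 X), Fin.snoc ε true, ?_⟩
    have e : K209.Words.wv f (Fin.snoc (fun j => toUnit X ≫ t ≫ K209.Words.pr X (n a) j) (𝟙 X) :
        Fin (n a + 1) → (X ⟶ X)) (Fin.snoc ε true) = f ≫ tr a := by
      rw [hcomp, K209.Words.wv, List.ofFn_succ', List.concat_eq_append, List.prod_append]
      simp only [Fin.snoc_castSucc, Fin.snoc_last, if_true, List.prod_cons, List.prod_nil, _root_.mul_one,
        Category.id_comp]
      congr 1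
      have h2 := congrArg (fun z => toUnit X ≫ z) ht
      simp only [K209.Words.comp_wv] at h2
      exact h2
    rw [e]
    exact Groth.Agent.Sga3C.HomogIrr.comp_left_apply f (tr a) x
  obtain ⟨m, hm1, hFm⟩ := hbound
  have hFW : K209.Words.W f m = F := Set.Subset.antisymm (hWF m) hFm
  have hgrp : K209.WordBC.IsSubgrpSet (𝟙 (Spec (CommRingCat.of k))) G (K209.Words.W f m) := by
    rw [hFW]
    apply K209.WordBC.isSubgrpSet_id hFcl
    · rw [hFpts]; exact one_mem _
    · intro x y hx hy
      rw [hFpts] at *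
      exact mul_mem hx hy
    · intro x hx
      rw [hFpts] at *
      exact inv_mem hx
  have hfin := K209.WordBC.range_eq f hgrp ((K209.WordBC.range_subset_W_one f).trans
    (K209.WordBC.W_mono f x₀ hx₀' hm1)) Γ i hf hmin
  exact ⟨⟨m, hfin⟩, A, by rw [hfin, hFW]⟩

end Groth.Agent.S6077
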