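import Groth.Statements.S6082
import Groth.Agent.SGA3.K210.PbProj
import Groth.Agent.SGA3.K210.ComodRes
import Groth.Agent.S3032

set_option autoImplicit false
universe u
open TensorProduct
open SGA3

namespace Groth.Agent.S6082

open K210.ComodPb

theorem hom_comp {R : Type u} [CommRing R] {C : Type u} [AddCommGroup C] [Module R C]
    [Coalgebra R C] {V₁ V₂ V₃ : Type u} [AddCommGroup V₁] [Module R V₁] [AddCommGroup V₂] [Module R V₂]
    [AddCommGroup V₃] [Module R V₃] (c₁ : HopfRep.Comod R C V₁) (c₂ : HopfRep.Comod R C V₂)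
    (c₃ : HopfRep.Comod R C V₃) (f : V₁ →ₗ[R] V₂) (g : V₂ →ₗ[R] V₃)
    (hf : c₂.coact ∘ₗ f = f.rTensor C ∘ₗ c₁.coact) (hg : c₃.coact ∘ₗ g = g.rTensor C ∘ₗ c₂.coact) :
    c₃.coact ∘ₗ (g ∘ₗ f) = (g ∘ₗ f).rTensor C ∘ₗ c₁.coact := by
  rw [LinearMap.rTensor_comp, LinearMap.comp_assoc, ← hf, ← LinearMap.comp_assoc, ← LinearMap.comp_assoc, hg]

/-- A finitely generated comodule over a flat coalgebra over a Noetherian ring is a quotient of a finitely generated
subcomodule of the pull back of its coaction. -/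
theorem exists_subcomod (R : Type u) [CommRing R] [IsNoetherianRing R] (C : Type u) [AddCommGroup C] [Module R C]
    [Coalgebra R C] [Module.Flat R C] (F : Type u) [AddCommGroup F] [Module R F] (cF : HopfRep.Comod R C F)
    [Module.Finite R F] {L : Type u} [AddCommGroup L] [Module R L] (p : L →ₗ[R] F) (hp : Function.Surjective p) :
    ∃ (N : Type u) (_ : AddCommGroup N) (_ : Module R N) (cN : HopfRep.Comod R C N) (i : N →ₗ[R] pb cF p),
      Module.Finite R N ∧ Function.Injective i ∧
      (ComodSub.Comod.restr (cofree (R := R) (C := C) L) (pb cF p) (isSubcomod_pb cF p)).coact ∘ₗ i =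
        i.rTensor C ∘ₗ cN.coact ∧
      Function.Surjective (pbMap p ∘ₗ (pb cF p).subtype ∘ₗ i) ∧
      cF.coact ∘ₗ (pbMap p ∘ₗ (pb cF p).subtype ∘ₗ i) = (pbMap p ∘ₗ (pb cF p).subtype ∘ₗ i).rTensor C ∘ₗ cN.coact := by
  classical
  obtain ⟨S, hS⟩ := (inferInstance : Module.Finite R F).fg_top
  have hch : ∀ y : F, ∃ x : pb cF p, pbMap p (x : L ⊗[R] C) = y := fun y => by
    obtain ⟨x, hx, hxy⟩ := exists_pbMap_eq cF p hp y
    exact ⟨⟨x, hx⟩, hxy⟩
  choose x hx using hch
  let cE := ComodSub.Comod.restr (cofree (R := R) (C := C) L) (pb cF p) (isSubcomod_pb cF p)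
  obtain ⟨W, hW, hSW, hfg⟩ := Groth.Agent.S3032.result R C (pb cF p)
    (Submodule.span R ((S.image x : Finset (pb cF p)) : Set (pb cF p))) ⟨S.image x, rfl⟩
  have : Module.Finite R W := Module.Finite.iff_fg.mpr hfg
  have h1 := ComodSub.rTensor_subtype_comp_restrCoact cE W hW
  refine ⟨W, inferInstance, inferInstance, ComodSub.Comod.restr cE W hW, W.subtype, inferInstance,
    W.injective_subtype, h1.symm, ?_, ?_⟩
  · rw [← LinearMap.range_eq_top, eq_top_iff, ← hS, Submodule.span_le]
    intro y hy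
    refine ⟨⟨x y, hSW (Submodule.subset_span (Finset.mem_coe.mpr (Finset.mem_image_of_mem x hy)))⟩, hx y⟩
  · exact hom_comp (ComodSub.Comod.restr cE W hW) cE cF W.subtype (pbMap p ∘ₗ (pb cF p).subtype) h1.symm
      (pbMap_hom cF p)

/-- Let R be a Noetherian regular ring of Krull dimension at most 2, C a (coassociative, counital)
R-coalgebra which is projective as an R-module, and F a right C-comodule which is finitely generated
as an R-module. Then F is a quotient of a C-comodule which is finitely generated and projective as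
an R-module: there are such a comodule V and a surjective R-linear map V → F compatible with the
coactions. -/
theorem result (R : Type u) [CommRing R] [IsRegularRing R]
    (hdim : ringKrullDim R ≤ 2) (C : Type u) [AddCommGroup C] [Module R C] [Coalgebra R C] [Module.Projective R C]
    (F : Type u) [AddCommGroup F] [Module R F] [HopfRep.Comod R C F] [Module.Finite R F] :
    ∃ (V : Type u) (_ : AddCommGroup V) (_ : Module R V) (_ : HopfRep.Comod R C V) (φ : V →ₗ[R] F),
      Module.Finite R V ∧ Module.Projective R V ∧ Function.Surjective φ ∧ HopfRep.Comod.coact (k := R) (A := C) ∘ₗ φ = φ.rTensor C ∘ₗ HopfRep.Comod.coact (k := R) (A := C) (V := V) := by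
  classical
  have hfin2 : ∀ (G : Type u) [AddCommGroup G] [Module R G] [Module.Finite R G],
      ∃ (L : Type u) (_ : AddCommGroup L) (_ : Module R L) (p : L →ₗ[R] G), Module.Finite R L ∧
        Module.Projective R L ∧ Function.Surjective p := by
    intro G _ _ _
    obtain ⟨n, f, hf⟩ := Module.Finite.exists_fin' R G
    exact ⟨Fin n → R, inferInstance, inferInstance, f, inferInstance, inferInstance, hf⟩
  obtain ⟨L₁, _, _, p₁, _, _, hp₁⟩ := hfin2 F
  obtain ⟨F', _, _, cF', i₁, hF'1, hF'2, -, hF'3, hF'4⟩ := exists_subcomod R C F inferInstance p₁ hp₁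
  obtain ⟨L₂, _, _, p₂, _, _, hp₂⟩ := hfin2 F'
  -- the kernel of `p₂` is projective
  have hK : Module.Projective R (LinearMap.ker p₂) := by
    have h1 := K210.PbProj.projective_ker' hdim ((pb (inferInstance : HopfRep.Comod R C F) p₁).subtype ∘ₗ i₁ ∘ₗ p₂)
    have h2 : LinearMap.ker ((pb (inferInstance : HopfRep.Comod R C F) p₁).subtype ∘ₗ i₁ ∘ₗ p₂) =
        LinearMap.ker p₂ := by
      rw [← LinearMap.comp_assoc]
      exact LinearMap.ker_comp_of_ker_eq_bot _ (LinearMap.ker_eq_bot.mpr
        ((Submodule.injective_subtype _).comp hF'2))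
    rwa [h2] at h1
  have hE : Module.Projective R (pb cF' p₂) := K210.PbProj.projective_pb cF' p₂ hp₂
  obtain ⟨N, _, _, cN, i₂, hN1, hN2, hN3, hN4, hN5⟩ := exists_subcomod R C F' cF' p₂ hp₂
  have : Module.FinitePresentation R N := Module.finitePresentation_of_finite R N
  have : Module.Projective R (Module.Dual R N) := K210.SecondSyz.projective_dual hdim N
  have : Module.Finite R (Module.Dual R N) := inferInstance
  obtain ⟨cV, φ, hφ1, hφ2⟩ := K210.ComodRes.exists_hom_bidual cN
    (ComodSub.Comod.restr (cofree (R := R) (C := C) L₂) (pb cF' p₂) (isSubcomod_pb cF' p₂)) i₂ hN3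
  refine ⟨Module.Dual R (Module.Dual R N), inferInstance, inferInstance, cV,
    (pbMap p₁ ∘ₗ (pb (inferInstance : HopfRep.Comod R C F) p₁).subtype ∘ₗ i₁) ∘ₗ
      (pbMap p₂ ∘ₗ (pb cF' p₂).subtype) ∘ₗ φ, inferInstance, inferInstance, ?_, ?_⟩
  · rw [LinearMap.coe_comp]
    refine hF'3.comp fun y => ?_
    obtain ⟨n, hn⟩ := hN4 y
    refine ⟨Module.Dual.eval R N n, ?_⟩
    rw [← hn]
    simp only [LinearMap.coe_comp, Function.comp_apply, hφ2]
  · exact hom_comp cV cF' _ _ _ (hom_comp cV _ cF' φ (pbMap p₂ ∘ₗ (pb cF' p₂).subtype) hφ1 (pbMap_hom cF' p₂))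
      hF'4

end Groth.Agent.S6082
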