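import Groth.Statements.S6083
import Groth.Agent.EGA43.K974.QFOpen

set_option autoImplicit false
universe u
open CategoryTheory CategoryTheory.Limits MonoidalCategory CartesianMonoidalCategory MonObj GrpObj AlgebraicGeometry
open SGA3

namespace Groth.Agent.S6083

open Groth.Agent.CycB.RelDim in
theorem rtd_eq_of_component {X S : Scheme.{u}} (f : X ⟶ S) [LocallyOfFiniteType f] (s : S) (n : ℕ)
    (Z : Set ↥(f ⁻¹' {s})) (hZ : Z ∈ irreducibleComponents ↥(f ⁻¹' {s})) (z : X)
    (hzs : f z = s) (hzZ : (⟨z, hzs⟩ : ↥(f ⁻¹' {s})) ∈ Z) (hz : Subtype.val '' Z ⊆ closure {z})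
    (hdim : topologicalKrullDim ↥Z = n) :
    rtd f z = n ∧ ∀ z' : X, z' ⤳ z → f z' = f z → z' = z := by
  have hcl : IsClosed Z := isClosed_of_mem_irreducibleComponents Z hZ
  have hind : Topology.IsInducing (Subtype.val : ↥(f ⁻¹' {s}) → X) := Topology.IsInducing.subtypeVal
  have hZc : Z = closure {(⟨z, hzs⟩ : ↥(f ⁻¹' {s}))} := by
    apply subset_antisymm
    · intro y hy
      have h1 : z ⤳ y.1 := specializes_iff_mem_closure.mpr (hz ⟨y, hy, rfl⟩)
      exact specializes_iff_mem_closure.mp (hind.specializes_iff.mp h1)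
    · exact closure_minimal (Set.singleton_subset_iff.mpr hzZ) hcl
  constructor
  · obtain ⟨m, hm, hm'⟩ := exists_dim_closure_fiber f s ((f.fiberHomeo s).symm ⟨z, hzs⟩)
    rw [Scheme.Hom.fiberι_fiberHomeo_symm] at hm
    have h1 : (f.fiberHomeo s) '' closure {(f.fiberHomeo s).symm ⟨z, hzs⟩} = Z := by
      rw [(f.fiberHomeo s).image_closure, Set.image_singleton, Homeomorph.apply_symm_apply, ← hZc]
    have h2 : topologicalKrullDim ↥(closure {(f.fiberHomeo s).symm ⟨z, hzs⟩} :
        Set ↥(f.fiber s)) = topologicalKrullDim ↥Z := by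
      rw [← h1]
      exact IsHomeomorph.topologicalKrullDim_eq _ ((f.fiberHomeo s).image _).isHomeomorph
    rw [hm', hdim] at h2
    have h3 : m = n := by exact_mod_cast h2
    rw [hm, h3]
  · intro z' hz' hfz
    have h1 : (⟨z', hfz.trans hzs⟩ : ↥(f ⁻¹' {s})) ⤳ ⟨z, hzs⟩ := hind.specializes_iff.mp hz'
    have h2 : Z ≤ closure {(⟨z', hfz.trans hzs⟩ : ↥(f ⁻¹' {s}))} := by
      rw [hZc]
      exact closure_minimal (Set.singleton_subset_iff.mpr (specializes_iff_mem_closure.mp h1))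
        isClosed_closure
    have h3 := hZ.2 isIrreducible_singleton.closure h2
    have h4 : (⟨z', hfz.trans hzs⟩ : ↥(f ⁻¹' {s})) ∈ Z := h3 (subset_closure rfl)
    have h5 : z ⤳ z' := specializes_iff_mem_closure.mpr (hz ⟨_, h4, rfl⟩)
    exact (hz'.antisymm h5).eq

/-- Let f : X → S be a morphism locally of finite presentation, s a point of S, x a point of the fibre
X_s = f⁻¹(s), n the local dimension of X_s at x, q : 𝔸^n_S → S the affine n-space over S and u : X →
𝔸^n_S a locally quasi-finite morphism with u q = f. Suppose that f is universally open at the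
generic point z of an irreducible component Z of X_s which contains x and has dimension n. Then u is
universally open at x. -/
theorem result (X S : Scheme.{u}) (f : X ⟶ S) [LocallyOfFinitePresentation f]
    (s : S) (x : X) (hxs : f.base x = s) (n : ℕ)
    (u : X ⟶ 𝔸(ULift.{u} (Fin n); S)) [LocallyQuasiFinite u] (hu : u ≫ (𝔸(ULift.{u} (Fin n); S) ↘ S) = f)
    (Z : Set ↥(f.base ⁻¹' {s})) (hZ : Z ∈ irreducibleComponents ↥(f.base ⁻¹' {s})) (hxZ : x ∈ (Subtype.val '' Z))
    (z : X) (hz : z ∈ Subtype.val '' Z ∧ Subtype.val '' Z ⊆ closure {z}) (hopen : EGA43.IsUnivOpenAt f z)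
    (hdimZ : topologicalKrullDim ↥Z = n) (hdimx : FlatMor.localDim ↥(f.base ⁻¹' {s}) ⟨x, hxs⟩ = n) :
    EGA43.IsUnivOpenAt u x := by
  obtain ⟨⟨⟨z', hz's⟩, hz'Z, rfl⟩, hz2⟩ := hz
  obtain ⟨hr, hmax⟩ := rtd_eq_of_component f s n Z hZ z' hz's hz'Z hz2 hdimZ
  have hzx : z' ⤳ x := specializes_iff_mem_closure.mpr (hz2 hxZ)
  exact K974.QFOpen.isUnivOpenAt f n u hu x z' hzx (Eq.trans hz's hxs.symm) hmax hr hopen

end Groth.Agent.S6083
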