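import Groth.Statements.S6087
import Groth.Agent.SGA3.K210.LimQuot

set_option autoImplicit false
universe u
open CategoryTheory CategoryTheory.Limits MonoidalCategory CartesianMonoidalCategory MonObj GrpObj AlgebraicGeometry
open SGA3

namespace Groth.Agent.S6087

open K210.LimHom K210.LimQuot

/-- Base change of the relation defined by a subgroup acting by right translations. -/
theorem hasQuot_iff {S S' : Scheme.{u}} (f : S' ⟶ S) {G H : Over S} [GrpObj G] [GrpObj H] (v : H ⟶ G) :
    HasQuot ((Over.pullback f).map (G ◁ v ≫ μ[G])) ((Over.pullback f).map (fst G H)) ↔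
      HasQuot (((Red.bc f G) ◁ ((Over.pullback f).map v)) ≫ μ[Red.bc f G]) (fst (Red.bc f G) (Red.bc f H)) := by
  let e : Red.bc f G ⊗ Red.bc f H ≅ Red.bc f (G ⊗ H) := asIso (Functor.LaxMonoidal.μ (Over.pullback f) G H)
  have h1 : (((Red.bc f G) ◁ ((Over.pullback f).map v)) ≫ μ[Red.bc f G]) ≫ (Iso.refl (Red.bc f G)).hom =
      e.hom ≫ (Over.pullback f).map (G ◁ v ≫ μ[G]) := by
    dsimp only [e, asIso_hom, Iso.refl_hom]
    rw [Category.comp_id, Functor.obj.μ_def, Functor.map_comp, Functor.LaxMonoidal.μ_natural_right_assoc]
  have h2 : fst (Red.bc f G) (Red.bc f H) ≫ (Iso.refl (Red.bc f G)).hom =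
      e.hom ≫ (Over.pullback f).map (fst G H) := by
    dsimp only [e, asIso_hom, Iso.refl_hom]
    rw [Category.comp_id, Functor.Monoidal.μ_fst]
  constructor
  · intro h
    refine h.of_iso e.symm (Iso.refl _) ?_ ?_
    · rw [Iso.symm_hom, Iso.eq_inv_comp, ← Category.assoc, ← h1, Category.assoc, Iso.refl_hom, Category.comp_id,
        Category.comp_id]
    · rw [Iso.symm_hom, Iso.eq_inv_comp, ← Category.assoc, ← h2, Category.assoc, Iso.refl_hom, Category.comp_id,
        Category.comp_id]
  · intro h
    exact h.of_iso e (Iso.refl _) h1 h2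

/-- Let S be the limit of a cofiltered system (S_i) of quasi-compact quasi-separated schemes with affine
transition morphisms, j an index, G_j an S_j-group scheme of finite presentation over S_j and u_j :
G'_j → G_j a subgroup scheme (a homomorphism which is a monomorphism) with G'_j flat and of finite
presentation over S_j. For a base change G, G' of G_j, G'_j say that G/G' is representable when
there are Q and a morphism p : G → Q which is flat, surjective and locally of finite presentation
and makes the square formed by (g, h) ↦ g · u(h), the first projection G × G' → G and p (twice)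
cartesian. Then G/G' is representable over S for the base changes to S if and only if there is an
index i over j such that G_i/G'_i is representable over S_i for the base changes to S_i. (The
published statement is for representability of the fpqc quotient sheaf; with G' flat of finite
presentation this is the same as the existence of such a p. The published setting takes all S_i
affine over a fixed quasi-compact quasi-separated S_0.) -/
theorem result {I : Type u} [SmallCategory I] [IsCofiltered I]
    (D : I ⥤ Scheme.{u}) (c : Limits.Cone D) (hc : Limits.IsLimit c)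
    [∀ (i i' : I) (f : i ⟶ i'), IsAffineHom (D.map f)] [∀ i, CompactSpace (D.obj i)] [∀ i, QuasiSeparatedSpace (D.obj i)]
    (j : I) (Gj G'j : Over (D.obj j)) [GrpObj Gj] [GrpObj G'j]
    [LocallyOfFinitePresentation Gj.hom] [QuasiCompact Gj.hom] [QuasiSeparated Gj.hom]
    [Flat G'j.hom] [LocallyOfFinitePresentation G'j.hom] [QuasiCompact G'j.hom] [QuasiSeparated G'j.hom]
    (uj : G'j ⟶ Gj) [IsMonHom uj] [Mono uj] :
    (∃ (Q : Over c.pt) (p : (Red.bc (c.π.app j) Gj) ⟶ Q), Flat p.left ∧ Surjective p.left ∧ LocallyOfFinitePresentation p.left ∧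
        IsPullback (((Red.bc (c.π.app j) Gj) ◁ ((Over.pullback (c.π.app j)).map uj)) ≫ μ[(Red.bc (c.π.app j) Gj)]) (fst (Red.bc (c.π.app j) Gj) (Red.bc (c.π.app j) G'j)) p p) ↔
    ∃ (i : I) (f : i ⟶ j), ∃ (Q : Over (D.obj i)) (p : (Red.bc (D.map f) Gj) ⟶ Q), Flat p.left ∧ Surjective p.left ∧ LocallyOfFinitePresentation p.left ∧
        IsPullback (((Red.bc (D.map f) Gj) ◁ ((Over.pullback (D.map f)).map uj)) ≫ μ[(Red.bc (D.map f) Gj)]) (fst (Red.bc (D.map f) Gj) (Red.bc (D.map f) G'j)) p p := by
  have h := hasQuot_limit_iff hc (Gj ◁ uj ≫ μ[Gj]) (fst Gj G'j)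
  simp only [hasQuot_iff] at h
  exact h

end Groth.Agent.S6087
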