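import Groth.Statements.S6088
import Groth.Agent.SGA3.K210.LimHom2

set_option autoImplicit false
universe u
open CategoryTheory CategoryTheory.Limits MonoidalCategory CartesianMonoidalCategory MonObj GrpObj AlgebraicGeometry
open SGA3

namespace Groth.Agent.S6088

open K210.LimHom Ega43.LimitDescendIso in
/-- Let S be the limit of a cofiltered system (S_i) of quasi-compact quasi-separated schemes with affine
transition morphisms, j an index and u_j : H_j → G_j a homomorphism of S_j-group schemes of finite
presentation over S_j; write u and u_i for its base changes to S and to S_i. Then u is a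
monomorphism with H normal in G (for every S-scheme T, conjugates of T-points of H by T-points of G
are T-points of H) if and only if there is an index i over j such that u_i is a monomorphism with
H_i normal in G_i; and u is a monomorphism with H central in G (every T-point of H commutes with
every T-point of G) if and only if there is an index i over j with the same property for u_i. (The
published statement starts from a homomorphism u of S-groups of finite presentation and first
descends it to some u_j; this row starts from u_j. The published setting takes all S_i affine over a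
fixed quasi-compact quasi-separated S_0.) -/
theorem result {I : Type u} [SmallCategory I] [IsCofiltered I]
    (D : I ⥤ Scheme.{u}) (c : Limits.Cone D) (hc : Limits.IsLimit c)
    [∀ (i i' : I) (f : i ⟶ i'), IsAffineHom (D.map f)] [∀ i, CompactSpace (D.obj i)] [∀ i, QuasiSeparatedSpace (D.obj i)]
    (j : I) (Gj Hj : Over (D.obj j)) [GrpObj Gj] [GrpObj Hj]
    [LocallyOfFinitePresentation Gj.hom] [QuasiCompact Gj.hom] [QuasiSeparated Gj.hom]
    [LocallyOfFinitePresentation Hj.hom] [QuasiCompact Hj.hom] [QuasiSeparated Hj.hom]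
    (uj : Hj ⟶ Gj) [IsMonHom uj] :
    ((Mono ((Over.pullback (c.π.app j)).map uj) ∧ AlgGrp.IsNormalHom ((Over.pullback (c.π.app j)).map uj)) ↔
      ∃ (i : I) (f : i ⟶ j), Mono ((Over.pullback (D.map f)).map uj) ∧ AlgGrp.IsNormalHom ((Over.pullback (D.map f)).map uj)) ∧
    ((Mono ((Over.pullback (c.π.app j)).map uj) ∧ (∀ (T : Over c.pt) (g : T ⟶ (Red.bc (c.π.app j) Gj)) (n : T ⟶ (Red.bc (c.π.app j) Hj)), g * (n ≫ ((Over.pullback (c.π.app j)).map uj)) = (n ≫ ((Over.pullback (c.π.app j)).map uj)) * g)) ↔
      ∃ (i : I) (f : i ⟶ j), Mono ((Over.pullback (D.map f)).map uj) ∧ (∀ (T : Over (D.obj i)) (g : T ⟶ (Red.bc (D.map f) Gj)) (n : T ⟶ (Red.bc (D.map f) Hj)), g * (n ≫ ((Over.pullback (D.map f)).map uj)) = (n ≫ ((Over.pullback (D.map f)).map uj)) * g)) := by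
  have hmono : Mono ((Over.pullback (c.π.app j)).map uj) →
      ∃ (i : I) (f : i ⟶ j), Mono ((Over.pullback (D.map f)).map uj) := by
    intro h
    have h1 : Mono ((Over.pullback (c.π.app j)).map uj).left :=
      inferInstanceAs (Mono ((Over.forget _).map ((Over.pullback (c.π.app j)).map uj)))
    obtain ⟨i, f, hf⟩ := exists_prop_map hc (P := MorphismProperty.monomorphisms Scheme.{u})
      descendsLim_monomorphisms uj h1
    have h2 : Mono ((Over.pullback (D.map f)).map uj).left := hf
    exact ⟨i, f, (Over.forget _).mono_of_mono_map h2⟩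
  have hm : ∀ {i i' : I} (g : i' ⟶ i) (f : i ⟶ j), Mono ((Over.pullback (D.map f)).map uj) →
      Mono ((Over.pullback (D.map (g ≫ f))).map uj) :=
    fun g f => mono_map_comp (D.map g) (D.map f) (D.map_comp g f).symm uj
  refine ⟨⟨?_, ?_⟩, ⟨?_, ?_⟩⟩
  · rintro ⟨h1, h2⟩
    rw [isNormalHom_map_iff] at h2
    obtain ⟨w, hw⟩ := h2
    obtain ⟨i, f, v, -, hv⟩ := exists_factor hc (conj uj) uj w hw
    exact stage_and hm (fun g f => isNormalHom_map_comp (D.map g) (D.map f) (D.map_comp g f).symm uj)
      (hmono h1) ⟨i, f, (isNormalHom_map_iff _ _).mpr ⟨v, hv⟩⟩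
  · rintro ⟨i, f, h1, h2⟩
    exact ⟨mono_map_comp _ _ (c.w f) uj h1, isNormalHom_map_comp _ _ (c.w f) uj h2⟩
  · rintro ⟨h1, h2⟩
    obtain ⟨i, f, hf⟩ := exists_map_eq hc _ _ ((isCentral_map_iff _ uj).mp h2)
    exact stage_and hm (fun g f => isCentral_map_comp (D.map g) (D.map f) (D.map_comp g f).symm uj)
      (hmono h1) ⟨i, f, (isCentral_map_iff _ _).mpr hf⟩
  · rintro ⟨i, f, h1, h2⟩
    exact ⟨mono_map_comp _ _ (c.w f) uj h1, isCentral_map_comp _ _ (c.w f) uj h2⟩

end Groth.Agent.S6088
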