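import Groth.Statements.S6089
import Groth.Agent.SGA3.K210.NeutralFlat

set_option autoImplicit false
universe u
open CategoryTheory CategoryTheory.Limits MonoidalCategory CartesianMonoidalCategory MonObj GrpObj AlgebraicGeometry
open SGA3

namespace Groth.Agent.S6089

open Groth.Agent.Sga3C.FlatPt K210.NeutralFlat

/-- the section of the quotient -/
theorem neutral_sub {k : Type u} [Field k] {F G : Over (Spec (CommRingCat.of k))} [GrpObj F] [GrpObj G]
    [LocallyOfFiniteType F.hom] [LocallyOfFiniteType G.hom] (u : F ⟶ G) [IsMonHom u] [Flat u.left]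
    (p₀ : Spec (CommRingCat.of k)) :
    connectedComponent ((η[G] : (𝟙_ (Over (Spec (CommRingCat.of k)))) ⟶ G).left p₀) ⊆
      closure (u.left '' connectedComponent ((η[F] : (𝟙_ (Over (Spec (CommRingCat.of k)))) ⟶ F).left p₀)) := by
  have hp : p₀ = IsLocalRing.closedPoint k := Subsingleton.elim (α := PrimeSpectrum k) _ _
  subst hp
  have hlnF : IsLocallyNoetherian F.left := LocallyOfFiniteType.isLocallyNoetherian F.hom
  have hlnG : IsLocallyNoetherian G.left := LocallyOfFiniteType.isLocallyNoetherian G.hom
  have hlc : LocallyConnectedSpace F.left :=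
    Groth.Agent.Sga3C.LocConn.locallyConnectedSpace_of_isLocallyNoetherian F.left
  have hlft : LocallyOfFiniteType u.left := by
    have : LocallyOfFiniteType (u.left ≫ G.hom) := by rw [Over.w u]; infer_instance
    exact locallyOfFiniteType_of_comp u.left G.hom
  have hlfp : LocallyOfFinitePresentation u.left :=
    LocallyOfFinitePresentation.iff_locallyOfFiniteType.mpr inferInstance
  have hopen : IsOpenMap u.left := u.left.isOpenMap
  set eF := (η[F] : (𝟙_ (Over (Spec (CommRingCat.of k)))) ⟶ F).left (IsLocalRing.closedPoint k) with heF
  set eG := (η[G] : (𝟙_ (Over (Spec (CommRingCat.of k)))) ⟶ G).left (IsLocalRing.closedPoint k) with heG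
  have hirr : IsIrreducible (connectedComponent eG) := (Groth.Agent.S0355.result k G).1
  have hU : IsOpen (u.left '' connectedComponent eF) := hopen _ isOpen_connectedComponent
  have heq : u.left eF = eG := by
    have h := congrArg (fun w : 𝟙_ (Over (Spec (CommRingCat.of k))) ⟶ G => w.left (IsLocalRing.closedPoint k))
      (IsMonHom.one_hom (f := u))
    exact h
  have hne : (connectedComponent eG ∩ u.left '' connectedComponent eF).Nonempty :=
    ⟨eG, mem_connectedComponent, eF, mem_connectedComponent, heq⟩
  exact (subset_closure_inter_of_isPreirreducible_of_isOpen hirr.2 hU hne).trans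
    (closure_mono Set.inter_subset_right)

/-- Let k be a perfect field and u : F → G a homomorphism of k-group schemes locally of finite type over
k. Let a : F' → F and b : G' → G be homomorphisms which are closed immersions, surjective on
underlying spaces, with F' and G' reduced (the subgroups F_red and G_red), let p : F → X and q : G →
Y be k-morphisms which are flat, surjective and locally of finite presentation and make the squares
formed by (f', f) ↦ a(f') · f, the second projection, p, p (and likewise for b, q) cartesian (the
quotients of F and G by the left actions of F_red and G_red), and let v : X → Y satisfy p v = u q.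
Then u is flat if and only if (ii) holds: the neutral component of G (the connected component of the
unit point) is contained in the closure of the image under u of the neutral component of F, and v is
flat. -/
theorem result (k : Type u) [Field k] [PerfectField k]
    (F G F' G' : Over (Spec (CommRingCat.of k))) [GrpObj F] [GrpObj G] [GrpObj F'] [GrpObj G']
    [LocallyOfFiniteType F.hom] [LocallyOfFiniteType G.hom] (u : F ⟶ G) [IsMonHom u]
    [IsReduced F'.left] (a : F' ⟶ F) [IsMonHom a] [IsClosedImmersion a.left] [Surjective a.left]
    [IsReduced G'.left] (b : G' ⟶ G) [IsMonHom b] [IsClosedImmersion b.left] [Surjective b.left]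
    (X Y : Over (Spec (CommRingCat.of k))) (p : F ⟶ X) [Flat p.left] [Surjective p.left] [LocallyOfFinitePresentation p.left]
    (hp : IsPullback ((a ▷ F) ≫ μ[F]) (snd F' F) p p)
    (q : G ⟶ Y) [Flat q.left] [Surjective q.left] [LocallyOfFinitePresentation q.left]
    (hq : IsPullback ((b ▷ G) ≫ μ[G]) (snd G' G) q q)
    (v : X ⟶ Y) (hv : p ≫ v = u ≫ q) :
    Flat u.left ↔
      ((∀ p₀ : (𝟙_ (Over (Spec (CommRingCat.of k)))).left, connectedComponent ((η[G] : (𝟙_ (Over (Spec (CommRingCat.of k)))) ⟶ G).left.base p₀) ⊆
          closure (u.left.base '' connectedComponent ((η[F] : (𝟙_ (Over (Spec (CommRingCat.of k)))) ⟶ F).left.base p₀))) ∧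
        Flat v.left) := by
  constructor
  · intro hflat
    refine ⟨fun p₀ => neutral_sub u p₀, ?_⟩
    have : Flat (p.left ≫ v.left) := by
      rw [← Over.comp_left, hv, Over.comp_left]; infer_instance
    exact Groth.Agent.Flat2F.FlatComp.flat_of_flat_comp_of_flat_surjective p.left v.left
  · rintro ⟨hdom, hvf⟩
    have hlnF : IsLocallyNoetherian F.left := LocallyOfFiniteType.isLocallyNoetherian F.hom
    have hlnG : IsLocallyNoetherian G.left := LocallyOfFiniteType.isLocallyNoetherian G.hom
    have hlc : LocallyConnectedSpace F.left :=
      Groth.Agent.Sga3C.LocConn.locallyConnectedSpace_of_isLocallyNoetherian F.left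
    have hdom' := hdom (IsLocalRing.closedPoint k)
    set eF := (η[F] : (𝟙_ (Over (Spec (CommRingCat.of k)))) ⟶ F).left (IsLocalRing.closedPoint k) with heF
    set eG := (η[G] : (𝟙_ (Over (Spec (CommRingCat.of k)))) ⟶ G).left (IsLocalRing.closedPoint k) with heG
    -- a maximal point of `G` in the image of `u`
    obtain ⟨y, hy⟩ : ∃ y : F.left, u.left y ∈ genericPoints G.left := by
      obtain ⟨z, hz, hze⟩ := Groth.Agent.Sga3C.GenPts.exists_mem_genericPoints_specializes eG
      have hz1 : z ∈ connectedComponent eG := by
        have h1 : _root_.IsPreconnected (closure ({z} : Set G.left)) :=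
          isPreconnected_singleton.closure
        exact h1.subset_connectedComponent hze.mem_closure (subset_closure rfl)
      have hz2 : z ∈ closure (u.left '' connectedComponent eF) := hdom' hz1
      let U : F.left.Opens := ⟨connectedComponent eF, isOpen_connectedComponent⟩
      have hUc : IsCompact (U : Set F.left) := (Groth.Agent.S0355.result k F).2
      have : CompactSpace U := isCompact_iff_compactSpace.mp hUc
      have hqc : QuasiCompact (U.ι ≫ u.left) := inferInstance
      obtain ⟨y, hy⟩ := Groth.Agent.Sga3C.GenPts.mem_range_of_mem_closure_range (U.ι ≫ u.left) z (by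
        have h1 : Set.range (U.ι ≫ u.left) = u.left '' Set.range U.ι := by
          rw [← Set.range_comp]; rfl
        have h2 : Set.range U.ι = connectedComponent eF := U.range_ι
        rw [h1, h2]
        exact hz2) (Groth.Agent.Sga3C.GenPts.eq_of_specializes_of_mem_genericPoints hz)
      exact ⟨U.ι y, by rw [← Scheme.Hom.comp_apply, hy]; exact hz⟩
    refine flat_of_isFlatAt u y ?_
    -- the one point scheme `Y`
    obtain ⟨-, ⟨y₀, hy₀, -⟩, -⟩ := Groth.Agent.S6084.result k G' G b Y q hq
    have hsub : Subsingleton Y.left := Set.subsingleton_univ_iff.mp (by rw [hy₀]; exact Set.subsingleton_singleton)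
    have hlfpG : LocallyOfFinitePresentation G.hom :=
      LocallyOfFinitePresentation.iff_locallyOfFiniteType.mpr inferInstance
    have hfp : LocallyOfFinitePresentation (q.left ≫ Y.hom) := by rw [Over.w]; infer_instance
    have hY : LocallyOfFinitePresentation Y.hom := Groth.Agent.S0114.result q.left Y.hom
    have hth : MoreMor.IsFiniteOrderThickening (η[G] ≫ q).left :=
      thick_section k Y.left Y.hom _ (Over.w (η[G] ≫ q))
    have hpb : IsPullback b.left (toUnit G').left q.left (η[G] ≫ q).left :=
      (isPullback_fibre b q hq).map (Over.forget _)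
    have hfl : Flat ((F.left.fromSpecStalk y ≫ u.left) ≫ q.left) := by
      rw [Category.assoc, ← Over.comp_left, ← hv, Over.comp_left]
      infer_instance
    let f' := F.left.fromSpecStalk y ≫ u.left
    let X₀ := pullback (f' ≫ q.left) (η[G] ≫ q).left
    let f : X₀ ⟶ G'.left := hpb.lift (pullback.fst _ _ ≫ f') (pullback.snd _ _) (by
      rw [Category.assoc]; exact pullback.condition)
    have hf1 : f ≫ b.left = pullback.fst _ _ ≫ f' := hpb.lift_fst _ _ _
    have hf2 : f ≫ (toUnit G').left = pullback.snd _ _ := hpb.lift_snd _ _ _
    refine (Groth.Agent.S1317.result (pullback.fst (f' ≫ q.left) (η[G] ≫ q).left) b.left (η[G] ≫ q).left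
      f f' (toUnit G').left q.left hth ?_ hpb hf1.symm).mp ?_
    · rw [hf2]; exact IsPullback.of_hasPullback _ _
    · refine flat_of_maximal f fun x z hz => ?_
      have hb : Function.Injective b.left := b.left.isClosedEmbedding.injective
      apply hb
      have h1 : b.left z ⤳ b.left (f x) := hz.map b.left.continuous
      have h2 : b.left (f x) ⤳ u.left y := by
        rw [← Scheme.Hom.comp_apply, hf1, Scheme.Hom.comp_apply, Scheme.Hom.comp_apply]
        have h3 : F.left.fromSpecStalk y (pullback.fst (f' ≫ q.left) (η[G] ≫ q).left x) ⤳ y := by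
          have : F.left.fromSpecStalk y (pullback.fst (f' ≫ q.left) (η[G] ≫ q).left x) ∈
            Set.range (F.left.fromSpecStalk y) := ⟨_, rfl⟩
          rwa [Scheme.range_fromSpecStalk] at this
        exact h3.map u.left.continuous
      have h4 := Groth.Agent.Sga3C.GenPts.eq_of_specializes_of_mem_genericPoints hy
      rw [h4 _ (h1.trans h2), h4 _ h2]

end Groth.Agent.S6089
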