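import Groth.Statements.S6095
-- import your own Groth.Agent.* helpers here
import Groth.Agent.RedSub.K197.IsogLift

set_option autoImplicit false
open CategoryTheory MonoidalCategory CartesianMonoidalCategory MonObj GrpObj AlgebraicGeometry
universe u
open RedSub

namespace Groth.Agent.S6095

/-- Let G be a reductive S-group, d : D ⟶ G its derived group and f₀ : G ⟶ C its coradical, pinned as: C
is a commutative S-group scheme, D is the kernel of f₀, f₀ exhibits C as the fppf quotient G/D, and
D is killed by every homomorphism from G to a commutative S-group scheme. Let Z be the centre of G,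
R = rad(G) a maximal torus of Z, and q : G ⟶ SS the fppf quotient of G by R (the semisimple quotient
ss(G)). Then the morphism G ⟶ C x_S SS with components f₀ and q is a central isogeny: it is
surjective, flat and finite, and every point of G in its kernel is central. -/
theorem result {S : Scheme.{u}} {G D C Z R SS : Over S} [GrpObj G]
    [GrpObj D] [GrpObj C] [GrpObj Z] [GrpObj R] [GrpObj SS] (hG : Red.IsReductive G) (d : D ⟶ G) [IsMonHom d]
    (f₀ : G ⟶ C) [IsMonHom f₀] (hC : ∀ (X : Over S) (a b : X ⟶ C), a * b = b * a) (hker : AlgGrp.IsKernel d f₀)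
    (hquot : RedSub.IsQuotient d f₀) (hkill : RedSub.KilledByCommutative d)
    (j : Z ⟶ G) (hZ : Red.IsCentre j) (r : R ⟶ Z) (hR : Red.IsMaximalTorus r)
    (q : G ⟶ SS) [IsMonHom q] (hq : RedSub.IsQuotient (r ≫ j) q) :
    Surjective (lift f₀ q).left ∧ Flat (lift f₀ q).left ∧ IsFinite (lift f₀ q).left ∧
      ∀ (X : Over S) (g : X ⟶ G), g ≫ f₀ = 1 → g ≫ q = 1 →
        ∀ (X' : Over S) (x : X' ⟶ X) (g' : X' ⟶ G), (x ≫ g) * g' = g' * (x ≫ g) := by
  have hj : IsMonHom j := hZ.1
  have hr : IsMonHom r := hR.1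
  have hj' : Mono j := hZ.2.1
  have hr' : Mono r := hR.2.1
  have h1 := K197.Corad.isog_rad hG hC hquot hkill hZ hR
  have h2 := K197.Corad.lfp_rad hG hC hquot hkill hR.2.2.1 (r ≫ j ≫ f₀)
  have h3 := (K197.Isog.isIsog_iff _).1 (K197.IsogLift.isog_lift (r ≫ j) f₀ q hq
    (by rwa [Category.assoc]) (by rwa [Category.assoc]))
  refine ⟨h3.1, h3.2.1, h3.2.2, fun X g _ hgq X' x g' => ?_⟩
  obtain ⟨z, rfl⟩ := (K197.QuotPts.comp_eq_one_iff_of_isMonHom hq g).1 hgq
  have h4 := K197.RadSplit.central_of_isCentre hZ (z ≫ r) X' x g'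
  simpa using h4

end Groth.Agent.S6095
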