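import Groth.Statements.S6097
import Groth.Agent.Red.K217.SolvRetr

set_option autoImplicit false
open CategoryTheory MonoidalCategory CartesianMonoidalCategory MonObj GrpObj AlgebraicGeometry
universe u
open RedSub

namespace Groth.Agent.S6097

/-- Let G be a reductive S-group and H ⟶ G a subgroup of type (R) with solvable geometric fibres. Then
the character functor D_S(H) = Hom_{S-gr}(H, G_{m,S}) is representable by a twisted constant
S-group: there are an S-group A and a universal family of characters υ : H x_S A ⟶ G_{m,S} (every
family of characters over an S-scheme T is pulled back from υ along a unique T ⟶ A, and the group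
law of A multiplies characters pointwise), and A is fpqc-locally on S a constant group. (The type,
ℤ^(reductive rank of G at s), is not restated.) -/
theorem result {S : Scheme.{u}} {G H : Over S} [GrpObj G]
    [GrpObj H] (hG : Red.IsReductive G) (i : H ⟶ G) (hH : RedSub.IsTypeR i)
    (hsolv : ∀ s : S, Red.IsSolvableGrp (Red.geomFibre s H)) :
    ∃ (A : Over S) (_ : GrpObj A) (υ : H ⊗ A ⟶ Red.Gm S), AutFam.RepresentsHom H (Red.Gm S) A υ ∧
      (∀ (X : Over S) (h : X ⟶ H) (a b : X ⟶ A), lift h (a * b) ≫ υ = (lift h a ≫ υ) * (lift h b ≫ υ)) ∧
      TwC.IsTwConstGrp TwC.Topology.fpqc A :=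
  K217.RetrDual.exists_dual (K217.SolvRetr.exists_local hG hH hsolv (K6.DualMT.ds_comm ℤ))

end Groth.Agent.S6097
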