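import Groth.Statements.S6098
import Groth.Agent.S5531
import Groth.Agent.RedSub.K198.BidAsm

set_option autoImplicit false
open CategoryTheory MonoidalCategory CartesianMonoidalCategory MonObj GrpObj AlgebraicGeometry
universe u
open RedSub

namespace Groth.Agent.S6098

/-- Let G be a reductive S-group and H ⟶ G a subgroup of type (R) with solvable geometric fibres. Let A
represent D_S(H) = Hom_{S-gr}(H, G_{m,S}) through a universal family υ : H x_S A ⟶ G_{m,S} whose
group law multiplies characters pointwise, let B represent D_S(A) likewise through υ' : A x_S B ⟶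
G_{m,S}, and let f : H ⟶ B be the biduality morphism, i.e. the morphism classifying the family of
characters of A parametrised by H, (a, h) ↦ υ(h, a). Then f is smooth and surjective. -/
theorem result {S : Scheme.{u}} {G H A B : Over S} [GrpObj G] [GrpObj H]
    [GrpObj A] [GrpObj B] (hG : Red.IsReductive G) (i : H ⟶ G) (hH : RedSub.IsTypeR i)
    (hsolv : ∀ s : S, Red.IsSolvableGrp (Red.geomFibre s H))
    (υ : H ⊗ A ⟶ Red.Gm S) (hA : AutFam.RepresentsHom H (Red.Gm S) A υ)
    (hAmul : ∀ (X : Over S) (h : X ⟶ H) (a b : X ⟶ A), lift h (a * b) ≫ υ = (lift h a ≫ υ) * (lift h b ≫ υ))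
    (υ' : A ⊗ B ⟶ Red.Gm S) (hB : AutFam.RepresentsHom A (Red.Gm S) B υ')
    (hBmul : ∀ (X : Over S) (a : X ⟶ A) (b c : X ⟶ B), lift a (b * c) ≫ υ' = (lift a b ≫ υ') * (lift a c ≫ υ'))
    (f : H ⟶ B) (hf : (A ◁ f) ≫ υ' = lift (snd A H) (fst A H) ≫ υ) :
    Smooth f.left ∧ Surjective f.left := by
  exact K198.BidAsm.main (fun hG i hH hs t _ hT => S5531.result hG i hH hs t hT) hG i hH hsolv υ hA hAmul υ' hB f hf

end Groth.Agent.S6098
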