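import Groth.Statements.S6100
import Groth.Agent.RedSub.K198.Rad
import Groth.Agent.RedSub.K198.CentRed

set_option autoImplicit false
open CategoryTheory MonoidalCategory CartesianMonoidalCategory MonObj GrpObj AlgebraicGeometry
universe u
open RedSub

namespace Groth.Agent.S6100

/-- Let G be a reductive S-group, H ⟶ G a subgroup of type (R) which is a reductive S-group, rad(H) ⟶
Z(H) ⟶ H its radical, z : Z ⟶ G the centraliser of rad(H) in G, Z(Z) ⟶ Z the centre of Z and rad(Z)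
⟶ Z(Z) a maximal torus. Then H ⊆ Centr_G(rad H), and rad(Centr_G(rad H)) = rad(H) as subgroups of G,
so that rad(H) is a C-critical torus (the radical of its own centraliser). -/
theorem result {S : Scheme.{u}} {G H ZH R Z ZZ RZ : Over S} [GrpObj G] [GrpObj H]
    [GrpObj ZH] [GrpObj R] [GrpObj Z] [GrpObj ZZ] [GrpObj RZ] (hG : Red.IsReductive G)
    (i : H ⟶ G) (hi : RedSub.IsTypeR i) (hH : Red.IsReductive H)
    (jz : ZH ⟶ H) (hZH : Red.IsCentre jz) (r : R ⟶ ZH) (hR : Red.IsMaximalTorus r)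
    (z : Z ⟶ G) (hZ : Red.IsCentralizerOf (r ≫ jz ≫ i) z)
    (jzz : ZZ ⟶ Z) (hZZ : Red.IsCentre jzz) (rz : RZ ⟶ ZZ) (hRZ : Red.IsMaximalTorus rz) :
    (∃ k : H ⟶ Z, k ≫ z = i) ∧ ∃ e : R ≅ RZ, e.hom ≫ rz ≫ jzz ≫ z = r ≫ jz ≫ i := by
  have i1 : IsImmersion i.left := hi.1.2
  have i2 : Mono i := K198.Rad.mono_of_isImmersion i
  have i3 : IsMonHom i := hi.1.1
  have j1 : IsMonHom jz := hZH.1
  have j2 : Mono jz := hZH.2.1
  have r1 : IsMonHom r := hR.1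
  have r2 : Mono r := hR.2.1
  have rz1 : IsMonHom rz := hRZ.1
  have rz2 : Mono rz := hRZ.2.1
  have z1 : IsMonHom z := hZ.1
  have z2 : Mono z := hZ.2.1
  have jj1 : IsMonHom jzz := hZZ.1
  have jj2 : Mono jzz := hZZ.2.1
  obtain ⟨k, hk⟩ := (hZ.2.2 H i).2 (by
    intro X x h
    have h1 := K198.Rad.centre_comm jz hZH (h ≫ r) x
    have h2 := congrArg (fun w => w ≫ i) h1
    simp only [MonObj.mul_comp, Category.assoc] at h2
    exact h2.symm)
  refine ⟨⟨k, hk⟩, ?_⟩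
  have hk1 : IsMonHom k := K198.Rad.isMonHom_of_comp hk
  obtain ⟨-, hZr⟩ := K198.CentRed.isReductive hG (r ≫ jz ≫ i) hR.2.2.1 z hZ
  obtain ⟨n, hn⟩ := K198.Rad.rad_factor hZr jzz hZZ rz hRZ (r ≫ jz ≫ k) hR.2.2.1 (by
    intro X x h
    rw [← cancel_mono z, MonObj.mul_comp, MonObj.mul_comp]
    have h1 := (hZ.2.2 X (h ≫ z)).1 ⟨h, rfl⟩ X (𝟙 X) x
    rw [Category.id_comp] at h1
    have h2 : (x ≫ r ≫ jz ≫ k) ≫ z = x ≫ r ≫ jz ≫ i := by simp only [Category.assoc, hk]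
    rw [h2]
    exact h1.symm)
  obtain ⟨m, hm⟩ := K198.Rad.main hG i hi hH z k hk jz hZH r hR jzz hZZ rz hRZ.2.2.1
  have hn' : n ≫ rz ≫ jzz ≫ z = r ≫ jz ≫ i := by
    have h := congrArg (fun w => w ≫ z) hn
    simp only [Category.assoc, hk] at h
    exact h
  refine ⟨⟨n, m, ?_, ?_⟩, hn'⟩
  · rw [← cancel_mono (r ≫ jz ≫ i), Category.assoc, hm, hn', Category.id_comp]
  · rw [← cancel_mono (rz ≫ jzz ≫ z), Category.assoc, hn', hm, Category.id_comp]

end Groth.Agent.S6100
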