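import Groth.Statements.S6101
import Groth.Agent.RedSub.K198.OrdPts

set_option autoImplicit false
open CategoryTheory MonoidalCategory CartesianMonoidalCategory MonObj GrpObj AlgebraicGeometry
universe u
open RedSub

namespace Groth.Agent.S6101

/-- On points: let G be a split reductive S-group (splitting D with torus T, lattice M and root
homomorphisms u_a), fix a total order on M compatible with addition, and let a_1 < ⋯ < a_N be the
roots which are positive for it, enumerated increasingly by e. For i + m = N write U_{>i} for the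
products u_{a_{i+1}}(y_1) ⋯ u_{a_N}(y_m) of points of G_a, taken in increasing order. Then: U_{>i}
is closed under products and inverses; it is normalised by the points of T and by the points of
U_{>0}; and conjugating a point of U_{>i} by a point of U_{>0} does not change its first factor y_1
(inner automorphisms of U_{>0} act trivially on U_{>i}/U_{>i+1} = U_{a_{i+1}}). -/
theorem result {S : Scheme.{u}} {G : Over S} [GrpObj G] (D : Red.SplitRed G)
    [LinearOrder D.M] [IsOrderedAddMonoid D.M] {N : ℕ} (e : Fin N → D.idx) (he : Function.Injective e)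
    (hrange : ∀ a : D.idx, a ∈ Set.range e ↔ 0 < D.P.root a) (hmono : StrictMono (fun k => D.P.root (e k)))
    (i m : ℕ) (h : i + m = N) :
    (∀ (X : Over S) (y y' : Fin m → (X ⟶ Red.Ga S)), ∃ z : Fin m → (X ⟶ Red.Ga S),
      (List.ofFn (fun k => z k ≫ D.u (e (Fin.cast h (Fin.natAdd i k))))).prod =
        (List.ofFn (fun k => y k ≫ D.u (e (Fin.cast h (Fin.natAdd i k))))).prod *
          (List.ofFn (fun k => y' k ≫ D.u (e (Fin.cast h (Fin.natAdd i k))))).prod) ∧
    (∀ (X : Over S) (y : Fin m → (X ⟶ Red.Ga S)), ∃ z : Fin m → (X ⟶ Red.Ga S),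
      (List.ofFn (fun k => z k ≫ D.u (e (Fin.cast h (Fin.natAdd i k))))).prod =
        ((List.ofFn (fun k => y k ≫ D.u (e (Fin.cast h (Fin.natAdd i k))))).prod)⁻¹) ∧
    (∀ (X : Over S) (t : X ⟶ D.T) (y : Fin m → (X ⟶ Red.Ga S)), ∃ z : Fin m → (X ⟶ Red.Ga S),
      (List.ofFn (fun k => z k ≫ D.u (e (Fin.cast h (Fin.natAdd i k))))).prod =
        (t ≫ D.i) * (List.ofFn (fun k => y k ≫ D.u (e (Fin.cast h (Fin.natAdd i k))))).prod * (t ≫ D.i)⁻¹) ∧
    (∀ (X : Over S) (x : Fin N → (X ⟶ Red.Ga S)) (y : Fin m → (X ⟶ Red.Ga S)), ∃ z : Fin m → (X ⟶ Red.Ga S),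
      (List.ofFn (fun k => z k ≫ D.u (e (Fin.cast h (Fin.natAdd i k))))).prod =
        (List.ofFn (fun k => x k ≫ D.u (e k))).prod *
          (List.ofFn (fun k => y k ≫ D.u (e (Fin.cast h (Fin.natAdd i k))))).prod *
            ((List.ofFn (fun k => x k ≫ D.u (e k))).prod)⁻¹ ∧
      ∀ k : Fin m, (k : ℕ) = 0 → z k = y k) := by
  rcases isEmpty_or_nonempty S with hS | hS
  · have hs : ∀ X : Over S, Subsingleton (X ⟶ G) := fun X => K198.OrdEmpty.subsingleton_hom X G
    exact ⟨fun X y y' => ⟨y, (hs X).elim _ _⟩, fun X y => ⟨y, (hs X).elim _ _⟩, fun X t y => ⟨y, (hs X).elim _ _⟩,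
      fun X x y => ⟨y, (hs X).elim _ _, fun _ _ => rfl⟩⟩
  · have hadd := fun X => K198.OrdU.uu_add D e X
    have hcomm : ∀ X : Over S, ∀ i j : Fin N, i < j → ∀ x y, ∃ c : Fin N → Γ(X.left, ⊤),
        K198.OrdU.uu D e X i x * K198.OrdU.uu D e X j y * (K198.OrdU.uu D e X i x)⁻¹ =
          K198.OrdU.uu D e X j y * K198.Coll.tail (K198.OrdU.uu D e X) (j + 1) c := fun X i j hij x y => by
      obtain ⟨c, p, q, -, hc⟩ := K198.OrdU.exists_comm he hrange hmono i j hij
      exact ⟨_, hc X x y⟩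
    refine ⟨fun X y y' => ?_, fun X y => ?_, fun X t y => ?_, fun X x y => ?_⟩
    · obtain ⟨v, hv⟩ := K198.Coll.mul_mem (hadd X) (hcomm X) i (K198.OrdPts.ext i h y) (K198.OrdPts.ext i h y')
      refine ⟨fun k => Sga3B.GaPts.gaPt X (v (Fin.cast h (Fin.natAdd i k))), ?_⟩
      rw [K198.OrdPts.tail_eq_ofFn, K198.OrdPts.ofFn_eq_tail', K198.OrdPts.ofFn_eq_tail', hv]
    · obtain ⟨v, hv⟩ := K198.Coll.inv_mem (hadd X) (hcomm X) i (K198.OrdPts.ext i h y)
      refine ⟨fun k => Sga3B.GaPts.gaPt X (v (Fin.cast h (Fin.natAdd i k))), ?_⟩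
      rw [K198.OrdPts.tail_eq_ofFn, K198.OrdPts.ofFn_eq_tail', hv]
    · obtain ⟨v, hv⟩ := K198.OrdPts.conj_tail D e t i (K198.OrdPts.ext i h y)
      refine ⟨fun k => Sga3B.GaPts.gaPt X (v (Fin.cast h (Fin.natAdd i k))), ?_⟩
      rw [K198.OrdPts.tail_eq_ofFn, K198.OrdPts.ofFn_eq_tail', hv]
    · obtain ⟨v, -, hv, hv'⟩ := K198.Coll.exists_conj_tail (hadd X) (L := K198.Coll.LL _) monotone_const
        (K198.Coll.hcomm' (hcomm X)) i (x := fun k => Red.gaFn (x k)) (w := K198.OrdPts.ext i h y)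
        (K198.Coll.good_LL 0 _) (K198.Coll.good_LL i _)
      refine ⟨fun k => Sga3B.GaPts.gaPt X (v (Fin.cast h (Fin.natAdd i k))), ?_, fun k hk => ?_⟩
      · rw [K198.OrdPts.tail_eq_ofFn, K198.OrdPts.ofFn_eq_tail', K198.OrdU.ofFn_eq_tail, hv]
      · change Sga3B.GaPts.gaPt X (v (Fin.cast h (Fin.natAdd i k))) = y k
        rw [hv' (Fin.cast h (Fin.natAdd i k)) (by
          change i + (k : ℕ) = i
          omega), K198.OrdPts.ext_natAdd, Sga3B.GaPts.gaPt_gaFn]

end Groth.Agent.S6101
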