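import Groth.Statements.S6102
import Groth.Agent.RedSub.K198.OrdQ
import Groth.Agent.RedSub.K198.OrdEmpty

set_option autoImplicit false
open CategoryTheory MonoidalCategory CartesianMonoidalCategory MonObj GrpObj AlgebraicGeometry
universe u
open RedSub

namespace Groth.Agent.S6102

/-- Existence, uniqueness and triangular form of the polynomial group law: let G be a split reductive
S-group (splitting D with root homomorphisms u_a and lattice M), fix a total order on M compatible
with addition, and let a_1 < ⋯ < a_N be the positive roots, enumerated increasingly by e. Then there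
is a unique family (Q_k) of polynomials in 2N variables over Γ(S, O_S) expressing the group law in
the coordinates x ↦ u_{a_1}(x_1) ⋯ u_{a_N}(x_N): for points x, y, z of G_a^N one has u(z) = u(x)
u(y) if and only if the coordinate of each z_k is Q_k(x, y); moreover Q_k = x_k + y_k + Q'_k with
Q'_k a polynomial in the x_j, y_j for j < k only. (The further assertion that the coefficients lie
in the subring generated by the structure constants of the commutator formulas is not stated.) -/
theorem result {S : Scheme.{u}} {G : Over S} [GrpObj G] (D : Red.SplitRed G)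
    [LinearOrder D.M] [IsOrderedAddMonoid D.M] {N : ℕ} (e : Fin N → D.idx) (he : Function.Injective e)
    (hrange : ∀ a : D.idx, a ∈ Set.range e ↔ 0 < D.P.root a) (hmono : StrictMono (fun k => D.P.root (e k))) :
    ∃! Q : Fin N → MvPolynomial (Fin N ⊕ Fin N) Γ(S, ⊤),
      (∀ (X : Over S) (x y z : Fin N → (X ⟶ Red.Ga S)),
        (List.ofFn (fun k => z k ≫ D.u (e k))).prod =
            (List.ofFn (fun k => x k ≫ D.u (e k))).prod * (List.ofFn (fun k => y k ≫ D.u (e k))).prod ↔
          ∀ k, Red.gaFn (z k) = MvPolynomial.eval₂ X.hom.appTop.hom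
            (Sum.elim (fun j => Red.gaFn (x j)) (fun j => Red.gaFn (y j))) (Q k)) ∧
      (∀ k : Fin N, ∀ v ∈ (Q k - MvPolynomial.X (Sum.inl k) - MvPolynomial.X (Sum.inr k)).vars,
        Sum.elim (fun j : Fin N => j < k) (fun j : Fin N => j < k) v) := by
  rcases isEmpty_or_nonempty S with hS | hS
  · have hs : ∀ X : Over S, Subsingleton (X ⟶ G) := fun X => K198.OrdEmpty.subsingleton_hom X G
    have hf : ∀ X : Over S, Subsingleton Γ(X.left, ⊤) := K198.OrdEmpty.subsingleton_fun
    haveI h0 : Subsingleton Γ(S, ⊤) := inferInstance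
    haveI h1 : Subsingleton (MvPolynomial (Fin N ⊕ Fin N) Γ(S, ⊤)) := inferInstance
    refine ⟨fun _ => 0, ⟨fun X x y z => ⟨fun _ k => (hf X).elim _ _, fun _ => (hs X).elim _ _⟩, fun k v hv => ?_⟩,
      fun Q _ => funext fun k => Subsingleton.elim _ _⟩
    rw [Subsingleton.elim ((0 : MvPolynomial (Fin N ⊕ Fin N) Γ(S, ⊤)) - _ - _) 0, MvPolynomial.vars_0] at hv
    exact absurd hv (Finset.notMem_empty v)
  · obtain ⟨Q, hQ, hQ'⟩ := K198.OrdQ.exists_Q he hrange hmono
    have key : ∀ (X : Over S) (x y z : Fin N → (X ⟶ Red.Ga S)),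
        (List.ofFn (fun k => z k ≫ D.u (e k))).prod =
            (List.ofFn (fun k => x k ≫ D.u (e k))).prod * (List.ofFn (fun k => y k ≫ D.u (e k))).prod ↔
          ∀ k, Red.gaFn (z k) = MvPolynomial.eval₂ X.hom.appTop.hom
            (Sum.elim (fun j => Red.gaFn (x j)) (fun j => Red.gaFn (y j))) (Q k) := by
      intro X x y z
      have h := hQ ⟨X, Sum.elim (fun j => Red.gaFn (x j)) (fun j => Red.gaFn (y j))⟩
      rw [K198.OrdU.ofFn_eq_tail, K198.OrdU.ofFn_eq_tail, K198.OrdU.ofFn_eq_tail]
      change K198.Coll.tail (K198.OrdU.uu D e X) 0 _ = K198.Coll.tail (K198.OrdU.uu D e X) 0 _ *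
        K198.Coll.tail (K198.OrdU.uu D e X) 0 _ at h
      simp only [Sum.elim_inl, Sum.elim_inr] at h
      rw [← h]
      constructor
      · intro h2 k
        exact congrFun (K198.OrdU.tail_injective he hrange X _ _ h2) k
      · intro h2
        congr 1
        funext k
        exact h2 k
    refine ⟨Q, ⟨key, hQ'⟩, fun Q₁ hQ₁ => funext fun k => K198.PolyExt.eq_of_ev fun a => ?_⟩
    have h1 := (hQ₁.1 a.1 (fun j => Sga3B.GaPts.gaPt a.1 (a.2 (Sum.inl j))) (fun j => Sga3B.GaPts.gaPt a.1 (a.2 (Sum.inr j)))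
      (fun j => Sga3B.GaPts.gaPt a.1 (K198.PolyExt.ev a (Q j)))).1 ((key _ _ _ _).2 fun k => by
        rw [Sga3B.GaPts.gaFn_gaPt, K198.PolyExt.ev_apply]
        congr 1
        funext v
        rcases v with j | j <;> simp only [Sum.elim_inl, Sum.elim_inr, Sga3B.GaPts.gaFn_gaPt]) k
    rw [Sga3B.GaPts.gaFn_gaPt] at h1
    rw [h1, K198.PolyExt.ev_apply]
    congr 1
    funext v
    rcases v with j | j <;> simp only [Sum.elim_inl, Sum.elim_inr, Sga3B.GaPts.gaFn_gaPt]

end Groth.Agent.S6102
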