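import Groth.Statements.S6103
import Groth.Agent.RedSub.K198.FilBor
import Groth.Agent.Par.K208.HtCochar

set_option autoImplicit false
open CategoryTheory MonoidalCategory CartesianMonoidalCategory MonObj GrpObj AlgebraicGeometry
universe u
open RedSub

namespace Groth.Agent.S6103

/-- Over an affine base S = Spec A, let G be a reductive S-group, B ⟶ G a Borel subgroup and B^u its
unipotent part. Then there is a decreasing sequence U_0 = B^u ⊇ U_1 ⊇ ⋯ of closed normal subgroup
schemes of B, smooth over S with connected fibres, such that: for each n the fppf quotient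
U_n/U_{n+1} is a vector group, i.e. there are a finitely generated projective A-module P_n and a
homomorphism U_n ⟶ Spec(Sym_A P_n) (additive group) which is the fppf quotient of U_n by U_{n+1};
the inner automorphisms of B^u act trivially on these quotients; and the geometric fibre of U_n at s
is trivial for n ≥ dim (B^u at s). (The published statement is over an arbitrary base with locally
free sheaves E_n and asserts the U_n characteristic in B; this row is its case of an affine base and
states normality.) -/
theorem result {A : Type u} [CommRing A]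
    {G B U : Over (Spec (CommRingCat.of A))} [GrpObj G] [GrpObj B] [GrpObj U] (hG : Red.IsReductive G)
    (b : B ⟶ G) (hB : RedSub.IsBorelSub b) (u : U ⟶ B) (hU : Par.IsUnipotentRadical u) :
    ∃ (V : ℕ → Over (Spec (CommRingCat.of A))) (_ : ∀ n, GrpObj (V n)) (v : ∀ n, V n ⟶ B)
      (w : ∀ n, V (n + 1) ⟶ V n),
      Par.IsUnipotentRadical (v 0) ∧
      (∀ n, IsMonHom (v n) ∧ IsClosedImmersion (v n).left ∧ AlgGrp.IsNormalHom (v n) ∧ Smooth (V n).hom ∧
        RedSub.HasConnectedFibres (V n) ∧ IsMonHom (w n) ∧ w n ≫ v n = v (n + 1)) ∧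
      (∀ n, ∃ (P : Type u) (_ : AddCommGroup P) (_ : Module A P) (_ : Module.Finite A P) (_ : Module.Projective A P)
        (p : V n ⟶ (Spec (CommRingCat.of (SymmetricAlgebra A P))).asOver (Spec (CommRingCat.of A))),
        IsMonHom p ∧ RedSub.IsQuotient (w n) p ∧
        ∀ (X : Over (Spec (CommRingCat.of A))) (c : X ⟶ V 0) (x : X ⟶ V n), ∃ x' : X ⟶ V n,
          x' ≫ v n = (c ≫ v 0) * (x ≫ v n) * (c ≫ v 0)⁻¹ ∧ x' ≫ p = x ≫ p) ∧
      (∀ (s : ↥(Spec (CommRingCat.of A))) (n : ℕ),
        topologicalKrullDim ↥(Red.geomFibre s (V 0)).left ≤ (n : WithBot ℕ∞) →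
          Red.IsTrivialGrp (Red.geomFibre s (V n))) := by
  exact K198.FilBor.main hG b hB u hU fun hP => Groth.Agent.Par.K208.HtCochar.exists_ht hG b hP

end Groth.Agent.S6103
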