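import Groth.Statements.S6106
import Groth.Agent.RedSub.K198.Rad
import Groth.Agent.RedSub.K198.CentRed
import Groth.Agent.Sga3B.MaxTorNear900

set_option autoImplicit false
open CategoryTheory MonoidalCategory CartesianMonoidalCategory MonObj GrpObj AlgebraicGeometry
universe u
open RedSub

namespace Groth.Agent.S6106

/-- Let G be a reductive S-group, q : Q ⟶ G a subtorus, Z = Centr_G(Q), Z(Z) its centre and rad(Z) ⟶
Z(Z) a maximal torus. If q' : Q' ⟶ G is a subtorus containing Q which is C-critical (Q' is the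
radical of its centraliser Z': it factors through the centre Z(Z') as a maximal torus of Z(Z')),
then rad(Centr_G(Q)) ⊆ Q' as subgroups of G. Since rad(Centr_G(Q)) contains Q and is itself
C-critical, this says it is the smallest C-critical torus of G containing Q. -/
theorem result {S : Scheme.{u}} {G Q Z ZZ RZ Q' Z' ZZ' : Over S} [GrpObj G]
    [GrpObj Q] [GrpObj Z] [GrpObj ZZ] [GrpObj RZ] [GrpObj Q'] [GrpObj Z'] [GrpObj ZZ'] (hG : Red.IsReductive G)
    (q : Q ⟶ G) [IsMonHom q] [Mono q] (hQ : Red.IsTorus Q) (z : Z ⟶ G) (hZ : Red.IsCentralizerOf q z)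
    (jzz : ZZ ⟶ Z) (hZZ : Red.IsCentre jzz) (rz : RZ ⟶ ZZ) (hRZ : Red.IsMaximalTorus rz)
    (q' : Q' ⟶ G) [IsMonHom q'] [Mono q'] (hQ' : Red.IsTorus Q') (k : Q ⟶ Q') (hk : k ≫ q' = q)
    (z' : Z' ⟶ G) (hZ' : Red.IsCentralizerOf q' z') (jzz' : ZZ' ⟶ Z') (hZZ' : Red.IsCentre jzz')
    (m' : Q' ⟶ ZZ') (hm' : m' ≫ jzz' ≫ z' = q') (hcrit : Red.IsMaximalTorus m') :
    ∃ l : RZ ⟶ Q', l ≫ q' = rz ≫ jzz ≫ z := by
  have rz1 : IsMonHom rz := hRZ.1
  have z1 : IsMonHom z := hZ.1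
  have z2 : Mono z := hZ.2.1
  have jj1 : IsMonHom jzz := hZZ.1
  have z'1 : IsMonHom z' := hZ'.1
  have z'2 : Mono z' := hZ'.2.1
  -- `Q' ⊆ Z`
  obtain ⟨a, ha⟩ := (hZ.2.2 Q' q').2 (by
    intro X x h
    have h1 := Sga3B.MaxTorNear900.mul_comm_of_isTorus hQ' X x (h ≫ k)
    have h2 := congrArg (fun w => w ≫ q') h1
    simp only [MonObj.mul_comp, Category.assoc, hk] at h2
    exact h2)
  -- `rad(Z) ⊆ Z'`
  obtain ⟨c, hc⟩ := (hZ'.2.2 RZ (rz ≫ jzz ≫ z)).2 (by
    intro X x h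
    have h1 := K198.Rad.centre_comm jzz hZZ (x ≫ rz) (h ≫ a)
    have h2 := congrArg (fun w => w ≫ z) h1
    simp only [MonObj.mul_comp, Category.assoc, ha] at h2
    exact h2)
  -- `Z' ⊆ Z`
  obtain ⟨d, hd⟩ := (hZ.2.2 Z' z').2 (by
    intro X x h
    have h1 := (hZ'.2.2 Z' z').1 ⟨𝟙 _, Category.id_comp _⟩ X x (h ≫ k)
    simpa only [Category.assoc, hk] using h1)
  have hc1 : IsMonHom c := K198.Rad.isMonHom_of_comp hc
  obtain ⟨-, hZr⟩ := K198.CentRed.isReductive hG q' hQ' z' hZ'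
  obtain ⟨l, hl⟩ := K198.Rad.rad_factor hZr jzz' hZZ' m' hcrit c hRZ.2.2.1 (by
    intro X x h
    rw [← cancel_mono z', MonObj.mul_comp, MonObj.mul_comp]
    have h1 := K198.Rad.centre_comm jzz hZZ (x ≫ rz) (h ≫ d)
    have h2 := congrArg (fun w => w ≫ z) h1
    simp only [MonObj.mul_comp, Category.assoc, hd] at h2
    simp only [Category.assoc, hc]
    exact h2)
  refine ⟨l, ?_⟩
  have h := congrArg (fun w => w ≫ z') hl
  simp only [Category.assoc, hm', hc] at h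
  exact h

end Groth.Agent.S6106
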