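import Groth.Statements.S6108
import Groth.Agent.RedSub.K198.OrdPts

set_option autoImplicit false
open CategoryTheory MonoidalCategory CartesianMonoidalCategory MonObj GrpObj AlgebraicGeometry
universe u
open RedSub

namespace Groth.Agent.S6108

/-- Let G be a split reductive S-group (splitting D with root homomorphisms u_a, lattice M), fix a total
order on M compatible with addition, let a_1 < ⋯ < a_N be the positive roots enumerated increasingly
by e, and let f_1, …, f_N : G_a ⟶ H be homomorphisms into an S-group scheme H. Let F be the map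
u_{a_1}(x_1) ⋯ u_{a_N}(x_N) ↦ f_1(x_1) ⋯ f_N(x_N) on points of U = U_{a_1} ⋯ U_{a_N}. Then F is
multiplicative if and only if, for all i < j and all points a, c of G_a, F applied to the
coordinates of u_{a_j}(c) u_{a_i}(a) u_{a_j}(c)⁻¹ equals f_j(c) f_i(a) f_j(c)⁻¹. (The published
statement allows H to be any group functor over S; this row takes H to be a group scheme over S.) -/
theorem result {S : Scheme.{u}} {G H : Over S} [GrpObj G] [GrpObj H]
    (D : Red.SplitRed G) [LinearOrder D.M] [IsOrderedAddMonoid D.M] {N : ℕ} (e : Fin N → D.idx)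
    (he : Function.Injective e) (hrange : ∀ a : D.idx, a ∈ Set.range e ↔ 0 < D.P.root a)
    (hmono : StrictMono (fun k => D.P.root (e k))) (f : Fin N → (Red.Ga S ⟶ H)) (hf : ∀ k, IsMonHom (f k)) :
    (∀ (X : Over S) (x y z : Fin N → (X ⟶ Red.Ga S)),
      (List.ofFn (fun k => z k ≫ D.u (e k))).prod =
          (List.ofFn (fun k => x k ≫ D.u (e k))).prod * (List.ofFn (fun k => y k ≫ D.u (e k))).prod →
        (List.ofFn (fun k => z k ≫ f k)).prod =
          (List.ofFn (fun k => x k ≫ f k)).prod * (List.ofFn (fun k => y k ≫ f k)).prod) ↔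
    (∀ (X : Over S) (i j : Fin N), i < j → ∀ (a c : X ⟶ Red.Ga S) (z : Fin N → (X ⟶ Red.Ga S)),
      (List.ofFn (fun k => z k ≫ D.u (e k))).prod = (c ≫ D.u (e j)) * (a ≫ D.u (e i)) * (c ≫ D.u (e j))⁻¹ →
        (List.ofFn (fun k => z k ≫ f k)).prod = (c ≫ f j) * (a ≫ f i) * (c ≫ f j)⁻¹) := by
  rcases isEmpty_or_nonempty S with hS | hS
  · have hs : ∀ X : Over S, Subsingleton (X ⟶ H) := fun X => K198.OrdEmpty.subsingleton_hom X H
    exact ⟨fun _ X i j _ a c z _ => (hs X).elim _ _, fun _ X x y z _ => (hs X).elim _ _⟩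
  · have hadd := fun X => K198.OrdU.uu_add D e X
    have hcomm : ∀ X : Over S, ∀ i j : Fin N, i < j → ∀ x y, ∃ c : Fin N → Γ(X.left, ⊤),
        K198.OrdU.uu D e X i x * K198.OrdU.uu D e X j y * (K198.OrdU.uu D e X i x)⁻¹ =
          K198.OrdU.uu D e X j y * K198.Coll.tail (K198.OrdU.uu D e X) (j + 1) c := fun X i j hij x y => by
      obtain ⟨c, p, q, -, hc⟩ := K198.OrdU.exists_comm he hrange hmono i j hij
      exact ⟨_, hc X x y⟩
    have hinj := fun X => K198.OrdU.tail_injective he hrange X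
    -- the other homomorphisms, in coordinates
    have hfadd : ∀ (X : Over S) (k : Fin N) (a b : Γ(X.left, ⊤)),
        Sga3B.GaPts.gaPt X (a + b) ≫ f k = (Sga3B.GaPts.gaPt X a ≫ f k) * (Sga3B.GaPts.gaPt X b ≫ f k) := by
      intro X k a b
      haveI := hf k
      rw [Sga3B.GaPts.gaPt_add, MonObj.mul_comp]
    have htail : ∀ (X : Over S) (z : Fin N → (X ⟶ Red.Ga S)), (List.ofFn (fun k => z k ≫ f k)).prod =
        K198.Coll.tail (fun k a => Sga3B.GaPts.gaPt X a ≫ f k) 0 (fun k => Red.gaFn (z k)) := by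
      intro X z
      rw [K198.Coll.tail_zero]
      simp only [Sga3B.GaPts.gaPt_gaFn]
    have key := fun X => K198.Coll.mul_iff_conj (f := fun k a => Sga3B.GaPts.gaPt X a ≫ f k) (hadd X) (hfadd X)
      (hcomm X) (hinj X)
    refine ⟨fun h X i j hij a c z hz => ?_, fun h X x y z hz => ?_⟩
    · have h1 := (key X).1 (fun x y z hz => by
        have h2 := h X (fun k => Sga3B.GaPts.gaPt X (x k)) (fun k => Sga3B.GaPts.gaPt X (y k))
          (fun k => Sga3B.GaPts.gaPt X (z k)) (by
            rw [K198.OrdU.ofFn_eq_tail, K198.OrdU.ofFn_eq_tail, K198.OrdU.ofFn_eq_tail]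
            simpa only [Sga3B.GaPts.gaFn_gaPt] using hz)
        rw [htail, htail, htail] at h2
        simpa only [Sga3B.GaPts.gaFn_gaPt] using h2) i j hij (Red.gaFn a) (Red.gaFn c) (fun k => Red.gaFn (z k)) (by
          rw [← K198.OrdU.ofFn_eq_tail, hz, K198.OrdU.uu_gaFn, K198.OrdU.uu_gaFn])
      simp only [Sga3B.GaPts.gaPt_gaFn] at h1
      rw [htail, h1]
    · rw [htail, htail, htail]
      refine (key X).2 (fun i j hij a c z hz => ?_) _ _ _ (by
        rw [← K198.OrdU.ofFn_eq_tail, hz, K198.OrdU.ofFn_eq_tail, K198.OrdU.ofFn_eq_tail])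
      have h1 := h X i j hij (Sga3B.GaPts.gaPt X a) (Sga3B.GaPts.gaPt X c) (fun k => Sga3B.GaPts.gaPt X (z k)) (by
        rw [K198.OrdU.ofFn_eq_tail]
        simp only [Sga3B.GaPts.gaFn_gaPt]
        rw [hz]
        rfl)
      rw [htail] at h1
      simpa only [Sga3B.GaPts.gaFn_gaPt] using h1

end Groth.Agent.S6108
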