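import Groth.Statements.S6109
import Groth.Agent.RedSub.K198.InterBor

set_option autoImplicit false
open CategoryTheory MonoidalCategory CartesianMonoidalCategory MonObj GrpObj AlgebraicGeometry
universe u
open RedSub

namespace Groth.Agent.S6109

/-- Let G be a reductive S-group, k : H ⟶ G a sub-group-scheme which is a reductive S-group with the
same reductive rank as G on every geometric fibre, T a maximal torus of H and B ⟶ G a Borel subgroup
of G containing T. Let K = B ∩ H (the fibre product, a subgroup of H). Then K is a Borel subgroup of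
H, and its unipotent part is B^u ∩ H: a point of K lies in the unipotent part of K if and only if
its image in B lies in the unipotent part of B. -/
theorem result {S : Scheme.{u}} {G H T B K : Over S} [GrpObj G] [GrpObj H]
    [GrpObj T] [GrpObj B] [GrpObj K] (hG : Red.IsReductive G) (k : H ⟶ G) (hk : RedSub.IsSubgrp k)
    (hH : Red.IsReductive H) (hrank : ∀ (s : S) (r : WithBot ℕ∞), SGA3x.HasRedRank G s r ↔ SGA3x.HasRedRank H s r)
    (t : T ⟶ H) (hT : Red.IsMaximalTorus t) (b : B ⟶ G) (hB : RedSub.IsBorelSub b) (tb : T ⟶ B)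
    (htb : tb ≫ b = t ≫ k) (kK : K ⟶ H) [IsMonHom kK] (bK : K ⟶ B) [IsMonHom bK] (hK : IsPullback bK kK b k) :
    RedSub.IsBorelSub kK ∧
      ∀ (U : Over S) [GrpObj U] (v : U ⟶ B), Par.IsUnipotentRadical v →
        ∀ (U' : Over S) [GrpObj U'] (v' : U' ⟶ K), Par.IsUnipotentRadical v' →
          ∀ (X : Over S) (x : X ⟶ K), (∃ y : X ⟶ U', y ≫ v' = x) ↔ (∃ y : X ⟶ U, y ≫ v = x ≫ bK) := by
  exact K198.InterBor.main hG k hk hH hrank t hT b hB tb htb kK bK hK

end Groth.Agent.S6109
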