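import Groth.Statements.S6110
import Groth.Agent.S6095

set_option autoImplicit false
open CategoryTheory MonoidalCategory CartesianMonoidalCategory MonObj GrpObj AlgebraicGeometry
universe u
open RedSub

namespace Groth.Agent.S6110

/-- Let G be a reductive S-group, d : D ⟶ G its derived group and f₀ : G ⟶ C its coradical (C
commutative, D = Ker f₀, f₀ the fppf quotient G/D, D killed by every homomorphism to a commutative
S-group scheme), R = rad(G) a maximal torus of the centre Z, and q : G ⟶ SS the fppf quotient of G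
by R. Then G ⟶ C x_S SS, with components f₀ and q, is an isomorphism if and only if rad(G) ∩ dér(G)
= e. -/
theorem result {S : Scheme.{u}} {G D C Z R SS : Over S}
    [GrpObj G] [GrpObj D] [GrpObj C] [GrpObj Z] [GrpObj R] [GrpObj SS] (hG : Red.IsReductive G) (d : D ⟶ G) [IsMonHom d]
    (f₀ : G ⟶ C) [IsMonHom f₀] (hC : ∀ (X : Over S) (a b : X ⟶ C), a * b = b * a) (hker : AlgGrp.IsKernel d f₀)
    (hquot : RedSub.IsQuotient d f₀) (hkill : RedSub.KilledByCommutative d)
    (j : Z ⟶ G) (hZ : Red.IsCentre j) (r : R ⟶ Z) (hR : Red.IsMaximalTorus r)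
    (q : G ⟶ SS) [IsMonHom q] (hq : RedSub.IsQuotient (r ≫ j) q) :
    IsIso (lift f₀ q) ↔ ∀ (X : Over S) (x : X ⟶ R) (y : X ⟶ D), x ≫ r ≫ j = y ≫ d → x = 1 := by
  have hj : IsMonHom j := hZ.1
  have hr : IsMonHom r := hR.1
  have hj' : Mono j := hZ.2.1
  have hr' : Mono r := hR.2.1
  have hfy : ∀ {X : Over S} (y : X ⟶ D), (y ≫ d) ≫ f₀ = 1 := fun y => by
    rw [Category.assoc, hker.w, ← Category.assoc]
    have : y ≫ toUnit D = toUnit _ := toUnit_unique _ _
    rw [this, Hom.one_def]
  constructor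
  · intro hiso X x y hxy
    have h1 : (x ≫ r ≫ j) ≫ q = 1 := (K197.QuotPts.comp_eq_one_iff_of_isMonHom hq _).2 ⟨x, rfl⟩
    have h2 : (x ≫ r ≫ j) ≫ f₀ = 1 := by rw [hxy]; exact hfy y
    have h3 : (x ≫ r ≫ j) ≫ lift f₀ q = (1 : X ⟶ G) ≫ lift f₀ q := by
      rw [comp_lift, comp_lift, h1, h2, MonObj.one_comp, MonObj.one_comp]
    have h4 : x ≫ r ≫ j = 1 := (cancel_mono (lift f₀ q)).1 h3
    rw [← cancel_mono (r ≫ j), h4, MonObj.one_comp]
  · intro h
    obtain ⟨h1, h2, h3, -⟩ := S6095.result hG d f₀ hC hker hquot hkill j hZ r hR q hq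
    have hm : Mono (lift f₀ q) := by
      constructor
      intro X a b hab
      have e1 : a ≫ f₀ = b ≫ f₀ := by
        have := congrArg (· ≫ fst C SS) hab
        simpa using this
      have e2 : a ≫ q = b ≫ q := by
        have := congrArg (· ≫ snd C SS) hab
        simpa using this
      have e3 : (a * b⁻¹) ≫ f₀ = 1 := by
        rw [MonObj.mul_comp, GrpObj.inv_comp, e1, _root_.mul_inv_cancel]
      have e4 : (a * b⁻¹) ≫ q = 1 := by
        rw [MonObj.mul_comp, GrpObj.inv_comp, e2, _root_.mul_inv_cancel]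
      obtain ⟨x, hx⟩ := (K197.QuotPts.comp_eq_one_iff_of_isMonHom hq _).1 e4
      let y : X ⟶ D := hker.lift (a * b⁻¹) (toUnit X) (by rw [e3, Hom.one_def])
      have hy : y ≫ d = a * b⁻¹ := hker.lift_fst _ _ _
      have := h X x y (by rw [hx, hy])
      rw [this, MonObj.one_comp] at hx
      exact (mul_inv_eq_one.1 hx.symm)
    have hml : Mono (lift f₀ q).left := inferInstance
    have : IsIso (lift f₀ q).left := Flat.isIso_of_surjective_of_mono _
    have : IsIso ((Over.forget S).map (lift f₀ q)) := ‹IsIso (lift f₀ q).left›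
    exact isIso_of_reflects_iso (lift f₀ q) (Over.forget S)

end Groth.Agent.S6110
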