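import Groth.Statements.S6111
import Groth.Agent.RedSub.K198.RadSurj
import Groth.Agent.RedSub.K198.PullMul
import Groth.Agent.S3972
import Groth.Agent.RedSub.K198.DerSS

set_option autoImplicit false
open CategoryTheory MonoidalCategory CartesianMonoidalCategory MonObj GrpObj AlgebraicGeometry
universe u
open RedSub

namespace Groth.Agent.S6111

/-- Let G be a reductive S-group with derived group d : D ⟶ G (kernel of a homomorphism to a commutative
S-group scheme, killed by every such homomorphism), Z its centre and R = rad(G) a maximal torus of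
Z. Let k : H ⟶ G be a sub-group-scheme containing D, smooth over S with connected fibres, and R' = H
∩ R (a fibre product). Then dér(H) = dér(G): D ⟶ H is killed by every homomorphism from H to a
commutative S-group scheme and is the kernel of one of them; and H = (H ∩ rad(G)) · dér(G): the
multiplication R' x_S D ⟶ H is surjective. -/
theorem result {S : Scheme.{u}} {G D H Z R R' : Over S} [GrpObj G]
    [GrpObj D] [GrpObj H] [GrpObj Z] [GrpObj R] [GrpObj R'] (hG : Red.IsReductive G) (d : D ⟶ G) [IsMonHom d]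
    (hker : ∃ (C : Over S) (_ : GrpObj C) (f₀ : G ⟶ C), IsMonHom f₀ ∧ (∀ (X : Over S) (a b : X ⟶ C), a * b = b * a) ∧
      AlgGrp.IsKernel d f₀)
    (hkill : RedSub.KilledByCommutative d)
    (j : Z ⟶ G) (hZ : Red.IsCentre j) (r : R ⟶ Z) (hR : Red.IsMaximalTorus r)
    (k : H ⟶ G) (hH : RedSub.IsSubgrp k) (e : D ⟶ H) [IsMonHom e] (hDH : e ≫ k = d) [Smooth H.hom]
    (hconn : RedSub.HasConnectedFibres H) (a : R' ⟶ R) (b : R' ⟶ H) [IsMonHom a] [IsMonHom b]
    (hsq : IsPullback a b (r ≫ j) k) :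
    RedSub.KilledByCommutative e ∧
      (∃ (C' : Over S) (_ : GrpObj C') (f' : H ⟶ C'), IsMonHom f' ∧ (∀ (X : Over S) (x y : X ⟶ C'), x * y = y * x) ∧
        AlgGrp.IsKernel e f') ∧
      Surjective ((b ⊗ₘ e) ≫ μ[H]).left := by
  obtain ⟨C, _, f₀, hf₀, hC, hk⟩ := hker
  have k1 : IsMonHom k := hH.1
  have k2 : IsImmersion k.left := hH.2
  have k3 : Mono k := K198.Rad.mono_of_isImmersion k
  have j1 : IsMonHom j := hZ.1
  have r1 : IsMonHom r := hR.1
  refine ⟨?_, ⟨C, inferInstance, k ≫ f₀, inferInstance, hC, ?_⟩, ?_⟩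
  · intro A _ f _ hA
    exact K198.DerSS.eq_one hG d ⟨C, _, f₀, hf₀, hC, hk⟩ hkill (e ≫ f) hA
  · -- the kernel
    have hw : e ≫ k ≫ f₀ = toUnit D ≫ η[C] := by rw [← Category.assoc, hDH, hk.w]
    refine ⟨⟨hw⟩, ⟨Limits.PullbackCone.IsLimit.mk hw (fun s => hk.lift (s.fst ≫ k) s.snd (by
      rw [Category.assoc, s.condition])) (fun s => ?_) (fun s => toUnit_unique _ _) (fun s m hm1 _ => ?_)⟩⟩
    · rw [← cancel_mono k, Category.assoc, hDH, hk.lift_fst]
    · apply hk.hom_ext
      · rw [hk.lift_fst, ← hDH, ← Category.assoc, hm1]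
      · exact toUnit_unique _ _
  · exact K198.PullMul.surjective (r ≫ j) d k e hDH a b hsq (K198.RadSurj.surjective hG d f₀ hC hk j hZ r hR)

end Groth.Agent.S6111
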