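import Groth.Statements.S6112
import Groth.Agent.RedSub.K198.RadSurj
import Groth.Agent.RedSub.K198.PullMul

set_option autoImplicit false
open CategoryTheory MonoidalCategory CartesianMonoidalCategory MonObj GrpObj AlgebraicGeometry
universe u
open RedSub

namespace Groth.Agent.S6112

/-- Let G be a reductive S-group with derived group d : D ⟶ G, k : H ⟶ G a sub-group-scheme containing
D, smooth over S with connected fibres, T a maximal torus of G and T' = T ∩ H (a fibre product with
projections to T and H). Then H = (T ∩ H) · dér(G): the multiplication T' x_S D ⟶ H is surjective. -/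
theorem result {S : Scheme.{u}} {G D H T T' : Over S} [GrpObj G]
    [GrpObj D] [GrpObj H] [GrpObj T] [GrpObj T'] (hG : Red.IsReductive G) (d : D ⟶ G) [IsMonHom d]
    (hker : ∃ (C : Over S) (_ : GrpObj C) (f₀ : G ⟶ C), IsMonHom f₀ ∧ (∀ (X : Over S) (a b : X ⟶ C), a * b = b * a) ∧
      AlgGrp.IsKernel d f₀)
    (hkill : RedSub.KilledByCommutative d)
    (k : H ⟶ G) (hH : RedSub.IsSubgrp k) (e : D ⟶ H) [IsMonHom e] (hDH : e ≫ k = d) [Smooth H.hom]
    (hconn : RedSub.HasConnectedFibres H) (i : T ⟶ G) (hT : Red.IsMaximalTorus i)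
    (a : T' ⟶ T) (b : T' ⟶ H) [IsMonHom a] [IsMonHom b] (hsq : IsPullback a b i k) :
    Surjective ((b ⊗ₘ e) ≫ μ[H]).left := by
  obtain ⟨C, _, f₀, hf₀, hC, hk⟩ := hker
  have k1 : IsMonHom k := hH.1
  have k2 : IsImmersion k.left := hH.2
  have k3 : Mono k := K198.Rad.mono_of_isImmersion k
  exact K198.PullMul.surjective i d k e hDH a b hsq (K198.RadSurj.surjective_torus hG d f₀ hC hk i hT)

end Groth.Agent.S6112
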