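import Groth.Statements.S6113
import Groth.Agent.RedSub.K199.SubCor

set_option autoImplicit false
open CategoryTheory MonoidalCategory CartesianMonoidalCategory MonObj GrpObj AlgebraicGeometry
universe u
open RedSub

namespace Groth.Agent.S6113

/-- The bijection between subgroups containing dér(G) and subtori of corad(G), in the inverse direction:
let G be a reductive S-group, d : D ⟶ G its derived group and f₀ : G ⟶ C its coradical (C
commutative, D = Ker f₀, f₀ the fppf quotient G/D, D killed by every homomorphism to a commutative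
S-group scheme). Let t : T'' ⟶ C be a subtorus and H = G x_C T'' its preimage under f₀, with
projections k : H ⟶ G and g : H ⟶ T''. Then H is a closed sub-group-scheme of G, smooth over S with
connected fibres and containing D, and g is surjective, flat and locally of finite presentation, so
that the image sheaf f₀(H) is T''. -/
theorem result {S : Scheme.{u}} {G D C T'' H : Over S} [GrpObj G] [GrpObj D] [GrpObj C]
    [GrpObj T''] [GrpObj H] (hG : Red.IsReductive G) (d : D ⟶ G) [IsMonHom d]
    (f₀ : G ⟶ C) [IsMonHom f₀] (hC : ∀ (X : Over S) (a b : X ⟶ C), a * b = b * a) (hker : AlgGrp.IsKernel d f₀)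
    (hquot : RedSub.IsQuotient d f₀) (hkill : RedSub.KilledByCommutative d)
    (t : T'' ⟶ C) [IsMonHom t] [Mono t] (hT'' : Red.IsTorus T'') (k : H ⟶ G) [IsMonHom k] (g : H ⟶ T'') [IsMonHom g]
    (hsq : IsPullback k g f₀ t) :
    IsClosedImmersion k.left ∧ Smooth H.hom ∧ RedSub.HasConnectedFibres H ∧ (∃ e : D ⟶ H, e ≫ k = d) ∧
      Surjective g.left ∧ Flat g.left ∧ LocallyOfFinitePresentation g.left := by
  obtain ⟨h1, h2, h3⟩ := K199.SubCor.props_of_isQuotient hG d f₀ hC hker hquot hkill
  obtain ⟨h4, h5, h6, h7⟩ := K199.SubCor.preimage_props hG d f₀ h1 h2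
    (K199.SubCor.isReductive_of_isSemisimple h3) hquot t hT'' k g hsq
  have hd : d ≫ f₀ = (1 : D ⟶ T'') ≫ t := by
    rw [MonObj.one_comp]
    exact hker.w
  exact ⟨h4, h5, h6, ⟨hsq.lift d 1 hd, hsq.lift_fst _ _ _⟩, h7.surj, h7.flat, h7.lfp⟩

end Groth.Agent.S6113
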