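import Groth.Statements.S6114
import Groth.Agent.RedSub.K199.SubCor
import Groth.Agent.RedSub.K199.PullGrp
import Groth.Agent.Sga3.H827.ImgTorus

set_option autoImplicit false
open CategoryTheory MonoidalCategory CartesianMonoidalCategory MonObj GrpObj AlgebraicGeometry
universe u
open RedSub

namespace Groth.Agent.S6114

/-- The bijection H ↦ T ∩ H between subgroups containing dér(G), smooth with connected fibres, and
subtori of T containing T ∩ dér(G) is onto: let G be a reductive S-group with derived group d : D ⟶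
G, T a maximal torus of G and T'' ⟶ T a subtorus such that every point of T whose image lies in D
factors through T''. Then there is a sub-group-scheme H ⟶ G containing D, smooth over S with
connected fibres, with T ∩ H = T'' on points. -/
theorem result {S : Scheme.{u}} {G D T T'' : Over S} [GrpObj G]
    [GrpObj D] [GrpObj T] [GrpObj T''] (hG : Red.IsReductive G) (d : D ⟶ G) [IsMonHom d]
    (hker : ∃ (C : Over S) (_ : GrpObj C) (f₀ : G ⟶ C), IsMonHom f₀ ∧ (∀ (X : Over S) (a b : X ⟶ C), a * b = b * a) ∧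
      AlgGrp.IsKernel d f₀)
    (hkill : RedSub.KilledByCommutative d) (i : T ⟶ G) (hT : Red.IsMaximalTorus i)
    (t : T'' ⟶ T) [IsMonHom t] [Mono t] (hT'' : Red.IsTorus T'')
    (hTD : ∀ (X : Over S) (x : X ⟶ T) (y : X ⟶ D), x ≫ i = y ≫ d → ∃ x' : X ⟶ T'', x' ≫ t = x) :
    ∃ (H : Over S) (_ : GrpObj H) (k : H ⟶ G), RedSub.IsSubgrp k ∧ Smooth H.hom ∧ RedSub.HasConnectedFibres H ∧
      (∃ e : D ⟶ H, e ≫ k = d) ∧
      ∀ (X : Over S) (x : X ⟶ T), (∃ x' : X ⟶ T'', x' ≫ t = x) ↔ (∃ y : X ⟶ H, y ≫ k = x ≫ i) := by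
  obtain ⟨C, hCg, q₀, hq₀, ⟨L⟩⟩ := Groth.Agent.RedSub.H654.Coradical.exists_LQ hG
  obtain ⟨C₁, hC₁g, f₀, hf₀, hC₁, hkerd⟩ := hker
  have hCt := L.isTorus
  have hcomm := Groth.Agent.Sga3B.MaxTorNear900.mul_comm_of_isTorus hCt
  have hCa := Groth.Agent.Sga3B.TorusAlgClosed.isAffineHom_of_isTorus hCt
  have hCs := Groth.Agent.Sga3B.TorusAlgClosed.smooth_of_isTorus hCt
  have hLs := L.smooth hG
  have hL : K199.QuotTools.Fppf q₀ := ⟨L.surjective, inferInstance, inferInstance⟩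
  have hkq : AlgGrp.IsKernel d q₀ := K199.CorTools.isKernel_corad d f₀ hkerd hC₁ hkill q₀ L
  have hdq : RedSub.IsQuotient d q₀ := K199.CorTools.isQuotient_corad d f₀ hkerd hC₁ hkill q₀ L hL
  obtain ⟨-, -, hD⟩ := K199.SubCor.props_of_isQuotient hG d q₀ hcomm hkq hdq hkill
  have him := hT.1
  obtain ⟨W, hWg, p, w, hp, hw, hpw, hps, hpf, hplfp, hwm, hW⟩ :=
    Groth.Agent.Sga3.H827.ImgTorus.exists_image_torus (t ≫ i ≫ q₀) hT''
  have hpF : K199.QuotTools.Fppf p := ⟨hps, hpf, hplfp⟩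
  have hsq := IsPullback.of_hasPullback q₀ w
  obtain ⟨hHg, hk⟩ := K199.PullGrp.exists_grpObj_of_isPullback q₀ w _ _ hsq
  obtain ⟨h1, h2, h3, h4⟩ := K199.SubCor.preimage_props hG d q₀ hCt hLs
    (K199.SubCor.isReductive_of_isSemisimple hD) hdq w hW _ _ hsq
  have hd : d ≫ q₀ = (1 : D ⟶ W) ≫ w := by
    rw [MonObj.one_comp]
    exact hkq.w
  refine ⟨Limits.pullback q₀ w, hHg, Limits.pullback.fst q₀ w, ⟨hk, inferInstance⟩, h2, h3,
    ⟨hsq.lift d 1 hd, hsq.lift_fst _ _ _⟩, fun X x => ⟨?_, ?_⟩⟩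
  · rintro ⟨x', rfl⟩
    refine ⟨hsq.lift ((x' ≫ t) ≫ i) (x' ≫ p) ?_, hsq.lift_fst _ _ _⟩
    rw [Category.assoc x' p w, hpw]
    simp only [Category.assoc]
  · rintro ⟨y, hy⟩
    obtain ⟨X', r, x'', hr, hx''⟩ := hpF.exists_lift (y ≫ Limits.pullback.snd q₀ w)
    refine hr.exists_fac t x ?_
    have e1 : (r ≫ x) ≫ i ≫ q₀ = (x'' ≫ t) ≫ i ≫ q₀ := by
      have e2 : (x'' ≫ t) ≫ i ≫ q₀ = x'' ≫ p ≫ w := by
        rw [hpw]
        simp only [Category.assoc]
      have e3 : (r ≫ x) ≫ i ≫ q₀ = r ≫ (x ≫ i) ≫ q₀ := by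
        simp only [Category.assoc]
      rw [e2, e3, ← Category.assoc x'', hx'', ← hy]
      simp only [Category.assoc]
      rw [hsq.w]
    have e4 : (((r ≫ x) * (x'' ≫ t)⁻¹) ≫ i) ≫ q₀ = 1 := by
      rw [Category.assoc, MonObj.mul_comp, GrpObj.inv_comp, e1, mul_inv_cancel]
    obtain ⟨y', hy'⟩ := K199.CorTools.exists_lift_kernel hkq _ e4
    obtain ⟨z, hz⟩ := hTD X' _ y' hy'.symm
    refine ⟨z * x'', ?_⟩
    rw [MonObj.mul_comp, hz, inv_mul_cancel_right]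

end Groth.Agent.S6114
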