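import Groth.Statements.S6115
import Groth.Agent.RedSub.K199.CorTools
import Groth.Agent.RedSub.K199.CoradTorus

set_option autoImplicit false
open CategoryTheory MonoidalCategory CartesianMonoidalCategory MonObj GrpObj AlgebraicGeometry
universe u
open RedSub

namespace Groth.Agent.S6115

/-- The identification G/H ≅ T/(T ∩ H): let G be a reductive S-group with derived group d : D ⟶ G, k : H
⟶ G a sub-group-scheme containing D, smooth over S with connected fibres, T a maximal torus of G, T'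
= T ∩ H (a fibre product) and q : G ⟶ Q the fppf quotient of G by H. Then T ⟶ G ⟶ Q exhibits Q as
the fppf quotient of T by T ∩ H. -/
theorem result {S : Scheme.{u}} {G D H T T' Q : Over S}
    [GrpObj G] [GrpObj D] [GrpObj H] [GrpObj T] [GrpObj T'] (hG : Red.IsReductive G) (d : D ⟶ G) [IsMonHom d]
    (hker : ∃ (C : Over S) (_ : GrpObj C) (f₀ : G ⟶ C), IsMonHom f₀ ∧ (∀ (X : Over S) (a b : X ⟶ C), a * b = b * a) ∧
      AlgGrp.IsKernel d f₀)
    (hkill : RedSub.KilledByCommutative d)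
    (k : H ⟶ G) (hH : RedSub.IsSubgrp k) (e : D ⟶ H) [IsMonHom e] (hDH : e ≫ k = d) [Smooth H.hom]
    (hconn : RedSub.HasConnectedFibres H) (i : T ⟶ G) (hT : Red.IsMaximalTorus i)
    (a : T' ⟶ T) (b : T' ⟶ H) [IsMonHom a] [IsMonHom b] (hsq : IsPullback a b i k)
    (q : G ⟶ Q) (hq : RedSub.IsQuotient k q) :
    RedSub.IsQuotient a (i ≫ q) := by
  obtain ⟨C, hCg, q₀, hq₀, ⟨L⟩⟩ := Groth.Agent.RedSub.H654.Coradical.exists_LQ hG
  obtain ⟨C₁, hC₁g, f₀, hf₀, hC₁, hkerd⟩ := hker
  have hL : K199.QuotTools.Fppf q₀ := by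
    have h1 := L.smooth hG
    exact ⟨L.surjective, inferInstance, inferInstance⟩
  have hcomm := Groth.Agent.Sga3B.MaxTorNear900.mul_comm_of_isTorus L.isTorus
  have hkm := hH.1
  have hki := hH.2
  have hkmono : Mono k := K199.CorTools.mono_of_isImmersion k
  have hamono : Mono a := K199.CorTools.mono_of_isPullback hsq
  have hdq : RedSub.IsQuotient d q₀ := K199.CorTools.isQuotient_corad d f₀ hkerd hC₁ hkill q₀ L hL
  obtain ⟨q', hq', hF⟩ := K199.CorTools.exists_fac_corad d q₀ hdq k e hDH q hq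
  have hT1 := K199.CoradTorus.fppf_torus hG q₀ L i hT
  have hT2 : K199.QuotTools.Fppf (i ≫ q) := by
    rw [← hq', ← Category.assoc]
    exact hT1.comp hF
  have him := hT.1
  exact ⟨hT2.surj, hT2.flat, hT2.lfp, Groth.Agent.RedSub.H650.QuotPts.isPullback_of_ptQuot
    (K199.CorTools.ptQuot_of_isPullback hsq (K199.QuotTools.ptQuot_of_isQuotient hq))⟩

end Groth.Agent.S6115
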