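import Groth.Statements.S6117
import Groth.Agent.S5558
import Groth.Agent.RedSub.K199.ProdSS

set_option autoImplicit false
open CategoryTheory MonoidalCategory CartesianMonoidalCategory MonObj GrpObj AlgebraicGeometry
universe u
open RedSub

namespace Groth.Agent.S6117

/-- Let G be a reductive S-group with derived group d : D ⟶ G, centre Z and radical R = rad(G) (a
maximal torus of Z). Then G is the product of a semisimple S-group and an S-torus (through two
homomorphisms p₁ : G ⟶ G₁, p₂ : G ⟶ G₂ with (p₁, p₂) an isomorphism) if and only if rad(G) ∩ dér(G)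
= e. -/
theorem result {S : Scheme.{u}} {G D Z R : Over S}
    [GrpObj G] [GrpObj D] [GrpObj Z] [GrpObj R] (hG : Red.IsReductive G) (d : D ⟶ G) [IsMonHom d]
    (hker : ∃ (C : Over S) (_ : GrpObj C) (f₀ : G ⟶ C), IsMonHom f₀ ∧ (∀ (X : Over S) (a b : X ⟶ C), a * b = b * a) ∧
      AlgGrp.IsKernel d f₀)
    (hkill : RedSub.KilledByCommutative d) (j : Z ⟶ G) (hZ : Red.IsCentre j) (r : R ⟶ Z) (hR : Red.IsMaximalTorus r) :
    (∃ (G₁ G₂ : Over S) (_ : GrpObj G₁) (_ : GrpObj G₂) (p₁ : G ⟶ G₁) (p₂ : G ⟶ G₂), IsMonHom p₁ ∧ IsMonHom p₂ ∧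
        Red.IsSemisimple G₁ ∧ Red.IsTorus G₂ ∧ IsIso (lift p₁ p₂)) ↔
      ∀ (X : Over S) (x : X ⟶ R) (y : X ⟶ D), x ≫ r ≫ j = y ≫ d → x = 1 := by
  have hrm := hR.1
  have hjm := hZ.1
  constructor
  · rintro ⟨G₁, G₂, _, _, p₁, p₂, hp₁, hp₂, h₁, h₂, hiso⟩ X x y hxy
    exact K199.ProdSS.inter_trivial d hkill j hZ r hR p₁ p₂ h₁ h₂ X x y hxy
  · intro h
    have h5 := (Groth.Agent.S5558.result hG d hker hkill j hZ r hR).2 h
    exact K199.ProdSS.exists_product (K199.SubCor.isSemisimple_derived hG d hker hkill) hR.2.2.1 (r ≫ j) d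
      (fun X z g => by
        have := K199.ProdSS.central hZ (z ≫ r) g
        simpa only [Category.assoc] using this) h5

end Groth.Agent.S6117
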