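import Groth.Statements.S6118
import Groth.Agent.RedSub.K193.RCFib

set_option autoImplicit false
open CategoryTheory MonoidalCategory CartesianMonoidalCategory MonObj GrpObj AlgebraicGeometry
universe u
open RedSub

namespace Groth.Agent.S6118

/-- Let G be a reductive S-group, (M, h : H ⟶ G_M) a representing pair for the functor of subgroups of
type (RC) of G, and cl : M ⟶ Cl its class morphism: Cl is finite etale over S, cl is smooth and
surjective, and two classifying maps have the same image under cl exactly when the classified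
subgroups have conjugate geometric fibres at every point. Let i₀ : H₀ ⟶ G be a subgroup of type (RC)
of G with normaliser n : N ⟶ G, and u the class of H₀ (an S-point of Cl). Then the morphism q : G ⟶
M classifying the family of conjugates int(g)H₀ satisfies cl ∘ q = u, the fibre cl⁻¹(u) = M x_Cl S
is open in M and smooth, surjective and quasi-projective over S (quasi-projective stated as:
Zariski-locally on S an immersed subscheme of a projective space over the base), and q presents
cl⁻¹(u) as the fppf quotient G/N. (Stated over the base S itself; over an S-scheme S' it is the same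
statement for the base-changed data.) -/
theorem result {S : Scheme.{u}} (G : Over S) [GrpObj G]
    (hG : Red.IsReductive G) (M : Over S) (H : Over M.left) [GrpObj H] (h : H ⟶ Red.bc M.hom G) (hh : RedSub.IsTypeR h)
    (hRC : (∀ (s : ↥M.left) (D' : Red.SplitRed (Red.geomFibre s (Red.bc M.hom G))) (t' : D'.T ⟶ Red.geomFibre s _),
        t' ≫ (Over.pullback (Red.geomPt s)).map h = D'.i →
        ∀ a b c : D'.idx, (∃ v, v ≫ (Over.pullback (Red.geomPt s)).map h = D'.u a) →
          (∃ v, v ≫ (Over.pullback (Red.geomPt s)).map h = D'.u b) → D'.P.root a + D'.P.root b = D'.P.root c →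
          ∃ v, v ≫ (Over.pullback (Red.geomPt s)).map h = D'.u c))
    (huniv : ∀ (S' : Scheme.{u}) (f : S' ⟶ S) (H' : Over S') [GrpObj H'] (h' : H' ⟶ Red.bc f G), RedSub.IsTypeR h' →
        (∀ (s : ↥S') (D' : Red.SplitRed (Red.geomFibre s (Red.bc f G))) (t' : D'.T ⟶ Red.geomFibre s _),
        t' ≫ (Over.pullback (Red.geomPt s)).map h' = D'.i →
        ∀ a b c : D'.idx, (∃ v, v ≫ (Over.pullback (Red.geomPt s)).map h' = D'.u a) →
          (∃ v, v ≫ (Over.pullback (Red.geomPt s)).map h' = D'.u b) → D'.P.root a + D'.P.root b = D'.P.root c →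
          ∃ v, v ≫ (Over.pullback (Red.geomPt s)).map h' = D'.u c) →
        ∃! g : S' ⟶ M.left, g ≫ M.hom = f ∧ RedSub.SamePoints G f h' M h g)
    (Cl : Over S) (cl : M ⟶ Cl) (hfin : IsFinite Cl.hom) (het : Etale Cl.hom) (hsm : Smooth cl.left)
    (hsurj : Surjective cl.left)
    (hcl : ∀ (S' : Scheme.{u}) (f : S' ⟶ S) (H₁ H₂ : Over S') [GrpObj H₁] [GrpObj H₂] (h₁ : H₁ ⟶ Red.bc f G)
        (h₂ : H₂ ⟶ Red.bc f G) (g₁ g₂ : S' ⟶ M.left), RedSub.IsTypeR h₁ → RedSub.IsTypeR h₂ →
        g₁ ≫ M.hom = f → g₂ ≫ M.hom = f → RedSub.SamePoints G f h₁ M h g₁ → RedSub.SamePoints G f h₂ M h g₂ →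
        (g₁ ≫ cl.left = g₂ ≫ cl.left ↔
          ∀ s : ↥S', ∃ gpt : 𝟙_ _ ⟶ Red.geomFibre s (Red.bc f G),
            RedSub.ConjEq ((Over.pullback (Red.geomPt s)).map h₁) ((Over.pullback (Red.geomPt s)).map h₂) gpt))
    {H₀ N : Over S} [GrpObj H₀] [GrpObj N] (i₀ : H₀ ⟶ G) (hH₀ : RedSub.IsTypeR i₀)
    (hRC₀ : (∀ (s : ↥S) (D' : Red.SplitRed (Red.geomFibre s G)) (t' : D'.T ⟶ Red.geomFibre s _),
        t' ≫ (Over.pullback (Red.geomPt s)).map i₀ = D'.i →
        ∀ a b c : D'.idx, (∃ v, v ≫ (Over.pullback (Red.geomPt s)).map i₀ = D'.u a) →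
          (∃ v, v ≫ (Over.pullback (Red.geomPt s)).map i₀ = D'.u b) → D'.P.root a + D'.P.root b = D'.P.root c →
          ∃ v, v ≫ (Over.pullback (Red.geomPt s)).map i₀ = D'.u c))
    (n : N ⟶ G) (hN : Red.IsNormalizerOf i₀ n) :
    ∃ (q : G ⟶ M) (hq : q.left ≫ cl.left = G.hom ≫ (η[G].left ≫ q.left ≫ cl.left)),
      RedSub.SamePoints G G.hom (RedSub.conjFamily i₀) M h q.left ∧
      IsOpenImmersion (Limits.pullback.fst cl.left (η[G].left ≫ q.left ≫ cl.left)) ∧
      Smooth (Limits.pullback.snd cl.left (η[G].left ≫ q.left ≫ cl.left)) ∧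
      Surjective (Limits.pullback.snd cl.left (η[G].left ≫ q.left ≫ cl.left)) ∧
      RedSub.IsLocallyQuasiProjective (Over.mk (Limits.pullback.snd cl.left (η[G].left ≫ q.left ≫ cl.left))) ∧
      RedSub.IsQuotient n (Over.homMk (Limits.pullback.lift q.left G.hom hq)
        (Limits.pullback.lift_snd q.left G.hom hq) :
          G ⟶ Over.mk (Limits.pullback.snd cl.left (η[G].left ≫ q.left ≫ cl.left))) := by
  exact K193.RCFib.main hG hh huniv hcl hH₀ hRC₀ hN

end Groth.Agent.S6118
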