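import Groth.Statements.S6119
import Groth.Agent.RedSub.K199.QuotTools

set_option autoImplicit false
open CategoryTheory MonoidalCategory CartesianMonoidalCategory MonObj GrpObj AlgebraicGeometry
universe u
open RedSub

namespace Groth.Agent.S6119

/-- The identification G/H ≅ corad(G)/corad(H): let G be a reductive S-group, d : D ⟶ G its derived
group and f₀ : G ⟶ C its coradical (C commutative, D = Ker f₀, f₀ the fppf quotient G/D, D killed by
every homomorphism to a commutative S-group scheme). Let t : T'' ⟶ C be a subtorus, H = G x_C T''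
its preimage under f₀ (with projections k : H ⟶ G and g : H ⟶ T''), and q : G ⟶ Q the fppf quotient
of G by H. Then q factors uniquely as f₀ followed by q' : C ⟶ Q, and q' exhibits Q as the fppf
quotient of C by T''. -/
theorem result {S : Scheme.{u}} {G D C T'' H Q : Over S} [GrpObj G] [GrpObj D]
    [GrpObj C] [GrpObj T''] [GrpObj H] (hG : Red.IsReductive G) (d : D ⟶ G) [IsMonHom d]
    (f₀ : G ⟶ C) [IsMonHom f₀] (hC : ∀ (X : Over S) (a b : X ⟶ C), a * b = b * a) (hker : AlgGrp.IsKernel d f₀)
    (hquot : RedSub.IsQuotient d f₀) (hkill : RedSub.KilledByCommutative d)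
    (t : T'' ⟶ C) [IsMonHom t] [Mono t] (hT'' : Red.IsTorus T'') (k : H ⟶ G) [IsMonHom k] (g : H ⟶ T'') [IsMonHom g]
    (hsq : IsPullback k g f₀ t) (q : G ⟶ Q) (hq : RedSub.IsQuotient k q) :
    ∃! q' : C ⟶ Q, f₀ ≫ q' = q ∧ RedSub.IsQuotient t q' := by
  have hf1 := hquot.1
  have hf2 := hquot.2.1
  have hf3 := hquot.2.2.1
  have hgF : K199.QuotTools.Fppf g := by
    have hp := hsq.map (Over.forget S)
    exact ⟨MorphismProperty.of_isPullback (P := @Surjective) hp hf1,
      MorphismProperty.of_isPullback (P := @Flat) hp hf2,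
      MorphismProperty.of_isPullback (P := @LocallyOfFinitePresentation) hp hf3⟩
  have hd : d ≫ f₀ = (1 : D ⟶ T'') ≫ t := by
    rw [MonObj.one_comp]
    exact hker.w
  obtain ⟨q', hq', hQ⟩ := K199.QuotTools.exists_quotient_desc f₀ hquot t k g hsq.w hgF
    (hsq.lift d 1 hd) (hsq.lift_fst _ _ _) q hq
  refine ⟨q', ⟨hq', hQ⟩, ?_⟩
  rintro q'' ⟨h1, -⟩
  have := (K199.QuotTools.fppf_of_isQuotient hquot).epi
  rw [← cancel_epi f₀, h1, hq']

end Groth.Agent.S6119
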