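import Groth.Statements.S6120

set_option autoImplicit false
open CategoryTheory CategoryTheory.Limits Opposite
universe w v₁ v₂ u₁ u₂
open SGA4

namespace Groth.Agent.S6120

section aux
variable {I : Type u₁} [Category.{v₁} I] {C : Type u₂} [Category.{v₂} C] {A : Type w} (i : A → I)
    [∀ α β, HasBinaryProduct (i α) (i β)]
    (hcov : ∀ j : I, ∃ α, Nonempty (j ⟶ i α))
    (F : Iᵒᵖ ⥤ C)
    [HasProduct (fun α => F.obj (op (i α)))]
    [HasProduct (fun p : A × A => F.obj (op (i p.1 ⨯ i p.2)))]

lemma aux_indep {T : C} (t : T ⟶ ∏ᶜ (fun α => F.obj (op (i α))))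
    (ht : t ≫ Pi.lift (fun p : A × A =>
            Pi.π (fun α => F.obj (op (i α))) p.1 ≫ F.map (prod.fst : i p.1 ⨯ i p.2 ⟶ i p.1).op) =
        t ≫ Pi.lift (fun p : A × A =>
            Pi.π (fun α => F.obj (op (i α))) p.2 ≫ F.map (prod.snd : i p.1 ⨯ i p.2 ⟶ i p.2).op))
    {j : I} {α β : A} (f : j ⟶ i α) (g : j ⟶ i β) :
    t ≫ Pi.π (fun α => F.obj (op (i α))) α ≫ F.map f.op =
      t ≫ Pi.π (fun α => F.obj (op (i α))) β ≫ F.map g.op := by
  have h := congrArg (fun x => x ≫ Pi.π _ (⟨α, β⟩ : A × A)) ht
  simp only [Category.assoc, Pi.lift_π] at h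
  have h2 := congrArg (fun x => x ≫ F.map (prod.lift f g).op) h
  simp only [Category.assoc, ← F.map_comp, ← op_comp, prod.lift_fst, prod.lift_snd] at h2
  exact h2

/-- The cone attached to an equalizing map. -/
noncomputable def auxCone {T : C} (t : T ⟶ ∏ᶜ (fun α => F.obj (op (i α))))
    (ht : t ≫ Pi.lift (fun p : A × A =>
            Pi.π (fun α => F.obj (op (i α))) p.1 ≫ F.map (prod.fst : i p.1 ⨯ i p.2 ⟶ i p.1).op) =
        t ≫ Pi.lift (fun p : A × A =>
            Pi.π (fun α => F.obj (op (i α))) p.2 ≫ F.map (prod.snd : i p.1 ⨯ i p.2 ⟶ i p.2).op)) :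
    Cone F where
  pt := T
  π :=
    { app := fun j => t ≫ Pi.π (fun α => F.obj (op (i α))) (hcov j.unop).choose ≫
        F.map (hcov j.unop).choose_spec.some.op
      naturality := fun j k f => by
        simp only [Functor.const_obj_obj, Functor.const_obj_map, Category.id_comp, Category.assoc,
          ← F.map_comp]
        exact aux_indep i F t ht _ (f.unop ≫ (hcov j.unop).choose_spec.some) }

lemma auxCone_π {T : C} (t : T ⟶ ∏ᶜ (fun α => F.obj (op (i α))))
    (ht : t ≫ Pi.lift (fun p : A × A =>
            Pi.π (fun α => F.obj (op (i α))) p.1 ≫ F.map (prod.fst : i p.1 ⨯ i p.2 ⟶ i p.1).op) =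
        t ≫ Pi.lift (fun p : A × A =>
            Pi.π (fun α => F.obj (op (i α))) p.2 ≫ F.map (prod.snd : i p.1 ⨯ i p.2 ⟶ i p.2).op))
    (α : A) : (auxCone i hcov F t ht).π.app (op (i α)) =
      t ≫ Pi.π (fun α => F.obj (op (i α))) α := by
  have := aux_indep i F t ht (hcov (i α)).choose_spec.some (𝟙 (i α))
  simpa [auxCone] using this

lemma aux_cone_equalizes (s : Cone F) :
    Pi.lift (fun α => s.π.app (op (i α))) ≫ Pi.lift (fun p : A × A =>
            Pi.π (fun α => F.obj (op (i α))) p.1 ≫ F.map (prod.fst : i p.1 ⨯ i p.2 ⟶ i p.1).op) =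
        Pi.lift (fun α => s.π.app (op (i α))) ≫ Pi.lift (fun p : A × A =>
            Pi.π (fun α => F.obj (op (i α))) p.2 ≫ F.map (prod.snd : i p.1 ⨯ i p.2 ⟶ i p.2).op) := by
  refine Pi.hom_ext _ _ (fun p => ?_)
  simp only [Category.assoc, Pi.lift_π, Pi.lift_π_assoc]
  rw [s.w, s.w]

end aux

/-- Let `I` be a category with a family of objects `i α` (`α : A`) such that every binary product `i α ⨯
i β` exists in `I` and every object of `I` admits a morphism to some `i α`. Let `F : Iᵒᵖ ⥤ C` be a
functor, and assume that `C` has equalizers and that the products `∏ F (i α)` and `∏ F (i α ⨯ i β)`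
exist in `C`. Then the limit of `F` exists, the canonical map `lim F ⟶ ∏ F (i α)` is a monomorphism,
and a map `t : T ⟶ ∏ F (i α)` factors through `lim F` exactly when its composites with the two maps
`∏ F (i α) ⇉ ∏ F (i α ⨯ i β)` induced by the two projections agree: `lim F` is the equalizer of that
pair. (The published statement assumes that `C` has all limits of the size of `A`; only equalizers
and the two products named are assumed here, which is what the equalizer construction uses.) -/
theorem result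
    {I : Type u₁} [Category.{v₁} I] {C : Type u₂} [Category.{v₂} C] {A : Type w} (i : A → I)
    [∀ α β, HasBinaryProduct (i α) (i β)]
    (hcov : ∀ j : I, ∃ α, Nonempty (j ⟶ i α))
    (F : Iᵒᵖ ⥤ C) [HasEqualizers C]
    [HasProduct (fun α => F.obj (op (i α)))]
    [HasProduct (fun p : A × A => F.obj (op (i p.1 ⨯ i p.2)))] :
    HasLimit F ∧ ∀ [HasLimit F],
      Mono (Pi.lift (fun α => limit.π F (op (i α)))) ∧
      ∀ (T : C) (t : T ⟶ ∏ᶜ (fun α => F.obj (op (i α)))),
        (∃ s : T ⟶ limit F, s ≫ Pi.lift (fun α => limit.π F (op (i α))) = t) ↔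
        t ≫ Pi.lift (fun p : A × A =>
            Pi.π (fun α => F.obj (op (i α))) p.1 ≫ F.map (prod.fst : i p.1 ⨯ i p.2 ⟶ i p.1).op) =
        t ≫ Pi.lift (fun p : A × A =>
            Pi.π (fun α => F.obj (op (i α))) p.2 ≫ F.map (prod.snd : i p.1 ⨯ i p.2 ⟶ i p.2).op) := by
  constructor
  · let a := Pi.lift (fun p : A × A =>
            Pi.π (fun α => F.obj (op (i α))) p.1 ≫ F.map (prod.fst : i p.1 ⨯ i p.2 ⟶ i p.1).op)
    let b := Pi.lift (fun p : A × A =>
            Pi.π (fun α => F.obj (op (i α))) p.2 ≫ F.map (prod.snd : i p.1 ⨯ i p.2 ⟶ i p.2).op)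
    let c := auxCone i hcov F (equalizer.ι a b) (equalizer.condition a b)
    have hc : ∀ α, c.π.app (op (i α)) = equalizer.ι a b ≫ Pi.π _ α :=
      auxCone_π i hcov F (equalizer.ι a b) (equalizer.condition a b)
    refine ⟨⟨⟨c, ?_⟩⟩⟩
    refine
      { lift := fun s => equalizer.lift (Pi.lift (fun α => s.π.app (op (i α))))
          (aux_cone_equalizes i F s)
        fac := fun s j => ?_
        uniq := fun s m hm => ?_ }
    · obtain ⟨α, ⟨f⟩⟩ := hcov j.unop
      rw [← s.w f.op, ← c.w f.op, hc α]
      have e1 : (equalizer.lift (Pi.lift (fun α => s.π.app (op (i α))))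
          (aux_cone_equalizes i F s) : s.pt ⟶ equalizer a b) ≫
          (equalizer.ι a b ≫ Pi.π (fun α => F.obj (op (i α))) α) ≫ F.map f.op =
          s.π.app (op (i α)) ≫ F.map f.op := by
        rw [Category.assoc, equalizer.lift_ι_assoc, Pi.lift_π_assoc]
      exact e1
    · apply equalizer.hom_ext
      refine Pi.hom_ext _ _ (fun α => ?_)
      rw [equalizer.lift_ι]
      refine (Category.assoc _ _ _).trans ?_
      rw [← hc α]
      refine (hm _).trans ?_
      simp
  · intro hF
    constructor
    · constructor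
      intro Z g h hgh
      apply limit.hom_ext
      intro j
      obtain ⟨α, ⟨f⟩⟩ := hcov j.unop
      have := congrArg (fun x => x ≫ Pi.π (fun α => F.obj (op (i α))) α) hgh
      simp only [Category.assoc, Pi.lift_π] at this
      rw [← limit.w F f.op, reassoc_of% this]
    · intro T t
      constructor
      · rintro ⟨s, rfl⟩
        have := aux_cone_equalizes i F (limit.cone F)
        simp only [limit.cone_π] at this
        simp only [Category.assoc]
        exact congrArg (fun x => s ≫ x) this
      · intro ht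
        refine ⟨limit.lift F (auxCone i hcov F t ht), ?_⟩
        refine Pi.hom_ext _ _ (fun α => ?_)
        rw [Category.assoc, Pi.lift_π]
        refine (limit.lift_π _ _).trans ?_
        rw [auxCone_π]

end Groth.Agent.S6120
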