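import Groth.Statements.S6121

set_option autoImplicit false
open CategoryTheory
universe v₁ v₂ u₁ u₂
open SGA4

namespace Groth.Agent.S6121

/-- For a fibered functor `p : E ⥤ B` (every morphism of `B` has a cartesian lift with prescribed
codomain, and cartesian morphisms compose), `p` reflects isomorphisms if and only if every fibre
category of `p` (objects over `b`, morphisms lying over the identity of `b`) is a groupoid. -/
theorem result
    {B : Type u₁} [Category.{v₁} B] {E : Type u₂} [Category.{v₂} E] (p : E ⥤ B) [p.IsFibered] :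
    p.ReflectsIsomorphisms ↔ ∀ b : B, IsGroupoid (p.Fiber b) := by
  constructor
  · intro hp b
    refine ⟨fun {x y} φ => ?_⟩
    have h1 : p.IsHomLift (𝟙 b) φ.1 := φ.2
    have h2 : IsIso (p.map φ.1) := by
      rw [IsHomLift.fac' p (𝟙 b) φ.1]; infer_instance
    have h3 : IsIso φ.1 := isIso_of_reflects_iso φ.1 p
    have h4 : p.IsHomLift (𝟙 b) (inv φ.1) := by
      have : p.IsHomLift (Iso.refl b).hom (asIso φ.1).hom := h1
      exact IsHomLift.inv_lift_inv p (Iso.refl b) (asIso φ.1)
    refine ⟨⟨(⟨inv φ.1, h4⟩ : y ⟶ x), ?_, ?_⟩⟩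
    · apply Subtype.ext
      exact IsIso.hom_inv_id φ.1
    · apply Subtype.ext
      exact IsIso.inv_hom_id φ.1
  · intro h
    refine ⟨fun {x y} f hf => ?_⟩
    obtain ⟨z, g, hg⟩ := Functor.IsPreFibered.exists_isCartesian' (p := p) (p.map f)
    let χ := Functor.IsCartesian.map p (p.map f) g f
    have hχ : p.IsHomLift (𝟙 (p.obj x)) χ := inferInstance
    have hfac : χ ≫ g = f := Functor.IsCartesian.fac p (p.map f) g f
    have hgr := h (p.obj x)
    let z' : p.Fiber (p.obj x) := ⟨z, IsHomLift.domain_eq p (p.map f) g⟩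
    let x' : p.Fiber (p.obj x) := ⟨x, rfl⟩
    let χ' : x' ⟶ z' := ⟨χ, hχ⟩
    have h1 : IsIso χ' := hgr.all_isIso χ'
    have h2 : IsIso χ := by
      have : IsIso (Functor.Fiber.fiberInclusion.map χ') := inferInstance
      exact this
    have h3 : IsIso g := Functor.IsStronglyCartesian.isIso_of_base_isIso p (p.map f) g
    rw [← hfac]
    infer_instance

end Groth.Agent.S6121
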