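import Groth.Statements.S6122

set_option autoImplicit false
open CategoryTheory
universe v₁ v₂ u₁ u₂
open SGA4

namespace Groth.Agent.S6122

/-- For a fibered functor `p : E ⥤ B` (every morphism of `B` has a cartesian lift with prescribed
codomain, and cartesian morphisms compose), `p` is faithful if and only if every fibre category of
`p` (objects over `b`, morphisms lying over the identity of `b`) has at most one morphism between
any two objects. -/
theorem result
    {B : Type u₁} [Category.{v₁} B] {E : Type u₂} [Category.{v₂} E] (p : E ⥤ B) [p.IsFibered] :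
    p.Faithful ↔ ∀ (b : B) (x y : p.Fiber b), Subsingleton (x ⟶ y) := by
  constructor
  · intro hp b x y
    refine ⟨fun φ ψ => ?_⟩
    have h1 : p.IsHomLift (𝟙 b) φ.1 := φ.2
    have h2 : p.IsHomLift (𝟙 b) ψ.1 := ψ.2
    apply Subtype.ext
    apply p.map_injective
    rw [IsHomLift.fac' p (𝟙 b) φ.1, IsHomLift.fac' p (𝟙 b) ψ.1]
  · intro h
    refine ⟨fun {x y} f f' hf => ?_⟩
    obtain ⟨z, g, hg⟩ := Functor.IsPreFibered.exists_isCartesian' (p := p) (p.map f)
    have hf' : p.IsHomLift (p.map f) f' := by rw [hf]; infer_instance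
    let χ := Functor.IsCartesian.map p (p.map f) g f
    let χ' := Functor.IsCartesian.map p (p.map f) g f'
    have hfac : χ ≫ g = f := Functor.IsCartesian.fac p (p.map f) g f
    have hfac' : χ' ≫ g = f' := Functor.IsCartesian.fac p (p.map f) g f'
    have := h (p.obj x) ⟨x, rfl⟩ ⟨z, IsHomLift.domain_eq p (p.map f) g⟩
    have h2 := this.elim ⟨χ, inferInstance⟩ ⟨χ', inferInstance⟩
    have h3 : χ = χ' := congrArg Subtype.val h2
    rw [← hfac, ← hfac', h3]

end Groth.Agent.S6122
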