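import Groth.Statements.S6126

set_option autoImplicit false
open CategoryTheory CategoryTheory.Limits
universe v₁ u₁
open SGA4

namespace Groth.Agent.S6126

/-- The pairs of maps out of the members of the family `G` that are coequalized by `e`. -/
def rel {E : Type u₁} [Category.{v₁} E] {ι : Type v₁} (G : ι → E) {Z Y : E} (e : Z ⟶ Y) :
    Set (Σ t : ι, (G t ⟶ Z) × (G t ⟶ Z)) :=
  fun p => p.2.1 ≫ e = p.2.2 ≫ e

/-- Two effective quotients with the same relation on points of a separating family are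
isomorphic. -/
lemma exists_iso_of_rel_eq {E : Type u₁} [Category.{v₁} E] {ι : Type v₁} (G : ι → E)
    (hG : (ObjectProperty.ofObj G).IsSeparating) {Z Y Y' : E} (e : Z ⟶ Y) (e' : Z ⟶ Y')
    [EffectiveEpi e] [EffectiveEpi e'] (h : rel G e = rel G e') :
    ∃ φ : Y ≅ Y', e ≫ φ.hom = e' := by
  have key : ∀ {Y Y' : E} (e : Z ⟶ Y) (e' : Z ⟶ Y'), rel G e = rel G e' →
      ∀ {W : E} (g₁ g₂ : W ⟶ Z), g₁ ≫ e = g₂ ≫ e → g₁ ≫ e' = g₂ ≫ e' := by
    intro Y Y' e e' h W g₁ g₂ hg
    apply hG
    rintro T ⟨t⟩ k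
    have h1 : (⟨t, k ≫ g₁, k ≫ g₂⟩ : Σ t : ι, (G t ⟶ Z) × (G t ⟶ Z)) ∈ rel G e := by
      change (k ≫ g₁) ≫ e = (k ≫ g₂) ≫ e
      rw [Category.assoc, Category.assoc, hg]
    rw [h] at h1
    have h2 : (k ≫ g₁) ≫ e' = (k ≫ g₂) ≫ e' := h1
    simpa using h2
  let a := EffectiveEpi.desc e e' (fun g₁ g₂ => key e e' h g₁ g₂)
  let b := EffectiveEpi.desc e' e (fun g₁ g₂ => key e' e h.symm g₁ g₂)
  have ha : e ≫ a = e' := EffectiveEpi.fac _ _ _
  have hb : e' ≫ b = e := EffectiveEpi.fac _ _ _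
  refine ⟨⟨a, b, ?_, ?_⟩, ha⟩
  · rw [← cancel_epi e, reassoc_of% ha, hb, Category.comp_id]
  · rw [← cancel_epi e', reassoc_of% hb, ha, Category.comp_id]

/-- Let `E` be a category with `v₁`-small hom-sets admitting a separating family of objects `G t`
indexed by a `v₁`-small type, in which every object admits a monomorphism into an injective object.
Assume that each coproduct `G t ⨿ G t` exists and that every morphism out of `G t ⨿ G t` factors as
an effective epimorphism followed by a monomorphism. Then `E` admits a coseparating family of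
injective objects indexed by a `v₁`-small type. (The published statement moreover bounds the size of
this family in terms of the hom-sets `Hom (G t', G t ⨿ G t)`; only existence is stated here. The
published statement speaks of generating and cogenerating families; its proof uses and produces
joint faithfulness of maps out of, resp. into, the family, which is the sense taken here.) -/
theorem result
    {E : Type u₁} [Category.{v₁} E] {ι : Type v₁} (G : ι → E)
    (hG : (ObjectProperty.ofObj G).IsSeparating)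
    [EnoughInjectives E] [∀ t, HasBinaryCoproduct (G t) (G t)]
    (hfac : ∀ (t : ι) (X : E) (f : G t ⨿ G t ⟶ X),
      ∃ (Y : E) (e : G t ⨿ G t ⟶ Y) (m : Y ⟶ X), EffectiveEpi e ∧ Mono m ∧ e ≫ m = f) :
    ∃ (κ : Type v₁) (H : κ → E),
      (∀ k, Injective (H k)) ∧ (ObjectProperty.ofObj H).IsCoseparating := by
  classical
  let κ : Type v₁ := { p : Σ t : ι, Set (Σ t' : ι, (G t' ⟶ G t ⨿ G t) × (G t' ⟶ G t ⨿ G t)) //
    ∃ (Y : E) (e : G p.1 ⨿ G p.1 ⟶ Y), EffectiveEpi e ∧ rel G e = p.2 }
  let Q : κ → E := fun k => k.2.choose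
  let q : ∀ k : κ, G k.1.1 ⨿ G k.1.1 ⟶ Q k := fun k => k.2.choose_spec.choose
  have hq : ∀ k, EffectiveEpi (q k) := fun k => k.2.choose_spec.choose_spec.1
  have hq' : ∀ k, rel G (q k) = k.1.2 := fun k => k.2.choose_spec.choose_spec.2
  refine ⟨κ, fun k => Injective.under (Q k), fun k => inferInstance, ?_⟩
  intro A B u v huv
  by_contra hne
  have : ∃ (t : ι) (g : G t ⟶ A), g ≫ u ≠ g ≫ v := by
    by_contra hcon
    push Not at hcon
    apply hne
    apply hG
    rintro T ⟨t⟩ g
    exact hcon t g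
  obtain ⟨t, g, hg⟩ := this
  obtain ⟨Y, e, m, he, hm, hem⟩ := hfac t B (coprod.desc (g ≫ u) (g ≫ v))
  let k : κ := ⟨⟨t, rel G e⟩, Y, e, he, rfl⟩
  have hk := hq k
  obtain ⟨φ, hφ⟩ := exists_iso_of_rel_eq G hG e (q k) (hq' k).symm
  let w₀ : Y ⟶ Injective.under (Q k) := φ.hom ≫ Injective.ι (Q k)
  let w : B ⟶ Injective.under (Q k) := Injective.factorThru w₀ m
  have hw : m ≫ w = w₀ := Injective.comp_factorThru w₀ m
  have h1 := huv _ (ObjectProperty.ofObj_apply (fun k => Injective.under (Q k)) k) w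
  apply hg
  have hu : g ≫ u = coprod.inl ≫ e ≫ m := by rw [hem, coprod.inl_desc]
  have hv : g ≫ v = coprod.inr ≫ e ≫ m := by rw [hem, coprod.inr_desc]
  have h2 : (coprod.inl ≫ e) ≫ w₀ = (coprod.inr ≫ e) ≫ w₀ := by
    have h3 : (g ≫ u) ≫ w = (g ≫ v) ≫ w := by
      rw [Category.assoc, Category.assoc, h1]
    rw [hu, hv] at h3
    simpa [hw] using h3
  have h4 : coprod.inl ≫ e = coprod.inr ≫ e := by
    have : Mono w₀ := mono_comp _ _
    rwa [cancel_mono] at h2
  rw [hu, hv, reassoc_of% h4]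

end Groth.Agent.S6126
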