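import Groth.Statements.S6127
import Mathlib.CategoryTheory.Sites.Canonical
import Mathlib.CategoryTheory.Sites.LocallyBijective
import Mathlib.CategoryTheory.Localization.Bousfield
import Mathlib.CategoryTheory.Limits.Types.Pullbacks
import Mathlib.CategoryTheory.Limits.Shapes.Diagonal
import Mathlib.CategoryTheory.Limits.FunctorCategory.EpiMono

set_option autoImplicit false
open CategoryTheory CategoryTheory.Limits Opposite
universe u
open SGA4

namespace Groth.Agent.S6127

/-- The sieve of restrictions of a section in the image of a morphism of presheaves. -/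
def secSieve {C : Type u} [SmallCategory C] {A B : Cᵒᵖ ⥤ Type u} (m : A ⟶ B) {X : C}
    (b : B.obj (op X)) : Sieve X where
  arrows Y f := ∃ a : A.obj (op Y), m.app (op Y) a = B.map f.op b
  downward_closed := by
    rintro Y Z f ⟨a, ha⟩ g
    refine ⟨A.map g.op a, ?_⟩
    have h1 := congrArg (fun k => k a) (m.naturality g.op)
    refine h1.trans ?_
    rw [op_comp, B.map_comp]
    exact congrArg (B.map g.op) ha

/-- The pullback of a monomorphism of presheaves along a section is a sieve. -/
lemma exists_isPullback_secSieve {C : Type u} [SmallCategory C] {A B : Cᵒᵖ ⥤ Type u} (m : A ⟶ B)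
    [Mono m] {X : C} (b : B.obj (op X)) :
    ∃ t : (secSieve m b).functor ⟶ A,
      IsPullback t (secSieve m b).functorInclusion m (yonedaEquiv.symm b) := by
  have hinj : ∀ Y, Function.Injective (m.app Y) := by
    intro Y
    rw [← mono_iff_injective]
    infer_instance
  let t : (secSieve m b).functor ⟶ A :=
    { app := fun Y => ↾fun f => f.2.choose
      naturality := by
        intro Y Z g
        ext f
        apply hinj
        have h1 := congrArg (fun k => k f.2.choose) (m.naturality g)
        refine Eq.trans ?_ h1.symm
        refine (Exists.choose_spec (((secSieve m b).functor.map g f).2)).trans ?_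
        have h2 : B.map f.1.op b = m.app Y f.2.choose := f.2.choose_spec.symm
        refine Eq.trans ?_ (congrArg (B.map g) h2)
        exact congrArg (fun k => k b) (B.map_comp f.1.op g) }
  refine ⟨t, IsPullback.of_forall_isPullback_app (fun Y => ?_)⟩
  refine (Types.isPullback_iff _ _ _ _).2 ⟨?_, ?_, ?_⟩
  · ext f
    exact f.2.choose_spec
  · intro f g hfg
    exact Subtype.ext hfg.2
  · intro a f haf
    have hf : (secSieve m b) f := ⟨a, haf⟩
    refine ⟨⟨f, hf⟩, ?_, rfl⟩
    apply hinj
    exact hf.choose_spec.trans haf.symm

/-- The pullback of a sieve as a pullback of presheaves. -/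
lemma isPullback_sieve_pullback {C : Type u} [SmallCategory C] {X Y : C} (S : Sieve X)
    (f : Y ⟶ X) : ∃ t : (S.pullback f).functor ⟶ S.functor,
      IsPullback t (S.pullback f).functorInclusion S.functorInclusion (yoneda.map f) := by
  let t : (S.pullback f).functor ⟶ S.functor :=
    { app := fun Z => ↾fun g => ⟨g.1 ≫ f, g.2⟩
      naturality := by
        intro Z W g
        ext k
        exact Subtype.ext (Category.assoc _ _ _) }
  refine ⟨t, IsPullback.of_forall_isPullback_app (fun Z => ?_)⟩
  refine (Types.isPullback_iff _ _ _ _).2 ⟨?_, ?_, ?_⟩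
  · rfl
  · intro g g' h
    exact Subtype.ext h.2
  · intro a g hag
    refine ⟨⟨g, ?_⟩, Subtype.ext hag.symm, rfl⟩
    change S (g ≫ f)
    have : g ≫ f = a.1 := hag.symm
    rw [this]
    exact a.2

/-- Let `C` be a small category and `P` a strictly full subcategory of the category of presheaves of
sets on `C` whose inclusion admits a left adjoint (a reflector) preserving finite limits. Call a
sieve `S` on `X` covering when the reflector inverts the inclusion of `S`, viewed as a subpresheaf,
into the presheaf represented by `X`. Then these covering sieves form a Grothendieck topology `J` on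
`C`, and a presheaf lies in `P` if and only if it is a sheaf for `J`. (This is the half of the
correspondence between topologies on `C` and such reflective subcategories that produces the
topology; the topology is pinned down by its covering sieves.) -/
theorem result
    {C : Type u} [SmallCategory C] (P : ObjectProperty (Cᵒᵖ ⥤ Type u))
    [P.IsClosedUnderIsomorphisms] [Reflective P.ι] [PreservesFiniteLimits (reflector P.ι)] :
    ∃ J : GrothendieckTopology C,
      (∀ (X : C) (S : Sieve X), S ∈ J X ↔ IsIso ((reflector P.ι).map S.functorInclusion)) ∧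
      ∀ F : Cᵒᵖ ⥤ Type u, P F ↔ Presieve.IsSheaf J F := by
  let L := reflector P.ι
  -- morphisms inverted by `L`
  have hW : ∀ {A B : Cᵒᵖ ⥤ Type u} (f : A ⟶ B), IsIso (L.map f) ↔
      ∀ F, P F → Function.Bijective (fun (g : B ⟶ F) => f ≫ g) := by
    intro A B f
    rw [← ObjectProperty.isLocal_iff_isIso_map (reflectorAdjunction P.ι)]
    constructor
    · intro h F hF
      exact h F ⟨⟨F, hF⟩, rfl⟩
    · rintro h _ ⟨F, rfl⟩
      exact h F.obj F.property
  have hbc : ∀ {A B A' B' : Cᵒᵖ ⥤ Type u} {t : A' ⟶ A} {m' : A' ⟶ B'} {m : A ⟶ B} {b : B' ⟶ B},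
      IsPullback t m' m b → IsIso (L.map m) → IsIso (L.map m') := by
    intro A B A' B' t m' m b h hm
    exact (h.map L).isIso_snd_of_isIso
  let J : GrothendieckTopology C := Sheaf.finestTopology {F | P F}
  have hJ : ∀ (X : C) (S : Sieve X), S ∈ J X ↔ IsIso (L.map S.functorInclusion) := by
    intro X S
    have hcond : IsIso (L.map S.functorInclusion) ↔
        ∀ F, P F → Presieve.IsSheafFor F S.arrows := by
      rw [hW]
      refine forall₂_congr (fun F _ => ?_)
      rw [Presieve.isSheafFor_iff_yonedaSheafCondition, Function.bijective_iff_existsUnique]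
      rfl
    constructor
    · intro hS
      rw [hcond]
      intro F hF
      exact Sheaf.sheaf_for_finestTopology _ hF S hS
    · intro hS
      apply Sheaf.mem_finestTopology_of_forall_isSheafFor
      intro F hF Y f
      obtain ⟨t, ht⟩ := isPullback_sieve_pullback S f
      have h1 := (hW _).1 (hbc ht hS) F hF
      rw [Presieve.isSheafFor_iff_yonedaSheafCondition]
      rw [Function.bijective_iff_existsUnique] at h1
      exact h1
  have hmono : ∀ {A B : Cᵒᵖ ⥤ Type u} (m : A ⟶ B) [Mono m], IsIso (L.map m) → J.W m := by
    intro A B m _ hm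
    rw [J.W_iff_isLocallyBijective]
    refine ⟨?_, ⟨?_⟩⟩
    · apply Presheaf.isLocallyInjective_of_injective
      intro X
      have : Mono (m.app X) := inferInstance
      exact (mono_iff_injective (m.app X)).1 this
    · intro X b
      obtain ⟨t, ht⟩ := exists_isPullback_secSieve m b
      have h1 : secSieve m b ∈ J X := (hJ _ _).2 (hbc ht hm)
      refine J.superset_covering ?_ h1
      rintro Y f ⟨a, ha⟩
      exact ⟨a, ha⟩
  refine ⟨J, hJ, fun F => ⟨fun hF => Sheaf.sheaf_for_finestTopology _ hF, fun hF => ?_⟩⟩
  have hF' : Presheaf.IsSheaf J F := (isSheaf_iff_isSheaf_of_type J F).2 hF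
  let G := L.obj F
  let η : F ⟶ P.ι.obj G := (reflectorAdjunction P.ι).unit.app F
  have hη : IsIso (L.map η) := by
    rw [← ObjectProperty.isLocal_iff_isIso_map (reflectorAdjunction P.ι)]
    exact ObjectProperty.isLocal_adj_unit_app (reflectorAdjunction P.ι) F
  have hGsh : Presheaf.IsSheaf J (P.ι.obj G) :=
    (isSheaf_iff_isSheaf_of_type J _).2 (Sheaf.sheaf_for_finestTopology _ G.property)
  have hηmono : Mono η := by
    have h1 : IsIso (L.map (pullback.fst η η)) :=
      ((IsPullback.of_hasPullback η η).map L).isIso_fst_of_isIso
    have h2 : L.map (pullback.diagonal η) ≫ L.map (pullback.fst η η) = 𝟙 _ := by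
      rw [← L.map_comp]; simp
    have h3 : IsIso (L.map (pullback.diagonal η)) := IsIso.of_isIso_fac_right h2
    have h4 : J.W (pullback.diagonal η) := hmono _ h3
    have h5 : pullback.fst η η = pullback.snd η η := by
      apply (h4 F hF').1
      simp
    constructor
    intro Z a b hab
    have h6 := pullback.lift_fst a b hab
    rw [← pullback.lift_fst a b hab, h5, pullback.lift_snd]
  have h7 : J.W η := hmono η hη
  have h8 : IsIso η := (ObjectProperty.isLocal_iff_isIso _ η hF' hGsh).1 h7
  exact P.prop_of_iso (asIso η).symm G.property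

end Groth.Agent.S6127
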