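import Groth.Statements.S6128
import Mathlib.CategoryTheory.Sites.Closed
import Mathlib.CategoryTheory.Sites.SheafOfTypes

set_option autoImplicit false
open CategoryTheory
universe u
open SGA4

namespace Groth.Agent.S6128

open Opposite in
/-- The morphism classifying the closure of the sieve pulled back along a functor. -/
def classify {C : Type u} [SmallCategory C] {C' : Type u} [SmallCategory C']
    (J : GrothendieckTopology C) (u : C ⥤ C') {Y : C'} (R : Sieve Y) :
    u.op ⋙ yoneda.obj Y ⟶ (Functor.closedSieves J).toFunctor where
  app Z := ↾fun f => ⟨J.close ((R.pullback f).functorPullback u), J.close_isClosed _⟩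
  naturality := by
    intro Z W g
    ext f
    apply Subtype.ext
    change J.close ((R.pullback (u.map g.unop ≫ f)).functorPullback u) =
      (J.close ((R.pullback f).functorPullback u)).pullback g.unop
    rw [← J.pullback_close]
    congr 1
    ext V k
    change R (u.map k ≫ u.map g.unop ≫ f) ↔ R (u.map (k ≫ g.unop) ≫ f)
    rw [u.map_comp, Category.assoc]

/-- Let `u : C ⥤ C'` be a functor between small sites. If the right Kan extension along `u` of the
underlying presheaf of every sheaf of sets on `C` is a sheaf on `C'`, then `u` is cocontinuous: for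
every object `Y` of `C` and every covering sieve `R` of `u Y`, the sieve of morphisms `g : Z ⟶ Y`
with `u g ∈ R` covers `Y`. -/
theorem result
    {C : Type u} [SmallCategory C] {C' : Type u} [SmallCategory C']
    (J : GrothendieckTopology C) (J' : GrothendieckTopology C') (u : C ⥤ C')
    (h : ∀ G : Sheaf J (Type u), Presheaf.IsSheaf J' ((u.op.ran).obj G.obj)) :
    u.IsCocontinuous J J' := by
  refine ⟨fun {Y R} hR => ?_⟩
  rw [← J.close_eq_top_iff_mem]
  let G : Sheaf J (Type u) := ⟨(Functor.closedSieves J).toFunctor,
    (isSheaf_iff_isSheaf_of_type J _).2 (classifier_isSheaf J)⟩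
  have hG : Presieve.IsSheaf J' ((u.op.ran).obj G.obj) :=
    (isSheaf_iff_isSheaf_of_type J' _).1 (h G)
  let adj := u.op.ranAdjunction (Type u)
  let α : ((Functor.whiskeringLeft _ _ (Type u)).obj u.op).obj (yoneda.obj (u.obj Y)) ⟶ G.obj :=
    classify J u R
  let β : ((Functor.whiskeringLeft _ _ (Type u)).obj u.op).obj (yoneda.obj (u.obj Y)) ⟶ G.obj :=
    classify J u ⊤
  have key : adj.homEquiv _ _ α = adj.homEquiv _ _ β := by
    apply yonedaEquiv.injective
    apply (hG R hR).isSeparatedFor.ext
    intro Z f hf
    rw [yonedaEquiv_naturality, yonedaEquiv_naturality, ← Adjunction.homEquiv_naturality_left,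
      ← Adjunction.homEquiv_naturality_left]
    congr 2
    ext ⟨W⟩ k
    apply Subtype.ext
    change J.close ((R.pullback (k ≫ f)).functorPullback u) =
      J.close (((⊤ : Sieve (u.obj Y)).pullback (k ≫ f)).functorPullback u)
    congr 1
    ext V g
    simp only [Sieve.functorPullback_apply, Sieve.pullback_apply]
    change R (u.map g ≫ k ≫ f) ↔ _
    constructor
    · intro _
      trivial
    · intro _
      rw [← Category.assoc]
      exact R.downward_closed hf _
  have key2 : α = β := (adj.homEquiv _ _).injective key
  have h1 := congrArg (fun m => (m.app (Opposite.op Y) (𝟙 (u.obj Y))).1) key2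
  have h2 : J.close ((R.pullback (𝟙 (u.obj Y))).functorPullback u) =
    J.close (((⊤ : Sieve (u.obj Y)).pullback (𝟙 (u.obj Y))).functorPullback u) := h1
  rw [Sieve.pullback_id] at h2
  rw [h2, Sieve.pullback_id]
  rw [J.close_eq_top_iff_mem]
  exact J.superset_covering (fun _ _ _ => trivial) (J.top_mem Y)

end Groth.Agent.S6128
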