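import Groth.Statements.S6131
import Groth.Agent.SGA4.K289.SheafCofan
import Mathlib.CategoryTheory.Sites.Closed

set_option autoImplicit false
open CategoryTheory CategoryTheory.Limits
universe u
open SGA4

namespace Groth.Agent.S6131

/-- For a small site `(C, J)` and an object `X` of `C`, the sheaf associated to the presheaf represented
by `X` is an initial object of the category of sheaves of sets if and only if the empty sieve covers
`X`. -/
theorem result
    {C : Type u} [SmallCategory C] (J : GrothendieckTopology C) (X : C) :
    Nonempty (IsInitial ((presheafToSheaf J (Type u)).obj (yoneda.obj X))) ↔ (⊥ : Sieve X) ∈ J X := by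
  constructor
  · rintro ⟨h⟩
    rw [← J.close_eq_top_iff_mem]
    have hsh : Presieve.IsSheaf J (Functor.closedSieves J).toFunctor := classifier_isSheaf J
    let F : Sheaf J (Type u) :=
      ⟨(Functor.closedSieves J).toFunctor, (isSheaf_iff_isSheaf_of_type J _).2 hsh⟩
    have hsub : ∀ a b : F.obj.obj (Opposite.op X), a = b := by
      intro a b
      apply (K289.SheafCofan.homEquivSections J X F).symm.injective
      exact h.hom_ext _ _
    have htop : J.IsClosed (⊤ : Sieve X) := by
      intro Y f _
      trivial
    have := hsub ⟨J.close ⊥, J.close_isClosed ⊥⟩ ⟨(⊤ : Sieve X), htop⟩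
    exact congrArg Subtype.val this
  · intro h
    have hu : ∀ F : Sheaf J (Type u), Nonempty (Unique (F.obj.obj (Opposite.op X))) := by
      intro F
      have hF := (isSheaf_iff_isSheaf_of_type J _).1 F.property ⊥ h
      obtain ⟨t, -, ht⟩ := hF (fun Y f hf => hf.elim) (fun Y₁ Y₂ Z g₁ g₂ f₁ f₂ h₁ => h₁.elim)
      exact ⟨⟨⟨t⟩, fun y => ht y (fun Y f hf => hf.elim)⟩⟩
    have : ∀ F : Sheaf J (Type u),
        Nonempty (Unique ((presheafToSheaf J (Type u)).obj (yoneda.obj X) ⟶ F)) := by
      intro F
      have := (hu F).some
      exact ⟨(K289.SheafCofan.homEquivSections J X F).unique⟩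
    exact ⟨IsInitial.ofUnique (h := fun F => (this F).some) _⟩

end Groth.Agent.S6131
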