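import Groth.Statements.S6132
import Groth.Agent.SGA4.K289.SheafCofan

set_option autoImplicit false
open CategoryTheory CategoryTheory.Limits
universe u
open SGA4

namespace Groth.Agent.S6132

/-- Let `(C, J)` be a small site, `X` an object and `s i : Y i ⟶ X` a family of morphisms all of whose
base changes exist in `C`. If the family is covering, every `s i` is a monomorphism, and for `i ≠ j`
the fibre product `Y i ×_X Y j` is covered by the empty sieve, then the associated sheaf of `X`,
with the maps induced by the `s i`, is a coproduct of the associated sheaves of the `Y i` in the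
category of sheaves of sets. -/
theorem result
    {C : Type u} [SmallCategory C] (J : GrothendieckTopology C) {X : C} {ι : Type u}
    (Y : ι → C) (s : ∀ i, Y i ⟶ X) [∀ (i : ι) (Z : C) (g : Z ⟶ X), HasPullback (s i) g]
    (hcov : Sieve.ofArrows Y s ∈ J X) (hmono : ∀ i, Mono (s i))
    (hdisj : ∀ i j, i ≠ j → (⊥ : Sieve (pullback (s i) (s j))) ∈ J (pullback (s i) (s j))) :
    Nonempty (IsColimit (Cofan.mk ((presheafToSheaf J (Type u)).obj (yoneda.obj X))
      (fun i => (presheafToSheaf J (Type u)).map (yoneda.map (s i))))) := by
  rw [K289.SheafCofan.isColimit_iff]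
  intro F
  have hF := (isSheaf_iff_isSheaf_of_type J _).1 F.property
  have hsub : ∀ (Z : C), (⊥ : Sieve Z) ∈ J Z → ∀ a b : F.obj.obj (Opposite.op Z), a = b := by
    intro Z hZ a b
    exact (hF ⊥ hZ).isSeparatedFor.ext (fun Y f hf => hf.elim)
  have h1 : Presieve.IsSheafFor F.obj (Presieve.ofArrows Y s) := by
    rw [Presieve.isSheafFor_iff_generate]
    exact hF _ hcov
  rw [Presieve.isSheafFor_arrows_iff] at h1
  have hcompat : ∀ x : (i : ι) → F.obj.obj (Opposite.op (Y i)),
      Presieve.Arrows.Compatible F.obj s x := by
    intro x i j Z g h hgh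
    by_cases hij : i = j
    · subst hij
      rw [(cancel_mono (s i)).1 hgh]
    · apply hsub
      have := J.pullback_stable (pullback.lift g h hgh) (hdisj i j hij)
      refine J.superset_covering ?_ this
      intro W w hw
      exact hw
  constructor
  · intro x y hxy
    obtain ⟨t, ht, ht'⟩ := h1 _ (hcompat (fun i => F.obj.map (s i).op x))
    rw [ht' x (fun i => rfl), ht' y (fun i => (congrFun hxy i).symm)]
  · intro x
    obtain ⟨t, ht, -⟩ := h1 x (hcompat x)
    exact ⟨t, funext ht⟩

end Groth.Agent.S6132
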