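import Groth.Statements.S6133

set_option autoImplicit false
open CategoryTheory CategoryTheory.Limits
universe v₁ u₁
open SGA4

namespace Groth.Agent.S6133

/-- Let `C` be a separating family of objects of `E` and let `i' : X' ⟶ X`, `i'' : X'' ⟶ X` be regular
monomorphisms (equalizers of pairs). If for every `T` with `C T` a morphism `T ⟶ X` factors through
`i'` exactly when it factors through `i''`, then `i'` and `i''` define the same subobject of `X`: a
regular subobject is determined by the morphisms from objects of `C` that it contains. (The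
published statement is for strict subobjects, of which regular ones are a special case, and for a
generating family in the sense of jointly reflecting isomorphisms, while the published proof uses
joint faithfulness; the row takes `C` separating.) -/
theorem result
    {E : Type u₁} [Category.{v₁} E] {C : ObjectProperty E} (hC : C.IsSeparating)
    {X X' X'' : E} (i' : X' ⟶ X) (i'' : X'' ⟶ X) [IsRegularMono i'] [IsRegularMono i'']
    (h : ∀ (T : E), C T → ∀ (g : T ⟶ X),
      (∃ g' : T ⟶ X', g' ≫ i' = g) ↔ (∃ g'' : T ⟶ X'', g'' ≫ i'' = g)) :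
    Subobject.mk i' = Subobject.mk i'' := by
  have key : ∀ {Y' Y'' : E} (j' : Y' ⟶ X) (j'' : Y'' ⟶ X) [IsRegularMono j'] [IsRegularMono j''],
      (∀ (T : E), C T → ∀ (g : T ⟶ X),
        (∃ g'' : T ⟶ Y'', g'' ≫ j'' = g) → (∃ g' : T ⟶ Y', g' ≫ j' = g)) →
      Subobject.mk j'' ≤ Subobject.mk j' := by
    intro Y' Y'' j' j'' _ _ hj
    let r := IsRegularMono.getStruct j'
    have hcomm : j'' ≫ r.left = j'' ≫ r.right := by
      apply hC
      intro T hT t
      obtain ⟨g', hg'⟩ := hj T hT (t ≫ j'') ⟨t, rfl⟩
      rw [← Category.assoc, ← Category.assoc, ← hg', Category.assoc, Category.assoc, r.w]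
    exact Subobject.mk_le_mk_of_comm (Fork.IsLimit.lift r.isLimit j'' hcomm)
      (Fork.IsLimit.lift_ι' r.isLimit j'' hcomm)
  apply le_antisymm
  · exact key i'' i' (fun T hT g hg => (h T hT g).1 hg)
  · exact key i' i'' (fun T hT g hg => (h T hT g).2 hg)

end Groth.Agent.S6133
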