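import Groth.Statements.S6135
import Groth.Agent.SGA4.K289.Lan

set_option autoImplicit false
open CategoryTheory CategoryTheory.Limits
universe u
open SGA4

namespace Groth.Agent.S6135

/-- Faithful case. Let `u : C ⥤ C'` be a functor between small categories and `u_!` the left Kan
extension functor on presheaves of sets, whose restriction to ind-objects (presheaves that are small
filtered colimits of representables) is the induced functor `Ind C ⥤ Ind C'`. Then `u` is faithful
if and only if `u_!` is injective on morphisms between ind-representable presheaves. -/
theorem result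
    {C : Type u} [SmallCategory C] {C' : Type u} [SmallCategory C'] (u : C ⥤ C') :
    u.Faithful ↔ ∀ (F G : Cᵒᵖ ⥤ Type u), IsIndObject F → IsIndObject G →
      Function.Injective (fun φ : F ⟶ G => (u.op.lan : (Cᵒᵖ ⥤ Type u) ⥤ (C'ᵒᵖ ⥤ Type u)).map φ) := by
  constructor
  · intro hu F G _ hG
    exact K289.Lan.map_injective_of_eta_injective u F G
      (K289.Lan.eta_injective_of_isIndObject u G hG)
  · intro h
    refine ⟨fun {X Y} f g hfg => ?_⟩
    apply yoneda.map_injective
    apply h _ _ (isIndObject_yoneda X) (isIndObject_yoneda Y)
    apply (K289.Lan.homEquiv u X _).injective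
    refine (K289.Lan.homEquiv_map u f).trans (Eq.trans ?_ (K289.Lan.homEquiv_map u g).symm)
    rw [hfg]

end Groth.Agent.S6135
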