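import Groth.Statements.S6136
import Groth.Agent.SGA4.K289.Lan

set_option autoImplicit false
open CategoryTheory CategoryTheory.Limits
universe u
open SGA4

namespace Groth.Agent.S6136

/-- Fully faithful case. Let `u : C ⥤ C'` be a functor between small categories and `u_!` the left Kan
extension functor on presheaves of sets, whose restriction to ind-representable presheaves is the
induced functor `Ind C ⥤ Ind C'`. Then `u` is full and faithful if and only if `u_!` is bijective on
morphisms between ind-representable presheaves. -/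
theorem result
    {C : Type u} [SmallCategory C] {C' : Type u} [SmallCategory C'] (u : C ⥤ C') :
    (u.Full ∧ u.Faithful) ↔ ∀ (F G : Cᵒᵖ ⥤ Type u), IsIndObject F → IsIndObject G →
      Function.Bijective (fun φ : F ⟶ G => (u.op.lan : (Cᵒᵖ ⥤ Type u) ⥤ (C'ᵒᵖ ⥤ Type u)).map φ) := by
  constructor
  · rintro ⟨hu, hu'⟩ F G _ hG
    have h1 : IsIso ((u.op.lanAdjunction (Type u)).unit) := inferInstance
    have h2 := (u.op.lanAdjunction (Type u)).fullyFaithfulLOfIsIsoUnit
    exact h2.map_bijective F G
  · intro h
    have hfaith : u.Faithful := by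
      refine ⟨fun {X Y} f g hfg => ?_⟩
      apply yoneda.map_injective
      apply (h _ _ (isIndObject_yoneda X) (isIndObject_yoneda Y)).1
      apply (K289.Lan.homEquiv u X _).injective
      refine (K289.Lan.homEquiv_map u f).trans (Eq.trans ?_ (K289.Lan.homEquiv_map u g).symm)
      rw [hfg]
    refine ⟨⟨fun {X Y} g => ?_⟩, hfaith⟩
    let φ := (K289.Lan.homEquiv u X ((K289.Lan.lan u).obj (yoneda.obj Y))).symm
      (((K289.Lan.lan u).obj (yoneda.obj Y)).map g.op (K289.Lan.eta u (yoneda.obj Y) Y (𝟙 Y)))
    obtain ⟨ψ, hψ⟩ := (h _ _ (isIndObject_yoneda X) (isIndObject_yoneda Y)).2 φ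
    obtain ⟨f, rfl⟩ := yoneda.map_surjective ψ
    have h1 := congrArg (K289.Lan.homEquiv u X _) hψ
    have h2 := (K289.Lan.homEquiv_map u f).symm.trans (h1.trans (Equiv.apply_symm_apply _ _))
    have h3 := congrArg ((K289.Lan.toYoneda u Y).app (Opposite.op (u.obj X))) h2
    have h4 : ∀ k : u.obj X ⟶ u.obj Y, (K289.Lan.toYoneda u Y).app (Opposite.op (u.obj X))
        (((K289.Lan.lan u).obj (yoneda.obj Y)).map k.op
          (K289.Lan.eta u (yoneda.obj Y) Y (𝟙 Y))) = k := by
      intro k
      have h5 := congrArg (fun m => m (K289.Lan.eta u (yoneda.obj Y) Y (𝟙 Y)))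
        ((K289.Lan.toYoneda u Y).naturality k.op)
      refine h5.trans ?_
      refine (congrArg ((yoneda.obj (u.obj Y)).map k.op)
        (K289.Lan.toYoneda_eta u Y Y (𝟙 Y))).trans ?_
      rw [u.map_id]
      exact Category.comp_id k
    rw [h4, h4] at h3
    exact ⟨f, h3⟩

end Groth.Agent.S6136
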