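import Groth.Statements.S6137
import Mathlib.CategoryTheory.Limits.Elements
import Mathlib.CategoryTheory.Limits.Constructions.WeaklyInitial

set_option autoImplicit false
open CategoryTheory CategoryTheory.Limits
universe v u
open SGA4

namespace Groth.Agent.S6137

/-- Let `C` be a category with `v`-small hom-sets admitting all `v`-small limits, and `F : C ⥤ Type v` a
functor. Then `F` is corepresentable if and only if it is pro-representable (viewed as a presheaf on
`Cᵒᵖ` it is an ind-object, i.e. a small filtered colimit of corepresentable functors) and preserves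
all `v`-small limits. -/
theorem result
    {C : Type u} [Category.{v} C] [HasLimitsOfSize.{v, v} C] (F : C ⥤ Type v) :
    F.IsCorepresentable ↔
      IsIndObject (unopUnop C ⋙ F) ∧ PreservesLimitsOfSize.{v, v} F := by
  constructor
  · intro hF
    constructor
    · let e : yoneda.obj (Opposite.op F.coreprX) ≅ unopUnop C ⋙ F :=
        NatIso.ofComponents (fun Y => (Equiv.toIso
          (Quiver.Hom.opEquiv.symm.trans (F.corepresentableBy.homEquiv (Y := Y.unop.unop)))))
          (by
            intro Y Z f
            ext g
            exact F.corepresentableBy.homEquiv_comp f.unop.unop g.unop)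
      exact IsIndObject.map e.hom (isIndObject_yoneda (Opposite.op F.coreprX))
    · infer_instance
  · rintro ⟨hI, hlim⟩
    have hsh : ∀ (I : Type v) [SmallCategory I], HasLimitsOfShape I F.Elements := by
      intro I _
      infer_instance
    have hprod : HasProducts.{v} F.Elements := fun _ => hsh _
    have hwide : HasWideEqualizers.{v} F.Elements := fun _ => hsh _
    have P := hI.presentation
    let x : ∀ i : P.I, F.obj (P.F.obj i).unop := fun i =>
      (P.ι.app i).app (Opposite.op (P.F.obj i)) (𝟙 (P.F.obj i))
    have hx : ∀ (Y : C) (y : F.obj Y), ∃ (i : P.I) (g : (P.F.obj i).unop ⟶ Y),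
        F.map g (x i) = y := by
      intro Y y
      let hc := isColimitOfPreserves ((evaluation _ _).obj (Opposite.op (Opposite.op Y)))
        P.isColimit
      obtain ⟨i, g, hg⟩ := Types.jointly_surjective _ hc y
      refine ⟨i, Quiver.Hom.unop g, ?_⟩
      have h1 := congrArg (fun k => k (𝟙 (P.F.obj i)))
        ((P.ι.app i).naturality (X := Opposite.op (P.F.obj i))
          (Y := Opposite.op (Opposite.op Y)) (Quiver.Hom.op g))
      refine h1.symm.trans (Eq.trans ?_ hg)
      refine congrArg ((P.ι.app i).app (Opposite.op (Opposite.op Y))) ?_
      exact Category.comp_id _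
    have hB : ∀ A : F.Elements, ∃ i : P.I,
        Nonempty ((F.elementsMk (P.F.obj i).unop (x i)) ⟶ A) := by
      rintro ⟨Y, y⟩
      obtain ⟨i, g, hg⟩ := hx Y y
      exact ⟨i, ⟨⟨g, hg⟩⟩⟩
    obtain ⟨T, hT⟩ := has_weakly_initial_of_weakly_initial_set_and_hasProducts hB
    have := hasInitial_of_weakly_initial_and_hasWideEqualizers hT
    exact Functor.Elements.isCorepresentable_of_hasInitial F

end Groth.Agent.S6137
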