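import Groth.Statements.S6138
import Mathlib.CategoryTheory.Limits.Shapes.Opposites.Equalizers
import Mathlib.CategoryTheory.Limits.Shapes.RegularMono
import Mathlib.CategoryTheory.Limits.Preserves.Shapes.Equalizers

set_option autoImplicit false
open CategoryTheory CategoryTheory.Limits Opposite
universe v u
open SGA4

namespace Groth.Agent.S6138

/-- Let `C` have coequalizers and pullbacks, let `F` be a presheaf of sets on `C` taking coequalizers of
`C` to equalizers, and let `u ∈ F(X)`, viewed as a morphism `h_X ⟶ F`. Then this morphism is a
monomorphism (the map `v ↦ F(v)(u)` is injective on `Hom(Y, X)` for every `Y`) if and only if `u` is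
minimal: whenever `u = F(p)(u')` for an effective epimorphism `p : X ⟶ X'` and some `u' ∈ F(X')`,
`p` is an isomorphism. (Coequalizers are used for one implication and pullbacks for the other; both
are assumed here.) -/
theorem result
    {C : Type u} [Category.{v} C] [HasCoequalizers C] [HasPullbacks C]
    (F : Cᵒᵖ ⥤ Type v) [PreservesLimitsOfShape WalkingParallelPair F]
    {X : C} (u : F.obj (op X)) :
    (∀ (Y : C) (v v' : Y ⟶ X), F.map v.op u = F.map v'.op u → v = v') ↔
      ∀ (X' : C) (p : X ⟶ X') (u' : F.obj (op X')),
        EffectiveEpi p → F.map p.op u' = u → IsIso p := by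
  constructor
  · intro h X' p u' hp hu
    have hmono : Mono p := by
      constructor
      intro Z v v' hv
      apply h
      rw [← hu, ← F.map_comp_apply, ← F.map_comp_apply, ← op_comp, ← op_comp, hv]
    exact isIso_of_mono_of_strongEpi p
  · intro h Y v v' hv
    let q := coequalizer.π v v'
    have hqe : EffectiveEpi q := (coequalizerRegular v v').effectiveEpi
    have w' : q.op ≫ v.op = q.op ≫ v'.op := by
      rw [← op_comp, ← op_comp, coequalizer.condition]
    have hlim : IsLimit (Fork.ofι q.op w') :=
      Cofork.isColimitOfπEquivIsLimitOp q q (coequalizer.condition v v') w' rfl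
        (coequalizerIsCoequalizer v v')
    have hlimF := isLimitForkMapOfIsLimit F w' hlim
    let t : PUnit.{v + 1} ⟶ F.obj (op X) := ↾fun _ => u
    have ht : t ≫ F.map v.op = t ≫ F.map v'.op := by
      ext x
      exact hv
    let l := Fork.IsLimit.lift hlimF t ht
    have hl : l ≫ F.map q.op = t := Fork.IsLimit.lift_ι' hlimF t ht
    have hq : IsIso q := h _ q (l PUnit.unit) inferInstance (congrArg (fun f => f PUnit.unit) hl)
    rw [← cancel_mono q]
    exact coequalizer.condition v v'

end Groth.Agent.S6138
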