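import Groth.Statements.S6139

set_option autoImplicit false
open CategoryTheory CategoryTheory.Limits
universe v u
open SGA4

namespace Groth.Agent.S6139

/-- For an object `X` of a category `C`, the empty sieve on `X` is covering for the canonical topology
of `C` (the finest topology for which every representable presheaf is a sheaf) if and only if `X` is
a strict initial object: `X` is initial and every morphism with target `X` is an isomorphism. (The
source phrases the first condition as: for some topology coarser than the canonical one the
associated sheaf of `h_X` is initial; that sheaf is initial exactly when the empty sieve covers `X`,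
and coverage by the empty sieve passes to the finer canonical topology.) -/
theorem result
    {C : Type u} [Category.{v} C] (X : C) :
    (⊥ : Sieve X) ∈ Sheaf.canonicalTopology C X ↔
      (Nonempty (IsInitial X) ∧ ∀ (Y : C) (f : Y ⟶ X), IsIso f) := by
  constructor
  · intro h
    have key : ∀ Y : C, (⊥ : Sieve Y) ∈ Sheaf.canonicalTopology C Y → Nonempty (IsInitial Y) := by
      intro Y hY
      have : ∀ Z : C, Nonempty (Unique (Y ⟶ Z)) := by
        intro Z
        obtain ⟨t, -, ht⟩ := Sheaf.isSheaf_yoneda_obj Z ⊥ hY (fun W f hf => hf.elim)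
          (fun Y₁ Y₂ Z g₁ g₂ f₁ f₂ h₁ => h₁.elim)
        exact ⟨⟨⟨t⟩, fun y => ht y (fun W f hf => hf.elim)⟩⟩
      exact ⟨IsInitial.ofUnique (h := fun Z => (this Z).some) _⟩
    refine ⟨key X h, fun Y f => ?_⟩
    have hY : (⊥ : Sieve Y) ∈ Sheaf.canonicalTopology C Y :=
      (Sheaf.canonicalTopology C).superset_covering (fun _ _ hw => hw)
        ((Sheaf.canonicalTopology C).pullback_stable f h)
    obtain ⟨hX⟩ := key X h
    obtain ⟨hY⟩ := key Y hY
    exact ⟨hX.to Y, hY.hom_ext _ _, hX.hom_ext _ _⟩
  · rintro ⟨⟨hX⟩, hiso⟩
    apply Sheaf.mem_finestTopology_of_forall_isSheafFor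
    rintro _ ⟨Z, rfl⟩ Y f
    have := hiso Y f
    have hY : IsInitial Y := hX.ofIso (asIso f).symm
    intro x _
    refine ⟨hY.to Z, ?_, ?_⟩
    · intro W w hw
      exact hw.elim
    · intro y _
      exact hY.hom_ext _ _

end Groth.Agent.S6139
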