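import Groth.Statements.S6144
import Mathlib.CategoryTheory.Subobject.WellPowered
import Mathlib.Logic.Small.Set

set_option autoImplicit false
open CategoryTheory CategoryTheory.Limits
universe w v u
open SGA4

namespace Groth.Agent.S6144

/-- Let `E` be a category with `v`-small hom-sets and pullbacks, admitting a detecting family of objects
indexed by a `v`-small type (maps out of the family jointly reflect isomorphisms). Then every
detecting family `Y : I → E`, indexed by an arbitrary type, contains a detecting subfamily indexed
by a `v`-small subset of `I`. -/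
theorem result
    {E : Type u} [Category.{v} E] [HasPullbacks E] {κ : Type v} (G : κ → E)
    (hG : (ObjectProperty.ofObj G).IsDetecting) {I : Type w} (Y : I → E)
    (hY : (ObjectProperty.ofObj Y).IsDetecting) :
    ∃ J : Set I, Small.{v} J ∧ (ObjectProperty.ofObj (fun j : J => Y j)).IsDetecting := by
  classical
  have : WellPowered.{v} E := wellPowered_of_isDetecting hG
  -- a proper subobject of `G k` is detected by some `Y i`
  have key : ∀ (k : κ) (S : Subobject (G k)), ¬ IsIso S.arrow →
      ∃ (i : I) (f : Y i ⟶ G k), ¬ S.Factors f := by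
    intro k S hS
    by_contra hcon
    push Not at hcon
    apply hS
    apply hY
    rintro _ ⟨i⟩ h
    refine ⟨S.factorThru h (hcon i h), S.factorThru_arrow _ _, fun g hg => ?_⟩
    rw [← cancel_mono S.arrow, hg, S.factorThru_arrow]
  choose i f hf using key
  let T := Σ k : κ, {S : Subobject (G k) // ¬ IsIso S.arrow}
  have hT : Small.{v} T := inferInstance
  refine ⟨Set.range (fun t : T => i t.1 t.2.1 t.2.2), small_range _, ?_⟩
  -- the subfamily detects isomorphisms among monomorphisms
  have hmono : ∀ {A B : E} (m : A ⟶ B) [Mono m],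
      (∀ (k : κ) (S : Subobject (G k)) (hS : ¬ IsIso S.arrow) (g : Y (i k S hS) ⟶ B),
        ∃ g' : Y (i k S hS) ⟶ A, g' ≫ m = g) → IsIso m := by
    intro A B m _ hm
    apply hG
    rintro _ ⟨k⟩ g
    have hex : ∃ g' : G k ⟶ A, g' ≫ m = g := by
      let S : Subobject (G k) := Subobject.mk (pullback.snd m g)
      have hS : IsIso S.arrow := by
        by_contra hS
        apply hf k S hS
        obtain ⟨a, ha⟩ := hm k S hS (f k S hS ≫ g)
        exact (Subobject.mk_factors_iff _ _).2
          ⟨pullback.lift a (f k S hS) ha, pullback.lift_snd _ _ _⟩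
      have hsnd : IsIso (pullback.snd m g) := by
        have h1 : (Subobject.underlyingIso (pullback.snd m g)).inv ≫ S.arrow = pullback.snd m g :=
          Subobject.underlyingIso_arrow _
        rw [← h1]
        infer_instance
      refine ⟨inv (pullback.snd m g) ≫ pullback.fst m g, ?_⟩
      rw [Category.assoc, pullback.condition, IsIso.inv_hom_id_assoc]
    obtain ⟨g', hg'⟩ := hex
    refine ⟨g', hg', fun g'' hg'' => ?_⟩
    rw [← cancel_mono m, hg', hg'']
  intro A B m hm
  have hm' : ∀ (k : κ) (S : Subobject (G k)) (hS : ¬ IsIso S.arrow) (g : Y (i k S hS) ⟶ B),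
      ∃! g' : Y (i k S hS) ⟶ A, g' ≫ m = g := by
    intro k S hS g
    let j : Set.range (fun t : T => i t.1 t.2.1 t.2.2) := ⟨i k S hS, ⟨⟨k, S, hS⟩, rfl⟩⟩
    exact hm (Y j) ⟨j⟩ g
  have hdiag : IsIso (pullback.lift (𝟙 A) (𝟙 A) rfl : A ⟶ pullback m m) := by
    have : Mono (pullback.lift (𝟙 A) (𝟙 A) rfl : A ⟶ pullback m m) :=
      ⟨fun a b hab => by
        have := congrArg (fun t => t ≫ pullback.fst m m) hab
        simpa [pullback.lift_fst] using this⟩
    apply hmono
    intro k S hS g
    have h1 : g ≫ pullback.fst m m = g ≫ pullback.snd m m :=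
      (hm' k S hS (g ≫ pullback.fst m m ≫ m)).unique (by simp)
        (by rw [Category.assoc, pullback.condition])
    refine ⟨g ≫ pullback.fst m m, ?_⟩
    apply pullback.hom_ext
    · simp [pullback.lift_fst]
    · simpa [pullback.lift_snd] using h1
  have : Mono m := by
    have h2 : pullback.fst m m = pullback.snd m m := by
      rw [← cancel_epi (pullback.lift (𝟙 A) (𝟙 A) rfl : A ⟶ pullback m m)]
      simp [pullback.lift_fst, pullback.lift_snd]
    constructor
    intro Z a b hab
    have := congrArg (fun t => pullback.lift a b hab ≫ t) h2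
    simpa [pullback.lift_fst, pullback.lift_snd] using this
  exact hmono m (fun k S hS g => (hm' k S hS g).exists)

end Groth.Agent.S6144
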