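import Groth.Statements.S6177
import Groth.Agent.Sga4A.OpenClosed

set_option autoImplicit false
universe u
open CategoryTheory
open SGA4

namespace Groth.Agent.S6177

open CategoryTheory.Limits in
/-- Topos of sheaves of sets on a small site; U an open, i.e. a subobject of the final object; X_CU the
pushout of U <- U x X -> X along the two projections: (ii) <=> (iii): the canonical map X -> X_CU is
an isomorphism if and only if the projection U x X -> U is an isomorphism (X belongs to the closed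
complement of U); and (i) => (iii): if X is isomorphic to Y_CU for some Y then X belongs to the
closed complement of U ((iii) => (i) with Y = X is then immediate from (ii)). -/
theorem result {C : Type u} [SmallCategory C] (J : GrothendieckTopology C)
    (U : Sheaf J (Type u)) (hU : SGA4.IsOpen U) (X : Sheaf J (Type u)) :
    (SGA4.closedCompl U X ↔ IsIso (pushout.inr (prod.fst : U ⨯ X ⟶ U) (prod.snd : U ⨯ X ⟶ X))) ∧
    ((∃ Y : Sheaf J (Type u), Nonempty (X ≅ pushout (prod.fst : U ⨯ Y ⟶ U) (prod.snd : U ⨯ Y ⟶ Y))) →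
      SGA4.closedCompl U X) := by
  have hs := Groth.Agent.Sga4A.OpenClosed.subsingleton_of_isOpen hU
  have hiso : ∀ {Y Z : Sheaf J (Type u)} (e : Y ≅ Z), SGA4.closedCompl U Y →
      SGA4.closedCompl U Z := by
    intro Y Z e h
    have h' : IsIso (prod.fst : U ⨯ Y ⟶ U) := h
    have h2 : (prod.fst : U ⨯ Z ⟶ U) = prod.map (𝟙 U) e.inv ≫ (prod.fst : U ⨯ Y ⟶ U) := by
      rw [prod.map_fst, Category.comp_id]
    change IsIso (prod.fst : U ⨯ Z ⟶ U)
    rw [h2]
    infer_instance
  have key : ∀ Y : Sheaf J (Type u),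
      SGA4.closedCompl U (pushout (prod.fst : U ⨯ Y ⟶ U) (prod.snd : U ⨯ Y ⟶ Y)) := fun Y =>
    hiso (Groth.Agent.Sga4A.OpenClosed.isPushout_F hs Y).isoPushout
      (Groth.Agent.Sga4A.OpenClosed.closedCompl_F Y)
  have key2 : (∃ Y : Sheaf J (Type u),
      Nonempty (X ≅ pushout (prod.fst : U ⨯ Y ⟶ U) (prod.snd : U ⨯ Y ⟶ Y))) →
      SGA4.closedCompl U X := by
    rintro ⟨Y, ⟨e⟩⟩
    exact hiso e.symm (key Y)
  refine ⟨⟨fun h => ?_, fun h => ?_⟩, key2⟩
  · have h' : IsIso (prod.fst : U ⨯ X ⟶ U) := h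
    exact pushout_inr_iso_of_left_iso _ _
  · exact key2 ⟨X, ⟨asIso (pushout.inr (prod.fst : U ⨯ X ⟶ U) (prod.snd : U ⨯ X ⟶ X))⟩⟩

end Groth.Agent.S6177
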