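import Groth.Statements.S6181
import Groth.Agent.EtDesc.K223.FinPush

set_option autoImplicit false
open CategoryTheory CategoryTheory.Limits AlgebraicGeometry Opposite
universe u
open EtDesc

namespace Groth.Agent.S6181

/-- Let f : X -> Y be a finite morphism of schemes, Ω an algebraically closed field and η : Spec Ω -> Y
a geometric point. The functor F ↦ (f_* F)_η on etale sheaves of sets on X is isomorphic to the
product, over the geometric points ξ : Spec Ω -> X lying over η, of the fibre functors F ↦ F_ξ. (The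
published statement gives a canonical isomorphism and indexes the product by the points of the
geometric fibre over a separable closure of the residue field; this row asserts only that an
isomorphism of functors exists and indexes the product by the Ω-valued points of X over η, which for
Ω algebraically closed correspond to those points.) -/
theorem result {X Y : Scheme.{u}} (f : X ⟶ Y) [IsFinite f]
    {Ω : Type u} [Field Ω] [IsAlgClosed Ω] (η : Spec (CommRingCat.of Ω) ⟶ Y) :
    Nonempty (EtDesc.pushSh f ⋙ (Scheme.pointSmallEtale η).sheafFiber (A := Type (u + 1)) ≅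
      ∏ᶜ fun ξ : {ξ : Spec (CommRingCat.of Ω) ⟶ X // ξ ≫ f = η} =>
        ((Scheme.pointSmallEtale ξ.1).sheafFiber (A := Type (u + 1)) : EtDesc.Sh X ⥤ Type (u + 1))) := by
  let fam : {ξ : Spec (CommRingCat.of Ω) ⟶ X // ξ ≫ f = η} → (EtDesc.Sh X ⥤ Type (u + 1)) := fun ξ =>
    (Scheme.pointSmallEtale ξ.1).sheafFiber (A := Type (u + 1))
  let α : ∀ ξ : {ξ : Spec (CommRingCat.of Ω) ⟶ X // ξ ≫ f = η},
      EtDesc.pushSh f ⋙ (Scheme.pointSmallEtale η).sheafFiber (A := Type (u + 1)) ⟶ fam ξ := fun ξ =>
    { app := fun F => ↾(K223.FinPush.pushStk f F ξ.1 η ξ.2)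
      naturality := fun F G a => by
        ext σ
        exact K223.FinPush.pushStk_mapStk f a ξ.1 η ξ.2 σ }
  let β : EtDesc.pushSh f ⋙ (Scheme.pointSmallEtale η).sheafFiber (A := Type (u + 1)) ⟶ ∏ᶜ fam :=
    Pi.lift α
  have hβ : ∀ (F : EtDesc.Sh X) (ξ : {ξ : Spec (CommRingCat.of Ω) ⟶ X // ξ ≫ f = η})
      (σ : (Scheme.pointSmallEtale η).sheafFiber.obj ((EtDesc.pushSh f).obj F)),
      (Pi.π fam ξ).app F (β.app F σ) = K223.FinPush.pushStk f F ξ.1 η ξ.2 σ := by
    intro F ξ σ
    exact ConcreteCategory.congr_hom (congr_app (Pi.lift_π α ξ) F) σ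
  have hiso : ∀ F, IsIso (β.app F) := by
    intro F
    rw [isIso_iff_bijective]
    constructor
    · intro σ τ h
      refine K223.FinPush.pushStk_injective f F η σ τ (fun ξ hξ => ?_)
      rw [← hβ F ⟨ξ, hξ⟩ σ, ← hβ F ⟨ξ, hξ⟩ τ, h]
    · intro x
      obtain ⟨τ, hτ⟩ := K223.FinPush.pushStk_surjective f F η
        (fun ξ hξ => (Pi.π fam ⟨ξ, hξ⟩).app F x)
      refine ⟨τ, ?_⟩
      have hl := isLimitOfPreserves ((evaluation (EtDesc.Sh X) (Type (u + 1))).obj F)
        (limit.isLimit (Discrete.functor fam))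
      refine Concrete.isLimit_ext _ hl _ _ (fun j => ?_)
      obtain ⟨ξ⟩ := j
      exact (hβ F ξ τ).trans (hτ ξ.1 ξ.2)
  have : IsIso β := NatIso.isIso_of_isIso_app β
  exact ⟨asIso β⟩

end Groth.Agent.S6181
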