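import Groth.Statements.S6186
import Groth.Agent.EtCore.K300.StalkRpushNat
import Groth.Agent.S0620

set_option autoImplicit false
open CategoryTheory CategoryTheory.Limits AlgebraicGeometry Opposite
universe u
open EtCore

namespace Groth.Agent.S6186

/-- With its functoriality in F: let f : X -> S be quasi-compact and quasi-separated, s a point of S, R
a strict henselization of O_{S,s}, S̄ = Spec R -> S the strict localisation with geometric point s̄
: Spec κ(R) -> S, X̄ = X x_S S̄ and g : X̄ -> X the projection. For every n the functors F ↦ (R^n
f_* F)_s̄ and F ↦ H^n(X̄, g^* F), from abelian etale sheaves on X to abelian groups, are isomorphic.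
(The published statement asserts that a canonical map, built from the colimit description of the
stalk and passage to the limit in cohomology, is an isomorphism; this row asserts only that an
isomorphism of functors exists.) -/
theorem result {X S : Scheme.{u}} (f : X ⟶ S)
    [QuasiCompact f] [QuasiSeparated f] (s : S) (R : Type u) [CommRing R] [IsLocalRing R]
    [Algebra (S.presheaf.stalk s) R] [IsLocalHom (algebraMap (S.presheaf.stalk s) R)]
    [Hensel.IsStrictHenselization (S.presheaf.stalk s) R] [IsSepClosed (IsLocalRing.ResidueField R)] (n : ℕ) :
    Nonempty (EtCoh.Rpush f n ⋙ EtCoh.stalk (Hens2.geomPt S s R) ≅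
      EtCoh.pull (pullback.fst f (Hens2.specOf S s R)) ⋙ EtCoh.HF (pullback f (Hens2.specOf S s R)) n) := by
  obtain ⟨e, he, he'⟩ := Groth.Agent.S0620.exists_iso S s R
  have h : IsPullback (pullback.fst f (Hens2.specOf S s R))
      (pullback.snd f (Hens2.specOf S s R) ≫ e) f
      (Groth.Agent.EtpbcB.StrictLoc.toBase (Hens2.geomPt S s R)) :=
    IsPullback.of_iso (IsPullback.of_hasPullback f (Hens2.specOf S s R)) (Iso.refl _) (Iso.refl _)
      (asIso e) (Iso.refl _) (by simp) (by simp) (by simp) (by simp [he'])
  exact K300.StalkRpushNat.nonempty_stalk_Rpush_natIso f (Hens2.geomPt S s R) h n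

end Groth.Agent.S6186
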