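import Groth.Statements.S6212
import Groth.Agent.KSix.K239.AmpNhd

set_option autoImplicit false
universe u
open CategoryTheory CategoryTheory.Limits AlgebraicGeometry
attribute [local instance] HasDerivedCategory.standard
open KSix

namespace Groth.Agent.S6212

open Groth.Agent Groth.Agent.PerfA.Restrict Groth.Agent.PerfC.PcLocal K240.RelChart K240.RelBasic

/-- Let f : X ⟶ Y be locally of finite type, F a cochain complex of O_X-modules, a and b integers and x
a point of X. The following are equivalent: (i) on some open neighbourhood U of x, F|_U has perfect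
amplitude in [a, b] relative to U ⟶ Y (pseudo-coherent relative to the morphism in chart form, and
of tor amplitude in [a, b] stalkwise over the local rings of Y); (ii) on some open neighbourhood U
of x, F|_U is (a-1)-pseudo-coherent relative to U ⟶ Y and its cohomology sheaves vanish outside [a,
b], and the complex of stalks F_x over the local ring of Y at f x has tor amplitude in [a, b]. -/
theorem result {X Y : Scheme.{u}} (f : X ⟶ Y)
    [LocallyOfFiniteType f] (F : CochainComplex X.Modules ℤ) (a b : ℤ) (x : X) :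
    (∃ U : X.Opens, x ∈ U ∧ DerSch.HasPerfAmplitudeRel (U.ι ≫ f) a b ((DCoh.restrictCx U).obj F)) ↔
      ((∃ U : X.Opens, x ∈ U ∧
          DerSch.IsPseudoCoherentRel (U.ι ≫ f) (a - 1) (DCoh.toD (U : Scheme.{u}) ((DCoh.restrictCx U).obj F)) ∧
          ∀ i : ℤ, i < a ∨ b < i → IsZero (DCoh.HD (DCoh.toD (U : Scheme.{u}) ((DCoh.restrictCx U).obj F)) i)) ∧
        DerSch.HasTorAmplitudeAt f a b F x) := by
  constructor
  · rintro ⟨U, hx, h1, h2⟩
    refine ⟨⟨U, hx, h1 (a - 1), fun i hi => K239.AmpTrunc.isZero_HD_of_hasTorAmplitude _ h2 i hi⟩, ?_⟩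
    exact (K254.StalkTor.hasTorAmplitudeAt_restrict_iff f U.ι F a b ⟨x, hx⟩).1 (h2 ⟨x, hx⟩)
  · rintro ⟨⟨U, hx, h1, h2⟩, h3⟩
    have := h1.1
    obtain ⟨W, v, hv, w, hw, h4, h5⟩ := K239.AmpNhd.exists_nhd (U.ι ≫ f) ((DCoh.restrictCx U).obj F) a b ⟨x, hx⟩
      h1 h2 ((K254.StalkTor.hasTorAmplitudeAt_restrict_iff f U.ι F a b ⟨x, hx⟩).2 h3)
    refine ⟨(v ≫ U.ι).opensRange, ⟨w, ?_⟩, ?_⟩
    · rw [Scheme.Hom.comp_apply, hw]
      rfl
    · refine K239.AmpNhd.hasPerfAmplitudeRel_opensRange f F a b (v ≫ U.ι) (fun m => ?_) fun w' => ?_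
      · rw [isPseudoCoherentRel_congr (Category.assoc v U.ι f)]
        exact isPseudoCoherentRel_of_iso ((restrictD v).mapIso (restrictDQ U.ι F).symm ≪≫
          (PerfC.PcLocal.restrictDComp v U.ι).app _) (h4 m)
      · exact (K254.StalkTor.hasTorAmplitudeAt_restrict_iff f U.ι F a b (v w')).1 (h5 w')

end Groth.Agent.S6212
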