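import Groth.Statements.S6216
import Groth.Agent.KSix.K239.RelTerm

set_option autoImplicit false
universe u
open CategoryTheory CategoryTheory.Limits AlgebraicGeometry
attribute [local instance] HasDerivedCategory.standard
open KSix

namespace Groth.Agent.S6216

open K239.RelFP K239.RelTerm

/-- Let f : X ⟶ Y be locally of finite type, a and b integers, and E a cochain complex of O_X-modules
with E^i = 0 for i outside [a, b], every term E^i being flat over Y at every point of X and, placed
in degree 0, (-1)-pseudo-coherent relative to f (finitely presented relative to f, chart form). Then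
E has perfect amplitude in [a, b] relative to f (pseudo-coherent relative to f, and of stalkwise tor
amplitude in [a, b] over the local rings of Y). -/
theorem result {X Y : Scheme.{u}} (f : X ⟶ Y)
    [LocallyOfFiniteType f] (E : CochainComplex X.Modules ℤ) (a b : ℤ) (hab : DCoh.VanishesOutside E a b)
    (hfl : ∀ i : ℤ, FlatMod.IsFlatOver f (E.X i))
    (hfp : ∀ i : ℤ, DerSch.IsPseudoCoherentRel f (-1) (DCoh.toD X ((HomologicalComplex.single _ (ComplexShape.up ℤ) 0).obj (E.X i)))) :
    DerSch.HasPerfAmplitudeRel f a b E := by
  refine ⟨fun m => ?_, fun x => K239.StalkAmp.at_of_flat f hab x fun i => hfl i x⟩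
  refine rel_of_termwise E b m (fun i hi => hab i (Or.inr hi)) fun i _ => ?_
  exact K240.RelChart.isPseudoCoherentRel_of_iso (toDSgl (E.X i))
    (isPseudoCoherentRelAll_of_flat (E.X i) (hfl i) (hfp i) (m - i))

end Groth.Agent.S6216
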