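import Groth.Statements.S6218
import Groth.Agent.S6201
import Groth.Agent.KSix.K239.AmpTrunc
import Groth.Agent.KSix.K239.AmpPush
import Groth.Agent.Dcoh.PerfFlat

set_option autoImplicit false
universe u
open CategoryTheory CategoryTheory.Limits AlgebraicGeometry
attribute [local instance] HasDerivedCategory.standard
open KSix

namespace Groth.Agent.S6218

open Groth.Agent

/-- Let i : X ⟶ Y be a closed immersion, g : Y ⟶ S smooth, a and b integers, and F a cochain complex of
O_X-modules such that the termwise direct image i_* F has perfect amplitude in [a, b] on Y in the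
absolute sense (locally isomorphic in D to a complex of finite locally free modules placed in [a,
b]). Then F has perfect amplitude in [a, b] relative to i ≫ g (pseudo-coherent relative to it in
chart form, with stalkwise tor amplitude in [a, b] over the local rings of S). -/
theorem result {X Y S : Scheme.{u}} (i : X ⟶ Y) [IsClosedImmersion i]
    (g : Y ⟶ S) [Smooth g] (a b : ℤ) (F : CochainComplex X.Modules ℤ)
    (hF : KSix.HasPerfectAmplitudeIn a b (DCoh.toD Y (((Scheme.Modules.pushforward i).mapHomologicalComplex (ComplexShape.up ℤ)).obj F))) :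
    DerSch.HasPerfAmplitudeRel (i ≫ g) a b F := by
  have hp : DCoh.IsPerfect (DCoh.toD Y (K239.AmpPush.pushC i F)) := by
    intro y
    obtain ⟨V, hy, h⟩ := hF y
    refine ⟨V, hy, fun G hG => ?_⟩
    obtain ⟨E, h1, h2, h3⟩ := h G hG
    exact ⟨E, ⟨⟨a, b, h1⟩, h2⟩, h3⟩
  refine ⟨fun m => (S6201.result i g m F).2 (((Dcoh.PerfFlat.isPerfect_iff _).1 hp).1 m), ?_⟩
  refine (K239.AmpPush.hasTorAmplitude_push_iff i g a b F).1 fun y => ?_
  obtain ⟨V, hy, h⟩ := hF y
  obtain ⟨E, h1, h2, ⟨e⟩⟩ := h _ ⟨Iso.refl _⟩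
  have h3 : DerSch.HasTorAmplitudeAt (V.ι ≫ g) a b
      (((Scheme.Modules.restrictFunctor V.ι).mapHomologicalComplex (ComplexShape.up ℤ)).obj
        (K239.AmpPush.pushC i F)) ⟨y, hy⟩ := by
    refine K239.StalkAmp.at_of_iso (V.ι ≫ g) e.symm ⟨y, hy⟩ ?_
    exact K239.StalkAmp.at_of_flat _ h1 _ fun j =>
      PerfC.RelFlat.isFlatOver_of_isFlat (V.ι ≫ g) (Dcoh.Spread.isFlat_of_isFinLocFree (h2 j)) _
  exact (K254.StalkTor.hasTorAmplitudeAt_restrict_iff g V.ι _ a b ⟨y, hy⟩).1 h3

end Groth.Agent.S6218
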