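import Groth.Statements.S6224
import Groth.Agent.KSix.K240.TorPush2
import Groth.Agent.KSix.K240.RelQCoh
import Groth.Agent.KSix.K240.RpushNoeth

set_option autoImplicit false
universe u
open CategoryTheory CategoryTheory.Limits AlgebraicGeometry
attribute [local instance] HasDerivedCategory.standard
open KSix

namespace Groth.Agent.S6224

/-- Case of a Noetherian base: let S be a Noetherian scheme, p : X ⟶ S and q : Y ⟶ S of finite type, f :
X ⟶ Y proper with f ≫ q = p, N a natural number such that R^i f_* M = 0 for every i above N and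
every quasi-coherent O_X-module M, a and b integers, and F a cochain complex of O_X-modules whose
class in D(O_X) has bounded cohomology and which has perfect amplitude in [a, b] relative to p
(pseudo-coherent relative to p in chart form, stalkwise tor amplitude in [a, b] over the local rings
of S). Then, Rf_* being assumed to exist, Rf_* F has perfect amplitude in [a, b + N] relative to q:
every cochain complex representing it does. -/
theorem result {X Y S : Scheme.{u}} [IsNoetherian S]
    (p : X ⟶ S) (q : Y ⟶ S) [LocallyOfFiniteType p] [QuasiCompact p] [LocallyOfFiniteType q] [QuasiCompact q]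
    (f : X ⟶ Y) [IsProper f] (w : f ≫ q = p) [DCoh.HasRpush f] (N : ℕ)
    (hN : ∀ M : X.Modules, Coh.IsQCoh M → ∀ i : ℤ, (N : ℤ) < i → IsZero (DCoh.HD ((DCoh.Rpush f).obj (DCoh.inD X M)) i))
    (F : CochainComplex X.Modules ℤ) (c d : ℤ) [(DCoh.toD X F).IsGE c] [(DCoh.toD X F).IsLE d]
    (a b : ℤ) (hF : DerSch.HasPerfAmplitudeRel p a b F) :
    ∀ F' : CochainComplex Y.Modules ℤ, Nonempty (DCoh.toD Y F' ≅ (DCoh.Rpush f).obj (DCoh.toD X F)) →
      DerSch.HasPerfAmplitudeRel q a (b + N) F' := by
  subst w
  rintro F' ⟨e⟩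
  have h1 := K240.RpushNoeth.isPseudoCoherentRelAll_Rpush (f ≫ q) q f (DCoh.toD X F) c hF.1
  have h2 := K240.TorPush2.hasTorAmplitudeD_Rpush f q N hN (DCoh.toD X F)
    (K240.RelQCoh.isQCohD_of_rel hF.1) c a b
    ((K238.StalkD.hasTorAmplitudeD_toD_iff (f ≫ q) a b F).2 hF.2)
  exact ⟨fun m => K240.RelChart.isPseudoCoherentRel_of_iso e.symm (h1 m), h2 F' ⟨e⟩⟩

end Groth.Agent.S6224
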