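import Groth.Statements.S6226
import Groth.Agent.KSix.K240.RelFlat

set_option autoImplicit false
universe u
open CategoryTheory CategoryTheory.Limits AlgebraicGeometry
attribute [local instance] HasDerivedCategory.standard
open KSix

namespace Groth.Agent.S6226

/-- Last clause: for a flat base change: let f : X ⟶ Y be locally of finite type and n-pseudo-coherent
(O_X placed in degree 0 is n-pseudo-coherent relative to f, chart form) and h : Y' ⟶ Y flat. Then
the base change X ×_Y Y' ⟶ Y' of f is n-pseudo-coherent. (The published statement assumes only that
X and Y' are tor-independent over Y; this row takes h flat, which implies that condition.) -/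
theorem result {X Y Y' : Scheme.{u}} (f : X ⟶ Y) [LocallyOfFiniteType f] (n : ℤ)
    (hf : DerSch.IsNPseudoCoherent f n) (h : Y' ⟶ Y) [Flat h] :
    DerSch.IsNPseudoCoherent (pullback.snd f h) n := by
  have := MorphismProperty.pullback_fst (P := @Flat) f h inferInstance
  exact K240.RelChart.isPseudoCoherentRel_of_iso (K240.RelFlat.pullbackDUnit (pullback.fst f h))
    (K240.RelFlat.isPseudoCoherentRel_pullbackD (IsPullback.of_hasPullback f h) hf)

end Groth.Agent.S6226
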