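import Groth.Statements.S6237
import Groth.Agent.KSix.K241.KosImm

set_option autoImplicit false
universe u
open CategoryTheory CategoryTheory.Limits AlgebraicGeometry
attribute [local instance] HasDerivedCategory.standard
open KSix

namespace Groth.Agent.S6237

open Groth.Agent.PerfA.Restrict Groth.Agent.PerfC.ClosedPush Groth.Agent.PerfC.ClosedImmPc
  Groth.Agent.PerfC.PcLocal K241.KosImm

/-- Let i : Z ⟶ X be a closed immersion which is Koszul-regular (around every point the ideal of Z in an
affine open of X is generated by a finite sequence whose Koszul complex is acyclic in positive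
degrees). Then i_*O_Z placed in degree 0 is a perfect object of D(O_X); in particular it is
pseudo-coherent. -/
theorem result {Z X : Scheme.{u}} (i : Z ⟶ X)
    [IsClosedImmersion i] (hi : RegImm.IsRegularImmersion RegImm.Kind.koszul i) :
    DCoh.IsPerfect (DCoh.inD X ((Scheme.Modules.pushforward i).obj (Coh.structureModule Z))) := by
  refine Groth.Agent.PerfC.PerfLocal.perf_of_cover _ fun y => ?_
  by_cases hy : y ∈ Set.range i
  · obtain ⟨z, rfl⟩ := hy
    obtain ⟨U, hz, hcl, rs, hrs, hk⟩ := hi.2 z
    have hW := isAffineOpen_preimage i U.1 U.2 hcl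
    refine ⟨_, U.2.fromSpec, inferInstance, U.2.primeIdealOf ⟨i z, hz⟩,
      U.2.fromSpec_primeIdealOf ⟨i z, hz⟩, ?_⟩
    refine Groth.Agent.PerfC.PerfLocal.perf_of_iso ?_ (isPerfect_push_spec (i.app U.1).hom
      (app_surjective i U.1 U.2 hcl) rs hrs hk)
    exact (DerivedCategory.singleFunctor _ 0).mapIso (restrictPush i U.1 U.2 hW).symm ≪≫
      (Groth.Agent.PerfA.PerfLocal.restrictInD U.2.fromSpec _).symm
  · let V : X.Opens := ⟨(Set.range i)ᶜ, i.isClosedEmbedding.isClosed_range.isOpen_compl⟩
    refine ⟨V, V.ι, inferInstance, ⟨y, hy⟩, rfl, ?_⟩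
    have h0 : IsEmpty (i ⁻¹ᵁ V : Z.Opens).toScheme := ⟨fun z => z.2 ⟨z.1, rfl⟩⟩
    refine Groth.Agent.PerfC.PerfLocal.perf_of_iso (pushUnitRestrict i V).symm
      (Groth.Agent.PerfC.PerfLocal.perf_of_isZero ?_)
    refine (DerivedCategory.singleFunctor _ 0).map_isZero
      ((Scheme.Modules.pushforward (i ∣_ V)).map_isZero ?_)
    exact (isZero_iff_stalk _).2 fun x => h0.elim x

end Groth.Agent.S6237
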