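import Groth.Statements.S6238
import Groth.Agent.KSix.K241.KosImm
import Groth.Agent.KSix.K240.RelChart
import Groth.Agent.KSix.K239.StalkAmp
import Groth.Agent.CycB.PushStalk
import Groth.Agent.LoccohB.GorKoszulFlat

set_option autoImplicit false
universe u
open CategoryTheory CategoryTheory.Limits AlgebraicGeometry
attribute [local instance] HasDerivedCategory.standard
open KSix

namespace Groth.Agent.S6238

open Groth.Agent.PerfA.Restrict Groth.Agent.PerfC.ClosedPush Groth.Agent.PerfC.ClosedImmPc
  Groth.Agent.PerfC.PcLocal K241.KosImm K240.RelData K240.RelChart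

/-- The datum given by a chart. -/
noncomputable def chartDatum {Z X : Scheme.{u}} (i : Z ⟶ X) (U : X.Opens) (hU : IsAffineOpen U)
    (hcl : IsClosedImmersion (i ∣_ U)) : Datum i where
  W := Spec Γ(Z, i ⁻¹ᵁ U)
  P := Spec Γ(X, U)
  j := (isAffineOpen_preimage i U hU hcl).fromSpec
  i := Spec.map (i.app U)
  p := hU.fromSpec
  open_j := inferInstance
  closed_i := IsClosedImmersion.spec_of_surjective _ (app_surjective i U hU hcl)
  flat_p := inferInstance
  fp_p := inferInstance
  w := (isPullback_chart i U hU (isAffineOpen_preimage i U hU hcl)).w.symm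

/-- Let `O_Z` in degree `0`. -/
noncomputable def unitIso (Z : Scheme.{u}) :
    DCoh.toD Z (DerSch.unitCx Z) ≅ DCoh.inD Z (Coh.structureModule Z) :=
  ((DerivedCategory.singleFunctorIsoCompQ Z.Modules 0).app (Coh.structureModule Z)).symm

theorem pc {Z X : Scheme.{u}} (i : Z ⟶ X) [IsImmersion i] (d : ℕ)
    (hi : RegImm.IsRegularImmersionOfCodim RegImm.Kind.koszul d i) :
    DerSch.IsPseudoCoherentRelAll i (DCoh.toD Z (DerSch.unitCx Z)) := by
  intro m
  refine isPseudoCoherentRel_of_data fun z => ?_
  obtain ⟨U, hz, hcl, rs, hlen, hrs, hk⟩ := hi.2 z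
  have hW := isAffineOpen_preimage i U.1 U.2 hcl
  refine ⟨chartDatum i U.1 U.2 hcl, hW.primeIdealOf ⟨z, hz⟩, hW.fromSpec_primeIdealOf ⟨z, hz⟩, ?_⟩
  have hc : IsClosedImmersion (Spec.map (i.app U.1)) :=
    IsClosedImmersion.spec_of_surjective _ (app_surjective i U.1 U.2 hcl)
  have h1 := isPerfect_push_spec (i.app U.1).hom (app_surjective i U.1 U.2 hcl) rs hrs hk
  have h2 := Groth.Agent.PerfC.PerfLocal.pc_of_perf h1 m
  change DCoh.IsPseudoCoherentD m ((pushD (Spec.map (i.app U.1))).obj
    ((restrictD hW.fromSpec).obj (DCoh.toD Z (DerSch.unitCx Z))))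
  refine pc_of_iso ?_ h2
  refine (((Scheme.Modules.pushforward (Spec.map (i.app U.1))).mapDerivedCategorySingleFunctor 0).app
    (Coh.structureModule _)).symm ≪≫ (pushD (Spec.map (i.app U.1))).mapIso ?_
  exact (DerivedCategory.singleFunctor _ 0).mapIso (Scheme.Modules.restrictUnitIso _).symm ≪≫
    (Groth.Agent.PerfA.PerfLocal.restrictInD hW.fromSpec _).symm ≪≫
    (restrictD hW.fromSpec).mapIso (unitIso Z).symm

/-- An immersion i : Z ⟶ X which is Koszul-regular of codimension d (around every point, over an affine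
open of X on which i is a closed immersion, the ideal is generated by d sections whose Koszul
complex is acyclic in positive degrees) has perfect dimension at most d: O_Z placed in degree 0 is
pseudo-coherent relative to i (chart form) with stalkwise tor amplitude in [-d, 0] over the local
rings of X. -/
theorem result {Z X : Scheme.{u}} (i : Z ⟶ X) (d : ℕ)
    (hi : RegImm.IsRegularImmersionOfCodim RegImm.Kind.koszul d i) :
    DerSch.HasPerfDimLE i d := by
  have himm : IsImmersion i := hi.1
  refine ⟨pc i d hi, fun z => ?_⟩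
  obtain ⟨U, hz, hcl, rs, hlen, hrs, hk⟩ := hi.2 z
  have hW := isAffineOpen_preimage i U.1 U.2 hcl
  have hs := app_surjective i U.1 U.2 hcl
  have hst : Function.Surjective (i.stalkMap z).hom := i.stalkMap_surjective z
  have hker : RingHom.ker (i.stalkMap z).hom =
      Ideal.ofList (rs.map (X.presheaf.germ U.1 (i z) hz).hom) := by
    rw [ker_stalkMap i U.1 U.2 hW hs z hz, hk, Ideal.map_ofList]
  have hflat : (X.presheaf.germ U.1 (i z) hz).hom.Flat := by
    let := X.presheaf.algebra_section_stalk ⟨i z, hz⟩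
    have := U.2.isLocalization_stalk ⟨i z, hz⟩
    have h1 : Module.Flat Γ(X, U.1) (X.presheaf.stalk (i z)) :=
      IsLocalization.flat _ (U.2.primeIdealOf ⟨i z, hz⟩).asIdeal.primeCompl
    exact h1
  have hreg : LCI.IsKoszulRegularSeq (X.presheaf.stalk (i z))
      (rs.map (X.presheaf.germ U.1 (i z) hz).hom) :=
    Groth.Agent.LoccohB.GorKoszulFlat.isKoszulRegularSeq_map_of_flat _ hflat rs hrs
  have h1 := hasTorAmplitudeIn_quotient hreg
  rw [List.length_map, hlen, ← hker] at h1
  rw [K239.StalkAmp.at_iff_stalkD]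
  obtain ⟨e⟩ := Groth.Agent.Cohder.RelPCGraph.nonempty_quotIso (i.stalkMap z).hom hst
  refine K239.StalkAmp.hasTorAmplitudeIn_of_iso ?_ h1
  refine (DerivedCategory.singleFunctor _ 0).mapIso (e.symm ≪≫
    (ModuleCat.restrictScalars (i.stalkMap z).hom).mapIso
      (LinearEquiv.toModuleIso (Groth.Agent.CycB.PushStalk.unitStalk Z z))) ≪≫ ?_
  exact (((DerSch.stalkOver i z).mapDerivedCategorySingleFunctor 0).app
    (Coh.structureModule Z)).symm ≪≫ (K239.StalkAmp.stalkD i z).mapIso (unitIso Z).symm

end Groth.Agent.S6238
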