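import Groth.Statements.S6239

set_option autoImplicit false
universe u
open CategoryTheory CategoryTheory.Limits AlgebraicGeometry
attribute [local instance] HasDerivedCategory.standard
open KSix

namespace Groth.Agent.S6239

lemma hasTorAmplitudeAt_mono {X Y : Scheme.{u}} (f : X ⟶ Y) {a b a' b' : ℤ} (ha : a' ≤ a) (hb : b ≤ b')
    (F : CochainComplex X.Modules ℤ) (x : X) (h : DerSch.HasTorAmplitudeAt f a b F x) :
    DerSch.HasTorAmplitudeAt f a' b' F x := by
  obtain ⟨E, h1, h2, h3⟩ := h
  exact ⟨E, fun i hi => h1 i (by omega), h2, h3⟩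

/-- Let f : X ⟶ Y be a morphism with X quasi-compact and F a cochain complex of O_X-modules which is
perfect relative to f (pseudo-coherent relative to f in chart form, and locally on X of finite
stalkwise tor amplitude over the local rings of Y). Then F has finite perfect amplitude relative to
f: one interval [a, b] works at every point of X. -/
theorem result {X Y : Scheme.{u}} [CompactSpace X] (f : X ⟶ Y)
    (F : CochainComplex X.Modules ℤ) (hF : DerSch.IsPerfectRel f F) :
    DerSch.HasFinitePerfAmplitudeRel f F := by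
  obtain ⟨h1, h2⟩ := hF
  choose V a b hx hV using h2
  obtain ⟨t, ht⟩ := CompactSpace.elim_nhds_subcover (fun x => (V x : Set X))
    (fun x => (V x).isOpen.mem_nhds (hx x))
  obtain ⟨A, hA⟩ : ∃ A : ℤ, ∀ x ∈ t, A ≤ a x := by
    obtain ⟨A, hA⟩ := (t.image a).bddBelow
    exact ⟨A, fun x hx => hA (by simpa using ⟨x, hx, rfl⟩)⟩
  obtain ⟨B, hB⟩ : ∃ B : ℤ, ∀ x ∈ t, b x ≤ B := by
    obtain ⟨B, hB⟩ := (t.image b).bddAbove
    exact ⟨B, fun x hx => hB (by simpa using ⟨x, hx, rfl⟩)⟩
  refine ⟨A, B, h1, fun y => ?_⟩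
  have hy : y ∈ ⋃ x ∈ t, (V x : Set X) := by rw [ht]; trivial
  simp only [Set.mem_iUnion] at hy
  obtain ⟨x, hxt, hyx⟩ := hy
  exact hasTorAmplitudeAt_mono f (hA x hxt) (hB x hxt) F y (hV x y hyx)

end Groth.Agent.S6239
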