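import Groth.Statements.S6241
import Groth.Agent.KSix.K241.TenPull
import Groth.Agent.Dcoh.LocalD

set_option autoImplicit false
universe u
open CategoryTheory CategoryTheory.Limits AlgebraicGeometry
attribute [local instance] HasDerivedCategory.standard
open KSix

namespace Groth.Agent.S6241

/-- Let f : X ⟶ Y be a morphism of schemes and F a cochain complex of O_X-modules with bounded above
cohomology and tor amplitude in [m, n] relative to f in the stalkwise sense (at every point x of X
the complex of stalks F_x is isomorphic, in the derived category of the local ring of Y at f x, to a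
complex of flat modules placed in [m, n]). Then for every open V of Y and every O_V-module M, the
derived pullback along the restriction f⁻¹(V) ⟶ V of f and the derived tensor product with the
restriction of F to f⁻¹(V) being assumed to exist, the cohomology sheaves of L(f|)^* M ⊗^L (F
restricted to f⁻¹(V)) vanish outside [m, n]. (The published statement is for a morphism of ringed
topoi whose source has enough points, with V an object of the target topos; this row is the case of
schemes, V an open subscheme, and the derived tensor product taken with the restriction of F as the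
fixed right-hand factor.) -/
theorem result {X Y : Scheme.{u}} (f : X ⟶ Y)
    (F : CochainComplex X.Modules ℤ) (e : ℤ) [(DCoh.toD X F).IsLE e] (m n : ℤ)
    (hF : DerSch.HasTorAmplitude f m n F) (V : Y.Opens) (M : (V : Scheme.{u}).Modules)
    [DCoh.HasLpull (f ∣_ V)] [DCoh.HasLTensorCx ((DCoh.restrictCx (f ⁻¹ᵁ V)).obj F)]
    (i : ℤ) (hi : i < m ∨ n < i) :
    IsZero (DCoh.HD ((DCoh.LTensorCx ((DCoh.restrictCx (f ⁻¹ᵁ V)).obj F)).obj
      ((DCoh.Lpull (f ∣_ V)).obj (DCoh.inD (V : Scheme.{u}) M))) i) := by
  refine K241.TenPull.isZero_HD_ltensor_lpull (f ∣_ V) ((DCoh.restrictCx (f ⁻¹ᵁ V)).obj F) ?_ M i hi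
  intro x
  rw [← K240.AmpLoc.amp_comp_open_iff (f ∣_ V) V.ι x]
  have key : ∀ φ : ((f ⁻¹ᵁ V : X.Opens) : Scheme.{u}) ⟶ Y, φ = (f ⁻¹ᵁ V).ι ≫ f →
      DRing.HasTorAmplitudeIn (Y.presheaf.stalk (φ.base x)) m n
        ((K238.StalkD.stalkOverD φ x).obj (DCoh.toD _ ((DCoh.restrictCx (f ⁻¹ᵁ V)).obj F))) := by
    rintro _ rfl
    refine K238.StalkD.torAmp_of_iso ((K238.StalkD.stalkOverD ((f ⁻¹ᵁ V).ι ≫ f) x).mapIso
      (Groth.Agent.Dcoh.LocalD.QRestrict (f ⁻¹ᵁ V).ι F)) ?_
    exact (K240.AmpLoc.amp_restrict_iff (f ⁻¹ᵁ V).ι f x m n (DCoh.toD X F)).2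
      ((K238.StalkD.hasTorAmplitude_iff f m n F).1 hF _)
  exact key _ (morphismRestrict_ι f V)

end Groth.Agent.S6241
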