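import Groth.Statements.S6247
import Groth.Agent.KSix.K241.SiteFlat

set_option autoImplicit false
universe u
open CategoryTheory CategoryTheory.Limits AlgebraicGeometry
attribute [local instance] HasDerivedCategory.standard
open KSix

namespace Groth.Agent.S6247

/-- One ringed site: let (C, J, O) be a small site with a sheaf of commutative rings O, let E be a
cochain complex of O-modules isomorphic in D(O) to a complex P of flat O-modules which vanishes
outside [m, n] (E has flat amplitude in [m, n]), and let F be a cochain complex of flat O-modules
which vanishes outside [m', n']. Then, the derived tensor product − ⊗^L_O F being assumed to exist,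
E ⊗^L_O F is isomorphic in D(O) to a complex of flat O-modules vanishing outside [m + m', n + n']:
flat amplitudes add, and in particular the derived tensor product of two objects of finite flat
amplitude has finite flat amplitude. (The published statement is for a morphism of ringed topoi f
from S' to S and the external derived tensor product of an object over S' with an object over S,
flatness meaning exactness of the tensor product functor; this row is the case S' = S with f the
identity, on the topos of sheaves on a small site, with the second factor given by its own flat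
model.) -/
theorem result {C : Type u} [SmallCategory C]
    {J : GrothendieckTopology C} (O : Sheaf J CommRingCat.{u}) (E P : CochainComplex (ModSite.Mod O) ℤ)
    (m n : ℤ) (hP : ∀ i : ℤ, ModSite.IsFlat (P.X i)) (hPb : ∀ i : ℤ, i < m ∨ n < i → IsZero (P.X i))
    (eP : DerivedCategory.Q.obj P ≅ DerivedCategory.Q.obj E) (F : CochainComplex (ModSite.Mod O) ℤ)
    (m' n' : ℤ) (hF : ∀ i : ℤ, ModSite.IsFlat (F.X i)) (hFb : ∀ i : ℤ, i < m' ∨ n' < i → IsZero (F.X i))
    [ModSite.HasLTensorCx F] :
    ∃ G : CochainComplex (ModSite.Mod O) ℤ, (∀ i : ℤ, ModSite.IsFlat (G.X i)) ∧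
      (∀ i : ℤ, i < m + m' ∨ n + n' < i → IsZero (G.X i)) ∧
      Nonempty (DerivedCategory.Q.obj G ≅ (ModSite.LTensorCx F).obj (DerivedCategory.Q.obj E)) := by
  have hPk : ModSite.IsKFlat P := Groth.Agent.S9058.result O P n
    ((CochainComplex.isStrictlyLE_iff P n).2 fun i hi => hPb i (Or.inr hi)) hP
  refine ⟨((ModSite.tensorCx O).obj P).obj F, fun i => K241.SiteFlat.isFlat_tensorCx_X P F hP hF i,
    fun i hi => K241.SiteFlat.isZero_tensorCx_X P F i (fun p q hpq => ?_), ⟨?_⟩⟩
  · by_cases hp : p < m ∨ n < p
    · exact Or.inl (hPb p hp)
    · exact Or.inr (hFb q (by omega))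
  · have h1 := K242.SiteBif.isIso_κS P F hPk
    exact (asIso (K242.SiteBif.κS P F)).symm ≪≫
      (K242.SiteBif.LTScx F).app (DerivedCategory.Q.obj P) ≪≫ (ModSite.LTensorCx F).mapIso eP

end Groth.Agent.S6247
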