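import Groth.Statements.S6248
import Groth.Agent.KSix.K241.ExactFree
import Groth.Agent.KSix.K242.Direct
import Groth.Agent.KSix.K240.RpushNoeth

set_option autoImplicit false
universe u
open CategoryTheory CategoryTheory.Limits AlgebraicGeometry
attribute [local instance] HasDerivedCategory.standard
open KSix

namespace Groth.Agent.S6248

open Groth.Agent.PerfB.FibreDim Groth.Agent.PerfB.MinModel Groth.Agent.PerfB.Betti in
theorem betti_iso {X : Scheme.{u}} [∀ x : X, DCoh.HasLpull (X.fromSpecResidueField x)]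
    {E E' : DCoh.D X} (e : E ≅ E') (x : X) (i : ℤ) : PerfD.betti E x i = PerfD.betti E' x i :=
  ((Γf (Spec (X.residueField x))).mapIso
    ((DerivedCategory.homologyFunctor (Spec (X.residueField x)).Modules i).mapIso
      ((DCoh.Lpull (X.fromSpecResidueField x)).mapIso e))).toLinearEquiv.finrank_eq

/-- Let Y be a Noetherian scheme, f : X ⟶ Y a proper morphism, p an integer, and E ∈ D^b(O_X), given by
a cochain complex F, perfect relative to f (pseudo-coherent relative to f in chart form and locally
on X of finite stalkwise tor amplitude over the local rings of Y). The derived functors Lf^*, − ⊗^L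
F and Rf_* and the derived pullbacks to the points Spec κ(y) ⟶ Y being assumed to exist: if the
functor M ↦ R^p f_*(Lf^* M ⊗^L F) is exact on the full subcategory of quasi-coherent O_Y-modules
(preserves finite limits and finite colimits there), then R^p f_*(E) = H^p(Rf_* E) is a finite
locally free O_Y-module and the function y ↦ dim_{κ(y)} H^p(Rf_* E ⊗^L κ(y)) is locally constant on
Y. (The published statement is for a proper morphism of quasi-compact schemes with Y
quasi-separated, under the finiteness property for proper pseudo-coherent direct images, which holds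
over a Noetherian base; it writes the functor as M ↦ R^p f_*(E ⊗_Y^L M) with E ⊗_Y^L M = E ⊗^L Lf^*
M, and this row takes the derived tensor product with F as the fixed right-hand factor.) -/
theorem result {X Y : Scheme.{u}} [IsNoetherian Y]
    (f : X ⟶ Y) [IsProper f] (F : CochainComplex X.Modules ℤ) (a b : ℤ) [(DCoh.toD X F).IsGE a]
    [(DCoh.toD X F).IsLE b] (hF : DerSch.IsPerfectRel f F) (p : ℤ) [DCoh.HasLpull f]
    [DCoh.HasLTensorCx F] [DCoh.HasRpush f]
    [PreservesFiniteLimits ((QCohCat.isQCoh Y).ι ⋙ DerivedCategory.singleFunctor Y.Modules 0 ⋙ DCoh.Lpull f ⋙ DCoh.LTensorCx F ⋙ DCoh.Rpush f ⋙ DerivedCategory.homologyFunctor Y.Modules p)]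
    [PreservesFiniteColimits ((QCohCat.isQCoh Y).ι ⋙ DerivedCategory.singleFunctor Y.Modules 0 ⋙ DCoh.Lpull f ⋙ DCoh.LTensorCx F ⋙ DCoh.Rpush f ⋙ DerivedCategory.homologyFunctor Y.Modules p)]
    [∀ y : Y, DCoh.HasLpull (Y.fromSpecResidueField y)] :
    FlatMod.IsFinLocFree (DCoh.HD ((DCoh.Rpush f).obj (DCoh.toD X F)) p) ∧
      IsLocallyConstant (fun y : Y => PerfD.betti ((DCoh.Rpush f).obj (DCoh.toD X F)) y p) := by
  have hpc : ∀ m : ℤ, DCoh.IsPseudoCoherentD m (DCoh.toD X F) :=
    (K240.RelNoeth.isPseudoCoherentRelAll_iff_of_noetherian (f := f) (DCoh.toD X F)).1 hF.1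
  have hq : DCoh.IsQCohD (DCoh.toD X F) := by
    exact Groth.Agent.PerfA.PCohQCoh.isQCohD_of_isPseudoCoherentD hpc
  obtain ⟨G, e, hG, h1, h2⟩ := K242.Direct.exists_rep_direct f F hq p
  have h1' : PreservesFiniteLimits ((QCohCat.isQCoh Y).ι ⋙ K241.ExactT.T (DCoh.LTensorCx G) p) := h1
  have h2' : PreservesFiniteColimits ((QCohCat.isQCoh Y).ι ⋙ K241.ExactT.T (DCoh.LTensorCx G) p) := h2
  have hE := K240.RpushNoeth.isPseudoCoherentD_Rpush f (DCoh.toD X F) a hpc (p - 1)
  have h3 := K241.ExactFree.conclusion G p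
    (Groth.Agent.Dcoh.LocalD.isPseudoCoherentD_of_iso e.symm hE)
    (fun x => K241.ExactFree.nonempty_testSeq_qcoh G p x)
  refine ⟨Groth.Agent.Dcoh.LocalD.isFinLocFree_of_iso
    ((DerivedCategory.homologyFunctor _ p).mapIso e) h3.1, ?_⟩
  have h4 : (fun y : Y => PerfD.betti ((DCoh.Rpush f).obj (DCoh.toD X F)) y p) =
      fun y : Y => PerfD.betti (DCoh.toD Y G) y p := funext fun y => betti_iso e.symm y p
  rw [h4]
  exact h3.2

end Groth.Agent.S6248
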