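import Groth.Statements.S6263
import Groth.Agent.Ega4A.FlatDim

set_option autoImplicit false
universe u
open CAlg

namespace Groth.Agent.S6263

/-- For a ring map R → S and a finite S-module N which is flat as an R-module, generalizations lift
along the map from the support of N (a subset of Spec S) to Spec R: if p ≤ p' are primes of R and q'
is a prime of S in the support of N whose inverse image in R is p', then some prime q ≤ q' of S lies
in the support of N and has inverse image p. -/
theorem result {R S : Type u} [CommRing R] [CommRing S] [Algebra R S] (N : Type u) [AddCommGroup N] [Module S N] [Module R N] [IsScalarTower R S N] [Module.Finite S N] [Module.Flat R N] (p p' : Ideal R) [p.IsPrime] [p'.IsPrime] (hle : p ≤ p') (q' : PrimeSpectrum S) (hq' : q' ∈ Module.support S N) (hover : q'.asIdeal.under R = p') : ∃ q : PrimeSpectrum S, q ≤ q' ∧ q ∈ Module.support S N ∧ q.asIdeal.under R = p := by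
  rw [Module.support_eq_zeroLocus] at hq'
  obtain ⟨P, hPQ, hP, hPp, hann⟩ := Groth.Agent.Ega4A.FlatDim.exists_le_liesOver_of_flat N p q'.asIdeal hq' (hle.trans hover.ge)
  refine ⟨⟨P, hP⟩, hPQ, ?_, hPp⟩
  rw [Module.support_eq_zeroLocus]
  exact hann

end Groth.Agent.S6263
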