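import Groth.Statements.S6264

set_option autoImplicit false
universe u
open CAlg

namespace Groth.Agent.S6264

/-- all primes of `S` over primes below `p` lie in `q` -/
theorem isLoc_of_forall {R S : Type u} [CommRing R] [CommRing S] [Algebra R S] (p : Ideal R) [p.IsPrime] (q : Ideal S) [q.IsPrime] [q.LiesOver p]
    (H : ∀ Q : Ideal S, Q.IsPrime → Q.under R ≤ p → Q ≤ q) :
    IsLocalization.AtPrime (Localization (Algebra.algebraMapSubmonoid S p.primeCompl)) q := by
  refine IsLocalization.of_le (Algebra.algebraMapSubmonoid S p.primeCompl) q.primeCompl ?_ ?_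
  · rintro _ ⟨x, hx, rfl⟩
    intro hxq
    apply hx
    rw [Ideal.over_def q p]
    exact hxq
  · intro r hr
    by_contra hu
    obtain ⟨m, hm, hrm⟩ := exists_max_ideal_of_mem_nonunits hu
    have := hm.isPrime
    apply hr
    refine H (m.under S) inferInstance ?_ hrm
    intro x hx
    by_contra hxp
    have h1 : IsUnit (algebraMap S (Localization (Algebra.algebraMapSubmonoid S p.primeCompl)) (algebraMap R S x)) :=
      IsLocalization.map_units _ (⟨algebraMap R S x, ⟨x, hxp, rfl⟩⟩ : Algebra.algebraMapSubmonoid S p.primeCompl)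
    exact hm.ne_top (Ideal.eq_top_of_isUnit_mem _ hx h1)

/-- Let R → S be a ring map with the going-up property and p a prime of R such that exactly one prime q
of S lies over p. Then the localization S_p of S at the image of R - p is a localization of S at q,
i.e. S_p = S_q. -/
theorem result {R S : Type u} [CommRing R] [CommRing S] [Algebra R S] [Algebra.HasGoingUp R S] (p : Ideal R) [p.IsPrime] (q : Ideal S) [q.IsPrime] [q.LiesOver p] (huniq : ∀ q' : Ideal S, q'.IsPrime → q'.under R = p → q' = q) : IsLocalization.AtPrime (Localization (Algebra.algebraMapSubmonoid S p.primeCompl)) q := by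
  refine isLoc_of_forall p q fun Q hQ hQp => ?_
  have : Q.LiesOver (Q.under R) := ⟨rfl⟩
  obtain ⟨Q', hQQ', hQ', hover⟩ := Ideal.exists_ideal_ge_liesOver_of_le Q hQp
  exact hQQ'.trans (huniq Q' hQ' hover.over.symm).le

end Groth.Agent.S6264
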