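import Groth.Statements.S6266
import Mathlib.RingTheory.Etale.Weakly
import Mathlib.RingTheory.TotallySplit
import Groth.Agent.Grpsch.FlatIdealFP
import Groth.Agent.Ega3A.FiberRank

set_option autoImplicit false
universe u
open scoped TensorProduct
open CAlg

namespace Groth.Agent.S6266

/-- Let R be a reduced ring and M an R-module. Then M is a finite projective R-module if and only if M
is finitely generated and the function on Spec R sending a prime p to the dimension of κ(p) ⊗ M over
the residue field κ(p) is locally constant for the Zariski topology. -/
theorem result (R : Type u) [CommRing R] [IsReduced R] (M : Type u) [AddCommGroup M] [Module R M] : (Module.Finite R M ∧ Module.Projective R M) ↔ (Module.Finite R M ∧ IsLocallyConstant (fun p : PrimeSpectrum R => Module.finrank p.asIdeal.ResidueField (p.asIdeal.ResidueField ⊗[R] M))) := by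
  constructor
  · rintro ⟨h1, h2⟩
    have := Module.finitePresentation_of_projective R M
    exact ⟨h1, Groth.Agent.Ega3A.FiberRank.isLocallyConstant_fiberRank⟩
  · rintro ⟨h1, h2⟩
    refine ⟨h1, ?_⟩
    have hflat : Module.Flat R M := by
      apply Module.flat_of_localized_maximal
      intro P hP
      have : Module.Free (Localization.AtPrime P) (Localization.AtPrime P ⊗[R] M) := by
        apply Groth.Agent.Ega3A.FiberRank.free_of_reduced_local
        intro q _
        rw [Groth.Agent.Ega3A.FiberRank.fiberRank_baseChange, Groth.Agent.Ega3A.FiberRank.fiberRank_baseChange]
        apply Groth.Agent.Ega3A.FiberRank.eq_of_isLocallyConstant_of_le h2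
        exact Ideal.comap_mono (f := algebraMap R (Localization.AtPrime P))
          (IsLocalRing.le_maximalIdeal q.2.ne_top)
      have h3 : Module.Flat R (Localization.AtPrime P ⊗[R] M) := Module.Flat.trans R (Localization.AtPrime P) _
      exact Module.Flat.of_linearEquiv ((IsLocalizedModule.isBaseChange P.primeCompl (Localization.AtPrime P) (LocalizedModule.mkLinearMap P.primeCompl M)).equiv.symm.restrictScalars R)
    have hfp : Module.FinitePresentation R M := Groth.Agent.Grpsch.FlatIdeal.finitePresentation_of_flat h2
    exact Groth.Agent.Ega3A.FiberRank.projective_of_isReduced h2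

end Groth.Agent.S6266
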