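import Groth.Statements.S6267
import Mathlib.RingTheory.Flat.Equalizer
import Mathlib.RingTheory.Flat.Tensor

set_option autoImplicit false
universe u
open CAlg

namespace Groth.Agent.S6267

theorem chase {R : Type u} [CommRing R] {M₁ M₂ M₃ : Type u} [AddCommGroup M₁] [Module R M₁] [AddCommGroup M₂] [Module R M₂] [AddCommGroup M₃] [Module R M₃] (f : M₁ →ₗ[R] M₂) (g : M₂ →ₗ[R] M₃) (hexact : Function.Exact f g) (hg : Function.Surjective g) [Module.Flat R M₂] {N N' N'' : Type u} [AddCommGroup N] [Module R N] [AddCommGroup N'] [Module R N'] [AddCommGroup N''] [Module R N''] (h : N →ₗ[R] N') (q : N' →ₗ[R] N'') (hexact' : Function.Exact h q) (hq : Function.Surjective q) (hh : Function.Injective h) (hf : Function.Injective (f.rTensor N'')) : Function.Injective (h.lTensor M₃) := by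
  rw [injective_iff_map_eq_zero]
  intro x hx
  obtain ⟨y, rfl⟩ := LinearMap.rTensor_surjective N hg x
  -- `y ∈ M₂ ⊗ N`, its image in `M₃ ⊗ N'` is zero
  have h1 : g.rTensor N' (h.lTensor M₂ y) = 0 := by
    rw [← hx, ← LinearMap.comp_apply, ← LinearMap.comp_apply, LinearMap.lTensor_comp_rTensor, LinearMap.rTensor_comp_lTensor]
  obtain ⟨z, hz⟩ := (rTensor_exact N' hexact hg (h.lTensor M₂ y)).1 h1
  have hqh : q ∘ₗ h = 0 := by
    ext n; exact hexact'.apply_apply_eq_zero n
  have h2 : f.rTensor _ (q.lTensor M₁ z) = 0 := by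
    rw [← LinearMap.comp_apply, LinearMap.rTensor_comp_lTensor, ← LinearMap.lTensor_comp_rTensor, LinearMap.comp_apply, hz,
      ← LinearMap.comp_apply, ← LinearMap.lTensor_comp]
    rw [hqh, LinearMap.lTensor_zero, LinearMap.zero_apply]
  have h3 : q.lTensor M₁ z = 0 := hf (by rw [h2, map_zero])
  obtain ⟨w, rfl⟩ := (lTensor_exact M₁ hexact' hq z).1 h3
  have h4 : y = f.rTensor N w := by
    apply Module.Flat.lTensor_preserves_injective_linearMap (M := M₂) h hh
    rw [← hz, ← LinearMap.comp_apply, ← LinearMap.comp_apply, LinearMap.lTensor_comp_rTensor, LinearMap.rTensor_comp_lTensor]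
  rw [h4]
  exact (rTensor_exact N hexact hg _).2 ⟨w, rfl⟩

/-- Let R be a ring and f : M → M' a map of R-modules with M' flat. Then f is universally injective
exactly when, for each finitely generated ideal I of R, the induced map M ⊗ R/I → M' ⊗ R/I (that is,
M/IM → M'/IM') is injective. -/
theorem result {R : Type u} [CommRing R] {M M' : Type u} [AddCommGroup M] [Module R M] [AddCommGroup M'] [Module R M'] [Module.Flat R M'] (f : M →ₗ[R] M') : CAlgX.UniversallyInjective R f ↔ ∀ I : Ideal R, I.FG → Function.Injective (f.rTensor (R ⧸ I)) := by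
  refine ⟨fun h I _ => h (R ⧸ I), fun h => ?_⟩
  have hinj : Function.Injective f := by
    have h0 := h ⊥ Submodule.fg_bot
    let e : (R ⧸ (⊥ : Ideal R)) ≃ₗ[R] R := Submodule.quotEquivOfEqBot ⊥ rfl
    intro x y hxy
    have h1 : f.rTensor (R ⧸ (⊥ : Ideal R)) (x ⊗ₜ e.symm 1) = f.rTensor (R ⧸ (⊥ : Ideal R)) (y ⊗ₜ e.symm 1) := by
      simp [hxy]
    have h2 := h0 h1
    have h3 := congrArg (fun t => TensorProduct.rid R M (e.toLinearMap.lTensor M t)) h2
    simpa using h3
  have hexact : Function.Exact f (LinearMap.range f).mkQ := LinearMap.exact_map_mkQ_range f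
  -- the quotient is flat
  have hflat : Module.Flat R (M' ⧸ LinearMap.range f) := by
    rw [Module.Flat.iff_rTensor_injective]
    intro I hI
    rw [← LinearMap.lTensor_inj_iff_rTensor_inj]
    refine chase f (LinearMap.range f).mkQ hexact (Submodule.mkQ_surjective _) I.subtype I.mkQ ?_ (Submodule.mkQ_surjective _) (Submodule.subtype_injective _) (h I hI)
    exact LinearMap.exact_subtype_mkQ I
  intro Q _ _
  rw [← LinearMap.lTensor_inj_iff_rTensor_inj]
  exact LinearMap.lTensor_injective_of_exact_of_flat (LinearMap.range f).mkQ (Submodule.mkQ_surjective _) f hinj hexact Q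

end Groth.Agent.S6267
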