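import Groth.Statements.S6268

set_option autoImplicit false
universe u
open CAlg

namespace Groth.Agent.S6268

open scoped TensorProduct


/-- Suppose the structure map R → S of an R-algebra S is universally injective as an R-linear map. Then
tensoring with S detects injectivity and surjectivity of R-linear maps (and hence reflects
isomorphisms): for an R-linear g : M → N, if S ⊗ g is injective then so is g, and if S ⊗ g is
surjective then so is g. -/
theorem result {R S : Type u} [CommRing R] [CommRing S] [Algebra R S] (hS : CAlgX.UniversallyInjective R (Algebra.linearMap R S)) {M N : Type u} [AddCommGroup M] [Module R M] [AddCommGroup N] [Module R N] (g : M →ₗ[R] N) : (Function.Injective (g.lTensor S) → Function.Injective g) ∧ (Function.Surjective (g.lTensor S) → Function.Surjective g) := by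
  have h1 : ∀ (Q : Type u) [AddCommGroup Q] [Module R Q], Function.Injective (TensorProduct.mk R S Q 1) := by
    intro Q _ _
    have := hS Q
    have h2 : ∀ q, TensorProduct.mk R S Q 1 q = (Algebra.linearMap R S).rTensor Q ((TensorProduct.lid R Q).symm q) := by
      intro q; simp
    intro x y hxy
    rw [h2, h2] at hxy
    exact (TensorProduct.lid R Q).symm.injective (this hxy)
  constructor
  · intro hinj x y hxy
    apply h1 M
    apply hinj
    simp [hxy]
  · intro hsurj
    have h2 : Subsingleton (S ⊗[R] (N ⧸ LinearMap.range g)) := by
      refine ⟨fun a b => ?_⟩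
      have h3 : ∀ a : S ⊗[R] (N ⧸ LinearMap.range g), a = 0 := by
        intro a
        obtain ⟨b, rfl⟩ := LinearMap.lTensor_surjective S (Submodule.mkQ_surjective (LinearMap.range g)) a
        obtain ⟨c, rfl⟩ := hsurj b
        rw [← LinearMap.comp_apply, ← LinearMap.lTensor_comp]
        have : (LinearMap.range g).mkQ ∘ₗ g = 0 := LinearMap.range_mkQ_comp g
        rw [this, LinearMap.lTensor_zero, LinearMap.zero_apply]
      rw [h3 a, h3 b]
    have h3 : Subsingleton (N ⧸ LinearMap.range g) := (h1 (N ⧸ LinearMap.range g)).subsingleton
    rw [Submodule.Quotient.subsingleton_iff] at h3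
    exact LinearMap.range_eq_top.1 h3

end Groth.Agent.S6268
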