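import Groth.Statements.S6269

set_option autoImplicit false
universe u
open CAlg

namespace Groth.Agent.S6269

/-- Let 0 → M₁ → M₂ → M₃ → 0 be a universally exact sequence of R-modules (a short exact sequence whose
first map is universally injective) with M₂ flat. Then M₁ and M₃ are flat. -/
theorem result {R : Type u} [CommRing R] {M₁ M₂ M₃ : Type u} [AddCommGroup M₁] [Module R M₁] [AddCommGroup M₂] [Module R M₂] [AddCommGroup M₃] [Module R M₃] (f : M₁ →ₗ[R] M₂) (g : M₂ →ₗ[R] M₃) (hexact : Function.Exact f g) (hg : Function.Surjective g) (hf : CAlgX.UniversallyInjective R f) [Module.Flat R M₂] : Module.Flat R M₁ ∧ Module.Flat R M₃ := by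
  constructor
  · rw [Module.Flat.iff_lTensor_preserves_injective_linearMap]
    intro N N' _ _ _ _ h hh
    -- `M₁ ⊗ N → M₂ ⊗ N → M₂ ⊗ N'` injective
    have h1 : Function.Injective ((h.lTensor M₂) ∘ₗ (f.rTensor N)) :=
      (Module.Flat.lTensor_preserves_injective_linearMap h hh).comp (hf N)
    have h2 : (h.lTensor M₂) ∘ₗ (f.rTensor N) = (f.rTensor N') ∘ₗ (h.lTensor M₁) := by
      rw [LinearMap.lTensor_comp_rTensor, LinearMap.rTensor_comp_lTensor]
    rw [h2, LinearMap.coe_comp] at h1
    exact h1.of_comp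
  · rw [Module.Flat.iff_lTensor_preserves_injective_linearMap]
    intro N N' _ _ _ _ h hh
    rw [injective_iff_map_eq_zero]
    intro x hx
    obtain ⟨y, rfl⟩ := LinearMap.rTensor_surjective N hg x
    -- `y ∈ M₂ ⊗ N`, its image in `M₃ ⊗ N'` is zero
    have h1 : g.rTensor N' (h.lTensor M₂ y) = 0 := by
      rw [← hx, ← LinearMap.comp_apply, ← LinearMap.comp_apply, LinearMap.lTensor_comp_rTensor, LinearMap.rTensor_comp_lTensor]
    obtain ⟨z, hz⟩ := (rTensor_exact N' hexact hg (h.lTensor M₂ y)).1 h1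
    -- `z ∈ M₁ ⊗ N'`; its image in `M₁ ⊗ N'/N` vanishes
    let q := (LinearMap.range h).mkQ
    have h2 : f.rTensor _ (q.lTensor M₁ z) = 0 := by
      rw [← LinearMap.comp_apply, LinearMap.rTensor_comp_lTensor, ← LinearMap.lTensor_comp_rTensor, LinearMap.comp_apply, hz,
        ← LinearMap.comp_apply, ← LinearMap.lTensor_comp]
      have : q ∘ₗ h = 0 := LinearMap.range_mkQ_comp h
      rw [this, LinearMap.lTensor_zero, LinearMap.zero_apply]
    have h3 : q.lTensor M₁ z = 0 := (hf _) (by rw [h2, map_zero])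
    have hexact' : Function.Exact h q := LinearMap.exact_map_mkQ_range h
    obtain ⟨w, rfl⟩ := (lTensor_exact M₁ hexact' (Submodule.mkQ_surjective _) z).1 h3
    have h4 : y = f.rTensor N w := by
      apply Module.Flat.lTensor_preserves_injective_linearMap (M := M₂) h hh
      rw [← hz, ← LinearMap.comp_apply, ← LinearMap.comp_apply, LinearMap.lTensor_comp_rTensor, LinearMap.rTensor_comp_lTensor]
    rw [h4]
    exact (rTensor_exact N hexact hg _).2 ⟨w, rfl⟩

end Groth.Agent.S6269
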