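import Groth.Statements.S6272
import Mathlib.Algebra.Module.StablyFree.Basic
import Mathlib.RingTheory.TotallySplit

set_option autoImplicit false
universe u
open scoped TensorProduct
open CAlg

namespace Groth.Agent.S6272

theorem liftAgainst {R : Type u} [CommRing R] (I : Ideal R) (P : Type u) [AddCommGroup P] [Module R P] (hI : Module.Projective (R ⧸ I) ((R ⧸ I) ⊗[R] P))
    {X Y : Type u} [AddCommGroup X] [Module R X] [AddCommGroup Y] [Module R Y] (hX : ∀ i ∈ I, ∀ x : X, i • x = 0) (g : X →ₗ[R] Y) (hg : Function.Surjective g) (φ : P →ₗ[R] Y) :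
    ∃ ψ : P →ₗ[R] X, ∀ p, g (ψ p) = φ p := by
  have hY : ∀ i ∈ I, ∀ y : Y, i • y = 0 := by
    intro i hi y
    obtain ⟨x, rfl⟩ := hg y
    rw [← map_smul, hX i hi, map_zero]
  have hX' : Module.IsTorsionBySet R X (I : Set R) := fun x i => hX i i.2 x
  have hY' : Module.IsTorsionBySet R Y (I : Set R) := fun y i => hY i i.2 y
  let _ : Module (R ⧸ I) X := hX'.module
  let _ : Module (R ⧸ I) Y := hY'.module
  have : IsScalarTower R (R ⧸ I) X := hX'.isScalarTower
  have : IsScalarTower R (R ⧸ I) Y := hY'.isScalarTower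
  let g' : X →ₗ[R ⧸ I] Y := { g with
    map_smul' := by
      intro r x
      obtain ⟨r, rfl⟩ := Ideal.Quotient.mk_surjective r
      exact g.map_smul r x }
  let φ' : (R ⧸ I) ⊗[R] P →ₗ[R ⧸ I] Y := TensorProduct.AlgebraTensorModule.lift (LinearMap.toSpanSingleton (R ⧸ I) _ φ)
  obtain ⟨ψ', hψ'⟩ := Module.projective_lifting_property g' φ' hg
  refine ⟨(ψ'.restrictScalars R) ∘ₗ (TensorProduct.mk R (R ⧸ I) P 1), ?_⟩
  intro x
  have := DFunLike.congr_fun hψ' (1 ⊗ₜ x)
  have h2 : φ' (1 ⊗ₜ x) = φ x := by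
    simp [φ']
  rw [← h2, ← this]
  rfl

/-- Over a ring R, take two ideals I and J meeting in zero (I ∩ J = 0) and an R-module P. If the
R/I-module P/IP (that is, R/I ⊗ P) and the R/J-module P/JP (that is, R/J ⊗ P) are both projective,
then P itself is projective over R. -/
theorem result {R : Type u} [CommRing R] (I J : Ideal R) (hIJ : I ⊓ J = ⊥) (P : Type u) [AddCommGroup P] [Module R P] (hI : Module.Projective (R ⧸ I) ((R ⧸ I) ⊗[R] P)) (hJ : Module.Projective (R ⧸ J) ((R ⧸ J) ⊗[R] P)) : Module.Projective R P := by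
  let F := P →₀ R
  let π : F →ₗ[R] P := Finsupp.linearCombination R id
  have hπ : Function.Surjective π := Finsupp.linearCombination_id_surjective R P
  have hmap : ∀ K : Ideal R, (K • (⊤ : Submodule R F)) ≤ (K • (⊤ : Submodule R P)).comap π := by
    intro K
    rw [← Submodule.map_le_iff_le_comap, Submodule.map_smul'']
    exact Submodule.smul_mono le_rfl le_top
  have hmap' : ∀ K : Ideal R, ∀ y ∈ (K • (⊤ : Submodule R P)), ∃ x ∈ (K • (⊤ : Submodule R F)), π x = y := by
    intro K y hy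
    have : (K • (⊤ : Submodule R P)) = (K • (⊤ : Submodule R F)).map π := by
      rw [Submodule.map_smul'', Submodule.map_top, LinearMap.range_eq_top.2 hπ]
    rw [this] at hy
    exact hy
  let πI : (F ⧸ (I • ⊤ : Submodule R F)) →ₗ[R] (P ⧸ (I • ⊤ : Submodule R P)) := Submodule.mapQ _ _ π (hmap I)
  let πJ : (F ⧸ (J • ⊤ : Submodule R F)) →ₗ[R] (P ⧸ (J • ⊤ : Submodule R P)) := Submodule.mapQ _ _ π (hmap J)
  let πA : (F ⧸ ((I ⊔ J) • ⊤ : Submodule R F)) →ₗ[R] (P ⧸ ((I ⊔ J) • ⊤ : Submodule R P)) := Submodule.mapQ _ _ π (hmap (I ⊔ J))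
  have hle : ∀ {M : Type u} [AddCommGroup M] [Module R M] (K L : Ideal R), K ≤ L → (K • (⊤ : Submodule R M)) ≤ L • ⊤ :=
    fun K L h => Submodule.smul_mono_left h
  let qI : (F ⧸ (I • ⊤ : Submodule R F)) →ₗ[R] (F ⧸ ((I ⊔ J) • ⊤ : Submodule R F)) := Submodule.factor (hle I (I ⊔ J) le_sup_left)
  let qJ : (F ⧸ (J • ⊤ : Submodule R F)) →ₗ[R] (F ⧸ ((I ⊔ J) • ⊤ : Submodule R F)) := Submodule.factor (hle J (I ⊔ J) le_sup_right)
  let rI : (P ⧸ (I • ⊤ : Submodule R P)) →ₗ[R] (P ⧸ ((I ⊔ J) • ⊤ : Submodule R P)) := Submodule.factor (hle I (I ⊔ J) le_sup_left)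
  let rJ : (P ⧸ (J • ⊤ : Submodule R P)) →ₗ[R] (P ⧸ ((I ⊔ J) • ⊤ : Submodule R P)) := Submodule.factor (hle J (I ⊔ J) le_sup_right)
  have hsplit : ∀ {M : Type u} [AddCommGroup M] [Module R M] (x : M), x ∈ ((I ⊔ J) • (⊤ : Submodule R M)) → ∃ a ∈ (I • (⊤ : Submodule R M)), ∃ b ∈ (J • (⊤ : Submodule R M)), a + b = x := by
    intro M _ _ x hx
    rw [Submodule.sup_smul] at hx
    exact Submodule.mem_sup.1 hx
  have hkill : ∀ {M : Type u} [AddCommGroup M] [Module R M] (K : Ideal R), ∀ i ∈ K, ∀ x : M ⧸ (K • ⊤ : Submodule R M), i • x = 0 := by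
    intro M _ _ K i hi x
    obtain ⟨x, rfl⟩ := Submodule.mkQ_surjective _ x
    rw [← map_smul, Submodule.mkQ_apply, Submodule.Quotient.mk_eq_zero]
    exact Submodule.smul_mem_smul hi trivial
  -- the first section
  have hπI : Function.Surjective πI := by
    intro y
    obtain ⟨y, rfl⟩ := Submodule.mkQ_surjective _ y
    obtain ⟨x, rfl⟩ := hπ y
    exact ⟨Submodule.mkQ _ x, rfl⟩
  obtain ⟨sI, hsI⟩ := liftAgainst I P hI (hkill I) πI hπI (Submodule.mkQ _)
  -- the second section, compatible with the first one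
  let Y : Submodule R ((P ⧸ (J • ⊤ : Submodule R P)) × (F ⧸ ((I ⊔ J) • ⊤ : Submodule R F))) :=
    LinearMap.eqLocus (rJ ∘ₗ LinearMap.fst R _ _) (πA ∘ₗ LinearMap.snd R _ _)
  have hmemY : ∀ y z, (y, z) ∈ Y ↔ rJ y = πA z := fun y z => Iff.rfl
  let g : (F ⧸ (J • ⊤ : Submodule R F)) →ₗ[R] Y := (πJ.prod qJ).codRestrict Y (by
    intro x
    obtain ⟨x, rfl⟩ := Submodule.mkQ_surjective _ x
    rfl)
  have hg : Function.Surjective g := by
    rintro ⟨⟨y, z⟩, hyz⟩
    rw [hmemY] at hyz
    obtain ⟨p, rfl⟩ := Submodule.mkQ_surjective _ y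
    obtain ⟨f, rfl⟩ := Submodule.mkQ_surjective _ z
    have h1 : π f - p ∈ ((I ⊔ J) • (⊤ : Submodule R P)) := by
      rw [← Submodule.Quotient.eq]
      exact hyz.symm
    obtain ⟨a, ha, b, hb, hab⟩ := hsplit _ h1
    obtain ⟨a', ha', rfl⟩ := hmap' I a ha
    refine ⟨Submodule.mkQ _ (f - a'), ?_⟩
    apply Subtype.ext
    refine Prod.ext ?_ ?_
    · change Submodule.Quotient.mk (π (f - a')) = Submodule.Quotient.mk p
      rw [Submodule.Quotient.eq, map_sub]
      have : π f - π a' - p = b := by rw [sub_right_comm, ← hab]; abel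
      rw [this]
      exact hb
    · change Submodule.Quotient.mk (f - a') = Submodule.Quotient.mk f
      rw [Submodule.Quotient.eq]
      have : f - a' - f = - a' := by abel
      rw [this]
      exact Submodule.neg_mem _ (hle I _ le_sup_left ha')
  let φ : P →ₗ[R] Y := ((Submodule.mkQ _).prod (qI ∘ₗ sI)).codRestrict Y (by
    intro p
    change rJ (Submodule.mkQ _ p) = πA (qI (sI p))
    have h1 : ∀ u, πA (qI u) = rI (πI u) := by
      intro u
      obtain ⟨u, rfl⟩ := Submodule.mkQ_surjective _ u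
      rfl
    rw [h1, hsI]
    rfl)
  obtain ⟨sJ, hsJ⟩ := liftAgainst J P hJ (hkill J) g hg φ
  have hsJ1 : ∀ p, πJ (sJ p) = Submodule.mkQ _ p := fun p => congrArg (fun t : Y => t.1.1) (hsJ p)
  have hsJ2 : ∀ p, qJ (sJ p) = qI (sI p) := fun p => congrArg (fun t : Y => t.1.2) (hsJ p)
  -- gluing
  have hcoord : ∀ K : Ideal R, ∀ x ∈ (K • (⊤ : Submodule R F)), ∀ p, x p ∈ K := by
    intro K x hx p
    induction hx using Submodule.smul_induction_on' with
    | smul r hr n hn => exact K.mul_mem_right _ hr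
    | add x hx y hy h1 h2 => exact K.add_mem h1 h2
  let T : F →ₗ[R] (F ⧸ (I • ⊤ : Submodule R F)) × (F ⧸ (J • ⊤ : Submodule R F)) := (Submodule.mkQ _).prod (Submodule.mkQ _)
  have hT : Function.Injective T := by
    rw [injective_iff_map_eq_zero]
    intro x hx
    have h1 : x ∈ (I • (⊤ : Submodule R F)) := (Submodule.Quotient.mk_eq_zero _).1 (congrArg Prod.fst hx)
    have h2 : x ∈ (J • (⊤ : Submodule R F)) := (Submodule.Quotient.mk_eq_zero _).1 (congrArg Prod.snd hx)
    ext p
    have : x p ∈ I ⊓ J := ⟨hcoord I x h1 p, hcoord J x h2 p⟩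
    rw [hIJ] at this
    exact this
  have hrange : ∀ u v, qI u = qJ v → (u, v) ∈ LinearMap.range T := by
    intro u v huv
    obtain ⟨f, rfl⟩ := Submodule.mkQ_surjective _ u
    obtain ⟨f', rfl⟩ := Submodule.mkQ_surjective _ v
    have h1 : f - f' ∈ ((I ⊔ J) • (⊤ : Submodule R F)) := (Submodule.Quotient.eq _).1 huv
    obtain ⟨a, ha, b, hb, hab⟩ := hsplit _ h1
    refine ⟨f - a, ?_⟩
    refine Prod.ext ?_ ?_
    · change Submodule.Quotient.mk (f - a) = Submodule.Quotient.mk f
      rw [Submodule.Quotient.eq]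
      have : f - a - f = - a := by abel
      rw [this]
      exact Submodule.neg_mem _ ha
    · change Submodule.Quotient.mk (f - a) = Submodule.Quotient.mk f'
      rw [Submodule.Quotient.eq]
      have : f - a - f' = b := by rw [sub_right_comm, ← hab]; abel
      rw [this]
      exact hb
  let s : P →ₗ[R] F := (LinearEquiv.ofInjective T hT).symm.toLinearMap ∘ₗ (sI.prod sJ).codRestrict (LinearMap.range T)
    (fun p => hrange _ _ (hsJ2 p).symm)
  have hs : ∀ p, T (s p) = (sI p, sJ p) := by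
    intro p
    have := (LinearEquiv.ofInjective T hT).apply_symm_apply ((sI.prod sJ).codRestrict (LinearMap.range T)
      (fun p => hrange _ _ (hsJ2 p).symm) p)
    exact congrArg Subtype.val this
  let ε : P →ₗ[R] P := π ∘ₗ s - LinearMap.id
  have hεI : ∀ p, ε p ∈ (I • (⊤ : Submodule R P)) := by
    intro p
    change π (s p) - p ∈ _
    rw [← Submodule.Quotient.eq]
    have h1 : Submodule.mkQ _ (s p) = sI p := congrArg Prod.fst (hs p)
    have h2 := hsI p
    rw [← h1] at h2
    exact h2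
  have hεJ : ∀ p, ε p ∈ (J • (⊤ : Submodule R P)) := by
    intro p
    change π (s p) - p ∈ _
    rw [← Submodule.Quotient.eq]
    have h1 : Submodule.mkQ _ (s p) = sJ p := congrArg Prod.snd (hs p)
    have h2 := hsJ1 p
    rw [← h1] at h2
    exact h2
  have hε2 : ∀ y ∈ (I • (⊤ : Submodule R P)), ε y = 0 := by
    intro y hy
    induction hy using Submodule.smul_induction_on' with
    | smul i hi p hp =>
      rw [map_smul]
      have h1 : ∀ z ∈ (J • (⊤ : Submodule R P)), i • z = 0 := by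
        intro z hz
        induction hz using Submodule.smul_induction_on' with
        | smul j hj q hq =>
          have : i * j ∈ I ⊓ J := ⟨I.mul_mem_right _ hi, J.mul_mem_left _ hj⟩
          rw [hIJ] at this
          rw [smul_smul, (this : i * j = 0), zero_smul]
        | add x hx y hy h1 h2 => rw [smul_add, h1, h2, add_zero]
      exact h1 _ (hεJ p)
    | add x hx y hy h1 h2 => rw [map_add, h1, h2, add_zero]
  refine Module.Projective.of_split (s ∘ₗ (LinearMap.id - ε)) π ?_
  ext p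
  change π (s (p - ε p)) = p
  have h1 : ∀ q, π (s q) = q + ε q := fun q => by
    change π (s q) = q + (π (s q) - q)
    abel
  rw [h1, map_sub, hε2 _ (hεI p)]
  abel

end Groth.Agent.S6272
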