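import Groth.Statements.S6273

set_option autoImplicit false
universe u
open CAlg

namespace Groth.Agent.S6273

/-- Let R be a ring, S ⊆ R a multiplicative subset and A = S⁻¹R. If the image of Spec(A) → Spec(R) is
closed, then the localization map R → A is surjective; in particular A is isomorphic to R/I for the
ideal I = ker(R → A). -/
theorem result {R : Type u} [CommRing R] (S : Submonoid R) (A : Type u) [CommRing A] [Algebra R A] [IsLocalization S A] (hcl : IsClosed (Set.range (PrimeSpectrum.comap (algebraMap R A)))) : Function.Surjective (algebraMap R A) := by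
  have hrange : Set.range (PrimeSpectrum.comap (algebraMap R A)) = PrimeSpectrum.zeroLocus (RingHom.ker (algebraMap R A)) := by
    rw [← PrimeSpectrum.closure_range_comap, hcl.closure_eq]
  -- every element of `S` is a unit modulo the kernel
  have key : ∀ s : S, ∃ r : R, algebraMap R A (r * s) = 1 := by
    intro s
    have htop : Ideal.span {(s : R)} ⊔ RingHom.ker (algebraMap R A) = ⊤ := by
      by_contra hne
      obtain ⟨m, hm, hle⟩ := Ideal.exists_le_maximal _ hne
      have hmem : (⟨m, hm.isPrime⟩ : PrimeSpectrum R) ∈ PrimeSpectrum.zeroLocus (RingHom.ker (algebraMap R A)) :=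
        le_sup_right.trans hle
      rw [← hrange] at hmem
      obtain ⟨q, hq⟩ := hmem
      have h1 : (s : R) ∈ m := hle (Ideal.mem_sup_left (Ideal.mem_span_singleton_self (s : R)))
      have h2 : m = q.asIdeal.comap (algebraMap R A) := (congrArg PrimeSpectrum.asIdeal hq).symm
      rw [h2, Ideal.mem_comap] at h1
      exact q.isPrime.ne_top (Ideal.eq_top_of_isUnit_mem _ h1 (IsLocalization.map_units A s))
    have h1 : (1 : R) ∈ Ideal.span {(s : R)} ⊔ RingHom.ker (algebraMap R A) := by rw [htop]; trivial
    obtain ⟨a, ha, b, hb, hab⟩ := Submodule.mem_sup.1 h1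
    obtain ⟨r, rfl⟩ := Ideal.mem_span_singleton'.1 ha
    refine ⟨r, ?_⟩
    rw [RingHom.mem_ker] at hb
    have := congrArg (algebraMap R A) hab
    rwa [map_add, hb, add_zero, map_one] at this
  intro a
  obtain ⟨⟨x, s⟩, rfl⟩ := IsLocalization.mk'_surjective S a
  obtain ⟨r, hr⟩ := key s
  refine ⟨r * x, ?_⟩
  simp only
  rw [IsLocalization.eq_mk'_iff_mul_eq, ← map_mul, mul_right_comm, map_mul, hr, one_mul]

end Groth.Agent.S6273
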