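import Groth.Statements.S6274
import Mathlib.Order.CompletePartialOrder
import Groth.Agent.S6273

set_option autoImplicit false
universe u
open CAlg

namespace Groth.Agent.S6274

/-- a clopen image gives the decomposition -/
theorem aux {R : Type u} [CommRing R] (S : Submonoid R) (A : Type u) [CommRing A] [Algebra R A] [IsLocalization S A] (hcl : IsClopen (Set.range (PrimeSpectrum.comap (algebraMap R A)))) : ∃ (R' : Type u) (_ : CommRing R') (e : R ≃+* A × R'), ∀ x : R, (e x).1 = algebraMap R A x := by
  have hsurj := Groth.Agent.S6273.result S A hcl.1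
  obtain ⟨e, he, hbe⟩ := (PrimeSpectrum.isClopen_iff).1 hcl
  -- `e` maps to one in `A`
  have h1 : algebraMap R A e = 1 := by
    have hid : IsIdempotentElem (algebraMap R A e) := he.map _
    have hu : IsUnit (algebraMap R A e) := by
      by_contra hu
      obtain ⟨m, hm, hem⟩ := exists_max_ideal_of_mem_nonunits hu
      have : PrimeSpectrum.comap (algebraMap R A) ⟨m, hm.isPrime⟩ ∈ (PrimeSpectrum.basicOpen e : Set (PrimeSpectrum R)) := by
        rw [← hbe]; exact ⟨_, rfl⟩
      exact this hem
    exact hu.mul_eq_left.1 hid
  have h2 : ∀ s : S, ∃ t, s * t = e := by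
    intro s
    have : e ∈ (Ideal.span {(s : R)}).radical := by
      rw [Ideal.radical_eq_sInf, Ideal.mem_sInf]
      rintro q ⟨hq, hqp⟩
      by_contra heq
      have : (⟨q, hqp⟩ : PrimeSpectrum R) ∈ Set.range (PrimeSpectrum.comap (algebraMap R A)) := by
        rw [hbe]; exact heq
      obtain ⟨q', hq'⟩ := this
      have h3 : (s : R) ∈ q := hq (Ideal.mem_span_singleton_self _)
      have h4 : q = q'.asIdeal.comap (algebraMap R A) := (congrArg PrimeSpectrum.asIdeal hq').symm
      rw [h4, Ideal.mem_comap] at h3
      exact q'.isPrime.ne_top (Ideal.eq_top_of_isUnit_mem _ h3 (IsLocalization.map_units A s))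
    obtain ⟨n, hn⟩ := this
    obtain ⟨t, ht⟩ := Ideal.mem_span_singleton'.1 hn
    refine ⟨t * e, ?_⟩
    have hen : e * e ^ n = e := by
      have : ∀ n : ℕ, e * e ^ n = e := by
        intro n
        induction n with
        | zero => simp
        | succ n ih => rw [pow_succ', ← mul_assoc, he, ih]
      exact this n
    rw [← mul_assoc, mul_comm (s : R) t, ht, mul_comm, hen]
  let φ : R →+* A × (R ⧸ Ideal.span {e}) := (algebraMap R A).prod (Ideal.Quotient.mk _)
  have hφ : Function.Bijective φ := by
    constructor
    · rw [injective_iff_map_eq_zero]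
      intro x hx
      have hx1 : algebraMap R A x = 0 := congrArg Prod.fst hx
      have hx2 : Ideal.Quotient.mk (Ideal.span {e}) x = 0 := congrArg Prod.snd hx
      rw [Ideal.Quotient.eq_zero_iff_mem, Ideal.mem_span_singleton'] at hx2
      obtain ⟨y, rfl⟩ := hx2
      rw [IsLocalization.map_eq_zero_iff S] at hx1
      obtain ⟨s, hs⟩ := hx1
      obtain ⟨t, ht⟩ := h2 s
      have : y * e = (s * t) * (y * e) := by rw [ht, mul_comm y e, ← mul_assoc, he]
      rw [this, mul_right_comm, hs, zero_mul]
    · rintro ⟨a, b⟩
      obtain ⟨r, rfl⟩ := hsurj a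
      obtain ⟨r', rfl⟩ := Ideal.Quotient.mk_surjective b
      refine ⟨e * r + (1 - e) * r', ?_⟩
      refine Prod.ext ?_ ?_
      · change algebraMap R A _ = algebraMap R A r
        rw [map_add, map_mul, map_mul, map_sub, h1, map_one, one_mul, sub_self, zero_mul, add_zero]
      · change Ideal.Quotient.mk (Ideal.span {e}) _ = Ideal.Quotient.mk (Ideal.span {e}) r'
        rw [Ideal.Quotient.eq, Ideal.mem_span_singleton']
        exact ⟨r - r', by ring⟩
  exact ⟨R ⧸ Ideal.span {e}, inferInstance, RingEquiv.ofBijective φ hφ, fun x => rfl⟩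

theorem isOpen_of_noeth {X : Type*} [TopologicalSpace X] [TopologicalSpace.NoetherianSpace X] [QuasiSober X] (Z : Set X) (hZ : IsClosed Z)
    (hgen : StableUnderGeneralization Z) : IsOpen Z := by
  rw [← isClosed_compl_iff]
  have : Zᶜ = ⋃ T ∈ {T ∈ irreducibleComponents X | ¬ T ⊆ Z}, T := by
    ext x
    simp only [Set.mem_compl_iff, Set.mem_setOf_eq, Set.mem_iUnion, exists_prop]
    constructor
    · intro hx
      exact ⟨irreducibleComponent x, ⟨irreducibleComponent_mem_irreducibleComponents x, fun h => hx (h mem_irreducibleComponent)⟩, mem_irreducibleComponent⟩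
    · rintro ⟨T, ⟨hT, hTZ⟩, hxT⟩ hxZ
      apply hTZ
      have hirr : IsIrreducible T := hT.1
      have hclT : IsClosed T := isClosed_of_mem_irreducibleComponents T hT
      have hgp := hirr.isGenericPoint_genericPoint_closure
      rw [hclT.closure_eq] at hgp
      have h1 : hirr.genericPoint ∈ Z := hgen (hgp.specializes hxT) hxZ
      rw [← hgp.def]
      exact hZ.closure_subset_iff.2 (Set.singleton_subset_iff.2 h1)
  rw [this]
  refine Set.Finite.isClosed_biUnion ?_ ?_
  · exact TopologicalSpace.NoetherianSpace.finite_irreducibleComponents.subset (Set.sep_subset _ _)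
  · rintro T ⟨hT, -⟩
    exact isClosed_of_mem_irreducibleComponents T hT

theorem range_comap_loc {R : Type u} [CommRing R] (S : Submonoid R) (A : Type u) [CommRing A] [Algebra R A] [IsLocalization S A] :
    StableUnderGeneralization (Set.range (PrimeSpectrum.comap (algebraMap R A))) := by
  rw [PrimeSpectrum.localization_comap_range A S]
  intro x y hxy hx
  rw [← PrimeSpectrum.le_iff_specializes] at hxy
  exact hx.mono_right hxy

/-- Let R be a ring, S ⊆ R a multiplicative subset and A = S⁻¹R, and assume the image of Spec(A) →
Spec(R) is closed. If Spec(R) is a Noetherian topological space (which holds when R is Noetherian)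
or S is finitely generated as a monoid, then R is isomorphic to A × R' for some ring R', by an
isomorphism whose first component is the localization map R → A. -/
theorem result {R : Type u} [CommRing R] (S : Submonoid R) (A : Type u) [CommRing A] [Algebra R A] [IsLocalization S A] (hcl : IsClosed (Set.range (PrimeSpectrum.comap (algebraMap R A)))) (h : TopologicalSpace.NoetherianSpace (PrimeSpectrum R) ∨ S.FG) : ∃ (R' : Type u) (_ : CommRing R') (e : R ≃+* A × R'), ∀ x : R, (e x).1 = algebraMap R A x := by
  refine aux S A ⟨hcl, ?_⟩
  rcases h with h | h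
  · exact isOpen_of_noeth _ hcl (range_comap_loc S A)
  · obtain ⟨T, rfl⟩ := h
    rw [PrimeSpectrum.localization_comap_range A (Submonoid.closure (T : Set R))]
    have : {p : PrimeSpectrum R | Disjoint ((Submonoid.closure (T : Set R) : Submonoid R) : Set R) p.asIdeal} = ⋂ t ∈ T, (PrimeSpectrum.basicOpen t : Set (PrimeSpectrum R)) := by
      ext p
      simp only [Set.mem_setOf_eq, Set.mem_iInter]
      constructor
      · intro hd t ht htp
        exact Set.disjoint_left.1 hd (Submonoid.subset_closure ht) htp
      · intro H
        rw [Set.disjoint_left]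
        intro x hx
        have : (Submonoid.closure (T : Set R)) ≤ p.asIdeal.primeCompl := by
          rw [Submonoid.closure_le]
          exact fun t ht => H t ht
        exact this hx
    rw [this]
    exact isOpen_biInter_finset fun t _ => (PrimeSpectrum.basicOpen t).isOpen

end Groth.Agent.S6274
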