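import Groth.Statements.S6275

set_option autoImplicit false
universe u
open CAlg

namespace Groth.Agent.S6275

/-- Let R be a Noetherian ring and p ⊆ R a prime. Then there is f ∈ R, f ∉ p, such that R_f → R_p is
injective; equivalently every x ∈ R mapping to zero in R_p maps to zero in R_f. (The cases of a
domain and of a reduced ring with finitely many minimal primes are not included here.) -/
theorem result {R : Type u} [CommRing R] [IsNoetherianRing R] (p : Ideal R) [p.IsPrime] : ∃ f : R, f ∉ p ∧ ∀ x : R, algebraMap R (Localization.AtPrime p) x = 0 → algebraMap R (Localization.Away f) x = 0 := by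
  classical
  obtain ⟨s, hs⟩ := IsNoetherian.noetherian (RingHom.ker (algebraMap R (Localization.AtPrime p)))
  have h1 : ∀ x : s, ∃ m : p.primeCompl, (m : R) * x = 0 := by
    intro x
    have hx : (x : R) ∈ RingHom.ker (algebraMap R (Localization.AtPrime p)) := by
      rw [← hs]; exact Submodule.subset_span x.2
    exact (IsLocalization.map_eq_zero_iff p.primeCompl _ _).1 hx
  choose m hm using h1
  refine ⟨∏ x, (m x : R), ?_, ?_⟩
  · rw [← Submonoid.coe_finsetProd]
    exact (∏ x, m x : p.primeCompl).2
  · have : Submodule.span R (s : Set R) ≤ RingHom.ker (algebraMap R (Localization.Away (∏ x, (m x : R)))) := by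
      rw [Submodule.span_le]
      intro x hx
      simp only [SetLike.mem_coe, RingHom.mem_ker]
      rw [IsLocalization.map_eq_zero_iff (Submonoid.powers (∏ x, (m x : R)))]
      refine ⟨⟨_, Submonoid.mem_powers _⟩, ?_⟩
      rw [← Finset.mul_prod_erase Finset.univ _ (Finset.mem_univ (⟨x, hx⟩ : s))]
      simp only
      rw [mul_right_comm, hm ⟨x, hx⟩, zero_mul]
    intro x hx
    refine this ?_
    rw [hs]
    exact hx

end Groth.Agent.S6275
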