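import Groth.Statements.S6279
import Groth.Agent.Ega4C.NormalRing2

set_option autoImplicit false
universe u
open CAlg

namespace Groth.Agent.S6279

/-- A finite product of normal rings is normal (a ring is normal when every localization at a prime is
an integrally closed domain). -/
theorem result {ι : Type u} [Finite ι] (A : ι → Type u) [∀ i, CommRing (A i)] (hA : ∀ i, EGA4.IsNormalRing (A i)) : EGA4.IsNormalRing (∀ i, A i) := by
  classical
  intro P hP
  cases nonempty_fintype ι
  obtain ⟨i, hi⟩ : ∃ i, Pi.single i (1 : A i) ∉ P := by
    by_contra hcon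
    push Not at hcon
    apply hP.ne_top
    rw [Ideal.eq_top_iff_one]
    have : (1 : ∀ i, A i) = ∑ i, Pi.single i (1 : A i) :=
      (Finset.univ_sum_single (1 : ∀ i, A i)).symm
    rw [this]
    exact Ideal.sum_mem _ fun i _ => hcon i
  let _ : Algebra (∀ i, A i) (A i) := (Pi.evalRingHom A i).toAlgebra
  have hmap : ∀ x : ∀ i, A i, algebraMap (∀ i, A i) (A i) x = x i := fun x => rfl
  have hsurj : Function.Surjective (algebraMap (∀ i, A i) (A i)) := fun a => ⟨Pi.single i a, by rw [hmap, Pi.single_eq_same]⟩
  have hidem : IsIdempotentElem (Pi.single i (1 : A i) : ∀ i, A i) := by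
    rw [IsIdempotentElem, ← Pi.single_mul, one_mul]
  have haway : IsLocalization.Away (Pi.single i (1 : A i)) (A i) := by
    refine IsLocalization.away_of_isIdempotentElem_of_mul hidem ?_ hsurj
    intro x y
    rw [hmap, hmap]
    constructor
    · intro h
      ext j
      by_cases hj : j = i
      · subst hj; simp [h]
      · simp [Pi.single_eq_of_ne hj]
    · intro h
      have := congrFun h i
      simpa using this
  have hker : RingHom.ker (algebraMap (∀ i, A i) (A i)) ≤ P := by
    intro x hx
    have hx' : x i = 0 := hx
    have : Pi.single i (1 : A i) * x = 0 := by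
      ext j
      by_cases hj : j = i
      · subst hj; simp [hx']
      · simp [Pi.single_eq_of_ne hj]
    exact (hP.mem_or_mem (this ▸ P.zero_mem : Pi.single i (1 : A i) * x ∈ P)).resolve_left hi
  let p := P.map (algebraMap (∀ i, A i) (A i))
  have hp : p.IsPrime := Ideal.map_isPrime_of_surjective hsurj hker
  have hcomap : p.comap (algebraMap (∀ i, A i) (A i)) = P := by
    rw [Ideal.comap_map_of_surjective _ hsurj, ← RingHom.ker_eq_comap_bot, sup_eq_left.2 hker]
  have h1 : IsLocalization.AtPrime (Localization.AtPrime p) (p.comap (algebraMap (∀ i, A i) (A i))) :=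
    IsLocalization.isLocalization_isLocalization_atPrime_isLocalization (Submonoid.powers (Pi.single i (1 : A i))) _ p
  have h2 : IsLocalization.AtPrime (Localization.AtPrime p) P := by
    simpa only [hcomap] using h1
  exact Groth.Agent.Ega4C.NormalRing2.isDomain_isIntegrallyClosed_of_ringEquiv (IsLocalization.algEquiv P.primeCompl (Localization.AtPrime p) (Localization.AtPrime P)).toRingEquiv (hA i p)

end Groth.Agent.S6279
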