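import Groth.Statements.S6281

set_option autoImplicit false
universe u
open CAlg

namespace Groth.Agent.S6281

/-- For an R-algebra S and an S-module M, flatness of S over R follows once M is both flat over R and
faithfully flat over S. -/
theorem result {R S : Type u} [CommRing R] [CommRing S] [Algebra R S] (M : Type u) [AddCommGroup M] [Module S M] [Module R M] [IsScalarTower R S M] [Module.Flat R M] [Module.FaithfullyFlat S M] : Module.Flat R S := by
  rw [Module.Flat.iff_lTensor_preserves_injective_linearMap]
  intro N N' _ _ _ _ f hf
  have h1 : Function.Injective (f.lTensor M) := Module.Flat.lTensor_preserves_injective_linearMap f hf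
  have h2 := TensorProduct.AlgebraTensorModule.lTensor_comp_cancelBaseChange (R := R) (A := S) (B := S)
    (M := M) (N := N) (Q := N') f
  have h4 : Function.Injective ((TensorProduct.AlgebraTensorModule.cancelBaseChange R S S M N').toLinearMap ∘ₗ
      TensorProduct.AlgebraTensorModule.lTensor S M (TensorProduct.AlgebraTensorModule.lTensor S S f)) := by
    rw [← h2, LinearMap.coe_comp]
    exact Function.Injective.comp h1 (LinearEquiv.injective _)
  rw [LinearMap.coe_comp] at h4
  have h3 : Function.Injective ((TensorProduct.AlgebraTensorModule.lTensor S S f).lTensor M) := h4.of_comp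
  rw [Module.FaithfullyFlat.lTensor_injective_iff_injective] at h3
  exact h3

end Groth.Agent.S6281
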