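import Groth.Statements.S6282

set_option autoImplicit false
universe u
open scoped TensorProduct
open CAlg

namespace Groth.Agent.S6282

/-- Let S → S' be a homomorphism of R-algebras, M an S-module, and M' = S' ⊗_S M with its induced
R-module structure. (1) When S' is flat over S, R-flatness of M passes to M'. (2) When S' is
faithfully flat over S, M is R-flat exactly when M' is. -/
theorem result {R S S' : Type u} [CommRing R] [CommRing S] [CommRing S'] [Algebra R S] [Algebra R S'] [Algebra S S'] [IsScalarTower R S S'] (M : Type u) [AddCommGroup M] [Module S M] [Module R M] [IsScalarTower R S M] : ([Module.Flat S S'] → Module.Flat R M → Module.Flat R (S' ⊗[S] M)) ∧ ([Module.FaithfullyFlat S S'] → (Module.Flat R M ↔ Module.Flat R (S' ⊗[S] M))) := by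
  -- `(S' ⊗[S] M) ⊗[R] N = S' ⊗[S] (M ⊗[R] N)`
  have key : ∀ {N N' : Type u} [AddCommGroup N] [Module R N] [AddCommGroup N'] [Module R N'] (f : N →ₗ[R] N'),
      Function.Injective (f.lTensor (S' ⊗[S] M)) ↔ Function.Injective ((TensorProduct.AlgebraTensorModule.lTensor S M f).lTensor S') := by
    intro N N' _ _ _ _ f
    have h : (TensorProduct.AlgebraTensorModule.lTensor S S' (TensorProduct.AlgebraTensorModule.lTensor S M f)) ∘ₗ
        (TensorProduct.AlgebraTensorModule.assoc R S S S' M N).toLinearMap =
        (TensorProduct.AlgebraTensorModule.assoc R S S S' M N').toLinearMap ∘ₗ TensorProduct.AlgebraTensorModule.lTensor S (S' ⊗[S] M) f := by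
      ext
      simp
    have h' : ∀ x, (TensorProduct.AlgebraTensorModule.lTensor S M f).lTensor S' (TensorProduct.AlgebraTensorModule.assoc R S S S' M N x) =
        TensorProduct.AlgebraTensorModule.assoc R S S S' M N' (f.lTensor (S' ⊗[S] M) x) := fun x => DFunLike.congr_fun h x
    constructor
    · intro hinj x y hxy
      obtain ⟨x, rfl⟩ := (TensorProduct.AlgebraTensorModule.assoc R S S S' M N).surjective x
      obtain ⟨y, rfl⟩ := (TensorProduct.AlgebraTensorModule.assoc R S S S' M N).surjective y
      rw [h', h'] at hxy
      rw [hinj ((TensorProduct.AlgebraTensorModule.assoc R S S S' M N').injective hxy)]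
    · intro hinj x y hxy
      apply (TensorProduct.AlgebraTensorModule.assoc R S S S' M N).injective
      apply hinj
      rw [h', h', hxy]
  constructor
  · intro _ hM
    rw [Module.Flat.iff_lTensor_preserves_injective_linearMap]
    intro N N' _ _ _ _ f hf
    rw [key]
    apply Module.Flat.lTensor_preserves_injective_linearMap
    exact Module.Flat.lTensor_preserves_injective_linearMap f hf
  · intro _
    rw [Module.Flat.iff_lTensor_preserves_injective_linearMap, Module.Flat.iff_lTensor_preserves_injective_linearMap]
    refine forall₂_congr fun N N' => ?_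
    refine forall_congr' fun _ => forall_congr' fun _ => forall_congr' fun _ => forall_congr' fun _ => forall₂_congr fun f hf => ?_
    rw [key, Module.FaithfullyFlat.lTensor_injective_iff_injective S S']
    rfl

end Groth.Agent.S6282
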