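import Groth.Statements.S6284
import Mathlib.RingTheory.Flat.TorsionFree
import Mathlib.RingTheory.SimpleRing.Principal
import Groth.Agent.Grpsch.FlatIdeal

set_option autoImplicit false
universe u
open scoped TensorProduct
open CAlg

namespace Groth.Agent.S6284

/-- Let R → R' be a ring map and M a finite R-module. Then the support of R' ⊗_R M is the inverse image
of the support of M under Spec(R') → Spec(R). -/
theorem result {R R' : Type u} [CommRing R] [CommRing R'] [Algebra R R'] (M : Type u) [AddCommGroup M] [Module R M] [Module.Finite R M] : Module.support R' (R' ⊗[R] M) = PrimeSpectrum.comap (algebraMap R R') ⁻¹' Module.support R M := by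
  ext q
  rw [Set.mem_preimage, Module.mem_support_iff_nontrivial_residueField_tensorProduct,
    Module.mem_support_iff_nontrivial_residueField_tensorProduct, ← Module.finrank_pos_iff (R := q.asIdeal.ResidueField),
    ← Module.finrank_pos_iff (R := (PrimeSpectrum.comap (algebraMap R R') q).asIdeal.ResidueField)]
  have := Groth.Agent.Grpsch.FlatIdeal.fibRank_baseChange R M R' q
  unfold Groth.Agent.Grpsch.FlatIdeal.fibRank at this
  rw [this]

end Groth.Agent.S6284
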