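import Groth.Statements.S6285
import Mathlib.RingTheory.Spectrum.Prime.Module
import Groth.Agent.CalgB.Minors

set_option autoImplicit false
universe u
open CAlg

namespace Groth.Agent.S6285

/-- For a ring R and an R-module M of finite presentation, the support Supp(M) is closed in Spec(R), and
its complement in Spec(R) is quasi-compact. -/
theorem result (R : Type u) [CommRing R] (M : Type u) [AddCommGroup M] [Module R M] [Module.FinitePresentation R M] : IsClosed (Module.support R M) ∧ IsCompact (Module.support R M)ᶜ := by
  refine ⟨Module.isClosed_support, ?_⟩
  obtain ⟨n, K, e, hK⟩ := Module.FinitePresentation.exists_fin R M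
  obtain ⟨m, v, hv⟩ := Submodule.fg_iff_exists_fin_generating_family.1 hK
  let V : Matrix (Fin m) (Fin n) R := Matrix.of v
  have hsupp : Module.support R M = PrimeSpectrum.zeroLocus (CAlgX.minorIdeal V n : Set R) := by
    rw [Module.support_eq_zeroLocus]
    ext p
    simp only [PrimeSpectrum.mem_zeroLocus, SetLike.coe_subset_coe]
    constructor
    · intro hp
      rw [Groth.Agent.CalgB.Minors.minorIdeal_le_iff]
      intro f g
      by_cases hg : Function.Injective g
      · -- `det` of a square submatrix kills `M`
        apply hp
        set W := V.submatrix f g with hW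
        have hgb : Function.Bijective g := Finite.injective_iff_bijective.1 hg
        have hmem : ∀ y : Fin n → R, W.det • y ∈ K := by
          intro y
          have h1 : W.det • y = ∑ i, y (g i) • ∑ l, W.adjugate i l • v (f l) := by
            ext j
            obtain ⟨k, rfl⟩ := hgb.2 j
            simp only [Pi.smul_apply, smul_eq_mul, Finset.sum_apply]
            have h2 : ∀ i, ∑ l, W.adjugate i l * v (f l) (g k) = (W.adjugate * W) i k := by
              intro i
              rw [Matrix.mul_apply]
              rfl
            simp only [h2, Matrix.adjugate_mul, Matrix.smul_apply, Matrix.one_apply, smul_eq_mul, mul_ite, mul_one, mul_zero,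
              Finset.sum_ite_eq', Finset.mem_univ, if_true]
            ring
          rw [h1]
          refine Submodule.sum_mem _ fun i _ => Submodule.smul_mem _ _ (Submodule.sum_mem _ fun l _ => Submodule.smul_mem _ _ ?_)
          rw [← hv]
          exact Submodule.subset_span ⟨_, rfl⟩
        rw [Module.mem_annihilator]
        intro x
        obtain ⟨y, hy⟩ := K.mkQ_surjective (e x)
        rw [← LinearEquiv.map_eq_zero_iff e, map_smul, ← hy, ← map_smul, Submodule.mkQ_apply, Submodule.Quotient.mk_eq_zero]
        exact hmem y
      · rw [Function.Injective] at hg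
        push Not at hg
        obtain ⟨i, j, hij, hne⟩ := hg
        rw [Matrix.det_zero_of_column_eq hne (by intro k; simp [hij])]
        exact Ideal.zero_mem _
    · intro hp a ha
      -- `a • 1 = B * V`, so `a ^ n` is in the ideal of minors
      have h1 : ∀ x : Fin n → R, a • x ∈ K := by
        intro x
        have h2 : a • e.symm (K.mkQ x) = 0 := Module.mem_annihilator.1 ha _
        rw [← map_smul, LinearEquiv.map_eq_zero_iff, ← map_smul, Submodule.mkQ_apply, Submodule.Quotient.mk_eq_zero] at h2
        exact h2
      have h2 : ∀ i : Fin n, ∃ c : Fin m → R, ∑ j, c j • v j = a • Pi.single i (1 : R) := by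
        intro i
        have h3 := h1 (Pi.single i 1)
        rw [← hv] at h3
        exact (Submodule.mem_span_range_iff_exists_fun R).1 h3
      choose c hc using h2
      let B : Matrix (Fin n) (Fin m) R := Matrix.of c
      have hBV : B * V = a • (1 : Matrix (Fin n) (Fin n) R) := by
        ext i j
        have := congrFun (hc i) j
        simp only [Finset.sum_apply, Pi.smul_apply, smul_eq_mul] at this
        rw [Matrix.mul_apply, Matrix.smul_apply, Matrix.one_apply]
        simp only [B, V, Matrix.of_apply]
        rw [this, Pi.single_apply, smul_eq_mul]
        simp only [eq_comm]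
      have h4 : a ^ n ∈ CAlgX.minorIdeal V n := by
        have h5 := Groth.Agent.CalgB.Minors.minorIdeal_mul_le_right B V n
        apply h5
        have h6 := Groth.Agent.CalgB.Minors.det_mem_minorIdeal (B * V) (r := n) id id
        have h7 : ((B * V).submatrix id id).det = a ^ n := by
          rw [Matrix.submatrix_id_id, hBV, Matrix.det_smul, Matrix.det_one, mul_one, Fintype.card_fin]
        rwa [h7] at h6
      exact p.isPrime.mem_of_pow_mem n (hp h4)
  have hfg : (CAlgX.minorIdeal V n).FG := Submodule.fg_span (Set.finite_range _)
  rw [hsupp]
  exact ((PrimeSpectrum.isCompact_isOpen_iff_ideal (s := (PrimeSpectrum.zeroLocus (CAlgX.minorIdeal V n : Set R))ᶜ)).2 ⟨_, hfg, rfl⟩).1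

end Groth.Agent.S6285
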