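import Groth.Statements.S6286
import Mathlib.RingTheory.Flat.TorsionFree
import Mathlib.RingTheory.Henselian
import Mathlib.RingTheory.RegularLocalRing.Defs
import Mathlib.RingTheory.SimpleRing.Principal

set_option autoImplicit false
universe u
open scoped TensorProduct
open CAlg

namespace Groth.Agent.S6286

/-- Let k be a field, R and S k-algebras, S' ⊆ S a k-subalgebra and f ∈ R ⊗ₖ S', with image f again in R
⊗ₖ S. Then the images in Spec(R) of Spec((R ⊗ₖ S)_f) and of Spec((R ⊗ₖ S')_f) coincide: a prime p of
R is the contraction of a prime of R ⊗ₖ S not containing f if and only if it is the contraction of a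
prime of R ⊗ₖ S' not containing f. -/
theorem result (k : Type u) [Field k] (R S : Type u) [CommRing R] [Algebra k R] [CommRing S] [Algebra k S] (S' : Subalgebra k S) (f : R ⊗[k] S') (p : PrimeSpectrum R) : (∃ q : PrimeSpectrum (R ⊗[k] S), Algebra.TensorProduct.map (AlgHom.id k R) S'.val f ∉ q.asIdeal ∧ q.asIdeal.comap (algebraMap R (R ⊗[k] S)) = p.asIdeal) ↔ (∃ q' : PrimeSpectrum (R ⊗[k] S'), f ∉ q'.asIdeal ∧ q'.asIdeal.comap (algebraMap R (R ⊗[k] S')) = p.asIdeal) := by
  constructor
  · rintro ⟨q, hq, hqp⟩
    refine ⟨PrimeSpectrum.comap (Algebra.TensorProduct.map (AlgHom.id k R) S'.val).toRingHom q, hq, ?_⟩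
    rw [← hqp]
    ext x
    simp only [Ideal.mem_comap, PrimeSpectrum.comap_asIdeal]
    rw [Algebra.TensorProduct.algebraMap_apply, Algebra.TensorProduct.algebraMap_apply]
    simp
  · rintro ⟨q', hq', hqp⟩
    let κ := p.asIdeal.ResidueField
    let L := q'.asIdeal.ResidueField
    -- the map from `κ ⊗ S'` to the residue field of `q'`
    let g : R ⊗[k] S' →ₐ[k] L := IsScalarTower.toAlgHom k (R ⊗[k] S') L
    let gR : R →ₐ[k] L := g.comp Algebra.TensorProduct.includeLeft
    have hker : ∀ x, gR x = 0 ↔ x ∈ p.asIdeal := by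
      intro x
      rw [← hqp, Ideal.mem_comap]
      exact Ideal.algebraMap_residueField_eq_zero
    let γ : κ →ₐ[k] L := Ideal.ResidueField.liftₐ p.asIdeal gR (fun x hx => (hker x).2 hx) (fun x hx => by
      rw [Submonoid.mem_comap, IsUnit.mem_submonoid_iff, isUnit_iff_ne_zero]
      exact fun h => hx ((hker x).1 h))
    let Φ : κ ⊗[k] S' →ₐ[k] L := Algebra.TensorProduct.productMap γ (g.comp Algebra.TensorProduct.includeRight)
    let ι : R →ₐ[k] κ := IsScalarTower.toAlgHom k R κ
    have hΦ : Φ.comp (Algebra.TensorProduct.map ι (AlgHom.id k S')) = g := by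
      ext x
      · simp only [AlgHom.comp_apply, Algebra.TensorProduct.includeLeft_apply, Algebra.TensorProduct.map_tmul, Φ, Algebra.TensorProduct.productMap_apply_tmul, map_one, mul_one]
        change γ (algebraMap R κ x) = _
        exact Ideal.ResidueField.liftₐ_algebraMap _ _ _ _ _
      · simp only [AlgHom.comp_apply, Algebra.TensorProduct.includeRight_apply, AlgHom.restrictScalars_apply, Algebra.TensorProduct.map_tmul, Φ, Algebra.TensorProduct.productMap_apply_tmul, map_one, one_mul]
        rfl
    let f' : κ ⊗[k] S' := Algebra.TensorProduct.map ι (AlgHom.id k S') f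
    have hf' : ¬ IsNilpotent f' := by
      intro h
      have h1 : IsNilpotent (Φ f') := h.map Φ
      have h2 : Φ f' = g f := DFunLike.congr_fun hΦ f
      rw [h2] at h1
      exact hq' (Ideal.algebraMap_residueField_eq_zero.1 h1.eq_zero)
    let m : κ ⊗[k] S' →ₐ[k] κ ⊗[k] S := Algebra.TensorProduct.map (AlgHom.id k κ) S'.val
    have hm : Function.Injective m := by
      exact Module.Flat.lTensor_preserves_injective_linearMap (M := κ) S'.val.toLinearMap Subtype.val_injective
    have hf'' : ¬ IsNilpotent (m f') := by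
      rwa [IsNilpotent.map_iff hm]
    rw [nilpotent_iff_mem_prime] at hf''
    push Not at hf''
    obtain ⟨Q, hQ, hfQ⟩ := hf''
    refine ⟨PrimeSpectrum.comap (Algebra.TensorProduct.map ι (AlgHom.id k S)).toRingHom ⟨Q, hQ⟩, ?_, ?_⟩
    · intro h
      apply hfQ
      have h1 : m f' = Algebra.TensorProduct.map ι (AlgHom.id k S) (Algebra.TensorProduct.map (AlgHom.id k R) S'.val f) := by
        have : m.comp (Algebra.TensorProduct.map ι (AlgHom.id k S')) =
          (Algebra.TensorProduct.map ι (AlgHom.id k S)).comp (Algebra.TensorProduct.map (AlgHom.id k R) S'.val) := by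
          ext <;> simp [m]
        exact DFunLike.congr_fun this f
      rw [h1]
      exact h
    · ext x
      simp only [PrimeSpectrum.comap_asIdeal, Ideal.mem_comap, Algebra.TensorProduct.algebraMap_apply]
      have h1 : (Algebra.TensorProduct.map ι (AlgHom.id k S)).toRingHom (algebraMap R R x ⊗ₜ[k] (1 : S)) = algebraMap κ (κ ⊗[k] S) (algebraMap R κ x) := by
        simp [ι]
      rw [h1, ← Ideal.mem_comap, ← Ideal.mem_comap]
      have h2 : Q.comap (algebraMap κ (κ ⊗[k] S)) = ⊥ := by
        have : (Q.comap (algebraMap κ (κ ⊗[k] S))).IsPrime := inferInstance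
        exact (Ideal.eq_bot_or_top _).resolve_right this.ne_top
      rw [h2, ← RingHom.ker_eq_comap_bot, Ideal.ker_algebraMap_residueField]

end Groth.Agent.S6286
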