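import Groth.Statements.S6287

set_option autoImplicit false
universe u
open CAlg

namespace Groth.Agent.S6287

/-- Let (A_i) be a directed system of valuation rings. Then the colimit A = colim A_i is a valuation
ring (in particular a domain). -/
theorem result {ι : Type u} [Preorder ι] [Nonempty ι] [IsDirected ι (· ≤ ·)] (G : ι → Type u) [∀ i, CommRing (G i)] [∀ i, IsDomain (G i)] [∀ i, ValuationRing (G i)] (f : ∀ i j, i ≤ j → G i →+* G j) [DirectedSystem G fun i j h => f i j h] : ∃ _ : IsDomain (Ring.DirectLimit G fun i j h => f i j h), ValuationRing (Ring.DirectLimit G fun i j h => f i j h) := by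
  have : IsDirectedOrder ι := inferInstance
  let oF : ∀ i, G i →+* Ring.DirectLimit G (fun i j h ↦ f i j h) :=
    fun i => Ring.DirectLimit.of G (fun i j h ↦ f i j h) i
  have hoF : ∀ i j (h : i ≤ j) (x : G i), oF j (f i j h x) = oF i x := fun i j h x =>
    Ring.DirectLimit.of_f (G := G) (f := fun i j h ↦ f i j h) h x
  have hzero : ∀ i (x : G i), oF i x = 0 → ∃ j, ∃ h : i ≤ j, f i j h x = 0 := fun i x hx =>
    Ring.DirectLimit.of.zero_exact hx
  have hex : ∀ x y : Ring.DirectLimit G (fun i j h ↦ f i j h), ∃ i, ∃ (a b : G i), oF i a = x ∧ oF i b = y := by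
    intro x y
    obtain ⟨i, a, rfl⟩ := Ring.DirectLimit.exists_of x
    obtain ⟨j, b, rfl⟩ := Ring.DirectLimit.exists_of y
    obtain ⟨k, hik, hjk⟩ := exists_ge_ge i j
    exact ⟨k, f i k hik a, f j k hjk b, hoF _ _ _ _, hoF _ _ _ _⟩
  have hnt : Nontrivial (Ring.DirectLimit G fun i j h => f i j h) := by
    refine ⟨0, 1, fun h => ?_⟩
    have i : ι := Classical.arbitrary ι
    have h1 : oF i 1 = 0 := by rw [map_one, h]
    obtain ⟨j, hij, hj⟩ := hzero i 1 h1
    rw [map_one] at hj
    exact one_ne_zero hj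
  have hdom : IsDomain (Ring.DirectLimit G fun i j h => f i j h) := by
    have : NoZeroDivisors (Ring.DirectLimit G fun i j h => f i j h) := by
      refine ⟨fun {x y} hxy => ?_⟩
      obtain ⟨i, a, b, rfl, rfl⟩ := hex x y
      rw [← map_mul] at hxy
      obtain ⟨j, hij, hj⟩ := hzero i _ hxy
      rw [map_mul] at hj
      rcases mul_eq_zero.1 hj with h | h
      · left; rw [← hoF i j hij, h, map_zero]
      · right; rw [← hoF i j hij, h, map_zero]
    exact NoZeroDivisors.to_isDomain _
  refine ⟨hdom, ?_⟩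
  refine @ValuationRing.mk _ _ _ ⟨fun x y => ?_⟩
  obtain ⟨i, a, b, rfl, rfl⟩ := hex x y
  obtain ⟨c, hc | hc⟩ := ValuationRing.cond a b
  · exact ⟨oF i c, Or.inl (by rw [← map_mul, hc])⟩
  · exact ⟨oF i c, Or.inr (by rw [← map_mul, hc])⟩

end Groth.Agent.S6287
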