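import Groth.Statements.S6289

set_option autoImplicit false
universe u
open CAlg

namespace Groth.Agent.S6289

/-- Let A' be a valuation ring with residue field K and A ⊆ K a valuation ring with fraction field K.
Then the subring C of A' consisting of the elements whose residue class lies in A is a valuation
ring. -/
theorem result (A' : Type u) [CommRing A'] [IsDomain A'] [ValuationRing A'] (A : ValuationSubring (IsLocalRing.ResidueField A')) : ValuationRing (A.toSubring.comap (IsLocalRing.residue A')) := by
  refine @ValuationRing.mk _ _ _ ⟨?_⟩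
  have key : ∀ a b c : A', a ∈ A.toSubring.comap (IsLocalRing.residue A') → b ∈ A.toSubring.comap (IsLocalRing.residue A') → a * c = b →
      (c ∈ A.toSubring.comap (IsLocalRing.residue A')) ∨ (∃ d ∈ A.toSubring.comap (IsLocalRing.residue A'), b * d = a) := by
    intro a b c ha hb hc
    rcases A.mem_or_inv_mem (IsLocalRing.residue A' c) with h | h
    · exact Or.inl h
    · by_cases hcu : IsUnit c
      · obtain ⟨u, rfl⟩ := hcu
        right
        refine ⟨(u⁻¹ : A'ˣ), ?_, ?_⟩
        · change IsLocalRing.residue A' _ ∈ A
          have : IsLocalRing.residue A' ((u⁻¹ : A'ˣ) : A') = (IsLocalRing.residue A' u)⁻¹ := by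
            rw [eq_comm, inv_eq_iff_eq_inv, eq_comm]
            apply inv_eq_of_mul_eq_one_left
            rw [← map_mul, Units.mul_inv, map_one]
          rw [this]
          exact h
        · rw [← hc, mul_assoc, Units.mul_inv, mul_one]
      · left
        change IsLocalRing.residue A' c ∈ A
        have : IsLocalRing.residue A' c = 0 := by
          rw [IsLocalRing.residue_eq_zero_iff]
          exact hcu
        rw [this]
        exact A.zero_mem
  rintro ⟨a, ha⟩ ⟨b, hb⟩
  obtain ⟨c, hc | hc⟩ := ValuationRing.cond a b
  · rcases key a b c ha hb hc with h | ⟨d, hd, h⟩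
    · exact ⟨⟨c, h⟩, Or.inl (Subtype.ext hc)⟩
    · exact ⟨⟨d, hd⟩, Or.inr (Subtype.ext h)⟩
  · rcases key b a c hb ha hc with h | ⟨d, hd, h⟩
    · exact ⟨⟨c, h⟩, Or.inr (Subtype.ext hc)⟩
    · exact ⟨⟨d, hd⟩, Or.inl (Subtype.ext h)⟩

end Groth.Agent.S6289
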