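import Groth.Statements.S6290
import Mathlib.RingTheory.Filtration
import Mathlib.RingTheory.Finiteness.Nakayama

set_option autoImplicit false
universe u
open CAlg

namespace Groth.Agent.S6290

/-- Let R be a Noetherian ring, I ⊆ R an ideal, M a finite R-module and N = ⋂ₙ IⁿM. Then for every prime
p ⊇ I there is f ∈ R, f ∉ p, with N_f = 0, i.e. every element of N is annihilated by some power of
f. -/
theorem result {R : Type u} [CommRing R] [IsNoetherianRing R] (I : Ideal R) (M : Type u) [AddCommGroup M] [Module R M] [Module.Finite R M] (p : Ideal R) [p.IsPrime] (hIp : I ≤ p) : ∃ f : R, f ∉ p ∧ ∀ x ∈ (⨅ n : ℕ, I ^ n • (⊤ : Submodule R M)), ∃ k : ℕ, f ^ k • x = 0 := by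
  obtain ⟨r, hr₁, hr₂⟩ : ∃ r ∈ I, ∀ x ∈ (⨅ n : ℕ, I ^ n • (⊤ : Submodule R M)), r • x = x := by
    refine Submodule.exists_mem_and_smul_eq_self_of_fg_of_le_smul I _ (IsNoetherian.noetherian _) ?_
    have hN : ∀ k, (I.stableFiltration (⊤ : Submodule R M) ⊓ I.trivialFiltration (⨅ n : ℕ, I ^ n • (⊤ : Submodule R M))).N k = (⨅ n : ℕ, I ^ n • (⊤ : Submodule R M)) :=
      fun k => inf_eq_right.mpr ((iInf_le _ k).trans <| le_of_eq <| by simp)
    obtain ⟨k, hk⟩ := (I.stableFiltration_stable (⊤ : Submodule R M)).inter_right (I.trivialFiltration (⨅ n : ℕ, I ^ n • (⊤ : Submodule R M)))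
    have := hk k (le_refl _)
    rw [hN, hN] at this
    exact le_of_eq this.symm
  refine ⟨1 - r, fun h => ?_, fun x hx => ⟨1, ?_⟩⟩
  · apply Ideal.IsPrime.ne_top ‹p.IsPrime›
    rw [Ideal.eq_top_iff_one]
    simpa using p.add_mem h (hIp hr₁)
  · rw [pow_one, sub_smul, one_smul, hr₂ x hx, sub_self]

end Groth.Agent.S6290
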