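import Groth.Statements.S6292
import Mathlib.RingTheory.FiniteLength
import Mathlib.RingTheory.Artinian.Module
import Mathlib.RingTheory.Ideal.Quotient.Basic
import Mathlib.RingTheory.Finiteness.Ideal
import Mathlib.Algebra.Module.Torsion.Basic

set_option autoImplicit false
universe u
open CAlg

namespace Groth.Agent.S6292

/-- Let R be a ring and m ⊆ R a finitely generated maximal ideal (for instance R Noetherian). If M is a
finite R-module with mⁿM = 0 for some n, then M has finite length. -/
theorem result {R : Type u} [CommRing R] (m : Ideal R) [m.IsMaximal] (hm : m.FG) (M : Type u) [AddCommGroup M] [Module R M] [Module.Finite R M] (n : ℕ) (hn : m ^ n • (⊤ : Submodule R M) = ⊥) : IsFiniteLength R M := by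
  rw [isFiniteLength_iff_isNoetherian_isArtinian]
  induction n generalizing M with
  | zero =>
    have hs : Subsingleton M := by
      rw [← Submodule.subsingleton_iff R, ← subsingleton_iff_bot_eq_top]
      simpa using hn.symm
    exact ⟨inferInstance, inferInstance⟩
  | succ n ih =>
    let N : Submodule R M := m • (⊤ : Submodule R M)
    have hNfg : N.FG := Submodule.FG.smul hm (Module.Finite.fg_top)
    have : Module.Finite R N := Module.Finite.iff_fg.mpr hNfg
    have hN0 : m ^ n • (⊤ : Submodule R N) = ⊥ := by
      apply Submodule.map_injective_of_injective N.injective_subtype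
      rw [Submodule.map_smul'', Submodule.map_top, Submodule.range_subtype, Submodule.map_bot]
      rw [← hn, pow_succ, Submodule.mul_smul]
    obtain ⟨h1, h2⟩ := ih N hN0
    -- quotient
    letI : Field (R ⧸ m) := Ideal.Quotient.field m
    have htors : Module.IsTorsionBySet R (M ⧸ N) m := by
      rintro x ⟨a, ha⟩
      obtain ⟨y, rfl⟩ := Submodule.Quotient.mk_surjective _ x
      change a • Submodule.Quotient.mk y = 0
      rw [← Submodule.Quotient.mk_smul, Submodule.Quotient.mk_eq_zero]
      exact Submodule.smul_mem_smul ha Submodule.mem_top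
    letI : Module (R ⧸ m) (M ⧸ N) := htors.module
    haveI : IsScalarTower R (R ⧸ m) (M ⧸ N) := htors.isScalarTower
    haveI : Module.Finite (R ⧸ m) (M ⧸ N) := Module.Finite.of_restrictScalars_finite R _ _
    haveI : RingHomSurjective (algebraMap R (R ⧸ m)) := ⟨Ideal.Quotient.mk_surjective⟩
    let l : (M ⧸ N) →ₛₗ[algebraMap R (R ⧸ m)] (M ⧸ N) :=
      { toFun := id
        map_add' := fun _ _ => rfl
        map_smul' := fun r x => (algebraMap_smul (R ⧸ m) r x).symm }
    have h3 : IsNoetherian R (M ⧸ N) :=
      (LinearMap.isNoetherian_iff_of_bijective l Function.bijective_id).mpr inferInstance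
    have h4 : IsArtinian R (M ⧸ N) :=
      isArtinian_of_surjective_algebraMap (R := R ⧸ m) Ideal.Quotient.mk_surjective
    exact ⟨isNoetherian_of_range_eq_ker N.subtype N.mkQ (by simp),
      isArtinian_of_range_eq_ker N.subtype N.mkQ (by simp)⟩

end Groth.Agent.S6292
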