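import Groth.Statements.S6294
import Mathlib.RingTheory.Ideal.MinimalPrime.Localization
import Mathlib.RingTheory.Localization.AtPrime.Basic
import Mathlib.RingTheory.Ideal.Operations
import Mathlib.RingTheory.KrullDimension.Zero
import Mathlib.Algebra.Group.Pi.Units

set_option autoImplicit false
universe u
open CAlg

namespace Groth.Agent.S6294

/-- Let R be a ring with finitely many minimal primes q₁, …, q_t, and assume that the zerodivisors of R
are precisely the elements of q₁ ∪ … ∪ q_t. Then Q(R), the total ring of fractions of R, equals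
R_{q₁} × … × R_{q_t}: the diagonal map R → ∏ R_{q_i} is a localization of R at its non-zerodivisors. -/
theorem result {R : Type u} [CommRing R] {ι : Type} [Fintype ι] (q : ι → Ideal R) [∀ i, (q i).IsPrime] (hinj : Function.Injective q) (hmin : ∀ P : Ideal R, P ∈ minimalPrimes R ↔ P ∈ Set.range q) (hzd : ∀ x : R, x ∈ nonZeroDivisors R ↔ ∀ i, x ∉ q i) : IsLocalization (nonZeroDivisors R) (∀ i, Localization.AtPrime (q i)) := by
  classical
  -- the elements `t i j`
  have ht : ∀ i j, i ≠ j → ∃ t : R, t ∉ q i ∧ algebraMap R (Localization.AtPrime (q j)) t = 0 := by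
    intro i j hij
    have hle : ¬ q j ≤ q i := by
      intro h
      have hi : q i ∈ minimalPrimes R := (hmin _).mpr ⟨i, rfl⟩
      have := hi.2 ⟨inferInstance, bot_le⟩ h
      exact hij (hinj (le_antisymm this h))
    obtain ⟨t, htj, hti⟩ := SetLike.not_le_iff_exists.mp hle
    have hdim := Ring.KrullDimLE.of_isLocalization (q j) ((hmin _).mpr ⟨j, rfl⟩)
      (Localization.AtPrime (q j))
    have hnil : IsNilpotent (algebraMap R (Localization.AtPrime (q j)) t) := by
      rw [Ring.KrullDimLE.isNilpotent_iff_mem_maximalIdeal]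
      rw [← IsLocalization.AtPrime.map_eq_maximalIdeal (q j) (Localization.AtPrime (q j))]
      exact Ideal.mem_map_of_mem _ htj
    obtain ⟨n, hn⟩ := hnil
    refine ⟨t ^ n, fun h => hti ((inferInstance : (q i).IsPrime).mem_of_pow_mem n h), ?_⟩
    rw [map_pow, hn]
  choose! t ht1 ht2 using ht
  let e : ι → R := fun i => ∏ j ∈ Finset.univ.erase i, t i j
  have he1 : ∀ i, e i ∉ q i := by
    intro i h
    obtain ⟨j, hj, hj'⟩ := (Ideal.IsPrime.prod_mem_iff (hp := inferInstance)).mp h
    exact ht1 i j (Finset.ne_of_mem_erase hj).symm hj'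
  have he2 : ∀ i j, i ≠ j → algebraMap R (Localization.AtPrime (q j)) (e i) = 0 := by
    intro i j hij
    rw [map_prod]
    exact Finset.prod_eq_zero (Finset.mem_erase.mpr ⟨hij.symm, Finset.mem_univ j⟩) (ht2 i j hij)
  have he3 : ∀ i j, i ≠ j → e i ∈ q j := by
    intro i j hij
    by_contra h
    have h1 : IsUnit (algebraMap R (Localization.AtPrime (q j)) (e i)) :=
      IsLocalization.map_units (M := (q j).primeCompl) _ ⟨e i, h⟩
    rw [he2 i j hij] at h1
    exact not_isUnit_zero h1
  -- a sum `∑ e i * c i` with `c i ∉ q i` is a nonzerodivisor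
  have hsum : ∀ c : ι → R, ∀ j, algebraMap R (Localization.AtPrime (q j)) (∑ i, e i * c i) =
      algebraMap R (Localization.AtPrime (q j)) (e j) * algebraMap R (Localization.AtPrime (q j)) (c j) := by
    intro c j
    rw [map_sum, Finset.sum_eq_single j, map_mul]
    · intro i _ hij
      rw [map_mul, he2 i j hij, zero_mul]
    · intro h
      exact (h (Finset.mem_univ j)).elim
  have hnzd : ∀ c : ι → R, (∀ i, c i ∉ q i) → (∑ i, e i * c i) ∈ nonZeroDivisors R := by
    intro c hc
    rw [hzd]
    intro j hj
    rw [← Finset.add_sum_erase _ _ (Finset.mem_univ j)] at hj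
    have h2 : (∑ i ∈ Finset.univ.erase j, e i * c i) ∈ q j :=
      Submodule.sum_mem _ fun i hi => (q j).mul_mem_right _ (he3 i j (Finset.ne_of_mem_erase hi))
    have h3 : e j * c j ∈ q j := by
      have := (q j).sub_mem hj h2
      rwa [add_sub_cancel_right] at this
    exact ((inferInstance : (q j).IsPrime).mem_or_mem h3).elim (he1 j) (hc j)
  rw [isLocalization_iff]
  refine ⟨fun y => ?_, fun z => ?_, fun {x y} hxy => ?_⟩
  · rw [Pi.isUnit_iff]
    intro i
    exact IsLocalization.map_units (M := (q i).primeCompl) (Localization.AtPrime (q i))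
      ⟨y, (hzd y).mp y.2 i⟩
  · have hz : ∀ i, ∃ x : R × (q i).primeCompl,
        z i * algebraMap R (Localization.AtPrime (q i)) x.2 = algebraMap R _ x.1 := fun i =>
      IsLocalization.surj (q i).primeCompl (z i)
    choose w hw using hz
    refine ⟨(∑ i, e i * (w i).1, ⟨∑ i, e i * ((w i).2 : R), hnzd _ fun i => (w i).2.2⟩), ?_⟩
    funext j
    rw [Pi.mul_apply, Pi.algebraMap_apply, Pi.algebraMap_apply, hsum, hsum, ← hw j]
    ring
  · have h1 : ∀ i, ∃ c : (q i).primeCompl, (c : R) * x = c * y := by
      intro i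
      have := congrFun hxy i
      rw [Pi.algebraMap_apply, Pi.algebraMap_apply] at this
      exact IsLocalization.exists_of_eq (M := (q i).primeCompl) this
    choose c hc using h1
    refine ⟨⟨∑ i, e i * (c i : R), hnzd _ fun i => (c i).2⟩, ?_⟩
    rw [Finset.sum_mul, Finset.sum_mul]
    refine Finset.sum_congr rfl fun i _ => ?_
    rw [mul_assoc, hc i, mul_assoc]

end Groth.Agent.S6294
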