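import Groth.Statements.S6295
import Mathlib.RingTheory.KrullDimension.Zero
import Mathlib.RingTheory.Ideal.MinimalPrime.Localization
import Mathlib.RingTheory.Localization.AtPrime.Basic
import Mathlib.RingTheory.Nilpotent.Lemmas
import Mathlib.RingTheory.LocalProperties.Reduced

set_option autoImplicit false
universe u
open CAlg

namespace Groth.Agent.S6295

/-- Let R be a reduced ring. Then every localization R_p at a minimal prime p is a field and the map R →
∏_{p minimal} R_p is injective (so R is a subring of a product of fields); moreover the set of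
zerodivisors of R is the union of the minimal primes. -/
theorem result (R : Type u) [CommRing R] [IsReduced R] : (∀ p : PrimeSpectrum R, p.asIdeal ∈ minimalPrimes R → IsField (Localization.AtPrime p.asIdeal)) ∧ Function.Injective (algebraMap R (∀ p : {p : PrimeSpectrum R // p.asIdeal ∈ minimalPrimes R}, Localization.AtPrime p.1.asIdeal)) ∧ (∀ x : R, x ∉ nonZeroDivisors R ↔ ∃ p ∈ minimalPrimes R, x ∈ p) := by
  have hinj : Function.Injective (algebraMap R (∀ p : {p : PrimeSpectrum R // p.asIdeal ∈ minimalPrimes R}, Localization.AtPrime p.1.asIdeal)) := by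
    rw [injective_iff_map_eq_zero]
    intro x hx
    have h1 : x ∈ sInf (Ideal.minimalPrimes (⊥ : Ideal R)) := by
      rw [Ideal.mem_sInf]
      intro p hp
      have : p.IsPrime := Ideal.minimalPrimes_isPrime hp
      have h2 := congrFun hx ⟨⟨p, this⟩, hp⟩
      rw [Pi.algebraMap_apply, Pi.zero_apply,
        IsLocalization.map_eq_zero_iff (Ideal.primeCompl p) (Localization.AtPrime p)] at h2
      obtain ⟨⟨s, hs⟩, h3⟩ := h2
      have h4 : s * x ∈ p := by
        rw [show s * x = 0 from h3]
        exact p.zero_mem
      exact (this.mem_or_mem h4).resolve_left hs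
    rw [Ideal.sInf_minimalPrimes] at h1
    have h3 : x ∈ nilradical R := h1
    rw [nilradical_eq_zero] at h3
    simpa using h3
  refine ⟨fun p hp => ?_, hinj, fun x => ?_⟩
  · have := Ring.KrullDimLE.of_isLocalization p.asIdeal hp (Localization.AtPrime p.asIdeal)
    have : IsReduced (Localization.AtPrime p.asIdeal) :=
      isReduced_localizationPreserves p.asIdeal.primeCompl _ inferInstance
    exact Ring.KrullDimLE.isField_of_isReduced
  · have h := Set.ext_iff.mp (Ideal.iUnion_minimalPrimes (I := (⊥ : Ideal R))) x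
    have h0 : (⊥ : Ideal R).radical = ⊥ := nilradical_eq_zero R
    rw [h0] at h
    have h1 : (∃ p ∈ minimalPrimes R, x ∈ p) ↔ ∃ y ∉ (⊥ : Ideal R), x * y ∈ (⊥ : Ideal R) := by
      have h' : x ∈ (⋃ p ∈ Ideal.minimalPrimes (⊥ : Ideal R), (p : Set R)) ↔
        ∃ y ∉ (⊥ : Ideal R), x * y ∈ (⊥ : Ideal R) := h
      rw [← h', Set.mem_iUnion₂]
      simp only [SetLike.mem_coe, exists_prop]
    rw [h1, mem_nonZeroDivisors_iff_right]
    push Not
    simp only [Ideal.mem_bot]
    constructor
    · rintro ⟨y, hy, hy0⟩
      exact ⟨y, hy0, by rw [mul_comm]; exact hy⟩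
    · rintro ⟨y, hy, hy0⟩
      exact ⟨y, by rw [mul_comm]; exact hy0, hy⟩

end Groth.Agent.S6295
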