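import Groth.Statements.S6297
import Groth.Agent.CalgB.Minors
import Mathlib.LinearAlgebra.Matrix.Adjugate

set_option autoImplicit false
universe u
open CAlg

namespace Groth.Agent.S6297

/-- Let R be a ring, m ≤ n, A an n × m matrix over R and J the ideal generated by the m × m minors of A.
(1) For every f ∈ J there is an m × n matrix B with BA = f · 1. (2) If BA = f · 1 for some m × n
matrix B, then f^m ∈ J. -/
theorem result {R : Type u} [CommRing R] {n m : ℕ} (hmn : m ≤ n) (A : Matrix (Fin n) (Fin m) R) : (∀ f ∈ CAlgX.minorIdeal A m, ∃ B : Matrix (Fin m) (Fin n) R, B * A = f • (1 : Matrix (Fin m) (Fin m) R)) ∧ (∀ (f : R) (B : Matrix (Fin m) (Fin n) R), B * A = f • (1 : Matrix (Fin m) (Fin m) R) → f ^ m ∈ CAlgX.minorIdeal A m) := by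
  refine ⟨fun f hf => ?_, fun f B hB => ?_⟩
  · let J' : Ideal R :=
      { carrier := {f | ∃ B : Matrix (Fin m) (Fin n) R, B * A = f • (1 : Matrix (Fin m) (Fin m) R)}
        add_mem' := by
          rintro a b ⟨B, hB⟩ ⟨C, hC⟩
          exact ⟨B + C, by rw [Matrix.add_mul, hB, hC, add_smul]⟩
        zero_mem' := ⟨0, by simp⟩
        smul_mem' := by
          rintro c a ⟨B, hB⟩
          exact ⟨c • B, by rw [Matrix.smul_mul, hB, smul_smul, smul_eq_mul]⟩ }
    have hle : CAlgX.minorIdeal A m ≤ J' := by
      rw [Groth.Agent.CalgB.Minors.minorIdeal_le_iff]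
      intro g h
      by_cases hh : Function.Injective h
      · have hb : Function.Bijective h := Finite.injective_iff_bijective.mp hh
        let e : Equiv.Perm (Fin m) := Equiv.ofBijective h hb
        have h1 : A.submatrix g h = (A.submatrix g id).submatrix id e := rfl
        rw [h1, Matrix.det_permute']
        refine J'.mul_mem_left _ ?_
        refine ⟨(A.submatrix g id).adjugate * (1 : Matrix (Fin n) (Fin n) R).submatrix g id, ?_⟩
        rw [Matrix.mul_assoc]
        have h2 : (1 : Matrix (Fin n) (Fin n) R).submatrix g id * A = A.submatrix g id := by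
          ext i j
          simp [Matrix.mul_apply, Matrix.one_apply]
        rw [h2, Matrix.adjugate_mul]
      · have : (A.submatrix g h).det = 0 := by
          rw [Function.Injective] at hh
          push Not at hh
          obtain ⟨a, b, hab, hne⟩ := hh
          exact Matrix.det_zero_of_column_eq hne fun i => by simp [hab]
        rw [this]
        exact J'.zero_mem
    exact hle hf
  · have h1 : (B * A).det = f ^ m := by
      rw [hB, Matrix.det_smul, Matrix.det_one, mul_one, Fintype.card_fin]
    rw [← h1]
    apply Groth.Agent.CalgB.Minors.minorIdeal_mul_le_right B A m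
    exact Groth.Agent.CalgB.Minors.det_mem_minorIdeal (B * A) id id

end Groth.Agent.S6297
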