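import Groth.Statements.S6298
import Mathlib.RingTheory.Ideal.Operations
import Mathlib.Data.Fintype.Card

set_option autoImplicit false
universe u
open CAlg

namespace Groth.Agent.S6298

/-- Coset prime avoidance for a finite set of primes. -/
theorem aux {R : Type u} [CommRing R] (x : R) (I : Ideal R) (T : Finset (Ideal R)) :
    (∀ P ∈ T, P.IsPrime) → (∀ P ∈ T, ∃ y ∈ I, x + y ∉ P) → ∃ y ∈ I, ∀ P ∈ T, x + y ∉ P := by
  classical
  induction T using Finset.strongInduction with
  | H T ih =>
    intro hp h
    by_cases hT : ∃ P ∈ T, ∃ Q ∈ T, P ≠ Q ∧ P ≤ Q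
    · obtain ⟨P, hP, Q, hQ, hPQ, hle⟩ := hT
      obtain ⟨y, hy, hy'⟩ := ih (T.erase P) (Finset.erase_ssubset hP)
        (fun P' hP' => hp P' (Finset.mem_of_mem_erase hP'))
        (fun P' hP' => h P' (Finset.mem_of_mem_erase hP'))
      refine ⟨y, hy, fun P' hP' => ?_⟩
      by_cases hPP : P' = P
      · subst hPP
        exact fun h' => hy' Q (Finset.mem_erase.mpr ⟨hPQ.symm, hQ⟩) (hle h')
      · exact hy' P' (Finset.mem_erase.mpr ⟨hPP, hP'⟩)
    · push Not at hT
      rcases T.eq_empty_or_nonempty with rfl | ⟨P, hP⟩
      · exact ⟨0, I.zero_mem, by simp⟩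
      · obtain ⟨y, hy, hy'⟩ := ih (T.erase P) (Finset.erase_ssubset hP)
          (fun P' hP' => hp P' (Finset.mem_of_mem_erase hP'))
          (fun P' hP' => h P' (Finset.mem_of_mem_erase hP'))
        by_cases hxy : x + y ∈ P
        · have hPp := hp P hP
          -- I * ∏ others not contained in P
          have hIP : ¬ I ≤ P := by
            intro hle
            obtain ⟨z, hz, hz'⟩ := h P hP
            apply hz'
            have : x + z = (x + y) + (z - y) := by ring
            rw [this]
            exact P.add_mem hxy (hle (I.sub_mem hz hy))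
          have hnot : ¬ (I * ∏ Q ∈ T.erase P, Q) ≤ P := by
            rw [hPp.mul_le]
            rintro (h1 | h1)
            · exact hIP h1
            · rw [hPp.prod_le] at h1
              obtain ⟨Q, hQ, hQP⟩ := h1
              exact hT Q (Finset.mem_of_mem_erase hQ) P hP (Finset.ne_of_mem_erase hQ) hQP
          obtain ⟨z, hz, hzP⟩ := SetLike.not_le_iff_exists.mp hnot
          refine ⟨y + z, I.add_mem hy ((Ideal.mul_le_left : I * (∏ Q ∈ T.erase P, Q) ≤ I) hz), fun Q hQ => ?_⟩
          by_cases hQP : Q = P
          · subst hQP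
            intro h'
            apply hzP
            have : z = (x + (y + z)) - (x + y) := by ring
            rw [this]
            exact Q.sub_mem h' hxy
          · intro h'
            have hQ' : Q ∈ T.erase P := Finset.mem_erase.mpr ⟨hQP, hQ⟩
            apply hy' Q hQ'
            have hzQ : z ∈ Q := by
              have h2 : z ∈ ∏ Q ∈ T.erase P, Q :=
                (Ideal.mul_le_right : I * (∏ Q ∈ T.erase P, Q) ≤ ∏ Q ∈ T.erase P, Q) hz
              have h3 : (∏ Q ∈ T.erase P, Q) ≤ Q := by
                refine le_trans Ideal.prod_le_inf ?_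
                exact Finset.inf_le hQ'
              exact h3 h2
            have : x + y = (x + (y + z)) - z := by ring
            rw [this]
            exact Q.sub_mem h' hzQ
        · refine ⟨y, hy, fun Q hQ => ?_⟩
          by_cases hQP : Q = P
          · subst hQP
            exact hxy
          · exact hy' Q (Finset.mem_erase.mpr ⟨hQP, hQ⟩)

/-- Let R be a ring, x ∈ R, I ⊆ R an ideal and p₁, …, p_r prime ideals such that for each i the coset x
+ I is not contained in p_i. Then there is y ∈ I with x + y ∉ p_i for all i. -/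
theorem result {R : Type u} [CommRing R] (x : R) (I : Ideal R) {r : ℕ} (p : Fin r → Ideal R) [∀ i, (p i).IsPrime] (h : ∀ i, ∃ y ∈ I, x + y ∉ p i) : ∃ y ∈ I, ∀ i, x + y ∉ p i := by
  classical
  obtain ⟨y, hy, hy'⟩ := aux x I (Finset.univ.image p)
    (by simp only [Finset.mem_image, Finset.mem_univ, true_and]; rintro _ ⟨i, rfl⟩; infer_instance)
    (by simp only [Finset.mem_image, Finset.mem_univ, true_and]; rintro _ ⟨i, rfl⟩; exact h i)
  exact ⟨y, hy, fun i => hy' _ (Finset.mem_image_of_mem p (Finset.mem_univ i))⟩

end Groth.Agent.S6298
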