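import Groth.Statements.S6301
import Groth.Agent.CAlg.K60.FlatPure
import Groth.Agent.PureExt.K571.Lift

set_option autoImplicit false
universe u
open CAlg

namespace Groth.Agent.S6301

/-- An R-module M is flat exactly when, for every finitely presented R-module P and every surjective
R-module map N → M, the induced map Hom_R(P, N) → Hom_R(P, M) is surjective (modules P, N taken in
the same universe). -/
theorem result {R : Type u} [CommRing R] (M : Type u) [AddCommGroup M] [Module R M] : Module.Flat R M ↔ ∀ (P : Type u) [AddCommGroup P] [Module R P], Module.FinitePresentation R P → ∀ (N : Type u) [AddCommGroup N] [Module R N] (g : N →ₗ[R] M), Function.Surjective g → ∀ h : P →ₗ[R] M, ∃ h' : P →ₗ[R] N, g.comp h' = h := by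
  constructor
  · intro hM P _ _ _ N _ _ g hg h
    refine K571.PureLift.pureProj_of_finitePresentation P g hg ?_ h
    intro Q _ _
    exact Groth.Agent.Divis.FlatExt.rTensor_injective_of_flat
      (LinearMap.ker g).injective_subtype
      (by rw [LinearMap.exact_iff, Submodule.range_subtype]) hg Q
  · intro h
    let g : (M →₀ R) →ₗ[R] M := Finsupp.linearCombination R id
    have hg : Function.Surjective g := Finsupp.linearCombination_id_surjective R M
    have hfg : Function.Exact (LinearMap.ker g).subtype g := by
      rw [LinearMap.exact_iff, Submodule.range_subtype]
    refine K60.FlatPure.flat_coker (L := LinearMap.ker g) (M := M →₀ R) (C := M) (LinearMap.ker g).subtype g ?_ hfg hg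
    refine K571.PureLift.universallyInjective_ker_of_lift g fun n K hK φ => ?_
    haveI : Module.FinitePresentation R ((Fin n → R) ⧸ K) :=
      Module.finitePresentation_of_surjective K.mkQ K.mkQ_surjective (by simpa using hK)
    exact h _ inferInstance _ g hg φ

end Groth.Agent.S6301
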