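import Groth.Statements.S6303
import Mathlib.RingTheory.Flat.Basic
import Mathlib.LinearAlgebra.TensorProduct.RightExactness
import Mathlib.RingTheory.Ideal.Quotient.Operations
import Mathlib.LinearAlgebra.TensorProduct.Quotient
import Mathlib.LinearAlgebra.Prod

set_option autoImplicit false
universe u
open CAlg

namespace Groth.Agent.S6303

open TensorProduct in
/-- `1 ⊗ n = 0` in `R/J ⊗ N` if and only if `n ∈ J N`. -/
theorem one_tmul_quot_eq_zero_iff {R : Type u} [CommRing R] {N : Type u} [AddCommGroup N] [Module R N]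
    (J : Ideal R) (n : N) :
    (1 : R ⧸ J) ⊗ₜ[R] n = 0 ↔ n ∈ (J • ⊤ : Submodule R N) := by
  rw [← (TensorProduct.quotTensorEquivQuotSMul N J).map_eq_zero_iff]
  rw [← Submodule.Quotient.mk_eq_zero, TensorProduct.quotTensorEquivQuotSMul_mk_one_tmul]

open TensorProduct in
theorem mem_inf_smul_top {R : Type u} [CommRing R] {N : Type u} [AddCommGroup N] [Module R N]
    [Module.Flat R N] (J₁ J₂ : Ideal R) {n : N} (h₁ : n ∈ (J₁ • ⊤ : Submodule R N))
    (h₂ : n ∈ (J₂ • ⊤ : Submodule R N)) : n ∈ ((J₁ ⊓ J₂) • ⊤ : Submodule R N) := by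
  rw [← one_tmul_quot_eq_zero_iff] at h₁ h₂ ⊢
  let f : R ⧸ (J₁ ⊓ J₂) →ₐ[R] (R ⧸ J₁) × (R ⧸ J₂) :=
    AlgHom.prod (Ideal.Quotient.factorₐ R inf_le_left) (Ideal.Quotient.factorₐ R inf_le_right)
  have hf : Function.Injective f.toLinearMap := by
    rw [injective_iff_map_eq_zero]
    intro x hx
    obtain ⟨r, rfl⟩ := Ideal.Quotient.mk_surjective x
    have h3 : Ideal.Quotient.mk J₁ r = 0 := congrArg Prod.fst hx
    have h4 : Ideal.Quotient.mk J₂ r = 0 := congrArg Prod.snd hx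
    rw [Ideal.Quotient.eq_zero_iff_mem] at h3 h4 ⊢
    exact ⟨h3, h4⟩
  apply Module.Flat.rTensor_preserves_injective_linearMap (M := N) f.toLinearMap hf
  rw [map_zero, LinearMap.rTensor_tmul]
  have h5 : f.toLinearMap 1 = LinearMap.inl R (R ⧸ J₁) (R ⧸ J₂) 1 + LinearMap.inr R (R ⧸ J₁) (R ⧸ J₂) 1 := by
    change f 1 = _
    rw [map_one]
    simp
    rfl
  rw [h5, TensorProduct.add_tmul]
  have h6 : (LinearMap.inl R (R ⧸ J₁) (R ⧸ J₂) 1) ⊗ₜ[R] n = 0 := by
    have := congrArg ((LinearMap.inl R (R ⧸ J₁) (R ⧸ J₂)).rTensor N) h₁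
    rwa [map_zero, LinearMap.rTensor_tmul] at this
  have h7 : (LinearMap.inr R (R ⧸ J₁) (R ⧸ J₂) 1) ⊗ₜ[R] n = 0 := by
    have := congrArg ((LinearMap.inr R (R ⧸ J₁) (R ⧸ J₂)).rTensor N) h₂
    rwa [map_zero, LinearMap.rTensor_tmul] at this
  rw [h6, h7, add_zero]

/-- Let R be a ring, I, J ⊆ R ideals and M a flat R-module. Then IM ∩ JM = (I ∩ J)M. -/
theorem result {R : Type u} [CommRing R] (I J : Ideal R) (M : Type u) [AddCommGroup M] [Module R M] [Module.Flat R M] : (I • (⊤ : Submodule R M)) ⊓ (J • ⊤) = (I ⊓ J) • (⊤ : Submodule R M) := by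
  apply le_antisymm
  · rintro n ⟨h1, h2⟩
    exact mem_inf_smul_top I J h1 h2
  · exact le_inf (Submodule.smul_mono_left inf_le_left) (Submodule.smul_mono_left inf_le_right)

end Groth.Agent.S6303
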