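import Groth.Statements.S6305
import Groth.Agent.CAlg.K60.FlatPure

set_option autoImplicit false
universe u
open CAlg

namespace Groth.Agent.S6305

/-- An R-module M is flat exactly when every short exact sequence 0 → M₁ → M₂ → M → 0 of R-modules is
universally exact, i.e. its first map M₁ → M₂ is universally injective. -/
theorem result {R : Type u} [CommRing R] (M : Type u) [AddCommGroup M] [Module R M] : Module.Flat R M ↔ ∀ (M₁ M₂ : Type u) [AddCommGroup M₁] [Module R M₁] [AddCommGroup M₂] [Module R M₂] (f : M₁ →ₗ[R] M₂) (g : M₂ →ₗ[R] M), Function.Injective f → Function.Exact f g → Function.Surjective g → CAlgX.UniversallyInjective R f := by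
  constructor
  · intro hM M₁ M₂ _ _ _ _ f g hf hfg hg Q _ _
    exact Groth.Agent.Divis.FlatExt.rTensor_injective_of_flat hf hfg hg Q
  · intro h
    obtain ⟨F, _, _, _, g, hg⟩ : ∃ (F : Type u) (_ : AddCommGroup F) (_ : Module R F)
        (_ : Module.Free R F) (g : F →ₗ[R] M), Function.Surjective g :=
      ⟨M →₀ R, inferInstance, inferInstance, inferInstance, Finsupp.linearCombination R id,
        Finsupp.linearCombination_id_surjective R M⟩
    have hfg : Function.Exact (LinearMap.ker g).subtype g := by
      rw [LinearMap.exact_iff, Submodule.range_subtype]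
    have h1 := h (LinearMap.ker g) F (LinearMap.ker g).subtype g
        (LinearMap.ker g).injective_subtype hfg hg
    exact K60.FlatPure.flat_coker (L := LinearMap.ker g) (M := F) (C := M)
      (LinearMap.ker g).subtype g (fun Q _ _ => h1 Q) hfg hg

end Groth.Agent.S6305
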