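import Groth.Statements.S6306
import Mathlib.RingTheory.Ideal.Prime
import Mathlib.RingTheory.Ideal.Maximal
import Mathlib.RingTheory.Ideal.Maps

set_option autoImplicit false
universe u
open CAlg

namespace Groth.Agent.S6306

/-- Let R be a nonzero ring such that every nonzero prime ideal of R contains a non-zerodivisor. Then R
is a domain. -/
theorem result (R : Type u) [CommRing R] [Nontrivial R] (h : ∀ p : Ideal R, p.IsPrime → p ≠ ⊥ → ∃ x ∈ p, x ∈ nonZeroDivisors R) : IsDomain R := by
  have hd : Disjoint ((⊥ : Ideal R) : Set R) (nonZeroDivisors R : Set R) := by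
    rw [Set.disjoint_left]
    rintro x hx hx'
    have hx0 : x = 0 := by simpa using hx
    subst hx0
    exact zero_notMem_nonZeroDivisors hx'
  obtain ⟨P, hP, -, hPd⟩ := Ideal.exists_le_prime_disjoint ⊥ (nonZeroDivisors R) hd
  by_cases hPb : P = ⊥
  · subst hPb
    exact IsDomain.of_bot_isPrime R
  · obtain ⟨x, hxP, hx⟩ := h P hP hPb
    exact (Set.disjoint_left.mp hPd hxP hx).elim

end Groth.Agent.S6306
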