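import Groth.Statements.S6308
import Mathlib.RingTheory.Support
import Mathlib.RingTheory.Spectrum.Prime.Module
import Mathlib.RingTheory.LocalRing.Module
import Mathlib.LinearAlgebra.TensorProduct.RightExactness

set_option autoImplicit false
universe u
open scoped TensorProduct
open CAlg

namespace Groth.Agent.S6308

theorem surj_lTensor_iff {R : Type u} [CommRing R] {M N K : Type u} [AddCommGroup M] [Module R M]
    [AddCommGroup N] [Module R N] [AddCommGroup K] [Module R K] (φ : M →ₗ[R] N) :
    Function.Surjective (φ.lTensor K) ↔ Subsingleton (K ⊗[R] (N ⧸ LinearMap.range φ)) := by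
  have hex : Function.Exact φ (LinearMap.range φ).mkQ := by
    rw [LinearMap.exact_iff, Submodule.ker_mkQ]
  have hex' := lTensor_exact K hex (Submodule.mkQ_surjective _)
  have hs := LinearMap.lTensor_surjective K (Submodule.mkQ_surjective (LinearMap.range φ))
  constructor
  · intro h
    refine ⟨fun a b => ?_⟩
    have h0 : ∀ c : K ⊗[R] (N ⧸ LinearMap.range φ), c = 0 := by
      intro c
      obtain ⟨x, rfl⟩ := hs c
      exact (hex' x).mpr (h x)
    rw [h0 a, h0 b]
  · intro h x
    exact (hex' x).mp (Subsingleton.elim _ _)

/-- Let R be a ring and φ : M → N a map of R-modules with N finite. For a prime p, the localization φ_p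
: M_p → N_p is surjective if and only if φ ⊗ κ(p) : M ⊗ κ(p) → N ⊗ κ(p) is surjective; the set U of
such primes is open in Spec(R); and for every f ∈ R with D(f) ⊆ U the map M_f → N_f is surjective. -/
theorem result {R : Type u} [CommRing R] {M N : Type u} [AddCommGroup M] [Module R M] [AddCommGroup N] [Module R N] [Module.Finite R N] (φ : M →ₗ[R] N) : (∀ p : PrimeSpectrum R, Function.Surjective (LocalizedModule.map p.asIdeal.primeCompl φ) ↔ Function.Surjective (φ.lTensor p.asIdeal.ResidueField)) ∧ IsOpen {p : PrimeSpectrum R | Function.Surjective (LocalizedModule.map p.asIdeal.primeCompl φ)} ∧ (∀ f : R, (↑(PrimeSpectrum.basicOpen f) : Set (PrimeSpectrum R)) ⊆ {p : PrimeSpectrum R | Function.Surjective (LocalizedModule.map p.asIdeal.primeCompl φ)} → Function.Surjective (LocalizedModule.map (Submonoid.powers f) φ)) := by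
  have h1 : ∀ p : PrimeSpectrum R, Function.Surjective (LocalizedModule.map p.asIdeal.primeCompl φ) ↔
      p ∉ Module.support R (N ⧸ LinearMap.range φ) := by
    intro p
    rw [LinearMap.localizedMap_surjective_iff_subsingleton_localized_coker,
      Module.notMem_support_iff]
  refine ⟨fun p => ?_, ?_, fun f hf => ?_⟩
  · rw [h1, surj_lTensor_iff, Module.mem_support_iff_nontrivial_residueField_tensorProduct,
      not_nontrivial_iff_subsingleton]
  · have : {p : PrimeSpectrum R | Function.Surjective (LocalizedModule.map p.asIdeal.primeCompl φ)} =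
        (Module.support R (N ⧸ LinearMap.range φ))ᶜ := by
      ext p
      exact h1 p
    rw [this]
    exact Module.isClosed_support.isOpen_compl
  · rw [LinearMap.localizedMap_surjective_iff_subsingleton_localized_coker]
    change Subsingleton (LocalizedModule.Away f _)
    rw [LocalizedModule.subsingleton_iff_support_subset]
    intro p hp
    by_contra hpf
    have h2 : p ∈ (↑(PrimeSpectrum.basicOpen f) : Set (PrimeSpectrum R)) := by
      simpa using hpf
    exact (h1 p).mp (hf h2) hp

end Groth.Agent.S6308
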