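import Groth.Statements.S6309
import Groth.Agent.Ega3B.LiftFibre
import Mathlib.RingTheory.LocalProperties.Projective
import Mathlib.RingTheory.Spectrum.Prime.Topology

set_option autoImplicit false
universe u
open scoped TensorProduct
open CAlg

namespace Groth.Agent.S6309

/-- Let R be a ring and φ : P₁ → P₂ a map of finite projective R-modules. The set U of primes p of R
such that φ ⊗ κ(p) is injective is open, and for every f ∈ R with D(f) ⊆ U the map (P₁)_f → (P₂)_f
is injective and Coker(φ)_f is a finite projective module over R_f. -/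
theorem result {R : Type u} [CommRing R] {P₁ P₂ : Type u} [AddCommGroup P₁] [Module R P₁] [AddCommGroup P₂] [Module R P₂] [Module.Finite R P₁] [Module.Projective R P₁] [Module.Finite R P₂] [Module.Projective R P₂] (φ : P₁ →ₗ[R] P₂) : IsOpen {p : PrimeSpectrum R | Function.Injective (φ.lTensor p.asIdeal.ResidueField)} ∧ ∀ f : R, (↑(PrimeSpectrum.basicOpen f) : Set (PrimeSpectrum R)) ⊆ {p : PrimeSpectrum R | Function.Injective (φ.lTensor p.asIdeal.ResidueField)} → Function.Injective (LocalizedModule.map (Submonoid.powers f) φ) ∧ Module.Finite (Localization.Away f) (LocalizedModule (Submonoid.powers f) (P₂ ⧸ LinearMap.range φ)) ∧ Module.Projective (Localization.Away f) (LocalizedModule (Submonoid.powers f) (P₂ ⧸ LinearMap.range φ)) := by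
  -- the ideal of all `s` such that `s • id` factors through `φ`
  let J : Ideal R :=
    { carrier := {s | ∃ r : P₂ →ₗ[R] P₁, r ∘ₗ φ = s • LinearMap.id}
      add_mem' := by
        rintro a b ⟨r, hr⟩ ⟨r', hr'⟩
        exact ⟨r + r', by rw [LinearMap.add_comp, hr, hr', add_smul]⟩
      zero_mem' := ⟨0, by simp⟩
      smul_mem' := by
        rintro c a ⟨r, hr⟩
        exact ⟨c • r, by rw [LinearMap.smul_comp, hr, smul_smul, smul_eq_mul]⟩ }
  have hU : ∀ p : PrimeSpectrum R, Function.Injective (φ.lTensor p.asIdeal.ResidueField) ↔
      ¬ J ≤ p.asIdeal := by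
    intro p
    constructor
    · intro h
      obtain ⟨s, r, hs, hr⟩ := Groth.Agent.Ega3B.LiftFibre.exists_retraction p.asIdeal φ h
      exact fun hle => hs (hle ⟨r, hr⟩)
    · intro h
      obtain ⟨s, ⟨r, hr⟩, hs⟩ := SetLike.not_le_iff_exists.mp h
      have h1 : (r.lTensor p.asIdeal.ResidueField) ∘ₗ (φ.lTensor p.asIdeal.ResidueField) =
          s • LinearMap.id := by
        rw [← LinearMap.lTensor_comp, hr, LinearMap.lTensor_smul, LinearMap.lTensor_id]
      rw [injective_iff_map_eq_zero]
      intro x hx
      have h2 := LinearMap.congr_fun h1 x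
      rw [LinearMap.comp_apply, hx, map_zero, LinearMap.smul_apply, LinearMap.id_apply] at h2
      have h3 : algebraMap R p.asIdeal.ResidueField s ≠ 0 := by
        rwa [Ne, Ideal.algebraMap_residueField_eq_zero]
      have h4 : algebraMap R p.asIdeal.ResidueField s • x = 0 := by
        rw [algebraMap_smul]
        exact h2.symm
      exact (smul_eq_zero.mp h4).resolve_left h3
  refine ⟨?_, fun f hf => ?_⟩
  · have : {p : PrimeSpectrum R | Function.Injective (φ.lTensor p.asIdeal.ResidueField)} =
        (PrimeSpectrum.zeroLocus (J : Set R))ᶜ := by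
      ext p
      rw [Set.mem_setOf_eq, hU p]
      rfl
    rw [this]
    exact (PrimeSpectrum.isClosed_zeroLocus _).isOpen_compl
  · have hrad : f ∈ J.radical := by
      rw [Ideal.radical_eq_sInf, Ideal.mem_sInf]
      rintro p ⟨hp, hp'⟩
      by_contra hpf
      have h2 : (⟨p, hp'⟩ : PrimeSpectrum R) ∈ (↑(PrimeSpectrum.basicOpen f) : Set (PrimeSpectrum R)) := by
        simpa using hpf
      exact (hU ⟨p, hp'⟩).mp (hf h2) hp
    obtain ⟨m, r, hr⟩ := hrad
    let S := Submonoid.powers f
    have hm : f ^ m ∈ S := ⟨m, rfl⟩
    have key : ∀ (X : Type u) [AddCommGroup X] [Module R X] (y : X) (t : S),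
        (Localization.mk 1 (⟨f ^ m, hm⟩ : S) : Localization S) •
          (LocalizedModule.mk (f ^ m • y) t : LocalizedModule S X) = LocalizedModule.mk y t := by
      intro X _ _ y t
      rw [LocalizedModule.mk_smul_mk, one_smul]
      exact LocalizedModule.mk_cancel_common_left ⟨f ^ m, hm⟩ t y
    refine ⟨?_, inferInstance, ?_⟩
    · rw [injective_iff_map_eq_zero]
      intro x hx
      induction x using LocalizedModule.induction_on with
      | _ y t =>
        have h1 := congrArg (LocalizedModule.map S r) hx
        rw [map_zero, LocalizedModule.map_mk, LocalizedModule.map_mk, ← LinearMap.comp_apply, hr,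
          LinearMap.smul_apply, LinearMap.id_apply] at h1
        rw [← key P₁ y t, h1, smul_zero]
    · let σ : (P₂ ⧸ LinearMap.range φ) →ₗ[R] P₂ :=
        (LinearMap.range φ).liftQ (f ^ m • LinearMap.id - φ ∘ₗ r) (by
          rintro _ ⟨x, rfl⟩
          have h1 := LinearMap.congr_fun hr x
          simp only [LinearMap.comp_apply, LinearMap.smul_apply, LinearMap.id_apply] at h1
          simp [h1])
      have hσ : ∀ c, (LinearMap.range φ).mkQ (σ c) = f ^ m • c := by
        intro c
        obtain ⟨c, rfl⟩ := Submodule.mkQ_surjective _ c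
        simp [σ]
      refine Module.Projective.of_split (LocalizedModule.map S σ)
        ((Localization.mk 1 (⟨f ^ m, hm⟩ : S) : Localization S) •
          LocalizedModule.map S (LinearMap.range φ).mkQ) ?_
      ext x
      induction x using LocalizedModule.induction_on with
      | _ y t =>
        rw [LinearMap.comp_apply, LinearMap.smul_apply, LocalizedModule.map_mk,
          LocalizedModule.map_mk, hσ, key, LinearMap.id_apply]

end Groth.Agent.S6309
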