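import Groth.Statements.S6310
import Mathlib.LinearAlgebra.Matrix.Charpoly.LinearMap
import Mathlib.Algebra.Module.LocalizedModule.Submodule
import Mathlib.RingTheory.Support
import Mathlib.Algebra.Polynomial.AlgebraMap

set_option autoImplicit false
universe u
open CAlg

namespace Groth.Agent.S6310

/-- The images of a family generate the localization iff every element has a multiple in the span. -/
theorem span_localized_eq_top_iff {R : Type u} [CommRing R] (S : Submonoid R) {M : Type u}
    [AddCommGroup M] [Module R M] {ι : Type*} (x : ι → M) :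
    Submodule.span (Localization S) (Set.range fun j => LocalizedModule.mkLinearMap S M (x j)) = ⊤ ↔
      ∀ m : M, ∃ s ∈ S, s • m ∈ Submodule.span R (Set.range x) := by
  have h0 : (Set.range fun j => LocalizedModule.mkLinearMap S M (x j)) =
      (LocalizedModule.mkLinearMap S M) '' Set.range x := by
    rw [← Set.range_comp]; rfl
  rw [h0, ← Submodule.localized'_span (Localization S) S (LocalizedModule.mkLinearMap S M)]
  constructor
  · intro h m
    have h1 : LocalizedModule.mkLinearMap S M m ∈ (Submodule.span R (Set.range x)).localized'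
        (Localization S) S (LocalizedModule.mkLinearMap S M) := by
      rw [h]; trivial
    rw [Submodule.mem_localized'] at h1
    obtain ⟨q, hq, s, hs⟩ := h1
    rw [IsLocalizedModule.mk'_eq_iff, Submonoid.smul_def, ← map_smul] at hs
    rw [IsLocalizedModule.eq_iff_exists S] at hs
    obtain ⟨c, hc⟩ := hs
    refine ⟨c * s, S.mul_mem c.2 s.2, ?_⟩
    rw [mul_smul]
    have hc' : (c : R) • q = (c : R) • (s : R) • m := hc
    rw [← hc']
    exact Submodule.smul_mem _ _ hq
  · intro h
    rw [eq_top_iff]
    rintro y -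
    induction y using LocalizedModule.induction_on with
    | _ m t =>
      obtain ⟨s, hs, hm⟩ := h m
      rw [Submodule.mem_localized']
      refine ⟨s • m, hm, ⟨s, hs⟩ * t, ?_⟩
      rw [← IsLocalizedModule.mk_eq_mk']
      exact LocalizedModule.mk_cancel_common_left ⟨s, hs⟩ t m

/-- Let R be a ring, S ⊆ R a multiplicative subset, I ⊆ R an ideal and M a finite R-module. If x₁, …,
x_r ∈ M have images generating S⁻¹(M/IM) as an S⁻¹R-module, then there is f ∈ S + I (f = s + i with
s ∈ S, i ∈ I) such that x₁, …, x_r generate M_f as an R_f-module. -/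
theorem result {R : Type u} [CommRing R] (S : Submonoid R) (I : Ideal R) (M : Type u) [AddCommGroup M] [Module R M] [Module.Finite R M] {r : ℕ} (x : Fin r → M) (hx : Submodule.span (Localization S) (Set.range fun j => LocalizedModule.mkLinearMap S (M ⧸ (I • (⊤ : Submodule R M))) (Submodule.Quotient.mk (x j))) = ⊤) : ∃ (s : R) (i : R), s ∈ S ∧ i ∈ I ∧ Submodule.span (Localization.Away (s + i)) (Set.range fun j => LocalizedModule.mkLinearMap (Submonoid.powers (s + i)) M (x j)) = ⊤ := by
  let Q : Submodule R M := Submodule.span R (Set.range x)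
  -- every element of `C = M / Q` has a multiple in `I C`
  have h1 : ∀ c : M ⧸ Q, ∃ s ∈ S, s • c ∈ I • (⊤ : Submodule R (M ⧸ Q)) := by
    intro c
    obtain ⟨m, rfl⟩ := Submodule.mkQ_surjective _ c
    obtain ⟨s, hs, hm⟩ := (span_localized_eq_top_iff S
      (fun j => (Submodule.Quotient.mk (x j) : M ⧸ (I • (⊤ : Submodule R M))))).mp hx
      (Submodule.Quotient.mk m)
    refine ⟨s, hs, ?_⟩
    have h2 : (Set.range fun j => (Submodule.Quotient.mk (x j) : M ⧸ (I • (⊤ : Submodule R M)))) =
        (I • (⊤ : Submodule R M)).mkQ '' Set.range x := by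
      rw [← Set.range_comp]; rfl
    rw [h2, Submodule.span_image] at hm
    obtain ⟨q, hq, hqm⟩ := hm
    have h3 : s • m - q ∈ I • (⊤ : Submodule R M) := by
      rw [← Submodule.Quotient.mk_eq_zero, Submodule.Quotient.mk_sub, Submodule.Quotient.mk_smul]
      rw [sub_eq_zero]
      exact hqm.symm
    have h4 : Q.mkQ (s • m - q) ∈ I • (⊤ : Submodule R (M ⧸ Q)) := by
      have := Submodule.mem_map_of_mem (f := Q.mkQ) h3
      rw [Submodule.map_smul'', Submodule.map_top, Submodule.range_mkQ] at this
      exact this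
    have h5 : Q.mkQ q = 0 := by
      rw [Submodule.mkQ_apply, Submodule.Quotient.mk_eq_zero]
      exact hq
    rwa [map_sub, h5, sub_zero, map_smul] at h4
  -- a single `s`
  have h2 : ∃ s ∈ S, ∀ c : M ⧸ Q, s • c ∈ I • (⊤ : Submodule R (M ⧸ Q)) := by
    classical
    obtain ⟨T, hT⟩ := (Module.Finite.fg_top : (⊤ : Submodule R (M ⧸ Q)).FG)
    choose g hg hg' using h1
    refine ⟨∏ c ∈ T, g c, Submonoid.prod_mem _ fun c _ => hg c, fun c => ?_⟩
    have hc : c ∈ Submodule.span R (T : Set (M ⧸ Q)) := by rw [hT]; trivial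
    refine Submodule.span_induction ?_ ?_ ?_ ?_ hc
    · intro c hc
      obtain ⟨k, hk⟩ := Finset.dvd_prod_of_mem g hc
      rw [hk, mul_comm, mul_smul]
      exact Submodule.smul_mem _ _ (hg' c)
    · rw [smul_zero]; exact Submodule.zero_mem _
    · intro a b _ _ ha hb
      rw [smul_add]; exact Submodule.add_mem _ ha hb
    · intro r a _ ha
      rw [smul_comm]; exact Submodule.smul_mem _ _ ha
  obtain ⟨s, hs, hsc⟩ := h2
  -- Cayley-Hamilton
  obtain ⟨p, hp, -, hpc, hp0⟩ :=
    LinearMap.exists_monic_and_natDegree_eq_and_coeff_mem_pow_and_aeval_eq_zero R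
      (algebraMap R (Module.End R (M ⧸ Q)) s) I (by
        rintro _ ⟨c, rfl⟩
        rw [Module.algebraMap_end_apply]
        exact hsc c)
  rw [Polynomial.aeval_algebraMap_apply_eq_algebraMap_eval] at hp0
  let n := p.natDegree
  have hev : p.eval s = s ^ n + ∑ k ∈ Finset.range n, p.coeff k * s ^ k := by
    rw [Polynomial.eval_eq_sum_range, Finset.sum_range_succ, add_comm, Polynomial.Monic.coeff_natDegree hp,
      one_mul]
  have hi : (∑ k ∈ Finset.range n, p.coeff k * s ^ k) ∈ I := by
    refine Submodule.sum_mem _ fun k hk => I.mul_mem_right _ ?_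
    have hlt : k < n := Finset.mem_range.mp hk
    exact Ideal.pow_le_self (Nat.sub_ne_zero_of_lt hlt) (hpc k)
  refine ⟨s ^ n, ∑ k ∈ Finset.range n, p.coeff k * s ^ k, S.pow_mem hs n, hi, ?_⟩
  rw [span_localized_eq_top_iff, ← hev]
  intro m
  refine ⟨p.eval s, Submonoid.mem_powers _, ?_⟩
  have h6 := LinearMap.congr_fun hp0 (Q.mkQ m)
  rw [Module.algebraMap_end_apply, LinearMap.zero_apply, ← map_smul, Submodule.mkQ_apply,
    Submodule.Quotient.mk_eq_zero] at h6
  exact h6

end Groth.Agent.S6310
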