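import Groth.Statements.S6311
import Groth.Agent.Sga67.K0Basic
import Mathlib.Algebra.Category.ModuleCat.Free
import Mathlib.RingTheory.LocalRing.Module
import Mathlib.LinearAlgebra.Dimension.StrongRankCondition

set_option autoImplicit false
universe u
open CategoryTheory
open CAlg

namespace Groth.Agent.S6311

open Groth.Agent.Sga67.K0Basic Limits

variable {R : Type u} [CommRing R]

theorem mk_shortExact {M₁ M₂ M₃ : Type u} [AddCommGroup M₁] [Module R M₁] [AddCommGroup M₂]
    [Module R M₂] [AddCommGroup M₃] [Module R M₃] (f : M₁ →ₗ[R] M₂) (g : M₂ →ₗ[R] M₃)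
    (hf : Function.Injective f)
    (h : Function.Exact f g) (hg : Function.Surjective g) :
    (ShortComplex.mk (ModuleCat.ofHom f) (ModuleCat.ofHom g)
      (by rw [← ModuleCat.ofHom_comp, h.linearMap_comp_eq_zero]; rfl) :
        ShortComplex (ModuleCat.{u} R)).ShortExact := by
  have : Mono (ModuleCat.ofHom f) := (ModuleCat.mono_iff_injective _).2 hf
  have : Epi (ModuleCat.ofHom g) := (ModuleCat.epi_iff_surjective _).2 hg
  exact { exact := (ShortComplex.ShortExact.moduleCat_exact_iff_function_exact _).2 h }

/-- The inclusion `R ^ n → R ^ (n + 1)` forgetting the zeroth coordinate. -/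
def consMap (n : ℕ) : (Fin n → R) →ₗ[R] (Fin (n + 1) → R) where
  toFun x := Fin.cons 0 x
  map_add' x y := by
    funext i
    refine Fin.cases ?_ (fun i => ?_) i <;> simp
  map_smul' r x := by
    funext i
    refine Fin.cases ?_ (fun i => ?_) i <;> simp

theorem exact_consMap (n : ℕ) : Function.Exact (consMap (R := R) n)
    (LinearMap.proj 0 : (Fin (n + 1) → R) →ₗ[R] R) := by
  intro y
  constructor
  · intro hy
    refine ⟨fun i => y i.succ, ?_⟩
    funext i
    refine Fin.cases ?_ (fun i => ?_) i
    · exact hy.symm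
    · rfl
  · rintro ⟨x, rfl⟩
    rfl

abbrev PP (R : Type u) [CommRing R] : ObjectProperty (ModuleCat.{u} R) :=
  fun M => Module.Finite R M ∧ Module.Projective R M

theorem pp_fin (n : ℕ) : PP R (ModuleCat.of R (Fin n → R)) :=
  ⟨inferInstanceAs (Module.Finite R (Fin n → R)), inferInstanceAs (Module.Projective R (Fin n → R))⟩

theorem pp_self : PP R (ModuleCat.of R R) :=
  ⟨inferInstanceAs (Module.Finite R R), inferInstanceAs (Module.Projective R R)⟩

/-- The class of `R ^ n` is `n • [R]`. -/
theorem clSub_fin (n : ℕ) :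
    KZero.clSub (PP R) (ModuleCat.of R (Fin n → R)) = n • KZero.clSub (PP R) (ModuleCat.of R R) := by
  induction n with
  | zero =>
    rw [zero_smul]
    exact clSub_of_isZero (ModuleCat.isZero_of_subsingleton _)
  | succ n ih =>
    have h := mk_shortExact (R := R) (consMap n) (LinearMap.proj 0)
      (by
        intro x y hxy
        funext i
        exact congrFun hxy i.succ) (exact_consMap n) (LinearMap.proj_surjective 0)
    have h1 := clSub_of_shortExact (P := PP R) _ h (pp_fin n) (pp_fin (n + 1)) pp_self
    change KZero.clSub (PP R) (ModuleCat.of R (Fin (n + 1) → R)) =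
      KZero.clSub (PP R) (ModuleCat.of R (Fin n → R)) + KZero.clSub (PP R) (ModuleCat.of R R) at h1
    rw [h1, ih, add_smul, one_smul]

theorem free_of_pp [IsLocalRing R] {M : ModuleCat.{u} R} (h : PP R M) : Module.Free R M := by
  have := h.1
  have := h.2
  exact Module.free_of_flat_of_isLocalRing

/-- The rank homomorphism. -/
noncomputable def rk (R : Type u) [CommRing R] [IsLocalRing R] : KZero.K0sub (PP R) →+ ℤ :=
  liftSub (PP R) (fun M => (Module.finrank R M : ℤ)) (by
    intro S hS h₁ h₂ h₃
    have := free_of_pp h₁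
    have := free_of_pp h₃
    have := h₁.1
    have := h₃.1
    rw [ModuleCat.free_shortExact_finrank_add hS rfl rfl]
    push_cast
    rfl)

theorem rk_clSub [IsLocalRing R] {M : ModuleCat.{u} R} (h : PP R M) :
    rk R (KZero.clSub (PP R) M) = Module.finrank R M :=
  liftSub_clSub _ _ h

/-- Let R be a local ring. Then K₀(R), the Grothendieck group of the category of finite projective
R-modules, is isomorphic to ℤ via the rank; precisely, there is an isomorphism K₀(R) ≅ ℤ of abelian
groups sending the class [R] to 1 (such an isomorphism is then unique, K₀(R) being generated by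
[R]). -/
theorem result (R : Type u) [CommRing R] [IsLocalRing R] : ∃ e : KZero.K0sub (fun M : ModuleCat.{u} R => Module.Finite R M ∧ Module.Projective R M) ≃+ ℤ, e (KZero.clSub (fun M : ModuleCat.{u} R => Module.Finite R M ∧ Module.Projective R M) (ModuleCat.of R R)) = 1 := by
  have h1 : rk R (KZero.clSub (PP R) (ModuleCat.of R R)) = 1 := by
    rw [rk_clSub pp_self]
    change ((Module.finrank R R : ℕ) : ℤ) = 1
    rw [Module.finrank_self]
    rfl
  let ψ : ℤ →+ KZero.K0sub (PP R) :=
    (zmultiplesHom _) (KZero.clSub (PP R) (ModuleCat.of R R))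
  have hψ : ∀ n, ψ n = n • KZero.clSub (PP R) (ModuleCat.of R R) := fun n => rfl
  have h2 : ψ.comp (rk R) = AddMonoidHom.id _ := by
    apply hom_ext_sub
    intro M hM
    have := free_of_pp hM
    have := hM.1
    rw [AddMonoidHom.comp_apply, rk_clSub hM, hψ, AddMonoidHom.id_apply, natCast_zsmul, ← clSub_fin]
    let e : M ≅ ModuleCat.of R (Fin (Module.finrank R M) → R) :=
      (Module.finBasis R M).equivFun.toModuleIso
    exact (clSub_iso' e hM (pp_fin _) (ModuleCat.isZero_of_subsingleton (ModuleCat.of R PUnit))
      ⟨inferInstanceAs (Module.Finite R PUnit), inferInstanceAs (Module.Projective R PUnit)⟩).symm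
  refine ⟨AddEquiv.mk ⟨rk R, ψ, fun x => DFunLike.congr_fun h2 x, fun n => ?_⟩ (rk R).map_add, h1⟩
  change rk R (ψ n) = n
  rw [hψ, map_zsmul, h1, smul_eq_mul, mul_one]

end Groth.Agent.S6311
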