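import Groth.Statements.S6312
import Mathlib.RingTheory.Length
import Mathlib.Algebra.Module.LocalizedModule.Submodule

set_option autoImplicit false
universe u
open CAlg

namespace Groth.Agent.S6312

/-- Let R be a ring, M an R-module and S ⊆ R a multiplicative subset. Then length_{S⁻¹R}(S⁻¹M) ≤
length_R(M). -/
theorem result {R : Type u} [CommRing R] (S : Submonoid R) (M : Type u) [AddCommGroup M] [Module R M] : Module.length (Localization S) (LocalizedModule S M) ≤ Module.length R M := by
  rw [← WithBot.coe_le_coe, Module.coe_length, Module.coe_length]
  refine Order.krullDim_le_of_strictMono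
    (fun N : Submodule (Localization S) (LocalizedModule S M) =>
      (N.restrictScalars R).comap (LocalizedModule.mkLinearMap S M)) ?_
  have hmono : Monotone (fun N : Submodule (Localization S) (LocalizedModule S M) =>
      (N.restrictScalars R).comap (LocalizedModule.mkLinearMap S M)) := by
    intro N N' h x hx
    exact h hx
  refine hmono.strictMono_of_injective ?_
  intro N N' h
  have key : ∀ (P Q : Submodule (Localization S) (LocalizedModule S M)),
      (P.restrictScalars R).comap (LocalizedModule.mkLinearMap S M) ≤
      (Q.restrictScalars R).comap (LocalizedModule.mkLinearMap S M) → P ≤ Q := by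
    intro P Q hPQ y hy
    induction y using LocalizedModule.induction_on with
    | _ m s =>
      have h1 : LocalizedModule.mk m s = (Localization.mk 1 s : Localization S) • (LocalizedModule.mk m (1 : S) : LocalizedModule S M) := by
        rw [LocalizedModule.mk_smul_mk, one_smul, mul_one]
      have h2 : (Localization.mk (s : R) 1 : Localization S) • (LocalizedModule.mk m s : LocalizedModule S M) = LocalizedModule.mk m 1 := by
        rw [LocalizedModule.mk_smul_mk, one_mul]
        exact LocalizedModule.mk_cancel s m
      rw [h1]
      refine Q.smul_mem _ (hPQ ?_)
      change LocalizedModule.mk m (1 : S) ∈ P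
      rw [← h2]
      exact P.smul_mem _ hy
  exact le_antisymm (key N N' h.le) (key N' N h.ge)

end Groth.Agent.S6312
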