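import Groth.Statements.S6315
import Groth.Agent.CycA.TorShift
import Mathlib.RingTheory.TensorProduct.Finite

set_option autoImplicit false
universe u
open CategoryTheory
open CAlg

namespace Groth.Agent.S6315

open Groth.Agent.CycA.TorShift TensorProduct in
theorem finite_tor (R : Type u) [CommRing R] [IsNoetherianRing R] (N : Type u)
    [AddCommGroup N] [Module R N] [Module.Finite R N] (p : ℕ) : ∀ (M : Type u) [AddCommGroup M]
    [Module R M] [Module.Finite R M], Module.Finite R (DRing.Tor R p M N) := by
  induction p with
  | zero =>
    intro M _ _ _
    exact Module.Finite.equiv (zeroEquiv R M N).symm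
  | succ p ih =>
    intro M _ _ _
    obtain ⟨n, g, hg⟩ := Module.Finite.exists_fin' R M
    have hex : Function.Exact (LinearMap.ker g).subtype g := by
      rw [LinearMap.exact_iff, Submodule.range_subtype]
    haveI : IsNoetherian R (↥(LinearMap.ker g) ⊗[R] N) :=
      isNoetherian_of_isNoetherianRing_of_finite R (↥(LinearMap.ker g) ⊗[R] N)
    cases p with
    | zero =>
      obtain ⟨e⟩ := shiftL_one (LinearMap.ker g).subtype g (LinearMap.ker g).injective_subtype hex hg N
      exact Module.Finite.equiv e.symm
    | succ p =>
      obtain ⟨e⟩ := shiftL (LinearMap.ker g).subtype g (LinearMap.ker g).injective_subtype hex hg p N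
      have := ih (LinearMap.ker g)
      exact Module.Finite.equiv e.symm

/-- Let R be a Noetherian ring and M, N finite R-modules. Then Tor_pᴿ(M, N) is a finite R-module for all
p. -/
theorem result (R : Type u) [CommRing R] [IsNoetherianRing R] (M N : Type u) [AddCommGroup M] [Module R M] [AddCommGroup N] [Module R N] [Module.Finite R M] [Module.Finite R N] (p : ℕ) : Module.Finite R (((CategoryTheory.Tor (ModuleCat.{u} R) p).obj (ModuleCat.of R M)).obj (ModuleCat.of R N)) := by
  exact finite_tor R N p M

end Groth.Agent.S6315
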