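import Groth.Statements.S6319
import Groth.Agent.Sga67.K0Basic
import Mathlib.RingTheory.Length
import Mathlib.RingTheory.HopkinsLevitzki
import Mathlib.Algebra.Homology.ShortComplex.ModuleCat

set_option autoImplicit false
universe u
open CategoryTheory
open CAlg

namespace Groth.Agent.S6319

/-- Let R be an Artinian local ring. The length function defines a homomorphism of abelian groups
length_R : K'₀(R) → ℤ on the Grothendieck group of finite R-modules, sending the class of a finite
module M to its (finite) length. -/
theorem result (R : Type u) [CommRing R] [IsArtinianRing R] [IsLocalRing R] : ∃ φ : KZero.K0sub (fun M : ModuleCat.{u} R => Module.Finite R M) →+ ℤ, ∀ (M : ModuleCat.{u} R), Module.Finite R M → (φ (KZero.clSub (fun M : ModuleCat.{u} R => Module.Finite R M) M) : ℤ) = (Module.length R M).toNat := by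
  have hfin : ∀ M : ModuleCat.{u} R, Module.Finite R M → Module.length R M ≠ ⊤ := by
    intro M hM
    haveI : IsNoetherian R M := isNoetherian_of_isNoetherianRing_of_finite R M
    haveI : IsArtinian R M := isArtinian_of_fg_of_artinian' 
    exact Module.length_ne_top
  refine ⟨Groth.Agent.Sga67.K0Basic.liftSub _ (fun M => ((Module.length R M).toNat : ℤ)) ?_, ?_⟩
  · intro S hS h₁ h₂ h₃
    have h : Module.length R S.X₂ = Module.length R S.X₁ + Module.length R S.X₃ :=
      Module.length_eq_add_of_exact S.f.hom S.g.hom
        ((ModuleCat.mono_iff_injective _).1 hS.mono_f) ((ModuleCat.epi_iff_surjective _).1 hS.epi_g)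
        ((ShortComplex.ShortExact.moduleCat_exact_iff_function_exact _).1 hS.exact)
    change ((Module.length R S.X₂).toNat : ℤ) = _
    rw [h, ENat.toNat_add (hfin _ h₁) (hfin _ h₃)]
    push_cast
    rfl
  · intro M hM
    exact Groth.Agent.Sga67.K0Basic.liftSub_clSub _ _ hM

end Groth.Agent.S6319
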