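import Groth.Statements.S6321
import Groth.Agent.Ega4B.FlatColim
import Mathlib.RingTheory.RingHom.FaithfullyFlat

set_option autoImplicit false
universe u
open CAlg

namespace Groth.Agent.S6321

/-- Let R be a ring and (Sᵢ, φᵢⱼ) a directed system of faithfully flat R-algebras whose transition maps
are R-algebra maps. Then S = colim Sᵢ is a faithfully flat R-algebra: for any index i the composite
R → Sᵢ → S is faithfully flat. -/
theorem result {R : Type u} [CommRing R] {ι : Type u} [Preorder ι] [Nonempty ι] [IsDirected ι (· ≤ ·)] (G : ι → Type u) [∀ i, CommRing (G i)] [∀ i, Algebra R (G i)] (f : ∀ i j, i ≤ j → G i →+* G j) [DirectedSystem G fun i j h => f i j h] (hcompat : ∀ i j (h : i ≤ j), (f i j h).comp (algebraMap R (G i)) = algebraMap R (G j)) (hff : ∀ i, (algebraMap R (G i)).FaithfullyFlat) (i : ι) : ((Ring.DirectLimit.of G (fun i j h => f i j h) i).comp (algebraMap R (G i))).FaithfullyFlat := by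
  classical
  set g : R →+* Ring.DirectLimit G (fun i j h => f i j h) :=
    (Ring.DirectLimit.of G (fun i j h => f i j h) i).comp (algebraMap R (G i)) with hg
  -- the structure map through any stage above `i`
  have hgj : ∀ (j : ι) (_ : i ≤ j) (r : R),
      g r = Ring.DirectLimit.of G (fun i j h => f i j h) j (algebraMap R (G j) r) := by
    intro j hij r
    rw [← hcompat i j hij, hg, RingHom.comp_apply, RingHom.comp_apply]
    exact (Ring.DirectLimit.of_f (f := fun i j h ↦ f i j h) hij (algebraMap R (G i) r)).symm
  let _ : Algebra R (Ring.DirectLimit G (fun i j h => f i j h)) := g.toAlgebra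
  have hffG : ∀ j, Module.FaithfullyFlat R (G j) := fun j =>
    RingHom.faithfullyFlat_algebraMap_iff.mp (hff j)
  change Module.FaithfullyFlat R (Ring.DirectLimit G (fun i j h => f i j h))
  rw [Module.FaithfullyFlat.iff_flat_and_ideal_smul_eq_top]
  constructor
  · refine Module.Flat.of_forall_isTrivialRelation ?_
    intro l a x hx
    obtain ⟨j, hij, y, hy⟩ := Groth.Agent.Ega4B.FlatColim.exists_of_finite f i x
    have h0 : Ring.DirectLimit.of G (fun i j h ↦ f i j h) j (∑ k, algebraMap R (G j) (a k) * y k)
        = 0 := by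
      rw [map_sum, ← hx]
      refine Finset.sum_congr rfl fun k _ => ?_
      rw [map_mul, hy k, Algebra.smul_def]
      congr 1
      exact (hgj j hij (a k)).symm
    obtain ⟨j', hjj', h1⟩ := Ring.DirectLimit.of.zero_exact (f' := f) h0
    have hij' : i ≤ j' := hij.trans hjj'
    have h2 : ∑ k, a k • (f j j' hjj' (y k)) = 0 := by
      rw [← h1, map_sum]
      refine Finset.sum_congr rfl fun k _ => ?_
      rw [map_mul, Algebra.smul_def]
      congr 1
      exact (RingHom.congr_fun (hcompat j j' hjj') (a k)).symm
    obtain ⟨n, b, z, hz1, hz2⟩ := Module.Flat.isTrivialRelation_of_sum_smul_eq_zero h2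
    refine ⟨n, b, fun s => Ring.DirectLimit.of G (fun i j h ↦ f i j h) j' (z s), fun k => ?_, hz2⟩
    have hz3 : f j j' hjj' (y k) = ∑ s, b k s • z s := hz1 k
    rw [← hy k, ← Ring.DirectLimit.of_f (f := fun i j h ↦ f i j h) hjj' (y k), hz3, map_sum]
    refine Finset.sum_congr rfl fun s _ => ?_
    rw [Algebra.smul_def, Algebra.smul_def, map_mul]
    congr 1
    exact (hgj j' hij' (b k s)).symm
  · intro I hI
    -- `1 = ∑ a_k x_k`
    have h1 : (1 : Ring.DirectLimit G (fun i j h => f i j h)) ∈
        I • (⊤ : Submodule R (Ring.DirectLimit G (fun i j h => f i j h))) := by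
      rw [hI]; trivial
    have hsp : Submodule.span R (Set.range (id : Ring.DirectLimit G (fun i j h => f i j h) →
        Ring.DirectLimit G (fun i j h => f i j h))) = ⊤ := by
      rw [Set.range_id, Submodule.span_univ]
    rw [← hsp, Submodule.mem_ideal_smul_span_iff_exists_sum] at h1
    obtain ⟨b, hb, hbx⟩ := h1
    let a : b.support → R := fun k => b k
    let x : b.support → Ring.DirectLimit G (fun i j h => f i j h) := fun k => k
    have ha : ∀ k, a k ∈ I := fun k => hb _
    have hax : ∑ k, a k • x k = 1 := by
      rw [← hbx, Finsupp.sum]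
      exact Finset.sum_coe_sort b.support (fun k => b k • id k)
    obtain ⟨j, hij, y, hy⟩ := Groth.Agent.Ega4B.FlatColim.exists_of_finite f i x
    have h0 : Ring.DirectLimit.of G (fun i j h ↦ f i j h) j
        (∑ k, algebraMap R (G j) (a k) * y k - 1) = 0 := by
      rw [map_sub, map_one, map_sum, ← hax, sub_eq_zero]
      refine Finset.sum_congr rfl fun k _ => ?_
      rw [map_mul, hy k, Algebra.smul_def]
      congr 1
      exact (hgj j hij (a k)).symm
    obtain ⟨j', hjj', h1⟩ := Ring.DirectLimit.of.zero_exact (f' := f) h0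
    have h2 : (1 : G j') ∈ I • (⊤ : Submodule R (G j')) := by
      rw [map_sub, map_one, sub_eq_zero] at h1
      rw [← h1, map_sum]
      refine Submodule.sum_mem _ (fun k _ => ?_)
      rw [map_mul]
      have : f j j' hjj' (algebraMap R (G j) (a k)) = algebraMap R (G j') (a k) :=
        RingHom.congr_fun (hcompat j j' hjj') (a k)
      rw [this, ← Algebra.smul_def]
      exact Submodule.smul_mem_smul (ha k) trivial
    have h3 : I • (⊤ : Submodule R (G j')) = ⊤ := by
      rw [eq_top_iff]
      intro z _
      have : I • (⊤ : Submodule R (G j')) = (I.map (algebraMap R (G j'))).restrictScalars R :=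
        Ideal.smul_top_eq_map I
      rw [this] at h2 ⊢
      have h4 : I.map (algebraMap R (G j')) = ⊤ := (Ideal.eq_top_iff_one _).mpr h2
      rw [h4]
      trivial
    exact ((Module.FaithfullyFlat.iff_flat_and_ideal_smul_eq_top R (G j')).mp (hffG j')).2 I h3

end Groth.Agent.S6321
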