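import Groth.Statements.S6322
import Groth.Agent.CAlg.K61.LiftCx
import Mathlib.Algebra.Category.ModuleCat.Projective

set_option autoImplicit false
universe u
open CategoryTheory
open CAlg

namespace Groth.Agent.S6322

/-- Let R be a ring, M → N a map of R-modules, N• → N a resolution (a chain complex with a
quasi-isomorphism onto N placed in degree 0) and … → F₁ → F₀ → M a complex with every Fᵢ free (F• a
chain complex with an augmentation to M in degree 0, exactness not required). Then (1) there is a
map of complexes F• → N• compatible with M → N through the augmentations, and (2) any two such maps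
are homotopic. -/
theorem result (R : Type u) [CommRing R] (M N : ModuleCat.{u} R) (g : M ⟶ N) (F Nc : ChainComplex (ModuleCat.{u} R) ℕ) (hF : ∀ i, Module.Free R (F.X i)) (εF : F ⟶ (ChainComplex.single₀ (ModuleCat.{u} R)).obj M) (εN : Nc ⟶ (ChainComplex.single₀ (ModuleCat.{u} R)).obj N) [QuasiIso εN] : (∃ φ : F ⟶ Nc, φ ≫ εN = εF ≫ (ChainComplex.single₀ (ModuleCat.{u} R)).map g) ∧ ∀ α β : F ⟶ Nc, α ≫ εN = εF ≫ (ChainComplex.single₀ (ModuleCat.{u} R)).map g → β ≫ εN = εF ≫ (ChainComplex.single₀ (ModuleCat.{u} R)).map g → Nonempty (Homotopy α β) := by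
  have hP : ∀ i, Projective (F.X i) := fun i =>
    have := hF i
    ModuleCat.projective_of_free (Module.Free.chooseBasis R (F.X i))
  constructor
  · obtain ⟨φ, hφ⟩ := K61.LiftCx.exists_lift εN F
      ((εF ≫ (ChainComplex.single₀ (ModuleCat.{u} R)).map g).f 0)
      (by rw [← HomologicalComplex.Hom.comm, HomologicalComplex.single_obj_d,
        Limits.comp_zero])
    refine ⟨φ, ?_⟩
    ext : 1
    exact hφ
  · intro α β hα hβ
    obtain ⟨h⟩ := K61.LiftCx.homotopy_zero εN F (α - β) (by
      have : (α - β) ≫ εN = 0 := by rw [Preadditive.sub_comp, hα, hβ, sub_self]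
      have h2 := congrArg (fun t => HomologicalComplex.Hom.f t 0) this
      exact h2)
    exact ⟨Homotopy.equivSubZero.invFun h⟩

end Groth.Agent.S6322
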