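import Groth.Statements.S6329
import Groth.Agent.MiscA.LenLocal
import Mathlib.RingTheory.SimpleModule.Basic

set_option autoImplicit false
universe u
open CAlg

namespace Groth.Agent.S6329

theorem step {R : Type u} [CommRing R] {M : Type u} [AddCommGroup M] [Module R M]
    (A B : Submodule R M) (h : A ⋖ B) (m : Ideal R) [m.IsMaximal] [Decidable (A.colon (B : Set M) = m)] :
    Module.length (Localization.AtPrime m) (LocalizedModule m.primeCompl B) =
      Module.length (Localization.AtPrime m) (LocalizedModule m.primeCompl A) +
        (if A.colon (B : Set M) = m then 1 else 0) := by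
  let f : A →ₗ[R] B := Submodule.inclusion h.le
  let K : Submodule R B := A.comap B.subtype
  have hfK : Function.Exact f K.mkQ := by
    intro x
    rw [← LinearMap.mem_ker, Submodule.ker_mkQ]
    constructor
    · intro hx
      exact ⟨⟨x.1, hx⟩, rfl⟩
    · rintro ⟨y, rfl⟩
      exact y.2
  rw [Groth.Agent.MiscA.LenLocal.length_localized_add m.primeCompl f K.mkQ
    (Submodule.inclusion_injective h.le) K.mkQ_surjective hfK]
  congr 1
  have hsimple : IsSimpleModule R (B ⧸ K) := (covBy_iff_quot_is_simple h.le).mp h
  obtain ⟨I, hI, ⟨e⟩⟩ := isSimpleModule_iff_quot_maximal.mp hsimple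
  have hcolon : A.colon (B : Set M) = I := by
    have h1 : Module.annihilator R (B ⧸ K) = I := by
      rw [e.annihilator_eq, Ideal.annihilator_quotient]
    rw [← h1]
    ext r
    rw [Submodule.mem_colon, Module.mem_annihilator]
    constructor
    · intro hr x
      obtain ⟨x, rfl⟩ := K.mkQ_surjective x
      rw [← map_smul, ← LinearMap.mem_ker, Submodule.ker_mkQ]
      exact hr x x.2
    · intro hr x hx
      have := hr (K.mkQ ⟨x, hx⟩)
      rw [← map_smul, ← LinearMap.mem_ker, Submodule.ker_mkQ] at this
      exact this
  rw [Groth.Agent.MiscA.LenLocal.length_localized_congr m.primeCompl e]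
  split_ifs with hIm
  · have hIm' : I = m := hcolon.symm.trans hIm
    subst hIm'
    exact Groth.Agent.MiscA.LenLocal.length_localized_quotient_self I
  · refine Groth.Agent.MiscA.LenLocal.length_localized_quotient_of_not_le m I (fun hle => hIm ?_)
    rw [hcolon]
    exact hI.eq_of_le (Ideal.IsMaximal.ne_top inferInstance) hle

/-- Let R be a ring, M an R-module and 0 = M₀ ⊂ M₁ ⊂ … ⊂ Mₙ = M a maximal chain of submodules (a
composition series; each Mᵢ/Mᵢ₋₁ is simple, of the form R/mᵢ with mᵢ = (Mᵢ₋₁ : Mᵢ) maximal). Then
for every maximal ideal m of R the number of indices i with mᵢ = m equals length_{R_m}(M_m). -/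
theorem result {R : Type u} [CommRing R] (M : Type u) [AddCommGroup M] [Module R M] (s : CompositionSeries (Submodule R M)) (h0 : s.head = ⊥) (h1 : s.last = ⊤) (m : Ideal R) [m.IsMaximal] : ((Finset.univ.filter fun i : Fin s.length => (s i.castSucc).colon (s i.succ : Set M) = m).card : ℕ∞) = Module.length (Localization.AtPrime m) (LocalizedModule m.primeCompl M) := by
  classical
  have key : ∀ i : Fin (s.length + 1),
      (((Finset.univ.filter fun j : Fin s.length => j.castSucc < i ∧
        (s j.castSucc).colon (s j.succ : Set M) = m).card : ℕ∞)) =
        Module.length (Localization.AtPrime m) (LocalizedModule m.primeCompl (s i)) := by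
    intro i
    induction i using Fin.induction with
    | zero =>
      have h1 : s 0 = ⊥ := h0
      rw [h1]
      have h2 : Subsingleton (LocalizedModule m.primeCompl (⊥ : Submodule R M)) := by
        rw [LocalizedModule.subsingleton_iff]
        exact fun x => ⟨1, m.primeCompl.one_mem, by rw [one_smul]; exact Subsingleton.elim _ _⟩
      rw [Module.length_eq_zero]
      simp
    | succ i ih =>
      rw [step (s i.castSucc) (s i.succ) (s.step i) m, ← ih]
      have h1 : (Finset.univ.filter fun j : Fin s.length => j.castSucc < i.succ ∧
          (s j.castSucc).colon (s j.succ : Set M) = m) =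
          (Finset.univ.filter fun j : Fin s.length => j.castSucc < i.castSucc ∧
            (s j.castSucc).colon (s j.succ : Set M) = m) ∪
          (if (s i.castSucc).colon (s i.succ : Set M) = m then {i} else ∅) := by
        ext j
        simp only [Finset.mem_union, Finset.mem_filter, Finset.mem_univ, true_and]
        have h2 : j.castSucc < i.succ ↔ j.castSucc < i.castSucc ∨ j = i := by
          simp only [Fin.lt_def, Fin.val_castSucc, Fin.val_succ, Fin.ext_iff]
          omega
        rw [h2]
        constructor
        · rintro ⟨hj | rfl, hj2⟩
          · exact Or.inl ⟨hj, hj2⟩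
          · right
            rw [if_pos hj2]
            simp
        · rintro (⟨hj, hj2⟩ | hj)
          · exact ⟨Or.inl hj, hj2⟩
          · split_ifs at hj with hc
            · have : j = i := by simpa using hj
              subst this
              exact ⟨Or.inr rfl, hc⟩
            · simp at hj
      have hdisj : Disjoint (Finset.univ.filter fun j : Fin s.length => j.castSucc < i.castSucc ∧
            (s j.castSucc).colon (s j.succ : Set M) = m)
          (if (s i.castSucc).colon (s i.succ : Set M) = m then {i} else ∅) := by
        split_ifs
        · rw [Finset.disjoint_singleton_right]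
          simp
        · exact Finset.disjoint_empty_right _
      rw [h1, Finset.card_union_of_disjoint hdisj, Nat.cast_add]
      congr 1
      split_ifs <;> simp
  have hlast := key (Fin.last s.length)
  have h2 : s (Fin.last s.length) = ⊤ := h1
  rw [h2, Groth.Agent.MiscA.LenLocal.length_localized_congr m.primeCompl
    (Submodule.topEquiv : (⊤ : Submodule R M) ≃ₗ[R] M)] at hlast
  rw [← hlast]
  congr 2
  ext j
  simp [Fin.castSucc_lt_last]

end Groth.Agent.S6329
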