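import Groth.Statements.S6330
import Mathlib.RingTheory.Support
import Mathlib.RingTheory.LocalRing.Module
import Mathlib.RingTheory.Spectrum.Prime.Module
import Mathlib.Algebra.Module.LocalizedModule.Exact
import Mathlib.LinearAlgebra.TensorProduct.RightExactness
import Mathlib.RingTheory.Localization.Finiteness
import Mathlib.RingTheory.LocalProperties.Projective

set_option autoImplicit false
universe u
open scoped TensorProduct
open CAlg

namespace Groth.Agent.S6330

/-- Surjectivity on the fibre is non-membership in the support of the cokernel. -/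
theorem surjective_iff {R : Type u} [CommRing R] {P₁ P₂ : Type u} [AddCommGroup P₁] [Module R P₁]
    [AddCommGroup P₂] [Module R P₂] [Module.Finite R P₂] (φ : P₁ →ₗ[R] P₂) (p : PrimeSpectrum R) :
    Function.Surjective (φ.lTensor p.asIdeal.ResidueField) ↔
      p ∉ Module.support R (P₂ ⧸ LinearMap.range φ) := by
  rw [Module.mem_support_iff_nontrivial_residueField_tensorProduct, not_nontrivial_iff_subsingleton]
  have hex : Function.Exact (φ.lTensor p.asIdeal.ResidueField)
      ((LinearMap.range φ).mkQ.lTensor p.asIdeal.ResidueField) :=
    lTensor_exact _ (LinearMap.exact_map_mkQ_range φ) (Submodule.mkQ_surjective _)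
  have hs : Function.Surjective ((LinearMap.range φ).mkQ.lTensor p.asIdeal.ResidueField) :=
    LinearMap.lTensor_surjective _ (Submodule.mkQ_surjective _)
  constructor
  · intro h
    refine ⟨fun a b => ?_⟩
    obtain ⟨a, rfl⟩ := hs a
    obtain ⟨b, rfl⟩ := hs b
    rw [(hex a).mpr (h a), (hex b).mpr (h b)]
  · intro h y
    exact (hex y).mp (Subsingleton.elim _ _)

/-- Let R be a ring and φ : P₁ → P₂ a map of finite projective R-modules. The set W of primes p of R
such that φ ⊗ κ(p) is surjective is open, and for every f ∈ R with D(f) ⊆ W the map (P₁)_f → (P₂)_f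
is surjective and Ker(φ)_f is a finite projective module over R_f. -/
theorem result {R : Type u} [CommRing R] {P₁ P₂ : Type u} [AddCommGroup P₁] [Module R P₁] [AddCommGroup P₂] [Module R P₂] [Module.Finite R P₁] [Module.Projective R P₁] [Module.Finite R P₂] [Module.Projective R P₂] (φ : P₁ →ₗ[R] P₂) : IsOpen {p : PrimeSpectrum R | Function.Surjective (φ.lTensor p.asIdeal.ResidueField)} ∧ ∀ f : R, (↑(PrimeSpectrum.basicOpen f) : Set (PrimeSpectrum R)) ⊆ {p : PrimeSpectrum R | Function.Surjective (φ.lTensor p.asIdeal.ResidueField)} → Function.Surjective (LocalizedModule.map (Submonoid.powers f) φ) ∧ Module.Finite (Localization.Away f) (LocalizedModule (Submonoid.powers f) (LinearMap.ker φ)) ∧ Module.Projective (Localization.Away f) (LocalizedModule (Submonoid.powers f) (LinearMap.ker φ)) := by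
  have hset : {p : PrimeSpectrum R | Function.Surjective (φ.lTensor p.asIdeal.ResidueField)} =
      (Module.support R (P₂ ⧸ LinearMap.range φ))ᶜ := by
    ext p
    exact surjective_iff φ p
  rw [hset]
  refine ⟨Module.isClosed_support.isOpen_compl, fun f hf => ?_⟩
  have hsub : Subsingleton (LocalizedModule.Away f (P₂ ⧸ LinearMap.range φ)) := by
    rw [LocalizedModule.subsingleton_iff_support_subset]
    intro p hp
    by_contra hpf
    refine hf ?_ hp
    rw [SetLike.mem_coe, PrimeSpectrum.mem_basicOpen]
    intro hfp
    exact hpf (by simpa using hfp)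
  let S := Submonoid.powers f
  have hsurj : Function.Surjective (LocalizedModule.map S φ) := by
    have hex := LocalizedModule.map_exact S φ (LinearMap.range φ).mkQ
      (LinearMap.exact_map_mkQ_range φ)
    intro y
    exact (hex y).mp (Subsingleton.elim (α := LocalizedModule S (P₂ ⧸ LinearMap.range φ)) _ _)
  refine ⟨hsurj, ?_⟩
  let A := LocalizedModule.map S (LinearMap.ker φ).subtype
  let B := LocalizedModule.map S φ
  have hA : Function.Injective A := LocalizedModule.map_injective S _ (Submodule.subtype_injective _)
  have hAB : Function.Exact A B := LocalizedModule.map_exact S _ _ (LinearMap.exact_subtype_ker_map φ)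
  have hP₁ : Module.Projective (Localization S) (LocalizedModule S P₁) := inferInstance
  have hP₂ : Module.Projective (Localization S) (LocalizedModule S P₂) := inferInstance
  obtain ⟨σ, hσ⟩ := Module.projective_lifting_property B LinearMap.id hsurj
  have hσ' : ∀ x, B (σ x) = x := fun x => LinearMap.congr_fun hσ x
  let q : LocalizedModule S P₁ →ₗ[Localization S] LinearMap.range A :=
    LinearMap.codRestrict _ (LinearMap.id - σ ∘ₗ B) (fun x => (hAB _).mp (by
      simp [hσ']))
  let e := LinearEquiv.ofInjective A hA
  let r : LocalizedModule S P₁ →ₗ[Localization S] LocalizedModule S (LinearMap.ker φ) :=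
    e.symm.toLinearMap ∘ₗ q
  have hr : r ∘ₗ A = LinearMap.id := by
    ext x : 1
    change e.symm (q (A x)) = x
    rw [LinearEquiv.symm_apply_eq]
    refine Subtype.ext ?_
    change A x - σ (B (A x)) = A x
    rw [hAB.apply_apply_eq_zero, map_zero, sub_zero]
  refine ⟨?_, Module.Projective.of_split A r hr⟩
  refine Module.Finite.of_surjective r (fun x => ⟨A x, LinearMap.congr_fun hr x⟩)

end Groth.Agent.S6330
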