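import Groth.Statements.S6331
import Mathlib.RingTheory.Polynomial.Nilpotent
import Mathlib.Dynamics.Newton
import Mathlib.RingTheory.Nilpotent.Lemmas
import Mathlib.RingTheory.Ideal.Quotient.Operations

set_option autoImplicit false
universe u
open CAlg

namespace Groth.Agent.S6331

open Polynomial in
/-- `n`-th roots lift uniquely along nil ideals if `n` is invertible. -/
theorem key {R : Type u} [CommRing R] (I : Ideal R) (hI : ∀ x ∈ I, IsNilpotent x) (n : ℕ)
    (hn : 1 ≤ n) (hinv : IsUnit ((n : ℕ) : R ⧸ I)) (u : R) (hu : IsUnit u) (v₀ : R)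
    (h : v₀ ^ n - u ∈ I) : ∃! v : R, v - v₀ ∈ I ∧ v ^ n = u := by
  -- `n` is a unit
  have hnu : IsUnit (n : R) := by
    obtain ⟨m, hm⟩ := hinv.exists_right_inv
    obtain ⟨m, rfl⟩ := Ideal.Quotient.mk_surjective m
    have h1 : (n : R) * m - 1 ∈ I := by
      rw [← Ideal.Quotient.eq_zero_iff_mem, map_sub, map_mul, map_natCast, hm, map_one, sub_self]
    have h2 : IsUnit (1 + ((n : R) * m - 1)) := (hI _ h1).isUnit_one_add
    rw [add_sub_cancel] at h2
    exact isUnit_of_mul_isUnit_left h2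
  have hv₀ : IsUnit v₀ := by
    have h1 : IsUnit (v₀ ^ n) := by
      have : v₀ ^ n = u + (v₀ ^ n - u) := by ring
      rw [this]
      exact (hI _ h).isUnit_add_left_of_commute hu (Commute.all _ _)
    exact (isUnit_pow_iff (by omega)).mp h1
  let P : R[X] := X ^ n - C u
  have hP : ∀ r : R, aeval r P = r ^ n - u := fun r => by simp [P]
  have hP' : aeval v₀ (derivative P) = n * v₀ ^ (n - 1) := by simp [P, derivative_X_pow]
  have hex := existsUnique_nilpotent_sub_and_aeval_eq_zero (S := R) (P := P) (x := v₀)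
    (by rw [hP]; exact hI _ h) (by rw [hP']; exact hnu.mul (hv₀.pow _))
  obtain ⟨v, ⟨hv1, hv2⟩, hvu⟩ := hex
  rw [hP, sub_eq_zero] at hv2
  -- uniqueness modulo `I`
  let Pb : (R ⧸ I)[X] := X ^ n - C (Ideal.Quotient.mk I u)
  have hPb : ∀ r : R ⧸ I, aeval r Pb = r ^ n - Ideal.Quotient.mk I u := fun r => by simp [Pb]
  have hPb' : aeval (Ideal.Quotient.mk I v₀) (derivative Pb) =
      n * (Ideal.Quotient.mk I v₀) ^ (n - 1) := by simp [Pb, derivative_X_pow]
  have h0 : (Ideal.Quotient.mk I v₀) ^ n = Ideal.Quotient.mk I u := by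
    rw [← sub_eq_zero, ← map_pow, ← map_sub, Ideal.Quotient.eq_zero_iff_mem]
    exact h
  have hexb := existsUnique_nilpotent_sub_and_aeval_eq_zero (S := R ⧸ I) (P := Pb)
    (x := Ideal.Quotient.mk I v₀) (by rw [hPb, h0, sub_self]; exact IsNilpotent.zero)
    (by rw [hPb']; exact hinv.mul ((hv₀.map (Ideal.Quotient.mk I)).pow _))
  have heq := hexb.unique (y₁ := Ideal.Quotient.mk I v) (y₂ := Ideal.Quotient.mk I v₀)
    ⟨by rw [← map_sub]; exact hv1.map _, by rw [hPb, ← map_pow, hv2, sub_self]⟩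
    ⟨by rw [sub_self]; exact IsNilpotent.zero, by rw [hPb, h0, sub_self]⟩
  refine ⟨v, ⟨Ideal.Quotient.eq.mp heq, hv2⟩, fun w hw => hvu w ⟨?_, ?_⟩⟩
  · have : v₀ - w = -(w - v₀) := by ring
    rw [this]
    exact (hI _ hw.1).neg
  · rw [hP, hw.2, sub_self]

/-- Let R be a ring, I ⊆ R an ideal all of whose elements are nilpotent, and n ≥ 1 an integer whose
image in R/I is invertible. Then (1) raising to the n-th power is a bijection of the subset 1 + I of
R onto itself: for every y ∈ I there is exactly one x ∈ I with (1 + x)ⁿ = 1 + y; (2) a unit u of R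
has an n-th root in R exactly when the residue class of u has an n-th root in R/I. -/
theorem result {R : Type u} [CommRing R] (I : Ideal R) (hI : ∀ x ∈ I, IsNilpotent x) (n : ℕ) (hn : 1 ≤ n) (hinv : IsUnit ((n : ℕ) : R ⧸ I)) : (∀ y ∈ I, ∃! x : R, x ∈ I ∧ (1 + x) ^ n = 1 + y) ∧ (∀ u : Rˣ, (∃ v : R, v ^ n = (u : R)) ↔ ∃ w : R ⧸ I, w ^ n = Ideal.Quotient.mk I (u : R)) := by
  constructor
  · intro y hy
    obtain ⟨v, ⟨hv1, hv2⟩, hv3⟩ := key I hI n hn hinv (1 + y) (hI y hy).isUnit_one_add 1 (by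
      have : (1 : R) ^ n - (1 + y) = -y := by rw [one_pow]; ring
      rw [this]
      exact I.neg_mem hy)
    refine ⟨v - 1, ⟨hv1, by rw [add_sub_cancel]; exact hv2⟩, fun x hx => ?_⟩
    have := hv3 (1 + x) ⟨by rw [add_sub_cancel_left]; exact hx.1, hx.2⟩
    rw [← this]
    ring
  · intro u
    constructor
    · rintro ⟨v, hv⟩
      exact ⟨Ideal.Quotient.mk I v, by rw [← map_pow, hv]⟩
    · rintro ⟨w, hw⟩
      obtain ⟨v₀, rfl⟩ := Ideal.Quotient.mk_surjective w
      obtain ⟨v, ⟨-, hv⟩, -⟩ := key I hI n hn hinv u u.isUnit v₀ (by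
        rw [← Ideal.Quotient.eq, map_pow]
        exact hw)
      exact ⟨v, hv⟩

end Groth.Agent.S6331
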