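import Groth.Statements.S6332
import Groth.Agent.Etalg.EppAlg

set_option autoImplicit false
universe u
open Fields

namespace Groth.Agent.S6332

open IntermediateField in
/-- Let L/K be a finite Galois extension of fields of characteristic p > 0 whose degree equals the prime
p (equivalently, the Galois group is cyclic of order p). Then there is an element z of L with z ^ p
- z in K which generates L over K. -/
theorem result {K L : Type u} [Field K] [Field L] [Algebra K L] (p : ℕ)
    [Fact p.Prime] [CharP K p] [FiniteDimensional K L] [IsGalois K L]
    (hdeg : Module.finrank K L = p) :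
    ∃ z : L, z ^ p - z ∈ Set.range (algebraMap K L) ∧ K⟮z⟯ = ⊤ := by
  obtain ⟨z, hz, hz'⟩ := Groth.Agent.Etalg.EppAlg.exists_artinSchreier (K := K) (L := L) p hdeg
  refine ⟨z, hz, ?_⟩
  have hp : (Module.finrank K L).Prime := by rw [hdeg]; exact Fact.out
  have := IntermediateField.isSimpleOrder_of_finrank_prime K L hp
  rcases eq_bot_or_eq_top K⟮z⟯ with h | h
  · exfalso
    rw [IntermediateField.adjoin_simple_eq_bot_iff] at h
    exact hz' (IntermediateField.mem_bot.mp h)
  · exact h

end Groth.Agent.S6332
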