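import Groth.Statements.S6334
import Mathlib.FieldTheory.PurelyInseparable.Basic
import Mathlib.FieldTheory.KummerPolynomial
import Mathlib.FieldTheory.IntermediateField.Adjoin.Basic

set_option autoImplicit false
universe u
open Fields

namespace Groth.Agent.S6334

open IntermediateField Polynomial in
theorem step {F E : Type u} [Field F] [Field E] [Algebra F E] (p : ℕ)
    [hp : Fact p.Prime] [CharP F p] [FiniteDimensional F E] [IsPurelyInseparable F E]
    (S : Set E) (h : adjoin F S ≠ ⊤) :
    ∃ a : E, a ^ p ∈ adjoin F S ∧ a ∉ adjoin F S ∧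
      Module.finrank F (adjoin F (S ∪ {a})) = Module.finrank F (adjoin F S) * p := by
  classical
  set K' := adjoin F S with hK'
  have : CharP E p := charP_of_injective_algebraMap (algebraMap F E).injective p
  have : ExpChar E p := ExpChar.prime Fact.out
  have : CharP K' p := charP_of_injective_algebraMap (algebraMap F K').injective p
  have : ExpChar K' p := ExpChar.prime Fact.out
  have : IsPurelyInseparable K' E := IsPurelyInseparable.tower_top F K' E
  obtain ⟨x, hx⟩ : ∃ x, x ∉ K' := by
    by_contra hcon
    push Not at hcon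
    exact h (eq_top_iff.mpr fun x _ => hcon x)
  have hex : ∃ n, x ^ p ^ n ∈ K' := by
    obtain ⟨n, y, hy⟩ := IsPurelyInseparable.pow_mem K' p x
    exact ⟨n, by rw [← hy]; exact y.2⟩
  set n := Nat.find hex with hn
  have hn1 : x ^ p ^ n ∈ K' := Nat.find_spec hex
  have hn0 : n ≠ 0 := by
    intro h0
    rw [h0, pow_zero, pow_one] at hn1
    exact hx hn1
  obtain ⟨m, hm⟩ := Nat.exists_eq_succ_of_ne_zero hn0
  have hm1 : x ^ p ^ m ∉ K' := Nat.find_min hex (by omega)
  set a := x ^ p ^ m with ha
  have hap : a ^ p ∈ K' := by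
    rw [ha, ← pow_mul, ← pow_succ]
    rw [hm] at hn1
    exact hn1
  refine ⟨a, hap, hm1, ?_⟩
  have hirr : Irreducible (X ^ p - C (⟨a ^ p, hap⟩ : K')) := by
    apply X_pow_sub_C_irreducible_of_prime hp.out
    intro b hb
    apply hm1
    have h1 : (b : E) ^ p = a ^ p := congrArg Subtype.val hb
    have h2 : (b : E) = a := frobenius_inj E p h1
    rw [← h2]
    exact b.2
  have hint : IsIntegral K' a := IsIntegral.of_finite K' a
  have hmin : minpoly K' a = X ^ p - C (⟨a ^ p, hap⟩ : K') := by
    symm
    apply minpoly.eq_of_irreducible_of_monic hirr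
    · simp only [map_sub, map_pow, aeval_X, aeval_C]
      exact sub_self _
    · exact monic_X_pow_sub_C _ hp.out.ne_zero
  have hfr : Module.finrank K' K'⟮a⟯ = p := by
    rw [adjoin.finrank hint, hmin, natDegree_X_pow_sub_C]
  have h3 : Module.finrank F K' * Module.finrank K' K'⟮a⟯ = Module.finrank F K'⟮a⟯ :=
    Module.finrank_mul_finrank F K' K'⟮a⟯
  rw [hfr] at h3
  have h4 : (K'⟮a⟯).restrictScalars F = adjoin F (S ∪ {a}) := adjoin_adjoin_left F S {a}
  rw [← h4, h3]
  rfl

open IntermediateField in
/-- Let E/F be a finite purely inseparable extension of fields of characteristic p > 0. Then there are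
elements a_1, ..., a_n of E generating E over F such that for each i the p-th power of a_i lies in
F(a_1, ..., a_{i-1}) while a_i itself does not (so each step adjoins a p-th root and has degree p);
in particular [E : F] = p ^ n. -/
theorem result {F E : Type u} [Field F] [Field E] [Algebra F E] (p : ℕ)
    [Fact p.Prime] [CharP F p] [FiniteDimensional F E] [IsPurelyInseparable F E] :
    ∃ (n : ℕ) (a : Fin n → E), adjoin F (Set.range a) = ⊤ ∧
      (∀ i : Fin n, a i ^ p ∈ adjoin F (a '' {j | j < i}) ∧ a i ∉ adjoin F (a '' {j | j < i})) ∧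
      Module.finrank F E = p ^ n := by
  classical
  by_contra hcon
  have key : ∀ n : ℕ, ∃ a : Fin n → E,
      (∀ i : Fin n, a i ^ p ∈ adjoin F (a '' {j | j < i}) ∧ a i ∉ adjoin F (a '' {j | j < i})) ∧
        Module.finrank F (adjoin F (Set.range a)) = p ^ n := by
    intro n
    induction n with
    | zero =>
      refine ⟨Fin.elim0, fun i => i.elim0, ?_⟩
      rw [Set.range_eq_empty, adjoin_empty, pow_zero, IntermediateField.finrank_bot]
    | succ n ih =>
      obtain ⟨a, ha, hfr⟩ := ih
      have hne : adjoin F (Set.range a) ≠ ⊤ := by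
        intro h
        apply hcon
        refine ⟨n, a, h, ha, ?_⟩
        rw [← hfr, h, IntermediateField.finrank_top']
      obtain ⟨x, hx1, hx2, hx3⟩ := step p (Set.range a) hne
      refine ⟨Fin.snoc (α := fun _ => E) a x, ?_, ?_⟩
      · intro i
        refine Fin.lastCases ?_ (fun i => ?_) i
        · have h1 : (Fin.snoc (α := fun _ => E) a x) '' {j | j < Fin.last n} = Set.range a := by
            ext y
            constructor
            · rintro ⟨j, hj, rfl⟩
              obtain ⟨j', rfl⟩ := Fin.exists_castSucc_eq.mpr (ne_of_lt hj)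
              rw [Fin.snoc_castSucc]
              exact ⟨j', rfl⟩
            · rintro ⟨j, rfl⟩
              exact ⟨j.castSucc, Fin.castSucc_lt_last j, Fin.snoc_castSucc _ _ _⟩
          rw [h1, Fin.snoc_last]
          exact ⟨hx1, hx2⟩
        · have h1 : (Fin.snoc (α := fun _ => E) a x) '' {j | j < i.castSucc} = a '' {j | j < i} := by
            ext y
            constructor
            · rintro ⟨j, hj, rfl⟩
              obtain ⟨j', rfl⟩ := Fin.exists_castSucc_eq.mpr (ne_of_lt (lt_trans hj (Fin.castSucc_lt_last i)))
              rw [Fin.snoc_castSucc]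
              exact ⟨j', Fin.castSucc_lt_castSucc_iff.mp hj, rfl⟩
            · rintro ⟨j, hj, rfl⟩
              exact ⟨j.castSucc, Fin.castSucc_lt_castSucc_iff.mpr hj, Fin.snoc_castSucc _ _ _⟩
          rw [h1, Fin.snoc_castSucc]
          exact ha i
      · have h1 : Set.range (Fin.snoc (α := fun _ => E) a x) = Set.range a ∪ {x} := by
          ext y
          constructor
          · rintro ⟨j, rfl⟩
            refine Fin.lastCases ?_ (fun j => ?_) j
            · rw [Fin.snoc_last]; exact Or.inr rfl
            · rw [Fin.snoc_castSucc]; exact Or.inl ⟨j, rfl⟩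
          · rintro (⟨j, rfl⟩ | rfl)
            · exact ⟨j.castSucc, Fin.snoc_castSucc _ _ _⟩
            · exact ⟨Fin.last n, Fin.snoc_last _ _⟩
        rw [h1, hx3, hfr, pow_succ]
  obtain ⟨a, -, ha⟩ := key (Module.finrank F E)
  have h1 : Module.finrank F (adjoin F (Set.range a)) ≤ Module.finrank F E :=
    Submodule.finrank_le (adjoin F (Set.range a)).toSubmodule
  rw [ha] at h1
  exact absurd h1 (not_le.mpr (Nat.lt_pow_self (Nat.Prime.one_lt Fact.out)))

end Groth.Agent.S6334
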