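import Groth.Statements.S6335
import Mathlib.FieldTheory.PurelyInseparable.PerfectClosure
import Mathlib.FieldTheory.IsAlgClosed.AlgebraicClosure
import Mathlib.Algebra.Polynomial.Lifts
import Mathlib.Algebra.Polynomial.Expand

set_option autoImplicit false
universe u
open Fields

namespace Groth.Agent.S6335

/-- Let K be a field of characteristic p > 0, L/K a separable algebraic extension and a an element of L.
If a is a root of a polynomial P over K which is separable (pairwise distinct roots in an algebraic
closure) and all of whose coefficients are p-th powers in K, then a is a p-th power in L. (Part (1),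
the case where P is the minimal polynomial of a, is a special case.) -/
theorem result {K L : Type u} [Field K] [Field L] [Algebra K L]
    (p : ℕ) [Fact p.Prime] [CharP K p] [Algebra.IsSeparable K L] (a : L) (P : Polynomial K)
    (hroot : Polynomial.aeval a P = 0) (hsep : P.Separable) (hcoeff : ∀ i : ℕ, ∃ b : K, b ^ p = P.coeff i) :
    ∃ c : L, c ^ p = a := by
  classical
  have : ExpChar K p := ExpChar.prime Fact.out
  have : CharP L p := charP_of_injective_algebraMap (algebraMap K L).injective p
  have : ExpChar L p := ExpChar.prime Fact.out
  obtain ⟨Q, hQ⟩ : ∃ Q : Polynomial K, Q.map (frobenius K p) = P := by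
    have : P ∈ Polynomial.lifts (frobenius K p) := by
      rw [Polynomial.lifts_iff_coeff_lifts]
      intro n
      obtain ⟨b, hb⟩ := hcoeff n
      exact ⟨b, by rw [frobenius_def, hb]⟩
    rwa [Polynomial.mem_lifts] at this
  obtain ⟨c, hc⟩ := IsAlgClosed.exists_pow_nat_eq (algebraMap L (AlgebraicClosure L) a) (Nat.Prime.pos (Fact.out : p.Prime))
  have hexp : Polynomial.expand K p P = Q ^ p := by
    rw [← hQ, ← Polynomial.map_expand]
    exact Polynomial.map_frobenius_expand p Q
  have hQc : Polynomial.aeval c Q = 0 := by
    have h1 : Polynomial.aeval c (Polynomial.expand K p P) = 0 := by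
      rw [Polynomial.expand_aeval, hc, Polynomial.aeval_algebraMap_apply, hroot, map_zero]
    rw [hexp, map_pow] at h1
    exact pow_eq_zero_iff (Nat.Prime.ne_zero Fact.out) |>.mp h1
  have hQsep : Q.Separable := by
    rw [← hQ] at hsep
    exact (Polynomial.separable_map _).mp hsep
  have hcsepK : IsSeparable K c := hQsep.of_dvd (minpoly.dvd K c hQc)
  have hcsep : IsSeparable L c := IsSeparable.tower_top L hcsepK
  have hmem : c ∈ separableClosure L (AlgebraicClosure L) ⊓ perfectClosure L (AlgebraicClosure L) := by
    refine ⟨hcsep, ?_⟩
    exact (mem_perfectClosure_iff_pow_mem p).mpr ⟨1, a, by rw [pow_one, hc]⟩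
  rw [separableClosure_inf_perfectClosure, IntermediateField.mem_bot] at hmem
  obtain ⟨d, hd⟩ := hmem
  refine ⟨d, (algebraMap L (AlgebraicClosure L)).injective ?_⟩
  rw [map_pow, hd, hc]

end Groth.Agent.S6335
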