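import Groth.Statements.S6336
import Mathlib.FieldTheory.IsAlgClosed.AlgebraicClosure
import Mathlib.FieldTheory.IntermediateField.Adjoin.Basic
import Mathlib.RingTheory.Polynomial.Vieta

set_option autoImplicit false
universe u
open Fields

namespace Groth.Agent.S6336

open IntermediateField Polynomial in
/-- With an added hypothesis: let L/K be a finite extension of degree e generated by a single element a
whose e-th power lies in K, and assume that the polynomial X ^ e - 1 splits into linear factors over
K (so every e-th root of unity of any extension of K already lies in K; this holds when K contains a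
primitive e-th root of unity, and when e is a power of the characteristic). Then every intermediate
field of L/K is generated by a ^ d for some divisor d of e. (The published statement has no
hypothesis on roots of unity; for K the rationals and a a primitive 8-th root of unity, e = 4 and a
^ 4 = -1, the intermediate field generated by a + a⁻¹, a square root of 2, is none of K(a), K(a ^
2), K(a ^ 4); the published proof uses that the e-th roots of unity met are fixed by the
automorphisms it constructs, which the splitting hypothesis guarantees.) -/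
theorem result {K L : Type u} [Field K] [Field L] [Algebra K L]
    [FiniteDimensional K L] (a : L) (ha : K⟮a⟯ = ⊤)
    (hpow : a ^ Module.finrank K L ∈ Set.range (algebraMap K L))
    (hroots : (X ^ Module.finrank K L - 1 : K[X]).Splits) (L' : IntermediateField K L) :
    ∃ d : ℕ, d ∣ Module.finrank K L ∧ L' = K⟮a ^ d⟯ := by
  classical
  set e := Module.finrank K L with he
  have he0 : 0 < e := Module.finrank_pos
  set m := Module.finrank L' L with hm
  have hm0 : 0 < m := Module.finrank_pos
  have hme : Module.finrank K L' * m = e := Module.finrank_mul_finrank K L' L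
  obtain ⟨b, hb⟩ := hpow
  have htop : ∀ E : IntermediateField K L, E⟮a⟯ = ⊤ := by
    intro E
    rw [eq_top_iff]
    have h1 : K⟮a⟯ ≤ (E⟮a⟯).restrictScalars K := by
      rw [adjoin_simple_le_iff]
      exact mem_adjoin_simple_self E a
    intro x _
    exact h1 (ha ▸ trivial)
  have hint : IsIntegral L' a := IsIntegral.of_finite L' a
  set f := minpoly L' a with hf
  have hfdeg : f.natDegree = m := by
    rw [hf, ← adjoin.finrank hint, htop, IntermediateField.finrank_top']
  -- key: `a ^ m ∈ L'`
  have key : a ^ m ∈ L' := by
    by_cases ha0 : a = 0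
    · rw [ha0, zero_pow hm0.ne']
      exact zero_mem _
    let Ω := AlgebraicClosure L
    have hsplit : (f.map (algebraMap L' Ω)).Splits := IsAlgClosed.splits _
    have hcoeff : algebraMap L' Ω (f.coeff 0) = (-1) ^ m * (f.map (algebraMap L' Ω)).roots.prod := by
      have h1 := hsplit.coeff_zero_eq_prod_roots_of_monic ((minpoly.monic hint).map _)
      rw [coeff_map, natDegree_map, hfdeg] at h1
      exact h1
    have hcard : (f.map (algebraMap L' Ω)).roots.card = m := by
      rw [← hsplit.natDegree_eq_card_roots, natDegree_map, hfdeg]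
    have haΩ : algebraMap L Ω a ≠ 0 := by
      rw [Ne, map_eq_zero]; exact ha0
    have hdvd : f ∣ X ^ e - C (algebraMap K L' b) := by
      apply minpoly.dvd
      simp only [map_sub, map_pow, aeval_X, aeval_C]
      rw [← IsScalarTower.algebraMap_apply, hb, sub_self]
    have hroot : ∀ r ∈ (f.map (algebraMap L' Ω)).roots, ∃ z : K, z ≠ 0 ∧ r = algebraMap K Ω z * algebraMap L Ω a := by
      intro r hr
      have h1 : (f.map (algebraMap L' Ω)).IsRoot r := isRoot_of_mem_roots hr
      have h2 : ((X ^ e - C (algebraMap K L' b)).map (algebraMap L' Ω)).IsRoot r :=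
        h1.dvd (Polynomial.map_dvd _ hdvd)
      have h3 : r ^ e = (algebraMap L Ω a) ^ e := by
        have : r ^ e - algebraMap L' Ω (algebraMap K L' b) = 0 := by
          simpa [IsRoot] using h2
        rw [sub_eq_zero] at this
        rw [this, ← map_pow, ← hb, ← IsScalarTower.algebraMap_apply, ← IsScalarTower.algebraMap_apply]
      have h4 : ((X ^ e - 1 : K[X]).map (algebraMap K Ω)).IsRoot (r / algebraMap L Ω a) := by
        simp [IsRoot, div_pow, h3, haΩ]
      have hne : (X ^ e - 1 : K[X]) ≠ 0 := (monic_X_pow_sub_C (1 : K) he0.ne').ne_zero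
      obtain ⟨z, hz⟩ := Polynomial.Splits.mem_range_of_isRoot hroots hne h4
      refine ⟨z, ?_, ?_⟩
      · rintro rfl
        rw [map_zero, eq_comm, div_eq_zero_iff] at hz
        rcases hz with hz | hz
        · rw [hz, zero_pow he0.ne'] at h3
          exact haΩ (pow_eq_zero_iff he0.ne' |>.mp h3.symm)
        · exact haΩ hz
      · rw [hz, div_mul_cancel₀ _ haΩ]
    have hprod : ∀ R : Multiset Ω, (∀ r ∈ R, ∃ z : K, z ≠ 0 ∧ r = algebraMap K Ω z * algebraMap L Ω a) →
        ∃ z : K, z ≠ 0 ∧ R.prod = algebraMap K Ω z * algebraMap L Ω a ^ R.card := by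
      intro R
      induction R using Multiset.induction_on with
      | empty => intro _; exact ⟨1, one_ne_zero, by simp⟩
      | cons r R ih =>
        intro hR
        obtain ⟨z, hz0, hz⟩ := ih fun r hr => hR r (Multiset.mem_cons_of_mem hr)
        obtain ⟨w, hw0, hw⟩ := hR r (Multiset.mem_cons_self _ _)
        refine ⟨w * z, mul_ne_zero hw0 hz0, ?_⟩
        rw [Multiset.prod_cons, hz, hw, Multiset.card_cons, map_mul, pow_succ]
        ring
    obtain ⟨z, hz0, hz⟩ := hprod _ hroot
    rw [hcard] at hz
    rw [hz] at hcoeff
    have h5 : ((f.coeff 0 : L') : L) = (-1) ^ m * (algebraMap K L z * a ^ m) := by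
      apply (algebraMap L Ω).injective
      rw [map_mul, map_mul, map_pow, map_pow, map_neg, map_one, ← IsScalarTower.algebraMap_apply]
      exact hcoeff
    have h6 : a ^ m = (-1) ^ m * (algebraMap K L z)⁻¹ * ((f.coeff 0 : L') : L) := by
      have hz0' : algebraMap K L z ≠ 0 := by rw [Ne, map_eq_zero]; exact hz0
      rw [h5]
      have : ((-1 : L) ^ m) * (-1) ^ m = 1 := by rw [← mul_pow]; simp
      calc a ^ m = (((-1 : L) ^ m) * (-1) ^ m) * ((algebraMap K L z)⁻¹ * algebraMap K L z) * a ^ m := by
            rw [this, inv_mul_cancel₀ hz0', one_mul, one_mul]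
        _ = _ := by ring
    rw [h6]
    refine mul_mem (mul_mem (pow_mem (neg_mem (one_mem _)) _) (inv_mem ?_)) (f.coeff 0).2
    exact L'.algebraMap_mem z
  refine ⟨m, ⟨_, (by rw [mul_comm]; exact hme.symm)⟩, ?_⟩
  symm
  apply IntermediateField.eq_of_le_of_finrank_le'
  · rw [adjoin_simple_le_iff]
    exact key
  · rw [← hm]
    have hint' : IsIntegral K⟮a ^ m⟯ a := IsIntegral.of_finite _ a
    have h1 : Module.finrank K⟮a ^ m⟯ L = (minpoly K⟮a ^ m⟯ a).natDegree := by
      rw [← adjoin.finrank hint', htop, IntermediateField.finrank_top']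
    rw [h1]
    have h2 : minpoly K⟮a ^ m⟯ a ∣ X ^ m - C (⟨a ^ m, mem_adjoin_simple_self K _⟩ : K⟮a ^ m⟯) := by
      apply minpoly.dvd
      simp only [map_sub, map_pow, aeval_X, aeval_C]
      exact sub_self _
    have h3 := natDegree_le_of_dvd h2 (monic_X_pow_sub_C _ hm0.ne').ne_zero
    rwa [natDegree_X_pow_sub_C] at h3

end Groth.Agent.S6336
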