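import Groth.Statements.S6337
import Groth.Agent.CAlg.K61.ML2

set_option autoImplicit false
universe u
open CAlg

namespace Groth.Agent.S6337

/-- A direct sum of modules is Mittag-Leffler if and only if each summand is Mittag-Leffler. -/
theorem result (R : Type u) [CommRing R] {ι : Type u} (M : ι → Type u)
    [∀ i, AddCommGroup (M i)] [∀ i, Module R (M i)] :
    CAlg.IsMittagLeffler R (DirectSum ι M) ↔ ∀ i, CAlg.IsMittagLeffler R (M i) := by
  exact ⟨fun h i => K61.ML2.isML_of_directSum M h i, fun h => K61.ML2.isML_directSum M h⟩

end Groth.Agent.S6337
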