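import Groth.Statements.S6355
import Groth.Agent.CAlg.K62.Pure

set_option autoImplicit false
universe u
open CAlg

namespace Groth.Agent.S6355

/-- For a commutative ring R the following are equivalent: (1) every subset of Spec R which is closed
and stable under generalization is open; (2) every finite flat R-module is finite locally free, i.e.
(for finite modules) projective. -/
theorem result (R : Type u) [CommRing R] :
    (∀ Z : Set (PrimeSpectrum R), IsClosed Z → StableUnderGeneralization Z → IsOpen Z) ↔
      ∀ (M : Type u) [AddCommGroup M] [Module R M], Module.Finite R M → Module.Flat R M →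
        Module.Projective R M := by
  constructor
  · intro h M _ _ _ _
    exact K62.Pure.projective_of_finite_flat h M
  · intro h Z hZ hZ'
    obtain ⟨I, hI, rfl⟩ := K62.Pure.exists_pure Z hZ hZ'
    have h1 : Module.Projective R (R ⧸ I) := h (R ⧸ I) inferInstance hI
    have h2 : I.Pure ∧ IsOpen (PrimeSpectrum.zeroLocus (I : Set R)) :=
      ((K62.Pure.tfae I).out 3 2).1 h1
    exact h2.2

end Groth.Agent.S6355
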