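import Groth.Statements.S6362
import Mathlib.RingTheory.TensorProduct.Free
import Mathlib.FieldTheory.SeparableDegree
import Mathlib.LinearAlgebra.Dual.Lemmas
import Mathlib.LinearAlgebra.LinearIndependent.Lemmas

set_option autoImplicit false
universe u
open scoped TensorProduct
open Fields

namespace Groth.Agent.S6362

/-- Let K/F be a finite separable extension and L/F an extension with L algebraically closed. Then the
L-algebra map K ⊗_F L → ∏_σ L, indexed by the F-algebra maps σ : K → L and sending a ⊗ b to (σ(a)
b)_σ, is an isomorphism; stated as bijectivity of that map. -/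
theorem result {F K L : Type u} [Field F] [Field K] [Field L]
    [Algebra F K] [Algebra F L] [FiniteDimensional F K] [Algebra.IsSeparable F K] [IsAlgClosed L] :
    Function.Bijective (fun x : K ⊗[F] L => fun σ : K →ₐ[F] L =>
      Algebra.TensorProduct.lift σ (AlgHom.id F L) (fun a b => Commute.all (σ a) b) x) := by
  classical
  let Φ : L ⊗[F] K →ₗ[L] ((K →ₐ[F] L) → L) := LinearMap.pi fun σ =>
    (Algebra.TensorProduct.lift (AlgHom.id L L) σ (fun a b => Commute.all a (σ b))).toLinearMap
  have hΦ : ∀ (a : L) (x : K) σ, Φ (a ⊗ₜ x) σ = a * σ x := by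
    intro a x σ
    exact Algebra.TensorProduct.lift_tmul (AlgHom.id L L) σ (fun a b => Commute.all a (σ b)) a x
  have hcard : Module.finrank L (L ⊗[F] K) = Module.finrank L ((K →ₐ[F] L) → L) := by
    rw [Module.finrank_baseChange, Module.finrank_fintype_fun_eq_card, AlgHom.card]
  have hsurj : Function.Surjective Φ := by
    rw [← LinearMap.range_eq_top]
    by_contra hne
    obtain ⟨f, hf0, hf⟩ := Submodule.exists_le_ker_of_lt_top _ (lt_top_iff_ne_top.mpr hne)
    apply hf0
    have hli := linearIndependent_monoidHom K L
    have hli' : LinearIndependent L (fun σ : K →ₐ[F] L => (σ : K → L)) := by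
      have := hli.comp (fun σ : K →ₐ[F] L => (σ : K →* L)) (by
        intro σ τ h
        ext x
        exact DFunLike.congr_fun h x)
      exact this
    rw [Fintype.linearIndependent_iff] at hli'
    have hc := hli' (fun σ => f (Pi.single σ 1)) (by
      funext x
      have h1 : f (Φ (1 ⊗ₜ x)) = 0 := LinearMap.mem_ker.mp (hf (LinearMap.mem_range_self Φ _))
      have h2 : Φ (1 ⊗ₜ x) = ∑ σ : K →ₐ[F] L, (σ x) • (Pi.single σ (1 : L) : (K →ₐ[F] L) → L) := by
        funext σ
        rw [hΦ]
        simp [Finset.sum_apply, Pi.single_apply]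
      rw [h2, map_sum] at h1
      simp only [map_smul, smul_eq_mul] at h1
      simp only [Finset.sum_apply, Pi.smul_apply, smul_eq_mul, Pi.zero_apply]
      rw [← h1]
      exact Finset.sum_congr rfl fun σ _ => mul_comm _ _)
    apply LinearMap.pi_ext
    intro σ x
    have : (Pi.single σ x : (K →ₐ[F] L) → L) = x • Pi.single σ (1 : L) := by
      funext τ
      simp [Pi.single_apply]
    rw [this, map_smul, hc σ]
    simp
  have hinj : Function.Injective Φ := (LinearMap.injective_iff_surjective_of_finrank_eq_finrank hcard).mpr hsurj
  have heq : (fun x : K ⊗[F] L => fun σ : K →ₐ[F] L =>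
      Algebra.TensorProduct.lift σ (AlgHom.id F L) (fun a b => Commute.all (σ a) b) x) = Φ ∘ (TensorProduct.comm F K L) := by
    funext x
    induction x with
    | zero => funext σ; simp
    | add x y hx hy =>
      funext σ
      have hx' := congrFun hx σ
      have hy' := congrFun hy σ
      simp only [Function.comp_apply, map_add, Pi.add_apply] at hx' hy' ⊢
      rw [hx', hy']
    | tmul x y =>
      funext σ
      refine (Algebra.TensorProduct.lift_tmul σ (AlgHom.id F L) (fun a b => Commute.all (σ a) b) x y).trans ?_
      rw [Function.comp_apply, TensorProduct.comm_tmul, hΦ, mul_comm]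
      rfl
  rw [heq]
  exact Function.Bijective.comp ⟨hinj, hsurj⟩ (TensorProduct.comm F K L).bijective

end Groth.Agent.S6362
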