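import Groth.Statements.S6363
import Mathlib.RingTheory.PiTensorProduct
import Mathlib.FieldTheory.SeparableDegree
import Mathlib.FieldTheory.Normal.Closure
import Mathlib.LinearAlgebra.Multilinear.Basic

set_option autoImplicit false
universe u
open scoped TensorProduct
open Fields

namespace Groth.Agent.S6363

/-- For a finite field extension L/K and a normal closure M of L/K, some K-algebra homomorphism from the
n-fold tensor power L ⊗_K ⋯ ⊗_K L to M is surjective, where n = [L : K]_s is the separable degree
(so n ≤ [L : K]). -/
theorem result {K L M : Type u} [Field K] [Field L] [Field M]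
    [Algebra K L] [Algebra K M] [Algebra L M] [IsScalarTower K L M] [FiniteDimensional K L]
    [IsNormalClosure K L M] :
    ∃ f : (⨂[K] _ : Fin (Field.finSepDegree K L), L) →ₐ[K] M, Function.Surjective f := by
  classical
  have hfs : Algebra.IsAlgebraic K M := (IsNormalClosure.normal (F := K) (K := L) (L := M)).toIsAlgebraic
  have hLM : Algebra.IsAlgebraic L M := Algebra.IsAlgebraic.tower_top (K := K) L
  -- number of embeddings into `M`
  have hsurj : ∃ σ : Fin (Field.finSepDegree K L) → (L →ₐ[K] M), Function.Surjective σ := by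
    let j : M →ₐ[L] AlgebraicClosure L := IsAlgClosed.lift
    let j' : M →ₐ[K] AlgebraicClosure L := j.restrictScalars K
    let g : (L →ₐ[K] M) → Field.Emb K L := fun σ => j'.comp σ
    have hg : Function.Injective g := by
      intro σ τ h
      ext x
      exact j'.injective (DFunLike.congr_fun h x)
    have hfin : Finite (Field.Emb K L) := inferInstance
    have hfin' : Finite (L →ₐ[K] M) := Finite.of_injective g hg
    have hle : Nat.card (L →ₐ[K] M) ≤ Field.finSepDegree K L := Nat.card_le_card_of_injective g hg
    have hne : Nonempty (L →ₐ[K] M) := ⟨IsScalarTower.toAlgHom K L M⟩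
    obtain ⟨e⟩ : Nonempty ((L →ₐ[K] M) ↪ Fin (Field.finSepDegree K L)) := by
      have := Fintype.ofFinite (L →ₐ[K] M)
      apply Function.Embedding.nonempty_of_card_le
      rw [Fintype.card_fin, ← Nat.card_eq_fintype_card]
      exact hle
    exact ⟨Function.invFun e, Function.invFun_surjective e.injective⟩
  obtain ⟨σ, hσ⟩ := hsurj
  let F : MultilinearMap K (fun _ : Fin (Field.finSepDegree K L) => L) M :=
    (MultilinearMap.mkPiAlgebra K (Fin (Field.finSepDegree K L)) M).compLinearMap (fun i => (σ i).toLinearMap)
  have hF : ∀ x, F x = ∏ i, σ i (x i) := fun x => by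
    simp [F]
  let f : (⨂[K] _ : Fin (Field.finSepDegree K L), L) →ₐ[K] M :=
    PiTensorProduct.liftAlgHom F (by rw [hF]; simp) (fun x y => by rw [hF, hF, hF]; simp [Finset.prod_mul_distrib])
  have hf : ∀ x, f (PiTensorProduct.tprod K x) = ∏ i, σ i (x i) := by
    intro x
    rw [← hF]
    simp [f]
  refine ⟨f, ?_⟩
  rw [← AlgHom.range_eq_top]
  let T : IntermediateField K M := f.range.toIntermediateField' (Subalgebra.isField_of_algebraic _)
  have hT : ∀ x, x ∈ T ↔ x ∈ f.range := fun x => Iff.rfl
  have h1 : IntermediateField.normalClosure K L M = ⊤ := ((Algebra.IsAlgebraic.isNormalClosure_iff (F := K) (K := L) (L := M)).mp inferInstance).2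
  have h2 : IntermediateField.normalClosure K L M ≤ T := by
    rw [normalClosure_def]
    refine iSup_le fun τ => ?_
    obtain ⟨i, rfl⟩ := hσ τ
    rintro _ ⟨x, rfl⟩
    rw [hT]
    refine ⟨PiTensorProduct.tprod K (Function.update 1 i x), ?_⟩
    refine (hf _).trans ?_
    rw [Finset.prod_eq_single i]
    · simp
    · intro j _ hj
      simp [Function.update_of_ne hj]
    · simp
  rw [h1] at h2
  rw [eq_top_iff]
  intro x _
  exact (hT x).mp (h2 trivial)

end Groth.Agent.S6363
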