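import Groth.Statements.S6364
import Mathlib.LinearAlgebra.Trace
import Mathlib.RingTheory.Trace.Basic
import Mathlib.LinearAlgebra.Matrix.Charpoly.Minpoly
import Mathlib.LinearAlgebra.Charpoly.ToMatrix

set_option autoImplicit false
universe u
open Fields

namespace Groth.Agent.S6364

theorem charpoly_blockDiagonal_const {R n m : Type*} [CommRing R] [Fintype n] [DecidableEq n] [Fintype m] [DecidableEq m]
    (M : Matrix n n R) : (Matrix.blockDiagonal fun _ : m => M).charpoly = M.charpoly ^ Fintype.card m := by
  have h : Matrix.charmatrix (Matrix.blockDiagonal fun _ : m => M) = Matrix.blockDiagonal fun _ : m => Matrix.charmatrix M := by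
    ext ⟨i, k⟩ ⟨j, l⟩
    by_cases hkl : k = l
    · subst hkl
      by_cases hij : i = j
      · subst hij
        simp
      · have : (i, k) ≠ (j, k) := fun h => hij (congrArg Prod.fst h)
        rw [Matrix.charmatrix_apply_ne _ _ _ this, Matrix.blockDiagonal_apply_eq, Matrix.blockDiagonal_apply_eq,
          Matrix.charmatrix_apply_ne _ _ _ hij]
    · have : (i, k) ≠ (j, l) := fun h => hkl (congrArg Prod.snd h)
      rw [Matrix.charmatrix_apply_ne _ _ _ this, Matrix.blockDiagonal_apply_ne _ _ _ hkl, Matrix.blockDiagonal_apply_ne _ _ _ hkl]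
      simp
  rw [Matrix.charpoly, h, Matrix.det_blockDiagonal]
  simp [Matrix.charpoly]

open IntermediateField in
/-- Let L/K be a finite extension and a ∈ L with minimal polynomial P over K. Then P ^ e, with e = [L :
K(a)], is the characteristic polynomial of multiplication by a (the K-linear map x ↦ a x on L), and
e · deg P = [L : K]. -/
theorem result {K L : Type u} [Field K] [Field L] [Algebra K L] [FiniteDimensional K L]
    (a : L) :
    (Algebra.lmul K L a).charpoly = minpoly K a ^ Module.finrank K⟮a⟯ L ∧
      Module.finrank K⟮a⟯ L * (minpoly K a).natDegree = Module.finrank K L := by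
  classical
  have hint : IsIntegral K a := IsIntegral.of_finite K a
  have hdeg : (minpoly K a).natDegree = Module.finrank K K⟮a⟯ := (adjoin.finrank hint).symm
  refine ⟨?_, ?_⟩
  · let b := adjoin.powerBasis hint
    let c := Module.Free.chooseBasis K⟮a⟯ L
    have h1 : (Algebra.lmul K L a).charpoly = (Algebra.leftMulMatrix (b.basis.smulTower c) a).charpoly := by
      rw [Algebra.leftMulMatrix_apply, LinearMap.charpoly_toMatrix]
    have h2 : Algebra.leftMulMatrix (b.basis.smulTower c) a = Matrix.blockDiagonal fun _ => Algebra.leftMulMatrix b.basis b.gen := by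
      have := Algebra.smulTower_leftMulMatrix_algebraMap b.basis c b.gen
      rw [← this]
      rfl
    have h3 : (Algebra.leftMulMatrix b.basis b.gen).charpoly = minpoly K a := by
      rw [charpoly_leftMulMatrix]
      exact minpoly_gen K a
    rw [h1, h2, charpoly_blockDiagonal_const, h3, Module.finrank_eq_card_chooseBasisIndex]
  · rw [hdeg, mul_comm]
    exact Module.finrank_mul_finrank K K⟮a⟯ L

end Groth.Agent.S6364
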