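import Groth.Statements.S6379
import Groth.Agent.FlatB.MLProj
import Mathlib.RingTheory.TensorProduct.Finite

set_option autoImplicit false
universe u
open scoped TensorProduct
open CAlg

namespace Groth.Agent.S6379

/-- Let M be a flat Mittag-Leffler module over a commutative ring R, F an R-module and x ∈ F ⊗_R M. Then
among the submodules F' of F with x in the image of F' ⊗ M → F ⊗ M there is a smallest one, and it
is a finitely generated module. -/
theorem result (R : Type u) [CommRing R] (M : Type u)
    [AddCommGroup M] [Module R M] [Module.Flat R M] (hM : CAlg.IsMittagLeffler R M)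
    (F : Type u) [AddCommGroup F] [Module R F] (x : F ⊗[R] M) :
    ∃ F' : Submodule R F, F'.FG ∧ x ∈ LinearMap.range (F'.subtype.rTensor M) ∧
      ∀ F'' : Submodule R F, x ∈ LinearMap.range (F''.subtype.rTensor M) → F' ≤ F'' := by
  have hcomm : ∀ K : Submodule R F, x ∈ LinearMap.range (K.subtype.rTensor M) ↔
      TensorProduct.comm R F M x ∈ LinearMap.range (K.subtype.lTensor M) := by
    intro K
    constructor
    · rintro ⟨y, rfl⟩
      exact ⟨TensorProduct.comm R K M y, by rw [LinearMap.lTensor_comm]⟩
    · rintro ⟨y, hy⟩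
      refine ⟨(TensorProduct.comm R K M).symm y, ?_⟩
      apply (TensorProduct.comm R F M).injective
      rw [← hy, ← LinearMap.lTensor_comm]
      simp
  obtain ⟨K, hK, hmin⟩ := Groth.Agent.FlatB.MLProj.exists_smallest hM (TensorProduct.comm R F M x)
  have hK' := (hcomm K).mpr hK
  refine ⟨K, ?_, hK', fun F'' h => hmin F'' ((hcomm F'').mp h)⟩
  obtain ⟨z, hz⟩ := hK'
  obtain ⟨J, hJ, hle, y, hy⟩ := Submodule.exists_fg_le_eq_rTensor_inclusion z
  have h1 : K ≤ J := by
    apply hmin J
    rw [← hcomm]
    refine ⟨y, ?_⟩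
    rw [← hz, hy, ← LinearMap.comp_apply, ← LinearMap.rTensor_comp]
    rfl
  exact le_antisymm h1 hle ▸ hJ

end Groth.Agent.S6379
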