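import Groth.Statements.S6383
import Groth.Agent.CalgB.DescProj

set_option autoImplicit false
universe u
open scoped TensorProduct
open CAlg

namespace Groth.Agent.S6383

/-- For a ring map R → S and an R-module M whose base change S ⊗_R M is an internal direct sum of
countably generated S-submodules Q_i (i ∈ I), every countably generated submodule N ≤ M can be
enlarged to a countably generated submodule N' ≤ M, together with a subset I' ⊆ I, so that the
S-span of the image 1 ⊗ N' inside S ⊗_R M equals the sum of the Q_i over i ∈ I'. -/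
theorem result (R S : Type u) [CommRing R] [CommRing S] [Algebra R S]
    (M : Type u) [AddCommGroup M] [Module R M] {I : Type u} [DecidableEq I] (Q : I → Submodule S (S ⊗[R] M))
    (hQ : DirectSum.IsInternal Q) (hQc : ∀ i, ∃ t : Set (S ⊗[R] M), t.Countable ∧ Submodule.span S t = Q i)
    (N : Submodule R M) (hN : ∃ s : Set M, s.Countable ∧ Submodule.span R s = N) :
    ∃ (N' : Submodule R M) (I' : Set I), N ≤ N' ∧ (∃ s : Set M, s.Countable ∧ Submodule.span R s = N') ∧
      Submodule.span S ((TensorProduct.mk R S M 1) '' (N' : Set M)) = ⨆ i ∈ I', Q i := by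
  obtain ⟨s, hs, rfl⟩ := hN
  have h1 : ∀ x : M, ∃ (C : Set M) (J : Set I), C.Countable ∧ x ∈ C ∧
      (Submodule.span R C).baseChange S = Groth.Agent.CalgB.DescProj.QQ Q J :=
    fun x => Groth.Agent.CalgB.DescProj.exists_countable_closure Q hQ.submodule_iSup_eq_top hQc x
  choose C J hC hx hCJ using h1
  have hs' : Countable s := hs
  refine ⟨⨆ x : s, Submodule.span R (C x), ⋃ x : s, J x, ?_, ?_, ?_⟩
  · rw [Submodule.span_le]
    intro x hxs
    exact Submodule.mem_iSup_of_mem ⟨x, hxs⟩ (Submodule.subset_span (hx x))
  · exact ⟨⋃ x : s, C x, Set.countable_iUnion fun x => hC x, Submodule.span_iUnion _⟩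
  · have h2 : Submodule.span S ((TensorProduct.mk R S M 1) ''
        ((⨆ x : s, Submodule.span R (C x) : Submodule R M) : Set M)) =
        (⨆ x : s, Submodule.span R (C x) : Submodule R M).baseChange S := by
      rw [Submodule.baseChange_eq_span]
      rfl
    rw [h2, Groth.Agent.CalgB.DescProj.baseChange_iSup]
    rw [show (⨆ i ∈ ⋃ x : s, J x, Q i) = Groth.Agent.CalgB.DescProj.QQ Q (⋃ x : s, J x) from rfl,
      Groth.Agent.CalgB.DescProj.QQ_iUnion]
    exact iSup_congr fun x => hCJ x

end Groth.Agent.S6383
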