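import Groth.Statements.S6385
import Groth.Agent.S0444
import Mathlib.RingTheory.NoetherNormalization
import Mathlib.RingTheory.Localization.InvSubmonoid

set_option autoImplicit false
universe u
open CAlg

namespace Groth.Agent.S6385

/-- Let k be a field, S a finite type k-algebra, q a prime of S and x the corresponding point of X =
Spec S. Then there is g ∈ S, g ∉ q, such that dim S_g equals dim_x X — the minimum of dim S_{g'}
over all g' ∉ q — and, writing d for this dimension, a finite injective k-algebra map from the
polynomial ring k[y_1, ..., y_d] to S_g. -/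
theorem result (k S : Type u) [Field k] [CommRing S] [Algebra k S]
    [Algebra.FiniteType k S] (q : Ideal S) [q.IsPrime] :
    ∃ (g : S) (d : ℕ), g ∉ q ∧ ringKrullDim (Localization.Away g) = d ∧
      (∀ g' : S, g' ∉ q → ringKrullDim (Localization.Away g) ≤ ringKrullDim (Localization.Away g')) ∧
      ∃ φ : MvPolynomial (Fin d) k →ₐ[k] Localization.Away g, Function.Injective φ ∧ φ.toRingHom.Finite := by
  -- a localization of minimal dimension
  obtain ⟨g, hg, hmin⟩ := WellFounded.has_min (r := fun a b : S =>
      ringKrullDim (Localization.Away a) < ringKrullDim (Localization.Away b))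
    (InvImage.wf (fun a : S => ringKrullDim (Localization.Away a)) wellFounded_lt) {g : S | g ∉ q}
    ⟨1, fun h => (inferInstance : q.IsPrime).ne_top ((Ideal.eq_top_iff_one q).mpr h)⟩
  have hnt : Nontrivial (Localization.Away g) := by
    rw [← not_subsingleton_iff_nontrivial, IsLocalization.subsingleton_iff (M := Submonoid.powers g)]
    rintro ⟨n, hn⟩
    apply hg
    apply (inferInstance : q.IsPrime).mem_of_pow_mem n
    rw [show g ^ n = 0 from hn]
    exact q.zero_mem
  have : Algebra.FiniteType k (Localization.Away g) :=
    Algebra.FiniteType.trans (S := S) inferInstance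
      (IsLocalization.finiteType_of_monoid_fg (Submonoid.powers g) (Localization.Away g))
  obtain ⟨s, φ, hφ, hφ'⟩ := exists_finite_inj_algHom_of_fg k (Localization.Away g)
  refine ⟨g, s, hg, Groth.Agent.S0444.ringKrullDim_eq_of_finite_inj s φ hφ hφ', ?_, φ, hφ, hφ'⟩
  intro g' hg'
  exact not_lt.mp (hmin g' hg')

end Groth.Agent.S6385
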