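import Groth.Statements.S6387
import Groth.Agent.CAlg.K63.ExactMod
import Mathlib.Algebra.Homology.ShortComplex.ModuleCat

set_option autoImplicit false
universe u
open CategoryTheory
open CAlg

namespace Groth.Agent.S6387

/-- Let R and S be Noetherian local rings, R → S a local ring map, and m the maximal ideal of R. Take a
bounded complex F_e → … → F_1 → F_0 of finitely generated S-modules, zero to the left of F_e (a
chain complex C with C_j = 0 for j > e) such that every F_j is flat over R and the complex 0 →
F_e/mF_e → … → F_0/mF_0 (C tensored over S with S/mS) is exact at F_e, …, F_1. Then 0 → F_e → … →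
F_0 is exact at F_e, …, F_1 and the cokernel of F_1 → F_0 (the homology of C in degree 0) is flat
over R. -/
theorem result {R S : Type u} [CommRing R] [CommRing S]
    [IsLocalRing R] [IsLocalRing S] [IsNoetherianRing R] [IsNoetherianRing S] [Algebra R S]
    [IsLocalHom (algebraMap R S)] (C : ChainComplex (ModuleCat.{u} S) ℕ) (e : ℕ)
    (hzero : ∀ j, e < j → Limits.IsZero (C.X j)) (hfin : ∀ j, Module.Finite S (C.X j))
    (hflat : ∀ j, Module.Flat R ((ModuleCat.restrictScalars (algebraMap R S)).obj (C.X j)))
    (hex : ∀ j, 1 ≤ j → j ≤ e →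
      (((MonoidalCategory.tensorLeft
          (ModuleCat.of S (S ⧸ (IsLocalRing.maximalIdeal R).map (algebraMap R S)))).mapHomologicalComplex
          (ComplexShape.down ℕ)).obj C).ExactAt j) :
    (∀ j, 1 ≤ j → j ≤ e → C.ExactAt j) ∧
      Module.Flat R ((ModuleCat.restrictScalars (algebraMap R S)).obj (C.homology 0)) := by
  have hex' : ∀ j, j + 1 ≤ e → Function.Exact
      ((C.d (j+2) (j+1)).hom.lTensor (S ⧸ (IsLocalRing.maximalIdeal R).map (algebraMap R S)))
      ((C.d (j+1) j).hom.lTensor (S ⧸ (IsLocalRing.maximalIdeal R).map (algebraMap R S))) := by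
    intro j h2
    have h := hex (j+1) (by omega) h2
    rw [HomologicalComplex.exactAt_iff' _ (j+2) (j+1) j (by simp) (by simp)] at h
    rw [ShortComplex.moduleCat_exact_iff_range_eq_ker] at h
    exact LinearMap.exact_iff.mpr h.symm
  have key := fun (j : ℕ) (h : j + 1 ≤ e) =>
    letI : Module R (C.X j) := Module.compHom (C.X j) (algebraMap R S)
    haveI : IsScalarTower R S (C.X j) := ⟨fun r s m => by
      change (r • s) • m = (algebraMap R S r) • (s • m)
      rw [Algebra.smul_def, mul_smul]⟩
    haveI : Module.Flat R (C.X j) := hflat j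
    haveI : Module.Finite S (C.X (j+1)) := hfin (j + 1)
    K63.ExactMod.step (R := R) (C.d (j+2) (j+1)).hom (C.d (j+1) j).hom
      (fun a => by
        have := C.d_comp_d (j+2) (j+1) j
        exact LinearMap.congr_fun (congrArg ModuleCat.Hom.hom this) a)
      (hex' j h)
  constructor
  · intro j h1 h2
    obtain ⟨j, rfl⟩ : ∃ k, j = k + 1 := ⟨j - 1, by omega⟩
    rw [HomologicalComplex.exactAt_iff' _ (j+2) (j+1) j (by simp) (by simp)]
    rw [ShortComplex.moduleCat_exact_iff_range_eq_ker]
    exact (LinearMap.exact_iff.mp (key j h2).1).symm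
  · -- the projection to the homology
    let q : C.X 0 ⟶ C.homology 0 := C.pOpcycles 0 ≫ C.isoHomologyι₀.inv
    have hq : Epi q := epi_comp _ _
    have hq' : Function.Surjective q.hom := (ModuleCat.epi_iff_surjective q).mp hq
    have hexp : (ShortComplex.mk (C.d 1 0) (C.pOpcycles 0) (C.d_pOpcycles 1 0)).Exact :=
      ShortComplex.exact_of_g_is_cokernel _ (C.opcyclesIsCokernel 1 0 (by simp))
    have hexq : Function.Exact (C.d 1 0).hom q.hom := by
      rw [ShortComplex.moduleCat_exact_iff_range_eq_ker] at hexp
      rw [LinearMap.exact_iff]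
      have h1 : LinearMap.ker q.hom = LinearMap.ker (C.pOpcycles 0).hom := by
        ext x
        rw [LinearMap.mem_ker, LinearMap.mem_ker]
        change C.isoHomologyι₀.inv.hom ((C.pOpcycles 0).hom x) = 0 ↔ _
        exact C.isoHomologyι₀.symm.toLinearEquiv.map_eq_zero_iff
      rw [h1]
      exact hexp.symm
    let : Module R (C.homology 0) := Module.compHom (C.homology 0) (algebraMap R S)
    have : IsScalarTower R S (C.homology 0) := ⟨fun r s m => by
      change (r • s) • m = (algebraMap R S r) • (s • m)
      rw [Algebra.smul_def, mul_smul]⟩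
    rcases Nat.eq_zero_or_pos e with rfl | he
    · have hz := hzero 1 (by omega)
      have hsub : Subsingleton (C.X 1) := ModuleCat.subsingleton_of_isZero hz
      have hinj : Function.Injective q.hom := by
        rw [injective_iff_map_eq_zero]
        intro x hx
        obtain ⟨y, rfl⟩ := (hexq x).mp hx
        rw [Subsingleton.elim y 0, map_zero]
      let : Module R (C.X 0) := Module.compHom (C.X 0) (algebraMap R S)
      have : IsScalarTower R S (C.X 0) := ⟨fun r s m => by
        change (r • s) • m = (algebraMap R S r) • (s • m)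
        rw [Algebra.smul_def, mul_smul]⟩
      have : Module.Flat R (C.X 0) := hflat 0
      have h1 : Module.Flat R (C.homology 0) :=
        Module.Flat.of_linearEquiv ((LinearEquiv.ofBijective q.hom ⟨hinj, hq'⟩).restrictScalars R).symm
      exact h1
    · exact (key 0 he).2 (C.homology 0) q.hom hq' hexq

end Groth.Agent.S6387
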