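import Groth.Statements.S6390
import Groth.Agent.CAlg.K63.Devissage
import Mathlib.SetTheory.Ordinal.Basic
import Mathlib.Order.WithBot

set_option autoImplicit false
universe u
open scoped Classical
open CAlg

namespace Groth.Agent.S6390

/-- An R-module M is a direct sum of countably generated modules if and only if it admits a Kaplansky
dévissage, i.e. an increasing family of submodules (M_s) indexed by a well-ordered set S with M_s =
⋃_{t<s} M_t at non-successor indices (so the first term is 0), ⋃_s M_s = M, and, whenever t is the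
successor of s, M_s a direct summand of M_t with M_t/M_s countably generated. -/
theorem result (R : Type u) [CommRing R] (M : Type u)
    [AddCommGroup M] [Module R M] :
    (∃ (ι : Type u) (N : ι → Submodule R M), DirectSum.IsInternal N ∧ ∀ i, CAlg.IsCountablyGenerated R (N i)) ↔
      ∃ (S : Type u) (_ : LinearOrder S) (_ : WellFoundedLT S) (Mf : S → Submodule R M), Monotone Mf ∧
        (∀ s : S, Order.IsSuccPrelimit s → Mf s = ⨆ t : {t : S // t < s}, Mf t.1) ∧
        (⨆ s, Mf s) = ⊤ ∧
        (∀ s t : S, s ⋖ t → ∃ C : Submodule R M, Mf s ⊓ C = ⊥ ∧ Mf s ⊔ C = Mf t ∧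
          CAlg.IsCountablyGenerated R (↥(Mf t) ⧸ Submodule.comap (Mf t).subtype (Mf s))) := by
  have hcg : ∀ {A B : Type u} [AddCommGroup A] [Module R A] [AddCommGroup B] [Module R B]
      (g : A →ₗ[R] B), Function.Surjective g → CAlg.IsCountablyGenerated R A →
      CAlg.IsCountablyGenerated R B := by
    rintro A B _ _ _ _ g hg ⟨s, hs, hs'⟩
    refine ⟨g '' s, hs.image g, ?_⟩
    rw [← Submodule.map_span, hs', Submodule.map_top, LinearMap.range_eq_top.mpr hg]
  constructor
  · rintro ⟨ι, N, hN, hNc⟩
    have hind := hN.submodule_iSupIndep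
    have htop := hN.submodule_iSup_eq_top
    obtain ⟨_, _⟩ := exists_wellFoundedLT ι
    let Mf : WithTop ι → Submodule R M := fun s => ⨆ i : ι, ⨆ (_ : (i : WithTop ι) < s), N i
    have hmono : Monotone Mf := by
      intro s t hst
      exact iSup_mono fun i => iSup_le fun hi => le_iSup_of_le (lt_of_lt_of_le hi hst) le_rfl
    refine ⟨WithTop ι, inferInstance, inferInstance, Mf, hmono, ?_, ?_, ?_⟩
    · intro s hs
      apply le_antisymm
      · refine iSup_le fun i => iSup_le fun hi => ?_
        have h1 : ¬ ((i : WithTop ι) ⋖ s) := hs (i : WithTop ι)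
        rw [not_covBy_iff hi] at h1
        obtain ⟨t, ht1, ht2⟩ := h1
        refine le_iSup_of_le ⟨t, ht2⟩ ?_
        exact le_iSup_of_le i (le_iSup_of_le ht1 le_rfl)
      · exact iSup_le fun t => hmono t.2.le
    · rw [eq_top_iff, ← htop]
      refine iSup_le fun i => le_iSup_of_le (⊤ : WithTop ι) ?_
      exact le_iSup_of_le i (le_iSup_of_le (WithTop.coe_lt_top i) le_rfl)
    · intro s t hst
      obtain ⟨i, rfl⟩ := WithTop.ne_top_iff_exists.mp (ne_top_of_lt hst.lt)
      have h1 : Mf (i : WithTop ι) ⊓ N i = ⊥ := by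
        rw [← disjoint_iff]
        refine (hind i).symm.mono_left ?_
        refine iSup_le fun j => iSup_le fun hj => ?_
        exact le_iSup_of_le j (le_iSup_of_le (WithTop.coe_lt_coe.mp hj).ne le_rfl)
      have h2 : Mf (i : WithTop ι) ⊔ N i = Mf t := by
        apply le_antisymm
        · refine sup_le (hmono hst.le) ?_
          exact le_iSup_of_le i (le_iSup_of_le hst.lt le_rfl)
        · refine iSup_le fun j => iSup_le fun hj => ?_
          rcases lt_trichotomy j i with h | h | h
          · exact le_sup_of_le_left (le_iSup_of_le j (le_iSup_of_le (WithTop.coe_lt_coe.mpr h) le_rfl))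
          · rw [h]; exact le_sup_right
          · exact absurd hj (fun h' => hst.2 (WithTop.coe_lt_coe.mpr h) h')
      refine ⟨N i, h1, h2, ?_⟩
      exact hcg (K63.Devissage.complEquiv _ _ _ h1 h2).toLinearMap
        (K63.Devissage.complEquiv _ _ _ h1 h2).surjective (hNc i)
  · rintro ⟨S, _, _, Mf, hmono, hlim, htop, hC⟩
    have hC' : ∀ p : {p : S × S // p.1 ⋖ p.2}, ∃ C : Submodule R M,
        (Mf p.1.1 ⊓ C = ⊥ ∧ Mf p.1.1 ⊔ C = Mf p.1.2) ∧
        CAlg.IsCountablyGenerated R (↥(Mf p.1.2) ⧸ Submodule.comap (Mf p.1.2).subtype (Mf p.1.1)) := by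
      intro p
      obtain ⟨C, h1, h2, h3⟩ := hC p.1.1 p.1.2 p.2
      exact ⟨C, ⟨h1, h2⟩, h3⟩
    choose C hC' hCc using hC'
    refine ⟨_, C, ?_, fun p => ?_⟩
    · convert K63.Devissage.isInternal Mf hmono hlim htop C hC'
    exact hcg (K63.Devissage.complEquiv _ _ _ (hC' p).1 (hC' p).2).symm.toLinearMap
        (K63.Devissage.complEquiv _ _ _ (hC' p).1 (hC' p).2).symm.surjective (hCc p)

end Groth.Agent.S6390
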