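import Groth.Statements.S6406
import Groth.Agent.AlgSt.K734.IsoPsh

set_option autoImplicit false
open CategoryTheory
universe v u
open FibCat

namespace Groth.Agent.S6406

/-- A category fibred in setoids over `C` admits an equivalence over `C` to a category fibred in sets
over `C`. (The target is taken in the same universes as the slices `C/U`; its morphism sets are
essentially as small as those of `C`.) -/
theorem result {C : Type u} [Category.{v} C] {𝒳 : BasedCategory.{v, max u v} C} (h𝒳 : FibCat.IsFibSetoid 𝒳.p) :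
    ∃ (𝒴 : BasedCategory.{v, max u v} C) (F : 𝒳 ⥤ᵇ 𝒴), FibCat.IsFibSet 𝒴.p ∧ FibCat.IsEquivOver F := by
  refine ⟨Stk.ofPsh (K734.Fib.isoPsh h𝒳.1), K734.Fib.toPsh h𝒳.1,
    ⟨Stk.isFibGrpd_ofPsh _, fun U => ?_⟩, K734.Fib.isEquivOver_toPsh h𝒳.1 h𝒳⟩
  refine { subsingleton := fun X Y => ⟨fun f g => ?_⟩, eq_of_hom := fun {X Y} f => ?_ }
  · apply Functor.Fiber.hom_ext
    refine K734.Fib.eq_of_setoid (K734.Fib.isFibSetoid_ofPsh _) ?_
    have h1 := f.2
    have h2 := g.2
    exact (K734.Fib.IsVert.of_lift h1).map_eq.trans (K734.Fib.IsVert.of_lift h2).map_eq.symm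
  · exact Subtype.ext (K734.Fib.eq_of_vert (K734.Fib.IsVert.of_lift f.2))

end Groth.Agent.S6406
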