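import Groth.Statements.S6407
import Groth.Agent.FibCat.K160.Setoid

set_option autoImplicit false
open CategoryTheory
universe v u
open FibCat

namespace Groth.Agent.S6407

/-- For categories `𝒳, 𝒴` fibred in setoids over `C` and functors `f, g : 𝒳 ⟶ 𝒴` over `C` that agree on
isomorphism classes of objects of each fibre category, there is a unique 2-isomorphism `f ≅ g` over
`C`. -/
theorem result {C : Type u} [Category.{v} C] {𝒳 𝒴 : BasedCategory.{v, max u v} C} (h𝒳 : FibCat.IsFibSetoid 𝒳.p) (h𝒴 : FibCat.IsFibSetoid 𝒴.p) (f g : 𝒳 ⥤ᵇ 𝒴)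
    (hfg : ∀ (U : C) (x : 𝒳.p.Fiber U), Nonempty ((FibCat.fiberFunctor f U).obj x ≅ (FibCat.fiberFunctor g U).obj x)) :
    Nonempty (Unique (f ≅ g)) := by
  refine K160.Setoid.unique_iso h𝒴 f g (fun x => ?_)
  obtain ⟨e⟩ := hfg (𝒳.p.obj x) ⟨x, rfl⟩
  exact ⟨Functor.Fiber.fiberInclusion.mapIso e, K734.Fib.IsVert.of_lift (R := 𝒳.p.obj x) e.hom.2⟩

end Groth.Agent.S6407
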