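import Groth.Statements.S6409
import Groth.Agent.AlgSt.K734.Yon2

set_option autoImplicit false
open CategoryTheory
universe v u
open FibCat

namespace Groth.Agent.S6409

/-- For `𝒳` fibred in groupoids over `C`, evaluation at `𝟙_U` is an equivalence of categories from the
category of functors `C/U ⟶ 𝒳` over `C` to the fibre category `𝒳_U`. -/
theorem result {C : Type u} [Category.{v} C] {𝒳 : BasedCategory.{v, max u v} C} (h𝒳 : FibCat.IsFibGrpd 𝒳.p) (U : C) :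
    (FibCat.evalAtId 𝒳 U).IsEquivalence := by
  have hff : (FibCat.evalAtId 𝒳 U).Full := ⟨fun {G H} φ => by
    obtain ⟨α, hα⟩ := K734.Fib.exists_homOfOne h𝒳 G H φ.1 (K734.Fib.IsVert.of_lift φ.2)
    exact ⟨α, Functor.Fiber.hom_ext hα⟩⟩
  have hfa : (FibCat.evalAtId 𝒳 U).Faithful := ⟨fun {G H} α β h =>
    K734.Fib.hom_ext_one h𝒳 (congrArg Subtype.val h)⟩
  have hes : (FibCat.evalAtId 𝒳 U).EssSurj := ⟨fun x => by
    obtain ⟨Y, e, he⟩ := K734.Fib.exists_yo h𝒳 x.1 x.2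
    exact ⟨Y, ⟨⟨⟨e.hom, he.lift (Y.w_obj _)⟩, ⟨e.inv, he.inv.lift x.2⟩,
      Functor.Fiber.hom_ext e.hom_inv_id, Functor.Fiber.hom_ext e.inv_hom_id⟩⟩⟩⟩
  exact { }

end Groth.Agent.S6409
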