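import Groth.Statements.S6423
import Groth.Agent.CatLim.K302.ConnLim
import Mathlib.Data.Finite.Sigma
import Mathlib.Data.Fintype.Sigma

set_option autoImplicit false
open CategoryTheory CategoryTheory.Limits
universe v u
open CatLim

namespace Groth.Agent.S6423

/-- (2) ⇒ (1): a category with equalizers and fibre products has all finite connected limits. -/
theorem result {C : Type u} [Category.{v} C] [HasEqualizers C] [HasPullbacks C]
    (J : Type) [SmallCategory J] [FinCategory J] [IsConnected J] : HasLimitsOfShape J C := by
  refine ⟨fun F => ?_⟩
  obtain ⟨T, hT⟩ := K302.ConnLim.exists_rep_univ_of_isConnected (F := F)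
  have : Finite (Σ j k : J, (j ⟶ k)) := inferInstance
  exact K302.ConnLim.hasLimit_of_rep (K302.ConnLim.rep_univ_univ hT)

end Groth.Agent.S6423
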