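import Groth.Statements.S6425
import Mathlib.CategoryTheory.Limits.Types.Colimits
import Mathlib.CategoryTheory.Limits.Types.Products
import Mathlib.CategoryTheory.Limits.Shapes.FunctorToTypes

set_option autoImplicit false
open CategoryTheory CategoryTheory.Limits
universe v
open CatLim

namespace Groth.Agent.S6425

/-- Over an index category in which any two objects map to a common object, the comparison map `colim (M
× N) → colim M × colim N` for diagrams of sets is surjective. -/
theorem result {I : Type v} [SmallCategory I]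
    (hI : ∀ x y : I, ∃ (z : I) (_ : x ⟶ z) (_ : y ⟶ z), True) (M N : I ⥤ Type v) :
    Function.Surjective (prodComparison (colim : (I ⥤ Type v) ⥤ Type v) M N) := by
  intro y
  let A := (colim : (I ⥤ Type v) ⥤ Type v).obj M
  let B := (colim : (I ⥤ Type v) ⥤ Type v).obj N
  obtain ⟨i, m, hm⟩ := Types.jointly_surjective' (F := M) ((prod.fst : A ⨯ B ⟶ A) y)
  obtain ⟨j, n, hn⟩ := Types.jointly_surjective' (F := N) ((prod.snd : A ⨯ B ⟶ B) y)
  obtain ⟨k, f, g, -⟩ := hI i j
  let z : (M ⨯ N).obj k := (FunctorToTypes.binaryProductIso M N).inv.app k (M.map f m, N.map g n)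
  have hz1 : (prod.fst : M ⨯ N ⟶ M).app k z = M.map f m :=
    FunctorToTypes.binaryProductIso_inv_comp_fst_apply M N k _
  have hz2 : (prod.snd : M ⨯ N ⟶ N).app k z = N.map g n :=
    FunctorToTypes.binaryProductIso_inv_comp_snd_apply M N k _
  refine ⟨colimit.ι (M ⨯ N) k z, ?_⟩
  have hinj : ∀ a b : (A ⨯ B : Type v), (prod.fst : A ⨯ B ⟶ A) a = (prod.fst : A ⨯ B ⟶ A) b →
      (prod.snd : A ⨯ B ⟶ B) a = (prod.snd : A ⨯ B ⟶ B) b → a = b := by
    intro a b h1 h2
    apply (Types.binaryProductIso A B).toEquiv.injective
    apply Prod.ext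
    · have e := Types.binaryProductIso_hom_comp_fst A B
      have ea := ConcreteCategory.congr_hom e a
      have eb := ConcreteCategory.congr_hom e b
      exact ea.trans (h1.trans eb.symm)
    · have e := Types.binaryProductIso_hom_comp_snd A B
      have ea := ConcreteCategory.congr_hom e a
      have eb := ConcreteCategory.congr_hom e b
      exact ea.trans (h2.trans eb.symm)
  apply hinj
  · rw [← hm]
    have e1 : colimit.ι (M ⨯ N) k ≫ prodComparison (colim : (I ⥤ Type v) ⥤ Type v) M N ≫ prod.fst =
        (prod.fst : M ⨯ N ⟶ M).app k ≫ colimit.ι M k := by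
      rw [prodComparison_fst]
      exact ι_colimMap _ _
    have e2 := ConcreteCategory.congr_hom e1 z
    refine e2.trans ?_
    simp only [types_comp_apply]
    rw [hz1]
    exact ConcreteCategory.congr_hom (colimit.w M f) m
  · rw [← hn]
    have e1 : colimit.ι (M ⨯ N) k ≫ prodComparison (colim : (I ⥤ Type v) ⥤ Type v) M N ≫ prod.snd =
        (prod.snd : M ⨯ N ⟶ N).app k ≫ colimit.ι N k := by
      rw [prodComparison_snd]
      exact ι_colimMap _ _
    have e2 := ConcreteCategory.congr_hom e1 z
    refine e2.trans ?_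
    simp only [types_comp_apply]
    rw [hz2]
    exact ConcreteCategory.congr_hom (colimit.w N g) n

end Groth.Agent.S6425
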