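import Groth.Statements.S6426
import Mathlib.Algebra.Category.Grp.EpiMono

set_option autoImplicit false
open CategoryTheory CategoryTheory.Limits
universe v
open CatLim

namespace Groth.Agent.S6426

/-- Over a nonempty index category in which any two objects map to a common object, the set-theoretic
colimit of a diagram of abelian groups surjects onto its colimit in abelian groups. (The published
statement does not require the index category to be nonempty; this row assumes it, because for the
empty index category the colimit of sets is empty while the colimit of abelian groups is the zero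
group.) -/
theorem result {I : Type v} [SmallCategory I] [Nonempty I]
    (hI : ∀ x y : I, ∃ (z : I) (_ : x ⟶ z) (_ : y ⟶ z), True) (M : I ⥤ AddCommGrpCat.{v}) :
    Function.Surjective (colimit.post M (forget AddCommGrpCat.{v})) := by
  let H : AddSubgroup (colimit M : AddCommGrpCat.{v}) :=
    { carrier := {y | ∃ (i : I) (m : M.obj i), colimit.ι M i m = y}
      add_mem' := by
        rintro _ _ ⟨i, m, rfl⟩ ⟨j, n, rfl⟩
        obtain ⟨k, f, g, -⟩ := hI i j
        refine ⟨k, M.map f m + M.map g n, ?_⟩
        have e1 := ConcreteCategory.congr_hom (colimit.w M f) m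
        have e2 := ConcreteCategory.congr_hom (colimit.w M g) n
        simp only [ConcreteCategory.comp_apply] at e1 e2
        rw [map_add, e1, e2]
      zero_mem' := ⟨Classical.arbitrary I, 0, map_zero _⟩
      neg_mem' := by
        rintro _ ⟨i, m, rfl⟩
        exact ⟨i, -m, map_neg _ _⟩ }
  have hH : ∀ y, y ∈ H := by
    have hq : AddCommGrpCat.ofHom (QuotientAddGroup.mk' H) = 0 := by
      apply colimit.hom_ext
      intro i
      ext m
      simp only [ConcreteCategory.comp_apply, comp_zero]
      exact (QuotientAddGroup.eq_zero_iff _).mpr ⟨i, m, rfl⟩
    intro y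
    have := ConcreteCategory.congr_hom hq y
    exact (QuotientAddGroup.eq_zero_iff _).mp this
  intro y
  obtain ⟨i, m, hm⟩ := hH y
  refine ⟨colimit.ι (M ⋙ forget AddCommGrpCat.{v}) i m, ?_⟩
  rw [← hm]
  exact ConcreteCategory.congr_hom (colimit.ι_post M (forget AddCommGrpCat.{v}) i) m

end Groth.Agent.S6426
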