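import Groth.Statements.S6427
import Groth.Agent.CatLim.K302.SpanColim

set_option autoImplicit false
open CategoryTheory CategoryTheory.Limits
universe v
open CatLim

namespace Groth.Agent.S6427

/-- Over an index category in which every pair of morphisms with common source can be completed to a
commutative square, colimits of sets preserve injective morphisms of diagrams. -/
theorem result {I : Type v} [SmallCategory I]
    (hI : ∀ ⦃x y z : I⦄ (f : x ⟶ y) (g : x ⟶ z), ∃ (w : I) (f' : y ⟶ w) (g' : z ⟶ w), f ≫ f' = g ≫ g')
    {M N : I ⥤ Type v} (φ : M ⟶ N) (hφ : ∀ i, Function.Injective (φ.app i)) :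
    Function.Injective (colimMap φ) := by
  intro x y hxy
  obtain ⟨i, m, rfl⟩ := Types.jointly_surjective' x
  obtain ⟨j, n, rfl⟩ := Types.jointly_surjective' y
  have h1 : colimit.ι N i (φ.app i m) = colimit.ι N j (φ.app j n) := by
    have e1 := ConcreteCategory.congr_hom (ι_colimMap φ i) m
    have e2 := ConcreteCategory.congr_hom (ι_colimMap φ j) n
    simp only [types_comp_apply] at e1 e2
    rw [← e1, ← e2, hxy]
  rw [K302.SpanColim.colimit_eq_iff hI] at h1 ⊢
  obtain ⟨k, f, g, h⟩ := h1
  refine ⟨k, f, g, hφ k ?_⟩
  have e1 := ConcreteCategory.congr_hom (φ.naturality f) m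
  have e2 := ConcreteCategory.congr_hom (φ.naturality g) n
  simp only [types_comp_apply] at e1 e2
  rw [e1, e2, h]

end Groth.Agent.S6427
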