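import Groth.Statements.S6428
import Mathlib.CategoryTheory.IsConnected
import Mathlib.CategoryTheory.Limits.HasLimits

set_option autoImplicit false
open CategoryTheory CategoryTheory.Limits
universe v₁ u₁ v₂ u₂ v₃ u₃
open CatLim

namespace Groth.Agent.S6428

section

variable {I : Type u₁} [Category.{v₁} I] {I' : Type u₂} [Category.{v₂} I'] {C : Type u₃} [Category.{v₃} C] (F : I ⥤ I')

set_option backward.isDefEq.respectTransparency false in
theorem eq_of_fiber (h1 : ∀ x' : I', IsConnected (F.Fiber x')) (M : I' ⥤ C) (c : Cocone (F ⋙ M)) {x' : I'}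
    (a b : F.Fiber x') :
    M.map (eqToHom a.2.symm) ≫ c.ι.app a.1 = M.map (eqToHom b.2.symm) ≫ c.ι.app b.1 := by
  have := h1 x'
  refine constant_of_preserves_morphisms
    (fun a : F.Fiber x' => M.map (eqToHom a.2.symm) ≫ (c.ι.app a.1 : M.obj (F.obj a.1) ⟶ c.pt)) ?_ a b
  intro a b φ
  have h2 : M.map (F.map φ.1) ≫ c.ι.app b.1 = c.ι.app a.1 := c.w φ.1
  have := φ.2
  have h3 : F.map φ.1 = eqToHom a.2 ≫ eqToHom b.2.symm := by
    have := IsHomLift.fac' F (𝟙 x') φ.1
    rw [this]
    simp
  rw [← h2, h3, ← M.map_comp_assoc]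
  simp

set_option backward.isDefEq.respectTransparency false in
/-- A cocone on `F ⋙ M` extends to a cocone on `M`. -/
noncomputable def extCocone (h1 : ∀ x' : I', IsConnected (F.Fiber x'))
    (h2 : ∀ ⦃x' y' : I'⦄ (α' : x' ⟶ y'), ∃ (x y : I) (hx : F.obj x = x') (hy : F.obj y = y') (α : x ⟶ y), F.map α = eqToHom hx ≫ α' ≫ eqToHom hy.symm)
    (M : I' ⥤ C) (c : Cocone (F ⋙ M)) : Cocone M where
  pt := c.pt
  ι :=
    { app := fun x' =>
        have := h1 x'
        M.map (eqToHom (Classical.arbitrary (F.Fiber x')).2.symm) ≫ c.ι.app (Classical.arbitrary (F.Fiber x')).1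
      naturality := by
        intro x' y' α'
        obtain ⟨x, y, hx, hy, α, hα⟩ := h2 α'
        have hx' := h1 x'
        have hy' := h1 y'
        have e1 := eq_of_fiber F h1 M c (Classical.arbitrary (F.Fiber x')) ⟨x, hx⟩
        have e2 := eq_of_fiber F h1 M c (Classical.arbitrary (F.Fiber y')) ⟨y, hy⟩
        have h3 : M.map (F.map α) ≫ c.ι.app y = c.ι.app x := c.w α
        simp only [Functor.const_obj_obj, Functor.const_obj_map, Category.comp_id]
        refine (congrArg (fun t => M.map α' ≫ t) e2).trans (Eq.trans ?_ e1.symm)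
        dsimp only
        rw [← h3, hα, ← M.map_comp_assoc, ← M.map_comp_assoc]
        simp }

set_option backward.isDefEq.respectTransparency false in
theorem extCocone_app (h1 : ∀ x' : I', IsConnected (F.Fiber x'))
    (h2 : ∀ ⦃x' y' : I'⦄ (α' : x' ⟶ y'), ∃ (x y : I) (hx : F.obj x = x') (hy : F.obj y = y') (α : x ⟶ y), F.map α = eqToHom hx ≫ α' ≫ eqToHom hy.symm)
    (M : I' ⥤ C) (c : Cocone (F ⋙ M)) (i : I) : (extCocone F h1 h2 M c).ι.app (F.obj i) = c.ι.app i := by
  have hx' := h1 (F.obj i)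
  have e1 := eq_of_fiber F h1 M c (Classical.arbitrary (F.Fiber (F.obj i))) ⟨i, rfl⟩
  refine e1.trans ?_
  simp

include F in
theorem ext_of_fiber (h1 : ∀ x' : I', IsConnected (F.Fiber x')) (M : I' ⥤ C) {Z : C} (a b : ∀ x', M.obj x' ⟶ Z)
    (h : ∀ i, a (F.obj i) = b (F.obj i)) (x' : I') : a x' = b x' := by
  have hx' := h1 x'
  obtain ⟨i, rfl⟩ : ∃ i, F.obj i = x' := ⟨_, (Classical.arbitrary (F.Fiber x')).2⟩
  exact h i

set_option backward.isDefEq.respectTransparency false in
theorem main (h1 : ∀ x' : I', IsConnected (F.Fiber x'))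
    (h2 : ∀ ⦃x' y' : I'⦄ (α' : x' ⟶ y'), ∃ (x y : I) (hx : F.obj x = x') (hy : F.obj y = y') (α : x ⟶ y), F.map α = eqToHom hx ≫ α' ≫ eqToHom hy.symm)
    (M : I' ⥤ C) :
    (HasColimit (F ⋙ M) ↔ HasColimit M) ∧ ∀ [HasColimit (F ⋙ M)] [HasColimit M], IsIso (colimit.pre M F) := by
  refine ⟨⟨fun h => ?_, fun h => ?_⟩, ?_⟩
  · let c := colimit.cocone (F ⋙ M)
    let hc : IsColimit c := colimit.isColimit (F ⋙ M)
    refine ⟨⟨extCocone F h1 h2 M c, ?_⟩⟩
    exact
      { desc := fun s => hc.desc (s.whisker F)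
        fac := fun s x' => ext_of_fiber F h1 M
          (fun x' => (extCocone F h1 h2 M c).ι.app x' ≫ hc.desc (s.whisker F)) (fun x' => s.ι.app x') (fun i => by
            rw [extCocone_app]
            exact hc.fac (s.whisker F) i) x'
        uniq := fun s m hm => hc.hom_ext fun i => by
          rw [hc.fac]
          have := hm (F.obj i)
          rw [extCocone_app] at this
          exact this }
  · let c := colimit.cocone M
    let hc : IsColimit c := colimit.isColimit M
    refine ⟨⟨c.whisker F, ?_⟩⟩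
    exact
      { desc := fun s => hc.desc (extCocone F h1 h2 M s)
        fac := fun s i => (hc.fac (extCocone F h1 h2 M s) (F.obj i)).trans (extCocone_app F h1 h2 M s i)
        uniq := fun s m hm => hc.hom_ext fun x' => by
          rw [hc.fac]
          refine ext_of_fiber F h1 M
            (fun x' => c.ι.app x' ≫ m) (fun x' => (extCocone F h1 h2 M s).ι.app x') (fun i => ?_) x'
          rw [extCocone_app]
          exact hm i }
  · intro _ _
    refine ⟨⟨colimit.desc M (extCocone F h1 h2 M (colimit.cocone (F ⋙ M))), ?_, ?_⟩⟩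
    · apply colimit.hom_ext
      intro i
      rw [colimit.ι_pre_assoc, colimit.ι_desc, Category.comp_id, extCocone_app]
      rfl
    · apply colimit.hom_ext
      intro x'
      refine ext_of_fiber F h1 M
        (fun x' => colimit.ι M x' ≫ colimit.desc M (extCocone F h1 h2 M (colimit.cocone (F ⋙ M))) ≫ colimit.pre M F)
        (fun x' => colimit.ι M x' ≫ 𝟙 _) (fun i => ?_) x'
      rw [colimit.ι_desc_assoc, extCocone_app]
      refine (colimit.ι_pre M F i).trans ?_
      rw [Category.comp_id]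

end

/-- If `F : I ⥤ I'` has connected fibre categories and is surjective on morphisms, then for every
diagram `M : I' ⥤ C` the colimit of `F ⋙ M` exists if and only if that of `M` does, and the
canonical comparison between them is then an isomorphism. -/
theorem result {I : Type u₁} [Category.{v₁} I] {I' : Type u₂} [Category.{v₂} I'] {C : Type u₃} [Category.{v₃} C] (F : I ⥤ I')
    (h1 : ∀ x' : I', IsConnected (F.Fiber x'))
    (h2 : ∀ ⦃x' y' : I'⦄ (α' : x' ⟶ y'), ∃ (x y : I) (hx : F.obj x = x') (hy : F.obj y = y') (α : x ⟶ y), F.map α = eqToHom hx ≫ α' ≫ eqToHom hy.symm)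
    (M : I' ⥤ C) :
    (HasColimit (F ⋙ M) ↔ HasColimit M) ∧ ∀ [HasColimit (F ⋙ M)] [HasColimit M], IsIso (colimit.pre M F) := by
  exact main F h1 h2 M

end Groth.Agent.S6428
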