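import Groth.Statements.S6434
import Groth.Agent.CatLoc.K302.Fractions
import Mathlib.CategoryTheory.Limits.Preserves.Finite
import Mathlib.Data.Finite.Sigma
import Mathlib.Data.Fintype.Sigma

set_option autoImplicit false
open CategoryTheory
universe v u v' u'
open CatLoc

namespace Groth.Agent.S6434

/-- The localization functor at a left multiplicative system commutes with finite colimits. -/
theorem result {C : Type u} [Category.{v} C] {D : Type u'} [Category.{v'} D] (W : MorphismProperty C) (L : C ⥤ D) [L.IsLocalization W] [W.HasLeftCalculusOfFractions] :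
    Limits.PreservesFiniteColimits L := by
  refine ⟨fun J _ _ => ⟨fun {K} => ⟨fun {c} hc => ?_⟩⟩⟩
  have hess : L.EssSurj := Localization.essSurj L W
  have : Finite (Σ i j : J, (i ⟶ j)) := inferInstance
  -- existence
  have hex : ∀ s : Limits.Cocone (K ⋙ L), ∃ m : L.obj c.pt ⟶ s.pt, ∀ j, L.map (c.ι.app j) ≫ m = s.ι.app j := by
    intro s
    let Y := L.objPreimage s.pt
    let e : L.obj Y ≅ s.pt := L.objObjPreimageIso s.pt
    obtain ⟨Y', t, ht, f, hf⟩ := K302.Fractions.exists_common W L (fun j => K.obj j) Y (fun j => s.ι.app j ≫ e.inv)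
    obtain ⟨Y'', t', ht', hf'⟩ := K302.Fractions.exists_common_equalize W L (ι := Σ i j : J, (i ⟶ j))
      (fun a => K.obj a.1) Y' (fun a => K.map a.2.2 ≫ f a.2.1) (fun a => f a.1) (by
        rintro ⟨i, j, a⟩
        have h1 : L.map (K.map a) ≫ s.ι.app j = s.ι.app i := s.w a
        simp only [Functor.map_comp]
        rw [← hf i, ← hf j, Category.assoc, Category.assoc, reassoc_of% h1])
    let c' : Limits.Cocone K :=
      { pt := Y''
        ι := { app := fun j => f j ≫ t'
               naturality := fun i j a => by
                 have := hf' ⟨i, j, a⟩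
                 simpa using this } }
    have hit : IsIso (L.map t) := Localization.inverts L W _ ht
    have hit' : IsIso (L.map t') := Localization.inverts L W _ ht'
    refine ⟨L.map (hc.desc c') ≫ inv (L.map t') ≫ inv (L.map t) ≫ e.hom, fun j => ?_⟩
    rw [← Functor.map_comp_assoc, hc.fac]
    have h2 : L.map (c'.ι.app j) = s.ι.app j ≫ e.inv ≫ L.map t ≫ L.map t' := by
      change L.map (f j ≫ t') = _
      rw [Functor.map_comp, ← hf j]
      simp
    rw [h2]
    simp
  -- uniqueness
  have huniq : ∀ (s : Limits.Cocone (K ⋙ L)) (m m' : L.obj c.pt ⟶ s.pt),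
      (∀ j, L.map (c.ι.app j) ≫ m = L.map (c.ι.app j) ≫ m') → m = m' := by
    intro s m m' h
    let Y := L.objPreimage s.pt
    let e : L.obj Y ≅ s.pt := L.objObjPreimageIso s.pt
    obtain ⟨Y', t, ht, f, hf⟩ := K302.Fractions.exists_common W L (ι := Bool) (fun _ => c.pt) Y
      (fun b => match b with
        | true => m ≫ e.inv
        | false => m' ≫ e.inv)
    have h1 : m ≫ e.inv ≫ L.map t = L.map (f true) := by simpa using hf true
    have h2 : m' ≫ e.inv ≫ L.map t = L.map (f false) := by simpa using hf false
    obtain ⟨Y'', t', ht', hf'⟩ := K302.Fractions.exists_common_equalize W L (ι := J)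
      (fun j => K.obj j) Y' (fun j => c.ι.app j ≫ f true) (fun j => c.ι.app j ≫ f false) (by
        intro j
        simp only [Functor.map_comp]
        rw [← h1, ← h2, reassoc_of% (h j)])
    have h3 : f true ≫ t' = f false ≫ t' := by
      apply hc.hom_ext
      intro j
      simpa using hf' j
    have hit : IsIso (L.map t) := Localization.inverts L W _ ht
    have hit' : IsIso (L.map t') := Localization.inverts L W _ ht'
    rw [← cancel_mono (e.inv ≫ L.map t ≫ L.map t')]
    have h4 := congrArg L.map h3
    rw [Functor.map_comp, Functor.map_comp, ← h1, ← h2] at h4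
    simpa using h4
  exact ⟨{ desc := fun s => (hex s).choose
           fac := fun s j => (hex s).choose_spec j
           uniq := fun s m hm => huniq s _ _ fun j => (hm j).trans ((hex s).choose_spec j).symm }⟩

end Groth.Agent.S6434
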