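import Groth.Statements.S6435
import Groth.Agent.CatLoc.K302.Fractions

set_option autoImplicit false
open CategoryTheory
universe v u v' u'
open CatLoc

namespace Groth.Agent.S6435

/-- For a multiplicative system `W` (left and right calculus of fractions) with localization functor
`L`, a morphism `f` becomes an isomorphism under `L` if and only if `g ∘ f ∈ W` and `f ∘ h ∈ W` for
some `g, h`. -/
theorem result {C : Type u} [Category.{v} C] {D : Type u'} [Category.{v'} D] (W : MorphismProperty C) (L : C ⥤ D) [L.IsLocalization W] [W.HasLeftCalculusOfFractions] [W.HasRightCalculusOfFractions]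
    {X Y : C} (f : X ⟶ Y) :
    IsIso (L.map f) ↔ ∃ (Z Z' : C) (g : Y ⟶ Z) (h : Z' ⟶ X), W (f ≫ g) ∧ W (h ≫ f) := by
  constructor
  · intro hf
    obtain ⟨X', s, hs, a, ha⟩ := K302.Fractions.exists_frac W L (inv (L.map f))
    obtain ⟨Z, t, ht, h1⟩ := K302.Fractions.exists_equalize W L (f := f ≫ a) (g := s) (by
      rw [Functor.map_comp, ← ha, IsIso.hom_inv_id_assoc])
    obtain ⟨φ, hφ⟩ := Localization.exists_rightFraction L W (inv (L.map f))
    have hφ' : L.map φ.s ≫ inv (L.map f) = L.map φ.f := by
      rw [hφ, MorphismProperty.RightFraction.map_s_comp_map]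
    obtain ⟨Z', t', ht', h2⟩ := (MorphismProperty.map_eq_iff_precomp L W (φ.f ≫ f) φ.s).mp (by
      rw [Functor.map_comp, ← hφ', Category.assoc, IsIso.inv_hom_id, Category.comp_id])
    refine ⟨Z, Z', a ≫ t, t' ≫ φ.f, ?_, ?_⟩
    · rw [← Category.assoc, h1]
      exact W.comp_mem _ _ hs ht
    · rw [Category.assoc, h2]
      exact W.comp_mem _ _ ht' φ.hs
  · rintro ⟨Z, Z', g, h, hg, hh⟩
    have i1 : IsIso (L.map f ≫ L.map g) := by
      rw [← Functor.map_comp]; exact Localization.inverts L W _ hg
    have i2 : IsIso (L.map h ≫ L.map f) := by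
      rw [← Functor.map_comp]; exact Localization.inverts L W _ hh
    have hm : IsSplitMono (L.map f) := IsSplitMono.mk' ⟨L.map g ≫ inv (L.map f ≫ L.map g), by
      rw [← Category.assoc, IsIso.hom_inv_id]⟩
    have he : Epi (L.map f) := by
      have : Epi (L.map h ≫ L.map f) := inferInstance
      exact epi_of_epi (L.map h) (L.map f)
    exact isIso_of_epi_of_isSplitMono (L.map f)

end Groth.Agent.S6435
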