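import Groth.Statements.S6436
import Mathlib.CategoryTheory.Adjunction.FullyFaithful

set_option autoImplicit false
open CategoryTheory
universe v₁ u₁ v₂ u₂
open CatLim

namespace Groth.Agent.S6436

/-- For an adjunction `u ⊣ v`, if `v ∘ u` is fully faithful then so is `u`, and if `u ∘ v` is fully
faithful then so is `v`. -/
theorem result {C : Type u₁} [Category.{v₁} C] {D : Type u₂} [Category.{v₂} D] {u : C ⥤ D} {v : D ⥤ C} (adj : u ⊣ v) :
    ((u ⋙ v).Full → (u ⋙ v).Faithful → u.Full ∧ u.Faithful) ∧ ((v ⋙ u).Full → (v ⋙ u).Faithful → v.Full ∧ v.Faithful) := by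
  constructor
  · intro hfull hfaith
    have hiso : ∀ X, IsIso (adj.unit.app X) := by
      intro X
      obtain ⟨γ, hγ⟩ := (u ⋙ v).map_surjective (X := v.obj (u.obj X)) (Y := X) (v.map (adj.counit.app (u.obj X)))
      have h1 : adj.unit.app X ≫ γ = 𝟙 X := by
        apply (u ⋙ v).map_injective
        rw [Functor.map_comp, hγ]
        change v.map (u.map (adj.unit.app X)) ≫ v.map (adj.counit.app (u.obj X)) = _
        rw [← Functor.map_comp]
        exact (congrArg v.map (adj.left_triangle_components X)).trans ((v.map_id _).trans ((u ⋙ v).map_id X).symm)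
      have h2 : γ ≫ adj.unit.app X = 𝟙 _ := by
        have := adj.unit.naturality γ
        simp only [Functor.id_map] at this
        rw [this]
        refine (congrArg (fun t => adj.unit.app (v.obj (u.obj X)) ≫ t) hγ).trans ?_
        exact adj.right_triangle_components (u.obj X)
      exact ⟨γ, h1, h2⟩
    exact ⟨adj.full_L_of_isSplitEpi_unit_app, adj.faithful_L_of_mono_unit_app⟩
  · intro hfull hfaith
    have hiso : ∀ X, IsIso (adj.counit.app X) := by
      intro X
      obtain ⟨γ, hγ⟩ := (v ⋙ u).map_surjective (X := X) (Y := u.obj (v.obj X)) (u.map (adj.unit.app (v.obj X)))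
      have h1 : γ ≫ adj.counit.app X = 𝟙 X := by
        apply (v ⋙ u).map_injective
        rw [Functor.map_comp, hγ]
        change u.map (adj.unit.app (v.obj X)) ≫ u.map (v.map (adj.counit.app X)) = _
        rw [← Functor.map_comp]
        exact (congrArg u.map (adj.right_triangle_components X)).trans ((u.map_id _).trans ((v ⋙ u).map_id X).symm)
      have h2 : adj.counit.app X ≫ γ = 𝟙 _ := by
        have := adj.counit.naturality γ
        simp only [Functor.id_map] at this
        rw [← this]
        refine (congrArg (fun t => t ≫ adj.counit.app (u.obj (v.obj X))) hγ).trans ?_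
        exact adj.left_triangle_components (v.obj X)
      exact ⟨γ, h2, h1⟩
    exact ⟨adj.full_R_of_isSplitMono_counit_app, adj.faithful_R_of_epi_counit_app⟩

end Groth.Agent.S6436
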