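import Groth.Statements.S6438
import Groth.Agent.CatLim.K302.Bipartite
import Mathlib.Data.Fintype.EquivFin

set_option autoImplicit false
open CategoryTheory
universe v u
open CatLim

namespace Groth.Agent.S6438

/-- A category with finitely many objects whose morphisms are generated under composition by finitely
many of them receives a functor from a finite category which is both final and initial, the finite
category being connected (resp. nonempty) exactly when the given one is. (The published statement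
says that limits and colimits of every diagram are computed after restriction along the functor;
this is expressed here through finality and initiality.) -/
theorem result {I : Type u} [Category.{v} I] [Finite I]
    (gen : Finset (Σ x y : I, x ⟶ y))
    (hgen : ∀ P : MorphismProperty I, P.IsMultiplicative → (∀ a ∈ gen, P a.2.2) → P = ⊤) :
    ∃ (J : Type) (_ : SmallCategory J) (_ : FinCategory J) (F : J ⥤ I),
      F.Final ∧ F.Initial ∧ (IsConnected J ↔ IsConnected I) ∧ (Nonempty J ↔ Nonempty I) := by
  classical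
  obtain ⟨n, ⟨ε⟩⟩ := Finite.exists_equiv_fin I
  obtain ⟨m, ⟨γ⟩⟩ := Finite.exists_equiv_fin {a // a ∈ gen}
  let e : Fin n → I := ε.symm
  let g : Fin m → (Σ x y : I, x ⟶ y) := fun k => (γ.symm k).1
  let E : Fin n → Fin n → Type := fun i j => {k : Fin m // (g k).1 = e i ∧ (g k).2.1 = e j} ⊕ PLift (i = j)
  let mm : ∀ {i j : Fin n}, E i j → (e i ⟶ e j) := fun {i j} a => match a with
    | Sum.inl k => eqToHom k.2.1.symm ≫ (g k.1).2.2 ≫ eqToHom k.2.2
    | Sum.inr h => eqToHom (congrArg e h.down)
  have hε : Function.Bijective e := ε.symm.bijective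
  have hid : ∀ i, ∃ a : E i i, mm a = 𝟙 _ := fun i => ⟨Sum.inr ⟨rfl⟩, rfl⟩
  have hg : ∀ P : MorphismProperty I, P.IsMultiplicative → (∀ i j (a : E i j), P (mm a)) → P = ⊤ := by
    intro P hP h
    refine hgen P hP ?_
    rintro ⟨x, y, f⟩ ha
    obtain ⟨i, rfl⟩ := hε.2 x
    obtain ⟨j, rfl⟩ := hε.2 y
    have hk : g (γ ⟨⟨e i, e j, f⟩, ha⟩) = ⟨e i, e j, f⟩ := by simp [g]
    have key : ∀ (t : Σ x y : I, x ⟶ y) (ht : t = ⟨e i, e j, f⟩) (h1 : t.1 = e i) (h2 : t.2.1 = e j),
        eqToHom h1.symm ≫ t.2.2 ≫ eqToHom h2 = f := by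
      rintro _ rfl h1 h2
      simp
    have h3 := h i j (Sum.inl ⟨γ ⟨⟨e i, e j, f⟩, ha⟩, by rw [hk], by rw [hk]⟩)
    have h4 := key _ hk (by rw [hk]) (by rw [hk])
    have h5 : mm (i := i) (j := j) (Sum.inl ⟨γ ⟨⟨e i, e j, f⟩, ha⟩, by rw [hk], by rw [hk]⟩) = f := h4
    rw [h5] at h3
    exact h3
  have hfinE : ∀ i j, Finite (E i j) := fun i j => inferInstance
  have hF := K302.Bipartite.final e hε mm hid hg
  have hI := K302.Bipartite.initial e hε mm hid hg
  refine ⟨K302.Bipartite.Obj E, inferInstance, K302.Bipartite.finCategory, K302.Bipartite.functor e mm, hF, hI, ?_, ?_⟩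
  · exact Functor.isConnected_iff_of_final (K302.Bipartite.functor (E := E) e mm)
  · constructor
    · rintro ⟨a⟩
      exact ⟨(K302.Bipartite.functor (E := E) e mm).obj a⟩
    · rintro ⟨x⟩
      exact ⟨⟨Sum.inl (ε x)⟩⟩

end Groth.Agent.S6438
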