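import Groth.Statements.S6442
import Mathlib.CategoryTheory.Sites.EpiMono
import Mathlib.CategoryTheory.Sites.LocallyBijective
import Mathlib.CategoryTheory.Sites.Subcanonical

set_option autoImplicit false
open CategoryTheory CategoryTheory.Limits Opposite
universe u
open SiteMisc

namespace Groth.Agent.S6442

/-- An object `U` of a site is weakly contractible, i.e. for every covering sieve `S` the sheafified map
`(∐_{V → U ∈ S} h_V)^# ⟶ h_U^#` has a section, if and only if taking sections over `U` turns
epimorphisms of sheaves of sets into surjections. (Coverings are taken as covering sieves; the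
coproduct is formed in presheaves and then sheafified.) -/
theorem result {C : Type u} [SmallCategory C] (J : GrothendieckTopology C) (U : C) :
    (∀ S : Sieve U, S ∈ J U →
      IsSplitEpi ((presheafToSheaf J (Type u)).map
        (Sigma.desc (fun i : (Σ V : C, {f : V ⟶ U // S f}) => yoneda.map i.2.1) :
          (∐ fun i : (Σ V : C, {f : V ⟶ U // S f}) => yoneda.obj i.1) ⟶ yoneda.obj U))) ↔
    ∀ (F G : Sheaf J (Type u)) (φ : F ⟶ G), Epi φ → Function.Surjective (φ.hom.app (op U)) := by
  constructor
  · intro H F G φ hφ s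
    have h1 : Presheaf.IsLocallySurjective J φ.hom := by
      have := (Sheaf.isLocallySurjective_iff_epi φ).mpr hφ
      exact this
    let S : Sieve U := Presheaf.imageSieve φ.hom (U := U) s
    have hS : S ∈ J U := Presheaf.imageSieve_mem J φ.hom (U := op U) s
    obtain ⟨⟨σ⟩⟩ := H S hS
    have ht0 : ∀ i : (Σ V : C, {f : V ⟶ U // S f}), ∃ t : F.obj.obj (op i.1), φ.hom.app _ t = G.obj.map i.2.1.op s :=
      fun i => i.2.2
    choose t ht using ht0
    let T : (∐ fun i : (Σ V : C, {f : V ⟶ U // S f}) => yoneda.obj i.1) ⟶ F.obj :=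
      Sigma.desc fun i => yonedaEquiv.symm (t i)
    let p : (∐ fun i : (Σ V : C, {f : V ⟶ U // S f}) => yoneda.obj i.1) ⟶ yoneda.obj U :=
      Sigma.desc (fun i : (Σ V : C, {f : V ⟶ U // S f}) => yoneda.map i.2.1)
    have hT : T ≫ φ.hom = p ≫ yonedaEquiv.symm s := by
      refine Sigma.hom_ext _ _ fun i => ?_
      rw [← Category.assoc, ← Category.assoc, Sigma.ι_desc, Sigma.ι_desc]
      apply yonedaEquiv.injective
      rw [yonedaEquiv_comp, Equiv.apply_symm_apply, ht, yonedaEquiv_comp, yonedaEquiv_yoneda_map]
      rfl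
    let adj := sheafificationAdjunction J (Type u)
    let T' : (presheafToSheaf J (Type u)).obj _ ⟶ F := (adj.homEquiv _ F).symm T
    let a : (presheafToSheaf J (Type u)).obj (yoneda.obj U) ⟶ G := (adj.homEquiv _ G).symm (yonedaEquiv.symm s)
    have hT' : T' ≫ φ = (presheafToSheaf J (Type u)).map p ≫ a := by
      apply (adj.homEquiv _ G).injective
      rw [adj.homEquiv_naturality_right, adj.homEquiv_naturality_left, Equiv.apply_symm_apply,
        Equiv.apply_symm_apply]
      exact hT
    have hb : (σ.section_ ≫ T') ≫ φ = a := by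
      rw [Category.assoc, hT', ← Category.assoc, σ.id, Category.id_comp]
    refine ⟨yonedaEquiv (adj.homEquiv _ F (σ.section_ ≫ T')), ?_⟩
    have h2 : adj.homEquiv _ F (σ.section_ ≫ T') ≫ φ.hom = yonedaEquiv.symm s := by
      have := adj.homEquiv_naturality_right (σ.section_ ≫ T') φ
      rw [hb, Equiv.apply_symm_apply] at this
      exact this.symm
    have h3 := congrArg yonedaEquiv h2
    rw [yonedaEquiv_comp, Equiv.apply_symm_apply] at h3
    exact h3
  · intro H S hS
    let p : (∐ fun i : (Σ V : C, {f : V ⟶ U // S f}) => yoneda.obj i.1) ⟶ yoneda.obj U :=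
      Sigma.desc (fun i : (Σ V : C, {f : V ⟶ U // S f}) => yoneda.map i.2.1)
    have hp : Presheaf.IsLocallySurjective J p := by
      constructor
      intro V s
      refine J.superset_covering ?_ (J.pullback_stable s hS)
      intro W g hg
      let i : (Σ V : C, {f : V ⟶ U // S f}) := ⟨W, g ≫ s, hg⟩
      refine ⟨(Sigma.ι (fun i : (Σ V : C, {f : V ⟶ U // S f}) => yoneda.obj i.1) i).app (op W) (𝟙 W), ?_⟩
      have h1 : Sigma.ι (fun i : (Σ V : C, {f : V ⟶ U // S f}) => yoneda.obj i.1) i ≫ p = yoneda.map (g ≫ s) :=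
        Sigma.ι_desc _ _
      have h2 := ConcreteCategory.congr_hom (congr_app h1 (op W)) (𝟙 W)
      refine Eq.trans ?_ (h2.trans ?_)
      · rfl
      · exact Category.id_comp _
    have hepi : Epi ((presheafToSheaf J (Type u)).map p) := by
      rw [← Sheaf.isLocallySurjective_iff_epi, Presheaf.isLocallySurjective_presheafToSheaf_map_iff]
      exact hp
    let adj := sheafificationAdjunction J (Type u)
    let x : ((presheafToSheaf J (Type u)).obj (yoneda.obj U)).obj.obj (op U) :=
      yonedaEquiv (adj.homEquiv _ _ (𝟙 ((presheafToSheaf J (Type u)).obj (yoneda.obj U))))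
    obtain ⟨y, hy⟩ := H _ _ ((presheafToSheaf J (Type u)).map p) hepi x
    refine ⟨⟨⟨(adj.homEquiv _ _).symm (yonedaEquiv.symm y), ?_⟩⟩⟩
    apply (adj.homEquiv _ _).injective
    rw [adj.homEquiv_naturality_right, Equiv.apply_symm_apply]
    apply yonedaEquiv.injective
    refine (yonedaEquiv_comp _ _).trans ?_
    rw [Equiv.apply_symm_apply]
    exact hy

end Groth.Agent.S6442
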