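import Groth.Statements.S6444
import Groth.Agent.CatLoc.K302.Fractions

set_option autoImplicit false
open CategoryTheory
universe v u v' u'
open CatLoc

namespace Groth.Agent.S6444

/-- For a left multiplicative system, a commutative square in the localization between the images of two
morphisms `f, f'` of `C` lifts to a commutative diagram `X → X'' ← X'`, `Y → Y'' ← Y'` in `C` over a
third morphism `f''`, the backward arrows lying in `W`. -/
theorem result {C : Type u} [Category.{v} C] {D : Type u'} [Category.{v'} D] (W : MorphismProperty C) (L : C ⥤ D) [L.IsLocalization W] [W.HasLeftCalculusOfFractions]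
    {X Y X' Y' : C} (f : X ⟶ Y) (f' : X' ⟶ Y') (a : L.obj X ⟶ L.obj X') (b : L.obj Y ⟶ L.obj Y') (w : L.map f ≫ b = a ≫ L.map f') :
    ∃ (X'' Y'' : C) (f'' : X'' ⟶ Y'') (g : X ⟶ X'') (h : Y ⟶ Y'') (s : X' ⟶ X'') (t : Y' ⟶ Y''),
      W s ∧ W t ∧ f ≫ h = g ≫ f'' ∧ f' ≫ t = s ≫ f'' ∧ L.map g = a ≫ L.map s ∧ L.map h = b ≫ L.map t := by
  obtain ⟨X₁, s₀, hs₀, g₀, hg₀⟩ := K302.Fractions.exists_frac W L a
  obtain ⟨Y₁, t₁, ht₁, f₁, hf₁⟩ := K302.Fractions.ore W s₀ hs₀ f'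
  obtain ⟨Y₂, t₂, ht₂, h₀, hh₀⟩ := K302.Fractions.exists_frac W L (b ≫ L.map t₁)
  obtain ⟨Y₃, t₃, ht₃, h₃⟩ := K302.Fractions.exists_equalize W L (f := f ≫ h₀) (g := g₀ ≫ f₁ ≫ t₂) (by
    have h1 : L.map s₀ ≫ L.map (f₁ ≫ t₂) = L.map f' ≫ L.map t₁ ≫ L.map t₂ := by
      rw [← Functor.map_comp, ← reassoc_of% hf₁, Functor.map_comp, Functor.map_comp]
    rw [Functor.map_comp, ← hh₀, Functor.map_comp, ← hg₀, Category.assoc, Category.assoc, h1, reassoc_of% w])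
  refine ⟨X₁, Y₃, f₁ ≫ t₂ ≫ t₃, g₀, h₀ ≫ t₃, s₀, t₁ ≫ t₂ ≫ t₃, hs₀,
    W.comp_mem _ _ ht₁ (W.comp_mem _ _ ht₂ ht₃), ?_, ?_, hg₀.symm, ?_⟩
  · simpa using h₃
  · rw [reassoc_of% hf₁]
  · simp only [Functor.map_comp]
    rw [← hh₀]
    simp only [Category.assoc]

end Groth.Agent.S6444
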