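import Groth.Statements.S6447
import Groth.Agent.FibCat.K161.TwoCart

set_option autoImplicit false
open CategoryTheory CategoryTheory.Limits
universe v u
open FibCat

namespace Groth.Agent.S6447

/-- For a 2-fibre product `U = X ×_Y V` of categories, the square formed by `U ⟶ X`, the diagonals `U ⟶
U ×_V U`, `X ⟶ X ×_Y X` and the induced functor `U ×_V U ⟶ X ×_Y X` is 2-cartesian. (The filling
2-isomorphism is the one whose two components at every object are identities; it exists and is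
unique with that property.) -/
theorem result {X Y V : Type u} [Category.{v} X] [Category.{v} Y] [Category.{v} V] (p : X ⥤ Y) (q : V ⥤ Y) :
    ∃ e, (∀ u, (e.hom.app u).fst = 𝟙 _ ∧ (e.hom.app u).snd = 𝟙 _) ∧ FibCat.IsTwoCart
      (CategoricalPullback.π₁ p q)
      ((CategoricalPullback.CatCommSqOver.toFunctorToCategoricalPullback (CategoricalPullback.π₂ p q) (CategoricalPullback.π₂ p q) (CategoricalPullback p q)).obj ⟨𝟭 _, 𝟭 _, Iso.refl _⟩)
      ((CategoricalPullback.CatCommSqOver.toFunctorToCategoricalPullback p p X).obj ⟨𝟭 _, 𝟭 _, Iso.refl _⟩)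
      (FibCat.categoricalPullbackMap (⟨CategoricalPullback.π₁ p q, q, CategoricalPullback.π₁ p q, ⟨(CatCommSq.iso (CategoricalPullback.π₁ p q) (CategoricalPullback.π₂ p q) p q).symm⟩, ⟨(CatCommSq.iso (CategoricalPullback.π₁ p q) (CategoricalPullback.π₂ p q) p q).symm⟩⟩ : CatCospanTransform (CategoricalPullback.π₂ p q) (CategoricalPullback.π₂ p q) p p))
      e := by
  let G := (FibCat.categoricalPullbackMap (⟨CategoricalPullback.π₁ p q, q, CategoricalPullback.π₁ p q, ⟨(CatCommSq.iso (CategoricalPullback.π₁ p q) (CategoricalPullback.π₂ p q) p q).symm⟩, ⟨(CatCommSq.iso (CategoricalPullback.π₁ p q) (CategoricalPullback.π₂ p q) p q).symm⟩⟩ : CatCospanTransform (CategoricalPullback.π₂ p q) (CategoricalPullback.π₂ p q) p p))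
  have hG : ∀ z, (G.obj z).iso.hom = z.fst.iso.hom ≫ q.map z.iso.hom ≫ z.snd.iso.inv := by
    intro z
    simp [G, categoricalPullbackMap]
    rfl
  have hG1 : ∀ {z z' : CategoricalPullback (CategoricalPullback.π₂ p q) (CategoricalPullback.π₂ p q)}
      (f : z ⟶ z'), (G.map f).fst = f.fst.fst := fun f => rfl
  have hG2 : ∀ {z z' : CategoricalPullback (CategoricalPullback.π₂ p q) (CategoricalPullback.π₂ p q)}
      (f : z ⟶ z'), (G.map f).snd = f.snd.fst := fun f => rfl
  let L := (CategoricalPullback.CatCommSqOver.toFunctorToCategoricalPullback (CategoricalPullback.π₂ p q) (CategoricalPullback.π₂ p q) (CategoricalPullback p q)).obj ⟨𝟭 _, 𝟭 _, Iso.refl _⟩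
  let F := (CategoricalPullback.CatCommSqOver.toFunctorToCategoricalPullback p p X).obj ⟨𝟭 _, 𝟭 _, Iso.refl _⟩
  let T := CategoricalPullback.π₁ p q
  have hw : ∀ u : CategoricalPullback p q, p.map (Iso.refl u.fst).hom ≫ (G.obj (L.obj u)).iso.hom =
      (F.obj (T.obj u)).iso.hom ≫ p.map (Iso.refl u.fst).hom := by
    intro u
    rw [hG]
    have h1 : (L.obj u).iso.hom = 𝟙 u.snd := rfl
    have h2 : (F.obj (T.obj u)).iso.hom = 𝟙 (p.obj u.fst) := rfl
    have h3 : (L.obj u).fst = u := rfl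
    have h4 : (L.obj u).snd = u := rfl
    rw [h1, h2]
    change p.map (𝟙 u.fst) ≫ u.iso.hom ≫ q.map (𝟙 u.snd) ≫ u.iso.inv = 𝟙 _ ≫ p.map (𝟙 u.fst)
    simp
  let e : T ⋙ F ≅ L ⋙ G := NatIso.ofComponents
    (fun u => CategoricalPullback.mkIso (Iso.refl u.fst) (Iso.refl u.fst) (hw u)) (by
      intro u u' f
      apply CategoricalPullback.hom_ext
      · change f.fst ≫ 𝟙 _ = 𝟙 _ ≫ f.fst
        simp
      · change f.fst ≫ 𝟙 _ = 𝟙 _ ≫ f.fst
        simp)
  have he : ∀ u, (e.hom.app u).fst = 𝟙 _ ∧ (e.hom.app u).snd = 𝟙 _ := fun u => ⟨rfl, rfl⟩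
  refine ⟨e, he, K161.TwoCart.isTwoCart_of T L F G e ?_ ?_ ?_⟩
  · intro u u' f g _ h2
    exact congrArg CategoricalPullback.Hom.fst h2
  · intro u u' a b hab
    have h1 := congrArg CategoricalPullback.Hom.fst hab
    have h2 := congrArg CategoricalPullback.Hom.snd hab
    change a ≫ 𝟙 _ = 𝟙 _ ≫ b.fst.fst at h1
    change a ≫ 𝟙 _ = 𝟙 _ ≫ b.snd.fst at h2
    rw [Category.comp_id, Category.id_comp] at h1 h2
    have h3 := b.w
    change b.fst.snd ≫ 𝟙 _ = 𝟙 _ ≫ b.snd.snd at h3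
    rw [Category.comp_id, Category.id_comp] at h3
    refine ⟨b.fst, h1.symm, ?_⟩
    apply CategoricalPullback.hom_ext
    · rfl
    · change b.fst = b.snd
      exact CategoricalPullback.hom_ext (h1.symm.trans h2) h3
  · intro x z j
    have hj := j.hom.w
    rw [hG] at hj
    let j₁ : x ≅ z.fst.fst := (CategoricalPullback.π₁ p p).mapIso j
    let j₂ : x ≅ z.snd.fst := (CategoricalPullback.π₂ p p).mapIso j
    let i : z.fst.snd ≅ z.snd.snd := z.iso
    change p.map j₁.hom ≫ z.fst.iso.hom ≫ q.map i.hom ≫ z.snd.iso.inv = 𝟙 _ ≫ p.map j₂.hom at hj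
    rw [Category.id_comp] at hj
    let k : z.fst ≅ z.snd := CategoricalPullback.mkIso (j₁.symm ≪≫ j₂) i (by
      change p.map (j₁.inv ≫ j₂.hom) ≫ z.snd.iso.hom = z.fst.iso.hom ≫ q.map i.hom
      rw [p.map_comp, ← hj]
      simp only [Category.assoc, Iso.inv_hom_id, Category.comp_id]
      rw [← Category.assoc, ← p.map_comp, Iso.inv_hom_id, p.map_id, Category.id_comp])
    refine ⟨z.fst, j₁.symm, CategoricalPullback.mkIso (Iso.refl z.fst) k ?_, ?_⟩
    · change 𝟙 _ ≫ z.iso.hom = 𝟙 _ ≫ z.iso.hom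
      rfl
    · apply CategoricalPullback.hom_ext
      · change j₁.inv ≫ j₁.hom = 𝟙 _ ≫ 𝟙 _
        simp
      · change j₁.inv ≫ j₂.hom = 𝟙 _ ≫ j₁.inv ≫ j₂.hom
        simp

end Groth.Agent.S6447
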