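import Groth.Statements.S6453
import Groth.Agent.CycA.IntLocal
import Groth.Agent.CycA.DivMult
import Mathlib.RingTheory.KrullDimension.Regular

set_option autoImplicit false
universe u
open CategoryTheory AlgebraicGeometry
attribute [local instance] HasDerivedCategory.standard
open IntMult

namespace Groth.Agent.S6453

/-- Suppose the ideal of V in O_{X,ξ} is generated by a single nonzerodivisor g (c = 1: V is an
effective Cartier divisor at ξ). Then e(X, V·W, Z) = length_{O_{X,ξ}}(O_{W,ξ}/g O_{W,ξ}), i.e. the
length of O_{X,ξ}/(I_{W,ξ} + (g)). Here X is a nonsingular variety over an algebraically closed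
field K (smooth, separated, quasi-compact, integral), V and W are closed subvarieties given by
quasi-coherent ideal sheaves with integral subschemes, of dimensions r and s with dim X = n,
intersecting properly, and ξ is the generic point of an irreducible component Z of V ∩ W (a point of
V ∩ W maximal under specialization); e(X, V·W, Z) = IntMult.mult is the alternating sum of lengths
of Tor over O_{X,ξ}, and O_{W,ξ} = O_{X,ξ}/I_{W,ξ}. -/
theorem result (K : Type u) [Field K] [IsAlgClosed K] (X : Scheme.{u}) (f : X ⟶ Spec (CommRingCat.of K)) [Smooth f] [IsSeparated f] [QuasiCompact f] [IsIntegral X] (IV IW : X.IdealSheafData) [IsIntegral IV.subscheme] [IsIntegral IW.subscheme] (n r s : ℕ) (hn : topologicalKrullDim X = n) (hr : topologicalKrullDim IV.support = r) (hs : topologicalKrullDim IW.support = s) (hprop : IntMult.ProperInt (IV.support : Set X) (IW.support : Set X) n r s) (ξ : X) (hξV : ξ ∈ IV.support) (hξW : ξ ∈ IW.support) (hmax : ∀ ξ' : X, ξ' ∈ IV.support → ξ' ∈ IW.support → ξ' ⤳ ξ → ξ' = ξ) (g : ↑(X.presheaf.stalk ξ))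 (hg : IntMult.stalkIdeal IV ξ = Ideal.span {g}) (hreg : IsSMulRegular (↑(X.presheaf.stalk ξ)) g) : (IntMult.mult IV IW ξ : ℤ) = (Module.length (X.presheaf.stalk ξ) (↑(X.presheaf.stalk ξ) ⧸ (IntMult.stalkIdeal IW ξ ⊔ Ideal.span {g}))).toNat := by
  have : IsLocallyNoetherian X := LocallyOfFiniteType.isLocallyNoetherian f
  obtain ⟨hI, hq, honly, a, b, d, ha, hb, hd, hle⟩ :=
    Groth.Agent.CycA.IntLocal.main f IV IW n r s hn hr hs hprop ξ hξV hξW hmax
  have hnzd : g ∈ nonZeroDivisors (X.presheaf.stalk ξ) :=
    mem_nonZeroDivisors_iff_right.2 fun y hy => hreg (by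
      show g • y = g • 0
      rw [smul_zero, smul_eq_mul, mul_comm]
      exact hy)
  have hgm : g ∈ IsLocalRing.maximalIdeal (X.presheaf.stalk ξ) := by
    have h1 : IntMult.stalkIdeal IV ξ ≤ IsLocalRing.maximalIdeal (X.presheaf.stalk ξ) :=
      IsLocalRing.le_maximalIdeal hI.ne_top
    rw [hg] at h1
    exact h1 (Ideal.mem_span_singleton_self g)
  have hgW : g ∉ IntMult.stalkIdeal IW ξ := by
    intro h
    have h1 : IntMult.stalkIdeal IV ξ ≤ IntMult.stalkIdeal IW ξ := by
      rw [hg, Ideal.span_singleton_le_iff_mem]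
      exact h
    have h2 := honly _ hq h1 le_rfl
    have h3 : (b : WithBot ℕ∞) = 0 := by
      rw [← hb, h2]
      exact ringKrullDim_eq_zero_of_isField
        ((Ideal.Quotient.maximal_ideal_iff_isField_quotient _).1
          (IsLocalRing.maximalIdeal.isMaximal _))
    have h4 : b = 0 := by exact_mod_cast h3
    have h5 := ringKrullDim_quotient_span_singleton_succ_eq_ringKrullDim_of_mem_nonZeroDivisors
      hnzd hgm
    rw [← hg, ha, hd] at h5
    have h6 : a + 1 = d := by exact_mod_cast h5
    omega
  rw [IntMult.mult, Groth.Agent.CycA.IntCore.chi_comm, hg,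
    Groth.Agent.CycA.DivMult.chi_eq hnzd _ hgW, sup_comm]

end Groth.Agent.S6453
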