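import Groth.Statements.S6464
-- import your own Groth.Agent.* helpers here

set_option autoImplicit false
universe u v
open CycAlg

namespace Groth.Agent.S6464

open LinearMap in
theorem aux {R : Type u} [CommRing R] {M N : Type v} [AddCommGroup M] [Module R M] [AddCommGroup N] [Module R N] (φ : M →ₗ[R] N) (ψ : N →ₗ[R] M) (h : φ ∘ₗ ψ = 0) :
    Module.length R M = Module.length R (perH φ ψ) + Module.length R (range ψ) + Module.length R (range φ) := by
  have hle : range ψ ≤ ker φ := LinearMap.range_le_ker_iff.mpr h
  have h1 : Module.length R M = Module.length R (ker φ) + Module.length R (range φ) :=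
    Module.length_eq_add_of_exact (ker φ).subtype φ.rangeRestrict (ker φ).injective_subtype
      φ.surjective_rangeRestrict (by
        rw [LinearMap.exact_iff, ker_rangeRestrict, Submodule.range_subtype])
  have h2 : Module.length R (ker φ) = Module.length R ((range ψ).submoduleOf (ker φ)) +
      Module.length R (perH φ ψ) :=
    Module.length_eq_add_of_exact (Submodule.subtype _) (Submodule.mkQ _) (Submodule.injective_subtype _)
      (Submodule.mkQ_surjective _) (by
        rw [LinearMap.exact_iff, Submodule.ker_mkQ, Submodule.range_subtype])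
  have h3 : Module.length R ((range ψ).submoduleOf (ker φ)) = Module.length R (range ψ) :=
    (Submodule.submoduleOfEquivOfLe hle).length_eq
  rw [h1, h2, h3, add_comm (Module.length R (range ψ))]

/-- Let (M, N, φ, ψ) be a 2-periodic complex over a ring R with M and N of finite length. Then its
cohomology modules have finite length and e_R(M, N, φ, ψ) = length_R(M) − length_R(N). (The case M =
N, where the conclusion reads e_R(M, φ, ψ) = 0, is the special case and is not restated.) -/
theorem result {R : Type u} [CommRing R] {M N : Type v} [AddCommGroup M] [Module R M] [AddCommGroup N] [Module R N] (φ : M →ₗ[R] N) (ψ : N →ₗ[R] M) (h : CycAlg.IsPeriodic φ ψ) (hM : Module.length R M < ⊤) (hN : Module.length R N < ⊤) : CycAlg.FinCoh R φ ψ ∧ CycAlg.herbrand R φ ψ = ((Module.length R M).toNat : ℤ) - ((Module.length R N).toNat : ℤ) := by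
  have e1 := aux φ ψ h.1
  have e2 := aux ψ φ h.2
  have n1 : Module.length R M ≠ ⊤ := hM.ne
  have n2 : Module.length R N ≠ ⊤ := hN.ne
  rw [e1] at n1
  rw [e2] at n2
  simp only [ne_eq, ENat.add_eq_top, not_or] at n1 n2
  obtain ⟨⟨a1, a2⟩, a3⟩ := n1
  obtain ⟨⟨b1, b2⟩, b3⟩ := n2
  refine ⟨⟨lt_top_iff_ne_top.mpr a1, lt_top_iff_ne_top.mpr b1⟩, ?_⟩
  rw [e1, e2, CycAlg.herbrand]
  rw [ENat.toNat_add (by simp [a1, a2]) a3, ENat.toNat_add a1 a2, ENat.toNat_add (by simp [b1, b2]) b3,
    ENat.toNat_add b1 b2]
  push_cast
  ring

end Groth.Agent.S6464
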