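import Groth.Statements.S6472
import Groth.Agent.CycA.SerreGeom
import Groth.Agent.CycA.IntLocal
import Groth.Agent.S1676
import Groth.Agent.IntMult.K303.RegImmDim

set_option autoImplicit false
universe u
open CategoryTheory CategoryTheory.Limits AlgebraicGeometry
open IntMult

namespace Groth.Agent.S6472

/-- Let X be a nonsingular variety of dimension n over the algebraically closed field K. Then Δ : X → X
×_K X, the diagonal, is regular of codimension n as an immersion (RegImm.IsRegularImmersionOfCodim
of kind regular: an immersion which, around every point, in an affine open where it is closed, is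
cut out by a regular sequence of length n). Nonsingular variety: X → Spec K smooth, separated,
quasi-compact, X integral; n = Krull dimension of X. -/
theorem result (K : Type u) [Field K] [IsAlgClosed K] (X : Scheme.{u}) (f : X ⟶ Spec (CommRingCat.of K)) [Smooth f] [IsSeparated f] [QuasiCompact f] [IsIntegral X] (n : ℕ) (hn : topologicalKrullDim X = n) : RegImm.IsRegularImmersionOfCodim RegImm.Kind.regular n (pullback.diagonal f) := by
  have h1 : Mor2.IsRegularClosedImmersion (pullback.diagonal f) :=
    S1676.result (pullback.fst f f) (pullback.diagonal f) (pullback.diagonal_fst f)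
  have h2 := (K560.Stalk.isRegularImmersion_iff_of_isClosedImmersion (pullback.diagonal f)).2 h1
  refine ⟨inferInstance, fun x => ?_⟩
  obtain ⟨U, hz, hcl, rs, hrs, hker⟩ := h2.2 x
  refine ⟨U, hz, hcl, rs, ?_, hrs, hker⟩
  have : IsLocallyNoetherian (pullback f f) :=
    LocallyOfFiniteType.isLocallyNoetherian (pullback.fst f f ≫ f)
  have hlen := K303.RegImmDim.ringKrullDim_add_length (pullback.diagonal f) x U hz hcl rs hrs hker
  obtain ⟨c, g, hg1, hg2, hg3⟩ :=
    Groth.Agent.CycA.DiagReg.exists_regular_generators_diagonal K f x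
  obtain ⟨a, t, m, ha, ht, -, hm, hat⟩ := Groth.Agent.CycA.IntLocal.exists_dims f x
  obtain ⟨δ, hδ⟩ := Groth.Agent.CycA.SerreGeom.exists_deltaCompat f
  obtain ⟨δP, hP⟩ := Groth.Agent.CycA.SerreGeom.exists_deltaCompat (pullback.fst f f ≫ f)
  have hset := Groth.Agent.CycA.SetupField.isSetup_of_field _ hδ
  have hdom : ∀ y : X, IsDomain (X.presheaf.stalk y) := fun y => inferInstance
  have e1 : pullback.fst f f (pullback.diagonal f x) = x := by
    rw [← Scheme.Hom.comp_apply, pullback.diagonal_fst]; rfl
  have e2 : pullback.snd f f (pullback.diagonal f x) = x := by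
    rw [← Scheme.Hom.comp_apply, pullback.diagonal_snd]; rfl
  obtain ⟨η₁, h₁, hk₁, hd₁, hn₁⟩ := Groth.Agent.CycA.SerreGeom.ringKrullDim_stalk hset.2.2
    (pullback.fst f f (pullback.diagonal f x))
  obtain ⟨η₂, h₂, hk₂, hd₂, hn₂⟩ := Groth.Agent.CycA.SerreGeom.ringKrullDim_stalk hset.2.2
    (pullback.snd f f (pullback.diagonal f x))
  obtain ⟨hdim, hnn⟩ := Groth.Agent.CycA.SerreGeom.ringKrullDim_prod f hδ hP
    (pullback.diagonal f x) h₁ h₂
  rw [hk₁, hk₂, Ideal.map_bot, Ideal.map_bot, sup_bot_eq,
    ringKrullDim_eq_of_ringEquiv (RingEquiv.quotientBot _)] at hdim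
  rw [Groth.Agent.CycA.SerreGeom.delta_diagonal f hδ hP] at hdim hnn
  rw [e1] at hd₁ hn₁
  rw [e2] at hd₂ hn₂
  obtain ⟨t', ht', htt⟩ := (Groth.Agent.CycB.RelDim.deltaCompat_iff.1 hδ) x
  rw [ht] at ht'
  have htt' : t = t' := by exact_mod_cast ht'
  rw [ha] at hd₁ hd₂ hlen
  rw [hdim] at hlen
  have hd₁' : a = (δ η₁ - δ x).toNat := by exact_mod_cast hd₁
  have hd₂' : a = (δ η₂ - δ x).toNat := by exact_mod_cast hd₂
  have hlen' : a + rs.length = (δ η₁ + δ η₂ - δ x).toNat := by exact_mod_cast hlen
  rw [hn] at hm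
  have hm' : n = m := by exact_mod_cast hm
  omega

end Groth.Agent.S6472
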