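import Groth.Statements.S6473
import Groth.Agent.CycA.IntLocal
import Groth.Agent.IntMult.K303.RegImmHeight

set_option autoImplicit false
universe u
open CategoryTheory CategoryTheory.Limits AlgebraicGeometry
open IntMult

namespace Groth.Agent.S6473

/-- Let f : X → Y be a morphism of varieties over K which is a regular immersion of codimension c, and Z
⊂ Y a closed subvariety of dimension d. Then each irreducible component T of f⁻¹(Z) = X ×_Y Z
satisfies dim T ≥ d − c; stated as d ≤ dim T + c. Varieties: integral, separated, of finite type
over the algebraically closed field K. (The published statement takes f to be a closed immersion,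
regular immersions being closed there; this row allows any immersion cut out, locally on Y where it
is closed, by a regular sequence of length c, the bound being local on Y. The published statement
also has a second part, for local complete intersection morphisms of a given relative dimension,
which this row does not state.) -/
theorem result (K : Type u) [Field K] [IsAlgClosed K] (X Y Z : Scheme.{u}) (gX : X ⟶ Spec (CommRingCat.of K)) (gY : Y ⟶ Spec (CommRingCat.of K)) [IsSeparated gX] [LocallyOfFiniteType gX] [QuasiCompact gX] [IsIntegral X] [IsSeparated gY] [LocallyOfFiniteType gY] [QuasiCompact gY] [IsIntegral Y] (f : X ⟶ Y) (hf : f ≫ gY = gX) (c : ℕ) (hreg : RegImm.IsRegularImmersionOfCodim RegImm.Kind.regular c f) (ι : Z ⟶ Y) [IsClosedImmersion ι] [IsIntegral Z] (d : ℕ) (hd : topologicalKrullDim Z = d) (T : Set ↥(pullback f ι)) (hT : T ∈ irreducibleComponents ↥(pullback f ι)) : ((d : ℕ) : WithBot ℕ∞) ≤ topologicalKrullDim ↥T + c := by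
  have hfi : IsImmersion f := hreg.1
  have hZ : IsLocallyNoetherian Z := LocallyOfFiniteType.isLocallyNoetherian (ι ≫ gY)
  -- the generic point of `T`
  have hTirr : IsIrreducible T := hT.1
  have hTcl : IsClosed T := isClosed_of_mem_irreducibleComponents T hT
  obtain ⟨t, ht⟩ := QuasiSober.sober hTirr hTcl
  have htmax : ∀ t' : ↥(pullback f ι), t' ⤳ t → t' = t := by
    intro t' h
    have h1 : T ⊆ closure {t'} := by
      rw [← show closure {t} = T from ht]
      exact closure_minimal (Set.singleton_subset_iff.2 (specializes_iff_mem_closure.1 h))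
        isClosed_closure
    have h2 : closure {t'} ⊆ T := hT.2 isIrreducible_singleton.closure h1
    have h3 : t ⤳ t' := by
      rw [specializes_iff_mem_closure, show closure {t} = T from ht]
      exact h2 (subset_closure rfl)
    exact (h.antisymm h3).eq
  obtain ⟨U, hz, hcl, rs, hlen, -, hker⟩ := hreg.2 (pullback.fst f ι t)
  have hle := K303.RegImmHeight.ringKrullDim_stalk_le f ι t htmax U hz hcl rs hker
  rw [hlen] at hle
  obtain ⟨a, t₁, m, ha, ht₁, -, hm, hat⟩ :=
    Groth.Agent.CycA.IntLocal.exists_dims (ι ≫ gY) (pullback.snd f ι t)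
  obtain ⟨t₂, ht₂, htd⟩ := Groth.Agent.CycB.RelDim.exists_dim_closure (pullback.snd f ι ≫ ι ≫ gY)
    (isAffineOpen_top _)
    ((Scheme.ΓSpecIso (CommRingCat.of K)).commRingCatIsoToRingEquiv.toMulEquiv.isField
      (Field.toIsField _)) t
  rw [Groth.Agent.CycB.RelDim.rtd_comp, ht₁,
    Groth.Agent.CycB.RelDim.rtd_eq_zero_of_isPreimmersion (pullback.snd f ι), add_zero] at ht₂
  rw [show closure {t} = T from ht] at htd
  have h1 : t₁ = t₂ := by exact_mod_cast ht₂
  rw [htd]
  rw [ha] at hle
  have h2 : a ≤ c := by exact_mod_cast hle
  rw [hd] at hm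
  have h3 : d = m := by exact_mod_cast hm
  have h4 : d ≤ t₂ + c := by omega
  exact_mod_cast h4

end Groth.Agent.S6473
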