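import Groth.Statements.S6475
import Groth.Agent.Cyc.K306.IntNum
import Groth.Agent.EtpbcA.CdFinDim
import Groth.Agent.CycB.ClosSheaf
import Groth.Agent.S1899

set_option autoImplicit false
universe u
open CategoryTheory AlgebraicGeometry
open Cyc

namespace Groth.Agent.S6475

/-- Let X be proper over a field k, Z ⊂ X a closed subscheme of dimension d and L_1, …, L_d invertible
O_X-modules. Then the intersection number (L_1 ⋯ L_d · Z) equals deg(c_1(L_1) ∩ … ∩ c_1(L_d) ∩
[Z]_d). The left side is FGA.intNum (alternating sum of Euler characteristics of (⊗_{i∈I} M_i) ⊗ O_Z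
with M_i inverse to L_i, which is the number defined through the numerical polynomial); the right
side iterates Cyc.c1CapFun with any nonzero rational sections starting from [Z]_d and takes
ChowOps.deg of the resulting 0-cycle. Dimension function: transcendence degree over k. The caps are
applied starting with L_1 (innermost), the reverse of the displayed order; the degree does not
depend on the order. (The published statement also gives deg_L(Z) = deg(c_1(L)^d ∩ [Z]_d) for an
ample L, the case L_1 = … = L_d = L; this row does not restate it.) -/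
theorem result (k : Type u) [Field k] (X : Scheme.{u}) [X.Over (Spec (CommRingCat.of k))] [IsProper (X ↘ Spec (CommRingCat.of k))] (δ : X → ℤ) (hX : Cyc.IsSetup X δ) (hδ : Cyc.DeltaCompat (X ↘ Spec (CommRingCat.of k)) δ (fun _ => 0)) (Z : Scheme.{u}) (ι : Z ⟶ X) [IsClosedImmersion ι] (d : ℕ) (hd : topologicalKrullDim Z = d) (L M : Fin d → X.Modules) (hL : ∀ i, PicF.IsInvertible (L i)) (hM : ∀ i, Nonempty (CohB1.tensorMod (M i) (L i) ≅ Coh.structureModule X)) (s : (i : Fin d) → (ξ : X) → Cyc.secFibre (L i) ξ) (hs : ∀ i ξ, s i ξ ≠ 0) (γ : ℕ → X → ℤ) (hγ0 : γ 0 = Cyc.subschemeFun δ d ι) (hγs : ∀ (i : ℕ) (h : i < d), γ (i + 1) = Cyc.c1CapFun δ (L ⟨i, h⟩) (γ i) (s ⟨i, h⟩)) (α : AlgebraicCycle X ℤ) (hα : ⇑α = γ d) : FGA.intNum k X d M ((Coh.push ι).obj (Coh.structureModule Z)) = ChowOps.deg (X ↘ Spec (CommRingCat.of k)) δ α := by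
  obtain ⟨D, hD⟩ := Groth.Agent.EtpbcA.CdFinDim.exists_dim_le (X ↘ Spec (CommRingCat.of k))
  have := hX.1
  have hM' : ∀ i, PicF.IsInvertible (M i) := fun i =>
    Groth.Agent.Fga.IntAdd.isInvertible_of_tensor (Groth.Agent.Ega2.Tens.swap (L i) (M i) ≪≫ (hM i).some)
  let _ : Z.Over (Spec (CommRingCat.of k)) := ⟨ι ≫ (X ↘ Spec (CommRingCat.of k))⟩
  have hZp : IsProper (Z ↘ Spec (CommRingCat.of k)) :=
    inferInstanceAs (IsProper (ι ≫ (X ↘ Spec (CommRingCat.of k))))
  have hZX : topologicalKrullDim Z = topologicalKrullDim (Set.range ι) :=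
    IsHomeomorph.topologicalKrullDim_eq _ ι.isClosedEmbedding.isEmbedding.toHomeomorph.isHomeomorph
  have hDZ : topologicalKrullDim Z ≤ D := by
    rw [hZX]
    exact (topologicalKrullDim_subspace_le X _).trans hD
  have hcut : FGA.intNum k X d M ((Coh.push ι).obj (Coh.structureModule Z)) =
      FGA.intNum k X D M ((Coh.push ι).obj (Coh.structureModule Z)) := by
    rw [Groth.Agent.Fga.MultInt.intNum_push k ι rfl d M hM', Groth.Agent.Fga.MultInt.intNum_push k ι rfl D M hM']
    simp only [FGA.intNum, Groth.Agent.Fga.IntAdd.eulerCharLE_eq k Z d hd.le,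
      Groth.Agent.Fga.IntAdd.eulerCharLE_eq k Z D hDZ]
  have hδZ : ∀ z : Z, δ (ι z) ≤ d := by
    intro z
    obtain ⟨n, h1, h2⟩ := Groth.Agent.CycB.DegReduce.dim_closure k (X ↘ Spec (CommRingCat.of k)) δ hδ (ι z)
    have h3 : closure ({ι z} : Set X) ⊆ Set.range ι :=
      closure_minimal (Set.singleton_subset_iff.2 ⟨z, rfl⟩) ι.isClosedEmbedding.isClosed_range
    have h4 : topologicalKrullDim (closure ({ι z} : Set X)) ≤ topologicalKrullDim (Set.range ι) :=
      (Topology.IsEmbedding.inclusion h3).isInducing.topologicalKrullDim_le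
    rw [h2, ← hZX, hd] at h4
    rw [h1]
    exact_mod_cast h4
  have hF : Cyc.CohLe δ d ((Coh.push ι).obj (Coh.structureModule Z)) := by
    refine ⟨Groth.Agent.CycB.ClosSheaf.isCoh_push_structureModule ι, fun x hx => ?_⟩
    by_cases h : x ∈ Set.range ι
    · obtain ⟨z, rfl⟩ := h
      exact hδZ z
    · exfalso
      rw [← not_subsingleton_iff_nontrivial] at hx
      exact hx (Groth.Agent.CycB.PushStalk.subsingleton_stalk_push ι (Coh.structureModule Z) x (by
        rwa [ι.isClosedEmbedding.isClosed_range.closure_eq]))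
  obtain ⟨α₀, hα₀⟩ := K306.IntNum.exists_sheafFun hX hF
  rw [hcut, ← K711.CycFun.num_of_sheaf (φ := fun F => FGA.intNum k X D M F) hX
    (K306.IntNum.isCycFun k X hX hδ hD M hM') hF hα₀]
  refine K306.IntNum.main k X hX hδ hD L M hL hM' hM s hs γ (K306.IntNum.sheafFun_mem hα₀) ?_ hγs hα
  rw [hγ0, hα₀]
  exact Groth.Agent.S1899.result X Z δ hX ι d hδZ

end Groth.Agent.S6475
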