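import Groth.Statements.S6476
import Groth.Agent.CycAlg.K733.LenInj

set_option autoImplicit false
universe u v
open CycAlg

namespace Groth.Agent.S6476

/-- Let A be a Noetherian local ring, M a finite A-module of dimension 1, and φ, ψ : M → M injective
with φ(ψ(M)) = ψ(φ(M)) (e.g. φ, ψ commute). Then length_A(M/φψM) is finite and (M/φψM, φ, ψ) is an
exact (2, 1)-periodic complex; here φ', ψ' denote the endomorphisms of M/φψM induced by φ and ψ, and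
exactness says both cohomology modules (CycAlg.perH) are trivial. -/
theorem result {A : Type u} [CommRing A] [IsNoetherianRing A] [IsLocalRing A] {M : Type v} [AddCommGroup M] [Module A M] [Module.Finite A M] (hdim : Module.supportDim A M = 1) (φ ψ : M →ₗ[A] M) (hφ : Function.Injective φ) (hψ : Function.Injective ψ) (hcomm : Submodule.map φ (LinearMap.range ψ) = Submodule.map ψ (LinearMap.range φ)) (φ' ψ' : (M ⧸ LinearMap.range (φ ∘ₗ ψ)) →ₗ[A] (M ⧸ LinearMap.range (φ ∘ₗ ψ))) (hφ' : φ' ∘ₗ (LinearMap.range (φ ∘ₗ ψ)).mkQ = (LinearMap.range (φ ∘ₗ ψ)).mkQ ∘ₗ φ) (hψ' : ψ' ∘ₗ (LinearMap.range (φ ∘ₗ ψ)).mkQ = (LinearMap.range (φ ∘ₗ ψ)).mkQ ∘ₗ ψ) : Module.length A (M ⧸ LinearMap.range (φ ∘ₗ ψ)) < ⊤ ∧ CycAlg.IsPeriodic φ' ψ' ∧ Subsingleton (CycAlg.perH φ' ψ') ∧ Subsingleton (CycAlg.perH ψ' φ') := by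
  have e1 : ∀ m, φ' ((LinearMap.range (φ ∘ₗ ψ)).mkQ m) = (LinearMap.range (φ ∘ₗ ψ)).mkQ (φ m) :=
    fun m => congr($hφ' m)
  have e2 : ∀ m, ψ' ((LinearMap.range (φ ∘ₗ ψ)).mkQ m) = (LinearMap.range (φ ∘ₗ ψ)).mkQ (ψ m) :=
    fun m => congr($hψ' m)
  have hr1 : ∀ m, m ∈ LinearMap.range (φ ∘ₗ ψ) ↔ ∃ x, φ (ψ x) = m := fun m => Iff.rfl
  have hr2 : ∀ m, m ∈ LinearMap.range (φ ∘ₗ ψ) ↔ ∃ x, ψ (φ x) = m := by
    intro m
    rw [LinearMap.range_comp, hcomm, ← LinearMap.range_comp]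
    rfl
  have hs := Submodule.mkQ_surjective (LinearMap.range (φ ∘ₗ ψ))
  have hk : ∀ m, (LinearMap.range (φ ∘ₗ ψ)).mkQ m = 0 ↔ m ∈ LinearMap.range (φ ∘ₗ ψ) := fun m => by
    rw [Submodule.mkQ_apply, Submodule.Quotient.mk_eq_zero]
  refine ⟨lt_top_iff_ne_top.mpr (K733.LenInj.length_quot_range_ne_top hdim.le (φ ∘ₗ ψ)
    (hφ.comp hψ)), ⟨?_, ?_⟩, ?_, ?_⟩
  · ext m
    change φ' (ψ' ((LinearMap.range (φ ∘ₗ ψ)).mkQ m)) = 0
    rw [e2, e1, hk, hr1]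
    exact ⟨m, rfl⟩
  · ext m
    change ψ' (φ' ((LinearMap.range (φ ∘ₗ ψ)).mkQ m)) = 0
    rw [e1, e2, hk, hr2]
    exact ⟨m, rfl⟩
  · rw [CycAlg.perH, Submodule.Quotient.subsingleton_iff, eq_top_iff]
    rintro ⟨x, hx⟩ -
    obtain ⟨m, rfl⟩ := hs x
    rw [LinearMap.mem_ker, e1, hk, hr1] at hx
    obtain ⟨y, hy⟩ := hx
    rw [Submodule.submoduleOf, Submodule.mem_comap]
    refine ⟨(LinearMap.range (φ ∘ₗ ψ)).mkQ y, ?_⟩
    rw [e2, hφ hy]; rfl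
  · rw [CycAlg.perH, Submodule.Quotient.subsingleton_iff, eq_top_iff]
    rintro ⟨x, hx⟩ -
    obtain ⟨m, rfl⟩ := hs x
    rw [LinearMap.mem_ker, e2, hk, hr2] at hx
    obtain ⟨y, hy⟩ := hx
    rw [Submodule.submoduleOf, Submodule.mem_comap]
    refine ⟨(LinearMap.range (φ ∘ₗ ψ)).mkQ y, ?_⟩
    rw [e1, hψ hy]; rfl

end Groth.Agent.S6476
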