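import Groth.Statements.S6479
import Groth.Agent.CycB.FlatLength
import Groth.Agent.CycB.RelDim3
import Groth.Agent.CycB.FlatDiv

set_option autoImplicit false
universe u
open CategoryTheory AlgebraicGeometry
open CategoryTheory.Limits
open Cyc

namespace Groth.Agent.S6479

/-- Let p : X' → X and p' : X'' → X' be flat with shifts c and c' on the dimension functions at generic
points of fibre components. Then the composite p' ≫ p has shift c + c' at generic points of its
fibre components, and g^* followed by (g')^* is (g ∘ g')^* on k-cycles: Cyc.pullFun (p' ≫ p) δ'' δ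
(c + c') α = Cyc.pullFun p' δ'' δ' c' (Cyc.pullFun p δ' δ c α). Setting: p : X' → X is flat (not
necessarily of finite type), (X, δ) and (X', δ') satisfy Cyc.IsSetup, and δ'(x') = δ(p x') + c
whenever x' is maximal under generalization inside its fibre p⁻¹(p x'); g^* : Z_k(X) → Z_{k+c}(X')
is the coefficientwise flat pullback Cyc.pullFun p δ' δ c. (The published statement takes both maps
to be base changes along flat S″ → S′ → S of one scheme locally of finite type over S, and has a
third part, the same composition on Chow groups, which follows; this row allows any two flat maps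
with the shift conditions.) -/
theorem result (X X' X'' : Scheme.{u}) (p : X' ⟶ X) (p' : X'' ⟶ X') [Flat p] [Flat p'] (δ : X → ℤ) (δ' : X' → ℤ) (δ'' : X'' → ℤ) (hX : Cyc.IsSetup X δ) (hX' : Cyc.IsSetup X' δ') (hX'' : Cyc.IsSetup X'' δ'') (c c' : ℤ) (hc : ∀ x' : X', (∀ y, p y = p x' → y ⤳ x' → y = x') → δ' x' = δ (p x') + c) (hc' : ∀ x'' : X'', (∀ y, p' y = p' x'' → y ⤳ x'' → y = x'') → δ'' x'' = δ' (p' x'') + c') (k : ℤ) (α : AlgebraicCycle X ℤ) (hα : α ∈ Cyc.Zk X δ k) : (∀ x'' : X'', (∀ y, (p' ≫ p) y = (p' ≫ p) x'' → y ⤳ x'' → y = x'') → δ'' x'' = δ ((p' ≫ p) x'') + (c + c')) ∧ Cyc.pullFun (p' ≫ p) δ'' δ (c + c') ⇑α = Cyc.pullFun p' δ'' δ' c' (Cyc.pullFun p δ' δ c ⇑α) := by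
  refine ⟨fun x'' hx'' => ?_, ?_⟩
  · have h1 : ∀ y, p' y = p' x'' → y ⤳ x'' → y = x'' := by
      intro y h1 h2
      refine hx'' y ?_ h2
      change p (p' y) = p (p' x'')
      rw [h1]
    have h2 : ∀ y, p y = p (p' x'') → y ⤳ p' x'' → y = p' x'' := by
      intro y hy hsp
      obtain ⟨y', h3, h4⟩ := Groth.Agent.CycB.RelDim.exists_specializes_of_flat p' hsp
      have h5 : y' = x'' := by
        refine hx'' y' ?_ h3
        change p (p' y') = p (p' x'')
        rw [h4, hy]
      rw [← h4, h5]
    have e : (p' ≫ p) x'' = p (p' x'') := rfl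
    rw [e, hc' x'' h1, hc _ h2]
    ring
  · funext x
    rw [Groth.Agent.CycB.FlatLength.pullFun_apply, Groth.Agent.CycB.FlatLength.pullFun_apply,
      Groth.Agent.CycB.FlatLength.pullFun_apply]
    have e : (p' ≫ p) x = p (p' x) := rfl
    rw [e, Groth.Agent.CycB.FlatLength.mult_comp]
    have h1 := Groth.Agent.CycB.FlatDiv.delta_le p' c' hX''.2.2 hc' x
    have h2 := Groth.Agent.CycB.FlatDiv.delta_le p c hX'.2.2 hc (p' x)
    by_cases h3 : δ'' x = δ' (p' x) + c'
    · by_cases h4 : δ' (p' x) = δ (p (p' x)) + c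
      · have h5 : δ'' x = δ (p (p' x)) + (c + c') := by omega
        rw [if_pos h3, if_pos h4, if_pos h5, ENat.toNat_mul]
        push_cast
        ring
      · have h5 : ¬ δ'' x = δ (p (p' x)) + (c + c') := by omega
        rw [if_pos h3, if_neg h4, if_neg h5, zero_mul]
    · have h5 : ¬ δ'' x = δ (p (p' x)) + (c + c') := by omega
      rw [if_neg h3, if_neg h5]

end Groth.Agent.S6479
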