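import Groth.Statements.S6480
import Groth.Agent.CycB.LenSum
import Groth.Agent.CycB.GraphOrd

set_option autoImplicit false
universe u
open CycAlg

namespace Groth.Agent.S6480

open Groth.Agent.CycB.LenSum Groth.Agent.CycB.GraphOrd

section Gen

variable {A : Type*} [CommRing A] {M : Type*} [AddCommGroup M] [Module A M]

theorem length_quot_map (f : M →ₗ[A] M) (hf : Function.Injective f) (W : Submodule A M) :
    Module.length A (M ⧸ W.map f) = Module.length A (M ⧸ W) + Module.length A (M ⧸ LinearMap.range f) := by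
  have hle : W.map f ≤ LinearMap.range f := LinearMap.map_le_range
  refine Module.length_eq_add_of_exact (W.mapQ (W.map f) f (Submodule.le_comap_map f W))
    (Submodule.factor hle) ?_ ?_ ?_
  · rw [← LinearMap.ker_eq_bot, Submodule.ker_mapQ, Submodule.comap_map_eq_of_injective hf]
    rw [eq_bot_iff]
    rintro _ ⟨x, hx, rfl⟩
    exact (Submodule.Quotient.mk_eq_zero _).2 hx
  · exact Submodule.factor_surjective hle
  · intro y
    obtain ⟨y, rfl⟩ := Submodule.mkQ_surjective _ y
    constructor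
    · intro h
      have h1 : y ∈ LinearMap.range f := by
        rw [← Submodule.Quotient.mk_eq_zero]
        exact h
      obtain ⟨x, rfl⟩ := h1
      exact ⟨Submodule.Quotient.mk x, rfl⟩
    · rintro ⟨x, hx⟩
      obtain ⟨x, rfl⟩ := Submodule.mkQ_surjective _ x
      rw [← hx]
      change (Submodule.Quotient.mk (f x) : M ⧸ LinearMap.range f) = 0
      rw [Submodule.Quotient.mk_eq_zero]
      exact ⟨x, rfl⟩

end Gen

section Dim

variable {A : Type u} [CommRing A] [IsNoetherianRing A] [IsLocalRing A]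

theorem krullDimLE_one (hA : ringKrullDim A = 1) : Ring.KrullDimLE 1 A := by
  rw [Ring.krullDimLE_iff, hA]
  rfl

theorem krullDimLE_quot (hA : ringKrullDim A = 1) (q : Ideal A) : Ring.KrullDimLE 1 (A ⧸ q) := by
  rw [Ring.krullDimLE_iff]
  exact (ringKrullDim_quotient_le q).trans (by rw [hA]; rfl)

theorem not_isMaximal (hA : ringKrullDim A = 1) {q : Ideal A} (hq : q ∈ minimalPrimes A) : ¬ q.IsMaximal := by
  intro hm
  have h0 : Ring.KrullDimLE 0 A := by
    refine Ring.KrullDimLE.mk₀ fun I hI => ?_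
    have h1 : I ≤ q := by
      rw [IsLocalRing.eq_maximalIdeal hm]
      exact IsLocalRing.le_maximalIdeal hI.ne_top
    have h2 : q ≤ I := hq.2 ⟨hI, bot_le⟩ h1
    rwa [le_antisymm h1 h2]
  have h1 : ringKrullDim A ≤ 0 := by
    have := (Ring.krullDimLE_iff (n := 0) (R := A)).1 h0
    simpa using this
  rw [hA] at h1
  exact absurd h1 (by decide)

theorem notMem_of_nonZeroDivisors {a : A} (ha : a ∈ nonZeroDivisors A) {q : Ideal A} (hq : q ∈ minimalPrimes A) :
    a ∉ q := fun h =>
  (Set.disjoint_left.1 (Ideal.disjoint_nonZeroDivisors_of_mem_minimalPrimes hq)) h ha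

variable {M : Type u} [AddCommGroup M] [Module A M] [Module.Finite A M]

theorem injective_lsmul (hMemb : ∀ p ∈ associatedPrimes A M, p ∈ minimalPrimes A) {a : A}
    (ha : a ∈ nonZeroDivisors A) : Function.Injective (LinearMap.lsmul A M a) := by
  rw [injective_iff_map_eq_zero]
  intro m hm
  by_contra h
  have h1 : a ∈ ⋃ p ∈ associatedPrimes A M, (p : Set A) := by
    rw [biUnion_associatedPrimes_eq_zero_divisors]
    exact ⟨m, h, hm⟩
  simp only [Set.mem_iUnion] at h1
  obtain ⟨p, hp, hap⟩ := h1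
  exact notMem_of_nonZeroDivisors ha (hMemb p hp) hap

theorem length_eq (hA : ringKrullDim A = 1) (hMemb : ∀ p ∈ associatedPrimes A M, p ∈ minimalPrimes A) {a : A}
    (ha : a ∈ nonZeroDivisors A) :
    Module.length A (M ⧸ LinearMap.range (LinearMap.lsmul A M a)) ≠ ⊤ ∧
    ((Module.length A (M ⧸ LinearMap.range (LinearMap.lsmul A M a))).toNat : ℤ) =
      ∑ᶠ q : NMin A, ((locLen q.1.asIdeal M).toNat : ℤ) *
        ((Ring.ord (A ⧸ q.1.asIdeal) (Ideal.Quotient.mk q.1.asIdeal a)).toNat : ℤ) := by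
  have := krullDimLE_one hA
  have hg : ∀ q : NMin A, a ∉ q.1.asIdeal := fun q => notMem_of_nonZeroDivisors ha q.2.1
  have h1 := length_quot_eq a hg M
  have h2 := length_quot_ne_top a hg M
  have h0 : Module.length A (tor a M) = 0 := by
    rw [Module.length_eq_zero_iff]
    refine ⟨fun x y => ?_⟩
    have key : ∀ z : tor a M, z = 0 := by
      rintro ⟨z, hz⟩
      exact Subtype.ext (injective_lsmul hMemb ha
        (show a • z = a • (0 : M) from (LinearMap.mem_ker.1 hz).trans (smul_zero a).symm))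
    rw [key x, key y]
  refine ⟨h2, ?_⟩
  have h3 : Module.length A (M ⧸ LinearMap.range (LinearMap.lsmul A M a)) =
      ∑ᶠ q : NMin A, locLen q.1.asIdeal M * Ring.ord (A ⧸ q.1.asIdeal) (Ideal.Quotient.mk q.1.asIdeal a) := by
    refine h1.trans ?_
    rw [h0, zero_add]
    exact finsum_congr fun q => by rw [length_quot_sup_eq_ord]
  rw [h3]
  have := Fintype.ofFinite (NMin A)
  rw [finsum_eq_sum_of_fintype, finsum_eq_sum_of_fintype]
  have h4 : ∀ q : NMin A, locLen q.1.asIdeal M * Ring.ord (A ⧸ q.1.asIdeal) (Ideal.Quotient.mk q.1.asIdeal a) =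
      (((locLen q.1.asIdeal M).toNat * (Ring.ord (A ⧸ q.1.asIdeal) (Ideal.Quotient.mk q.1.asIdeal a)).toNat : ℕ) : ℕ∞) := by
    intro q
    rw [Nat.cast_mul, ENat.natCast_toNat (locLen_ne_top q.1.asIdeal q.2.1 M), ENat.natCast_toNat]
    have hd := krullDimLE_quot hA q.1.asIdeal
    have hq : Ideal.Quotient.mk q.1.asIdeal a ≠ 0 := fun h => hg q (Ideal.Quotient.eq_zero_iff_mem.1 h)
    exact Ring.ord_ne_top (mem_nonZeroDivisors_iff_ne_zero.mpr hq)
  rw [Finset.sum_congr rfl fun q _ => h4 q, ← Nat.cast_sum, ENat.toNat_coe]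
  push_cast
  rfl

end Dim

/-- Let A be a Noetherian local ring of dimension 1, a, b ∈ A nonzerodivisors, A without embedded
primes, M a finite A-module without embedded associated primes and with Supp(M) = Spec(A). Put I =
{x ∈ A | x·(a/b) ∈ A}, and write 𝔮_1, …, 𝔮_t for the minimal prime ideals of A. The conclusion is
that M contains (a/b)IM, and that the difference length_A(M/(a/b)IM) minus length_A(M/IM) equals the
sum over i of length_{A_{𝔮_i}}(M_{𝔮_i}) multiplied by ord_{A/𝔮_i}(a/b). Encoding: I is the ideal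
quotient (bA : aA); '(a/b)IM ⊂ M' is aIM ⊆ bM; (a/b)IM is the submodule of m with bm ∈ aIM (b acts
injectively on M); ord_{A/𝔮}(a/b) is CycAlg.ordFrac on κ(𝔮) = Frac(A/𝔮); lengths are truncated to ℕ
(they are finite here). -/
theorem result {A : Type u} [CommRing A] [IsNoetherianRing A] [IsLocalRing A] (hA : ringKrullDim A = 1) {M : Type u} [AddCommGroup M] [Module A M] [Module.Finite A M] (a b : A) (ha : a ∈ nonZeroDivisors A) (hb : b ∈ nonZeroDivisors A) (hAemb : ∀ p ∈ associatedPrimes A A, p ∈ minimalPrimes A) (hMemb : ∀ p ∈ associatedPrimes A M, p ∈ minimalPrimes A) (hsupp : Module.support A M = Set.univ) (I : Ideal A) (hI : I = (Ideal.span {b}).colon (Ideal.span {a})) (P : Submodule A M) (hP : P = Submodule.comap (LinearMap.lsmul A M b) ((Ideal.span {a} * I) • (⊤ : Submodule A M))) : (Ideal.span {a} * I) • (⊤ : Submodule A M) ≤ LinearMap.range (LinearMap.lsmul A M b) ∧ ((Module.length A (M ⧸ P)).toNat : ℤ) - ((Module.length A (M ⧸ I • (⊤ : Submodule A M))).toNat : ℤ) = ∑ᶠ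 (q : PrimeSpectrum A) (_ : q.asIdeal ∈ minimalPrimes A), ((Module.length (Localization.AtPrime q.asIdeal) (LocalizedModule q.asIdeal.primeCompl M)).toNat : ℤ) * CycAlg.ordFrac (A ⧸ q.asIdeal) q.asIdeal.ResidueField (algebraMap A q.asIdeal.ResidueField a / algebraMap A q.asIdeal.ResidueField b) := by
  have hmem : ∀ x ∈ I, x * a ∈ Ideal.span {b} := by
    intro x hx
    rw [hI] at hx
    exact Submodule.mem_colon.1 hx a (Ideal.mem_span_singleton_self a)
  have hle : (Ideal.span {a} * I) • (⊤ : Submodule A M) ≤ LinearMap.range (LinearMap.lsmul A M b) := by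
    rw [Submodule.smul_le]
    intro r hr m _
    obtain ⟨x, hx, rfl⟩ := Ideal.mem_span_singleton_mul.1 hr
    obtain ⟨c, hc⟩ := Ideal.mem_span_singleton'.1 (hmem x hx)
    refine ⟨c • m, ?_⟩
    rw [LinearMap.lsmul_apply, smul_smul, mul_comm b c, hc, mul_comm x a]
  refine ⟨hle, ?_⟩
  have hPm : P.map (LinearMap.lsmul A M b) = (Ideal.span {a} * I) • (⊤ : Submodule A M) := by
    rw [hP, Submodule.map_comap_eq, inf_eq_right.2 hle]
  have hIm : (I • (⊤ : Submodule A M)).map (LinearMap.lsmul A M a) = (Ideal.span {a} * I) • (⊤ : Submodule A M) := by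
    rw [Submodule.mul_smul]
    ext y
    rw [Submodule.mem_map]
    constructor
    · rintro ⟨x, hx, rfl⟩
      exact Submodule.smul_mem_smul (Ideal.mem_span_singleton_self a) hx
    · intro hy
      rw [Submodule.ideal_span_singleton_smul, Submodule.mem_smul_pointwise_iff_exists] at hy
      exact hy
  have e1 := length_quot_map (LinearMap.lsmul A M b) (injective_lsmul hMemb hb) P
  have e2 := length_quot_map (LinearMap.lsmul A M a) (injective_lsmul hMemb ha) (I • (⊤ : Submodule A M))
  rw [hPm] at e1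
  rw [hIm, e1] at e2
  obtain ⟨ta, la⟩ := length_eq hA hMemb ha
  obtain ⟨tb, lb⟩ := length_eq hA hMemb hb
  have hbI : b ∈ I := by
    rw [hI]
    refine Submodule.mem_colon.2 fun x _ => ?_
    exact Ideal.mul_mem_right _ _ (Ideal.mem_span_singleton_self b)
  have tI : Module.length A (M ⧸ I • (⊤ : Submodule A M)) ≠ ⊤ := by
    have h : LinearMap.range (LinearMap.lsmul A M b) ≤ I • (⊤ : Submodule A M) := by
      rintro _ ⟨m, rfl⟩
      exact Submodule.smul_mem_smul hbI trivial
    exact ne_top_of_le_ne_top tb (Module.length_le_of_surjective (Submodule.factor h) (Submodule.factor_surjective h))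
  have tP : Module.length A (M ⧸ P) ≠ ⊤ := by
    have : Module.length A (M ⧸ P) + Module.length A (M ⧸ LinearMap.range (LinearMap.lsmul A M b)) ≠ ⊤ := by
      rw [e2]
      exact WithTop.add_ne_top.mpr ⟨tI, ta⟩
    exact (WithTop.add_ne_top.mp this).1
  have e3 : ((Module.length A (M ⧸ P)).toNat : ℤ) + ((Module.length A (M ⧸ LinearMap.range (LinearMap.lsmul A M b))).toNat : ℤ) =
      ((Module.length A (M ⧸ I • (⊤ : Submodule A M))).toNat : ℤ) +
        ((Module.length A (M ⧸ LinearMap.range (LinearMap.lsmul A M a))).toNat : ℤ) := by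
    rw [← ENat.natCast_toNat tP, ← ENat.natCast_toNat tI, ← ENat.natCast_toNat ta, ← ENat.natCast_toNat tb] at e2
    exact_mod_cast e2
  have e4 : ((Module.length A (M ⧸ P)).toNat : ℤ) - ((Module.length A (M ⧸ I • (⊤ : Submodule A M))).toNat : ℤ) =
      ((Module.length A (M ⧸ LinearMap.range (LinearMap.lsmul A M a))).toNat : ℤ) -
        ((Module.length A (M ⧸ LinearMap.range (LinearMap.lsmul A M b))).toNat : ℤ) := by linarith
  rw [e4, la, lb]
  have hdim := krullDimLE_one hA
  rw [← finsum_sub_distrib (Set.toFinite _) (Set.toFinite _)]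
  rw [← finsum_subtype_eq_finsum_cond (fun q : PrimeSpectrum A => q.asIdeal ∈ minimalPrimes A)]
  let e : NMin A ≃ {q : PrimeSpectrum A // q.asIdeal ∈ minimalPrimes A} :=
    { toFun := fun q => ⟨q.1, q.2.1⟩
      invFun := fun q => ⟨q.1, q.2, not_isMaximal hA q.2⟩
      left_inv := fun _ => rfl
      right_inv := fun _ => rfl }
  refine (finsum_congr fun q => ?_).trans (finsum_comp_equiv e)
  have hq1 : Ring.KrullDimLE 1 (A ⧸ q.1.asIdeal) := krullDimLE_quot hA _
  have h1 : Ideal.Quotient.mk q.1.asIdeal a ≠ 0 := fun h =>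
    notMem_of_nonZeroDivisors ha q.2.1 (Ideal.Quotient.eq_zero_iff_mem.1 h)
  have h2 : Ideal.Quotient.mk q.1.asIdeal b ≠ 0 := fun h =>
    notMem_of_nonZeroDivisors hb q.2.1 (Ideal.Quotient.eq_zero_iff_mem.1 h)
  have h3 := ordFrac_div (A := A ⧸ q.1.asIdeal) (K := q.1.asIdeal.ResidueField) h1 h2
  change _ = ((locLen q.1.asIdeal M).toNat : ℤ) * CycAlg.ordFrac (A ⧸ q.1.asIdeal) q.1.asIdeal.ResidueField
    (algebraMap A q.1.asIdeal.ResidueField a / algebraMap A q.1.asIdeal.ResidueField b)
  have h4 : CycAlg.ordFrac (A ⧸ q.1.asIdeal) q.1.asIdeal.ResidueField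
      (algebraMap A q.1.asIdeal.ResidueField a / algebraMap A q.1.asIdeal.ResidueField b) =
      ((Ring.ord (A ⧸ q.1.asIdeal) (Ideal.Quotient.mk q.1.asIdeal a)).toNat : ℤ) -
        ((Ring.ord (A ⧸ q.1.asIdeal) (Ideal.Quotient.mk q.1.asIdeal b)).toNat : ℤ) := h3
  rw [h4, mul_sub]

end Groth.Agent.S6480
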