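import Groth.Statements.S6481
import Groth.Agent.CycAlg.K733.Glue

set_option autoImplicit false
universe u
open CycAlg

namespace Groth.Agent.S6481

open K733.Glue IsLocalRing

theorem incomp (A : Type u) [CommRing A] [IsLocalRing A] (hA : ringKrullDim A = 2) (t : A)
    (htnz : t ∈ nonZeroDivisors A) {p q : Ideal A} (hp : p.IsPrime) (hq : q.IsPrime)
    (hqm : q ≠ maximalIdeal A) (htp : t ∈ p) (hpq : p ≤ q) : p = q := by
  by_contra hne
  have hlt : p < q := lt_of_le_of_ne hpq hne
  have hlt2 : q < maximalIdeal A := lt_of_le_of_ne (le_maximalIdeal hq.ne_top) hqm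
  obtain ⟨p₀, hp₀, hle⟩ := Ideal.exists_minimalPrimes_le (bot_le : ⊥ ≤ p)
  have hp₀' : p₀.IsPrime := hp₀.1.1
  have htp₀ : t ∉ p₀ := fun h =>
    (Set.disjoint_left.1 (Ideal.disjoint_nonZeroDivisors_of_mem_minimalPrimes hp₀)) h htnz
  have hlt0 : p₀ < p := lt_of_le_of_ne hle fun h => htp₀ (h ▸ htp)
  let s : LTSeries (PrimeSpectrum A) :=
    { length := 3
      toFun := ![⟨p₀, hp₀'⟩, ⟨p, hp⟩, ⟨q, hq⟩, ⟨maximalIdeal A, inferInstance⟩]
      step := by
        intro i
        fin_cases i
        · exact hlt0
        · exact hlt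
        · exact hlt2 }
  have h := Order.LTSeries.length_le_krullDim s
  have h' : ((3 : ℕ) : WithBot ℕ∞) ≤ ringKrullDim A := h
  rw [hA] at h'
  exact absurd h' (by decide)

theorem sep (A : Type u) [CommRing A] [IsLocalRing A] (hA : ringKrullDim A = 2) (t : A)
    (htnz : t ∈ nonZeroDivisors A) {r : ℕ} (q : Fin r → Ideal A) [hq : ∀ i, (q i).IsPrime]
    (hinj : Function.Injective q) (hqm : ∀ i, q i ≠ maximalIdeal A) (htq : ∀ i, t ∈ q i)
    (hV : ∀ p : Ideal A, p.IsPrime → t ∈ p → p = maximalIdeal A ∨ ∃ i, p = q i) (n : ℕ) (i j : Fin r)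
    (hij : i ≠ j) :
    ∃ s ∉ q i, ∃ ρ : Localization.AtPrime (q j), algebraMap A _ s = algebraMap A _ (t ^ n) * ρ := by
  have h1 : ¬ q j ≤ q i := fun h =>
    hij (hinj (incomp A hA t htnz (hq j) (hq i) (hqm i) (htq j) h)).symm
  obtain ⟨x, hxj, hxi⟩ := Set.not_subset.1 h1
  have h2 : algebraMap A (Localization.AtPrime (q j)) x ∈
      (Ideal.span {algebraMap A (Localization.AtPrime (q j)) (t ^ n)}).radical := by
    rw [Ideal.radical_eq_sInf, Ideal.mem_sInf]
    rintro P ⟨hP1, hP2⟩
    have h3 : algebraMap A (Localization.AtPrime (q j)) t ∈ P := by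
      have h4 := hP1 (Ideal.mem_span_singleton_self _)
      rw [map_pow] at h4
      exact hP2.mem_of_pow_mem n h4
    have h5 : P.comap (algebraMap A (Localization.AtPrime (q j))) ≤ q j := by
      have h6 := Ideal.comap_mono (f := algebraMap A (Localization.AtPrime (q j))) (le_maximalIdeal hP2.ne_top)
      exact h6.trans (IsLocalization.AtPrime.under_maximalIdeal (Localization.AtPrime (q j)) (q j)).le
    have hcp : (P.comap (algebraMap A (Localization.AtPrime (q j)))).IsPrime := Ideal.comap_isPrime _ _
    rcases hV _ hcp h3 with h | ⟨k, hk⟩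
    · rw [h] at h5
      exact (hqm j (le_antisymm (le_maximalIdeal (hq j).ne_top) h5)).elim
    · have h7 := incomp A hA t htnz hcp (hq j) (hqm j) h3 h5
      rw [← h7] at hxj
      exact hxj
  obtain ⟨N, hN⟩ := h2
  rw [← map_pow, Ideal.mem_span_singleton] at hN
  obtain ⟨ρ, hρ⟩ := hN
  exact ⟨x ^ N, fun h => hxi ((hq i).mem_of_pow_mem N h), ρ, hρ⟩

/-- Let (A, 𝔪) be a 2-dimensional Noetherian local ring, t ∈ 𝔪 a nonzerodivisor with V(t) = {𝔪, 𝔮_1, …,
𝔮_r}, and A_{𝔮_i} ⊂ B_i finite ring extensions with B_i/A_{𝔮_i} annihilated by a power of t and with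
t a nonzerodivisor on each B_i. Then A admits some finite extension A ⊂ B whose quotient B/A is
killed by some power of t, such that for every i the localization B_{𝔮_i} = B ⊗_A A_{𝔮_i} is
isomorphic to B_i (existence of an A_{𝔮_i}-algebra isomorphism; B itself is only asserted to exist).
(The published statement allows any finite ring extensions A_{𝔮_i} ⊂ B_i; this row asks t to be a
nonzerodivisor on each B_i, the case its proof treats, where B_i sits inside t^{-n}A_{𝔮_i}. The
published statement also makes B local with the same residue field as A; this row omits that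
clause.) Finite extension with quotient killed by a power of t: CycAlg.IsFinExt with the ideal (t). -/
theorem result (A : Type u) [CommRing A] [IsNoetherianRing A] [IsLocalRing A] (hA : ringKrullDim A = 2) (t : A) (ht : t ∈ IsLocalRing.maximalIdeal A) (htnz : t ∈ nonZeroDivisors A) (r : ℕ) (q : Fin r → Ideal A) (hq : ∀ i, (q i).IsPrime) (hinj : Function.Injective q) (hqm : ∀ i, q i ≠ IsLocalRing.maximalIdeal A) (htq : ∀ i, t ∈ q i) (hV : ∀ p : Ideal A, p.IsPrime → t ∈ p → p = IsLocalRing.maximalIdeal A ∨ ∃ i, p = q i) (B : Fin r → Type u) [∀ i, CommRing (B i)] [∀ i, Algebra (Localization.AtPrime (q i)) (B i)] (hB : ∀ i, CycAlg.IsFinExt (Localization.AtPrime (q i)) (B i) (Ideal.span {algebraMap A (Localization.AtPrime (q i)) t})) (htB : ∀ i, IsSMulRegular (B i) (algebraMap A (Localization.AtPrime (q i)) t)) : ∃ (C : Type u) (_ : CommRing C) (_ : Algebra A C), CycAlg.IsFinExt A C (Ideal.span {t}) ∧ ∀ i, Nonempty (TensorProduct A (Localization.AtPrime (q i)) C ≃ₐ[Localization.AtPrime (q i)] B i) := by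
  classical
  letI algB : ∀ i, Algebra A (B i) := fun i =>
    ((algebraMap (Localization.AtPrime (q i)) (B i)).comp (algebraMap A (Localization.AtPrime (q i)))).toAlgebra
  haveI towB : ∀ i, IsScalarTower A (Localization.AtPrime (q i)) (B i) := fun i =>
    IsScalarTower.of_algebraMap_eq fun _ => rfl
  have ht' : ∀ i, ∀ b : B i, t • b = 0 → b = 0 := by
    intro i b hb
    refine htB i ?_
    change algebraMap A (Localization.AtPrime (q i)) t • b = algebraMap A (Localization.AtPrime (q i)) t • (0 : B i)
    rw [smul_zero, algebraMap_smul]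
    exact hb
  have hn : ∀ i, ∃ n : ℕ, ∀ b : B i, t ^ n • b ∈ (algebraMap (Localization.AtPrime (q i)) (B i)).range := by
    intro i
    obtain ⟨n, hn⟩ := (hB i).2.2
    refine ⟨n, fun b => ?_⟩
    have h1 := hn (algebraMap A (Localization.AtPrime (q i)) t ^ n)
      (Ideal.pow_mem_pow (Ideal.mem_span_singleton_self _) n) b
    rwa [← map_pow, algebraMap_smul] at h1
  choose n0 hn0 using hn
  let n := Finset.univ.sup n0
  have hb : ∀ i, ∀ b : B i, t ^ n • b ∈ (algebraMap (Localization.AtPrime (q i)) (B i)).range := by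
    intro i b
    obtain ⟨k, hk⟩ := Nat.exists_eq_add_of_le (Finset.le_sup (f := n0) (Finset.mem_univ i))
    have hk' : n = n0 i + k := hk
    rw [hk', pow_add, mul_smul]
    exact hn0 i _
  have hsep := sep A hA t htnz q hinj hqm htq hV n
  obtain ⟨c, hc⟩ := exists_pow_smul_le q ht' (fun i => (hB i).1) hb hsep hV (n + n)
  have hc' : ∀ x ∈ M t B n, ∀ y ∈ M t B n, ∀ a ∈ maximalIdeal A ^ c, a • (x * y) ∈ M t B n :=
    fun x hx y hy a ha => hc a ha _ (mul_mem_M hx hy)
  let C : Subalgebra A (L t) := sub (maximalIdeal A ^ c) (M t B n) hc'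
  have hIM : maximalIdeal A ^ c • M t B n ≤ M t B n := Submodule.smul_le_right
  have hCT : ∀ x ∈ C, x ∈ T t n := by
    rintro _ ⟨a, y, hy, rfl⟩
    exact add_mem (algebraMap_mem_T n a) (M_le_T n (hIM hy))
  have hCS : ∀ i, C ≤ S t (B i) := by
    rintro i _ ⟨a, y, hy, rfl⟩
    exact add_mem ((S t (B i)).algebraMap_mem a) ((mem_M.1 (hIM hy)).2 i)
  have hfin : Module.Finite A C := by
    have h1 : IsNoetherian A (T t n) := isNoetherian_of_fg_of_noetherian _ (fg_T (t := t) n)
    let f : C →ₗ[A] T t n := (C.val.toLinearMap).codRestrict _ fun x => hCT _ x.2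
    exact Module.Finite.of_injective f fun x y hxy =>
      Subtype.ext (show ((f x : T t n) : L t) = (f y : L t) from congrArg Subtype.val hxy)
  refine ⟨C, inferInstance, inferInstance, ⟨?_, hfin, n, ?_⟩, fun i => ?_⟩
  · intro a b h
    exact inj_L htnz (congrArg Subtype.val h)
  · intro a ha x
    rw [Ideal.span_singleton_pow, Ideal.mem_span_singleton] at ha
    obtain ⟨w, rfl⟩ := ha
    obtain ⟨b, hb'⟩ := mem_T.1 (hCT _ x.2)
    refine ⟨w * b, Subtype.ext ?_⟩
    change algebraMap A (L t) (w * b) = (t ^ n * w) • (x : L t)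
    rw [mul_comm (t ^ n) w, mul_smul, ← hb', Algebra.smul_def, map_mul]
  · let f : C →ₐ[A] B i := (toB (ht' i)).comp (Subalgebra.inclusion (hCS i))
    have hf : ∀ x : C, algebraMap (B i) (K t (B i)) (f x) = ψ t (B i) x := fun x =>
      algebraMap_toB (ht' i) (Subalgebra.inclusion (hCS i) x)
    have hloc : IsLocalizedModule (q i).primeCompl f.toLinearMap := by
      refine ⟨fun s => ?_, fun b => ?_, fun {x y} hxy => ?_⟩
      · rw [Module.End.isUnit_iff]
        have hu : IsUnit (algebraMap A (B i) s) := by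
          rw [IsScalarTower.algebraMap_apply A (Localization.AtPrime (q i)) (B i)]
          exact (IsLocalization.map_units (Localization.AtPrime (q i)) s).map _
        have h1 : ∀ b : B i, algebraMap A (Module.End A (B i)) s b = algebraMap A (B i) s * b := fun b => by
          rw [Module.algebraMap_end_apply, Algebra.smul_def]
        constructor
        · intro b b' h
          rw [h1, h1] at h
          exact hu.mul_right_injective h
        · intro b
          refine ⟨↑hu.unit⁻¹ * b, ?_⟩
          rw [h1, ← mul_assoc, IsUnit.mul_val_inv, one_mul]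
      · obtain ⟨s, hs, x, hx, h⟩ := exists_M q ht' hb hsep i b
        have h1 : ¬ maximalIdeal A ^ c ≤ q i := by
          intro h1
          have h2 := (hq i).le_of_pow_le h1
          exact hqm i (le_antisymm (le_maximalIdeal (hq i).ne_top) h2)
        obtain ⟨s', hs', hs''⟩ := Set.not_subset.1 h1
        have hmem : s' • x ∈ C := ⟨0, s' • x, Submodule.smul_mem_smul hs' hx, by rw [map_zero, zero_add]⟩
        refine ⟨⟨⟨s' • x, hmem⟩, ⟨s' * s, fun h' => ?_⟩⟩, ?_⟩
        · rcases (hq i).mem_or_mem h' with h' | h'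
          · exact hs'' h'
          · exact hs h'
        · refine inj_K (ht' i) ?_
          refine Eq.trans ?_ (hf ⟨s' • x, hmem⟩).symm
          change algebraMap (B i) (K t (B i)) ((s' * s) • b) = ψ t (B i) (s' • x)
          rw [map_smul (ψ t (B i)), h, mul_smul, ← IsScalarTower.toAlgHom_apply A (B i) (K t (B i)),
            ← IsScalarTower.toAlgHom_apply A (B i) (K t (B i)), map_smul]
      · have h1 : ψ t (B i) ((x : L t) - (y : L t)) = 0 := by
          rw [map_sub, ← hf x, ← hf y, sub_eq_zero]
          exact congrArg _ hxy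
        obtain ⟨s, hs, h2⟩ := exists_smul_eq_zero (q i) (ht' i) (hB i).1 h1
        refine ⟨⟨s, hs⟩, Subtype.ext ?_⟩
        rw [smul_sub, sub_eq_zero] at h2
        exact h2
    have hbc : IsBaseChange (Localization.AtPrime (q i)) f.toLinearMap :=
      IsLocalizedModule.isBaseChange (q i).primeCompl (Localization.AtPrime (q i)) f.toLinearMap
    let g : TensorProduct A (Localization.AtPrime (q i)) C →ₐ[Localization.AtPrime (q i)] B i :=
      Algebra.TensorProduct.lift (Algebra.ofId (Localization.AtPrime (q i)) (B i)) f fun _ _ => Commute.all _ _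
    have hg : ∀ x, g x = hbc.equiv x := by
      intro x
      induction x using TensorProduct.induction_on with
      | zero => rw [map_zero, map_zero]
      | tmul a b =>
        rw [hbc.equiv_tmul]
        change algebraMap _ (B i) a * f b = a • f b
        rw [Algebra.smul_def]
      | add x y hx hy => rw [map_add, map_add, hx, hy]
    refine ⟨AlgEquiv.ofBijective g ?_⟩
    rw [show (g : _ → B i) = hbc.equiv from funext hg]
    exact hbc.equiv.bijective

end Groth.Agent.S6481
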