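import Groth.Statements.S6486
import Groth.Agent.IntMult.K303.ConeMain

set_option autoImplicit false
universe u
open CategoryTheory CategoryTheory.Limits AlgebraicGeometry
attribute [local instance] HasDerivedCategory.standard
open IntMult

namespace Groth.Agent.S6486

/-- Inside P^N over the algebraically closed field K let X be a nonsingular closed subvariety, n = dim
X, and fix integers 0 ≤ d, d' < n, a closed subvariety Z of X with dim Z = d, and finitely many
closed subvarieties T_i of X (i ∈ I), each of dimension d'. Then some subvariety C of P^N meets X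
properly with C · X = [Z] + Σ_j m_j [Z_j], where the Z_j ⊂ X are irreducible of dimension d and
different from Z, and for every i and j one has dim(Z_j ∩ T_i) ≤ max(dim(Z ∩ T_i), d + d' − n), and
moreover dim(Z_j ∩ T_i) < dim(Z ∩ T_i) whenever Z and T_i do not meet properly in X. (The published
statement asks dim(Z_j ∩ T_i) ≤ dim(Z ∩ T_i), which can fail when Z ∩ T_i is empty and d + d′ ≥ n;
this row asks dim(Z_j ∩ T_i) ≤ max(dim(Z ∩ T_i), d + d′ − n), the same bound whenever Z ∩ T_i is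
nonempty.) Encoding: P^N = CohB1.ProjSpace N K with dimension function δP (transcendence degree),
subvarieties are given by their generic points and prime cycles by indicator functions, C · X is the
Tor-formula product on the nonsingular variety P^N (IntMult.interProd with dim P^N = N), the Z_j are
the other points in the support of C · X, dimensions of intersections are Krull dimensions of the
closed subsets of P^N, and 'properly in X' is IntMult.ProperInt with dim X = n. -/
theorem result (K : Type u) [Field K] [IsAlgClosed K] (N : ℕ) (δP : ↥(CohB1.ProjSpace N K) → ℤ) (hP : Cyc.IsSetup (CohB1.ProjSpace N K) δP) (hδP : Cyc.DeltaCompat (CohB1.ProjSpace.toSpec N K) δP (fun _ => 0)) (X : Scheme.{u}) (f : X ⟶ Spec (CommRingCat.of K)) [Smooth f] [IsSeparated f] [QuasiCompact f] [IsIntegral X] (ι : X ⟶ CohB1.ProjSpace N K) [IsClosedImmersion ι] (hι : ι ≫ CohB1.ProjSpace.toSpec N K = f) (n d d' : ℕ) (hn : δP (ι (genericPoint X)) = n) (hd : d < n) (hd' : d' < n) (ξZ : X)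 (hZ : δP (ι ξZ) = d) (m : ℕ) (T : Fin m → X) (hT : ∀ i, δP (ι (T i)) = d') : ∃ (ξC : ↥(CohB1.ProjSpace N K)) (γ : ↥(CohB1.ProjSpace N K) → ℤ), IntMult.IntersectProperly δP N (Set.indicator {ξC} 1) (Set.indicator {ι (genericPoint X)} 1) ∧ γ = IntMult.interProd δP N (Set.indicator {ξC} 1) (Set.indicator {ι (genericPoint X)} 1) ∧ γ (ι ξZ) = 1 ∧ ∀ ζ : ↥(CohB1.ProjSpace N K), γ ζ ≠ 0 → ζ ≠ ι ξZ → ∀ i : Fin m, topologicalKrullDim ↥(closure {ζ} ∩ closure {ι (T i)}) ≤ max (topologicalKrullDim ↥(closure {ι ξZ} ∩ closure {ι (T i)})) (if n ≤ d + d' then ((d + d' - n : ℕ) : WithBot ℕ∞) else ⊥) ∧ (¬ IntMult.ProperInt (closure ({ι ξZ} : Set ↥(CohB1.ProjSpace N K))) (closure {ι (T i)}) n d d' → topologicalKrullDim ↥(closure {ζ} ∩ closure {ι (T i)}) < topologicalKrullDim ↥(closure {ι ξZ} ∩ closure {ι (T i)})) := by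
  let ι' : X ⟶ Proj (MvPolynomial.homogeneousSubmodule (Fin (N + 1)) K) := ι
  have hci : IsClosedImmersion ι' := ‹IsClosedImmersion ι›
  have hι' : f = ι' ≫ Groth.Agent.VarietyB.ProjStd.toSpec (Fin (N + 1)) K := hι.symm
  have hcl : ∀ x : X, ι' x = ι x := fun _ => rfl
  clear_value ι'
  subst hι'
  have hmain := K303.ConeMain.main N ι' (δP := δP) hδP n
    (by rw [hcl]; exact hn) ξZ (Set.range T) (Set.finite_range T)
  simp only [hcl] at hmain
  obtain ⟨c, h1, h2, h3, h4, h5⟩ : ∃ c : ↥(CohB1.ProjSpace N K), c ⤳ ι ξZ ∧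
      δP c = δP (ι ξZ) + N - n ∧ (∀ x : X, c ⤳ ι x → δP (ι x) ≤ δP (ι ξZ)) ∧
      IntMult.mult (IntMult.ptIdeal c) (IntMult.ptIdeal (ι (genericPoint X))) (ι ξZ) = 1 ∧
      ∀ x : X, c ⤳ ι x → δP (ι x) = δP (ι ξZ) → x ≠ ξZ → ∀ τ ∈ Set.range T, ∀ ζ : X,
        x ⤳ ζ → τ ⤳ ζ → (∃ ζ', ξZ ⤳ ζ' ∧ τ ⤳ ζ' ∧ δP (ι ζ) < δP (ι ζ')) ∨
          δP (ι ζ) ≤ δP (ι ξZ) + δP (ι τ) - n := hmain
  have hind : ∀ x y : ↥(CohB1.ProjSpace N K), Set.indicator {x} (1 : ↥(CohB1.ProjSpace N K) → ℤ) y
      ≠ 0 ↔ y = x := fun x y => Groth.Agent.CycA.MovRatZ.indicator_ne_zero_iff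
  refine ⟨c, _, ?_, rfl, ?_, ?_⟩
  · intro ξ η ζ hξ hη hξζ hηζ
    rw [hind] at hξ hη
    subst hξ hη
    obtain ⟨x, rfl⟩ : ζ ∈ Set.range ι :=
      hηζ.mem_closed ι.isClosedEmbedding.isClosed_range ⟨_, rfl⟩
    have := h3 x hξζ
    omega
  · rw [IntMult.interProd, finsum_eq_single _ ⟨(c, ι (genericPoint X)), h1,
      (genericPoint_specializes ξZ).map ι.continuous, by
        change δP c + δP (ι (genericPoint X)) - N = δP (ι ξZ)
        omega⟩]
    · rw [h4]
      simp
    · rintro ⟨⟨a, b⟩, hp⟩ hne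
      by_cases ha : a = c
      · have hb : b ≠ ι (genericPoint X) := by
          intro hb
          exact hne (Subtype.ext (Prod.ext ha hb))
        have hb' : Set.indicator {ι (genericPoint X)} (1 : ↥(CohB1.ProjSpace N K) → ℤ) b = 0 := by
          by_contra h
          exact hb ((hind _ _).1 h)
        change _ * Set.indicator {ι (genericPoint X)} (1 : ↥(CohB1.ProjSpace N K) → ℤ) b * _ = 0
        rw [hb', mul_zero, zero_mul]
      · have ha' : Set.indicator {c} (1 : ↥(CohB1.ProjSpace N K) → ℤ) a = 0 := by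
          by_contra h
          exact ha ((hind _ _).1 h)
        change Set.indicator {c} (1 : ↥(CohB1.ProjSpace N K) → ℤ) a * _ * _ = 0
        rw [ha', zero_mul, zero_mul]
  · intro ζ hζ hne i
    obtain ⟨ξ, η, hξ, hη, hξζ, hηζ, hδ⟩ := Groth.Agent.CycA.MovRatZ.interProd_ne_zero δP N hζ
    rw [hind] at hξ hη
    subst hξ hη
    obtain ⟨x, rfl⟩ : ζ ∈ Set.range ι :=
      hηζ.mem_closed ι.isClosedEmbedding.isClosed_range ⟨_, rfl⟩
    have hxne : x ≠ ξZ := fun h => hne (by rw [h])
    have h6 := h5 x hξζ (by omega) hxne (T i) ⟨i, rfl⟩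
    have hsm : Smooth (CohB1.ProjSpace.toSpec N K) := Groth.Agent.CycA.MovZ.smooth_toSpec K N
    obtain ⟨h7, h8⟩ := K303.ConeDim.compare (CohB1.ProjSpace.toSpec N K) hP.2.2 hδP
      (W₁ := closure {ι x} ∩ closure {ι (T i)}) (W₂ := closure {ι ξZ} ∩ closure {ι (T i)})
      (isClosed_closure.inter isClosed_closure) (isClosed_closure.inter isClosed_closure) n d d' (by
        rintro w ⟨hw1, hw2⟩
        rw [← specializes_iff_mem_closure] at hw1 hw2
        obtain ⟨y, rfl⟩ : w ∈ Set.range ι :=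
          hw1.mem_closed ι.isClosedEmbedding.isClosed_range ⟨_, rfl⟩
        have hw1' := ι.isClosedEmbedding.isInducing.specializes_iff.1 hw1
        have hw2' := ι.isClosedEmbedding.isInducing.specializes_iff.1 hw2
        rcases h6 y hw1' hw2' with ⟨ζ', h9, h10, h11⟩ | h12
        · exact Or.inl ⟨ι ζ', ⟨specializes_iff_mem_closure.1 (h9.map ι.continuous),
            specializes_iff_mem_closure.1 (h10.map ι.continuous)⟩, h11⟩
        · right
          rw [hZ, hT i] at h12
          exact h12)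
    refine ⟨h7, fun hnp => ?_⟩
    rw [IntMult.ProperInt] at hnp
    push Not at hnp
    exact h8 hnp.1 fun hnd => not_le.2 (hnp.2 hnd)

end Groth.Agent.S6486
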