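import Groth.Statements.S6487
import Groth.Agent.PicF.K663.TwistHH
import Groth.Agent.Ega2.QCohLocal

set_option autoImplicit false
universe u
open CategoryTheory CategoryTheory.Limits AlgebraicGeometry
open PicF

namespace Groth.Agent.S6487

/-- Let k be a separably closed field, X a smooth projective curve over k, K/k a field extension and L
an invertible sheaf on X_K. Then there is an invertible sheaf L_0 on X with dim_K H^0(X_K, L ⊗
L_0|_{X_K}) = 1 and H^1(X_K, L ⊗ L_0|_{X_K}) = 0. The base change X_K is given as any pullback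
square over Spec K → Spec k with its K-structure; L_0|_{X_K} is the pullback module and ⊗ is
CohB1.tensorMod; proper replaces projective (equivalent for curves over a field). -/
theorem result (k : Type u) [Field k] [IsSepClosed k] (X : Scheme.{u}) [X.Over (Spec (CommRingCat.of k))] (hX : Curve.IsSmoothProperCurve k X (X ↘ Spec (CommRingCat.of k))) (K : Type u) [Field K] [Algebra k K] (XK : Scheme.{u}) [XK.Over (Spec (CommRingCat.of K))] (g : XK ⟶ X) (hpb : IsPullback g (XK ↘ Spec (CommRingCat.of K)) (X ↘ Spec (CommRingCat.of k)) (Spec.map (CommRingCat.ofHom (algebraMap k K)))) (L : XK.Modules) (hL : PicF.IsInvertible L) : ∃ L₀ : X.Modules, PicF.IsInvertible L₀ ∧ Module.finrank K (Coh.HH XK (CohB1.tensorMod L ((Scheme.Modules.pullback g).obj L₀)) 0) = 1 ∧ Subsingleton (Coh.HH XK (CohB1.tensorMod L ((Scheme.Modules.pullback g).obj L₀)) 1) := by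
  classical
  let f : X ⟶ Spec (CommRingCat.of k) := X ↘ Spec (CommRingCat.of k)
  let t : Spec (CommRingCat.of K) ⟶ Spec (CommRingCat.of k) :=
    Spec.map (CommRingCat.ofHom (algebraMap k K))
  let T : Over (Spec (CommRingCat.of k)) := Over.mk t
  obtain ⟨P⟩ := Picfga.CurveP1.exists_p1Data (f := f) hX
  obtain ⟨ι, E, hE⟩ := Picfga.GoodTwist.exists_good_twist hX P
  let e : XK ≅ PicF.XT f T := hpb.isoPullback
  have he1 : e.hom ≫ pullback.fst f T.hom = g := hpb.isoPullback_hom_fst
  have he2 : e.hom ≫ pullback.snd f T.hom = XK ↘ Spec (CommRingCat.of K) := hpb.isoPullback_hom_snd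
  have hLe : PicF.IsInvertible ((Scheme.Modules.pullback e.inv).obj L) :=
    Fdesc.LocGen.isInvertible_pullback e.inv hL
  obtain ⟨i, hi⟩ := hE T K (Iso.refl _) (Grpsch.PicGrp.mk _ hLe)
  obtain ⟨L₀, hL₀, hL₀c⟩ := Grpsch.PicGrp.exists_mk (E i)
  have hfst := Fdesc.LocGen.isInvertible_pullback (pullback.fst f T.hom) hL₀
  have hM : PicF.IsInvertible (CohB1.tensorMod ((Scheme.Modules.pullback e.inv).obj L)
      ((Scheme.Modules.pullback (pullback.fst f T.hom)).obj L₀)) :=
    Fdesc.LocGen.isInvertible_tensorMod hLe hfst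
  obtain ⟨hv, h1⟩ := hi _ hM (by
    rw [← Grpsch.PicGrp.mk_mul_mk hLe hfst, hL₀c, Grpsch.PicGrp.pull_mk])
  have hMq := Ega2.QCohLocal.isQCoh_of_isInvertible hM
  refine ⟨L₀, hL₀, ?_⟩
  have hg := Fdesc.LocGen.isInvertible_pullback g hL₀
  have hN := Fdesc.LocGen.isInvertible_tensorMod hL hg
  have hMe := Fdesc.LocGen.isInvertible_pullback e.hom hM
  have hiso : Nonempty ((Scheme.Modules.pullback e.hom).obj (CohB1.tensorMod
      ((Scheme.Modules.pullback e.inv).obj L)
      ((Scheme.Modules.pullback (pullback.fst f T.hom)).obj L₀)) ≅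
      CohB1.tensorMod L ((Scheme.Modules.pullback g).obj L₀)) := by
    rw [← Grpsch.PicGrp.mk_eq_iff hMe hN, ← Grpsch.PicGrp.mk_mul_mk hL hg,
      ← Grpsch.PicGrp.pull_mk e.hom hM, ← Grpsch.PicGrp.mk_mul_mk hLe hfst, map_mul,
      ← Grpsch.PicGrp.pull_mk e.inv hL, ← Grpsch.PicGrp.pull_comp, ← Grpsch.PicGrp.pull_mk _ hL₀,
      ← Grpsch.PicGrp.pull_comp, he1, e.hom_inv_id, ← Grpsch.PicGrp.pull_mk g hL₀]
    congr 1
    exact Grpsch.PicGrp.pull_id _
  obtain ⟨φ⟩ := hiso
  let _ := K663.TwistHH.ovr (f := f) K t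
  have hover : e.hom ≫ (PicF.XT f T ↘ Spec (CommRingCat.of K)) = XK ↘ Spec (CommRingCat.of K) := he2
  have heq : ∀ n : ℕ, Nonempty (Coh.HH XK (CohB1.tensorMod L ((Scheme.Modules.pullback g).obj L₀)) n ≃ₗ[K]
      Coh.HH (PicF.XT f T) (CohB1.tensorMod ((Scheme.Modules.pullback e.inv).obj L)
      ((Scheme.Modules.pullback (pullback.fst f T.hom)).obj L₀)) n) := by
    intro n
    obtain ⟨q⟩ := CurvesB.SubEuler.nonempty_equiv_pullback e.hom K hover _ hMq n
    exact ⟨(Fga.EulerIso.HHequiv K φ n).symm.trans q⟩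
  constructor
  · obtain ⟨q⟩ := heq 0
    rw [q.finrank_eq]
    exact K663.TwistHH.finrank_h0 K t _ h1
  · obtain ⟨q⟩ := heq 1
    have := K663.TwistHH.subsingleton_h1 K t P _ hMq hv
    exact q.injective.subsingleton

end Groth.Agent.S6487
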