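import Groth.Statements.S6488
import Groth.Agent.Bivar.K930.DefoStruct

set_option autoImplicit false
universe u
open CategoryTheory AlgebraicGeometry
open Cyc

namespace Groth.Agent.S6488

open CategoryTheory.Limits Opposite K930 K930.Chow K930.PushPull K930.Gysin K930.DefoExists CycB

/-- Let (L, s, i : D → X) be a triple defining a Gysin map. There is a commutative diagram with i' : D'
→ X', p : D' → D, g : X' → X (p ≫ i = i' ≫ g) such that (1) p and g are flat, of finite type, with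
all fibre components of dimension 1, (2) p^* : CH_k(D) → CH_{k+1}(D') is injective for all k, (3) i'
identifies D' with the vanishing scheme in X' of a single global function s' ∈ Γ(X', O_{X'}), and
(4) p^* ∘ i^* = (i')^* ∘ g^* : CH_{k+1}(X) → CH_{k+1}(D'). Dimension functions on X', D' are the
induced ones; Gysin maps are computed as c_1 ∩ − with the sections s, s' where nonzero and arbitrary
nonzero fallbacks. (The published statement adds that these properties survive any base change Y → X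
locally of finite type; this row omits that addendum.) Here a pair (X, δ) with Cyc.IsSetup plays the
role of a scheme locally of finite type over the base (S, δ) (X locally Noetherian with universally
catenary local rings, δ a dimension function), and Cyc.DeltaCompat records that the dimension
function upstairs is the induced one. -/
theorem result (X D : Scheme.{u}) (δ : X → ℤ) (hX : Cyc.IsSetup X δ) (L : X.Modules) (hL : PicF.IsInvertible L) (s : L.presheaf.obj (Opposite.op ⊤)) (i : D ⟶ X) [IsClosedImmersion i] (hD : Cyc.IsZeroSchemeOf i L s) : ∃ (X' D' : Scheme.{u}) (i' : D' ⟶ X') (p : D' ⟶ D) (g : X' ⟶ X) (_ : IsClosedImmersion i') (_ : Flat p) (_ : Flat g) (_ : LocallyOfFiniteType p) (_ : LocallyOfFiniteType g) (_ : QuasiCompact p) (_ : QuasiCompact g) (δX' : X' → ℤ) (δD' : D' → ℤ) (s' : (Coh.structureModule X').presheaf.obj (Opposite.op ⊤)), i' ≫ g = p ≫ i ∧ Cyc.IsSetup X' δX' ∧ Cyc.DeltaCompat g δX' δ ∧ (∀ d', δD' d' = δX'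 (i' d')) ∧ Cyc.HasRelDim p 1 ∧ Cyc.HasRelDim g 1 ∧ Cyc.IsZeroSchemeOf i' (Coh.structureModule X') s' ∧ (∀ (k : ℤ) (β : AlgebraicCycle D ℤ), β ∈ Cyc.Zk D (fun d => δ (i d)) k → ∀ β' : AlgebraicCycle D' ℤ, ⇑β' = Cyc.pullFun p δD' (fun d => δ (i d)) 1 ⇑β → Cyc.RatEquivZero δD' (k + 1) β' → Cyc.RatEquivZero (fun d => δ (i d)) k β) ∧ ∀ (k : ℤ) (α : AlgebraicCycle X ℤ), α ∈ Cyc.Zk X δ (k + 1) → ∀ (w : (ξ : X) → Cyc.secFibre L ξ), (∀ ξ, w ξ ≠ 0) → ∀ (w' : (ξ : X') → Cyc.secFibre (Coh.structureModule X') ξ), (∀ ξ, w' ξ ≠ 0) → ∀ ζ₁ ζ₂ : AlgebraicCycle D' ℤ, ⇑ζ₁ = Cyc.pullFun p δD' (fun d => δ (i d)) 1 (fun d => Cyc.c1CapFun δ L ⇑α (Cyc.gysinChoice L s w) (i d)) → (∀ d', ζ₂ d' = Cyc.c1CapFun δX' (Coh.structureModule X') (Cyc.pullFun g δX' δ 1 ⇑α) (Cyc.gysinChoice (Coh.structureModule X') s' w') (i' d')) → Cyc.RatEquiv δD' (k + 1) ζ₁ ζ₂ := by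
  obtain ⟨d⟩ := exists_defo hL hD
  obtain ⟨s', hs'⟩ := d.exists_struct
  have hδi : Cyc.DeltaCompat i (fun d => δ (i d)) δ := deltaCompat_closed i
  have hDs : Cyc.IsSetup D (fun d => δ (i d)) := setup_of i hX hδi
  obtain ⟨δW, hg⟩ := SetupLft.exists_deltaCompat d.g δ
  have hW : Cyc.IsSetup d.W δW := setup_of d.g hX hg
  have hi' : Cyc.DeltaCompat d.i' (fun x => δW (d.i' x)) δW := deltaCompat_closed d.i'
  have hD' : Cyc.IsSetup d.D' (fun x => δW (d.i' x)) := setup_of d.i' hW hi'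
  have hp : Cyc.DeltaCompat d.p (fun x => δW (d.i' x)) (fun d => δ (i d)) :=
    deltaCompat_of_comm (f := d.g) (g := i) d.comm hi' hg hδi
  have hfg : Flat d.g := d.flat_g hX hL
  have hO := K305.StructCap.isInvertible_structureModule d.W
  refine ⟨d.W, d.D', d.i', d.p, d.g, inferInstance, inferInstance, hfg, inferInstance,
    inferInstance, inferInstance, inferInstance, δW, fun x => δW (d.i' x), s', d.comm, hW, hg,
    fun _ => rfl, d.hrp, d.hrg hX hL, hs', ?_, ?_⟩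
  · intro k β hβ β' hβ' h0
    have hm : β' ∈ Cyc.Zk d.D' (fun x => δW (d.i' x)) (k + 1) := pullFun_mem hβ' rfl hβ
    have h1 := pullCH_cl d.p hD' hDs (shift_of_hasRelDim d.hrp hp) (rfl : k + 1 = k + 1) β hβ β'
      hβ' hm
    rw [(cl_eq_zero hm).2 h0] at h1
    have h2 := d.pull_injective hDs hp hD' (rfl : k + 1 = k + 1) (h1.trans (map_zero _).symm)
    exact (cl_eq_zero hβ).1 h2
  · intro k α hα w hw w' hw' ζ₁ ζ₂ hζ₁ hζ₂
    obtain ⟨γ, hγ⟩ := exists_gys (i := i) hX hL α (GysinCl.gysinChoice_ne_zero s hw)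
    have hγ' : ⇑γ = fun d => Cyc.c1CapFun δ L ⇑α (Cyc.gysinChoice L s w) (i d) := funext hγ
    rw [← hγ'] at hζ₁
    have hγm := gys_mem hδi rfl hα hγ
    have hζ₁m := pullFun_mem hζ₁ rfl hγm
    let α' := pullCyc d.g hW (shift_of_hasRelDim (d.hrg hX hL) hg) α
    have hα' : ⇑α' = Cyc.pullFun d.g δW δ 1 ⇑α := pullCyc_coe _ _ _ _
    rw [← hα'] at hζ₂
    have hα'm : α' ∈ Cyc.Zk d.W δW (k + 1 + 1) := pullFun_mem hα' rfl hα
    have hζ₂m := gys_mem hi' rfl hα'm hζ₂
    have key := d.gys hX hDs hW hD' hδi hg hp hi' hL hD hO hs' d.nonempty_struct.some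
      (rfl : k + 1 = k + 1) (rfl : k + 1 + 1 = k + 1 + 1) (rfl : k + 1 = k + 1)
      (rfl : k + 1 + 1 = k + 1 + 1) (ChowOps.cl α hα)
    rw [gysCH_cl hX hδi hL hD rfl α hα w hw γ hγ hγm,
      pullCH_cl d.p hD' hDs _ _ γ hγm ζ₁ hζ₁ hζ₁m,
      pullCH_cl d.g hW hX _ _ α hα α' hα' hα'm,
      gysCH_cl hW hi' hO hs' rfl α' hα'm w' hw' ζ₂ hζ₂ hζ₂m] at key
    exact (cl_eq_cl _ _).1 key.symm

end Groth.Agent.S6488
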