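import Groth.Statements.S6492
import Groth.Agent.IntMult.K304.FamFinal

set_option autoImplicit false
universe u
open CategoryTheory CategoryTheory.Limits AlgebraicGeometry
attribute [local instance] HasDerivedCategory.standard
open IntMult

namespace Groth.Agent.S6492

/-- Let C ⊂ P^N be a closed subvariety, X ⊂ P^N a closed subvariety and T_i ⊂ X (i ∈ I finite) closed
subvarieties, with C and X intersecting properly. Then one can find a closed subvariety C' of P^N ×
P^1 with the following properties: (1) the projection from C' to P^1 is dominant, (2) as schemes,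
the fibre C'_0 coincides with C, (3) the intersection of C' with X × P^1 is proper, (4) every T_i
meets the fibre C'_∞ properly. Encoding: P^N = CohB1.ProjSpace N K and P^N × P^1 =
CohB1.ProjSpaceOver 1 P^N with dimension functions δP, δ' (transcendence degree); subvarieties by
generic points, dimensions c = δP(ξ_C), n, d_i; (1) is recorded as dim C' = c + 1, which together
with (2) is equivalent to dominance; (2) says the pullback of C' along the zero section is reduced
with support the closure of ξ_C; proper intersection is the dimension inequality IntMult.ProperInt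
in the ambient P^N × P^1 (dim N + 1), resp. P^N. -/
theorem result (K : Type u) [Field K] [IsAlgClosed K] (N : ℕ) (δP : ↥(CohB1.ProjSpace N K) → ℤ) (hP : Cyc.IsSetup (CohB1.ProjSpace N K) δP) (hδP : Cyc.DeltaCompat (CohB1.ProjSpace.toSpec N K) δP (fun _ => 0)) (δ' : ↥(CohB1.ProjSpaceOver 1 (CohB1.ProjSpace N K)) → ℤ) (hP' : Cyc.IsSetup (CohB1.ProjSpaceOver 1 (CohB1.ProjSpace N K)) δ') (hδ' : Cyc.DeltaCompat (CohB1.ProjSpaceOver.toBase 1 (CohB1.ProjSpace N K)) δ' δP) (ξC : ↥(CohB1.ProjSpace N K)) (c : ℕ) (hc : δP ξC = c) (X : Scheme.{u}) [IsIntegral X] (ι : X ⟶ CohB1.ProjSpace N K) [IsClosedImmersion ι] (n : ℕ) (hn : δP (ι (genericPoint X)) = n) (m : ℕ) (T : Fin m → X) (d : Fin m → ℕ) (hd : ∀ i, δP (ι (T i)) = d i) (hCX : IntMult.ProperInt (closure {ξC}) (Set.range ⇑ι) N c n) : ∃ (C' : Scheme.{u}) (_ : IsIntegral C') (ι' : C' ⟶ CohB1.ProjSpaceOver 1 (CohB1.ProjSpace N K)) (_ : IsClosedImmersion ι'), δ' (ι' (genericPoint C')) = c + 1 ∧ IsReduced (pullback ι' (P1.sect (CohB1.ProjSpace N K) 0)) ∧ Set.range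 ⇑(pullback.snd ι' (P1.sect (CohB1.ProjSpace N K) 0)) = closure {ξC} ∧ IntMult.ProperInt (closure {ι' (genericPoint C')}) (⇑(CohB1.ProjSpaceOver.toBase 1 (CohB1.ProjSpace N K)) ⁻¹' Set.range ⇑ι) (N + 1) (c + 1) (n + 1) ∧ ∀ i : Fin m, IntMult.ProperInt (Set.range ⇑(pullback.snd ι' (P1.sect (CohB1.ProjSpace N K) 1))) (closure {ι (T i)}) N c (d i) := by
  let ι' : X ⟶ K304.FamKey.PN K N := ι
  have hci : IsClosedImmersion ι' := ‹IsClosedImmersion ι›
  exact K304.FamFinal.main K N δP hP hδP δ' hP' hδ' ξC c hc X ι' n hn m T d hd hCX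

end Groth.Agent.S6492
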