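import Groth.Statements.S6494
import Groth.Agent.IntMult.K304.SectProd
import Groth.Agent.IntMult.K304.DimBasic
import Groth.Agent.CycA.MovAssembly
import Groth.Agent.CycA.ExtRat
import Groth.Agent.S1950
import Groth.Agent.S6450

set_option autoImplicit false
universe u
open CategoryTheory CategoryTheory.Limits AlgebraicGeometry
attribute [local instance] HasDerivedCategory.standard
open IntMult

namespace Groth.Agent.S6494

/-- Let X → P be a closed immersion of nonsingular varieties and C' ⊂ P × P^1 a closed subvariety of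
dimension r + 1 with (1) the fibre C = C'_0 of dimension r (C' → P^1 dominant), (2) C' and X × P^1
intersecting properly, (3) [C]_r and X intersecting properly. Then, with α = [C]_r · X and β = C' ·
(X × P^1), one has α = pr_{X,*}(β · (X × 0)). Stated on P × P^1: α = pr_*((C' · (X × P^1)) · (P ×
0)) as cycles on P. (The published statement takes the product of β with X × 0 on X × P^1 and pushes
it forward along X × P^1 → X; this row takes the product of C′ · (X × P^1) with P × 0 on P × P^1 and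
pushes it forward along P × P^1 → P, which is the same cycle on P.) Encoding: P × P^1 =
CohB1.ProjSpaceOver 1 P with projection pr and zero section P1.sect P 0; dimension functions δP, δ'
(transcendence degree); C'_0 is the pullback of C' along the zero section and [C]_r its r-cycle
(Cyc.subschemeFun); X × P^1 and P × 0 enter as the prime cycles of their generic points; products
are IntMult.interProd on P (dim N_P) and on P × P^1 (dim N_P + 1). Here P and X are nonsingular
varieties over the algebraically closed field K (smooth, separated, quasi-compact, integral), δP is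
the dimension function on P (transcendence degree over K, recorded by Cyc.DeltaCompat to Spec K with
value 0, together with Cyc.IsSetup), N_P = δP of the generic point of P and n = δP of the generic
point of X; proper intersection is IntMult.IntersectProperly / IntMult.ProperInt and products are
IntMult.interProd. -/
theorem result (K : Type u) [Field K] [IsAlgClosed K] (P : Scheme.{u}) (fP : P ⟶ Spec (CommRingCat.of K)) [Smooth fP] [IsSeparated fP] [QuasiCompact fP] [IsIntegral P] (δP : P → ℤ) (hP : Cyc.IsSetup P δP) (hδP : Cyc.DeltaCompat fP δP (fun _ => 0)) (NP : ℕ) (hNP : δP (genericPoint P) = NP) (δ' : ↥(CohB1.ProjSpaceOver 1 P) → ℤ) (hP' : Cyc.IsSetup (CohB1.ProjSpaceOver 1 P) δ') (hδ' : Cyc.DeltaCompat (CohB1.ProjSpaceOver.toBase 1 P) δ' δP) [QuasiCompact (CohB1.ProjSpaceOver.toBase 1 P)] (X : Scheme.{u}) (fX : X ⟶ Spec (CommRingCat.of K)) [Smooth fX] [IsSeparated fX] [QuasiCompact fX] [IsIntegral X] (ι : X ⟶ P) [IsClosedImmersion ι] (hι : ι ≫ fP = fX) (n : ℕ) (hn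 : δP (ι (genericPoint X)) = n) (ζX : ↥(CohB1.ProjSpaceOver 1 P)) (hζ1 : CohB1.ProjSpaceOver.toBase 1 P ζX = ι (genericPoint X)) (hζ2 : δ' ζX = n + 1) (C' : Scheme.{u}) [IsIntegral C'] (ι' : C' ⟶ CohB1.ProjSpaceOver 1 P) [IsClosedImmersion ι'] (r : ℕ) (hr : δ' (ι' (genericPoint C')) = r + 1) (hC0 : ∀ w : ↥(pullback ι' (P1.sect P 0)), δP (pullback.snd ι' (P1.sect P 0) w) ≤ r) (hC0ne : Nonempty ↥(pullback ι' (P1.sect P 0))) (h2 : IntMult.ProperInt (closure {ι' (genericPoint C')}) (⇑(CohB1.ProjSpaceOver.toBase 1 P) ⁻¹' Set.range ⇑ι) (NP + 1) (r + 1) (n + 1)) (h3 : IntMult.IntersectProperly δP NP (Cyc.subschemeFun δP r (pullback.snd ι' (P1.sect P 0))) (Set.indicator {ι (genericPoint X)} 1)) (B : AlgebraicCycle (CohB1.ProjSpaceOver 1 P) ℤ) (hB : ⇑B = IntMult.interProd δ' (NP + 1) (IntMult.interProd δ' (NP + 1) (Set.indicator {ι' (genericPoint C')} 1) (Set.indicator {ζX} 1)) (Set.indicator {P1.sect P 0 (genericPoint P)} 1)) : ⇑(AlgebraicCycle.map (CohB1.ProjSpaceOver.toBase 1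 P) δ' δP B) = IntMult.interProd δP NP (Cyc.subschemeFun δP r (pullback.snd ι' (P1.sect P 0))) (Set.indicator {ι (genericPoint X)} 1) := by
  classical
  have hNP' : IsLocallyNoetherian P := hP.1
  have hNM : IsLocallyNoetherian (CohB1.ProjSpaceOver 1 P) := hP'.1
  have hcP : CompactSpace P := QuasiCompact.compactSpace_of_compactSpace fP
  have hint : IsIntegral (CohB1.ProjSpaceOver 1 P) := K304.P1Geo.isIntegral_P1 fP
  have hpr : IsProper (CohB1.ProjSpaceOver.toBase 1 P) := Dix.ProjProper.isProper_toBase 1 P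
  have hcM : CompactSpace ↥(CohB1.ProjSpaceOver 1 P) :=
    QuasiCompact.compactSpace_of_compactSpace (CohB1.ProjSpaceOver.toBase 1 P)
  have hNSP : TopologicalSpace.NoetherianSpace P := by
    have : IsNoetherian P := {}
    infer_instance
  have hci : IsClosedImmersion (P1.sect P 0) := CycA.P1Sect.isClosedImmersion_sect P 0
  have hσ : ∀ x, δ' (P1.sect P 0 x) = δP x := CycA.MovGeo.delta_sect hδ' 0
  have hπσ : ∀ x, CohB1.ProjSpaceOver.toBase 1 P (P1.sect P 0 x) = x :=
    CycA.SectGeom.toBase_sect_apply 0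
  have hM : Cyc.DeltaCompat (CohB1.ProjSpaceOver.toBase 1 P ≫ fP) δ' (fun _ => 0) :=
    CycB.RelDim.deltaCompat_comp hδ' hδP
  have hnM : δ' (genericPoint (CohB1.ProjSpaceOver 1 P)) = (NP : ℤ) + 1 := by
    rw [K304.P1Geo.delta_genericPoint hδ', hNP]
  -- `C'` is not contained in the zero section
  have hC0' : ∀ z : P, ι' (genericPoint C') ⤳ P1.sect P 0 z → δP z ≤ r := by
    intro z hz
    obtain ⟨w, hw⟩ : P1.sect P 0 z ∈ Set.range ι' :=
      hz.mem_closed ι'.isClosedEmbedding.isClosed_range ⟨_, rfl⟩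
    obtain ⟨t, -, rfl⟩ := Scheme.Pullback.exists_preimage_pullback w z hw
    exact hC0 t
  have hnot : ι' (genericPoint C') ∉ Set.range (P1.sect P 0) := by
    rintro ⟨z, hz⟩
    have h1 := hC0' z (by rw [hz])
    have h5 := hσ z
    rw [hz, hr] at h5
    omega
  set c : P → ℤ := Cyc.subschemeFun δP r (pullback.snd ι' (P1.sect P 0)) with hc
  have hcfin : (Function.support c).Finite :=
    CycA.MovFin.finite_support_subschemeFun δP r (pullback.snd ι' (P1.sect P 0))
  have hcr : ∀ x, c x ≠ 0 → δP x = r := fun x h => CycA.MovAssembly.eq_of_subschemeFun_ne_zero h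
  -- intersection with the zero section
  have eD : IntMult.interProd δ' ((NP : ℤ) + 1) (Set.indicator {ι' (genericPoint C')} 1)
      (Set.indicator {P1.sect P 0 (genericPoint P)} 1) = K304.PushFun.pushFun (P1.sect P 0) δP δ' c :=
    K304.SectProd.interProd_sect hδ' 0 ι' hNP hr hnot
  -- the proper intersections
  have hζσ : ∀ z, ζX ⤳ P1.sect P 0 z → ι (genericPoint X) ⤳ z := by
    intro z hz
    have := hz.map (CohB1.ProjSpaceOver.toBase 1 P).continuous
    rwa [hζ1, hπσ] at this
  have hrange : ∀ ζ, P1.sect P 0 (genericPoint P) ⤳ ζ → ∃ z, P1.sect P 0 z = ζ := fun ζ h =>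
    h.mem_closed (P1.sect P 0).isClosedEmbedding.isClosed_range ⟨_, rfl⟩
  have h3' : ∀ z, ι' (genericPoint C') ⤳ P1.sect P 0 z → ι (genericPoint X) ⤳ z →
      δP z ≤ r + n - NP := by
    intro z hz1 hz2
    obtain ⟨η, h4, h5, h6⟩ := CycA.FibreComp.exists_component hP'.2.2 hP.2.2 (P1.sect P 0) hσ
      (fun x => (CycA.P1Sect.exists_ker_stalkMap_sect (X := P) 0 x).imp fun _ h => h.2) ι' hr hnot
      z hz1
    have h7 := h3 η (ι (genericPoint X)) z h5 (by simp) h4 hz2
    rw [h6, hn] at h7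
    exact h7
  have hUV : IntMult.IntersectProperly δ' ((NP : ℤ) + 1)
      (Set.indicator {ι' (genericPoint C')} 1) (Set.indicator {ζX} 1) := by
    intro ξ η ζ hξ hη h4 h5
    rw [CycA.MovRatZ.indicator_ne_zero_iff] at hξ hη
    subst hξ hη
    have hmem : ζ ∈ closure {ι' (genericPoint C')} ∩
        (⇑(CohB1.ProjSpaceOver.toBase 1 P) ⁻¹' Set.range ⇑ι) := by
      refine ⟨specializes_iff_mem_closure.1 h4, ?_⟩
      have := h5.map (CohB1.ProjSpaceOver.toBase 1 P).continuous
      rw [hζ1] at this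
      exact this.mem_closed ι.isClosedEmbedding.isClosed_range ⟨_, rfl⟩
    obtain ⟨h6, h7⟩ := h2 ⟨ζ, hmem⟩
    obtain ⟨m, hm, hm'⟩ := K304.DimBasic.dim_closure _ hM ζ
    have h8 : closure {ζ} ⊆ closure {ι' (genericPoint C')} ∩
        (⇑(CohB1.ProjSpaceOver.toBase 1 P) ⁻¹' Set.range ⇑ι) :=
      closure_minimal (Set.singleton_subset_iff.2 hmem)
        (isClosed_closure.inter (ι.isClosedEmbedding.isClosed_range.preimage
          (CohB1.ProjSpaceOver.toBase 1 P).continuous))
    have h9 : topologicalKrullDim (closure {ζ} : Set ↥(CohB1.ProjSpaceOver 1 P)) ≤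
        topologicalKrullDim ↥(closure {ι' (genericPoint C')} ∩
          (⇑(CohB1.ProjSpaceOver.toBase 1 P) ⁻¹' Set.range ⇑ι)) :=
      (Topology.IsEmbedding.inclusion h8).isInducing.topologicalKrullDim_le
    rw [hm'] at h9
    have h10 : m ≤ r + 1 + (n + 1) - (NP + 1) := by exact_mod_cast h9.trans h7
    rw [hm, hr, hζ2]
    omega
  have hVD : IntMult.IntersectProperly δ' ((NP : ℤ) + 1)
      (Set.indicator {P1.sect P 0 (genericPoint P)} 1) (Set.indicator {ζX} 1) := by
    intro ξ η ζ hξ hη h4 h5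
    rw [CycA.MovRatZ.indicator_ne_zero_iff] at hξ hη
    subst hξ hη
    obtain ⟨z, rfl⟩ := hrange ζ h4
    have h6 := CycB.LocQuot.le_of_specializes hP.2.2 (hζσ z h5)
    rw [hσ, hσ, hNP, hζ2]
    omega
  have hUD : IntMult.IntersectProperly δ' ((NP : ℤ) + 1)
      (Set.indicator {ι' (genericPoint C')} 1)
      (Set.indicator {P1.sect P 0 (genericPoint P)} 1) := by
    intro ξ η ζ hξ hη h4 h5
    rw [CycA.MovRatZ.indicator_ne_zero_iff] at hξ hη
    subst hξ hη
    obtain ⟨z, rfl⟩ := hrange ζ h5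
    have h6 := hC0' z h4
    rw [hσ, hσ, hNP, hr]
    omega
  -- associativity
  have hassoc1 := Groth.Agent.S6450.result K (CohB1.ProjSpaceOver 1 P)
    (CohB1.ProjSpaceOver.toBase 1 P ≫ fP) δ' hP' hM ((NP : ℤ) + 1) hnM (ι' (genericPoint C')) ζX
    (P1.sect P 0 (genericPoint P)) hUV (CycA.MovRatZ.intersectProperly_comm _ _ hVD) hUD (by
      intro ζ h4 h5 h6
      obtain ⟨z, rfl⟩ := hrange ζ h6
      have h7 := h3' z h4 (hζσ z h5)
      rw [hσ, hσ, hNP, hr, hζ2]
      omega)
  have hassoc2 := Groth.Agent.S6450.result K (CohB1.ProjSpaceOver 1 P)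
    (CohB1.ProjSpaceOver.toBase 1 P ≫ fP) δ' hP' hM ((NP : ℤ) + 1) hnM (ι' (genericPoint C'))
    (P1.sect P 0 (genericPoint P)) ζX hUD hVD hUV (by
      intro ζ h4 h6 h5
      obtain ⟨z, rfl⟩ := hrange ζ h6
      have h7 := h3' z h4 (hζσ z h5)
      rw [hσ, hσ, hNP, hr, hζ2]
      omega)
  rw [← hassoc1, CycA.MovRatZ.interProd_comm δ' _ (Set.indicator {ζX} 1), hassoc2, eD] at hB
  -- the projection formula
  obtain ⟨α, hα⟩ := CycA.MovRatZ.exists_cycle_of_finite_support
    (K304.PushFun.finite_support_pushFun (f := P1.sect P 0) (δX := δP) (δY := δ') hcfin)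
  obtain ⟨β, hβ⟩ := CycA.MovRatZ.exists_cycle_of_finite_support
    (CycA.MovRatZ.finite_support_indicator (ι (genericPoint X)))
  have hpull : Cyc.pullFun (CohB1.ProjSpaceOver.toBase 1 P) δ' δP ((1 : ℕ) : ℤ) ⇑β =
      Set.indicator {ζX} 1 := by
    rw [hβ]
    exact K304.P1Geo.pullFun_indicator hδ' hζ1 (by rw [hζ2, hn])
  have hαr : ∀ y, α y ≠ 0 → ∃ x, P1.sect P 0 x = y ∧ c x ≠ 0 := by
    intro y hy
    rw [hα] at hy
    obtain ⟨x, h4, h5, -⟩ := K304.PushFun.pushFun_ne_zero hy
    exact ⟨x, h4, h5⟩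
  have key := S1950.result K (CohB1.ProjSpaceOver 1 P) P (CohB1.ProjSpaceOver.toBase 1 P)
    (CohB1.ProjSpaceOver.toBase 1 P ≫ fP) fP rfl δ' δP hP' hP hM hδP hδ' ((NP : ℤ) + 1) NP hnM
    hNP 1 (by push_cast; ring) (CycA.MovGeo.hasRelDim_toBase P) r n α β
    (by
      intro y hy
      by_contra h
      obtain ⟨x, rfl, h5⟩ := hαr y h
      exact hy ((hσ x).trans (hcr x h5)))
    (by
      intro y hy
      by_contra h
      have h' : (β : P → ℤ) y ≠ 0 := h
      rw [hβ] at h'
      have h'' := CycA.MovRatZ.indicator_ne_zero_iff.1 h'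
      rw [h''] at hy
      exact hy hn)
    (by
      rw [hpull]
      intro ξ η ζ hξ hη h4 h5
      obtain ⟨x, rfl, h6⟩ := hαr ξ hξ
      rw [CycA.MovRatZ.indicator_ne_zero_iff] at hη
      subst hη
      obtain ⟨z, rfl⟩ : ζ ∈ Set.range (P1.sect P 0) :=
        h4.mem_closed (P1.sect P 0).isClosedEmbedding.isClosed_range ⟨_, rfl⟩
      have h7 : x ⤳ z := by
        have := h4.map (CohB1.ProjSpaceOver.toBase 1 P).continuous
        rwa [hπσ, hπσ] at this
      have h8 := h3 x (ι (genericPoint X)) z h6 (by simp) h7 (hζσ z h5)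
      rw [hσ, hσ, hζ2]
      rw [hn] at h8
      omega) B (by rw [hpull, hα]; exact hB)
  rw [← key.2, hβ]
  congr 1
  -- `pr_* sect_* c = c`
  rw [K304.PushFun.coe_map, hα, K304.PushFun.pushFun_pushFun (P1.sect P 0)
    (CohB1.ProjSpaceOver.toBase 1 P) (δX := δP) ?_ hδ' hcfin]
  · rw [CycA.SectGeom.sect_toBase, K304.PushFun.pushFun_id]
  · exact CycA.ExtRat.deltaCompat_of_comp (P1.sect P 0) (CohB1.ProjSpaceOver.toBase 1 P ≫ fP) (by
      rw [← Category.assoc, CycA.SectGeom.sect_toBase, Category.id_comp]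
      exact hδP) hM

end Groth.Agent.S6494
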