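import Groth.Statements.S6499
import Groth.Agent.CycB.PushLen
import Groth.Agent.CohqA.FTStalk
import Groth.Agent.S0019

set_option autoImplicit false
universe u
open CategoryTheory AlgebraicGeometry
open Cyc

namespace Groth.Agent.S6499

/-- Suppose X and Y are schemes locally of finite type over the base, and π : X → Y is a morphism
between them that is finite. Then π_* sends Coh_{≤k}(X) into Coh_{≤k}(Y): for F coherent on X with
dim_δ Supp(F) ≤ k, the direct image π_*F is coherent with dim_δ Supp(π_*F) ≤ k (Cyc.CohLe).
(Exactness of π_* and the commutative diagram with the cycle maps are not restated; the latter is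
the existing compatibility of [−]_k with π_*.) Here a pair (X, δ) with Cyc.IsSetup plays the role of
a scheme locally of finite type over the base (S, δ) (X locally Noetherian with universally catenary
local rings, δ a dimension function), and Cyc.DeltaCompat records that the dimension function
upstairs is the induced one. -/
theorem result (X Y : Scheme.{u}) (δX : X → ℤ) (δY : Y → ℤ) (hX : Cyc.IsSetup X δX) (hY : Cyc.IsSetup Y δY) (π : X ⟶ Y) [IsFinite π] (hδ : Cyc.DeltaCompat π δX δY) (k : ℤ) (F : X.Modules) (hF : Cyc.CohLe δX k F) : Cyc.CohLe δY k ((Coh.push π).obj F) := by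
  have : IsLocallyNoetherian X := hX.1
  have : IsLocallyNoetherian Y := hY.1
  refine ⟨S0019.result π F hF.1, ?_⟩
  intro y hy
  let Z : Set X := {x : X | Nontrivial (F.presheaf.stalk x)}
  have hZo : IsOpen {x : X | Subsingleton (F.presheaf.stalk x)} :=
    CohqA.FTStalk.isOpen_setOf_subsingleton_stalk F hF.1.2
  have hZc : IsClosed Z := by
    rw [← isOpen_compl_iff]
    convert hZo using 1
    ext x
    simp [Z, not_nontrivial_iff_subsingleton]
  by_cases hex : ∃ x, π x = y ∧ x ∈ Z
  · obtain ⟨x, rfl, hx⟩ := hex
    obtain ⟨n, -, hn⟩ := hδ x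
    have := hF.2 x hx
    omega
  · push_neg at hex
    exfalso
    obtain ⟨hS, hlen⟩ := CycB.PushLen.length_push_stalk π π.isClosedMap F Z hZc
      (fun x hx => not_nontrivial_iff_subsingleton.mp hx) y
      (fun x hx hxy => absurd hx (hex x hxy)) (fun x hx hxy => absurd hx (hex x hxy))
    have hS0 : hS.toFinset = ∅ := by
      ext x
      simp only [Set.Finite.mem_toFinset, Set.mem_ofPred_eq, Finset.notMem_empty, iff_false, not_and]
      exact hex x
    rw [hS0, Finset.sum_empty, Module.length_eq_zero_iff] at hlen
    exact not_subsingleton_iff_nontrivial.mpr hy hlen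

end Groth.Agent.S6499
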