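import Groth.Statements.S6502
import Groth.Agent.S2168
import Groth.Agent.Ega4dB.CITransport
import Mathlib.RingTheory.Localization.LocalizationLocalization

set_option autoImplicit false
universe u
open LCI

namespace Groth.Agent.S6502

/-- A Noetherian ring A is a local complete intersection (every localization A_p at a prime is a
complete intersection, that is, its completion is a regular complete local ring modulo a regular
sequence) exactly when, for each maximal ideal m of A, the localization A_m is itself a complete
intersection. -/
theorem result {A : Type u} [CommRing A] [IsNoetherianRing A] :
    (∀ (p : Ideal A) [p.IsPrime], Pi1.IsCompleteIntersection (Localization.AtPrime p)) ↔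
    (∀ (m : Ideal A) [m.IsMaximal], Pi1.IsCompleteIntersection (Localization.AtPrime m)) := by
  constructor
  · intro h m hm
    exact h m
  · intro h p hp
    obtain ⟨m, hm, hpm⟩ := p.exists_le_maximal hp.ne_top
    let S := Localization.AtPrime m
    have hd : Disjoint (m.primeCompl : Set A) (p : Set A) := by
      rw [Set.disjoint_left]
      intro x hx hxp
      exact hx (hpm hxp)
    have hP : (p.map (algebraMap A S)).IsPrime :=
      IsLocalization.isPrime_of_isPrime_disjoint m.primeCompl S p hp hd
    have hc : (p.map (algebraMap A S)).comap (algebraMap A S) = p :=
      IsLocalization.under_map_of_isPrime_disjoint m.primeCompl S hp hd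
    have h1 : Pi1.IsCompleteIntersection (Localization.AtPrime (p.map (algebraMap A S))) :=
      Groth.Agent.S2168.result (h m) _
    have h2 : IsLocalization.AtPrime (Localization.AtPrime (p.map (algebraMap A S)))
        ((p.map (algebraMap A S)).comap (algebraMap A S)) :=
      IsLocalization.isLocalization_isLocalization_atPrime_isLocalization m.primeCompl
        (Localization.AtPrime (p.map (algebraMap A S))) (p.map (algebraMap A S))
    have h3 : IsLocalization p.primeCompl
        (Localization.AtPrime (p.map (algebraMap A S))) := by
      have h4 : ∀ (q : Ideal A) (hq : q.IsPrime) (_ : q = p) (_ : IsLocalization.AtPrime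
          (Localization.AtPrime (p.map (algebraMap A S))) q), IsLocalization p.primeCompl
        (Localization.AtPrime (p.map (algebraMap A S))) := by
        rintro q hq rfl h
        exact h
      exact h4 _ inferInstance hc h2
    exact Groth.Agent.Ega4dB.CITransport.isCompleteIntersection_of_ringEquiv
      (IsLocalization.algEquiv p.primeCompl (Localization.AtPrime (p.map (algebraMap A S)))
        (Localization.AtPrime p)).toRingEquiv h1

end Groth.Agent.S6502
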