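import Groth.Statements.S6523
import Groth.Agent.S0479
import Mathlib.CategoryTheory.Triangulated.Opposite.Functor
import Mathlib.CategoryTheory.Triangulated.Yoneda

set_option autoImplicit false
universe v u u'
open CategoryTheory
open CohDer

namespace Groth.Agent.S6523

open CategoryTheory.Limits CategoryTheory.Pretriangulated CategoryTheory.Pretriangulated.Opposite
  Opposite

open CategoryTheory.Limits CategoryTheory.Pretriangulated in
/-- Let A be a Grothendieck abelian category, D a pretriangulated category whose morphism types live in
the same universe as those of D(A), and F : D(A) → D an exact functor of triangulated categories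
which transforms direct sums (small coproducts) into direct sums. Then F has a right adjoint (which
is then exact as well). Stated as: F is a left adjoint. (With morphism types of D in a larger
universe the assertion fails by a cardinality argument; the published proof applies Brown
representability to the functors W ↦ Hom(F(W), Y), which must take values in small abelian groups.) -/
theorem result {A : Type u} [Category.{v} A] [Abelian A]
    [IsGrothendieckAbelian.{v} A] [HasDerivedCategory.{v} A]
    {D : Type u'} [Category.{v} D] [Preadditive D] [HasZeroObject D] [HasShift D ℤ]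
    [∀ n : ℤ, (shiftFunctor D n).Additive] [Pretriangulated D]
    (F : DerivedCategory A ⥤ D) [F.CommShift ℤ] [F.IsTriangulated]
    [∀ (ι : Type v), PreservesColimitsOfShape (Discrete ι) F] :
    F.IsLeftAdjoint := by
  have key : ∀ Y : D, ((F.op ⋙ preadditiveYoneda.obj Y) ⋙ forget AddCommGrpCat.{v}).IsRepresentable := by
    intro Y
    have h1 : ∀ (ι : Type v), PreservesLimitsOfShape (Discrete ι) (F.op ⋙ preadditiveYoneda.obj Y) := by
      intro ι
      have : PreservesColimitsOfShape (Discrete ι)ᵒᵖ F :=
        preservesColimitsOfShape_of_equiv (Discrete.opposite ι).symm F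
      have : PreservesLimitsOfShape (Discrete ι) F.op := preservesLimitsOfShape_op _ _
      infer_instance
    exact Groth.Agent.S0479.result (F.op ⋙ preadditiveYoneda.obj Y)
  let R : ∀ Y : D, ((F.op ⋙ preadditiveYoneda.obj Y) ⋙ forget AddCommGrpCat.{v}).RepresentableBy
    ((F.op ⋙ preadditiveYoneda.obj Y) ⋙ forget AddCommGrpCat.{v}).reprX := fun Y =>
    ((F.op ⋙ preadditiveYoneda.obj Y) ⋙ forget AddCommGrpCat.{v}).representableBy
  let e : ∀ (X : DerivedCategory A) (Y : D),
      (X ⟶ ((F.op ⋙ preadditiveYoneda.obj Y) ⋙ forget AddCommGrpCat.{v}).reprX) ≃ (F.obj X ⟶ Y) :=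
    fun X Y => (R Y).homEquiv
  have he : ∀ (X X' : DerivedCategory A) (Y : D) (f : X' ⟶ X) g, e X' Y (f ≫ g) = F.map f ≫ e X Y g :=
    fun X X' Y f g => (R Y).homEquiv_comp f g
  exact (Adjunction.adjunctionOfEquivRight (F := F)
    (G_obj := fun Y => ((F.op ⋙ preadditiveYoneda.obj Y) ⋙ forget AddCommGrpCat.{v}).reprX)
    (fun X Y => (e X Y).symm) (fun X' X Y f g => by
      apply (e X' Y).injective
      rw [he, Equiv.apply_symm_apply, Equiv.apply_symm_apply])).isLeftAdjoint

end Groth.Agent.S6523
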