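import Groth.Statements.S6524
import Groth.Agent.CohSite.K298.BaerFam
import Groth.Agent.CohtopB.FreeSheafHom

set_option autoImplicit false
universe u
open CategoryTheory
open CohSite

namespace Groth.Agent.S6524

/-- Let (C, J) be a small site and I an abelian sheaf. Suppose that for every object X of C, every
abelian subsheaf S of the free abelian sheaf Z_X^# on X (given as a monomorphism S → Z_X^#) and
every morphism S → I, the morphism extends to Z_X^# → I. Then I is an injective abelian sheaf. -/
theorem result {C : Type u} [SmallCategory C]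
    (J : GrothendieckTopology C) (I : Sheaf J AddCommGrpCat.{u})
    (h : ∀ (X : C) (S : Sheaf J AddCommGrpCat.{u}) (i : S ⟶ CohCx.freeSheaf J X) [Mono i] (φ : S ⟶ I),
      ∃ ψ : CohCx.freeSheaf J X ⟶ I, i ≫ ψ = φ) :
    Injective I := by
  refine K298.BaerFam.injective (G := fun X : C => CohCx.freeSheaf J X) ?_ I
    (fun X S i _ φ => h X S i φ)
  intro A B p _ hp
  by_contra hcon
  push Not at hcon
  refine hp ?_
  have : Epi p := by
    constructor
    intro Z a b hab
    ext U s
    obtain ⟨g, hg⟩ := hcon U.unop (Groth.Agent.CohtopB.FreeSheafHom.homMk (F := B) s)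
    have h1 : Groth.Agent.CohtopB.FreeSheafHom.homMk (F := B) s ≫ a =
        Groth.Agent.CohtopB.FreeSheafHom.homMk (F := B) s ≫ b := by
      rw [← hg, Category.assoc, Category.assoc, hab]
    have h2 := congrArg (fun f => (f.hom.app U).hom
      (Groth.Agent.CohtopB.FreeSheafHom.gen J U.unop)) h1
    have h3 := Groth.Agent.CohtopB.FreeSheafHom.homMk_app_gen (F := B) s
    change (a.hom.app U).hom (((Groth.Agent.CohtopB.FreeSheafHom.homMk (F := B) s).hom.app
        (Opposite.op U.unop)).hom (Groth.Agent.CohtopB.FreeSheafHom.gen J U.unop)) =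
      (b.hom.app U).hom (((Groth.Agent.CohtopB.FreeSheafHom.homMk (F := B) s).hom.app
        (Opposite.op U.unop)).hom (Groth.Agent.CohtopB.FreeSheafHom.gen J U.unop)) at h2
    rw [h3] at h2
    exact h2
  exact isIso_of_mono_of_epi p

end Groth.Agent.S6524
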