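import Groth.Statements.S6530
import Mathlib.Tactic.LinearCombination

set_option autoImplicit false
universe u
open DPow

namespace Groth.Agent.S6530

open AdicCompletion

section

variable {A : Type u} [CommRing A] {I : Ideal A} (γ : DividedPowers I) (p t : ℕ)

/-- the ideal `(p)` -/
abbrev P (A : Type u) [CommRing A] (p : ℕ) : Ideal A := Ideal.span {(p : A)}

include γ in
/-- continuity of the divided powers -/
theorem cont (ht : P A p ^ t ≤ I) (n m : ℕ) {a a' : A} (ha' : a' ∈ I)
    (h : a - a' ∈ P A p ^ (n + t)) : γ.dpow m a - γ.dpow m a' ∈ P A p ^ n := by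
  rw [Ideal.span_singleton_pow, Ideal.mem_span_singleton'] at h
  obtain ⟨c, hc⟩ := h
  have hpt : (p : A) ^ t ∈ I := ht (by
    rw [Ideal.span_singleton_pow]; exact Ideal.mem_span_singleton_self _)
  have h1 : a = a' + (c * p ^ n) * p ^ t := by
    rw [pow_add] at hc
    linear_combination -hc
  have h2 : (c * (p : A) ^ n) * p ^ t ∈ I := I.mul_mem_left _ hpt
  rw [h1, γ.dpow_add ha' h2, Finset.Nat.sum_antidiagonal_eq_sum_range_succ
    (fun i j => γ.dpow i a' * γ.dpow j (c * (p : A) ^ n * p ^ t)), Finset.sum_range_succ,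
    Nat.sub_self, γ.dpow_zero h2, mul_one, add_sub_cancel_right]
  refine sum_mem fun i hi => ?_
  rw [Finset.mem_range] at hi
  refine Ideal.mul_mem_left _ _ ?_
  rw [γ.dpow_mul hpt, Ideal.span_singleton_pow]
  refine Ideal.mul_mem_right _ _ ?_
  rw [mul_pow]
  refine Ideal.mul_mem_left _ _ ?_
  rw [← pow_mul, Ideal.mem_span_singleton]
  exact pow_dvd_pow _ (Nat.le_mul_of_pos_right n (by omega))

end

section

variable {A : Type u} [CommRing A] {I : Ideal A} (p t : ℕ)

/-- the projection to `A / I` -/
noncomputable abbrev pr (ht : P A p ^ t ≤ I) : AdicCompletion (P A p) A →+* A ⧸ I :=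
  (Ideal.Quotient.factor ht).comp (AdicCompletion.evalₐ (P A p) t).toRingHom

theorem pr_eq (ht : P A p ^ t ≤ I) (f : AdicCauchySequence (P A p) A) (n : ℕ) :
    pr p t ht (AdicCompletion.mk (P A p) A f) = Ideal.Quotient.mk I (f.val (n + t)) := by
  have h1 : pr p t ht (AdicCompletion.mk (P A p) A f) = Ideal.Quotient.mk I (f.val t) := by
    change Ideal.Quotient.factor ht (evalₐ (P A p) t (AdicCompletion.mk (P A p) A f)) = _
    rw [evalₐ_mk]
    rfl
  rw [h1]
  have h2 := AdicCompletion.Ideal.mk_eq_mk (I := P A p) (m := t) (n := n + t) (by omega) f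
  rw [Ideal.Quotient.eq] at h2 ⊢
  have h3 := ht h2
  rw [← neg_sub]
  exact I.neg_mem h3

theorem mem_iff (ht : P A p ^ t ≤ I) (f : AdicCauchySequence (P A p) A) (n : ℕ) :
    AdicCompletion.mk (P A p) A f ∈ RingHom.ker (pr p t ht) ↔ f.val (n + t) ∈ I := by
  rw [RingHom.mem_ker, pr_eq p t ht f n, Ideal.Quotient.eq_zero_iff_mem]

variable {t} in
/-- the shifted sequence of divided powers -/
noncomputable def seq (γ : DividedPowers I) (ht : P A p ^ t ≤ I) (m : ℕ)
    (f : AdicCauchySequence (P A p) A) (hf : ∀ n, f.val (n + t) ∈ I) :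
    AdicCauchySequence (P A p) A :=
  AdicCauchySequence.mk (P A p) A (fun n => γ.dpow m (f.val (n + t))) (fun n => by
    rw [SModEq.sub_mem, smul_eq_mul, Ideal.mul_top]
    refine cont γ p t ht n m (hf (n + 1)) ?_
    have := AdicCompletion.Ideal.mk_eq_mk (I := P A p) (m := n + t) (n := n + 1 + t) (by omega) f
    rw [Ideal.Quotient.eq] at this
    rw [← neg_sub]
    exact neg_mem this)

open Classical in
/-- the divided powers on the completion -/
noncomputable def dp (γ : DividedPowers I) (ht : P A p ^ t ≤ I) (m : ℕ)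
    (y : AdicCompletion (P A p) A) : AdicCompletion (P A p) A :=
  if hy : y ∈ RingHom.ker (pr p t ht) then
    AdicCompletion.mk (P A p) A (seq p γ ht m (AdicCompletion.mk_surjective (P A p) A y).choose
      (fun n => by
        have h1 := (AdicCompletion.mk_surjective (P A p) A y).choose_spec
        rw [← h1] at hy
        exact (mem_iff p t ht _ n).mp hy))
  else 0

/-- characterization of the divided powers by representatives -/
theorem eval_dp (γ : DividedPowers I) (ht : P A p ^ t ≤ I) (m n : ℕ)
    (f : AdicCauchySequence (P A p) A) (hf : AdicCompletion.mk (P A p) A f ∈ RingHom.ker (pr p t ht)) :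
    evalₐ (P A p) n (dp p t γ ht m (AdicCompletion.mk (P A p) A f)) =
      Ideal.Quotient.mk _ (γ.dpow m (f.val (n + t))) := by
  unfold dp
  rw [dif_pos hf, evalₐ_mk, Ideal.Quotient.eq]
  set g := (AdicCompletion.mk_surjective (P A p) A (AdicCompletion.mk (P A p) A f)).choose with hg
  have h1 : AdicCompletion.mk (P A p) A g = AdicCompletion.mk (P A p) A f :=
    (AdicCompletion.mk_surjective (P A p) A (AdicCompletion.mk (P A p) A f)).choose_spec
  refine cont γ p t ht n m ((mem_iff p t ht f n).mp hf) ?_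
  have h2 := congrArg (evalₐ (P A p) (n + t)) h1
  rw [evalₐ_mk, evalₐ_mk, Ideal.Quotient.eq] at h2
  exact h2

theorem dp_mem (γ : DividedPowers I) (ht : P A p ^ t ≤ I) {m : ℕ} (hm : m ≠ 0)
    {y : AdicCompletion (P A p) A} (hy : y ∈ RingHom.ker (pr p t ht)) :
    dp p t γ ht m y ∈ RingHom.ker (pr p t ht) := by
  obtain ⟨f, rfl⟩ := AdicCompletion.mk_surjective (P A p) A y
  rw [RingHom.mem_ker]
  change Ideal.Quotient.factor ht (evalₐ (P A p) t _) = 0
  rw [eval_dp p t γ ht m t f hy]
  change Ideal.Quotient.mk I _ = 0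
  rw [Ideal.Quotient.eq_zero_iff_mem]
  exact γ.dpow_mem hm ((mem_iff p t ht f t).mp hy)

/-- The divided powers on the kernel. -/
noncomputable def δ (γ : DividedPowers I) (ht : P A p ^ t ≤ I) :
    DividedPowers (RingHom.ker (pr p t ht)) where
  dpow := dp p t γ ht
  dpow_null hx := by unfold dp; rw [dif_neg hx]
  dpow_zero {x} hx := by
    obtain ⟨f, rfl⟩ := AdicCompletion.mk_surjective (P A p) A x
    refine ext_evalₐ fun n => ?_
    rw [eval_dp p t γ ht 0 n f hx, γ.dpow_zero ((mem_iff p t ht f n).mp hx), map_one, map_one]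
  dpow_one {x} hx := by
    obtain ⟨f, rfl⟩ := AdicCompletion.mk_surjective (P A p) A x
    refine ext_evalₐ fun n => ?_
    rw [eval_dp p t γ ht 1 n f hx, γ.dpow_one ((mem_iff p t ht f n).mp hx), evalₐ_mk]
    exact AdicCompletion.Ideal.mk_eq_mk (I := P A p) (m := n) (n := n + t) (by omega) f
  dpow_mem hm hx := dp_mem p t γ ht hm hx
  dpow_add {m x y} hx hy := by
    obtain ⟨f, rfl⟩ := AdicCompletion.mk_surjective (P A p) A x
    obtain ⟨g, rfl⟩ := AdicCompletion.mk_surjective (P A p) A y
    refine ext_evalₐ fun n => ?_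
    have hxy := (RingHom.ker (pr p t ht)).add_mem hx hy
    rw [← map_add] at hxy ⊢
    rw [eval_dp p t γ ht m n (f + g) hxy, map_sum]
    have h1 : (f + g).val (n + t) = f.val (n + t) + g.val (n + t) := rfl
    rw [h1, γ.dpow_add ((mem_iff p t ht f n).mp hx) ((mem_iff p t ht g n).mp hy), map_sum]
    refine Finset.sum_congr rfl fun k _ => ?_
    rw [map_mul, map_mul, eval_dp p t γ ht k.1 n f hx, eval_dp p t γ ht k.2 n g hy]
  dpow_mul {m a x} hx := by
    obtain ⟨f, rfl⟩ := AdicCompletion.mk_surjective (P A p) A x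
    obtain ⟨g, rfl⟩ := AdicCompletion.mk_surjective (P A p) A a
    refine ext_evalₐ fun n => ?_
    have h0 : AdicCompletion.mk (P A p) A g * AdicCompletion.mk (P A p) A f =
      AdicCompletion.mk (P A p) A (g * f) := rfl
    have hxy : AdicCompletion.mk (P A p) A (g * f) ∈ RingHom.ker (pr p t ht) :=
      h0 ▸ Ideal.mul_mem_left _ _ hx
    rw [h0, eval_dp p t γ ht m n (g * f) hxy]
    have h1 : (g * f).val (n + t) = g.val (n + t) * f.val (n + t) := rfl
    rw [h1, γ.dpow_mul ((mem_iff p t ht f n).mp hx), map_mul, map_mul, map_pow, map_pow,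
      eval_dp p t γ ht m n f hx, evalₐ_mk]
    congr 2
    exact AdicCompletion.Ideal.mk_eq_mk (I := P A p) (m := n) (n := n + t) (by omega) g
  mul_dpow {m k x} hx := by
    obtain ⟨f, rfl⟩ := AdicCompletion.mk_surjective (P A p) A x
    refine ext_evalₐ fun n => ?_
    rw [map_mul, map_mul, map_natCast, eval_dp p t γ ht m n f hx, eval_dp p t γ ht k n f hx,
      eval_dp p t γ ht (m + k) n f hx, ← map_mul, γ.mul_dpow ((mem_iff p t ht f n).mp hx), map_mul,
      map_natCast]
  dpow_comp {m k x} hk hx := by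
    obtain ⟨f, rfl⟩ := AdicCompletion.mk_surjective (P A p) A x
    refine ext_evalₐ fun n => ?_
    have hx' := dp_mem p t γ ht hk hx
    obtain ⟨g, hg⟩ := AdicCompletion.mk_surjective (P A p) A
      (dp p t γ ht k (AdicCompletion.mk (P A p) A f))
    rw [← hg] at hx' ⊢
    rw [eval_dp p t γ ht m n g hx', map_mul, map_natCast, eval_dp p t γ ht (m * k) n f hx]
    have h1 := congrArg (evalₐ (P A p) (n + t)) hg
    rw [eval_dp p t γ ht k (n + t) f hx, evalₐ_mk, Ideal.Quotient.eq] at h1
    have hfI := (mem_iff p t ht f (n + t)).mp hx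
    have h2 := cont γ p t ht n m (γ.dpow_mem hk hfI) h1
    rw [← Ideal.Quotient.eq] at h2
    rw [h2, γ.dpow_comp hk hfI, map_mul, map_natCast]
    congr 1
    rw [Ideal.Quotient.eq]
    refine cont γ p t ht n _ ((mem_iff p t ht f n).mp hx) ?_
    rw [← Ideal.Quotient.eq]
    exact AdicCompletion.Ideal.mk_eq_mk (I := P A p) (m := n + t) (n := n + t + t) (by omega) f

end

/-- Let (A, I, γ) be a divided power ring and p a prime number with p^t A ⊆ I for some t ≥ 0, so that p
is nilpotent in A/I. Let A^∧ be the p-adic completion of A and π : A^∧ → A/I the composite of the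
evaluation A^∧ → A/p^tA with the projection A/p^tA → A/I. Then π is surjective, and there is a
divided power structure on Ker(π) (this kernel is the p-adic completion of I) such that the
canonical map A → A^∧ is a homomorphism of divided power rings. -/
theorem result {A : Type u} [CommRing A] {I : Ideal A}
    (γ : DividedPowers I) (p : ℕ) [Fact p.Prime] (t : ℕ) (ht : Ideal.span {(p : A)} ^ t ≤ I) :
    Function.Surjective ((Ideal.Quotient.factor ht).comp
      (AdicCompletion.evalₐ (Ideal.span {(p : A)}) t).toRingHom) ∧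
    ∃ δ : DividedPowers (RingHom.ker ((Ideal.Quotient.factor ht).comp
      (AdicCompletion.evalₐ (Ideal.span {(p : A)}) t).toRingHom)),
      γ.IsDPMorphism δ (algebraMap A (AdicCompletion (Ideal.span {(p : A)}) A)) := by
  refine ⟨?_, δ p t γ ht, ?_, ?_⟩
  · rw [RingHom.coe_comp]
    exact Function.Surjective.comp (Ideal.Quotient.factor_surjective ht)
      (AdicCompletion.surjective_evalₐ (P A p) t)
  · rw [Ideal.map_le_iff_le_comap]
    intro a ha
    rw [Ideal.mem_comap, RingHom.mem_ker]
    change Ideal.Quotient.factor ht (evalₐ (P A p) t (algebraMap A _ a)) = 0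
    rw [AlgHom.commutes]
    change Ideal.Quotient.mk I a = 0
    rwa [Ideal.Quotient.eq_zero_iff_mem]
  · intro m a ha
    have h1 : ∀ b : A, algebraMap A (AdicCompletion (P A p) A) b =
        AdicCompletion.mk (P A p) A (AdicCauchySequence.mk (P A p) A (fun _ => b) fun _ => rfl) := by
      intro b
      refine ext_evalₐ fun n => ?_
      rw [AlgHom.commutes, evalₐ_mk]
      rfl
    refine ext_evalₐ fun n => ?_
    change evalₐ (P A p) n (dp p t γ ht m (algebraMap A (AdicCompletion (P A p) A) a)) = _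
    have hker : algebraMap A (AdicCompletion (P A p) A) a ∈ RingHom.ker (pr p t ht) := by
      rw [RingHom.mem_ker]
      change Ideal.Quotient.factor ht (evalₐ (P A p) t (algebraMap A _ a)) = 0
      rw [AlgHom.commutes]
      change Ideal.Quotient.mk I a = 0
      rwa [Ideal.Quotient.eq_zero_iff_mem]
    rw [h1 a] at hker ⊢
    rw [eval_dp p t γ ht m n _ hker]
    change _ = evalₐ (P A p) n (algebraMap A (AdicCompletion (P A p) A) (γ.dpow m a))
    rw [AlgHom.commutes]
    rfl

end Groth.Agent.S6530
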