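import Groth.Statements.S6536
import Groth.Agent.Curves.K314.PowVan
import Groth.Agent.Curves.K314.RegPow
import Groth.Agent.EGA2.K30.AmpleLoc

set_option autoImplicit false
universe u
open CategoryTheory CategoryTheory.Limits AlgebraicGeometry
open Curves

namespace Groth.Agent.S6536

/-- Let X be proper over the field k, of dimension one, with H^0(X, O_X) = k, and let L be an invertible
O_X-module which has a regular global section (a monomorphism O_X → L), satisfies H^1(X, L) = 0 and
is ample. Then L^{⊗6} is very ample on X over k: there is a closed immersion i : X → P^n_k over k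
with i^* O(1) ≅ L^{⊗6}. -/
theorem result (k : Type u) [Field k] (X : Scheme.{u}) [X.Over (Spec (CommRingCat.of k))]
    [IsProper (X ↘ (Spec (CommRingCat.of k)))] (hdim : topologicalKrullDim X = 1)
    (h0 : Module.finrank k (Coh.HH X (Coh.structureModule X) 0) = 1) (L : X.Modules) (hL : PicF.IsInvertible L)
    (hs : ∃ s : Coh.structureModule X ⟶ L, Mono s) (h1 : Subsingleton (Coh.HH X L 1)) (hample : CohB1.IsAmple L) :
    ∃ (n : ℕ) (i : X ⟶ CohB1.ProjSpace n k), IsClosedImmersion i ∧ i ≫ CohB1.ProjSpace.toSpec n k = X ↘ (Spec (CommRingCat.of k)) ∧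
      Nonempty ((Scheme.Modules.pullback i).obj (Twist.twistProjSpace n k 1) ≅ CohB1.tensorPow L 6) := by
  have hN := K817.VeryAmple.isNoetherian k X
  obtain ⟨s, hs⟩ := hs
  have hgen : ∀ ξ : X, Groth.Agent.CurvesB.SubH1.IsGen ξ → ξ ∈ CohB1.genLocus L s :=
    fun ξ hξ => K314.RegPow.mem_genLocus_of_mono hL s hξ
  obtain ⟨n, i, hi1, hi2, ⟨e⟩⟩ := K314.PowVan.exists_veryAmple_sq k X hdim (CohB1.tensorPow L 3)
    (K314.RegPow.isGloballyGenerated_pow hdim.le hL s hgen h1 1)
    (K314.RegPow.subsingleton_H1_pow hdim.le hL s hgen h1 2)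
    ((K30.AmpleLoc.isAmple_iff_tensorPow hL (by norm_num)).1 hample)
  exact ⟨n, i, hi1, hi2, ⟨e ≪≫ Groth.Agent.Ega2.TensPow.powMul L 3 2⟩⟩

end Groth.Agent.S6536
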