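import Groth.Statements.S6538
import Groth.Agent.Curves.K314.DualGG
import Groth.Agent.AbVar.K817.VeryAmple
import Groth.Agent.S3637
import Groth.Agent.S1534
import Groth.Agent.CurvesC.DualRep
import Groth.Agent.CurvesC.DualEuler
import Groth.Agent.Ega1.TensorRestrict
import Groth.Agent.Fga.HShift

set_option autoImplicit false
universe u
open CategoryTheory CategoryTheory.Limits AlgebraicGeometry
attribute [local instance] HasDerivedCategory.standard
open Curves

namespace Groth.Agent.S6538

/-- Let X be proper over the field k, of dimension one, with H^0(X, O_X) = k, and let ω_X be its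
dualizing module (the degree -1 cohomology sheaf of f^! O for the structure morphism f, assuming
Rf_* on D_QCoh and its right adjoint exist). If L is an invertible O_X-module generated by its
global sections and L is not isomorphic to O_X, then ω_X ⊗ L has no first cohomology: H^1(X, ω_X ⊗
L) = 0. -/
theorem result (k : Type u) [Field k] (X : Scheme.{u}) [X.Over (Spec (CommRingCat.of k))] [IsProper (X ↘ (Spec (CommRingCat.of k)))] (hdim : topologicalKrullDim X = 1)
    (h0 : Module.finrank k (Coh.HH X (Coh.structureModule X) 0) = 1)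
    [DCoh.HasRpush (X ↘ (Spec (CommRingCat.of k)))] (h : DCoh.RpushPreservesQCoh (X ↘ (Spec (CommRingCat.of k)))) [DCoh.HasShriek (X ↘ (Spec (CommRingCat.of k))) h]
    (OY : DCoh.DQCoh (Spec (CommRingCat.of k))) (hOY : Nonempty (OY.obj ≅ DCoh.inD (Spec (CommRingCat.of k)) (Coh.structureModule (Spec (CommRingCat.of k)))))
    (L : X.Modules) (hL : PicF.IsInvertible L) (hgg : Curv2.IsGloballyGenerated L) (hnt : IsEmpty (L ≅ Coh.structureModule X)) :
    Subsingleton (Coh.HH X (CohB1.tensorMod (DCoh.dualizingMod (X ↘ (Spec (CommRingCat.of k))) h OY 1) L) 1) := by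
  have hN := K817.VeryAmple.isNoetherian k X
  obtain ⟨-, hCM, hequi⟩ := Groth.Agent.S1534.result k X hdim h0
  obtain ⟨t, ht⟩ := Groth.Agent.CurvesC.DualRep.exists_isDual k X h OY hdim.le hOY
  have hq := Groth.Agent.CurvesC.DualRep.isQCoh_dualizingMod k X h OY 1
  obtain ⟨-, hc, hst⟩ := Groth.Agent.S3637.result k X (X ↘ (Spec (CommRingCat.of k))) hCM 1
    (fun Z hZ => hequi Z hZ) h _ (DCoh.shriekAdj (X ↘ (Spec (CommRingCat.of k))) h) OY hOY
  have h1w := Groth.Agent.CurvesC.DualEuler.finrank_one k X h OY hOY hdim.le hCM hequi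
  rw [(Groth.Agent.CurvesC.HV.equiv k (Coh.structureModule X) 0).finrank_eq, h0] at h1w
  have hM : Coh.IsQCoh (CohB1.tensorMod L (DCoh.dualizingMod (X ↘ (Spec (CommRingCat.of k))) h OY 1)) :=
    Groth.Agent.Ega1.TensorRestrict.isQCoh_tensorMod _ _ (Groth.Agent.Ega2.QCohLocal.isQCoh_of_isInvertible hL) hq
  have h2 := K314.DualGG.subsingleton_H1 ht hc h1w
    (fun x hx => not_subsingleton_iff_nontrivial.mpr (hst x).1 hx) hL hgg hnt hM
  exact Groth.Agent.Fga.HShift.subsingleton_of_iso (Groth.Agent.Ega2.Tens.swap _ _) 1 h2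

end Groth.Agent.S6538
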