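import Groth.Statements.S6576
import Groth.Agent.Dual.H355.FBC
import Groth.Agent.PerfB.UnitStr

set_option autoImplicit false
set_option linter.style.haveILetI false
universe u
open CategoryTheory CategoryTheory.Limits AlgebraicGeometry
attribute [local instance] HasDerivedCategory.standard
open Curves

namespace Groth.Agent.S6576

/-- Let X be proper over the field k of dimension ≤ 1, ω_X its dualizing module (degree -1 cohomology
sheaf of f^! O for the structure morphism f, assuming Rf_* on D_QCoh and its right adjoint exist),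
and K/k a field extension. Then the pullback of ω_X along X_K → X is a dualizing module for X_K →
Spec K: it is isomorphic to the degree -1 cohomology sheaf of the corresponding object for X_K over
K. (Existence of an isomorphism only; the statement for the dualizing complex is not included.) -/
theorem result (k : Type u) [Field k] (X : Scheme.{u}) [X.Over (Spec (CommRingCat.of k))] [IsProper (X ↘ (Spec (CommRingCat.of k)))] (hdim : topologicalKrullDim X ≤ 1)
    [DCoh.HasRpush (X ↘ (Spec (CommRingCat.of k)))] (h : DCoh.RpushPreservesQCoh (X ↘ (Spec (CommRingCat.of k)))) [DCoh.HasShriek (X ↘ (Spec (CommRingCat.of k))) h]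
    (OY : DCoh.DQCoh (Spec (CommRingCat.of k))) (hOY : Nonempty (OY.obj ≅ DCoh.inD (Spec (CommRingCat.of k)) (Coh.structureModule (Spec (CommRingCat.of k)))))
    (K : Type u) [Field K] [Algebra k K]
    [DCoh.HasRpush (Curv2.bcSnd k X K)] (hK : DCoh.RpushPreservesQCoh (Curv2.bcSnd k X K)) [DCoh.HasShriek (Curv2.bcSnd k X K) hK]
    (OK : DCoh.DQCoh (Spec (CommRingCat.of K))) (hOK : Nonempty (OK.obj ≅ DCoh.inD (Spec (CommRingCat.of K)) (Coh.structureModule (Spec (CommRingCat.of K))))) :
    Nonempty ((Scheme.Modules.pullback (Curv2.bcFst k X K)).obj (DCoh.dualizingMod (X ↘ (Spec (CommRingCat.of k))) h OY 1) ≅ DCoh.dualizingMod (Curv2.bcSnd k X K) hK OK 1) := by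
  haveI : IsLocallyNoetherian X :=
    LocallyOfFiniteType.isLocallyNoetherian (X ↘ (Spec (CommRingCat.of k)))
  have sq : IsPullback (Curv2.bcFst k X K) (Curv2.bcSnd k X K) (X ↘ (Spec (CommRingCat.of k)))
      (Spec.map (CommRingCat.ofHom (algebraMap k K))) := IsPullback.of_hasPullback _ _
  set g := Spec.map (CommRingCat.ofHom (algebraMap k K)) with hg
  haveI : Flat g := by
    rw [hg, Flat.SpecMap_iff]
    exact RingHom.flat_algebraMap_iff.mpr inferInstance
  haveI : Flat (Curv2.bcFst k X K) := MorphismProperty.of_isPullback sq.flip inferInstance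
  haveI : DCoh.HasLpull g := PerfC.PullKFlat.hasLpull g
  haveI : DCoh.HasLpull (Curv2.bcFst k X K) := PerfC.PullKFlat.hasLpull _
  have hLg : Dual3.LpullPreservesQCoh g := Dual.H322.BcOpen.lpullPreserves g
  have hLg' : Dual3.LpullPreservesQCoh (Curv2.bcFst k X K) := Dual.H322.BcOpen.lpullPreserves _
  obtain ⟨eO⟩ := hOY
  obtain ⟨eK⟩ := hOK
  have hb : (Dual3.IsBddBelowQ (Spec (CommRingCat.of k))) OY := by
    refine ⟨0, ?_⟩
    exact (DerivedCategory.TStructure.t : Triangulated.TStructure _).isGE_of_iso eO.symm 0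
  obtain ⟨α⟩ := Dual.H355.FBC.nonempty_iso sq (hf := h) (hf' := hK) (hLg := hLg) (hLg' := hLg')
    (DCoh.shriekAdj (X ↘ (Spec (CommRingCat.of k))) h) (DCoh.shriekAdj (Curv2.bcSnd k X K) hK)
  have e1 : (DCoh.Lpull g).obj OY.obj ≅ OK.obj :=
    (DCoh.Lpull g).mapIso eO ≪≫ (PerfB.FlatPull.lpullIso g).app _ ≪≫ PerfB.UnitStr.pullO g ≪≫
      eK.symm
  have e2 : (Dual3.LpullQ g hLg).obj OY ≅ OK :=
    (ObjectProperty.fullyFaithfulι _).preimageIso e1
  have e3 : (DCoh.Lpull (Curv2.bcFst k X K)).obj
      (DCoh.dualizingCx (X ↘ (Spec (CommRingCat.of k))) h OY) ≅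
      DCoh.dualizingCx (Curv2.bcSnd k X K) hK OK :=
    (ObjectProperty.ι _).mapIso (α.app ⟨OY, hb⟩ ≪≫ (DCoh.shriek (Curv2.bcSnd k X K) hK).mapIso e2)
  exact ⟨(PerfB.FlatPull.HDLpull (Curv2.bcFst k X K) _ _).symm ≪≫
    (DerivedCategory.homologyFunctor _ _).mapIso e3⟩

end Groth.Agent.S6576
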