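import Groth.Statements.S6539
import Groth.Agent.Curves.K817.DualRR
import Groth.Agent.Curves.K817.SepSec
import Groth.Agent.S6576
import Groth.Agent.S1646
import Groth.Agent.S0002
import Groth.Agent.Surf.K461.ProperForm
import Groth.Agent.CurvesB.VABaseChange
import Groth.Agent.ASBun.K791.Tens

set_option autoImplicit false
universe u
open CategoryTheory CategoryTheory.Limits AlgebraicGeometry
attribute [local instance] HasDerivedCategory.standard
open Curves

namespace Groth.Agent.S6539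

open Groth.Agent.CurvesC in
/-- The case of an algebraically closed extension field `K` on which everything is defined. -/
theorem core (K : Type u) [Field K] [IsAlgClosed K] (Y : Scheme.{u}) [Y.Over (Spec (CommRingCat.of K))]
    [IsProper (Y ↘ (Spec (CommRingCat.of K)))] (hdim : topologicalKrullDim Y = 1)
    (h0 : Module.finrank K (Coh.HH Y (Coh.structureModule Y) 0) = 1)
    [DCoh.HasRpush (Y ↘ (Spec (CommRingCat.of K)))] (h : DCoh.RpushPreservesQCoh (Y ↘ (Spec (CommRingCat.of K))))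
    [DCoh.HasShriek (Y ↘ (Spec (CommRingCat.of K))) h]
    (OY : DCoh.DQCoh (Spec (CommRingCat.of K)))
    (hOY : Nonempty (OY.obj ≅ DCoh.inD (Spec (CommRingCat.of K)) (Coh.structureModule (Spec (CommRingCat.of K)))))
    (L : Y.Modules) (hL : PicF.IsInvertible L) (hdeg : 2 ≤ Curv2.deg K Y L 1) {n : ℕ} {k : Type u} [Field k]
    (φ : Y ⟶ CohB1.ProjSpace n k) (ρ : Spec (CommRingCat.of K) ⟶ Spec (CommRingCat.of k))
    (hφ : φ ≫ CohB1.ProjSpace.toSpec n k = (Y ↘ (Spec (CommRingCat.of K))) ≫ ρ)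
    (e : (Scheme.Modules.pullback φ).obj (Twist.twistProjSpace n k 1) ≅ L)
    (hinj : ∀ P Q : Spec (CommRingCat.of K) ⟶ Y, P ≫ (Y ↘ (Spec (CommRingCat.of K))) = 𝟙 _ →
      Q ≫ (Y ↘ (Spec (CommRingCat.of K))) = 𝟙 _ → P ≫ φ = Q ≫ φ → P = Q) :
    Curv2.IsGloballyGenerated (CohB1.tensorMod L (DCoh.dualizingMod (Y ↘ (Spec (CommRingCat.of K))) h OY 1)) := by
  have hN : IsNoetherian Y := CurveCoh.noetherianSpace K Y
  obtain ⟨t, ht⟩ := DualRep.exists_isDual K Y h OY hdim.le hOY
  obtain ⟨-, hCM, hequi⟩ := Groth.Agent.S1534.result K Y hdim h0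
  have h1 := DualEuler.finrank_one K Y h OY hOY hdim.le hCM hequi
  rw [(HV.equiv K (Coh.structureModule Y) 0).finrank_eq, h0] at h1
  have hq := DualRep.isQCoh_dualizingMod K Y h OY 1
  have hw := DualNodal.isCoh_of_isDual K hdim ht hq
  have hfin : Module.Finite K (HV Y (DCoh.dualizingMod (Y ↘ (Spec (CommRingCat.of K))) h OY 1) 0) :=
    Groth.Agent.S0002.result K Y _ hw 0
  exact K817.DualVA.gg_of_sections ht hw h1 hL (K817.DualRR.h0_lt hdim.le h0 ht hL hdeg)
    (fun x hx => K817.SepSec.exists_section (f := Y ↘ (Spec (CommRingCat.of K))) hdim.le hequi hL ρ hφ e hinj x hx)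

/-- Let X be proper over the field k, of dimension one, with H^0(X, O_X) = k, and let ω_X be its
dualizing module (the degree -1 cohomology sheaf of f^! O for the structure morphism f, assuming
Rf_* on D_QCoh and its right adjoint exist). If L is a very ample invertible O_X-module (there is a
closed immersion i : X → P^n_k over k with i^* O(1) ≅ L) of degree at least 2, then ω_X ⊗ L is
globally generated. -/
theorem result (k : Type u) [Field k] (X : Scheme.{u}) [X.Over (Spec (CommRingCat.of k))] [IsProper (X ↘ (Spec (CommRingCat.of k)))] (hdim : topologicalKrullDim X = 1)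
    (h0 : Module.finrank k (Coh.HH X (Coh.structureModule X) 0) = 1)
    [DCoh.HasRpush (X ↘ (Spec (CommRingCat.of k)))] (h : DCoh.RpushPreservesQCoh (X ↘ (Spec (CommRingCat.of k)))) [DCoh.HasShriek (X ↘ (Spec (CommRingCat.of k))) h]
    (OY : DCoh.DQCoh (Spec (CommRingCat.of k))) (hOY : Nonempty (OY.obj ≅ DCoh.inD (Spec (CommRingCat.of k)) (Coh.structureModule (Spec (CommRingCat.of k)))))
    (L : X.Modules) (hL : PicF.IsInvertible L)
    (hva : ∃ (n : ℕ) (i : X ⟶ CohB1.ProjSpace n k), IsClosedImmersion i ∧ i ≫ CohB1.ProjSpace.toSpec n k = X ↘ (Spec (CommRingCat.of k)) ∧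
      Nonempty ((Scheme.Modules.pullback i).obj (Twist.twistProjSpace n k 1) ≅ L))
    (hdeg : 2 ≤ Curv2.deg k X L 1) :
    Curv2.IsGloballyGenerated (CohB1.tensorMod (DCoh.dualizingMod (X ↘ (Spec (CommRingCat.of k))) h OY 1) L) := by
  classical
  let K := AlgebraicClosure k
  have hN : IsNoetherian X := Groth.Agent.CurvesC.CurveCoh.noetherianSpace k X
  letI : (Curv2.bc k X K).Over (Spec (CommRingCat.of K)) := Groth.Agent.CurvesB.VABaseChange.overBc k X K
  have hpb := Groth.Agent.CurvesB.VABaseChange.isPullback_bc k X K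
  have hprop : IsProper ((Curv2.bc k X K) ↘ (Spec (CommRingCat.of K))) :=
    Groth.Agent.CurvesB.VABaseChange.isProper hpb
  have hdim' : topologicalKrullDim (Curv2.bc k X K) = 1 :=
    (Groth.Agent.CurvesB.VABaseChange.topologicalKrullDim_eq hpb).trans hdim
  have h0' : Module.finrank K (Coh.HH (Curv2.bc k X K) (Coh.structureModule (Curv2.bc k X K)) 0) = 1 :=
    (Groth.Agent.CurvesB.VABaseChange.finrank_structure_eq hpb 0).trans h0
  obtain ⟨i1, hK, i2, OK, hOK⟩ := K461.ProperForm.exists_data K (Curv2.bc k X K)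
  have hw : Coh.IsQCoh (DCoh.dualizingMod (X ↘ (Spec (CommRingCat.of k))) h OY 1) :=
    Groth.Agent.CurvesC.DualRep.isQCoh_dualizingMod k X h OY 1
  obtain ⟨ew⟩ := @Groth.Agent.S6576.result k _ X _ _ hdim.le _ h _ OY hOY K _ _ i1 hK i2 OK hOK
  obtain ⟨n, i, hi, hik, ⟨ei⟩⟩ := hva
  let p : Curv2.bc k X K ⟶ X := Curv2.bcFst k X K
  have hLq : Coh.IsQCoh L := (Groth.Agent.Ega3B.PicTwist.isCoh_of_isInvertible hL).1
  have hcore := core K (Curv2.bc k X K) hdim' h0' hK OK hOK ((Scheme.Modules.pullback p).obj L)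
    (Groth.Agent.Fdesc.LocGen.isInvertible_pullback p hL)
    (hdeg.trans (Groth.Agent.CurvesB.VABaseChange.deg_eq hpb L hLq 1).ge)
    (p ≫ i) (Spec.map (CommRingCat.ofHom (algebraMap k K)))
    (by rw [Category.assoc, hik]; exact hpb.w)
    ((Scheme.Modules.pullbackComp p i).symm.app _ ≪≫ (Scheme.Modules.pullback p).mapIso ei)
    (fun P Q hP hQ hPQ => by
      refine hpb.hom_ext ?_ (hP.trans hQ.symm)
      rw [← cancel_mono i, Category.assoc, Category.assoc]
      exact hPQ)
  refine (Groth.Agent.S1646.result k K X (X ↘ (Spec (CommRingCat.of k))) _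
    (Groth.Agent.Ega2.TensGen.isQCoh_tensor hw hL)).2 ?_
  refine Groth.Agent.Ega2.GlobGenCrit.isGloballyGenerated_of_iso ?_ hcore
  exact Groth.Agent.Ega2.Tens.swap _ _ ≪≫ Groth.Agent.Ega2.Tens.mapTIso ew.symm (Iso.refl _) ≪≫
    (Groth.Agent.ASBun.K791.Tens.pullTens p _ _).symm

end Groth.Agent.S6539
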