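import Groth.Statements.S6540
import Groth.Agent.S1635
import Groth.Agent.CurvesC.DegZeroSec512
import Groth.Agent.CurvesB.HZero
import Groth.Agent.CurvesC.Gen

set_option autoImplicit false
universe u
open CategoryTheory CategoryTheory.Limits AlgebraicGeometry
open Curves

namespace Groth.Agent.S6540

/-- Let X be a proper curve over the field k (proper, integral, of dimension one) with H^0(X, O_X) = k
and genus 0. Then every invertible O_X-module of degree 0 is trivial, i.e. isomorphic to O_X. -/
theorem result (k : Type u) [Field k] (X : Scheme.{u}) [X.Over (Spec (CommRingCat.of k))]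
    [IsIntegral X] [IsProper (X ↘ (Spec (CommRingCat.of k)))] (hdim : topologicalKrullDim X = 1)
    (h0 : Module.finrank k (Coh.HH X (Coh.structureModule X) 0) = 1) (hg : Curv2.genus k X = 0)
    (L : X.Modules) (hL : PicF.IsInvertible L) (hdeg : Curv2.deg k X L 1 = 0) :
    Nonempty (L ≅ Coh.structureModule X) := by
  have hN := Groth.Agent.CurvesC.CurveCoh.noetherianSpace k X
  have hO1 := Groth.Agent.S1635.h1_structure k X hg
  have hO0 : Curv2.euler k X (Coh.structureModule X) = 1 := by
    rw [Groth.Agent.CurvesC.CurveCoh.euler_eq k X hdim, h0, Module.finrank_zero_of_subsingleton]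
    simp
  have hLe : Curv2.euler k X L = 1 := by
    unfold Curv2.deg at hdeg
    rw [hO0] at hdeg
    push_cast at hdeg
    linarith
  rw [Groth.Agent.CurvesC.CurveCoh.euler_eq k X hdim] at hLe
  have hpos : 0 < Module.finrank k (Coh.HH X L 0) := by
    have : (0 : ℤ) ≤ (Module.finrank k (Coh.HH X L 1) : ℤ) := by positivity
    have h3 : (0 : ℤ) < (Module.finrank k (Coh.HH X L 0) : ℤ) := by linarith
    exact_mod_cast h3
  have hnt := Module.nontrivial_of_finrank_pos hpos
  obtain ⟨x, hx⟩ := exists_ne (0 : Coh.HH X L 0)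
  let σ := Groth.Agent.CurvesB.HZero.equivAdd L x
  have hσ : σ ≠ 0 := by simpa [σ] using hx
  let s := Groth.Agent.CurvesC.Gen.ofSec σ
  have hs : s ≠ 0 := by
    intro h
    apply hσ
    have h2 : Groth.Agent.CurvesC.Gen.sec s ⊤ = Groth.Agent.CurvesC.Gen.sec (0 : Coh.structureModule X ⟶ L) ⊤ := by
      rw [h]
    rw [Groth.Agent.CurvesC.Gen.sec_ofSec_top] at h2
    rw [h2]
    rfl
  rcases Groth.Agent.CurvesC.DegZeroSec512.zero_or_top k X hdim L hL s hdeg.le with h | h
  · exact absurd h hs
  · have := Groth.Agent.CurvesC.DegZeroSec512.isIso_of_genLocus_eq_top s h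
    exact ⟨(asIso s).symm⟩

end Groth.Agent.S6540
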