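import Groth.Statements.S6543
import Groth.Agent.Curves.K314.GorInv
import Groth.Agent.Curves.K314.P1Recog
import Groth.Agent.Curves.K314.PointDeg
import Groth.Agent.AbVar.K817.VeryAmple
import Groth.Agent.S1534
import Groth.Agent.S1656
import Groth.Agent.S1635
import Groth.Agent.S0998
import Groth.Agent.S1766
import Groth.Agent.PerfA.ExtPush
import Groth.Agent.PerfA.QCohD
import Groth.Agent.CurvesC.CurveCoh

set_option autoImplicit false
universe u
open CategoryTheory CategoryTheory.Limits AlgebraicGeometry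
open Curves

namespace Groth.Agent.S6543

/-- Let X be a proper curve over the field k (proper, integral, of dimension one) with H^0(X, O_X) = k,
genus 0 and Gorenstein local rings. If X has an invertible O_X-module of odd degree, then X is
isomorphic to P^1_k over k. -/
theorem result (k : Type u) [Field k] (X : Scheme.{u}) [X.Over (Spec (CommRingCat.of k))]
    [IsIntegral X] [IsProper (X ↘ (Spec (CommRingCat.of k)))] (hdim : topologicalKrullDim X = 1)
    (h0 : Module.finrank k (Coh.HH X (Coh.structureModule X) 0) = 1) (hg : Curv2.genus k X = 0) (hgor : ∀ x : X, LocCoh.IsGorensteinLocalRing (X.presheaf.stalk x))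
    (L : X.Modules) (hL : PicF.IsInvertible L) (hodd : Odd (Curv2.deg k X L 1)) :
    ∃ e : X ≅ CohB1.ProjSpace 1 k, e.hom ≫ CohB1.ProjSpace.toSpec 1 k = X ↘ (Spec (CommRingCat.of k)) := by
  have hN := K817.VeryAmple.isNoetherian k X
  have hr : DCoh.HasRpush (X ↘ (Spec (CommRingCat.of k))) := Groth.Agent.PerfA.ExtPush.hasRpush _
  have hq : DCoh.RpushPreservesQCoh (X ↘ (Spec (CommRingCat.of k))) := fun K hK => Groth.Agent.S0998.result _ K hK
  have hs : DCoh.HasShriek (X ↘ (Spec (CommRingCat.of k))) hq :=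
    Groth.Agent.S1766.result X (Spec (CommRingCat.of k)) (X ↘ (Spec (CommRingCat.of k))) hq
  have hQ : Coh.IsQCoh (Coh.structureModule (Spec (CommRingCat.of k))) :=
    Groth.Agent.Ega2.QCohLocal.isQCoh_of_isInvertible Groth.Agent.Fdesc.LocGen.isInvertible_structureModule
  let OY : DCoh.DQCoh (Spec (CommRingCat.of k)) :=
    ⟨DCoh.inD (Spec (CommRingCat.of k)) (Coh.structureModule (Spec (CommRingCat.of k))),
      Groth.Agent.PerfA.QCohD.isQCohD_inD _ hQ⟩
  have hOY : Nonempty (OY.obj ≅ DCoh.inD (Spec (CommRingCat.of k)) (Coh.structureModule (Spec (CommRingCat.of k)))) :=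
    ⟨Iso.refl _⟩
  obtain ⟨-, hCM, hequi⟩ := Groth.Agent.S1534.result k X hdim h0
  have hw := K314.GorInv.isInvertible_dualizingMod k X (X ↘ (Spec (CommRingCat.of k))) hgor hCM 1
    (fun Z hZ => hequi Z hZ) hq OY hOY
  have hχ := Groth.Agent.S1656.result k X hCM hequi hq OY hOY
  have hO1 := Groth.Agent.S1635.h1_structure k X hg
  have hO0 : Curv2.euler k X (Coh.structureModule X) = 1 := by
    rw [Groth.Agent.CurvesC.CurveCoh.euler_eq k X hdim, h0, Module.finrank_zero_of_subsingleton]
    simp
  have hdw : Curv2.deg k X (DCoh.dualizingMod (X ↘ (Spec (CommRingCat.of k))) hq OY 1) 1 = -2 := by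
    unfold Curv2.deg
    rw [hO0] at hχ ⊢
    push_cast
    linarith
  obtain ⟨M, hM, hMd⟩ := K314.PointDeg.exists_deg_one_of_odd k X hdim ⟨_, hw, hdw⟩ ⟨L, hL, rfl⟩ hodd
  exact K314.P1Recog.exists_iso_of_h0 k X hdim h0 hg M hM hMd

end Groth.Agent.S6543
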