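import Groth.Statements.S6544
import Groth.Agent.S1612
import Groth.Agent.CurvesB.OmegaInv
import Groth.Agent.Curves.K314.P1Recog
import Groth.Agent.Curves.K314.PointDeg
import Groth.Agent.Curves.K314.H0One

set_option autoImplicit false
universe u
open CategoryTheory CategoryTheory.Limits AlgebraicGeometry
open Curves

namespace Groth.Agent.S6544

/-- Let X be a proper curve over the field k (proper, integral, of dimension one) which is smooth and
geometrically irreducible over k, of genus 0. If X has an invertible O_X-module of odd degree, then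
X is isomorphic to P^1_k over k. -/
theorem result (k : Type u) [Field k] (X : Scheme.{u}) [X.Over (Spec (CommRingCat.of k))]
    [IsIntegral X] [IsProper (X ↘ (Spec (CommRingCat.of k)))] (hdim : topologicalKrullDim X = 1)
    [Smooth (X ↘ (Spec (CommRingCat.of k)))] [GeometricallyIrreducible (X ↘ (Spec (CommRingCat.of k)))] (hg : Curv2.genus k X = 0)
    (L : X.Modules) (hL : PicF.IsInvertible L) (hodd : Odd (Curv2.deg k X L 1)) :
    ∃ e : X ≅ CohB1.ProjSpace 1 k, e.hom ≫ CohB1.ProjSpace.toSpec 1 k = X ↘ (Spec (CommRingCat.of k)) := by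
  have h0 := K314.H0One.finrank_eq_one_of_smooth k X
  have hC : Curve.IsSmoothProperCurve k X (X ↘ (Spec (CommRingCat.of k))) :=
    ⟨inferInstance, inferInstance, inferInstance, hdim⟩
  have hΩ := (Groth.Agent.S1612.result k X hC h0).2
  rw [hg] at hΩ
  obtain ⟨M, hM, hMd⟩ := K314.PointDeg.exists_deg_one_of_odd k X hdim
    ⟨_, Groth.Agent.CurvesB.OmegaInv.isInvertible_omega _ hdim, by rw [hΩ]; norm_num⟩ ⟨L, hL, rfl⟩ hodd
  exact K314.P1Recog.exists_iso_of_h0 k X hdim h0 hg M hM hMd

end Groth.Agent.S6544
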