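import Groth.Statements.S6546
import Groth.Agent.Curves.K472.PicJac
import Groth.Agent.Curves.K472.PicCount
import Groth.Agent.S14142
-- import your own Groth.Agent.* helpers here

set_option autoImplicit false
universe u
open CategoryTheory CategoryTheory.Limits AlgebraicGeometry
open Curves

namespace Groth.Agent.S6546

/-- Let k be an algebraically closed field of characteristic p > 0 and X a smooth proper curve over k
(proper, smooth, integral, of dimension one) of genus g. Then there is an integer f with 0 ≤ f ≤ g
such that, for every m ≥ 1, exactly p^{mf} isomorphism classes of invertible O_X-modules M satisfy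
M^{⊗p^m} ≅ O_X. (The published statement takes X projective and gives Pic(X)[p^m] ≅ (Z/p^mZ)^f; this
row takes X proper, the same for curves over a field, and states the numbers of classes, which for
all m together is equivalent.) -/
theorem result (k : Type u) [Field k] (X : Scheme.{u}) [X.Over (Spec (CommRingCat.of k))] [IsAlgClosed k]
    (p : ℕ) [Fact p.Prime] [CharP k p]
    [IsIntegral X] [IsProper (X ↘ (Spec (CommRingCat.of k)))] [Smooth (X ↘ (Spec (CommRingCat.of k)))] (hdim : topologicalKrullDim X = 1) :
    ∃ f : ℕ, f ≤ Curv2.genus k X ∧ ∀ m : ℕ, 1 ≤ m →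
      Nat.card {c : PicF.Cl (X) | ∃ M : Scheme.Modules (X), PicF.cl M = c ∧ PicF.IsInvertible M ∧ Nonempty (CohB1.tensorPow M (p ^ m) ≅ Coh.structureModule (X))} = p ^ (m * f) := by
  obtain ⟨J, i1, i2, hp, hs, hi, hd, hcard⟩ := K472.PicJac.exists_jac X (X ↘ (Spec (CommRingCat.of k))) hdim rfl
  have hgi : GeometricallyIrreducible J.hom := inferInstance
  have hgc : GeometricallyConnected J.hom := ⟨by
    intro L _ y Z fst snd h
    have := hgi.geometrically_irreducibleSpace y fst snd h
    exact inferInstanceAs (ConnectedSpace Z)⟩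
  obtain ⟨i, hi, h⟩ := Groth.Agent.S14142.result k p J _ hd
  refine ⟨i, hi, fun m _ => ?_⟩
  have hpm : p ^ m ≠ 0 := pow_ne_zero _ (Fact.out : p.Prime).ne_zero
  obtain ⟨e⟩ := h m
  rw [show {c : PicF.Cl (X) | ∃ M : Scheme.Modules (X), PicF.cl M = c ∧ PicF.IsInvertible M ∧
    Nonempty (CohB1.tensorPow M (p ^ m) ≅ Coh.structureModule (X))} = K472.PicCount.tors X (p ^ m) from rfl,
    K472.PicCount.card_tors, hcard _ hpm, Nat.card_congr e.toEquiv]
  have : NeZero (p ^ m) := ⟨hpm⟩
  rw [Nat.card_congr Multiplicative.toAdd, Nat.card_pi]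
  simp [pow_mul]

end Groth.Agent.S6546
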