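import Groth.Statements.S6549
import Groth.Agent.Curves.K974.BcMain
import Groth.Agent.Curves.K974.TailSmooth
import Groth.Agent.CurvesC.TailGeom
import Groth.Agent.Sga4B.DimBC

set_option autoImplicit false
universe u
open CategoryTheory CategoryTheory.Limits AlgebraicGeometry
open Curves

namespace Groth.Agent.S6549

open Groth.Agent.CurvesC Groth.Agent.CurvesC.CurveNum Groth.Agent.CurvesC.TailNum Groth.Agent.CurvesC.CompGeom

theorem finrank_inter (k : Type u) [Field k] (X : Scheme.{u}) [X.Over (Spec (CommRingCat.of k))]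
    [IsProper (X ↘ (Spec (CommRingCat.of k)))]
    (C : Set X) (hC : C ∈ irreducibleComponents (X : Type u)) (hCt : Curv2.IsRationalTail X C hC) :
    Module.finrank k (Coh.HH X (ClSub.quotMod (IC X C hC ⊔ IX' X C hC)) 0) =
      1 * Module.finrank k (Coh.HH X (ClSub.quotMod (IC X C hC)) 0) := by
  letI := subOver k X (IC X C hC)
  letI := subOver k X (IC X C hC ⊔ IX' X C hC)
  letI := topMod k (IC X C hC).subscheme
  letI := topMod k (IC X C hC ⊔ IX' X C hC).subscheme
  rw [one_mul, ← finrank_quotMod_zero, ← finrank_quotMod_zero]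
  exact (LinearEquiv.ofBijective (TailGeom.restrictTop k X (le_sup_left : IC X C hC ≤ IC X C hC ⊔ IX' X C hC))
    (K896.ConNodal.bijective_jT k X C hC hCt)).finrank_eq.symm

/-- Let X be proper over the field k, of dimension one, with H^0(X, O_X) = k and at-worst-nodal
singularities, and let C ⊆ X be a rational tail. Let K be any field extension of k. Then the part of
X_K lying over C breaks up into finitely many pairwise disjoint rational tails of X_K: every
irreducible component of X_K contained in the preimage of C is a rational tail of X_K, two distinct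
such components do not meet, the preimage of C is the union of these components, and there are only
finitely many of them. -/
theorem result (k : Type u) [Field k] (X : Scheme.{u}) [X.Over (Spec (CommRingCat.of k))] [IsProper (X ↘ (Spec (CommRingCat.of k)))] (hdim : topologicalKrullDim X = 1)
    (h0 : Module.finrank k (Coh.HH X (Coh.structureModule X) 0) = 1) (hX : Curv2.AtWorstNodal k X)
    (C : Set X) (hC : C ∈ irreducibleComponents (X : Type u)) (hCt : Curv2.IsRationalTail X C hC)
    (K : Type u) [Field K] [Algebra k K] :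
    (∀ (C' : Set (Curv2.bc k X K)) (hC' : C' ∈ irreducibleComponents (Curv2.bc k X K : Type u)),
        C' ⊆ (Curv2.bcFst k X K) ⁻¹' C → Curv2.IsRationalTail (Curv2.bc k X K) C' hC') ∧
    (∀ C' ∈ irreducibleComponents (Curv2.bc k X K : Type u), ∀ C'' ∈ irreducibleComponents (Curv2.bc k X K : Type u),
        C' ⊆ (Curv2.bcFst k X K) ⁻¹' C → C'' ⊆ (Curv2.bcFst k X K) ⁻¹' C → C' ≠ C'' → Disjoint C' C'') ∧
    (Curv2.bcFst k X K) ⁻¹' C = ⋃₀ {C' | C' ∈ irreducibleComponents (Curv2.bc k X K : Type u) ∧ C' ⊆ (Curv2.bcFst k X K) ⁻¹' C} ∧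
    {C' | C' ∈ irreducibleComponents (Curv2.bc k X K : Type u) ∧ C' ⊆ (Curv2.bcFst k X K) ⁻¹' C}.Finite := by
  letI hov : (Curv2.bc k X K).Over (Spec (CommRingCat.of K)) := ⟨Curv2.bcSnd k X K⟩
  have hNX := K974.BcMain.isNoetherian_of_proper k X
  have hCsm := K974.TailSmooth.smooth_tail k X C hC hdim hX hCt
  have hn := finrank_inter k X C hC hCt
  have hP : IsProper ((Curv2.bc k X K) ↘ (Spec (CommRingCat.of K))) := K974.BcMain.isProper_bcSnd k X K
  have hne : C ≠ Set.univ := by
    intro h
    obtain ⟨x, hx⟩ := hCt.1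
    have h1 : x ∈ closure Cᶜ := by
      rw [← Groth.Agent.CurvesC.CompGeom.support_IX' X C hC]
      exact hx
    rw [h, Set.compl_univ, closure_empty] at h1
    exact h1
  have hdim' : topologicalKrullDim (Curv2.bc k X K) ≤ 1 := by
    refine le_trans ?_ hdim.le
    exact Sga4B.DimBC.topologicalKrullDim_baseChange_le (k := CommRingCat.of k) (Ω := CommRingCat.of K)
      (Field.toIsField k) (Field.toIsField K) (X ↘ Spec (CommRingCat.of k))
      (Spec.map (CommRingCat.ofHom (algebraMap k K))) (Curv2.bcFst k X K) (Curv2.bcSnd k X K)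
      (IsPullback.of_hasPullback _ _)
  refine ⟨fun C' hC' hsub => ?_, ?_, ?_, ?_⟩
  · have hne' : C' ≠ Set.univ := by
      intro h
      apply hne
      rw [Set.eq_univ_iff_forall]
      intro x
      obtain ⟨y, rfl⟩ := (Curv2.bcFst k X K).surjective x
      have : y ∈ C' := by rw [h]; trivial
      exact hsub this
    have h1 := K974.BcMain.finrank_piece k X C hC K hC' hCsm hn hsub
    have h2 := K974.BcMain.subsingleton_piece k X C hC K hC' hCsm hCt.2.2.2.2.2 hsub
    refine TailGeom.isRationalTail K (X := Curv2.bc k X K) hdim' C' hC' hne' ?_ ?_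
    · rw [one_mul] at h1
      exact h1
    · letI := subOver K (Curv2.bc k X K) (IC (Curv2.bc k X K) C' hC')
      refine (finrank_quotMod K (Curv2.bc k X K) (IC (Curv2.bc k X K) C' hC') 1).symm.trans ?_
      exact Module.finrank_zero_of_subsingleton
  · intro C' hC' C'' hC'' h1 h2 h3
    exact K974.BcMain.disjoint k X C hC K hCsm hC' hC'' h1 h2 h3
  · exact K974.BcMain.sUnion_eq k X C hC K
  · exact K974.BcMain.finite_comps k X C hC K

end Groth.Agent.S6549
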