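import Groth.Statements.S6550
import Groth.Agent.Curves.K974.BcMain

set_option autoImplicit false
universe u
open CategoryTheory CategoryTheory.Limits AlgebraicGeometry
open Curves

namespace Groth.Agent.S6550

/-- Let X be proper over the field k, of dimension one, with H^0(X, O_X) = k and at-worst-nodal
singularities, and let C ⊆ X be a rational bridge such that C, with its reduced closed-subscheme
structure, is smooth over k. Let K be any field extension of k. Then the part of X_K lying over C
breaks up into finitely many pairwise disjoint rational bridges of the K-scheme X_K: every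
irreducible component of X_K contained in the preimage of C is a rational bridge of X_K over K, two
distinct such components do not meet, the preimage of C is the union of these components, and there
are only finitely many of them. (The published statement has no smoothness hypothesis on C and is
false without it: a rational bridge may consist of two lines conjugate over H^0(C, O_C) crossing in
a node, and over a field that splits them it becomes two rational bridges which meet. The published
proof treats the base change of C to each factor field of H^0(C, O_C) ⊗_k K as irreducible, which is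
the case when C is smooth over k; this row assumes that.) -/
theorem result (k : Type u) [Field k] (X : Scheme.{u}) [X.Over (Spec (CommRingCat.of k))] [IsProper (X ↘ (Spec (CommRingCat.of k)))] (hdim : topologicalKrullDim X = 1)
    (h0 : Module.finrank k (Coh.HH X (Coh.structureModule X) 0) = 1) (hX : Curv2.AtWorstNodal k X)
    (C : Set X) (hC : C ∈ irreducibleComponents (X : Type u)) (hCb : Curv2.IsRationalBridge k X C hC)
    (hCsm : Smooth ((Scheme.IdealSheafData.vanishingIdeal ⟨C, isClosed_of_mem_irreducibleComponents C hC⟩).subschemeι ≫
      (X ↘ (Spec (CommRingCat.of k)))))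
    (K : Type u) [Field K] [Algebra k K] :
    letI : (Curv2.bc k X K).Over (Spec (CommRingCat.of K)) := ⟨Curv2.bcSnd k X K⟩
    (∀ (C' : Set (Curv2.bc k X K)) (hC' : C' ∈ irreducibleComponents (Curv2.bc k X K : Type u)),
        C' ⊆ (Curv2.bcFst k X K) ⁻¹' C → Curv2.IsRationalBridge K (Curv2.bc k X K) C' hC') ∧
    (∀ C' ∈ irreducibleComponents (Curv2.bc k X K : Type u), ∀ C'' ∈ irreducibleComponents (Curv2.bc k X K : Type u),
        C' ⊆ (Curv2.bcFst k X K) ⁻¹' C → C'' ⊆ (Curv2.bcFst k X K) ⁻¹' C → C' ≠ C'' → Disjoint C' C'') ∧
    (Curv2.bcFst k X K) ⁻¹' C = ⋃₀ {C' | C' ∈ irreducibleComponents (Curv2.bc k X K : Type u) ∧ C' ⊆ (Curv2.bcFst k X K) ⁻¹' C} ∧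
    {C' | C' ∈ irreducibleComponents (Curv2.bc k X K : Type u) ∧ C' ⊆ (Curv2.bcFst k X K) ⁻¹' C}.Finite := by
  letI hov : (Curv2.bc k X K).Over (Spec (CommRingCat.of K)) := ⟨Curv2.bcSnd k X K⟩
  have hNX := K974.BcMain.isNoetherian_of_proper k X
  obtain ⟨b1, b2, b3⟩ := hCb
  have hne : C ≠ Set.univ := by
    intro h
    obtain ⟨x, hx⟩ := b1
    have h1 : x ∈ closure Cᶜ := by
      rw [← Groth.Agent.CurvesC.CompGeom.support_IX' X C hC]
      exact hx
    rw [h, Set.compl_univ, closure_empty] at h1
    exact h1
  refine ⟨fun C' hC' hsub => ⟨?_, ?_, ?_⟩, ?_, ?_, ?_⟩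
  · exact K974.BcMain.nonempty_support k X C K hC' hne hsub
  · exact K974.BcMain.finrank_piece k X C hC K hC' hCsm b2 hsub
  · exact K974.BcMain.subsingleton_piece k X C hC K hC' hCsm b3 hsub
  · intro C' hC' C'' hC'' h1 h2 h3
    exact K974.BcMain.disjoint k X C hC K hCsm hC' hC'' h1 h2 h3
  · exact K974.BcMain.sUnion_eq k X C hC K
  · exact K974.BcMain.finite_comps k X C hC K

end Groth.Agent.S6550
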