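import Groth.Statements.S6560
import Groth.Agent.Curves.K326.GorMain
-- import your own Groth.Agent.* helpers here

set_option autoImplicit false
universe u
open CategoryTheory CategoryTheory.Limits AlgebraicGeometry
attribute [local instance] HasDerivedCategory.standard
open Curves

namespace Groth.Agent.S6560

/-- Let k be a field and c : X → Y a morphism over k of proper schemes over k such that (1) O_Y → c_*O_X
is an isomorphism and R^1c_*O_X = 0, (2) X and Y are reduced, Gorenstein and of dimension 1, and (3)
for some m ≥ 1 one has H^1(X, ω_X^{⊗m}) = 0 with ω_X^{⊗m} globally generated; here ω_X, ω_Y are the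
dualizing modules (degree -1 cohomology sheaves of f^! O for the structure morphisms, assuming Rf_*
on D_QCoh and its right adjoint exist). Then c^*ω_Y ≅ ω_X (existence of an isomorphism; the
published argument produces a specific map). (The published statement allows any integer m; for X
two projective lines meeting in one point, Y one of the lines and c the morphism contracting the
other line to the common point, conditions (1) and (2) hold and condition (3) holds for every m ≤ 0,
while c^*ω_Y is trivial on the contracted line and ω_X has degree −1 there. This row takes m ≥ 1,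
the range the published proof covers.) -/
theorem result (k : Type u) [Field k]
    (X Y : Scheme.{u}) [X.Over (Spec (CommRingCat.of k))] [Y.Over (Spec (CommRingCat.of k))] [IsProper (X ↘ (Spec (CommRingCat.of k)))] [IsProper (Y ↘ (Spec (CommRingCat.of k)))]
    (c : X ⟶ Y) (hc : c ≫ (Y ↘ (Spec (CommRingCat.of k))) = X ↘ (Spec (CommRingCat.of k)))
    [HasInjectiveResolutions X.Modules]
    (h1 : IsIso (ClSub.unitToPush c)) (h2 : IsZero ((Coh.Rpush c 1).obj (Coh.structureModule X)))
    [IsReduced X] [IsReduced Y] (hdX : topologicalKrullDim X = 1) (hdY : topologicalKrullDim Y = 1)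
    (hgX : ∀ x : X, LocCoh.IsGorensteinLocalRing (X.presheaf.stalk x)) (hgY : ∀ y : Y, LocCoh.IsGorensteinLocalRing (Y.presheaf.stalk y))
    [DCoh.HasRpush (X ↘ (Spec (CommRingCat.of k)))] (hX : DCoh.RpushPreservesQCoh (X ↘ (Spec (CommRingCat.of k)))) [DCoh.HasShriek (X ↘ (Spec (CommRingCat.of k))) hX] [DCoh.HasRpush (Y ↘ (Spec (CommRingCat.of k)))] (hY : DCoh.RpushPreservesQCoh (Y ↘ (Spec (CommRingCat.of k)))) [DCoh.HasShriek (Y ↘ (Spec (CommRingCat.of k))) hY]
    (OY : DCoh.DQCoh (Spec (CommRingCat.of k))) (hOY : Nonempty (OY.obj ≅ DCoh.inD (Spec (CommRingCat.of k)) (Coh.structureModule (Spec (CommRingCat.of k)))))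
    (m : ℕ) (hm : 1 ≤ m) (hm1 : Subsingleton (Coh.HH X (CohB1.tensorPow (DCoh.dualizingMod (X ↘ (Spec (CommRingCat.of k))) hX OY 1) m) 1))
    (hm2 : Curv2.IsGloballyGenerated (CohB1.tensorPow (DCoh.dualizingMod (X ↘ (Spec (CommRingCat.of k))) hX OY 1) m)) :
    Nonempty ((Scheme.Modules.pullback c).obj (DCoh.dualizingMod (Y ↘ (Spec (CommRingCat.of k))) hY OY 1) ≅ DCoh.dualizingMod (X ↘ (Spec (CommRingCat.of k))) hX OY 1) := by
  have hNX : IsNoetherian X := Groth.Agent.CurvesC.CurveCoh.noetherianSpace k X
  have hNY : IsNoetherian Y := Groth.Agent.CurvesC.CurveCoh.noetherianSpace k Y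
  have hPc := K900.FieldThm.isProper_c c k hc
  obtain ⟨t, ht⟩ := Groth.Agent.CurvesC.DualNodal.exists_isPair k hX OY hdX hOY
  obtain ⟨tY, htY⟩ := Groth.Agent.CurvesC.DualNodal.exists_isPair k hY OY hdY hOY
  exact K326.GorMain.main c k hc hdX hdY h1
    (K900.Acyc.locVan_of_isZero c hdX.le (Groth.Agent.Ega2.QCohLocal.isQCoh_structureModule X) h2) hgX hgY
    (Groth.Agent.CurvesC.DualRep.isQCoh_dualizingMod k X hX OY 1) ht
    (Groth.Agent.CurvesC.DualRep.isQCoh_dualizingMod k Y hY OY 1) htY m hm hm2

end Groth.Agent.S6560
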