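import Groth.Statements.S6561
import Groth.Agent.Curves.K326.ContrStab
-- import your own Groth.Agent.* helpers here

set_option autoImplicit false
universe u
open CategoryTheory CategoryTheory.Limits AlgebraicGeometry
attribute [local instance] HasDerivedCategory.standard
open Curves

namespace Groth.Agent.S6561

/-- Let X be proper over the field k, of dimension 1, with H^0(X, O_X) = k, genus g ≥ 2 and
at-worst-nodal singularities. Then there is a morphism c : X → Y of schemes over k such that (1) Y
is proper over k of dimension 1 with at-worst-nodal singularities, (2) O_Y → c_*O_X is an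
isomorphism and R^1c_*O_X = 0, and (3) the dualizing module ω_Y (degree -1 cohomology sheaf of g^! O
for the structure morphism g of Y, for any choice of the data Rg_* on D_QCoh with its right adjoint)
is ample on Y. -/
theorem result (k : Type u) [Field k] (X : Scheme.{u}) [X.Over (Spec (CommRingCat.of k))] [IsProper (X ↘ (Spec (CommRingCat.of k)))] (hdim : topologicalKrullDim X = 1)
    (h0 : Module.finrank k (Coh.HH X (Coh.structureModule X) 0) = 1) (hg : 2 ≤ Curv2.genus k X) (hX : Curv2.AtWorstNodal k X)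
    [HasInjectiveResolutions X.Modules]
    (OY : DCoh.DQCoh (Spec (CommRingCat.of k))) (hOY : Nonempty (OY.obj ≅ DCoh.inD (Spec (CommRingCat.of k)) (Coh.structureModule (Spec (CommRingCat.of k))))) :
    ∃ (Y : Scheme.{u}) (_ : Y.Over (Spec (CommRingCat.of k))) (c : X ⟶ Y), c ≫ (Y ↘ (Spec (CommRingCat.of k))) = X ↘ (Spec (CommRingCat.of k)) ∧
      IsProper (Y ↘ (Spec (CommRingCat.of k))) ∧ topologicalKrullDim Y = 1 ∧ Curv2.AtWorstNodal k Y ∧
      IsIso (ClSub.unitToPush c) ∧ IsZero ((Coh.Rpush c 1).obj (Coh.structureModule X)) ∧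
      (∀ [DCoh.HasRpush (Y ↘ (Spec (CommRingCat.of k)))] (hY : DCoh.RpushPreservesQCoh (Y ↘ (Spec (CommRingCat.of k)))) [DCoh.HasShriek (Y ↘ (Spec (CommRingCat.of k))) hY],
        CohB1.IsAmple (DCoh.dualizingMod (Y ↘ (Spec (CommRingCat.of k))) hY OY 1)) := by
  obtain ⟨Y, qY, c, hq, hP, hd, hn, hcon, h1, h2⟩ := K326.ContrStab.main k _ X le_rfl hdim h0 hX
  refine ⟨Y, qY, c, hq, hP, hd, hn, hcon.isIso_unit, hcon.isZero_Rpush 1 Nat.one_pos, ?_⟩
  intro _ hY _
  have h0Y : Module.finrank k (Coh.HH Y (Coh.structureModule Y) 0) = 1 := (hcon.finrank_zero k hq).symm.trans h0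
  have hgY : 2 ≤ Curv2.genus k Y := by rw [← hcon.genus k hq hdim hd]; exact hg
  exact Groth.Agent.S1675.result k Y hd h0Y hn h1 h2 hgY hY OY hOY

end Groth.Agent.S6561
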