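import Groth.Statements.S6562
import Groth.Agent.CurvSt.K900.UnptField
import Groth.Agent.CurvSt.K900.DualBasic

set_option autoImplicit false
universe u
open CategoryTheory CategoryTheory.Limits AlgebraicGeometry
attribute [local instance] HasDerivedCategory.standard
open Curves

namespace Groth.Agent.S6562

/-- Let X be proper over the field k, of dimension 1, with H^0(X, O_X) = k, genus g ≥ 2 and
at-worst-nodal singularities. Suppose c₁ : X → Y₁ and c₂ : X → Y₂ are morphisms over k such that for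
i = 1, 2: Y_i is proper over k of dimension 1 with at-worst-nodal singularities, O_{Y_i} →
(c_i)_*O_X is an isomorphism with R^1(c_i)_*O_X = 0, and the dualizing module ω_{Y_i}, computed from
the given duality data for Y_i → Spec k (existence of Rf_* on D_QCoh and of its right adjoint,
supplied as binders), is ample. Then there is a unique isomorphism e : Y₁ ≅ Y₂ with c₁ followed by e
equal to c₂. -/
theorem result (k : Type u) [Field k] (X : Scheme.{u}) [X.Over (Spec (CommRingCat.of k))] [IsProper (X ↘ (Spec (CommRingCat.of k)))] (hdim : topologicalKrullDim X = 1)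
    (h0 : Module.finrank k (Coh.HH X (Coh.structureModule X) 0) = 1) (hg : 2 ≤ Curv2.genus k X) (hX : Curv2.AtWorstNodal k X)
    [HasInjectiveResolutions X.Modules]
    (OY : DCoh.DQCoh (Spec (CommRingCat.of k))) (hOY : Nonempty (OY.obj ≅ DCoh.inD (Spec (CommRingCat.of k)) (Coh.structureModule (Spec (CommRingCat.of k)))))
    (Y₁ Y₂ : Scheme.{u}) [Y₁.Over (Spec (CommRingCat.of k))] [Y₂.Over (Spec (CommRingCat.of k))] (c₁ : X ⟶ Y₁) (c₂ : X ⟶ Y₂)
    (hc₁ : c₁ ≫ (Y₁ ↘ (Spec (CommRingCat.of k))) = X ↘ (Spec (CommRingCat.of k))) (hc₂ : c₂ ≫ (Y₂ ↘ (Spec (CommRingCat.of k))) = X ↘ (Spec (CommRingCat.of k)))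
    [DCoh.HasRpush (Y₁ ↘ (Spec (CommRingCat.of k)))] (hY₁ : DCoh.RpushPreservesQCoh (Y₁ ↘ (Spec (CommRingCat.of k))))
    [DCoh.HasShriek (Y₁ ↘ (Spec (CommRingCat.of k))) hY₁]
    [DCoh.HasRpush (Y₂ ↘ (Spec (CommRingCat.of k)))] (hY₂ : DCoh.RpushPreservesQCoh (Y₂ ↘ (Spec (CommRingCat.of k))))
    [DCoh.HasShriek (Y₂ ↘ (Spec (CommRingCat.of k))) hY₂]
    (h₁ : IsProper (Y₁ ↘ (Spec (CommRingCat.of k))) ∧ topologicalKrullDim Y₁ = 1 ∧ Curv2.AtWorstNodal k Y₁ ∧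
      IsIso (ClSub.unitToPush c₁) ∧ IsZero ((Coh.Rpush c₁ 1).obj (Coh.structureModule X)))
    (hamp₁ : CohB1.IsAmple (DCoh.dualizingMod (Y₁ ↘ (Spec (CommRingCat.of k))) hY₁ OY 1))
    (h₂ : IsProper (Y₂ ↘ (Spec (CommRingCat.of k))) ∧ topologicalKrullDim Y₂ = 1 ∧ Curv2.AtWorstNodal k Y₂ ∧
      IsIso (ClSub.unitToPush c₂) ∧ IsZero ((Coh.Rpush c₂ 1).obj (Coh.structureModule X)))
    (hamp₂ : CohB1.IsAmple (DCoh.dualizingMod (Y₂ ↘ (Spec (CommRingCat.of k))) hY₂ OY 1)) :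
    ∃! e : Y₁ ≅ Y₂, c₁ ≫ e.hom = c₂ := by
  obtain ⟨p₁, d₁, -, u₁, r₁⟩ := h₁
  obtain ⟨p₂, d₂, -, u₂, r₂⟩ := h₂
  have : IsNoetherian X := Groth.Agent.CurvesC.CurveCoh.noetherianSpace k X
  have : IsNoetherian Y₁ := Groth.Agent.CurvesC.CurveCoh.noetherianSpace k Y₁
  have : IsNoetherian Y₂ := Groth.Agent.CurvesC.CurveCoh.noetherianSpace k Y₂
  have : IsReduced X := Groth.Agent.CurvesC.GenusOne512.isReduced_of_atWorstNodal k X hX
  obtain ⟨hconn, -, hpure⟩ := Groth.Agent.S1534.result k X hdim h0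
  obtain ⟨w, t, hw, ht⟩ := K900.DualBasic.exists_pair k X hdim h0 hX
  obtain ⟨t₁, ht₁⟩ := Groth.Agent.CurvesC.DualNodal.exists_isPair k hY₁ OY d₁ hOY
  obtain ⟨t₂, ht₂⟩ := Groth.Agent.CurvesC.DualNodal.exists_isPair k hY₂ OY d₂ hOY
  have := K900.FieldThm.isProper_c c₁ k hc₁
  have := K900.FieldThm.isProper_c c₂ k hc₂
  have hQ : Coh.IsQCoh (Coh.structureModule X) :=
    Groth.Agent.Ega2.QCohLocal.isQCoh_of_isInvertible (K900.UnptField.isInvertible_unit X)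
  have l₁ := K900.Acyc.locVan_of_isZero c₁ hdim.le hQ r₁
  have l₂ := K900.Acyc.locVan_of_isZero c₂ hdim.le hQ r₂
  have := K900.UnptField.surjective_of_unit c₁ u₁
  have := K900.UnptField.surjective_of_unit c₂ u₂
  refine K900.Desc.existsUnique_iso c₁ (K900.Desc.isIso_app_of_unit c₁ u₁) c₂
    (K900.Desc.isIso_app_of_unit c₂ u₂) ?_ ?_
  · intro x x' h
    exact K900.UnptField.fibres k hdim hpure hw ht c₁ hc₁ d₁ u₁ hamp₁ ht₁ l₁ c₂ hc₂ d₂ u₂ hamp₂ ht₂ l₂ x x' h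
  · intro x x' h
    exact K900.UnptField.fibres k hdim hpure hw ht c₂ hc₂ d₂ u₂ hamp₂ ht₂ l₂ c₁ hc₁ d₁ u₁ hamp₁ ht₁ l₁ x x' h

end Groth.Agent.S6562
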