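import Groth.Statements.S6563
import Groth.Agent.Localalg.VanComp
import Groth.Agent.Dual.H358.Dom
import Groth.Agent.Sga7.H739.ProperOfFibres
import Groth.Agent.CalgB.ProjField
import Groth.Agent.CycA.ProdDim

set_option autoImplicit false
universe u
open CategoryTheory CategoryTheory.Limits AlgebraicGeometry
open Curves

namespace Groth.Agent.S6563

/-- Let k be a field and f : X → Y a morphism over k of varieties over k, with X a curve (integral,
separated and of finite type over k, of dimension one) and Y proper over k (and integral). Then f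
extends over a projective completion of X: there are a projective curve X̄ over k (integral, of
dimension one, admitting a closed immersion over k into some P^n_k), an open immersion j : X → X̄
over k and a k-morphism g : X̄ → Y with g ∘ j = f. -/
theorem result (k : Type u) [Field k]
    (X Y : Scheme.{u}) [X.Over (Spec (CommRingCat.of k))] [Y.Over (Spec (CommRingCat.of k))]
    [IsIntegral X] [IsSeparated (X ↘ (Spec (CommRingCat.of k)))] [LocallyOfFiniteType (X ↘ (Spec (CommRingCat.of k)))] [QuasiCompact (X ↘ (Spec (CommRingCat.of k)))] (hdX : topologicalKrullDim X = 1)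
    [IsIntegral Y] [IsProper (Y ↘ (Spec (CommRingCat.of k)))]
    (f : X ⟶ Y) (hf : f ≫ (Y ↘ (Spec (CommRingCat.of k))) = X ↘ (Spec (CommRingCat.of k))) :
    ∃ (Xb : Scheme.{u}) (_ : Xb.Over (Spec (CommRingCat.of k))) (j : X ⟶ Xb) (g : Xb ⟶ Y),
      IsOpenImmersion j ∧ j ≫ g = f ∧ j ≫ (Xb ↘ (Spec (CommRingCat.of k))) = X ↘ (Spec (CommRingCat.of k)) ∧ g ≫ (Y ↘ (Spec (CommRingCat.of k))) = Xb ↘ (Spec (CommRingCat.of k)) ∧
      IsIntegral Xb ∧ topologicalKrullDim Xb = 1 ∧
      ∃ (n : ℕ) (i : Xb ⟶ CohB1.ProjSpace n k), IsClosedImmersion i ∧ i ≫ CohB1.ProjSpace.toSpec n k = Xb ↘ (Spec (CommRingCat.of k)) := by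
  obtain ⟨P, hPint, p, hp, j₀, hj₀, hcomm⟩ :=
    Groth.Agent.Localalg.VanComp.exists_compactification (X ↘ (Spec (CommRingCat.of k)))
  have hqc : QuasiCompact (j₀ ≫ p) := by rw [hcomm]; infer_instance
  have hqc' : QuasiCompact j₀ := QuasiCompact.of_comp j₀ p
  obtain ⟨Q, j, q, r, hj, hjqc, hjst, hjd, hq, hr, hjq, hjr, hw⟩ :=
    Groth.Agent.Dual.H358.Dom.exists_closure p (Y ↘ (Spec (CommRingCat.of k))) j₀ f
      (by rw [hcomm, hf])
  have hint : IsIntegral Q := Groth.Agent.Sga7.H739.ProperOfFibres.isIntegral_of_dominant j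
  have hprop : IsProper (r ≫ (Y ↘ (Spec (CommRingCat.of k)))) := inferInstance
  have hdim : topologicalKrullDim Q = 1 := by
    rw [← hdX]
    exact (Groth.Agent.CycA.ProdDim.dim_of_isOpenImmersion
      (r ≫ (Y ↘ (Spec (CommRingCat.of k)))) j).symm
  obtain ⟨n, c, hc, hc'⟩ :=
    Groth.Agent.CalgB.ProjField.exists_closedImmersion_projSpace_of_dim_le_one
      (r ≫ (Y ↘ (Spec (CommRingCat.of k)))) hdim.le
  letI hov : Q.Over (Spec (CommRingCat.of k)) := ⟨r ≫ (Y ↘ (Spec (CommRingCat.of k)))⟩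
  refine ⟨Q, hov, j, r, hj, hjr, ?_, rfl, hint, hdim, n, c, hc, hc'⟩
  show j ≫ r ≫ (Y ↘ (Spec (CommRingCat.of k))) = _
  rw [reassoc_of% hjr, hf]

end Groth.Agent.S6563
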