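import Groth.Statements.S6564
-- import your own Groth.Agent.* helpers here

set_option autoImplicit false
universe u
open CategoryTheory CategoryTheory.Limits AlgebraicGeometry
open Curves

namespace Groth.Agent.S6564

/-- Let X be proper over the field k of dimension at most 1. If X has a g^r_d (an invertible module L of
degree d with an ordered family of r + 1 global sections linearly independent over k), then X has a
g^s_d for every 0 ≤ s ≤ r. -/
theorem result (k : Type u) [Field k] (X : Scheme.{u}) [X.Over (Spec (CommRingCat.of k))] [IsProper (X ↘ (Spec (CommRingCat.of k)))] (hdim : topologicalKrullDim X ≤ 1)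
    (d r : ℕ) (L : X.Modules) (σ : Fin (r + 1) → LinSer.Sect X L) (hL : LinSer.IsLinSer k X L d r σ)
    (s : ℕ) (hs : s ≤ r) :
    ∃ (L' : X.Modules) (τ : Fin (s + 1) → LinSer.Sect X L'), LinSer.IsLinSer k X L' d s τ := by
  obtain ⟨h1, h2, h3⟩ := hL
  refine ⟨L, fun i => σ (Fin.castLE (by omega) i), h1, h2, ?_⟩
  intro c hc
  have key := h3 (fun j => if h : (j : ℕ) < s + 1 then c ⟨j, h⟩ else 0) ?_
  · funext i
    have := congrFun key (Fin.castLE (by omega) i)
    have hi : (i : ℕ) ≤ s := by omega
    simpa [hi] using this
  · rw [← hc]
    have hinj : Function.Injective (Fin.castLE (show s + 1 ≤ r + 1 by omega)) :=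
      Fin.castLE_injective _
    rw [← Finset.sum_subset (s₁ := Finset.univ.image (Fin.castLE (show s + 1 ≤ r + 1 by omega)))
      (s₂ := Finset.univ) (Finset.subset_univ _)]
    · rw [Finset.sum_image (fun a _ b _ h => hinj h)]
      refine Finset.sum_congr rfl fun i _ => ?_
      have hi : (i : ℕ) ≤ s := by omega
      simp [hi]
    · intro j _ hj
      have : ¬ (j : ℕ) < s + 1 := by
        intro h
        apply hj
        rw [Finset.mem_image]
        exact ⟨⟨j, h⟩, Finset.mem_univ _, by ext; simp⟩
      simp [this]

end Groth.Agent.S6564
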