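import Groth.Statements.S6565
import Groth.Agent.Curves.K830.NodeNorm
import Groth.Agent.Curves.K830.NodeOfDelta
import Groth.Agent.CurvesB.NodeOdp
import Groth.Agent.CurvesB.NodeCompletion

set_option autoImplicit false
universe u
open Curves

namespace Groth.Agent.S6565

/-- (1) ⇔ (2): let k be a field and (A, m, κ) a Nagata local k-algebra. The following are equivalent:
(1) κ is separable over k (formally smooth, which for field extensions is separability, algebraic or
not) and the m-adic completion of A is isomorphic, compatibly with the maps from k, to κ[[u, v]]/(a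
u^2 + b uv + c v^2) for a nondegenerate quadratic form over κ (the algebraic characterization of a
node); (2) κ is separable over k in the same sense, and A is a reduced ring of Krull dimension one
whose δ-invariant equals 1 and which has exactly two geometric branches. (The published statement
also describes the maximal ideals of the integral closure of A; this row omits that assertion.) -/
theorem result (k : Type u) [Field k] (A : Type u) [CommRing A] [IsLocalRing A]
    [Algebra k A] (hA : CAlg.IsNagata A) :
    (Algebra.FormallySmooth k (IsLocalRing.ResidueField A) ∧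
      ∃ a b c : IsLocalRing.ResidueField A, 4 * a * c - b ^ 2 ≠ 0 ∧
        ∃ e : AdicCompletion (IsLocalRing.maximalIdeal A) A ≃+*
            (MvPowerSeries (Fin 2) (IsLocalRing.ResidueField A) ⧸ Ideal.span
              {(MvPowerSeries.C a * MvPowerSeries.X 0 ^ 2 + MvPowerSeries.C b * MvPowerSeries.X 0 * MvPowerSeries.X 1 +
                MvPowerSeries.C c * MvPowerSeries.X 1 ^ 2 : MvPowerSeries (Fin 2) (IsLocalRing.ResidueField A))}),
          ∀ t : k, e (algebraMap A _ (algebraMap k A t)) =
            Ideal.Quotient.mk _ (MvPowerSeries.C (algebraMap A (IsLocalRing.ResidueField A) (algebraMap k A t)))) ↔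
    (Algebra.FormallySmooth k (IsLocalRing.ResidueField A) ∧ IsReduced A ∧ ringKrullDim A = 1 ∧
      Curv2.deltaInv A = 1 ∧ Brnch.numGeomBranches A = 2) := by
  have hNoeth : IsNoetherianRing A := hA.1
  constructor
  · rintro ⟨hFS, a, b, c, h, e, -⟩
    have hnode := Groth.Agent.CurvesB.Node.nodeLike_of_quad_equiv h e
    exact ⟨hFS, K830.NodeNorm.isReduced_of_nodeLike hnode, K830.NodeNorm.ringKrullDim_eq_one hnode,
      K830.NodeNorm.deltaInv_eq_one hnode, K830.NodeNorm.numGeomBranches_eq_two hnode⟩
  · rintro ⟨hFS, hred, hdim, hδ, hg⟩
    have hnode := K830.NodeOfDelta.nodeLike_of_delta A hA hdim hδ hg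
    obtain ⟨α, β, γ, h, e, he⟩ := Groth.Agent.CurvesB.Node.NodeLike.exists_completion_quad_equiv
      (algebraMap A (IsLocalRing.ResidueField A)) IsLocalRing.residue_surjective (fun t => (IsScalarTower.algebraMap_apply k A _ t).symm) hnode
    exact ⟨hFS, α, β, γ, h, e, fun t => (he t).trans (by rw [IsScalarTower.algebraMap_apply k A (IsLocalRing.ResidueField A)])⟩

end Groth.Agent.S6565
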