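import Groth.Statements.S6568
import Groth.Agent.Curves.K315.DualTF
import Groth.Agent.Curves.K315.OmegaRank
-- import your own Groth.Agent.* helpers here

set_option autoImplicit false
universe u
open CategoryTheory CategoryTheory.Limits AlgebraicGeometry
attribute [local instance] HasDerivedCategory.standard
open Curves

namespace Groth.Agent.S6568

/-- Let X be proper and integral over the field k, of dimension one, with H^0(X, O_X) = k, and ω_X its
dualizing module (the degree -1 cohomology sheaf of f^! O for the structure morphism f, assuming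
Rf_* on D_QCoh and its right adjoint exist). Suppose F is a torsion-free coherent O_X-module
(stalkwise: a · m = 0 forces a = 0 or m = 0) containing ω_X as a submodule, with coherent quotient Q
= F/ω_X supported in dimension zero and with dim_k H^0(X, Q) ≥ 2 (so 0 → ω_X → F → Q → 0 is short
exact). Then F is generated by its global sections. -/
theorem result (k : Type u) [Field k] (X : Scheme.{u}) [X.Over (Spec (CommRingCat.of k))] [IsIntegral X] [IsProper (X ↘ (Spec (CommRingCat.of k)))] (hdim : topologicalKrullDim X = 1)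
    (h0 : Module.finrank k (Coh.HH X (Coh.structureModule X) 0) = 1)
    [DCoh.HasRpush (X ↘ (Spec (CommRingCat.of k)))] (h : DCoh.RpushPreservesQCoh (X ↘ (Spec (CommRingCat.of k)))) [DCoh.HasShriek (X ↘ (Spec (CommRingCat.of k))) h]
    (OY : DCoh.DQCoh (Spec (CommRingCat.of k))) (hOY : Nonempty (OY.obj ≅ DCoh.inD (Spec (CommRingCat.of k)) (Coh.structureModule (Spec (CommRingCat.of k)))))
    (F Q : X.Modules) (hF : Coh.IsCoh F) (hQ : Coh.IsCoh Q)
    (f : DCoh.dualizingMod (X ↘ (Spec (CommRingCat.of k))) h OY 1 ⟶ F) (g : F ⟶ Q) (w : f ≫ g = 0) (hex : (ShortComplex.mk f g w).ShortExact)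
    (htf : ∀ (x : X) (a : X.presheaf.stalk x) (m : F.presheaf.stalk x), a • m = 0 → a = 0 ∨ m = 0)
    (hQ0 : topologicalKrullDim (CohB1.support Q) ≤ 0) (hQ2 : 2 ≤ Module.finrank k (Coh.HH X Q 0)) :
    Curv2.IsGloballyGenerated F := by
  obtain ⟨t, ht, hw, h1w⟩ := Groth.Agent.K315.DualExt.facts k X hdim h0 h OY hOY
  have hTF : Groth.Agent.K315.RkOne.TF F := Groth.Agent.K315.RkOne.tf_of_stalk hF.1 htf
  have hcomp : CompactSpace X := QuasiCompact.compactSpace_of_compactSpace (X ↘ (Spec (CommRingCat.of k)))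
  have hf : Mono f := hex.mono_f
  obtain ⟨e, he⟩ := Groth.Agent.K315.OmegaRank.exists_generator_stalk
    (Groth.Agent.Dual.H342.HypField.hyp k X (X ↘ (Spec (CommRingCat.of k))) h
      (DCoh.shriek (X ↘ (Spec (CommRingCat.of k))) h) (DCoh.shriekAdj (X ↘ (Spec (CommRingCat.of k))) h) OY hOY) (-((1 : ℕ) : ℤ))
  exact Groth.Agent.K315.DualTF.isGloballyGenerated (k := k) hdim ht hw h1w
    (Groth.Agent.K315.RkOne.prp_of_stalk (hTF.of_mono f) e he) hF hQ f g w hex hTF hQ0 hQ2

end Groth.Agent.S6568
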