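import Groth.Statements.S6569
import Groth.Agent.Synt.K563.NodField

set_option autoImplicit false
universe u
open CategoryTheory CategoryTheory.Limits AlgebraicGeometry
attribute [local instance] HasDerivedCategory.standard
open Curves

namespace Groth.Agent.S6569

/-- Let k be a field and X a scheme locally of finite type over k, equidimensional of dimension 1; the
structure morphism is also assumed quasi-separated (automatic here, X being locally Noetherian), so
that the sheaf of differentials Ω_{X/k} can be taken as the conormal sheaf of the diagonal. Two
conditions on X are then equivalent: (1) X has at worst nodal singularities; (2) X → Spec k is a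
local complete intersection morphism, and Z → Spec k is unramified, where Z ⊆ X denotes the closed
subscheme whose ideal sheaf is the first Fitting ideal of Ω_{X/k}. -/
theorem result (k : Type u) [Field k] (X : Scheme.{u}) [X.Over (Spec (CommRingCat.of k))] [LocallyOfFiniteType (X ↘ (Spec (CommRingCat.of k)))] [QuasiSeparated (X ↘ (Spec (CommRingCat.of k)))]
    (hequi : ∀ Z ∈ irreducibleComponents (X : Type u), topologicalKrullDim Z = 1) :
    Curv2.AtWorstNodal k X ↔
      (Dual3.IsLCIMor (X ↘ (Spec (CommRingCat.of k))) ∧
        FormallyUnramified ((Fitt.sheafIdeal (Omega.sheaf (X ↘ (Spec (CommRingCat.of k)))) 1).subschemeι ≫ (X ↘ (Spec (CommRingCat.of k))))) := by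
  have hfl := K563.NodField.flat (X ↘ (Spec (CommRingCat.of k)))
  rw [← K563.NodField.isSyntomicMor_iff_isLCIMor]
  constructor
  · intro h
    have h1 := K563.NodField.isNodalFamily (X ↘ (Spec (CommRingCat.of k))) h hequi
    exact ⟨K563.NodFwd.isSyntomicMor_of_isNodalFamily _ h1, K563.NodFwd.formallyUnramified_of_isNodalFamily _ h1⟩
  · rintro ⟨h1, h2⟩ y hy
    have hJ := LocallyOfFiniteType.jacobsonSpace (X ↘ (Spec (CommRingCat.of k)))
    exact K563.SingCore.smooth_or_isNode k (X ↘ (Spec (CommRingCat.of k)))
      ((K563.SchDict2.isSyntomicMor_over_field_iff _).mp h1) h2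
      (fun y => Groth.Agent.Models.SmoothCase.localDim_eq_one hequi y) y hy

end Groth.Agent.S6569
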