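import Groth.Statements.S6571
import Groth.Agent.CurvSt.K316.DerZero
import Groth.Agent.S16731

set_option autoImplicit false
universe u
open CategoryTheory CategoryTheory.Limits AlgebraicGeometry
open Curves

namespace Groth.Agent.S6571

/-- Let k be an algebraically closed field and X a proper connected scheme over k of dimension 1 with
at-worst-nodal singularities, of genus ≥ 2, with no rational tails and no rational bridges. Then
Der_k(O_X, O_X) = 0: every k-derivation of O_X into O_X takes the value zero on every section. -/
theorem result (k : Type u) [Field k] (X : Scheme.{u}) [X.Over (Spec (CommRingCat.of k))] [IsAlgClosed k] [IsProper (X ↘ (Spec (CommRingCat.of k)))] [ConnectedSpace X] (hdim : topologicalKrullDim X = 1)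
    (hX : Curv2.AtWorstNodal k X) (hg : 2 ≤ Curv2.genus k X)
    (hnt : ∀ (C : Set X) (hC : C ∈ irreducibleComponents (X : Type u)), ¬ Curv2.IsRationalTail X C hC)
    (hnb : ∀ (C : Set X) (hC : C ∈ irreducibleComponents (X : Type u)), ¬ Curv2.IsRationalBridge k X C hC)
    (D : OmegaSh.Der (X ↘ (Spec (CommRingCat.of k))) (Coh.structureModule X)) (U : X.Opens) (s : Γ(X, U)) :
    D.app U s = 0 := by
  have h := (S16731.result k X hdim hX (Curv2.genus k X)).2 ⟨rfl, hg, hnt, hnb⟩
  exact K316.DerZero.der_eq_zero_of_isStablePtd (X ↘ (Spec (CommRingCat.of k))) (Curv2.genus k X) 0 _ h D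
    (fun i => Fin.elim0 i) U s

end Groth.Agent.S6571
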