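import Groth.Statements.S6572
import Groth.Agent.Curves.K316.RamBound
import Groth.Agent.CurvesB.SmoothCurveGood
import Groth.Agent.Sga7.H756.NormStalk

set_option autoImplicit false
set_option linter.style.haveILetI false
universe u
open CategoryTheory CategoryTheory.Limits AlgebraicGeometry
open Curves

namespace Groth.Agent.S6572

open CurvesB.OmegaStalkDict in
theorem stalkMap_stHom {k : Type u} [Field k] {X Y : Scheme.{u}} (fX : X ⟶ Spec (CommRingCat.of k))
    (fY : Y ⟶ Spec (CommRingCat.of k)) (f : X ⟶ Y) (hf : f ≫ fY = fX) (x : X) (c : k) :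
    (f.stalkMap x).hom (stHom fY (f x) c) = stHom fX x c := by
  subst hf
  have h1 := Scheme.Hom.germ_stalkMap_apply f ⊤ x trivial (Coh.toGlobal fY c)
  refine h1.trans ?_
  rfl

/-- Let k be a field and f : X → Y a morphism over k of smooth proper curves over k (proper, smooth,
integral, of dimension one) which is generically étale (étale on a nonempty open of X) and
nonconstant (f(ξ_X) = ξ_Y for the generic points), with H^0(X, O_X) = H^0(Y, O_Y) = k. For a closed
point x ∈ X with image y, write e_x for the ramification index of the extension of discrete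
valuation rings O_{Y,y} → O_{X,x} and d_x for the length of the O_{X,x}-module Ω_{O_{X,x}/O_{Y,y}}.
Then e_x − 1 ≤ d_x, with equality exactly when O_{Y,y} → O_{X,x} is tame: the residue field
extension κ(x)/κ(y) is separable and e_x is not divisible by the characteristic of κ(y) (e_x ≠ 0 in
κ(y)). (The published statement also identifies d_x with the multiplicity of x in the ramification
divisor; this row takes the length of Ω_{O_{X,x}/O_{Y,y}}, the stalk of Ω_{X/Y} at x, as the
definition of d_x.) -/
theorem result (k : Type u) [Field k]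
    (X Y : Scheme.{u}) [X.Over (Spec (CommRingCat.of k))] [Y.Over (Spec (CommRingCat.of k))]
    [IsIntegral X] [IsProper (X ↘ (Spec (CommRingCat.of k)))] [Smooth (X ↘ (Spec (CommRingCat.of k)))] (hdX : topologicalKrullDim X = 1)
    [IsIntegral Y] [IsProper (Y ↘ (Spec (CommRingCat.of k)))] [Smooth (Y ↘ (Spec (CommRingCat.of k)))] (hdY : topologicalKrullDim Y = 1)
    (hX0 : Module.finrank k (Coh.HH X (Coh.structureModule X) 0) = 1) (hY0 : Module.finrank k (Coh.HH Y (Coh.structureModule Y) 0) = 1)
    (f : X ⟶ Y) (hf : f ≫ (Y ↘ (Spec (CommRingCat.of k))) = X ↘ (Spec (CommRingCat.of k))) (e : f (genericPoint X) = genericPoint Y)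
    (het : ∃ U : X.Opens, (U : Set X).Nonempty ∧ Etale (U.ι ≫ f))
    (x : X) (hx : IsClosed ({x} : Set X)) :
    letI := (f.stalkMap x).hom.toAlgebra
    letI := (f.residueFieldMap x).hom.toAlgebra
    ((((Ideal.ramificationIdx (IsLocalRing.maximalIdeal (X.presheaf.stalk x)) (Y.presheaf.stalk (f x)) - 1 : ℕ) : ℕ∞) ≤ Module.length (X.presheaf.stalk x) (KaehlerDifferential (Y.presheaf.stalk (f x)) (X.presheaf.stalk x))) ∧
      ((Module.length (X.presheaf.stalk x) (KaehlerDifferential (Y.presheaf.stalk (f x)) (X.presheaf.stalk x)) = ((Ideal.ramificationIdx (IsLocalRing.maximalIdeal (X.presheaf.stalk x)) (Y.presheaf.stalk (f x)) - 1 : ℕ) : ℕ∞)) ↔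
        (Algebra.IsSeparable (Y.residueField (f x)) (X.residueField x) ∧ ((Ideal.ramificationIdx (IsLocalRing.maximalIdeal (X.presheaf.stalk x)) (Y.presheaf.stalk (f x)) : ℕ) : Y.residueField (f x)) ≠ 0))) := by
  letI iBA : Algebra (Y.presheaf.stalk (f x)) (X.presheaf.stalk x) := (f.stalkMap x).hom.toAlgebra
  have hxg : x ≠ genericPoint X := CurvesB.SmoothCurveGood.ne_genericPoint hdX hx
  haveI : IsProper (f ≫ (Y ↘ (Spec (CommRingCat.of k)))) := by rw [hf]; infer_instance
  haveI : IsProper f := MorphismProperty.of_postcomp (W := @IsProper) (W' := @IsSeparated) f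
    (Y ↘ (Spec (CommRingCat.of k))) inferInstance inferInstance
  have hy : IsClosed ({f x} : Set Y) := by
    have h1 := f.isClosedMap _ hx
    rwa [Set.image_singleton] at h1
  have hyg : f x ≠ genericPoint Y := CurvesB.SmoothCurveGood.ne_genericPoint hdY hy
  haveI := CurvesB.SmoothCurveFacts.isDiscreteValuationRing_stalk (X ↘ (Spec (CommRingCat.of k))) hdX.le hxg
  haveI := CurvesB.SmoothCurveFacts.isDiscreteValuationRing_stalk (Y ↘ (Spec (CommRingCat.of k))) hdY.le hyg
  letI iA := CurvesB.OmegaStalkDict.stAlg (X ↘ (Spec (CommRingCat.of k))) x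
  letI iB := CurvesB.OmegaStalkDict.stAlg (Y ↘ (Spec (CommRingCat.of k))) (f x)
  haveI tow : IsScalarTower k (Y.presheaf.stalk (f x)) (X.presheaf.stalk x) :=
    IsScalarTower.of_algebraMap_eq fun c =>
      (stalkMap_stHom _ _ f hf x c).symm
  haveI : IsLocalHom (algebraMap (Y.presheaf.stalk (f x)) (X.presheaf.stalk x)) :=
    inferInstanceAs (IsLocalHom (f.stalkMap x).hom)
  haveI : Algebra.EssFiniteType k (X.presheaf.stalk x) :=
    CurvesB.SmoothCurveFacts.essFiniteType_stalk (X ↘ (Spec (CommRingCat.of k))) x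
  haveI : Algebra.EssFiniteType (Y.presheaf.stalk (f x)) (X.presheaf.stalk x) :=
    Algebra.EssFiniteType.of_comp k _ _
  haveI : Module.Finite k (IsLocalRing.ResidueField (X.presheaf.stalk x)) :=
    CurvesB.SmoothCurveFacts.finite_residue_stalk (X ↘ (Spec (CommRingCat.of k))) hx
  haveI : Module.Finite (IsLocalRing.ResidueField (Y.presheaf.stalk (f x)))
      (IsLocalRing.ResidueField (X.presheaf.stalk x)) :=
    Module.Finite.of_restrictScalars_finite k _ _
  haveI : IsDominant f := ⟨by
    have h1 : closure ({f (genericPoint X)} : Set Y) ⊆ closure (Set.range f) :=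
      closure_mono (Set.singleton_subset_iff.mpr ⟨_, rfl⟩)
    rw [e, genericPoint_closure] at h1
    exact dense_iff_closure_eq.mpr (Set.univ_subset_iff.mp h1)⟩
  have hinj : Function.Injective (algebraMap (Y.presheaf.stalk (f x)) (X.presheaf.stalk x)) :=
    Sga7.H756.NormStalk.stalkMap_injective f x
  have h0 : (IsLocalRing.maximalIdeal (Y.presheaf.stalk (f x))).map
      (algebraMap (Y.presheaf.stalk (f x)) (X.presheaf.stalk x)) ≠ ⊥ := by
    rw [Ne, Ideal.map_eq_bot_iff_of_injective hinj]
    exact IsDiscreteValuationRing.not_a_field _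
  have hcyc : ∃ ω : Ω[X.presheaf.stalk x⁄Y.presheaf.stalk (f x)],
      Submodule.span (X.presheaf.stalk x) {ω} = ⊤ := by
    obtain ⟨ω₀, hω₀⟩ := CurvesB.SmoothCurveFacts.exists_generator_stalk
      (X ↘ (Spec (CommRingCat.of k))) hdX x
    refine ⟨KaehlerDifferential.map k (Y.presheaf.stalk (f x)) (X.presheaf.stalk x)
      (X.presheaf.stalk x) ω₀, ?_⟩
    rw [eq_top_iff]
    intro ω _
    obtain ⟨ω', rfl⟩ := KaehlerDifferential.map_surjective k (Y.presheaf.stalk (f x))
      (X.presheaf.stalk x) ω
    obtain ⟨a, rfl⟩ := hω₀ ω'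
    rw [map_smul]
    exact Submodule.smul_mem _ _ (Submodule.mem_span_singleton_self _)
  have h := Curves.K316.RamBound.main h0 hcyc
  have hA : ((f.residueFieldMap x).hom.toAlgebra :
      Algebra (Y.residueField (f x)) (X.residueField x)) =
      (IsLocalRing.ResidueField.instAlgebra : Algebra
        (IsLocalRing.ResidueField (Y.presheaf.stalk (f x)))
        (IsLocalRing.ResidueField (X.presheaf.stalk x))) := by
    refine Algebra.algebra_ext _ _ fun r => ?_
    obtain ⟨r, rfl⟩ := IsLocalRing.residue_surjective r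
    rfl
  rw [hA]
  exact h

end Groth.Agent.S6572
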