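import Groth.Statements.S6574
import Groth.Agent.Curves.K316.PowNode
import Groth.Agent.Curves.K316.JacMinors

set_option autoImplicit false
set_option linter.style.haveILetI false
universe u
open Curves

namespace Groth.Agent.S6574

/-- Let k be a field, A = k[[x_1, …, x_n]], and I = (f_1, …, f_m) ⊆ m_A. The following are equivalent:
(1) A/I is a node in the algebraic sense: A/I ≅ k[[u, v]]/(a u^2 + b uv + c v^2) as k-algebras for a
nondegenerate quadratic form (A/I is complete with residue field k, so this is the completion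
criterion for nodes); (2) the quotient A/I has no nonzero nilpotents, and m_A is generated by I
together with every (n−1)-by-(n−1) minor taken from the Jacobian (∂f_j/∂x_i) (that is, these
elements generate I + m_A = m_A); (3) depth(A/I) = 1 and the same condition on minors. Stated as (1)
⇔ (2) and (2) ⇔ (3). -/
theorem result (k : Type u) [Field k] (n m : ℕ)
    (f : Fin m → MvPowerSeries (Fin n) k) (hf : ∀ j, f j ∈ IsLocalRing.maximalIdeal (MvPowerSeries (Fin n) k)) :
    ((∃ a b c : k, 4 * a * c - b ^ 2 ≠ 0 ∧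
        Nonempty ((MvPowerSeries (Fin n) k ⧸ Ideal.span (Set.range f)) ≃ₐ[k]
          (MvPowerSeries (Fin 2) k ⧸ Ideal.span
            {(MvPowerSeries.C a * MvPowerSeries.X 0 ^ 2 + MvPowerSeries.C b * MvPowerSeries.X 0 * MvPowerSeries.X 1 +
              MvPowerSeries.C c * MvPowerSeries.X 1 ^ 2 : MvPowerSeries (Fin 2) k)}))) ↔
      (IsReduced (MvPowerSeries (Fin n) k ⧸ Ideal.span (Set.range f)) ∧
        Ideal.span {d : MvPowerSeries (Fin n) k | ∃ (ρ : Fin (n - 1) → Fin m) (γ : Fin (n - 1) → Fin n), Function.Injective ρ ∧ Function.Injective γ ∧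
          d = ((Matrix.of fun (j : Fin m) (i : Fin n) => MvPowerSeries.pderiv k i (f j)).submatrix ρ γ).det} ⊔ Ideal.span (Set.range f) = IsLocalRing.maximalIdeal (MvPowerSeries (Fin n) k))) ∧
    ((IsReduced (MvPowerSeries (Fin n) k ⧸ Ideal.span (Set.range f)) ∧
        Ideal.span {d : MvPowerSeries (Fin n) k | ∃ (ρ : Fin (n - 1) → Fin m) (γ : Fin (n - 1) → Fin n), Function.Injective ρ ∧ Function.Injective γ ∧
          d = ((Matrix.of fun (j : Fin m) (i : Fin n) => MvPowerSeries.pderiv k i (f j)).submatrix ρ γ).det} ⊔ Ideal.span (Set.range f) = IsLocalRing.maximalIdeal (MvPowerSeries (Fin n) k)) ↔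
      (LocCoh.depth (MvPowerSeries (Fin n) k) (MvPowerSeries (Fin n) k ⧸ Ideal.span (Set.range f)) = 1 ∧
        Ideal.span {d : MvPowerSeries (Fin n) k | ∃ (ρ : Fin (n - 1) → Fin m) (γ : Fin (n - 1) → Fin n), Function.Injective ρ ∧ Function.Injective γ ∧
          d = ((Matrix.of fun (j : Fin m) (i : Fin n) => MvPowerSeries.pderiv k i (f j)).submatrix ρ γ).det} ⊔ Ideal.span (Set.range f) = IsLocalRing.maximalIdeal (MvPowerSeries (Fin n) k))) := by
  classical
  set I := Ideal.span (Set.range f) with hIdef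
  have hI : I ≤ IsLocalRing.maximalIdeal (MvPowerSeries (Fin n) k) := by
    rw [hIdef, Ideal.span_le]
    rintro _ ⟨j, rfl⟩
    exact hf j
  haveI := Curves.K316.PowNode.isLocalRing_quotient I hI
  haveI := Curves.K316.PowNode.isAdicComplete_quotient I
  rw [K316.JacMinors.span_inj_eq]
  have hjac := Curves.K316.PowNode.jac_iff I f hIdef hI
  have hφ : Function.Surjective (Ideal.Quotient.mkₐ k I) := Ideal.Quotient.mk_surjective
  have h12 : Curves.K316.PowNode.IsQuad I →
      (IsReduced (MvPowerSeries (Fin n) k ⧸ I) ∧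
        CAlgX.minorIdeal (Matrix.of fun (j : Fin m) (i : Fin n) =>
          MvPowerSeries.pderiv k i (f j)) (n - 1) ⊔ I =
            IsLocalRing.maximalIdeal (MvPowerSeries (Fin n) k)) := fun h => by
    refine ⟨Curves.K316.PowNode.isReduced_of_isQuad I h, ?_⟩
    obtain ⟨a, b, c, hd, ⟨e⟩⟩ := h
    exact hjac.1 (Curves.K316.PowNode.fitt_of_quad hd e _ hφ)
  have hreg : ∀ t ∈ IsLocalRing.maximalIdeal (MvPowerSeries (Fin n) k ⧸ I),
      (∀ z, t * z = 0 → z = 0) →
      CAlgX.minorIdeal (Matrix.of fun (j : Fin m) (i : Fin n) =>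
          MvPowerSeries.pderiv k i (f j)) (n - 1) ⊔ I =
            IsLocalRing.maximalIdeal (MvPowerSeries (Fin n) k) →
      Curves.K316.PowNode.IsQuad I := fun t ht hreg h =>
    Curves.K316.PowNode.isQuad_of_nodeLike I (Curves.K316.PowNode.nodeLike_of_fitt
      (Curves.K316.PowNode.residue_surjective' I) ht hreg _ hφ (hjac.2 h))
  have h21 : (IsReduced (MvPowerSeries (Fin n) k ⧸ I) ∧
        CAlgX.minorIdeal (Matrix.of fun (j : Fin m) (i : Fin n) =>
          MvPowerSeries.pderiv k i (f j)) (n - 1) ⊔ I =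
            IsLocalRing.maximalIdeal (MvPowerSeries (Fin n) k)) →
      Curves.K316.PowNode.IsQuad I := fun ⟨hred, h⟩ => by
    obtain ⟨t, ht, htr⟩ := CurvesC.NodalAlg.exists_regular
      (Curves.K316.PowNode.ne_bot_of_fitt (Curves.K316.PowNode.residue_surjective' I) _ hφ
        (hjac.2 h))
    exact hreg t ht htr h
  have h31 : (LocCoh.depth (MvPowerSeries (Fin n) k) (MvPowerSeries (Fin n) k ⧸ I) = 1 ∧
        CAlgX.minorIdeal (Matrix.of fun (j : Fin m) (i : Fin n) =>
          MvPowerSeries.pderiv k i (f j)) (n - 1) ⊔ I =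
            IsLocalRing.maximalIdeal (MvPowerSeries (Fin n) k)) →
      Curves.K316.PowNode.IsQuad I := fun ⟨hd, h⟩ => by
    obtain ⟨t, ht, htr⟩ := Curves.K316.PowNode.exists_regular_of_depth I hd.ge
    exact hreg t ht htr h
  refine ⟨⟨fun h => h12 h, fun h => h21 h⟩, ⟨fun h => ?_, fun h => h12 (h31 h)⟩⟩
  exact ⟨Curves.K316.PowNode.depth_of_isQuad I (h21 h), h.2⟩

end Groth.Agent.S6574
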