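import Groth.Statements.S6577
import Groth.Agent.Curves.K316.DualPush

set_option autoImplicit false
set_option linter.style.haveILetI false
universe u
open CategoryTheory CategoryTheory.Limits AlgebraicGeometry
attribute [local instance] HasDerivedCategory.standard
open Curves

namespace Groth.Agent.S6577

/-- Let X be proper over the field k of dimension ≤ 1, i : Y → X a closed immersion, and ω_X, ω_Y the
dualizing modules of X and of Y over k (degree -1 cohomology sheaves of the shriek of O for the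
structure morphisms, assuming the derived pushforwards on D_QCoh and their right adjoints exist).
Then i_*ω_Y ≅ Hom_{O_X}(i_*O_Y, ω_X), where the sheaf Hom is taken as the right adjoint of i_*O_Y ⊗
− (assumed to exist). (Existence of an isomorphism only.) -/
theorem result (k : Type u) [Field k] (X : Scheme.{u}) [X.Over (Spec (CommRingCat.of k))] [IsProper (X ↘ (Spec (CommRingCat.of k)))] (hdim : topologicalKrullDim X ≤ 1)
    [DCoh.HasRpush (X ↘ (Spec (CommRingCat.of k)))] (h : DCoh.RpushPreservesQCoh (X ↘ (Spec (CommRingCat.of k)))) [DCoh.HasShriek (X ↘ (Spec (CommRingCat.of k))) h]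
    (OY : DCoh.DQCoh (Spec (CommRingCat.of k))) (hOY : Nonempty (OY.obj ≅ DCoh.inD (Spec (CommRingCat.of k)) (Coh.structureModule (Spec (CommRingCat.of k)))))
    {Y : Scheme.{u}} (i : Y ⟶ X) [IsClosedImmersion i]
    [DCoh.HasRpush (i ≫ (X ↘ (Spec (CommRingCat.of k))))] (hY : DCoh.RpushPreservesQCoh (i ≫ (X ↘ (Spec (CommRingCat.of k))))) [DCoh.HasShriek (i ≫ (X ↘ (Spec (CommRingCat.of k)))) hY]
    [DCoh.HasSheafHom ((Coh.push i).obj (Coh.structureModule Y))] :
    Nonempty ((Coh.push i).obj (DCoh.dualizingMod (i ≫ (X ↘ (Spec (CommRingCat.of k)))) hY OY 1) ≅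
      (DCoh.sheafHom ((Coh.push i).obj (Coh.structureModule Y))).obj (DCoh.dualizingMod (X ↘ (Spec (CommRingCat.of k))) h OY 1)) := by
  letI : Y.Over (Spec (CommRingCat.of k)) := ⟨i ≫ (X ↘ (Spec (CommRingCat.of k)))⟩
  haveI : IsLocallyNoetherian X :=
    LocallyOfFiniteType.isLocallyNoetherian (X ↘ (Spec (CommRingCat.of k)))
  haveI : CompactSpace X := QuasiCompact.compactSpace_of_compactSpace (X ↘ (Spec (CommRingCat.of k)))
  haveI : IsNoetherian X := {}
  haveI : LocallyOfFiniteType (i ≫ (X ↘ (Spec (CommRingCat.of k)))) := inferInstance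
  haveI : IsLocallyNoetherian Y :=
    LocallyOfFiniteType.isLocallyNoetherian (i ≫ (X ↘ (Spec (CommRingCat.of k))))
  haveI : CompactSpace Y := i.isClosedEmbedding.compactSpace
  haveI : IsNoetherian Y := {}
  have hdY : topologicalKrullDim Y ≤ 1 :=
    i.isClosedEmbedding.isInducing.topologicalKrullDim_le.trans hdim
  haveI : Dual3.HasHomO i := S3630.result Y X i
  obtain ⟨t, ht⟩ := CurvesC.DualRep.exists_isDual k X h OY hdim hOY
  haveI : DCoh.HasRpush (Y ↘ (Spec (CommRingCat.of k))) :=
    inferInstanceAs (DCoh.HasRpush (i ≫ (X ↘ (Spec (CommRingCat.of k)))))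
  haveI : DCoh.HasShriek (Y ↘ (Spec (CommRingCat.of k))) hY :=
    inferInstanceAs (DCoh.HasShriek (i ≫ (X ↘ (Spec (CommRingCat.of k)))) hY)
  obtain ⟨tY, htY⟩ := CurvesC.DualRep.exists_isDual k Y hY OY hdY hOY
  have h1 := Curves.K316.DualPush.isDual_homO i rfl ht
  have hqX : Coh.IsQCoh (DCoh.dualizingMod (X ↘ (Spec (CommRingCat.of k))) h OY 1) :=
    CurvesC.DualRep.isQCoh_dualizingMod k X h OY 1
  have hqY : Coh.IsQCoh (DCoh.dualizingMod (Y ↘ (Spec (CommRingCat.of k))) hY OY 1) :=
    CurvesC.DualRep.isQCoh_dualizingMod k Y hY OY 1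
  have hqN := Curves.K316.DualPush.isQCoh_homO i hqX
  obtain ⟨e, -⟩ := htY.exists_iso h1 hqY hqN
  exact ⟨(Coh.push i).mapIso e ≪≫ ((Curves.K316.DualPush.sheafHomPush i).app _).symm⟩

end Groth.Agent.S6577
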