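import Groth.Statements.S6579
import Groth.Agent.Curves.K316.P1Map

set_option autoImplicit false
universe u
open CategoryTheory CategoryTheory.Limits AlgebraicGeometry
open Curves

namespace Groth.Agent.S6579

/-- Let k be a field and X a proper curve over k all of whose local rings are regular (X integral,
proper, of dimension one), (L, V) a g^1_d on X with ordered basis s_0, s_1 of V, and φ : X → P^1_k a
morphism over k together with α : φ^*O(1) → L sending φ^*T_i to s_i (the morphism attached to the
linear series). Then either (1) φ is nonconstant and has degree at most d — here: φ does not factor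
through a closed point, and k(X) has dimension at most d over the local ring of P^1_k at the image
of the generic point of X (that image is then the generic point, so this is [k(X) : k(P^1_k)] ≤ d) —
or (2) φ maps X (set-theoretically) to a single closed point of P^1_k, and in that case H^0(X, O_X)
is bigger than k. -/
theorem result (k : Type u) [Field k] (X : Scheme.{u}) [X.Over (Spec (CommRingCat.of k))]
    [IsIntegral X] [IsProper (X ↘ (Spec (CommRingCat.of k)))] (hdim : topologicalKrullDim X = 1) (hreg : ∀ x : X, IsRegularLocalRing (X.presheaf.stalk x))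
    (d : ℕ) (L : X.Modules) (s : Fin (1 + 1) → LinSer.Sect X L) (hL : LinSer.IsLinSer k X L d 1 s)
    (φ : X ⟶ CohB1.ProjSpace 1 k) (α : (Scheme.Modules.pullback φ).obj (Twist.twistProjSpace 1 k 1) ⟶ L)
    (hφ : φ ≫ CohB1.ProjSpace.toSpec 1 k = X ↘ (Spec (CommRingCat.of k)) ∧
        ∀ i : Fin (1 + 1), (α.val.app (Opposite.op ⊤)).hom (OmegaSh.pullSect φ (Twist.twistProjSpace 1 k 1) ⊤ (Twist.globalOf (CohB1.polyGrading 1 k) (⟨MvPolynomial.X i, MvPolynomial.isHomogeneous_X k i⟩ : (CohB1.polyGrading 1 k) 1))) = s i) :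
    ((¬ ∃ p : CohB1.ProjSpace 1 k, IsClosed ({p} : Set (CohB1.ProjSpace 1 k)) ∧ Set.range φ ⊆ {p}) ∧
      (letI := (φ.stalkMap (genericPoint X)).hom.toAlgebra
       Module.finrank ((CohB1.ProjSpace 1 k).presheaf.stalk (φ (genericPoint X))) X.functionField ≤ d)) ∨
    ((∃ p : CohB1.ProjSpace 1 k, IsClosed ({p} : Set (CohB1.ProjSpace 1 k)) ∧ Set.range φ ⊆ {p}) ∧
      Module.finrank k (Coh.HH X (Coh.structureModule X) 0) ≠ 1) := by
  obtain ⟨hinv, hdeg, hind⟩ := hL
  obtain ⟨hφ, hα⟩ := hφ
  have hs : ∀ i, s i ≠ 0 := by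
    intro i h
    have h1 := hind (Pi.single i 1) (Finset.sum_eq_zero fun j _ => by
      by_cases hj : j = i
      · subst hj; rw [h, smul_zero]
      · rw [Pi.single_eq_of_ne hj, map_zero, zero_smul])
    have h2 := congrFun h1 i
    rw [Pi.single_eq_same] at h2
    exact one_ne_zero h2
  by_cases hV : ∃ j, φ ⁻¹ᵁ Curves.K316.P1Map.V k j = ⊤
  · right
    obtain ⟨j, hj⟩ := hV
    refine ⟨Curves.K316.P1Map.const_case k X φ hφ j hj, fun h0 => ?_⟩
    obtain ⟨i, hij⟩ : ∃ i : Fin (1 + 1), i ≠ j := exists_ne j
    obtain ⟨r, hr⟩ := Curves.K316.P1Map.exists_smul k φ j hj i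
    obtain ⟨t, ht⟩ := CurvesB.HZero.exists_const k h0 r
    have h1 : s i = Coh.toGlobal (X ↘ (Spec (CommRingCat.of k))) t • s j := by
      rw [← hα i, ← hα j]
      have h2 := congrArg (α.app ⊤) hr
      rw [← ht, Scheme.Modules.Hom.app_smul] at h2
      exact h2
    have h3 := hind (Pi.single i 1 - Pi.single j t) (by
      rw [← Finset.sum_subset (Finset.subset_univ ({i, j} : Finset (Fin (1 + 1)))) ?_,
        Finset.sum_pair hij]
      · rw [Pi.sub_apply, Pi.sub_apply, Pi.single_eq_same, Pi.single_eq_same,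
          Pi.single_eq_of_ne hij, Pi.single_eq_of_ne hij.symm, h1, sub_zero, zero_sub, map_one,
          map_neg, one_smul, neg_smul, add_neg_cancel]
      · intro l _ hl
        rw [Finset.mem_insert, Finset.mem_singleton, not_or] at hl
        rw [Pi.sub_apply, Pi.single_eq_of_ne hl.1, Pi.single_eq_of_ne hl.2, sub_zero, map_zero,
          zero_smul])
    have h4 := congrFun h3 i
    rw [Pi.sub_apply, Pi.single_eq_same, Pi.single_eq_of_ne hij, sub_zero] at h4
    exact one_ne_zero h4
  · left
    push Not at hV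
    obtain ⟨-, -, hp⟩ := Curves.K316.P1Map.nonconst_case k X hdim φ hφ hV
    refine ⟨fun ⟨p, _, h⟩ => hp p h, ?_⟩
    have h1 := Curves.K316.P1Map.finrank_stalk_le k X hdim hinv (hs 0) φ hφ hV α (hα 0)
    rw [hdeg] at h1
    exact_mod_cast h1

end Groth.Agent.S6579
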