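import Groth.Statements.S6580
import Mathlib.Tactic.NoncommRing
import Mathlib.Tactic.Ring

set_option autoImplicit false
universe v u
open CategoryTheory CategoryTheory.Limits
open CohDer

namespace Groth.Agent.S6580

lemma aux_ring {R : Type*} [Ring R] (x : R) (h : (x * x - x) * (x * x - x) = 0) :
    (3 * (x * x) - 2 * (x * x * x)) * (3 * (x * x) - 2 * (x * x * x)) =
      3 * (x * x) - 2 * (x * x * x) := by
  have h1 : (3 * (x * x) - 2 * (x * x * x)) * (3 * (x * x) - 2 * (x * x * x)) -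
      (3 * (x * x) - 2 * (x * x * x)) =
      - ((x * x - x) * (x * x - x)) * (3 + 4 * x - 4 * (x * x)) := by
    noncomm_ring
  rw [h, neg_zero, zero_mul] at h1
  exact sub_eq_zero.1 h1

open CategoryTheory.Pretriangulated in
/-- Let (X, Y, Z, f, g, h) be a distinguished triangle of a pretriangulated category, and let a : X ⟶ X
and c : Z ⟶ Z be idempotents with h ≫ a⟦1⟧ = c ≫ h. Then there is an idempotent b : Y ⟶ Y such that
(a, b, c) is an endomorphism of the triangle. -/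
theorem result {D : Type u} [Category.{v} D] [Preadditive D] [HasZeroObject D] [HasShift D ℤ]
    [∀ n : ℤ, (shiftFunctor D n).Additive] [Pretriangulated D]
    (T : Triangle D) (hT : T ∈ distinguishedTriangles) (a : T.obj₁ ⟶ T.obj₁) (c : T.obj₃ ⟶ T.obj₃)
    (ha : a ≫ a = a) (hc : c ≫ c = c) (comm : T.mor₃ ≫ (shiftFunctor D (1 : ℤ)).map a = c ≫ T.mor₃) :
    ∃ b : T.obj₂ ⟶ T.obj₂, b ≫ b = b ∧ T.mor₁ ≫ b = a ≫ T.mor₁ ∧ T.mor₂ ≫ c = b ≫ T.mor₂ := by
  obtain ⟨b', hb1, hb2⟩ := complete_distinguished_triangle_morphism₂ T T hT hT a c comm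
  have h1 : T.mor₁ ≫ (b' ≫ b' - b') = 0 := by
    rw [Preadditive.comp_sub, ← Category.assoc, hb1, Category.assoc, hb1, ← Category.assoc, ha, sub_self]
  have h2 : (b' ≫ b' - b') ≫ T.mor₂ = 0 := by
    rw [Preadditive.sub_comp, Category.assoc, ← hb2, ← Category.assoc, ← hb2, Category.assoc, hc, sub_self]
  obtain ⟨t, ht⟩ := Triangle.yoneda_exact₂ T hT _ h1
  have h3 : (b' ≫ b' - b') ≫ (b' ≫ b' - b') = 0 := by
    calc (b' ≫ b' - b') ≫ (b' ≫ b' - b') = ((b' ≫ b' - b') ≫ T.mor₂) ≫ t := by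
          rw [Category.assoc, ← ht]
      _ = 0 := by rw [h2, zero_comp]
  let x : End T.obj₂ := b'
  have h4 := aux_ring x h3
  have hb1' : T.mor₁ ≫ b' ≫ b' = a ≫ T.mor₁ := by
    rw [← Category.assoc, hb1, Category.assoc, hb1, ← Category.assoc, ha]
  have hb1'' : T.mor₁ ≫ b' ≫ b' ≫ b' = a ≫ T.mor₁ := by
    rw [← Category.assoc, hb1, Category.assoc, hb1', ← Category.assoc, ha]
  have hb2' : (b' ≫ b') ≫ T.mor₂ = T.mor₂ ≫ c := by
    rw [Category.assoc, ← hb2, ← Category.assoc, ← hb2, Category.assoc, hc]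
  have hb2'' : (b' ≫ b' ≫ b') ≫ T.mor₂ = T.mor₂ ≫ c := by
    rw [Category.assoc, hb2', ← Category.assoc, ← hb2, Category.assoc, hc]
  have e2 : (3 * (x * x) - 2 * (x * x * x) : End T.obj₂) =
      (3 : ℤ) • (b' ≫ b') - (2 : ℤ) • (b' ≫ b' ≫ b') := by
    change (3 * (x * x) - 2 * (x * x * x) : End T.obj₂) = (3 : ℤ) • (x * x) - (2 : ℤ) • (x * x * x)
    noncomm_ring
  refine ⟨(3 * (x * x) - 2 * (x * x * x) : End T.obj₂), h4, ?_, ?_⟩
  · rw [e2, Preadditive.comp_sub, Preadditive.comp_zsmul, Preadditive.comp_zsmul, hb1', hb1'',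
      ← sub_smul]
    simp
  · rw [e2, Preadditive.sub_comp, Preadditive.zsmul_comp, Preadditive.zsmul_comp, hb2', hb2'',
      ← sub_smul]
    simp

end Groth.Agent.S6580
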