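import Groth.Statements.S6581
import Groth.Agent.CohtopB.CoprodTriangle

set_option autoImplicit false
universe v u
open CategoryTheory CategoryTheory.Limits
open CohDer

namespace Groth.Agent.S6581

open CategoryTheory.Pretriangulated

section

variable {D : Type u} [Category.{v} D] [Preadditive D] [HasZeroObject D] [HasShift D ℤ]
    [∀ n : ℤ, (shiftFunctor D n).Additive] [Pretriangulated D]

/-- The direct sum of two triangles. -/
noncomputable abbrev sumT (T T' : Triangle D) : Triangle D :=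
  Triangle.mk (biprod.map T.mor₁ T'.mor₁) (biprod.map T.mor₂ T'.mor₂)
    (biprod.desc (T.mor₃ ≫ (shiftFunctor D (1 : ℤ)).map biprod.inl) (T'.mor₃ ≫ (shiftFunctor D (1 : ℤ)).map biprod.inr))

/-- The binary coproduct indexed by `Bool` is the biproduct. -/
noncomputable def boolIso (X : Bool → D) [HasCoproduct X] : (X true) ⊞ (X false) ≅ ∐ X where
  hom := biprod.desc (Limits.Sigma.ι X true) (Limits.Sigma.ι X false)
  inv := Limits.Sigma.desc (fun b => match b with
    | true => biprod.inl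
    | false => biprod.inr)
  hom_inv_id := by
    ext <;> simp
  inv_hom_id := by
    refine Limits.Sigma.hom_ext _ _ (fun b => ?_)
    cases b <;> simp

@[reassoc]
lemma inl_boolIso (X : Bool → D) [HasCoproduct X] :
    biprod.inl ≫ (boolIso X).hom = Limits.Sigma.ι X true := by simp [boolIso]

@[reassoc]
lemma inr_boolIso (X : Bool → D) [HasCoproduct X] :
    biprod.inr ≫ (boolIso X).hom = Limits.Sigma.ι X false := by simp [boolIso]

lemma boolIso_map (X Y : Bool → D) [HasCoproduct X] [HasCoproduct Y] (f : ∀ b, X b ⟶ Y b) :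
    biprod.map (f true) (f false) ≫ (boolIso Y).hom = (boolIso X).hom ≫ Limits.Sigma.map f := by
  apply biprod.hom_ext'
  · rw [biprod.inl_map_assoc, inl_boolIso_assoc, Limits.Sigma.ι_map, inl_boolIso]
  · rw [biprod.inr_map_assoc, inr_boolIso_assoc, Limits.Sigma.ι_map, inr_boolIso]

lemma boolIso_desc (X Z : Bool → D) [HasCoproduct X] [HasCoproduct Z]
    (h : ∀ b, Z b ⟶ (X b)⟦(1 : ℤ)⟧) :
    biprod.desc (h true ≫ (shiftFunctor D (1 : ℤ)).map biprod.inl)
      (h false ≫ (shiftFunctor D (1 : ℤ)).map biprod.inr) ≫ (boolIso X).hom⟦(1 : ℤ)⟧' =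
    (boolIso Z).hom ≫ Limits.Sigma.desc (fun b => h b ≫ (Limits.Sigma.ι X b)⟦(1 : ℤ)⟧') := by
  apply biprod.hom_ext'
  · rw [biprod.inl_desc_assoc, inl_boolIso_assoc, Limits.Sigma.ι_desc,
        Category.assoc, ← Functor.map_comp, inl_boolIso]
  · rw [biprod.inr_desc_assoc, inr_boolIso_assoc, Limits.Sigma.ι_desc,
        Category.assoc, ← Functor.map_comp, inr_boolIso]

/-- The family of two triangles. -/
abbrev fam (T T' : Triangle D) (b : Bool) : Triangle D := match b with
    | true => T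
    | false => T'

lemma sumT_distinguished (T T' : Triangle D) (hT : T ∈ distinguishedTriangles)
    (hT' : T' ∈ distinguishedTriangles) : sumT T T' ∈ distinguishedTriangles := by
  have hS : ∀ b, fam T T' b ∈ distinguishedTriangles := by
    intro b
    cases b
    · exact hT'
    · exact hT
  have h1 := Groth.Agent.CohtopB.CoprodTriangle.coproductTriangle_distinguished (fam T T') hS
  refine isomorphic_distinguished _ h1 _ ?_
  refine Triangle.isoMk _ _ (boolIso (fun b => (fam T T' b).obj₁)) (boolIso (fun b => (fam T T' b).obj₂))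
    (boolIso (fun b => (fam T T' b).obj₃)) ?_ ?_ ?_
  · exact boolIso_map _ _ (fun b => (fam T T' b).mor₁)
  · exact boolIso_map _ _ (fun b => (fam T T' b).mor₂)
  · exact boolIso_desc _ _ (fun b => (fam T T' b).mor₃)

omit [HasZeroObject D] [HasShift D ℤ] [∀ (n : ℤ), (shiftFunctor D n).Additive] [Pretriangulated D] in
lemma isIso_of_map [HasBinaryBiproducts D] {X Y X' Y' : D} (f : X ⟶ Y) (g : X' ⟶ Y')
    (h : IsIso (biprod.map f g)) : IsIso f ∧ IsIso g := by
  obtain ⟨r, h1, h2⟩ := h
  refine ⟨⟨biprod.inl ≫ r ≫ biprod.fst, ?_, ?_⟩,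
    ⟨biprod.inr ≫ r ≫ biprod.snd, ?_, ?_⟩⟩
  · have := biprod.inl ≫= h1 =≫ biprod.fst
    simpa using this
  · have := biprod.inl ≫= h2 =≫ biprod.fst
    simpa using this
  · have := biprod.inr ≫= h1 =≫ biprod.snd
    simpa using this
  · have := biprod.inr ≫= h2 =≫ biprod.snd
    simpa using this

set_option backward.isDefEq.respectTransparency false in
lemma key {X Y Z X' Y' Z' : D} (f : X ⟶ Y) (g : Y ⟶ Z) (h : Z ⟶ X⟦(1 : ℤ)⟧)
    (f' : X' ⟶ Y') (g' : Y' ⟶ Z') (h' : Z' ⟶ X'⟦(1 : ℤ)⟧)
    (hS : Triangle.mk (biprod.map f f') (biprod.map g g')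
      (biprod.desc (h ≫ (shiftFunctor D (1 : ℤ)).map biprod.inl)
        (h' ≫ (shiftFunctor D (1 : ℤ)).map biprod.inr)) ∈ distinguishedTriangles) :
    Triangle.mk f g h ∈ distinguishedTriangles ∧ Triangle.mk f' g' h' ∈ distinguishedTriangles := by
  obtain ⟨Q, q, r, hQ⟩ := distinguished_cocone_triangle f
  obtain ⟨Q', q', r', hQ'⟩ := distinguished_cocone_triangle f'
  -- morphisms from the cones to the sum
  obtain ⟨γ, hγ1, hγ2⟩ := complete_distinguished_triangle_morphism _ _ hQ hS
    (biprod.inl : X ⟶ X ⊞ X') (biprod.inl : Y ⟶ Y ⊞ Y') (by simp)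
  obtain ⟨γ', hγ1', hγ2'⟩ := complete_distinguished_triangle_morphism _ _ hQ' hS
    (biprod.inr : X' ⟶ X ⊞ X') (biprod.inr : Y' ⟶ Y ⊞ Y') (by simp)
  change Q ⟶ Z ⊞ Z' at γ
  change Q' ⟶ Z ⊞ Z' at γ'
  change q ≫ γ = biprod.inl ≫ biprod.map g g' at hγ1
  change q' ≫ γ' = biprod.inr ≫ biprod.map g g' at hγ1'
  change r ≫ (shiftFunctor D (1 : ℤ)).map biprod.inl = γ ≫ biprod.desc (h ≫ (shiftFunctor D (1 : ℤ)).map biprod.inl)
        (h' ≫ (shiftFunctor D (1 : ℤ)).map biprod.inr) at hγ2
  change r' ≫ (shiftFunctor D (1 : ℤ)).map biprod.inr = γ' ≫ biprod.desc (h ≫ (shiftFunctor D (1 : ℤ)).map biprod.inl)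
        (h' ≫ (shiftFunctor D (1 : ℤ)).map biprod.inr) at hγ2'
  let δ : Q ⟶ Z := γ ≫ biprod.fst
  let δ' : Q' ⟶ Z' := γ' ≫ biprod.snd
  have h1 : q ≫ δ = g := by
    have := hγ1 =≫ biprod.fst
    simpa [δ] using this
  have h1' : q' ≫ δ' = g' := by
    have := hγ1' =≫ biprod.snd
    simpa [δ'] using this
  have h3 : biprod.desc (h ≫ (shiftFunctor D (1 : ℤ)).map biprod.inl)
        (h' ≫ (shiftFunctor D (1 : ℤ)).map biprod.inr)
        ≫ (shiftFunctor D (1 : ℤ)).map biprod.fst = biprod.fst ≫ h := by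
    apply biprod.hom_ext'
    · rw [biprod.inl_desc_assoc, Category.assoc, ← Functor.map_comp, biprod.inl_fst,
        CategoryTheory.Functor.map_id, Category.comp_id, biprod.inl_fst_assoc]
    · rw [biprod.inr_desc_assoc, Category.assoc, ← Functor.map_comp, biprod.inr_fst,
        Functor.map_zero, comp_zero, biprod.inr_fst_assoc, zero_comp]
  have h3' : biprod.desc (h ≫ (shiftFunctor D (1 : ℤ)).map biprod.inl)
        (h' ≫ (shiftFunctor D (1 : ℤ)).map biprod.inr)
        ≫ (shiftFunctor D (1 : ℤ)).map biprod.snd = biprod.snd ≫ h' := by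
    apply biprod.hom_ext'
    · rw [biprod.inl_desc_assoc, Category.assoc, ← Functor.map_comp, biprod.inl_snd,
        Functor.map_zero, comp_zero, biprod.inl_snd_assoc, zero_comp]
    · rw [biprod.inr_desc_assoc, Category.assoc, ← Functor.map_comp, biprod.inr_snd,
        CategoryTheory.Functor.map_id, Category.comp_id, biprod.inr_snd_assoc]
  have h2 : r = δ ≫ h := by
    have h4 := hγ2 =≫ (shiftFunctor D (1 : ℤ)).map biprod.fst
    rw [Category.assoc, Category.assoc, h3, ← Functor.map_comp, biprod.inl_fst,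
      CategoryTheory.Functor.map_id, Category.comp_id] at h4
    rw [h4, Category.assoc]
  have h2' : r' = δ' ≫ h' := by
    have h4 := hγ2' =≫ (shiftFunctor D (1 : ℤ)).map biprod.snd
    rw [Category.assoc, Category.assoc, h3', ← Functor.map_comp, biprod.inr_snd,
      CategoryTheory.Functor.map_id, Category.comp_id] at h4
    rw [h4, Category.assoc]
  -- the sum of the two maps of triangles
  let φ : sumT (Triangle.mk f q r) (Triangle.mk f' q' r') ⟶ sumT (Triangle.mk f g h) (Triangle.mk f' g' h') :=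
    { hom₁ := 𝟙 _
      hom₂ := 𝟙 _
      hom₃ := biprod.map δ δ'
      comm₁ := by
        change biprod.map f f' ≫ 𝟙 _ = 𝟙 _ ≫ biprod.map f f'
        rw [Category.comp_id, Category.id_comp]
      comm₂ := by
        change biprod.map q q' ≫ biprod.map δ δ' = 𝟙 _ ≫ biprod.map g g'
        rw [Category.id_comp]
        apply biprod.hom_ext'
        · rw [biprod.inl_map_assoc, biprod.inl_map, biprod.inl_map, ← Category.assoc, h1]
        · rw [biprod.inr_map_assoc, biprod.inr_map, biprod.inr_map, ← Category.assoc, h1']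
      comm₃ := by
        change biprod.desc (r ≫ (shiftFunctor D (1 : ℤ)).map biprod.inl) (r' ≫ (shiftFunctor D (1 : ℤ)).map biprod.inr) ≫
          (shiftFunctor D (1 : ℤ)).map (𝟙 (X ⊞ X')) = biprod.map δ δ' ≫
          biprod.desc (h ≫ (shiftFunctor D (1 : ℤ)).map biprod.inl) (h' ≫ (shiftFunctor D (1 : ℤ)).map biprod.inr)
        rw [CategoryTheory.Functor.map_id, Category.comp_id]
        apply biprod.hom_ext'
        · rw [biprod.inl_desc, biprod.inl_map_assoc, biprod.inl_desc, ← Category.assoc, h2]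
        · rw [biprod.inr_desc, biprod.inr_map_assoc, biprod.inr_desc, ← Category.assoc, h2'] }
  have hφ : IsIso (biprod.map δ δ') := by
    refine isIso₃_of_isIso₁₂ φ (sumT_distinguished _ _ hQ hQ') hS ?_ ?_
    · change IsIso (𝟙 _); infer_instance
    · change IsIso (𝟙 _); infer_instance
  obtain ⟨hδ, hδ'⟩ := isIso_of_map δ δ' hφ
  constructor
  · refine isomorphic_distinguished _ hQ _ ?_
    let e : Triangle.mk f q r ≅ Triangle.mk f g h :=
      Triangle.isoMk _ _ (Iso.refl _) (Iso.refl _) (@asIso _ _ Q Z δ hδ) (by simp)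
        (by change q ≫ δ = 𝟙 _ ≫ g; rw [h1, Category.id_comp])
        (by change r ≫ (shiftFunctor D (1 : ℤ)).map (𝟙 _) = δ ≫ h
            rw [h2, CategoryTheory.Functor.map_id, Category.comp_id])
    exact e.symm
  · refine isomorphic_distinguished _ hQ' _ ?_
    let e : Triangle.mk f' q' r' ≅ Triangle.mk f' g' h' :=
      Triangle.isoMk _ _ (Iso.refl _) (Iso.refl _) (@asIso _ _ Q' Z' δ' hδ') (by simp)
        (by change q' ≫ δ' = 𝟙 _ ≫ g'; rw [h1', Category.id_comp])
        (by change r' ≫ (shiftFunctor D (1 : ℤ)).map (𝟙 _) = δ' ≫ h'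
            rw [h2', CategoryTheory.Functor.map_id, Category.comp_id])
    exact e.symm

end

open CategoryTheory.Pretriangulated in
/-- Let T = (X, Y, Z, f, g, h) and T' = (X', Y', Z', f', g', h') be triangles in a pretriangulated
category. The direct sum triangle (X ⊞ X', Y ⊞ Y', Z ⊞ Z', f ⊕ f', g ⊕ g', h ⊕ h') (whose third map
Z ⊞ Z' ⟶ (X ⊞ X')⟦1⟧ has components h ≫ inl⟦1⟧ and h' ≫ inr⟦1⟧) is distinguished if and only if T
and T' are both distinguished. -/
theorem result {D : Type u} [Category.{v} D] [Preadditive D] [HasZeroObject D] [HasShift D ℤ]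
    [∀ n : ℤ, (shiftFunctor D n).Additive] [Pretriangulated D]
    (T T' : Triangle D) :
    Triangle.mk (biprod.map T.mor₁ T'.mor₁) (biprod.map T.mor₂ T'.mor₂)
        (biprod.desc (T.mor₃ ≫ (shiftFunctor D (1 : ℤ)).map biprod.inl) (T'.mor₃ ≫ (shiftFunctor D (1 : ℤ)).map biprod.inr)) ∈ distinguishedTriangles ↔
      (T ∈ distinguishedTriangles ∧ T' ∈ distinguishedTriangles) := by
  exact ⟨fun h => key _ _ _ _ _ _ h, fun h => sumT_distinguished T T' h.1 h.2⟩

end Groth.Agent.S6581
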