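import Groth.Statements.S6583

set_option autoImplicit false
universe v u v' u'
open CategoryTheory CategoryTheory.Limits
open CohDer

namespace Groth.Agent.S6583

open ZeroObject CategoryTheory.Pretriangulated

open CategoryTheory.Pretriangulated in
/-- Let H : D ⥤ A be a homological functor from a pretriangulated category to an abelian category. The
full subcategory of D on the objects X with H(X⟦n⟧) = 0 for all n ≪ 0 is a strictly full
pretriangulated subcategory (zero object, stable under shifts and isomorphisms, closed under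
extensions) and is saturated: if X ⊞ Y belongs to it then so do X and Y. -/
theorem result {D : Type u} [Category.{v} D] [Preadditive D] [HasZeroObject D] [HasShift D ℤ]
    [∀ n : ℤ, (shiftFunctor D n).Additive] [Pretriangulated D]
    {A : Type u'} [Category.{v'} A] [Abelian A] (H : D ⥤ A) [H.IsHomological] :
    (ObjectProperty.IsTriangulated (fun X : D => ∃ N : ℤ, ∀ n : ℤ, n ≤ N → IsZero (H.obj ((shiftFunctor D n).obj X)))) ∧
    (ObjectProperty.IsClosedUnderIsomorphisms (fun X : D => ∃ N : ℤ, ∀ n : ℤ, n ≤ N → IsZero (H.obj ((shiftFunctor D n).obj X)))) ∧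
    (∀ X Y : D, (∃ N : ℤ, ∀ n : ℤ, n ≤ N → IsZero (H.obj ((shiftFunctor D n).obj (X ⊞ Y)))) →
      (∃ N : ℤ, ∀ n : ℤ, n ≤ N → IsZero (H.obj ((shiftFunctor D n).obj X))) ∧
      (∃ N : ℤ, ∀ n : ℤ, n ≤ N → IsZero (H.obj ((shiftFunctor D n).obj Y)))) := by
  have hiso : ObjectProperty.IsClosedUnderIsomorphisms
      (fun X : D => ∃ N : ℤ, ∀ n : ℤ, n ≤ N → IsZero (H.obj ((shiftFunctor D n).obj X))) := by
    refine ⟨fun e hX => ?_⟩
    obtain ⟨N, hN⟩ := hX
    exact ⟨N, fun n hn => (hN n hn).of_iso ((shiftFunctor D n ⋙ H).mapIso e.symm)⟩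
  have key : ∀ {X Y : D} (i : X ⟶ Y) (r : Y ⟶ X), i ≫ r = 𝟙 X → ∀ n : ℤ,
      IsZero (H.obj ((shiftFunctor D n).obj Y)) → IsZero (H.obj ((shiftFunctor D n).obj X)) := by
    intro X Y i r hir n hY
    rw [IsZero.iff_id_eq_zero, ← CategoryTheory.Functor.map_id, ← CategoryTheory.Functor.map_id, ← hir,
      Functor.map_comp, Functor.map_comp, hY.eq_zero_of_tgt (H.map ((shiftFunctor D n).map i)), zero_comp]
  refine ⟨?_, hiso, fun X Y h => ?_⟩
  · exact
      { exists_zero := ⟨0, isZero_zero D, 0, fun n _ =>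
          (shiftFunctor D n ⋙ H).map_isZero (isZero_zero D)⟩
        isStableUnderShiftBy := fun a => ⟨fun X hX => by
          obtain ⟨N, hN⟩ := hX
          exact ⟨N - a, fun n hn => (hN (a + n) (by lia)).of_iso
            (H.mapIso ((shiftFunctorAdd D a n).app X).symm)⟩⟩
        toIsTriangulatedClosed₂ := ObjectProperty.IsTriangulatedClosed₂.mk' (fun T hT h₁ h₃ => by
          obtain ⟨N₁, hN₁⟩ := h₁
          obtain ⟨N₃, hN₃⟩ := h₃
          refine ⟨min N₁ N₃, fun n hn => ?_⟩
          exact (H.map_distinguished_exact _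
            (Triangle.shift_distinguished T hT n)).isZero_of_both_zeros
              ((hN₁ n (by lia)).eq_of_src _ _) ((hN₃ n (by lia)).eq_of_tgt _ _)) }
  · obtain ⟨N, hN⟩ := h
    exact ⟨⟨N, fun n hn => key biprod.inl biprod.fst biprod.inl_fst n (hN n hn)⟩,
      ⟨N, fun n hn => key biprod.inr biprod.snd biprod.inr_snd n (hN n hn)⟩⟩

end Groth.Agent.S6583
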