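import Groth.Statements.S6585

set_option autoImplicit false
universe v u
open CategoryTheory CategoryTheory.Limits
open CohDer

namespace Groth.Agent.S6585

open ZeroObject CategoryTheory.Pretriangulated

section

variable {D : Type u} [Category.{v} D] [Preadditive D] [HasZeroObject D] [HasShift D ℤ]
    [∀ n : ℤ, (shiftFunctor D n).Additive] [Pretriangulated D]

/-- The objects all of whose maps to all shifts of `K` vanish. -/
def Orth (K : D) : ObjectProperty D := fun X => ∀ (n : ℤ) (f : X ⟶ (shiftFunctor D n).obj K), f = 0

lemma orth_shift (K X : D) (a n : ℤ) (h : Orth K X)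
    (f : (shiftFunctor D a).obj X ⟶ (shiftFunctor D n).obj K) : f = 0 := by
  have h1 : (shiftFunctorCompIsoId D a (-a) (by lia)).inv.app X ≫ (shiftFunctor D (-a)).map f ≫
      (shiftFunctorAdd D n (-a)).inv.app K = 0 := h _ _
  rw [← Category.assoc] at h1
  have h2 := (cancel_mono ((shiftFunctorAdd D n (-a)).inv.app K)).1 (h1.trans zero_comp.symm)
  have h3 := (cancel_epi ((shiftFunctorCompIsoId D a (-a) (by lia)).inv.app X)).1
    (h2.trans comp_zero.symm)
  exact (shiftFunctor D (-a)).map_injective (by rw [h3, Functor.map_zero])

instance (K : D) : (Orth K).IsClosedUnderIsomorphisms :=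
  ⟨fun e hX n f => by
    rw [← cancel_epi e.hom, comp_zero]
    exact hX n _⟩

instance (K : D) : (Orth K).IsTriangulated :=
  { exists_zero := ⟨0, isZero_zero D, fun n f => (isZero_zero D).eq_of_src _ _⟩
    isStableUnderShiftBy := fun a => ⟨fun X hX n f => orth_shift K X a n hX f⟩
    toIsTriangulatedClosed₂ := ObjectProperty.IsTriangulatedClosed₂.mk' (fun T hT h₁ h₃ n f => by
      obtain ⟨g, hg⟩ := Triangle.yoneda_exact₂ T hT f (h₁ n _)
      rw [hg, h₃ n g, comp_zero]) }

instance (K : D) : (Orth K).IsStableUnderRetracts where
  of_retract r hX n f := by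
    rw [← Category.id_comp f, ← r.retract, Category.assoc, hX n (r.r ≫ f), comp_zero]

end

open CategoryTheory.Pretriangulated in
/-- Let D be a triangulated category and E, K objects of D. Then Hom(E, K⟦i⟧) = 0 for all integers i if
and only if Hom(E', K) = 0 for every E' in ⟨E⟩, the smallest strictly full saturated triangulated
subcategory of D containing E (the objects obtained from E by shifts, finite direct sums, direct
summands and extensions). -/
theorem result {D : Type u} [Category.{v} D] [Preadditive D] [HasZeroObject D] [HasShift D ℤ]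
    [∀ n : ℤ, (shiftFunctor D n).Additive] [Pretriangulated D] [IsTriangulated D]
    (E K : D) :
    (∀ (i : ℤ) (f : E ⟶ (shiftFunctor D i).obj K), f = 0) ↔
      ∀ (E' : D), (ObjectProperty.singleton E).triangEnvelope E' → ∀ f : E' ⟶ K, f = 0 := by
  constructor
  · intro h E' hE' f
    have h1 : (ObjectProperty.singleton E).triangEnvelope ≤ Orth K := by
      rw [ObjectProperty.triangEnvelope_le_iff]
      intro X hX
      rw [ObjectProperty.singleton_iff] at hX
      subst hX
      exact h
    have h2 := h1 E' hE' 0 (f ≫ (shiftFunctorZero D ℤ).inv.app K)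
    exact (cancel_mono ((shiftFunctorZero D ℤ).inv.app K)).1 (h2.trans zero_comp.symm)
  · intro h i f
    have hE : (ObjectProperty.singleton E).triangEnvelope ((shiftFunctor D (-i)).obj E) := by
      exact (ObjectProperty.singleton E).triangEnvelope.le_shift (-i) _
        (ObjectProperty.le_triangEnvelope _ _ (by simp))
    have h1 := h _ hE ((shiftFunctor D (-i)).map f ≫ (shiftFunctorCompIsoId D i (-i) (by lia)).hom.app K)
    have h2 := (cancel_mono ((shiftFunctorCompIsoId D i (-i) (by lia)).hom.app K)).1
      (h1.trans zero_comp.symm)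
    exact (shiftFunctor D (-i)).map_injective (by rw [h2, Functor.map_zero])

end Groth.Agent.S6585
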