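import Groth.Statements.S6587
import Groth.Agent.CohDer.K234.Pro

set_option autoImplicit false
universe v u
open CategoryTheory CategoryTheory.Limits Opposite
open CohDer

namespace Groth.Agent.S6587

open CategoryTheory.Pretriangulated K234.Raw K234.Pro

open CategoryTheory.Pretriangulated in
/-- Let D be a triangulated category and let X_n → Y_n → Z_n → X_n⟦1⟧ be an inverse system of
distinguished triangles of D indexed by ℕ (levelwise maps f, g, h of inverse systems, each level
distinguished). If the inverse system (Z_n) is pro-zero, then the levelwise map f : (X_n) → (Y_n) is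
a pro-isomorphism. -/
theorem result {D : Type u} [Category.{v} D] [Preadditive D] [HasZeroObject D] [HasShift D ℤ]
    [∀ n : ℤ, (shiftFunctor D n).Additive] [Pretriangulated D] [IsTriangulated D]
    (X Y Z : ARSys.PS D) (f : X ⟶ Y) (g : Y ⟶ Z) (h : Z ⟶ X ⋙ shiftFunctor D (1 : ℤ))
    (hT : ∀ n : ℕ, Triangle.mk (f.app (op n)) (g.app (op n)) (h.app (op n)) ∈ distinguishedTriangles)
    (hZ : DerCA.IsProZero Z) :
    DerCA.IsProIso f := by
  have hT' : ∀ n : ℕ, Dist (f.app (op n)) (g.app (op n)) (h.app (op n)) := hT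
  have nh : ∀ {a b : ℕ} (hab : a ≤ b), ARSys.tr Z hab ≫ h.app (op a) =
      h.app (op b) ≫ (ARSys.tr X hab)⟦(1 : ℤ)⟧' := fun hab => h.naturality _
  intro n
  obtain ⟨p, hp, hp0⟩ := hZ n
  obtain ⟨m, hm, hm0⟩ := hZ p
  obtain ⟨b', hb'⟩ := coyoneda₂ (hT' p) (ARSys.tr Y hm) (by rw [tr_nat, hm0, comp_zero])
  obtain ⟨w, hw⟩ := coyoneda₁' (hT' p) (f.app (op m) ≫ b' - ARSys.tr X hm) (by
    rw [Preadditive.sub_comp, Category.assoc, ← hb', tr_nat, sub_self])
  have h1 : (f.app (op m) ≫ b' - ARSys.tr X hm) ≫ ARSys.tr X hp = 0 := by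
    apply (shiftFunctor D (1 : ℤ)).map_injective
    rw [Functor.map_comp, hw, Category.assoc, ← nh, hp0, zero_comp, comp_zero, Functor.map_zero]
  rw [Preadditive.sub_comp, sub_eq_zero, Category.assoc, tr_trans] at h1
  refine ⟨m, hp.trans hm, b' ≫ ARSys.tr X hp, h1, ?_⟩
  rw [Category.assoc, tr_nat, ← Category.assoc, ← hb', tr_trans]

end Groth.Agent.S6587
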