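import Groth.Statements.S6594
import Groth.Agent.CohDer.K234.Raw

set_option autoImplicit false
universe v u
open CategoryTheory CategoryTheory.Limits
open CohDer

namespace Groth.Agent.S6594

open ZeroObject CategoryTheory.Pretriangulated K234.Raw

open CategoryTheory.Pretriangulated in
/-- (1) ⇔ (3): let D be a pretriangulated category and f : X ⟶ Y a morphism. Then f has a kernel if and
only if f is isomorphic to a composite K ⊞ Z → Z → Z ⊞ Q of a projection and a coprojection for some
objects K, Z, Q. -/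
theorem result {D : Type u} [Category.{v} D] [Preadditive D] [HasZeroObject D] [HasShift D ℤ]
    [∀ n : ℤ, (shiftFunctor D n).Additive] [Pretriangulated D]
    {X Y : D} (f : X ⟶ Y) :
    HasKernel f ↔ ∃ (K Z Q : D) (e₁ : X ≅ K ⊞ Z) (e₂ : Y ≅ Z ⊞ Q),
      f = e₁.hom ≫ biprod.snd ≫ biprod.inl ≫ e₂.inv := by
  constructor
  · intro hf
    obtain ⟨Z, g, z, hT⟩ := exists_cone (kernel.ι f)
    have hz : z = 0 := h_eq_zero_of_mono hT inferInstance
    obtain ⟨h, hh⟩ := yoneda₂ hT f (kernel.condition f)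
    obtain ⟨s, hs⟩ := exists_section hT hz
    have h0 : kernel.ι f ≫ g = 0 := comp₁₂ hT
    have hmono : Mono h := by
      rw [Preadditive.mono_iff_cancel_zero]
      intro W w hw
      have h1 : (w ≫ s) ≫ f = 0 := by
        have : (w ≫ s) ≫ f = (w ≫ s) ≫ g ≫ h := congrArg _ hh
        rw [this, Category.assoc, ← Category.assoc s, hs, Category.id_comp, hw]
      have h2 : w = (kernel.lift f _ h1) ≫ kernel.ι f ≫ g := by
        rw [← Category.assoc, kernel.lift_ι, Category.assoc, hs, Category.comp_id]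
      rw [h2, h0, comp_zero]
    obtain ⟨Q, q, c, hT'⟩ := exists_cone h
    have hc : c = 0 := h_eq_zero_of_mono hT' hmono
    obtain ⟨e₁, he₁, he₁'⟩ := exists_biprod hT hz
    obtain ⟨e₂, he₂, he₂'⟩ := exists_biprod hT' hc
    refine ⟨kernel f, Z, Q, e₁, e₂, ?_⟩
    rw [← Category.assoc, ← he₁', ← he₂, Category.assoc, Iso.hom_inv_id, Category.comp_id, ← hh]
  · rintro ⟨K, Z, Q, e₁, e₂, rfl⟩
    have : HasKernel (biprod.snd : K ⊞ Z ⟶ Z) := ⟨⟨_, biprod.isKernelSndKernelFork K Z⟩⟩
    have h1 : HasKernel ((biprod.snd : K ⊞ Z ⟶ Z) ≫ biprod.inl ≫ e₂.inv) :=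
      inferInstance
    infer_instance

end Groth.Agent.S6594
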