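import Groth.Statements.S6598
import Mathlib.Algebra.Homology.HomologicalComplexBiprod
import Mathlib.Algebra.Homology.HomotopyCategory.Pretriangulated
import Mathlib.Algebra.Homology.Embedding.CochainComplex

set_option autoImplicit false
universe v u
open CategoryTheory CategoryTheory.Limits
open CohDer

namespace Groth.Agent.S6598

open CochainComplex HomologicalComplex

variable {V : Type u} [Category.{v} V] [Preadditive V] [HasBinaryBiproducts V] [HasZeroObject V]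

section

/-- A split monomorphism `i : X ⟶ (P ⊞ X) ⊞ L` with an explicit complement. -/
lemma exists_complement {X P W M L : V} (i₁ : P ⟶ W) (p₁ : W ⟶ P) (i₂ : X ⟶ W) (p₂ : W ⟶ X)
    (h11 : i₁ ≫ p₁ = 𝟙 _) (h12 : i₁ ≫ p₂ = 0) (h21 : i₂ ≫ p₁ = 0) (h22 : i₂ ≫ p₂ = 𝟙 _)
    (htot : p₁ ≫ i₁ + p₂ ≫ i₂ = 𝟙 _)
    (j₁ : W ⟶ M) (q₁ : M ⟶ W) (j₂ : L ⟶ M) (q₂ : M ⟶ L)
    (g11 : j₁ ≫ q₁ = 𝟙 _) (g12 : j₁ ≫ q₂ = 0) (g21 : j₂ ≫ q₁ = 0) (g22 : j₂ ≫ q₂ = 𝟙 _)
    (gtot : q₁ ≫ j₁ + q₂ ≫ j₂ = 𝟙 _) (a : X ⟶ L) (α : X ⟶ M) (hα₁ : α ≫ q₁ = i₂) (hα₂ : α ≫ q₂ = a) :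
    ∃ (C : V) (e : M ≅ X ⊞ C), α ≫ e.hom = biprod.inl := by
  have hα : α = i₂ ≫ j₁ + a ≫ j₂ := by
    rw [← Category.comp_id α, ← gtot, Preadditive.comp_add, ← Category.assoc, hα₁,
      ← Category.assoc, hα₂]
  refine ⟨P ⊞ L,
    { hom := biprod.lift (q₁ ≫ p₂) (biprod.lift (q₁ ≫ p₁) (q₂ - q₁ ≫ p₂ ≫ a))
      inv := biprod.desc α (biprod.desc (i₁ ≫ j₁) j₂)
      hom_inv_id := ?_
      inv_hom_id := ?_ }, ?_⟩
  · rw [biprod.lift_desc, biprod.lift_desc, hα]
    have h1 : q₁ ≫ j₁ = q₁ ≫ p₁ ≫ i₁ ≫ j₁ + q₁ ≫ p₂ ≫ i₂ ≫ j₁ := by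
      have := q₁ ≫= htot =≫ j₁
      simpa using this.symm
    rw [← gtot, h1]
    simp only [Preadditive.comp_add, Preadditive.sub_comp, Category.assoc]
    abel
  · rw [hα]
    apply biprod.hom_ext'
    · apply biprod.hom_ext
      · simp [reassoc_of% g11, reassoc_of% g21, h22]
      · apply biprod.hom_ext
        · simp [reassoc_of% g11, reassoc_of% g21, h21]
        · simp [reassoc_of% g11, reassoc_of% g21, reassoc_of% h22, g12, g22]
    · apply biprod.hom_ext'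
      · apply biprod.hom_ext
        · simp [reassoc_of% g11, h12]
        · apply biprod.hom_ext
          · simp [reassoc_of% g11, h11]
          · simp [reassoc_of% g11, reassoc_of% h12, g12]
      · apply biprod.hom_ext
        · simp [reassoc_of% g21]
        · apply biprod.hom_ext
          · simp [reassoc_of% g21]
          · simp [reassoc_of% g21, g22]
  · apply biprod.hom_ext
    · simp [reassoc_of% hα₁, h22]
    · apply biprod.hom_ext
      · simp [reassoc_of% hα₁, h21]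
      · simp [reassoc_of% hα₁, reassoc_of% h22, hα₂]

end

set_option backward.isDefEq.respectTransparency false in
theorem main (K L : CochainComplex V ℤ) (α : K ⟶ L) :
    ∃ (L' : CochainComplex V ℤ) (α' : K ⟶ L') (π : L' ⟶ L) (s : L ⟶ L'),
      α' ≫ π = α ∧ s ≫ π = 𝟙 L ∧ Nonempty (Homotopy (π ≫ s) (𝟙 L')) ∧
      (∀ n : ℤ, ∃ (C : V) (e : L'.X n ≅ K.X n ⊞ C), α'.f n ≫ e.hom = biprod.inl) ∧
      (∀ a : ℤ, K.IsStrictlyGE a → L.IsStrictlyGE a → ∃ a' : ℤ, L'.IsStrictlyGE a') ∧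
      (∀ a : ℤ, K.IsStrictlyLE a → L.IsStrictlyLE a → ∃ a' : ℤ, L'.IsStrictlyLE a') := by
  have hz : ∀ n, IsZero (K.X n) → IsZero (K.X (n + 1)) → IsZero (L.X n) →
      IsZero ((mappingCone (𝟙 K) ⊞ L).X n) := by
    intro n h1 h2 h3
    refine IsZero.of_iso ?_ ((HomologicalComplex.eval V (ComplexShape.up ℤ) n).mapBiprod _ _)
    simp only [HomologicalComplex.eval_obj, biprod_isZero_iff, mappingCone.isZero_X_iff]
    exact ⟨⟨h2, h1⟩, h3⟩
  refine ⟨mappingCone (𝟙 K) ⊞ L, biprod.lift (mappingCone.inr (𝟙 K)) α, biprod.snd, biprod.inr,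
    biprod.lift_snd _ _, biprod.inr_snd, ⟨?_⟩, ?_, ?_, ?_⟩
  · let h : Homotopy ((biprod.fst : mappingCone (𝟙 K) ⊞ L ⟶ _) ≫ 𝟙 (mappingCone (𝟙 K)) ≫
        (biprod.inl : _ ⟶ mappingCone (𝟙 K) ⊞ L)) (biprod.fst ≫ 0 ≫ biprod.inl) :=
      ((mappingCone.homotopyToZeroOfId K).compRight biprod.inl).compLeft biprod.fst
    let h' := (Homotopy.refl ((biprod.snd : mappingCone (𝟙 K) ⊞ L ⟶ _) ≫ biprod.inr)).add h
    exact ((Homotopy.ofEq (by simp)).trans h'.symm).trans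
      (Homotopy.ofEq (by rw [Category.id_comp, add_comm, biprod.total]))
  · intro n
    refine exists_complement ((mappingCone.inl (𝟙 K)).v (n + 1) n (by lia))
      ((mappingCone.fst (𝟙 K)).1.v n (n + 1) rfl) ((mappingCone.inr (𝟙 K)).f n)
      ((mappingCone.snd (𝟙 K)).v n n (add_zero n)) (by simp) (by simp) (by simp) (by simp)
      (mappingCone.id_X _ _ _ _)
      ((biprod.inl : mappingCone (𝟙 K) ⟶ mappingCone (𝟙 K) ⊞ L).f n)
      ((biprod.fst : mappingCone (𝟙 K) ⊞ L ⟶ mappingCone (𝟙 K)).f n)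
      ((biprod.inr : L ⟶ mappingCone (𝟙 K) ⊞ L).f n)
      ((biprod.snd : mappingCone (𝟙 K) ⊞ L ⟶ L).f n) (by simp) (by simp) (by simp) (by simp)
      (biprod_total_f _ _ _) (α.f n) _ (by simp) (by simp)
  · intro a h1 h2
    refine ⟨a - 1, ?_⟩
    rw [isStrictlyGE_iff]
    intro i hi
    exact hz i (K.isZero_of_isStrictlyGE a i (by lia)) (K.isZero_of_isStrictlyGE a _ (by lia))
      (L.isZero_of_isStrictlyGE a i (by lia))
  · intro a h1 h2
    refine ⟨a, ?_⟩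
    rw [isStrictlyLE_iff]
    intro i hi
    exact hz i (K.isZero_of_isStrictlyLE a i (by lia)) (K.isZero_of_isStrictlyLE a _ (by lia))
      (L.isZero_of_isStrictlyLE a i (by lia))

/-- Let α : K ⟶ L be a morphism of cochain complexes over an additive category. There is a factorization
K ⟶ L' ⟶ L of α such that (1) K ⟶ L' is a termwise split injection (in each degree isomorphic to the
inclusion of a direct summand) and (2) L' ⟶ L admits a section s : L ⟶ L' (s followed by L' ⟶ L is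
the identity) such that L' ⟶ L followed by s is homotopic to the identity of L'. Moreover if K and L
are both bounded below, resp. both bounded above, then L' may be chosen bounded below, resp. bounded
above. -/
theorem result {V : Type u} [Category.{v} V] [Preadditive V] [HasBinaryBiproducts V] [HasZeroObject V]
    (K L : CochainComplex V ℤ) (α : K ⟶ L) :
    ∃ (L' : CochainComplex V ℤ) (α' : K ⟶ L') (π : L' ⟶ L) (s : L ⟶ L'),
      α' ≫ π = α ∧ s ≫ π = 𝟙 L ∧ Nonempty (Homotopy (π ≫ s) (𝟙 L')) ∧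
      (∀ n : ℤ, ∃ (C : V) (e : L'.X n ≅ K.X n ⊞ C), α'.f n ≫ e.hom = biprod.inl) ∧
      (∀ a : ℤ, K.IsStrictlyGE a → L.IsStrictlyGE a → ∃ a' : ℤ, L'.IsStrictlyGE a') ∧
      (∀ a : ℤ, K.IsStrictlyLE a → L.IsStrictlyLE a → ∃ a' : ℤ, L'.IsStrictlyLE a') := by
  exact main K L α

end Groth.Agent.S6598
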