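import Groth.Statements.S6600
import Mathlib.CategoryTheory.Triangulated.Orthogonal

set_option autoImplicit false
universe v u
open CategoryTheory CategoryTheory.Limits
open CohDer

namespace Groth.Agent.S6600

open CategoryTheory.Pretriangulated in
/-- Let D be a triangulated category, A ⊂ D a full subcategory invariant under all shifts, and X → Y → Z
→ X⟦1⟧ a distinguished triangle. Then Z lies in the right orthogonal A^⊥ if and only if Hom(A, X) →
Hom(A, Y) is bijective for every object A of A. -/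
theorem result {D : Type u} [Category.{v} D] [Preadditive D] [HasZeroObject D] [HasShift D ℤ]
    [∀ n : ℤ, (shiftFunctor D n).Additive] [Pretriangulated D] [IsTriangulated D]
    (P : ObjectProperty D) [P.IsStableUnderShift ℤ] (T : Triangle D) (hT : T ∈ distinguishedTriangles) :
    P.rightOrthogonal T.obj₃ ↔ ∀ A : D, P A → Function.Bijective (fun u : A ⟶ T.obj₁ => u ≫ T.mor₁) := by
  constructor
  · intro hZ A hA
    refine ⟨fun u₁ u₂ h => ?_, fun b => ?_⟩
    · rw [← sub_eq_zero]
      obtain ⟨b, hb⟩ := Triangle.coyoneda_exact₂ _ (inv_rot_of_distTriang _ hT) (u₁ - u₂)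
        (by change (u₁ - u₂) ≫ T.mor₁ = 0
            rw [Preadditive.sub_comp, sub_eq_zero]; exact h)
      have hb' : b = 0 := P.rightOrthogonal.le_shift (-1) _ hZ b hA
      rw [hb, hb']
      exact zero_comp
    · obtain ⟨a, ha⟩ := Triangle.coyoneda_exact₂ _ hT b (hZ _ hA)
      exact ⟨a, ha.symm⟩
  · intro H A f hA
    let i : (shiftFunctor D (1 : ℤ)).obj ((shiftFunctor D (-1 : ℤ)).obj A) ≅ A :=
      (shiftEquiv D (1 : ℤ)).counitIso.app A
    have hA' : P ((shiftFunctor D (-1 : ℤ)).obj A) := P.le_shift (-1 : ℤ) _ hA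
    obtain ⟨u, hu⟩ := (shiftFunctor D (1 : ℤ)).map_surjective (i.hom ≫ f ≫ T.mor₃)
    have h1 : u ≫ T.mor₁ = 0 := by
      apply (shiftFunctor D (1 : ℤ)).map_injective
      rw [Functor.map_comp, hu, Category.assoc, Category.assoc, comp_distTriang_mor_zero₃₁ _ hT,
        comp_zero, comp_zero, Functor.map_zero]
    have h2 : u = 0 := (H _ hA').1 (by simpa using h1)
    have h3 : f ≫ T.mor₃ = 0 := by
      rw [← cancel_epi i.hom, ← hu, h2, Functor.map_zero, comp_zero]
    obtain ⟨g, hg⟩ := Triangle.coyoneda_exact₃ _ hT f h3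
    obtain ⟨v, hv⟩ := (H A hA).2 g
    dsimp only at hv
    rw [hg, ← hv, Category.assoc, comp_distTriang_mor_zero₁₂ _ hT, comp_zero]

end Groth.Agent.S6600
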