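import Groth.Statements.S6601
import Mathlib.CategoryTheory.Triangulated.Orthogonal

set_option autoImplicit false
universe v u
open CategoryTheory CategoryTheory.Limits
open CohDer

namespace Groth.Agent.S6601

open CategoryTheory.Pretriangulated in
/-- Let D be a triangulated category, B ⊂ D a full subcategory invariant under all shifts, and X → Y → Z
→ X⟦1⟧ a distinguished triangle. Then X lies in the left orthogonal ^⊥B if and only if Hom(Z, B) →
Hom(Y, B) is bijective for every object B of B. -/
theorem result {D : Type u} [Category.{v} D] [Preadditive D] [HasZeroObject D] [HasShift D ℤ]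
    [∀ n : ℤ, (shiftFunctor D n).Additive] [Pretriangulated D] [IsTriangulated D]
    (P : ObjectProperty D) [P.IsStableUnderShift ℤ] (T : Triangle D) (hT : T ∈ distinguishedTriangles) :
    P.leftOrthogonal T.obj₁ ↔ ∀ B : D, P B → Function.Bijective (fun u : T.obj₃ ⟶ B => T.mor₂ ≫ u) := by
  constructor
  · intro hX B hB
    refine ⟨fun u₁ u₂ h => ?_, fun b => ?_⟩
    · rw [← sub_eq_zero]
      obtain ⟨b, hb⟩ := Triangle.yoneda_exact₃ _ hT (u₁ - u₂)
        (by rw [Preadditive.comp_sub, sub_eq_zero]; exact h)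
      have hb' : b = 0 := P.leftOrthogonal.le_shift (1 : ℤ) _ hX b hB
      rw [hb, hb', comp_zero]
    · obtain ⟨a, ha⟩ := Triangle.yoneda_exact₂ _ hT b (hX _ hB)
      exact ⟨a, ha.symm⟩
  · intro H B f hB
    have hB' : P ((shiftFunctor D (1 : ℤ)).obj B) := P.le_shift (1 : ℤ) _ hB
    have h1 : T.mor₃ ≫ (shiftFunctor D (1 : ℤ)).map f = 0 := by
      apply (H _ hB').1
      dsimp only
      rw [comp_distTriang_mor_zero₂₃_assoc _ hT, zero_comp, comp_zero]
    obtain ⟨g, hg⟩ := Triangle.yoneda_exact₃ _ (rot_of_distTriang _ hT)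
      ((shiftFunctor D (1 : ℤ)).map f) h1
    change (shiftFunctor D (1 : ℤ)).obj T.obj₂ ⟶ _ at g
    change _ = (- (shiftFunctor D (1 : ℤ)).map T.mor₁) ≫ g at hg
    obtain ⟨g', rfl⟩ := (shiftFunctor D (1 : ℤ)).map_surjective g
    obtain ⟨v, hv⟩ := (H B hB).2 g'
    dsimp only at hv
    apply (shiftFunctor D (1 : ℤ)).map_injective
    rw [hg, Functor.map_zero, ← hv, Preadditive.neg_comp, ← Functor.map_comp,
      comp_distTriang_mor_zero₁₂_assoc _ hT, zero_comp, Functor.map_zero, neg_zero]

end Groth.Agent.S6601
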