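import Groth.Statements.S6602
import Mathlib.CategoryTheory.Triangulated.Orthogonal
import Groth.Agent.S6601

set_option autoImplicit false
universe v u
open CategoryTheory CategoryTheory.Limits
open CohDer

namespace Groth.Agent.S6602

open CategoryTheory.Pretriangulated in
/-- (1) ⇔ (2): let D be a triangulated category and B a full triangulated subcategory. The inclusion
functor B → D has a left adjoint if and only if for every X in D there is a distinguished triangle A
→ X → B → A⟦1⟧ with B in B and A in the left orthogonal ^⊥B. (The published statement further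
asserts that B is then saturated and, when strictly full, equals the right orthogonal of its left
orthogonal; this row asserts only the equivalence.) -/
theorem result {D : Type u} [Category.{v} D] [Preadditive D] [HasZeroObject D] [HasShift D ℤ]
    [∀ n : ℤ, (shiftFunctor D n).Additive] [Pretriangulated D] [IsTriangulated D]
    (P : ObjectProperty D) [P.IsTriangulated] :
    P.ι.IsRightAdjoint ↔ ∀ X : D, ∃ (A B : D) (f : A ⟶ X) (g : X ⟶ B) (h : B ⟶ (shiftFunctor D (1 : ℤ)).obj A),
      Triangle.mk f g h ∈ distinguishedTriangles ∧ P B ∧ P.leftOrthogonal A := by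
  constructor
  · intro hadj X
    let L := P.ι.leftAdjoint
    let adj : L ⊣ P.ι := Adjunction.ofIsRightAdjoint P.ι
    let B : D := (L.obj X).obj
    have hB : P B := (L.obj X).property
    let η : X ⟶ B := adj.unit.app X
    obtain ⟨A, f, h, hT⟩ := distinguished_cocone_triangle₁ η
    refine ⟨A, B, f, η, h, hT, hB, ?_⟩
    refine (Groth.Agent.S6601.result P (Triangle.mk f η h) hT).2 (fun E hE => ⟨?_, ?_⟩)
    · intro a b hab
      have h1 : adj.homEquiv X ⟨E, hE⟩ (ObjectProperty.homMk a) =
          adj.homEquiv X ⟨E, hE⟩ (ObjectProperty.homMk b) := by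
        rw [Adjunction.homEquiv_unit, Adjunction.homEquiv_unit]
        exact hab
      have h2 := (adj.homEquiv X ⟨E, hE⟩).injective h1
      exact congrArg (fun φ => φ.hom) h2
    · intro b
      refine ⟨((adj.homEquiv X ⟨E, hE⟩).symm b).hom, ?_⟩
      have := (adj.homEquiv X ⟨E, hE⟩).apply_symm_apply b
      rw [Adjunction.homEquiv_unit] at this
      exact this
  · intro H
    choose A B f g h hT hB hA using H
    have bij : ∀ (X E : D) (_ : P E), Function.Bijective (fun u : B X ⟶ E => g X ≫ u) :=
      fun X E hE => (Groth.Agent.S6601.result P (Triangle.mk (f X) (g X) (h X)) (hT X)).1 (hA X) E hE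
    let e : ∀ (X : D) (E : P.FullSubcategory), ((⟨B X, hB X⟩ : P.FullSubcategory) ⟶ E) ≃ (X ⟶ P.ι.obj E) :=
      fun X E => Equiv.ofBijective (fun (φ : (⟨B X, hB X⟩ : P.FullSubcategory) ⟶ E) => g X ≫ φ.hom)
        ⟨fun φ ψ hφψ => by
          ext
          exact (bij X _ E.property).1 hφψ, fun b => by
          obtain ⟨a, ha⟩ := (bij X _ E.property).2 b
          exact ⟨ObjectProperty.homMk a, ha⟩⟩
    refine ⟨⟨_, ⟨Adjunction.adjunctionOfEquivLeft e ?_⟩⟩⟩
    intro X E E' φ ψ
    change g X ≫ (ψ ≫ φ).hom = (g X ≫ ψ.hom) ≫ φ.hom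
    rw [ObjectProperty.FullSubcategory.comp_hom, Category.assoc]

end Groth.Agent.S6602
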