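import Groth.Statements.S6606
import Groth.Agent.CohDer.K235.KProjLift

set_option autoImplicit false
universe v u
open CategoryTheory CategoryTheory.Limits
open CohDer

namespace Groth.Agent.S6606

/-- Let A be an abelian category, β : P ⟶ L and α : E ⟶ L morphisms of cochain complexes and n an
integer. Assume P is a bounded complex of projective objects with Pⁱ = 0 for i < n, and that Hⁱ(α)
is an isomorphism for i > n and an epimorphism for i = n. Then there is γ : P ⟶ E such that γ ≫ α is
homotopic to β. -/
theorem result {A : Type u} [Category.{v} A] [Abelian A]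
    (P E L : CochainComplex A ℤ) (β : P ⟶ L) (α : E ⟶ L) (n b : ℤ) [P.IsStrictlyGE n] [P.IsStrictlyLE b]
    (hP : ∀ i : ℤ, Projective (P.X i))
    (hiso : ∀ i : ℤ, n < i → IsIso (HomologicalComplex.homologyMap α i)) (hepi : Epi (HomologicalComplex.homologyMap α n)) :
    ∃ γ : P ⟶ E, Nonempty (Homotopy (γ ≫ α) β) := by
  have hP' : ∀ i : ℤ, Projective (P.X i) := hP
  have : P.IsKProjective := CochainComplex.isKProjective_of_projective _ b
  refine K235.KProjLift.exists_lift_of_homology β α n (fun i hi => ?_) (fun i hi => ?_)
  · have := hiso i hi
    infer_instance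
  · rcases hi.eq_or_lt with rfl | hi
    · exact hepi
    · have := hiso i hi
      infer_instance

end Groth.Agent.S6606
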