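import Groth.Statements.S6607
import Mathlib.CategoryTheory.Triangulated.Orthogonal

set_option autoImplicit false
universe v u
open CategoryTheory CategoryTheory.Limits
open CohDer

namespace Groth.Agent.S6607

section

open CategoryTheory.Pretriangulated CategoryTheory.ObjectProperty CategoryTheory.Limits

variable {D : Type u} [Category.{v} D] [Preadditive D] [Limits.HasZeroObject D] [HasShift D ℤ]
    [∀ n : ℤ, (shiftFunctor D n).Additive] [Pretriangulated D]

/-- An extension of an object of `^⊥B` by an object of `B` splits. -/
lemma swap_le (B : ObjectProperty D) [B.IsTriangulated] :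
    extensionProduct B B.leftOrthogonal ≤ extensionProduct B.leftOrthogonal B := by
  rintro X ⟨Y, Z, f, g, h, hT, hY, hZ⟩
  have h0 : h = 0 := hZ h (B.le_shift (1 : ℤ) _ hY)
  obtain ⟨e, -, -⟩ := exists_iso_binaryBiproduct_of_distTriang _ hT h0
  refine (extensionProduct B.leftOrthogonal B).prop_of_iso (e ≪≫ biprod.braiding _ _).symm ?_
  exact ⟨_, _, _, _, _, binaryBiproductTriangle_distinguished Z Y, hZ, hY⟩

lemma mul_le (B : ObjectProperty D) [B.IsTriangulated] [IsTriangulated D] :
    extensionProduct (extensionProduct B.leftOrthogonal B)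
      (extensionProduct B.leftOrthogonal B) ≤ extensionProduct B.leftOrthogonal B := by
  rw [extensionProduct_assoc, ← extensionProduct_assoc B]
  refine (monotone_extensionProduct_right _
    (monotone_extensionProduct_left _ (swap_le B))).trans ?_
  rw [extensionProduct_assoc, ← extensionProduct_assoc]
  refine (monotone_extensionProduct_right _
    (extensionProduct_le_of_isTriangulatedClosed₂' (Q := B) le_rfl le_rfl)).trans ?_
  rw [extensionProduct_isoClosure_right]
  exact monotone_extensionProduct_left _
    (extensionProduct_le_of_isTriangulatedClosed₂ (Q := B.leftOrthogonal) le_rfl le_rfl)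

lemma main (B : ObjectProperty D) [B.IsTriangulated] [IsTriangulated D] :
    (extensionProduct B.leftOrthogonal B).IsTriangulated where
  exists_zero := by
    obtain ⟨Z, hZ, hZ'⟩ := B.exists_prop_of_containsZero
    exact ⟨Z, hZ, le_extensionProduct_right _ _ hZ'⟩
  ext₂' := by
    intro T hT h₁ h₃
    exact ObjectProperty.le_isoClosure _ _ (mul_le B _ ⟨_, _, _, _, _, hT, h₁, h₃⟩)

end

open CategoryTheory.Pretriangulated in
/-- Let D be a triangulated category and B a full triangulated subcategory. Let P(X) be the property:
there is a distinguished triangle A → X → B → A⟦1⟧ with B in B and A in ^⊥B. Then P satisfies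
two-out-of-three in distinguished triangles, i.e. it is stable under all shifts and closed under
extensions (a triangulated object property). -/
theorem result {D : Type u} [Category.{v} D] [Preadditive D] [HasZeroObject D] [HasShift D ℤ]
    [∀ n : ℤ, (shiftFunctor D n).Additive] [Pretriangulated D] [IsTriangulated D]
    (B : ObjectProperty D) [B.IsTriangulated] :
    ObjectProperty.IsTriangulated (fun X : D => ∃ (A Y : D) (f : A ⟶ X) (g : X ⟶ Y) (h : Y ⟶ (shiftFunctor D (1 : ℤ)).obj A),
      Triangle.mk f g h ∈ distinguishedTriangles ∧ B Y ∧ B.leftOrthogonal A) := by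
  convert main B using 1
  ext X
  constructor
  · rintro ⟨A, Y, f, g, h, hT, hY, hA⟩
    exact ⟨A, Y, f, g, h, hT, hA, hY⟩
  · rintro ⟨A, Y, f, g, h, hT, hA, hY⟩
    exact ⟨A, Y, f, g, h, hT, hY, hA⟩

end Groth.Agent.S6607
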