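import Groth.Statements.S6608

set_option autoImplicit false
universe v u
open CategoryTheory CategoryTheory.Limits
open CohDer

namespace Groth.Agent.S6608

open CategoryTheory.Pretriangulated ZeroObject in
/-- Let D be a pretriangulated category and S a set of arrows of D containing the identities and
satisfying MS6 (compatibility with the triangulated structure; here together with stability under
shifts, MS5). Then every isomorphism of D lies in S. -/
theorem result {D : Type u} [Category.{v} D] [Preadditive D] [HasZeroObject D] [HasShift D ℤ]
    [∀ n : ℤ, (shiftFunctor D n).Additive] [Pretriangulated D]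
    (S : MorphismProperty D) [S.ContainsIdentities] [S.IsCompatibleWithTriangulation]
    {X Y : D} (f : X ⟶ Y) [IsIso f] : S f := by
  have hT : Triangle.mk (0 : (0 : D) ⟶ X) f (0 : Y ⟶ (shiftFunctor D (1 : ℤ)).obj (0 : D)) ∈
      distinguishedTriangles := by
    refine isomorphic_distinguished _ (contractible_distinguished₁ X) _ ?_
    refine Triangle.isoMk _ _ (Iso.refl (0 : D)) (Iso.refl X) (asIso f).symm ?_ ?_ ?_
    · exact zero_comp.trans comp_zero.symm
    · exact (IsIso.hom_inv_id f).trans (Category.id_comp _).symm
    · exact zero_comp.trans comp_zero.symm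
  obtain ⟨c, hc, h₁, -⟩ := MorphismProperty.compatible_with_triangulation (W := S)
    _ _ (contractible_distinguished₁ X) hT (𝟙 (0 : D)) (𝟙 X) (S.id_mem _) (S.id_mem _)
    (zero_comp.trans comp_zero.symm)
  change 𝟙 X ≫ c = 𝟙 X ≫ f at h₁
  rw [Category.id_comp, Category.id_comp] at h₁
  rw [← h₁]
  exact hc

end Groth.Agent.S6608
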