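import Groth.Statements.S6610
import Groth.Agent.Cohder.LeftResRel

set_option autoImplicit false
universe v u
open CategoryTheory CategoryTheory.Limits
open CohDer

namespace Groth.Agent.S6610

section

open Groth.Agent.Cohder Groth.Agent.Cohder.LeftRes

variable {A : Type u} [Category.{v} A] [Abelian A] [EnoughProjectives A]

/-- bounded above complexes are quotients of complexes of projectives -/
lemma exists_resolution_projective (K : CochainComplex A ℤ) (b : ℤ) [K.IsStrictlyLE b] :
    ∃ (R : CochainComplex A ℤ) (ρ : R ⟶ K), R.IsStrictlyLE b ∧ QuasiIso ρ ∧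
      (∀ i, Epi (ρ.f i)) ∧ ∀ i, Projective (R.X i) := by
  let P : ObjectProperty A := fun X => Projective X
  have : P.IsClosedUnderIsomorphisms := ⟨fun e h => Projective.of_iso e h⟩
  let C : Cover P :=
    { obj := fun X => Projective.over X
      π := fun X => Projective.π X
      prop := fun X => Projective.projective_over X
      epi := fun X => Projective.π_epi X }
  exact exists_resolution C ⟨_, isZero_zero A, (isZero_zero A).projective⟩ K b

end

/-- Let A be an abelian category with enough projectives and S : 0 → A• → B• → C• → 0 a short exact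
sequence of cochain complexes all vanishing above degree n. Then there are a short exact sequence T
: 0 → P₁ → P₂ → P₃ → 0 of complexes of projective objects vanishing above degree n and a morphism of
short exact sequences T ⟶ S whose three components are quasi-isomorphisms (projective resolutions).
(The published statement is phrased for bounded below complexes; projective resolutions are bounded
above by definition and exist only for complexes with cohomology bounded above, so the statement is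
given here for bounded above complexes, the case dual to the injective one.) -/
theorem result {A : Type u} [Category.{v} A] [Abelian A] [EnoughProjectives A]
    (S : ShortComplex (CochainComplex A ℤ)) (hS : S.ShortExact) (n : ℤ)
    [S.X₁.IsStrictlyLE n] [S.X₂.IsStrictlyLE n] [S.X₃.IsStrictlyLE n] :
    ∃ (T : ShortComplex (CochainComplex A ℤ)) (φ : T ⟶ S), T.ShortExact ∧
      T.X₁.IsStrictlyLE n ∧ T.X₂.IsStrictlyLE n ∧ T.X₃.IsStrictlyLE n ∧
      (∀ k : ℤ, Projective (T.X₁.X k) ∧ Projective (T.X₂.X k) ∧ Projective (T.X₃.X k)) ∧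
      QuasiIso φ.τ₁ ∧ QuasiIso φ.τ₂ ∧ QuasiIso φ.τ₃ := by
  obtain ⟨R₃, ρ₃, hR₃, hρ₃, hρe₃, hRP₃⟩ := exists_resolution_projective S.X₃ n
  have hρ₃' : Epi ρ₃ := HomologicalComplex.epi_of_epi_f ρ₃ hρe₃
  let T₀ := Groth.Agent.Cohder.LeftRes.pbSES (S := S) ρ₃
  have hT₀ : T₀.ShortExact := Groth.Agent.Cohder.LeftRes.pbSES_shortExact hS ρ₃
  let φ₀ : T₀ ⟶ S := Groth.Agent.Cohder.LeftRes.pbSESMap (S := S) ρ₃
  have h2 : QuasiIso φ₀.τ₂ := Groth.Agent.Cohder.SESQuasiIso.quasiIso_τ₂ φ₀ hT₀ hS
    (inferInstanceAs (QuasiIso (𝟙 S.X₁))) hρ₃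
  have hT₀n : T₀.X₂.IsStrictlyLE n := by
    rw [CochainComplex.isStrictlyLE_iff]
    intro i hi
    have h := hT₀.map_of_exact (HomologicalComplex.eval A (ComplexShape.up ℤ) i)
    exact h.exact.isZero_of_both_zeros
      ((S.X₁.isZero_of_isStrictlyLE n i hi).eq_of_src _ _)
      ((R₃.isZero_of_isStrictlyLE n i hi).eq_of_tgt _ _)
  obtain ⟨R₂, ρ₂, hR₂, hρ₂, hρe₂, hRP₂⟩ := exists_resolution_projective T₀.X₂ n
  have hρ₂' : Epi ρ₂ := HomologicalComplex.epi_of_epi_f ρ₂ hρe₂
  have hg₀ : Epi T₀.g := hT₀.epi_g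
  let b : R₂ ⟶ R₃ := ρ₂ ≫ T₀.g
  have hb : Epi b := epi_comp ρ₂ T₀.g
  let T : ShortComplex (CochainComplex A ℤ) := ShortComplex.mk (kernel.ι b) b (kernel.condition b)
  have hT : T.ShortExact :=
    { exact := ShortComplex.exact_kernel b
      mono_f := inferInstanceAs (Mono (kernel.ι b))
      epi_g := hb }
  have hTi : ∀ i, (T.map (HomologicalComplex.eval A (ComplexShape.up ℤ) i)).ShortExact :=
    fun i => hT.map_of_exact _
  have hT₁n : T.X₁.IsStrictlyLE n := by
    rw [CochainComplex.isStrictlyLE_iff]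
    intro i hi
    have : Mono (T.f.f i) := (hTi i).mono_f
    exact IsZero.of_mono (T.f.f i) (R₂.isZero_of_isStrictlyLE n i hi)
  have hT₁p : ∀ i, Projective (T.X₁.X i) := by
    intro i
    have h3 : Projective (T.map (HomologicalComplex.eval A (ComplexShape.up ℤ) i)).X₃ := hRP₃ i
    have h2 := hRP₂ i
    have s := (hTi i).splittingOfProjective
    have : Retract (T.X₁.X i) (R₂.X i) := { i := T.f.f i, r := s.r, retract := s.f_r }
    exact this.projective
  have hf₀ : Mono T₀.f := hT₀.mono_f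
  let φ : T ⟶ T₀ :=
    { τ₁ := hT₀.exact.lift (kernel.ι b ≫ ρ₂) (by rw [Category.assoc]; exact kernel.condition b)
      τ₂ := ρ₂
      τ₃ := 𝟙 _
      comm₁₂ := hT₀.exact.lift_f _ _
      comm₂₃ := (Category.comp_id _).symm }
  have h1 : QuasiIso φ.τ₁ := Groth.Agent.Cohder.SESQuasiIso.quasiIso_τ₁ φ hT hT₀
    hρ₂ (inferInstanceAs (QuasiIso (𝟙 R₃)))
  refine ⟨T, φ ≫ φ₀, hT, hT₁n, hR₂, hR₃, fun k => ⟨hT₁p k, hRP₂ k, hRP₃ k⟩, ?_, ?_, ?_⟩
  · have : QuasiIso φ₀.τ₁ := inferInstanceAs (QuasiIso (𝟙 S.X₁))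
    exact inferInstanceAs (QuasiIso (φ.τ₁ ≫ φ₀.τ₁))
  · exact inferInstanceAs (QuasiIso (ρ₂ ≫ φ₀.τ₂))
  · exact inferInstanceAs (QuasiIso (𝟙 R₃ ≫ ρ₃))

end Groth.Agent.S6610
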