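import Groth.Statements.S6611
import Groth.Agent.Cohder.RDInt

set_option autoImplicit false
universe v u
open CategoryTheory CategoryTheory.Limits
open CohDer

namespace Groth.Agent.S6611

/-- Let A be an abelian category, α : K ⟶ L a quasi-isomorphism of cochain complexes which is injective
in every degree, I a bounded below complex of injective objects and γ : K ⟶ I a morphism. Then there
is a morphism β : L ⟶ I with α ≫ β = γ. -/
theorem result {A : Type u} [Category.{v} A] [Abelian A]
    (K L I : CochainComplex A ℤ) (α : K ⟶ L) [QuasiIso α] (hα : ∀ n : ℤ, Mono (α.f n))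
    (a : ℤ) [I.IsStrictlyGE a] (hI : ∀ n : ℤ, Injective (I.X n)) (γ : K ⟶ I) :
    ∃ β : L ⟶ I, α ≫ β = γ := by
  classical
  have hI' : ∀ n : ℤ, Injective (I.X n) := hI
  have hα' : ∀ n : ℤ, Mono (α.f n) := hα
  have : I.IsKInjective := CochainComplex.isKInjective_of_injective _ a
  obtain ⟨β₀, ⟨h⟩⟩ := Groth.Agent.Cohder.RDInt.exists_ext α γ
  let H : ∀ i j, L.X i ⟶ I.X j := fun i j => Injective.factorThru (h.hom i j) (α.f i)
  have hH : ∀ i j, α.f i ≫ H i j = h.hom i j := fun i j => Injective.comp_factorThru _ _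
  let N : L ⟶ I := Homotopy.nullHomotopicMap H
  have hN : α ≫ N = α ≫ β₀ - γ := by
    dsimp only [N]
    rw [Homotopy.comp_nullHomotopicMap]
    simp only [hH]
    ext i
    rw [HomologicalComplex.sub_f_apply, h.comm i, add_sub_cancel_right]
    rfl
  exact ⟨β₀ - N, by rw [Preadditive.comp_sub, hN, sub_sub_cancel]⟩

end Groth.Agent.S6611
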