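import Groth.Statements.S6612

set_option autoImplicit false
universe v u
open CategoryTheory CategoryTheory.Limits
open CohDer

namespace Groth.Agent.S6612

lemma main {V : Type u} [Category.{v} V] [Preadditive V]
    {A B C : CochainComplex V ℤ} (f : A ⟶ B) (g : B ⟶ C)
    (r : ∀ n, B.X n ⟶ A.X n) (s : ∀ n, C.X n ⟶ B.X n)
    (hfr : ∀ n, f.f n ≫ r n = 𝟙 _) (hsg : ∀ n, s n ≫ g.f n = 𝟙 _)
    (hid : ∀ n, r n ≫ f.f n = 𝟙 _ - g.f n ≫ s n)
    {B₁ B₃ : CochainComplex V ℤ} (b : B₁ ⟶ B) (b' : B ⟶ B₃)
    (h : Homotopy (b ≫ g) 0) (h' : Homotopy (f ≫ b') 0) :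
    Nonempty (Homotopy (b ≫ b') 0) := by
  -- lift the homotopy to the middle term
  let H : ∀ i j, B₁.X i ⟶ B.X j := fun i j => h.hom i j ≫ s j
  have H0 : ∀ i j, ¬ (ComplexShape.up ℤ).Rel j i → H i j = 0 := fun i j hij => by
    dsimp only [H]
    rw [h.zero i j hij, zero_comp]
  let N : B₁ ⟶ B := Homotopy.nullHomotopicMap H
  have hNg : N ≫ g = b ≫ g := by
    dsimp only [N]
    rw [Homotopy.nullHomotopicMap_comp]
    ext i
    rw [h.comm i]
    simp only [H, Category.assoc, hsg, Category.comp_id]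
    simp [Homotopy.nullHomotopicMap]
  have hb₁ : ∀ n, (b - N).f n ≫ g.f n = 0 := fun n => by
    rw [← HomologicalComplex.comp_f, Preadditive.sub_comp, hNg, sub_self, HomologicalComplex.zero_f]
  have hfac : ∀ n, (b - N).f n ≫ r n ≫ f.f n = (b - N).f n := fun n => by
    rw [hid, Preadditive.comp_sub, Category.comp_id, reassoc_of% (hb₁ n), zero_comp, sub_zero]
  have hmono : ∀ n, Mono (f.f n) := fun n => mono_of_mono_fac (hfr n)
  let c : B₁ ⟶ A :=
    { f := fun n => (b - N).f n ≫ r n
      comm' := fun i j hij => by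
        have := hmono j
        rw [← cancel_mono (f.f j), Category.assoc, Category.assoc, Category.assoc, Category.assoc,
          hfac j, ← f.comm i j, reassoc_of% (hfac i)]
        exact (b - N).comm i j }
  have hc : c ≫ f = b - N := by
    ext n
    exact (Category.assoc _ _ _).trans (hfac n)
  have e : b ≫ b' = c ≫ f ≫ b' + N ≫ b' := by
    rw [← Category.assoc c, hc, Preadditive.sub_comp, sub_add_cancel]
  rw [e]
  have h1 : Homotopy (c ≫ f ≫ b') 0 := (h'.compLeft c).trans (Homotopy.ofEq (by simp))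
  have h2 : Homotopy (N ≫ b') 0 :=
    ((Homotopy.nullHomotopy H H0).compRight b').trans (Homotopy.ofEq (by simp))
  exact ⟨(h1.add h2).trans (Homotopy.ofEq (by simp))⟩

/-- Let A be an additive category and 0 → A₂ → B₂ → C₂ → 0 a termwise split exact sequence of complexes.
Given a chain map b from a complex B₁ into B₂ and a chain map b' from B₂ into a complex B₃, suppose
that both composites b ≫ (B₂ → C₂) and (A₂ → B₂) ≫ b' are null-homotopic. Then b ≫ b' is homotopic
to zero. (The published statement has three termwise split sequences Aᵢ → Bᵢ → Cᵢ and asks both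
squares of each diagram to commute up to homotopy; this row keeps only the middle sequence and the
two conditions at B₂ that the argument uses, so it is more general.) -/
theorem result {V : Type u} [Category.{v} V] [Preadditive V] [HasBinaryBiproducts V]
    (S : ShortComplex (CochainComplex V ℤ))
    (σ : ∀ n : ℤ, (S.map (HomologicalComplex.eval V (ComplexShape.up ℤ) n)).Splitting)
    {B₁ B₃ : CochainComplex V ℤ} (b : B₁ ⟶ S.X₂) (b' : S.X₂ ⟶ B₃)
    (hb : Nonempty (Homotopy (b ≫ S.g) 0)) (hb' : Nonempty (Homotopy (S.f ≫ b') 0)) :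
    Nonempty (Homotopy (b ≫ b') 0) := by
  obtain ⟨h⟩ := hb
  obtain ⟨h'⟩ := hb'
  exact main S.f S.g (fun n => (σ n).r) (fun n => (σ n).s) (fun n => (σ n).f_r)
    (fun n => (σ n).s_g) (fun n => (σ n).r_f) b b' h h'

end Groth.Agent.S6612
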