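import Groth.Statements.S6614
import Groth.Agent.CohDer.K235.SplitTri

set_option autoImplicit false
universe v u
open CategoryTheory CategoryTheory.Limits Opposite
open CohDer

namespace Groth.Agent.S6614

/-- Let D be a triangulated category and (A_n) an ℕ-indexed inverse system of D which is essentially
constant with value A relative to the cone c. Then there are an index i and direct sum
decompositions A_{i+j} ≅ A ⊞ Z_j (j ≥ 0) such that (a) c_{i+j} is the inclusion of the summand A and
the transition maps A_{i+k} → A_{i+j} are 𝟙_A ⊕ (Z_k → Z_j), and (b) for every j there is k ≥ j with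
Z_k → Z_j zero. (The published statement is an equivalence whose converse is given without proof;
this row states only the forward implication.) -/
theorem result {D : Type u} [Category.{v} D] [Preadditive D] [HasZeroObject D] [HasShift D ℤ]
    [∀ n : ℤ, (shiftFunctor D n).Additive] [Pretriangulated D] [IsTriangulated D]
    (X : ARSys.PS D) (A : D) (c : (Functor.const ℕᵒᵖ).obj A ⟶ X) (hX : DerCA.IsEssConstant X A c) :
    ∃ (i : ℕ) (Z : ℕ → D) (e : ∀ j : ℕ, X.obj (op (i + j)) ≅ A ⊞ Z j) (z : ∀ j k : ℕ, j ≤ k → (Z k ⟶ Z j)),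
      (∀ j : ℕ, c.app (op (i + j)) ≫ (e j).hom = biprod.inl) ∧
      (∀ (j k : ℕ) (hjk : j ≤ k), (e k).inv ≫ ARSys.tr X (Nat.add_le_add_left hjk i) = biprod.map (𝟙 A) (z j k hjk) ≫ (e j).inv) ∧
      (∀ j : ℕ, ∃ (k : ℕ) (hjk : j ≤ k), z j k hjk = 0) := by
  obtain ⟨i, s, hs, hc⟩ := hX
  -- the components of the cone, as maps out of `A`
  obtain ⟨cn, hcn0⟩ : ∃ cn : ∀ n : ℕ, A ⟶ X.obj (op n), ∀ n, cn n = c.app (op n) :=
    ⟨fun n => c.app (op n), fun n => rfl⟩
  have hcn : ∀ {n m : ℕ} (h : n ≤ m), cn m ≫ ARSys.tr X h = cn n := by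
    intro n m h
    rw [hcn0, hcn0]
    have := c.naturality (homOfLE h).op
    simpa using this.symm
  replace hs : cn i ≫ s = 𝟙 A := by rw [hcn0]; exact hs
  replace hc : ∀ j : ℕ, ∃ (k : ℕ) (hi : i ≤ k) (hj : j ≤ k),
      ARSys.tr X hj = ARSys.tr X hi ≫ s ≫ cn j := by
    intro j
    obtain ⟨k, hi, hj, h⟩ := hc j
    exact ⟨k, hi, hj, by rw [hcn0]; exact h⟩
  have htr : ∀ {a b d : ℕ} (h : a ≤ b) (h' : b ≤ d),
      ARSys.tr X h' ≫ ARSys.tr X h = ARSys.tr X (h.trans h') := by
    intro a b d h h'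
    simp only [ARSys.tr]
    rw [← Functor.map_comp]
    rfl
  -- the retractions at the later stages
  let sj : ∀ j : ℕ, X.obj (op (i + j)) ⟶ A := fun j => ARSys.tr X (Nat.le_add_right i j) ≫ s
  have hsj : ∀ j, cn (i + j) ≫ sj j = 𝟙 A := by
    intro j
    change cn (i + j) ≫ ARSys.tr X (Nat.le_add_right i j) ≫ s = 𝟙 A
    rw [← Category.assoc, hcn]
    exact hs
  have hcomp : ∀ (j k : ℕ) (hjk : j ≤ k), ARSys.tr X (Nat.add_le_add_left hjk i) ≫ sj j = sj k := by
    intro j k hjk
    change ARSys.tr X (Nat.add_le_add_left hjk i) ≫ ARSys.tr X (Nat.le_add_right i j) ≫ s =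
      ARSys.tr X (Nat.le_add_right i k) ≫ s
    rw [← Category.assoc, htr]
  have key : ∀ j, ∃ (Z : D) (q : X.obj (op (i + j)) ⟶ Z) (σ : Z ⟶ X.obj (op (i + j))),
      cn (i + j) ≫ q = 0 ∧ σ ≫ sj j = 0 ∧ σ ≫ q = 𝟙 Z ∧
      sj j ≫ cn (i + j) + q ≫ σ = 𝟙 _ := fun j =>
    K235.SplitTri.exists_complement (cn (i + j)) (sj j) (hsj j)
  choose Z q σ h1 h2 h3 h4 using key
  let e : ∀ j : ℕ, X.obj (op (i + j)) ≅ A ⊞ Z j := fun j =>
    { hom := biprod.lift (sj j) (q j)
      inv := biprod.desc (cn (i + j)) (σ j)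
      hom_inv_id := by
        rw [biprod.lift_desc]
        exact h4 j
      inv_hom_id := by
        apply biprod.hom_ext'
        · rw [biprod.inl_desc_assoc]
          apply biprod.hom_ext
          · rw [Category.assoc, biprod.lift_fst]
            simpa using hsj j
          · rw [Category.assoc, biprod.lift_snd]
            simpa using h1 j
        · rw [biprod.inr_desc_assoc]
          apply biprod.hom_ext
          · rw [Category.assoc, biprod.lift_fst]
            simpa using h2 j
          · rw [Category.assoc, biprod.lift_snd]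
            simpa using h3 j }
  refine ⟨i, Z, e, fun j k hjk => σ k ≫ ARSys.tr X (Nat.add_le_add_left hjk i) ≫ q j, ?_, ?_, ?_⟩
  · intro j
    rw [← hcn0]
    change cn (i + j) ≫ biprod.lift (sj j) (q j) = biprod.inl
    apply biprod.hom_ext
    · rw [Category.assoc, biprod.lift_fst, biprod.inl_fst]
      exact hsj j
    · rw [Category.assoc, biprod.lift_snd, biprod.inl_snd]
      exact h1 j
  · intro j k hjk
    rw [Iso.eq_comp_inv]
    change (biprod.desc (cn (i + k)) (σ k) ≫ ARSys.tr X (Nat.add_le_add_left hjk i)) ≫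
      biprod.lift (sj j) (q j) = biprod.map (𝟙 A)
        (σ k ≫ ARSys.tr X (Nat.add_le_add_left hjk i) ≫ q j)
    have hck := hcomp j k hjk
    have hctr : cn (i + k) ≫ ARSys.tr X (Nat.add_le_add_left hjk i) = cn (i + j) := hcn _
    generalize ARSys.tr X (Nat.add_le_add_left hjk i) = T at hck hctr ⊢
    apply biprod.hom_ext'
    · apply biprod.hom_ext
      · simp only [Category.assoc, biprod.lift_fst, biprod.map_fst, biprod.inl_desc_assoc,
          biprod.inl_fst_assoc]
        rw [hck, hsj]
      · simp only [Category.assoc, biprod.lift_snd, biprod.map_snd, biprod.inl_desc_assoc,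
          biprod.inl_snd_assoc, zero_comp]
        rw [← Category.assoc, hctr, h1]
    · apply biprod.hom_ext
      · simp only [Category.assoc, biprod.lift_fst, biprod.map_fst, biprod.inr_desc_assoc,
          biprod.inr_fst_assoc, zero_comp]
        rw [hck, h2]
      · simp only [Category.assoc, biprod.lift_snd, biprod.map_snd, biprod.inr_desc_assoc,
          biprod.inr_snd_assoc]
  · intro j
    obtain ⟨k, hi, hj, h⟩ := hc (i + j)
    obtain ⟨m, rfl⟩ := Nat.exists_eq_add_of_le hi
    have hjm : j ≤ m := by omega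
    refine ⟨m, hjm, ?_⟩
    change σ m ≫ ARSys.tr X hj ≫ q j = 0
    have h5 : ARSys.tr X hj = sj m ≫ cn (i + j) := by
      rw [h, Category.assoc]
    rw [h5, Category.assoc, h1, comp_zero, comp_zero]

end Groth.Agent.S6614
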