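import Groth.Statements.S6616
import Groth.Agent.CohDer.K235.RightResRel

set_option autoImplicit false
universe v u
open CategoryTheory CategoryTheory.Limits
open CohDer

namespace Groth.Agent.S6616

/-- Let I be a class of objects of an abelian category, closed under isomorphisms, containing 0, closed
under binary products, and such that every object is a subobject of an object of I. For any cochain
complex K there are bounded below complexes Iₙ (n ≥ 0) with terms in I, termwise injective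
quasi-isomorphisms πₙ : τ_{≥ -n}K ⟶ Iₙ and termwise split surjections pₙ : Iₙ₊₁ ⟶ Iₙ with termwise
kernels in I, such that K ⟶ τ_{≥ -(n+1)}K ⟶ Iₙ₊₁ ⟶ Iₙ equals K ⟶ τ_{≥ -n}K ⟶ Iₙ. (The published
system starts at τ_{≥ -1}K; this row starts at n = 0 with τ_{≥ 0}K. Closure of I under isomorphisms
is assumed so that closure under binary products has a meaning for a class of objects.) -/
theorem result {A : Type u} [Category.{v} A] [Abelian A] (I : ObjectProperty A) [I.IsClosedUnderIsomorphisms]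
    (hI0 : ∃ Z : A, IsZero Z ∧ I Z) (hIprod : ∀ X Y : A, I X → I Y → I (X ⊞ Y))
    (hI : ∀ X : A, ∃ (Y : A) (ι : X ⟶ Y), I Y ∧ Mono ι) (K : CochainComplex A ℤ) :
    ∃ (Q : ℕ → CochainComplex A ℤ) (p : ∀ n, Q (n + 1) ⟶ Q n) (π : ∀ n : ℕ, K.truncGE (-(n : ℤ)) ⟶ Q n),
      (∀ n, QuasiIso (π n) ∧ ∀ i, Mono ((π n).f i)) ∧
      (∀ n, ∃ a : ℤ, (Q n).IsStrictlyGE a) ∧ (∀ n i, I ((Q n).X i)) ∧
      (∀ n i, (∃ s : (Q n).X i ⟶ (Q (n + 1)).X i, s ≫ (p n).f i = 𝟙 _) ∧ I (kernel ((p n).f i))) ∧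
      (∀ n : ℕ, K.πTruncGE (-((n + 1 : ℕ) : ℤ)) ≫ π (n + 1) ≫ p n = K.πTruncGE (-(n : ℤ)) ≫ π n) := by
  -- the inductive construction
  let St : ℕ → Type (max u v) := fun n =>
    { q : Σ (Q : CochainComplex A ℤ), (K.truncGE (-(n : ℤ)) ⟶ Q) //
      q.1.IsStrictlyGE (-(n : ℤ)) ∧ QuasiIso q.2 ∧ (∀ i, Mono (q.2.f i)) ∧ ∀ i, I (q.1.X i) }
  have h0 : Nonempty (St 0) := by
    obtain ⟨Z, hZ, hZ'⟩ := hI0
    obtain ⟨O, hO⟩ : ∃ O : CochainComplex A ℤ, IsZero O := HasZeroObject.zero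
    have hOX : ∀ i, IsZero (O.X i) := fun i =>
      (HomologicalComplex.eval A (ComplexShape.up ℤ) i).map_isZero hO
    have : O.IsStrictlyGE (-((0 : ℕ) : ℤ)) := by
      rw [CochainComplex.isStrictlyGE_iff]
      exact fun i _ => hOX i
    obtain ⟨R, π, -, -, h1, h2, h3, h4, -⟩ :=
      K235.RightResRel.exists_factorization I ⟨Z, hZ, hZ'⟩ hIprod hI
        (0 : K.truncGE (-((0 : ℕ) : ℤ)) ⟶ O) (-((0 : ℕ) : ℤ))
        (fun i => I.prop_of_iso (hZ.iso (hOX i)) hZ')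
    exact ⟨⟨⟨R, π⟩, h1, h3, h4, h2⟩⟩
  have hstep : ∀ (n : ℕ) (s : St n), ∃ (t : St (n + 1)) (p : t.1.1 ⟶ s.1.1),
      (∀ i, (∃ r : s.1.1.X i ⟶ t.1.1.X i, r ≫ p.f i = 𝟙 _) ∧ I (kernel (p.f i))) ∧
      K.πTruncGE (-((n + 1 : ℕ) : ℤ)) ≫ t.1.2 ≫ p = K.πTruncGE (-(n : ℤ)) ≫ s.1.2 := by
    rintro n ⟨⟨Q, π⟩, h1, h2, h3, h4⟩
    dsimp only at h1 h2 h3 h4
    have : (K.truncGE (-(n : ℤ))).IsStrictlyGE (-((n + 1 : ℕ) : ℤ)) :=
      (K.truncGE (-(n : ℤ))).isStrictlyGE_of_ge _ (-(n : ℤ)) (by lia)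
    have h5 : Q.IsStrictlyGE (-((n + 1 : ℕ) : ℤ)) := Q.isStrictlyGE_of_ge _ (-(n : ℤ)) (by lia)
    let t : K.truncGE (-((n + 1 : ℕ) : ℤ)) ⟶ K.truncGE (-(n : ℤ)) :=
      CochainComplex.truncGEMap (K.πTruncGE (-(n : ℤ))) (-((n + 1 : ℕ) : ℤ)) ≫
        inv ((K.truncGE (-(n : ℤ))).πTruncGE (-((n + 1 : ℕ) : ℤ)))
    have ht : K.πTruncGE (-((n + 1 : ℕ) : ℤ)) ≫ t = K.πTruncGE (-(n : ℤ)) := by
      dsimp only [t]
      rw [CochainComplex.πTruncGE_naturality_assoc, IsIso.hom_inv_id, Category.comp_id]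
    obtain ⟨Q', π', p, h6, h7, h8, h9, h10, h11⟩ :=
      K235.RightResRel.exists_factorization I hI0 hIprod hI (t ≫ π) (-((n + 1 : ℕ) : ℤ)) h4
    refine ⟨⟨⟨Q', π'⟩, h7, h9, h10, h8⟩, p, h11, ?_⟩
    dsimp only
    rw [h6, ← Category.assoc, ht]
  choose nx p hp using hstep
  let s : ∀ n, St n := fun n => Nat.rec h0.some (fun n s => nx n s) n
  refine ⟨fun n => (s n).1.1, fun n => p n (s n), fun n => (s n).1.2, ?_, ?_, ?_, ?_, ?_⟩
  · exact fun n => ⟨(s n).2.2.1, (s n).2.2.2.1⟩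
  · exact fun n => ⟨_, (s n).2.1⟩
  · exact fun n i => (s n).2.2.2.2 i
  · exact fun n i => (hp n (s n)).1 i
  · exact fun n => (hp n (s n)).2

end Groth.Agent.S6616
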