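import Groth.Statements.S6617
import Groth.Agent.CohDer.K235.Factor

set_option autoImplicit false
universe v u
open CategoryTheory CategoryTheory.Limits
open CohDer

namespace Groth.Agent.S6617

/-- Let A be an additive category and A₀ → A₁ → A₂ → … a sequence of composable morphisms of complexes.
There are complexes Bᵢ, homotopy equivalences Bᵢ ⟶ Aᵢ and termwise split injections Bᵢ ⟶ Bᵢ₊₁
forming a commutative ladder over the given sequence. Moreover if all Aᵢ are bounded below, resp.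
bounded above, then the Bᵢ may be chosen bounded below, resp. bounded above. (The published
statement is for finite sequences A₁ → … → A_n; this row takes a sequence indexed by ℕ, built by the
same step-by-step construction.) -/
theorem result {V : Type u} [Category.{v} V] [Preadditive V] [HasBinaryBiproducts V] [HasZeroObject V]
    (X : ℕ → CochainComplex V ℤ) (a : ∀ i, X i ⟶ X (i + 1)) :
    ∃ (B : ℕ → CochainComplex V ℤ) (b : ∀ i, B i ⟶ B (i + 1)) (e : ∀ i, HomotopyEquiv (B i) (X i)),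
      (∀ i, b i ≫ (e (i + 1)).hom = (e i).hom ≫ a i) ∧
      (∀ (i : ℕ) (n : ℤ), ∃ (C : V) (ε : (B (i + 1)).X n ≅ (B i).X n ⊞ C), (b i).f n ≫ ε.hom = biprod.inl) ∧
      ((∀ i, ∃ m : ℤ, (X i).IsStrictlyGE m) → ∀ i, ∃ m : ℤ, (B i).IsStrictlyGE m) ∧
      ((∀ i, ∃ m : ℤ, (X i).IsStrictlyLE m) → ∀ i, ∃ m : ℤ, (B i).IsStrictlyLE m) := by
  let St : ℕ → Type _ := fun i =>
    { q : Σ (B : CochainComplex V ℤ), HomotopyEquiv B (X i) //
      ((∀ i, ∃ m : ℤ, (X i).IsStrictlyGE m) → ∃ m : ℤ, q.1.IsStrictlyGE m) ∧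
      ((∀ i, ∃ m : ℤ, (X i).IsStrictlyLE m) → ∃ m : ℤ, q.1.IsStrictlyLE m) }
  let s0 : St 0 := ⟨⟨X 0, HomotopyEquiv.refl _⟩, fun h => h 0, fun h => h 0⟩
  have hstep : ∀ (i : ℕ) (s : St i), ∃ (t : St (i + 1)) (b : s.1.1 ⟶ t.1.1),
      b ≫ t.1.2.hom = s.1.2.hom ≫ a i ∧
      ∀ n : ℤ, ∃ (C : V) (ε : t.1.1.X n ≅ s.1.1.X n ⊞ C), b.f n ≫ ε.hom = biprod.inl := by
    rintro i ⟨⟨B, e⟩, hB, hB'⟩
    dsimp only at hB hB'
    refine ⟨⟨⟨CochainComplex.mappingCone (𝟙 B) ⊞ X (i + 1),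
      K235.Factor.homotopyEquivSnd (X (i + 1)) _
        (CochainComplex.mappingCone.homotopyToZeroOfId B)⟩, fun h => ?_, fun h => ?_⟩,
      biprod.lift (CochainComplex.mappingCone.inr (𝟙 B)) (e.hom ≫ a i), ?_, ?_⟩
    · obtain ⟨m, hm⟩ := hB h
      obtain ⟨m', hm'⟩ := h (i + 1)
      have := K235.Factor.isStrictlyGE_cone B m
      exact ⟨_, K235.Factor.isStrictlyGE_biprod _ (X (i + 1)) (m - 1) m'⟩
    · obtain ⟨m, hm⟩ := hB' h
      obtain ⟨m', hm'⟩ := h (i + 1)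
      have := K235.Factor.isStrictlyLE_cone B m
      exact ⟨_, K235.Factor.isStrictlyLE_biprod _ (X (i + 1)) m m'⟩
    · exact biprod.lift_snd _ _
    · exact K235.Factor.exists_iso' (e.hom ≫ a i)
  choose nx b hb using hstep
  let s : ∀ i, St i := fun i => Nat.rec s0 (fun i s => nx i s) i
  exact ⟨fun i => (s i).1.1, fun i => b i (s i), fun i => (s i).1.2, fun i => (hb i (s i)).1,
    fun i n => (hb i (s i)).2 n, fun h i => (s i).2.1 h, fun h i => (s i).2.2 h⟩

end Groth.Agent.S6617
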