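import Groth.Statements.S6620

set_option autoImplicit false
universe w w' v v' u u'
open CategoryTheory CategoryTheory.Limits
open CohDer

namespace Groth.Agent.S6620

/-- Part (1): in the case where A has enough injectives (so that RF is defined on all of D⁺(A)): let F :
A ⥤ B be an additive functor between abelian categories, A with enough injectives, and K ∈ D⁺(A)
with Hⁱ(K) = 0 for i < a. Then Hⁱ(RF(K)) = 0 for i < a. -/
theorem result {A : Type u} [Category.{v} A] [Abelian A] [HasDerivedCategory.{w} A] [EnoughInjectives A]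
    {B : Type u'} [Category.{v'} B] [Abelian B] [HasDerivedCategory.{w'} B]
    (F : A ⥤ B) [F.Additive] (K : DerivedCategory.Plus A) (a : ℤ) [K.IsGE a] :
    (F.rightDerivedFunctorPlus.obj K).IsGE a := by
  obtain ⟨L, hL, ⟨e⟩⟩ := K.exists_injective_nonempty_iso a
  let L' := (InjectiveObject.ι A).mapCochainComplexPlus.obj L
  have hL' : L'.obj.IsStrictlyGE a := by
    have := hL
    exact inferInstanceAs (CochainComplex.IsStrictlyGE
      (((InjectiveObject.ι A).mapHomologicalComplex (.up ℤ)).obj L.obj) a)
  have h3 : IsIso (F.rightDerivedFunctorPlusUnit.app ((HomotopyCategory.Plus.quotient A).obj L')) :=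
    inferInstanceAs (IsIso (F.rightDerivedFunctorPlusUnit.app
      ((InjectiveObject.ι A).mapHomotopyCategoryPlus.obj
        ((HomotopyCategory.Plus.quotient _).obj L))))
  let e' : DerivedCategory.Plus.Qh.obj (F.mapHomotopyCategoryPlus.obj
      ((HomotopyCategory.Plus.quotient A).obj L')) ≅ F.rightDerivedFunctorPlus.obj K :=
    asIso (F.rightDerivedFunctorPlusUnit.app ((HomotopyCategory.Plus.quotient A).obj L')) ≪≫
      F.rightDerivedFunctorPlus.mapIso e
  rw [← DerivedCategory.Plus.isGE_ι_obj_iff]
  have hFL : CochainComplex.IsStrictlyGE ((F.mapHomologicalComplex (.up ℤ)).obj L'.obj) a := inferInstance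
  have hQ : (DerivedCategory.Q.obj ((F.mapHomologicalComplex (.up ℤ)).obj L'.obj)).IsGE a := by
    rw [DerivedCategory.isGE_Q_obj_iff]
    infer_instance
  exact DerivedCategory.TStructure.t.isGE_of_iso
    ((DerivedCategory.quotientCompQhIso B).symm.app ((F.mapHomologicalComplex (.up ℤ)).obj L'.obj) ≪≫
      DerivedCategory.Plus.ι.mapIso e') a

end Groth.Agent.S6620
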