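import Groth.Statements.S6622
import Mathlib.Algebra.Homology.HomotopyCategory.Plus

set_option autoImplicit false
universe v u
open CategoryTheory CategoryTheory.Limits
open CohDer

namespace Groth.Agent.S6622

section

open CategoryTheory.Pretriangulated HomotopyCategory ZeroObject

variable {V : Type u} [Category.{v} V] [Preadditive V] [HasZeroObject V] [HasBinaryBiproducts V]

set_option backward.defeqAttrib.useBackward true in
set_option backward.isDefEq.respectTransparency false in
/-- A property of complexes which holds for the zero complex and is stable under shifts and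
mapping cones defines a triangulated subcategory of the homotopy category. -/
lemma isTriangulated_of (Q : ObjectProperty (CochainComplex V ℤ)) (h0 : Q 0)
    (hs : ∀ (K : CochainComplex V ℤ) (n : ℤ), Q K → Q ((shiftFunctor _ n).obj K))
    (hc : ∀ (K L : CochainComplex V ℤ) (f : K ⟶ L), Q K → Q L → Q (CochainComplex.mappingCone f)) :
    ObjectProperty.IsTriangulated
      (fun K : HomotopyCategory V (ComplexShape.up ℤ) => Q K.as) := by
  let P : ObjectProperty (HomotopyCategory V (ComplexShape.up ℤ)) := fun K => Q K.as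
  have h1 : P.ContainsZero :=
    ⟨(HomotopyCategory.quotient _ _).obj 0, Functor.map_isZero _ (isZero_zero _), h0⟩
  have h2 : P.IsStableUnderShift ℤ :=
    { isStableUnderShiftBy := fun n =>
      { le_shift := fun K hK => by
          obtain ⟨K : CochainComplex _ _, rfl⟩ := K.quotient_obj_surjective
          rw [ObjectProperty.prop_shift_iff, shift_quotient_obj]
          exact hs K n hK } }
  have h3 : P.IsTriangulatedClosed₃ :=
    { ext₃' := fun T hT h₁ h₂ => by
        obtain ⟨f : T.obj₁.as ⟶ T.obj₂.as, hf⟩ := (quotient _ _).map_surjective T.mor₁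
        refine ⟨_, ?_,
          ⟨Triangle.π₃.mapIso (isoTriangleOfIso₁₂ T _ hT (mappingCone_triangleh_distinguished f)
            (Iso.refl _) (Iso.refl _) ?_)⟩⟩
        · exact hc _ _ f h₁ h₂
        · simp [hf] }
  have h4 : P.IsTriangulatedClosed₂ := .of_isTriangulatedClosed₃
  exact { toContainsZero := h1, toIsStableUnderShift := h2, toIsTriangulatedClosed₂ := h4 }

omit [HasZeroObject V] in
lemma isStrictlyLE_mappingCone {K L : CochainComplex V ℤ} (f : K ⟶ L)
    (n₁ n₂ n : ℤ) [K.IsStrictlyLE n₁] [L.IsStrictlyLE n₂] (hn₁ : n₁ ≤ n + 1) (hn₂ : n₂ ≤ n) :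
    (CochainComplex.mappingCone f).IsStrictlyLE n := by
  rw [CochainComplex.isStrictlyLE_iff]
  intro i hi
  simp only [CochainComplex.mappingCone.isZero_X_iff]
  exact ⟨K.isZero_of_isStrictlyLE n₁ _ (by lia), L.isZero_of_isStrictlyLE n₂ _ (by lia)⟩

end

/-- Let A be an additive category. The full subcategories K⁻(A) (complexes K with Kⁿ = 0 for n ≫ 0) and
Kᵇ(A) (Kⁿ = 0 for |n| ≫ 0) of the homotopy category K(A) are full triangulated subcategories. -/
theorem result {V : Type u} [Category.{v} V] [Preadditive V] [HasZeroObject V] [HasBinaryBiproducts V] :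
    (ObjectProperty.IsTriangulated (fun K : HomotopyCategory V (ComplexShape.up ℤ) => ∃ n : ℤ, CochainComplex.IsStrictlyLE K.as n)) ∧
    (ObjectProperty.IsTriangulated (fun K : HomotopyCategory V (ComplexShape.up ℤ) =>
      ∃ a b : ℤ, CochainComplex.IsStrictlyGE K.as a ∧ CochainComplex.IsStrictlyLE K.as b)) := by
  constructor
  · refine isTriangulated_of (fun K : CochainComplex V ℤ => ∃ n : ℤ, K.IsStrictlyLE n)
      ⟨0, inferInstance⟩ ?_ ?_
    · rintro K n ⟨m, hm⟩
      exact ⟨m - n, K.isStrictlyLE_shift m n (m - n) (by lia)⟩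
    · rintro K L f ⟨m, hm⟩ ⟨m', hm'⟩
      exact ⟨max m m', isStrictlyLE_mappingCone f m m' _ (by lia) (by lia)⟩
  · refine isTriangulated_of (fun K : CochainComplex V ℤ => ∃ a b : ℤ, K.IsStrictlyGE a ∧ K.IsStrictlyLE b)
      ⟨0, 0, inferInstance, inferInstance⟩ ?_ ?_
    · rintro K n ⟨l, m, hl, hm⟩
      exact ⟨l - n, m - n, K.isStrictlyGE_shift l n (l - n) (by lia),
        K.isStrictlyLE_shift m n (m - n) (by lia)⟩
    · rintro K L f ⟨l, m, hl, hm⟩ ⟨l', m', hl', hm'⟩
      exact ⟨min (l - 1) l', max m m',
        CochainComplex.isStrictlyGE_mappingCone f l l' _ (by simp) (by simp),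
        isStrictlyLE_mappingCone f m m' _ (by lia) (by lia)⟩

end Groth.Agent.S6622
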