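import Groth.Statements.S6623
import Groth.Agent.CohDer.K235.Postnikov

set_option autoImplicit false
universe v u
open CategoryTheory CategoryTheory.Limits
open CohDer

namespace Groth.Agent.S6623

open CategoryTheory.Pretriangulated in
/-- Let D be a triangulated category, φ : X ⟶ X' a morphism of chain complexes in D considered in
degrees ≤ n, where a Postnikov system for the complex X_n → … → X_0 consists of objects Y_k, an
isomorphism Y_0 ⟶ X_0, and for 0 ≤ k < n distinguished triangles Y_{k+1} ⟶ X_{k+1} ⟶ Y_k ⟶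
Y_{k+1}⟦1⟧ with X_{k+1} ⟶ Y_k ⟶ X_k the differential; let (Y, a, b, c) and (Y', a', b', c') be
Postnikov systems for X and X'. If Hom(X_{j-i}⟦1-i⟧, X'_j) = 0 and Hom(X_j, X'_{j-i}⟦-i⟧) = 0 for
all 0 < i ≤ j ≤ n, then there is at most one morphism of Postnikov systems extending φ: two such
morphisms agree on Y_k for every k ≤ n. -/
theorem result {D : Type u} [Category.{v} D] [Preadditive D] [HasZeroObject D] [HasShift D ℤ]
    [∀ n : ℤ, (shiftFunctor D n).Additive] [Pretriangulated D] [IsTriangulated D]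
    (X X' : ChainComplex D ℕ) (φ : X ⟶ X') (n : ℕ)
    (Y : ℕ → D) (a : ∀ k, Y k ⟶ X.X k) (b : ∀ k, X.X (k + 1) ⟶ Y k)
    (c : ∀ k, Y k ⟶ (shiftFunctor D (1 : ℤ)).obj (Y (k + 1)))
    (h0 : IsIso (a 0))
    (hP : ∀ k, k < n → Triangle.mk (a (k + 1)) (b k) (c k) ∈ distinguishedTriangles ∧ b k ≫ a k = X.d (k + 1) k)
    (qY : ℕ → D) (qa : ∀ k, qY k ⟶ X'.X k) (qb : ∀ k, X'.X (k + 1) ⟶ qY k)
    (qc : ∀ k, qY k ⟶ (shiftFunctor D (1 : ℤ)).obj (qY (k + 1)))
    (qh0 : IsIso (qa 0))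
    (qhP : ∀ k, k < n → Triangle.mk (qa (k + 1)) (qb k) (qc k) ∈ distinguishedTriangles ∧ qb k ≫ qa k = X'.d (k + 1) k)
    (hv : ∀ i j : ℕ, 0 < i → i ≤ j → j ≤ n →
      (∀ ψ : (shiftFunctor D (1 - (i : ℤ))).obj (X.X (j - i)) ⟶ X'.X j, ψ = 0) ∧
      (∀ ψ : X.X j ⟶ (shiftFunctor D (-(i : ℤ))).obj (X'.X (j - i)), ψ = 0))
    (y z : ∀ k, Y k ⟶ qY k)
    (hy : (∀ k, k ≤ n → y k ≫ qa k = a k ≫ φ.f k) ∧
      (∀ k, k < n → b k ≫ y k = φ.f (k + 1) ≫ qb k ∧ c k ≫ (shiftFunctor D (1 : ℤ)).map (y (k + 1)) = y k ≫ qc k))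
    (hz : (∀ k, k ≤ n → z k ≫ qa k = a k ≫ φ.f k) ∧
      (∀ k, k < n → b k ≫ z k = φ.f (k + 1) ≫ qb k ∧ c k ≫ (shiftFunctor D (1 : ℤ)).map (z (k + 1)) = z k ≫ qc k))
    (k : ℕ) (hk : k ≤ n) :
    y k = z k := by
  obtain ⟨hy1, hy2⟩ := hy
  obtain ⟨hz1, hz2⟩ := hz
  induction k with
  | zero =>
    have h1 := hy1 0 hk
    rw [← hz1 0 hk] at h1
    exact (cancel_mono (qa 0)).1 h1
  | succ k ih =>
    have hk' : k < n := by omega
    have ihk : y k = z k := ih (by omega)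
    have hw : c k ≫ (shiftFunctor D (1 : ℤ)).map (y (k + 1) - z (k + 1)) = 0 := by
      rw [Functor.map_sub, Preadditive.comp_sub, (hy2 k hk').2, (hz2 k hk').2, ihk, sub_self]
    obtain ⟨u, hu⟩ := K235.Postnikov.exists_of_comp_shift_eq_zero _ _ _ (hP k hk').1 _ hw
    have hwa : (y (k + 1) - z (k + 1)) ≫ qa (k + 1) = 0 := by
      rw [Preadditive.sub_comp, hy1 _ hk, hz1 _ hk, sub_self]
    -- `u ≫ qa (k+1)` factors through `Y k`, and `Hom(Y k, X' (k+1)) = 0`
    have h1 : a (k + 1) ≫ u ≫ qa (k + 1) = 0 := by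
      rw [← Category.assoc, ← hu, hwa]
    have h2 : u ≫ qa (k + 1) = 0 := by
      obtain ⟨g, hg⟩ := (Triangle.mk (a (k + 1)) (b k) (c k)).yoneda_exact₂ (hP k hk').1 (u ≫ qa (k + 1)) h1
      change Y k ⟶ X'.X (k + 1) at g
      change u ≫ qa (k + 1) = b k ≫ g at hg
      have e := (shiftFunctorZero D ℤ).app (X'.X (k + 1))
      change (shiftFunctor D (0 : ℤ)).obj (X'.X (k + 1)) ≅ X'.X (k + 1) at e
      have hg0 : g ≫ e.inv = 0 := by
        refine K235.Postnikov.hom_eq_zero_of_terms (fun k => X.X k) n Y a b c h0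
          (fun k hk => (hP k hk).1) (X'.X (k + 1)) k (by omega) 0 ?_ _
        intro m t hm ht ψ
        have h3 := (hv (k + 1 - m) (k + 1) (by omega) (by omega) hk).1
        have h4 : k + 1 - (k + 1 - m) = m := by omega
        rw [h4] at h3
        exact K235.Postnikov.vanish_right (by omega) h3 ψ
      have hg1 : g = 0 := by
        rw [← cancel_mono e.inv, hg0, zero_comp]
      rw [hg, hg1, comp_zero]
    have h5 : u = 0 := by
      obtain ⟨g, hg⟩ := K235.Postnikov.exists_lift_shift _ _ _ (qhP k hk').1 u h2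
      have hg0 : g = 0 := by
        refine K235.Postnikov.hom_eq_zero_of_terms' (fun k => X'.X k) n qY qa qb qc qh0
          (fun k hk => (qhP k hk).1) (X.X (k + 1)) k (by omega) 1 ?_ _
        intro m t hm ht ψ
        have h3 := (hv (k + 1 - m) (k + 1) (by omega) (by omega) hk).2
        have h4 : k + 1 - (k + 1 - m) = m := by omega
        rw [h4] at h3
        exact K235.Postnikov.vanish_left (by omega) h3 ψ
      apply (shiftFunctor D (1 : ℤ)).map_injective
      rw [hg, hg0, zero_comp, Functor.map_zero]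
    rw [h5, comp_zero] at hu
    exact sub_eq_zero.1 hu

end Groth.Agent.S6623
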