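import Groth.Statements.S6639
import Groth.Agent.Sga4h.H913.LinTrace
import Mathlib.RingTheory.Flat.FaithfullyFlat.Algebra
-- import your own Groth.Agent.* helpers here

set_option autoImplicit false
universe u
open scoped TensorProduct
open EtBase

namespace Groth.Agent.S6639

open Groth.Agent.Sga4h.H913.LinTrace Groth.Agent.CurvesA.ASAlg in
/-- Let k ⟶ k' be a homomorphism of algebraically closed fields of characteristic p > 0 (an extension of
algebraically closed fields), V a finite-dimensional k-vector space, F : V ⟶ V additive with F(c •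
v) = c^p • F(v), and F' the additive endomorphism of V' = k' ⊗_k V satisfying F'(c ⊗ v) = c^p ⊗
F(v). Then v ↦ 1 ⊗ v maps the fixed vectors of F bijectively onto the fixed vectors of F'. -/
theorem result {k k' V : Type u} [Field k] [IsAlgClosed k] [Field k']
    [IsAlgClosed k'] [Algebra k k'] (p : ℕ) [Fact p.Prime] [CharP k p]
    [AddCommGroup V] [Module k V] [FiniteDimensional k V] (F : V →+ V)
    (hF : ∀ (c : k) (v : V), F (c • v) = c ^ p • F v)
    (F' : k' ⊗[k] V →+ k' ⊗[k] V) (hF' : ∀ (c : k') (v : V), F' (c ⊗ₜ[k] v) = (c ^ p) ⊗ₜ[k] F v) :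
    Set.BijOn (fun v : V => (1 : k') ⊗ₜ[k] v) {v : V | F v = v} {w : k' ⊗[k] V | F' w = w} := by
  classical
  have h0 : (p : k) = 0 := CharP.cast_eq_zero k p
  have h0' : (p : k') = 0 := by
    rw [← map_natCast (algebraMap k k'), h0, map_zero]
  -- `F'` is `p`-linear over `k'`
  have hsl : ∀ (c : k') (w : k' ⊗[k] V), F' (c • w) = c ^ p • F' w := by
    intro c w
    induction w using TensorProduct.induction_on with
    | zero => simp
    | tmul x v => rw [TensorProduct.smul_tmul', hF', hF', TensorProduct.smul_tmul', smul_eq_mul,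
        mul_pow, smul_eq_mul]
    | add x y hx hy => rw [smul_add, map_add, hx, hy, map_add, smul_add]
  refine ⟨?_, ?_, ?_⟩
  · intro v hv
    change F' ((1 : k') ⊗ₜ[k] v) = _
    rw [hF', one_pow, show F v = v from hv]
  · intro v _ v' _ h
    exact Module.FaithfullyFlat.tensorProduct_mk_injective (A := k) (B := k') V h
  · intro w hw
    obtain ⟨n₀, hn₀⟩ := iterate_mem_span_fixed (K := k) p F h0 hF
    -- `w` lies in the span of the fixed vectors
    have hit : ∀ n : ℕ, F'^[n] w = w := fun n => Function.iterate_fixed hw n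
    have key : ∀ (n : ℕ) (x : k' ⊗[k] V), F'^[n] x ∈
        Submodule.span k' ((fun v : V => (1 : k') ⊗ₜ[k] v) '' (Set.range (F^[n]))) := by
      intro n x
      induction x using TensorProduct.induction_on with
      | zero =>
        have : F'^[n] (0 : k' ⊗[k] V) = 0 := Function.iterate_fixed (map_zero F') n
        rw [this]; exact Submodule.zero_mem _
      | tmul c v =>
        have : F'^[n] (c ⊗ₜ[k] v) = (c ^ (p ^ n)) • ((1 : k') ⊗ₜ[k] F^[n] v) := by
          induction n with
          | zero => simp [TensorProduct.smul_tmul']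
          | succ n ih =>
            rw [Function.iterate_succ_apply', ih, hsl, hF', one_pow, ← pow_mul, ← pow_succ,
              Function.iterate_succ_apply']
        rw [this]
        exact Submodule.smul_mem _ _ (Submodule.subset_span ⟨_, ⟨v, rfl⟩, rfl⟩)
      | add x y hx hy =>
        have : F'^[n] (x + y) = F'^[n] x + F'^[n] y := by
          clear hx hy
          induction n with
          | zero => rfl
          | succ n ih => rw [Function.iterate_succ_apply', ih, map_add,
              Function.iterate_succ_apply', Function.iterate_succ_apply']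
        rw [this]; exact Submodule.add_mem _ hx hy
    have hmem : w ∈ Submodule.span k' ((fun v : V => (1 : k') ⊗ₜ[k] v) '' (Set.range (F^[n₀]))) := by
      rw [← hit n₀]; exact key n₀ w
    obtain ⟨b, hbS, hspan, hli⟩ := exists_linearIndependent k {v : V | F v = v}
    have hbfin : b.Finite := hli.setFinite
    have : Fintype b := hbfin.fintype
    -- in the span of `1 ⊗ b`
    have hmem2 : w ∈ Submodule.span k' (Set.range (fun i : b => (1 : k') ⊗ₜ[k] (i : V))) := by
      refine Submodule.span_le.2 ?_ hmem
      rintro _ ⟨x, hx, rfl⟩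
      have hx' : x ∈ Submodule.span k b := by
        rw [hspan]
        exact hn₀ n₀ le_rfl (Submodule.subset_span hx)
      change (1 : k') ⊗ₜ[k] x ∈ Submodule.span k' (Set.range (fun i : b => (1 : k') ⊗ₜ[k] (i : V)))
      clear hx
      induction hx' using Submodule.span_induction with
      | mem x hx => exact Submodule.subset_span ⟨⟨x, hx⟩, rfl⟩
      | zero => rw [TensorProduct.tmul_zero]; exact Submodule.zero_mem _
      | add x y _ _ hx hy => rw [TensorProduct.tmul_add]; exact Submodule.add_mem _ hx hy
      | smul a x _ hx =>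
        have : (1 : k') ⊗ₜ[k] (a • x) = (algebraMap k k' a) • ((1 : k') ⊗ₜ[k] x) := by
          rw [TensorProduct.tmul_smul, algebraMap_smul]
        rw [this]; exact Submodule.smul_mem _ _ hx
    rw [Submodule.mem_span_range_iff_exists_fun] at hmem2
    obtain ⟨c, hc⟩ := hmem2
    have hli' : LinearIndependent k' (fun i : b => (1 : k') ⊗ₜ[k] (i : V)) := by
      exact Module.Flat.linearIndependent_one_tmul hli
    have h1 : F' w = ∑ i, (c i) ^ p • ((1 : k') ⊗ₜ[k] (i : V)) := by
      rw [← hc, map_sum]
      refine Finset.sum_congr rfl fun i _ => ?_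
      rw [hsl, hF', one_pow, show F (i : V) = i from hbS i.2]
    have h2 : ∑ i : b, ((c i) ^ p - c i) • ((1 : k') ⊗ₜ[k] (i : V)) = 0 := by
      have h2' : ∀ i : b, ((c i) ^ p - c i) • ((1 : k') ⊗ₜ[k] (i : V)) =
          (c i) ^ p • ((1 : k') ⊗ₜ[k] (i : V)) - c i • ((1 : k') ⊗ₜ[k] (i : V)) := fun i =>
        sub_smul (R := k') (M := k' ⊗[k] V) _ _ _
      rw [Finset.sum_congr rfl fun i _ => h2' i, Finset.sum_sub_distrib, ← h1, hc,
        show F' w = w from hw, sub_self]
    have h3 := Fintype.linearIndependent_iff.1 hli' _ h2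
    have h4 : ∀ i, ∃ a : ZMod p, zmodHom k' p h0' a = c i := fun i =>
      exists_zmod_of_pow_eq p h0' _ (sub_eq_zero.1 (h3 i))
    choose a ha using h4
    have hcomp : ∀ a : ZMod p, algebraMap k k' (zmodHom k p h0 a) = zmodHom k' p h0' a := by
      intro a
      exact DFunLike.congr_fun (Subsingleton.elim ((algebraMap k k').comp (zmodHom k p h0))
        (zmodHom k' p h0')) a
    have hpow : ∀ a : ZMod p, (zmodHom k p h0 a) ^ p = zmodHom k p h0 a := by
      intro a
      rw [← map_pow, ZMod.pow_card]
    refine ⟨∑ i, zmodHom k p h0 (a i) • (i : V), ?_, ?_⟩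
    · change F _ = _
      rw [map_sum]
      refine Finset.sum_congr rfl fun i _ => ?_
      rw [hF, hpow, show F (i : V) = i from hbS i.2]
    · change (1 : k') ⊗ₜ[k] _ = w
      rw [TensorProduct.tmul_sum, ← hc]
      refine Finset.sum_congr rfl fun i _ => ?_
      rw [TensorProduct.tmul_smul, ← ha i, ← hcomp, algebraMap_smul]

end Groth.Agent.S6639
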