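import Groth.Statements.S6648
import Groth.Agent.EtpbcA.FLCExact
import Mathlib.AlgebraicGeometry.Morphisms.Flat
import Mathlib.AlgebraicGeometry.Morphisms.UniversallyOpen

set_option autoImplicit false
open CategoryTheory CategoryTheory.Limits AlgebraicGeometry Opposite
universe u
open EtCore

namespace Groth.Agent.S6648

/-- For a sheaf of (commutative) rings O on the small etale site of a scheme S, the set of points s of S
over which some geometric stalk of O is a nonzero ring is closed in S. (Rings are taken in the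
universe of the schemes, as for the structure presheaf of the prelude.) -/
theorem result {S : Scheme.{u}} (O : Sheaf S.smallEtaleTopology CommRingCat.{u}) :
    IsClosed {s : ↥S | ∃ (Ω : Type u) (_ : Field Ω) (_ : IsSepClosed Ω) (ξ : Spec (CommRingCat.of Ω) ⟶ S),
      ξ.base default = s ∧ Nontrivial ↑((Scheme.pointSmallEtale ξ).presheafFiber.obj O.obj)} := by
  have hset : {s : ↥S | ∃ (Ω : Type u) (_ : Field Ω) (_ : IsSepClosed Ω)
      (ξ : Spec (CommRingCat.of Ω) ⟶ S), ξ.base default = s ∧
        Nontrivial ↑((Scheme.pointSmallEtale ξ).presheafFiber.obj O.obj)}ᶜ =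
      ⋃ (U : S.Etale) (_ : (1 : O.obj.obj (op U)) = 0), Set.range U.hom.base := by
    ext s
    simp only [Set.mem_compl_iff, Set.mem_setOf_eq, Set.mem_iUnion, Set.mem_range, exists_prop]
    constructor
    · intro h
      obtain ⟨Ω, iF, iS, ξ, hξ⟩ := Groth.Agent.EtpbcA.Germ.exists_geomPt_aux S s
      obtain ⟨t, -⟩ := Groth.Agent.EtpbcA.FLCExact.exists_fib ξ (EtCoh.top S) (ξ default) rfl
      have h1 : ¬ Nontrivial ↑((Scheme.pointSmallEtale ξ).presheafFiber.obj O.obj) :=
        fun hn => h ⟨Ω, iF, iS, ξ, hξ, hn⟩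
      rw [not_nontrivial_iff_subsingleton] at h1
      have h2 : (Scheme.pointSmallEtale ξ).toPresheafFiber (EtCoh.top S) t O.obj 1 =
          (Scheme.pointSmallEtale ξ).toPresheafFiber (EtCoh.top S) t O.obj 0 :=
        h1.elim _ _
      rw [(Scheme.pointSmallEtale ξ).toPresheafFiber_eq_iff'] at h2
      obtain ⟨V, g, v, -, hv⟩ := h2
      refine ⟨V, ?_, Groth.Agent.EtpbcA.Germ.pt ξ v, ?_⟩
      · refine (map_one (O.obj.map g.op).hom).symm.trans (Eq.trans ?_ (map_zero (O.obj.map g.op).hom))
        exact hv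
      · rw [← hξ]
        exact Groth.Agent.EtpbcA.Germ.hom_pt ξ v
    · rintro ⟨U, hU, y, rfl⟩ ⟨Ω, _, _, ξ, hξ, hn⟩
      obtain ⟨t, -⟩ := Groth.Agent.EtpbcA.FLCExact.exists_fib ξ U y hξ.symm
      have h1 : (1 : ↑((Scheme.pointSmallEtale ξ).presheafFiber.obj O.obj)) = 0 := by
        refine (map_one ((Scheme.pointSmallEtale ξ).toPresheafFiber U t O.obj).hom).symm.trans
          (Eq.trans ?_ (map_zero ((Scheme.pointSmallEtale ξ).toPresheafFiber U t O.obj).hom))
        exact congrArg _ hU
      exact one_ne_zero h1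
  rw [← isOpen_compl_iff, hset]
  refine isOpen_iUnion fun U => isOpen_iUnion fun _ => ?_
  have hU : AlgebraicGeometry.Etale U.hom := U.prop
  let p : U.left ⟶ S := U.hom
  have hp : AlgebraicGeometry.Etale p := hU
  exact p.isOpenMap.isOpen_range

end Groth.Agent.S6648
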