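import Groth.Statements.S6651
import Groth.Agent.EtModW.K336.UnibFilt
-- import your own Groth.Agent.* helpers here

set_option autoImplicit false
open CategoryTheory CategoryTheory.Limits AlgebraicGeometry Opposite
universe u
open EtModW

namespace Groth.Agent.S6651

/-- Let S be an irreducible scheme whose local rings are all geometrically unibranch, ℓ a prime, n ≥ 1,
Λ a Noetherian ring, and F a finite type locally constant sheaf of Λ-modules on the small etale site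
of S killed by ℓ^n. Then there are a finite etale f : T ⟶ S all of whose geometric fibres have the
same cardinality d, with d prime to ℓ, and a finite chain 0 = G_0 ⟶ G_1 ⟶ ⋯ ⟶ G_m ≅ f⁻¹F of
monomorphisms whose cokernels are constant sheaves on finite Λ-modules. -/
theorem result (S : Scheme.{u}) [IrreducibleSpace ↥S]
    (hS : ∀ s : ↥S, CAlg2.IsGeomUnibranch (S.presheaf.stalk s)) (ℓ : ℕ) [Fact ℓ.Prime] (n : ℕ) (hn : 1 ≤ n)
    (Λ : Type (u + 1)) [CommRing Λ] [IsNoetherianRing Λ] (F : EtModW.Mod Λ S) (hF : EtModW.IsFTLocConst Λ F)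
    (hkill : ∀ (U : S.Etale) (s : EtModW.sect Λ F U), (ℓ ^ n) • s = 0) :
    ∃ (T : Scheme.{u}) (f : T ⟶ S) (_ : IsFinite f) (_ : AlgebraicGeometry.Etale f) (d : ℕ), ℓ.Coprime d ∧
      (∀ (Ω : Type u) [Field Ω] [IsAlgClosed Ω] (η : Spec (CommRingCat.of Ω) ⟶ S),
        Nat.card {t : Spec (CommRingCat.of Ω) ⟶ T // t ≫ f = η} = d) ∧
      ∃ (m : ℕ) (G : ℕ → EtModW.Mod Λ T) (φ : ∀ i, G i ⟶ G (i + 1)),
        IsZero (G 0) ∧ Nonempty (G m ≅ (EtModW.pull Λ f).obj F) ∧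
        ∀ i, i < m → Mono (φ i) ∧ ∃ (M : Type (u + 1)) (_ : AddCommGroup M) (_ : Module Λ M) (_ : Module.Finite Λ M),
          Nonempty (cokernel (φ i) ≅ EtModW.constMod Λ T M) := by
  have hn' : EtCoh.KilledBy (ℓ ^ n) ((Groth.Agent.Etrest.ModAb.ab Λ S).obj F) := fun U s => hkill U s
  obtain ⟨Ω, _, _, ξ, -⟩ := K336.Compo.exists_geom S (genericPoint S)
  have hfin := Groth.Agent.Etrest.ModSpec.finite_stalk_of_ftlc Λ hF ξ
  obtain ⟨T, f, hf1, hf2, d, hd, hc, m, G, φ, a, h0, hm, -, hG⟩ := K336.UnibFilt.main (Λ := Λ) ℓ n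
    (⊥ : Submodule Λ ((EtModW.stalk Λ ξ).obj F : Type (u + 1))) S hS F hF hn' Ω ξ
    ⟨(Submodule.quotEquivOfEqBot _ rfl).symm⟩
  exact ⟨T, f, hf1, hf2, d, hd, fun Ω _ _ η => hc Ω η, m, G, φ, h0, ⟨@asIso _ _ _ _ (a m) hm⟩, hG⟩

end Groth.Agent.S6651
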