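import Groth.Statements.S6652
import Groth.Agent.EtCore.K300.LimIntegral
import Groth.Agent.Lefpen.H716.HpullUnit
import Groth.Agent.Etbc.H211.PrimTors
import Groth.Agent.Etcore.LimEt
import Groth.Agent.Sga4h.EtTrace764
import Groth.Agent.Sga4A.IntegralSection

set_option autoImplicit false
open CategoryTheory CategoryTheory.Limits AlgebraicGeometry Opposite
universe u
open EtCore

namespace Groth.Agent.S6652

open Groth.Agent.Etcore Groth.Agent.Etcore.HpullCalc in
/-- The restriction map to a finite étale covering of degree prime to `ℓ` is injective on `ℓ`-primary classes. -/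
theorem eq_zero_of_hp_eq_zero {T S : Scheme.{u}} (π : T ⟶ S) [IsFinite π] [AlgebraicGeometry.Etale π] (d : ℕ)
    (hd : ∀ (Ω : Type u) [Field Ω] [IsAlgClosed Ω] (η : Spec (CommRingCat.of Ω) ⟶ S),
      Nat.card {t : Spec (CommRingCat.of Ω) ⟶ T // t ≫ π = η} = d) (G : EtCoh.Ab S) (n : ℕ)
    [PreservesFiniteLimits (EtCoh.pull π)] (α : EtCoh.H S G n) (h : EtCore.Hpull π G n α = 0) : d • α = 0 := by
  have : PreservesFiniteColimits (EtCoh.push π) := Sga4A.EtSplit.preservesFiniteColimits_push π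
  obtain ⟨Tr, hTr⟩ := S3106.result π d (Sga4h.EtTrace764.finrank_eq π d hd)
  have h1 := Lefpen.H716.HpullUnit.pushEquiv_Hpull π G n α
  rw [h, map_zero] at h1
  have hadd : (EtCoh.HF S n).Additive := inferInstanceAs (Sheaf.functorH _ n).Additive
  have h3 : (EtCoh.HF S n).map (d • 𝟙 G) = d • 𝟙 _ := by
    rw [Functor.map_nsmul, CategoryTheory.Functor.map_id]
  have h4 : (EtCoh.HF S n).map ((EtCoh.pullPushAdj π).unit.app G) ≫ (EtCoh.HF S n).map (Tr.app G) = d • 𝟙 _ := by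
    rw [← Functor.map_comp, hTr, h3]
    rfl
  have h5 := congrArg (fun t : (EtCoh.HF S n).obj G ⟶ (EtCoh.HF S n).obj G => t.hom α) h4
  exact (h5.symm.trans (congrArg (fun z => ((EtCoh.HF S n).map (Tr.app G)).hom z) h1.symm)).trans
    (map_zero ((EtCoh.HF S n).map (Tr.app G)).hom)

theorem compactSpace_of_integral {T S : Scheme.{u}} {f : T ⟶ S} (h : IsIntegralHom f) [CompactSpace S] :
    CompactSpace T := QuasiCompact.compactSpace_of_compactSpace f

theorem quasiSeparatedSpace_of_integral {T S : Scheme.{u}} {f : T ⟶ S} (h : IsIntegralHom f)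
    [hS : QuasiSeparatedSpace S] : QuasiSeparatedSpace T :=
  @quasiSeparatedSpace_of_quasiSeparated _ _ f hS inferInstance

theorem eq_zero_of_coprime {A : Type*} [AddCommGroup A] {ℓ d : ℕ} (hd : ℓ.Coprime d) {m : ℕ} {a : A}
    (h1 : (ℓ ^ m) • a = 0) (h2 : d • a = 0) : a = 0 := by
  have h3 := addOrderOf_dvd_of_nsmul_eq_zero h1
  have h4 := addOrderOf_dvd_of_nsmul_eq_zero h2
  have h5 : Nat.Coprime (ℓ ^ m) d := Nat.Coprime.pow_left m hd
  rw [← AddMonoid.addOrderOf_eq_one_iff]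
  exact Nat.eq_one_of_dvd_coprimes h5 h3 h4

/-- Let ℓ be a prime, n > 0, S a quasi-compact quasi-separated scheme and X the limit (in schemes over
S) of a nonempty directed inverse system of S-schemes X_i, each finite etale over S with all
geometric fibres of one cardinality d_i prime to ℓ; let g : X ⟶ S be the structure morphism. Call an
abelian sheaf ℓ-power torsion when every section is, etale locally around every point, killed by a
power of ℓ (the predicate T below, pinned by hT). Then for an ℓ-power torsion G on S_etale with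
H^n(S, G) nonzero, g⁻¹G is ℓ-power torsion with H^n(X, g⁻¹G) nonzero; and for an ℓ-power torsion F
on X_etale with H^n(X, F) nonzero, g_*F is ℓ-power torsion with H^n(S, g_*F) nonzero. (The published
statement is the equivalence of the two nonvanishing conditions; this row states it through the
explicit sheaves g⁻¹G and g_*F.) -/
theorem result (ℓ : ℕ) [Fact ℓ.Prime] (n : ℕ) (hn : 0 < n)
    (T : ∀ (Y : Scheme.{u}), EtCoh.Ab Y → Prop)
    (hT : ∀ (Y : Scheme.{u}) (G : EtCoh.Ab Y), T Y G ↔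
      ∀ (U : Y.Etale) (s : EtCoh.sect G U) (y : ↥U.left), ∃ (V : Y.Etale) (φ : V ⟶ U),
        (∃ v : ↥V.left, φ.left.base v = y) ∧ ∃ m : ℕ, (ℓ ^ m) • G.obj.map φ.op s = 0)
    (S : Scheme.{u}) [CompactSpace ↥S] [QuasiSeparatedSpace ↥S]
    {ι : Type u} [Preorder ι] [IsDirected ι (· ≤ ·)] [Nonempty ι] (Xs : ιᵒᵖ ⥤ Over S)
    (hfin : ∀ i, IsFinite (Xs.obj i).hom) (het : ∀ i, AlgebraicGeometry.Etale (Xs.obj i).hom)
    (d : ιᵒᵖ → ℕ) (hd : ∀ i, ℓ.Coprime (d i))
    (hdeg : ∀ (i : ιᵒᵖ) (Ω : Type u) [Field Ω] [IsAlgClosed Ω] (η : Spec (CommRingCat.of Ω) ⟶ S),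
      Nat.card {t : Spec (CommRingCat.of Ω) ⟶ (Xs.obj i).left // t ≫ (Xs.obj i).hom = η} = d i)
    (c : Cone Xs) (hc : IsLimit c) :
    (∀ G : EtCoh.Ab S, T S G → Nontrivial (EtCoh.H S G n) →
      T c.pt.left ((EtCoh.pull c.pt.hom).obj G) ∧ Nontrivial (EtCoh.H c.pt.left ((EtCoh.pull c.pt.hom).obj G) n)) ∧
    (∀ F : EtCoh.Ab c.pt.left, T c.pt.left F → Nontrivial (EtCoh.H c.pt.left F n) →
      T S ((EtCoh.push c.pt.hom).obj F) ∧ Nontrivial (EtCoh.H S ((EtCoh.push c.pt.hom).obj F) n)) := by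
  have hT' : ∀ (Y : Scheme.{u}) (G : EtCoh.Ab Y), T Y G ↔ Dix.IsPrimaryTorsion ℓ G := hT
  have hint : ∀ i, IsIntegralHom (Xs.obj i).hom := fun i => by
    have := hfin i
    infer_instance
  have hg : IsIntegralHom c.pt.hom := K300.LimIntegral.isIntegralHom Xs hint c hc
  have hpush : PreservesFiniteColimits (EtCoh.push c.pt.hom) :=
    Groth.Agent.Sga4A.EtSplit.preservesFiniteColimits_push c.pt.hom
  have hpull : ∀ {A B : Scheme.{u}} (f : A ⟶ B), PreservesFiniteLimits (EtCoh.pull f) :=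
    fun f => Groth.Agent.S0101.result f
  refine ⟨fun G hG hG' => ?_, fun F hF hF' => ?_⟩
  · rw [hT'] at hG ⊢
    refine ⟨Groth.Agent.Etbc.H211.PrimTors.isPrimaryTorsion_pull ℓ c.pt.hom G hG, ?_⟩
    obtain ⟨α, hα⟩ := exists_ne (0 : EtCoh.H S G n)
    refine ⟨⟨EtCore.Hpull c.pt.hom G n α, 0, fun h0 => hα ?_⟩⟩
    obtain ⟨m, hm⟩ := Groth.Agent.Etbc.H211.PrimTors.H_isPrimary ℓ G hG n α
    let D : ιᵒᵖ ⥤ Scheme.{u} := Xs ⋙ Over.forget S
    have hDaff : ∀ {i j : ιᵒᵖ} (f : i ⟶ j), IsAffineHom (D.map f) := fun {i j} f => by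
      have := K300.LimIntegral.isIntegralHom_map (Xs.map f)
      exact inferInstanceAs (IsAffineHom (Xs.map f).left)
    have hDc : ∀ i, CompactSpace (D.obj i) := fun i => compactSpace_of_integral (hint i)
    have hDq : ∀ i, QuasiSeparatedSpace (D.obj i) := fun i => quasiSeparatedSpace_of_integral (hint i)
    let p : ∀ i, c.pt.left ⟶ D.obj i := fun i => (c.π.app i).left
    have hp : ∀ {x y : ιᵒᵖ} (f : x ⟶ y), p x ≫ D.map f = p y := fun f =>
      congrArg (fun t => CommaMorphism.left t) (c.w f)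
    have hc' : IsLimit (Groth.Agent.Etcore.LimDeg0.coneOf p hp) :=
      isLimitOfPreserves (Over.forget S) hc
    obtain ⟨i₀⟩ := IsCofiltered.nonempty (C := ιᵒᵖ)
    have hx : Groth.Agent.Etcore.HpullCalc.hpVia (p i₀) (Xs.obj i₀).hom c.pt.hom (Over.w (c.π.app i₀)) G n
        (Groth.Agent.Etcore.HpullCalc.hp (Xs.obj i₀).hom G n α) = 0 :=
      (Groth.Agent.Etcore.HpullCalc.hpVia_hp (p i₀) (Xs.obj i₀).hom c.pt.hom (Over.w (c.π.app i₀)) G n α).trans h0
    obtain ⟨k, f, hf⟩ := Groth.Agent.Etcore.LimEt.exists_hp_eq_zero p hp hc' (fun i => (Xs.obj i).hom)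
      (fun f => Over.w (Xs.map f)) (q := c.pt.hom) (fun j => Over.w (c.π.app j)) G n i₀ _ hx
    have h1 : Groth.Agent.Etcore.HpullCalc.hp (Xs.obj k).hom G n α = 0 := by
      refine (Groth.Agent.Etcore.HpullCalc.hpVia_hp (D.map f) (Xs.obj i₀).hom (Xs.obj k).hom
        (Over.w (Xs.map f)) G n α).symm.trans ?_
      refine (Groth.Agent.Etcore.HpullCalc.hpVia_apply _ _ _ _ _ _ _).trans ?_
      exact (congrArg _ hf).trans (map_zero _)
    exact eq_zero_of_coprime (hd k) hm (eq_zero_of_hp_eq_zero (Xs.obj k).hom (d k) (hdeg k) G n α h1)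
  · rw [hT'] at hF ⊢
    refine ⟨Groth.Agent.Etbc.H211.PrimTors.isPrimaryTorsion_push ℓ c.pt.hom F hF, ?_⟩
    exact (Groth.Agent.Lefpen.H716.HpullUnit.pushEquiv c.pt.hom n F).symm.toEquiv.nontrivial

end Groth.Agent.S6652
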