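import Groth.Statements.S6653
import Groth.Agent.Curves.K316.DivSum
import Groth.Agent.CurvesB.SmoothCurveFacts

set_option autoImplicit false
open CategoryTheory CategoryTheory.Limits AlgebraicGeometry Opposite
universe u
open Curves

namespace Groth.Agent.S6653

attribute [-instance] CategoryTheory.catToReflQuiver

/-- The fundamental exact sequence: with the divisor map left unnamed: let X be a smooth curve over an
algebraically closed field k (here: X integral of dimension one, smooth, separated and of finite
type over k), let j : Spec O_{X,η} ⟶ X be the canonical morphism from the spectrum of the local ring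
at the generic point, and for a closed point x let i_x : Spec κ(x) ⟶ X be its inclusion. Then the
canonical map G_{m,X} ⟶ j_* G_{m,η} is a monomorphism, and its cokernel is isomorphic to the direct
sum over all closed points of the sheaves (i_x)_* Z (existence of an isomorphism only; the direct
sum is given as any colimit cofan of that family). -/
theorem result (k : Type u) [Field k] [IsAlgClosed k] (X : Scheme.{u})
    (f : X ⟶ Spec (CommRingCat.of k)) [Smooth f] [IsSeparated f] [LocallyOfFiniteType f] [QuasiCompact f] [IsIntegral X]
    (hdim : topologicalKrullDim ↥X = 1)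
    (c : Cofan fun x : {x : ↥X // IsClosed ({x} : Set ↥X)} =>
      (EtCoh.push (X.fromSpecResidueField x.1)).obj (EtCoh.const (Spec (X.residueField x.1)) ℤ))
    (hc : IsColimit c) :
    Mono (EtLim.GmPush (X.fromSpecStalk (genericPoint ↥X))) ∧
      Nonempty (cokernel (EtLim.GmPush (X.fromSpecStalk (genericPoint ↥X))) ≅ c.pt) := by
  haveI : IsLocallyNoetherian X := LocallyOfFiniteType.isLocallyNoetherian f
  have hX : CurvesA.DivPoint.IsDed X := fun x hx =>
    CurvesB.SmoothCurveFacts.isDiscreteValuationRing_stalk f hdim.le hx
  have hgen : ¬ IsClosed ({genericPoint X} : Set X) := by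
    intro h
    have h1 : ∀ x : X, x = genericPoint X := by
      intro x
      have h2 : x ∈ closure ({genericPoint X} : Set X) := by
        rw [genericPoint_closure]
        trivial
      rwa [h.closure_eq] at h2
    have h3 : Subsingleton X := ⟨fun a b => (h1 a).trans (h1 b).symm⟩
    have h4 : Subsingleton (TopologicalSpace.IrreducibleCloseds X) := by
      constructor
      intro A B
      apply TopologicalSpace.IrreducibleCloseds.ext
      ext x
      constructor
      · intro _
        obtain ⟨y, hy⟩ := B.2.1
        rwa [Subsingleton.elim x y]
      · intro _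
        obtain ⟨y, hy⟩ := A.2.1
        rwa [Subsingleton.elim x y]
    have h5 : topologicalKrullDim X ≤ 0 := Order.krullDim_nonpos_of_subsingleton
    rw [hdim] at h5
    exact absurd h5 (by decide)
  have h1 : EtLim.GmPush (X.fromSpecStalk (genericPoint X)) =
      CurvesA.GmFunct.gmMap (CurvesA.OrdMap.j X) := rfl
  refine ⟨?_, ?_⟩
  · rw [h1]
    exact CurvesA.DivSheaf.mono_gmMap hX
  · have := K316.DivSum.isIso_φ hX hgen c hc
    exact ⟨(asIso (K316.DivSum.φ hX hgen c hc)).symm⟩

end Groth.Agent.S6653
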