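import Groth.Statements.S6654
import Groth.Agent.Sga4h.ModConstFT
import Groth.Agent.EtModW.K336.Sect
import Groth.Agent.EtModW.K336.ConstMap
-- import your own Groth.Agent.* helpers here

set_option autoImplicit false
open CategoryTheory CategoryTheory.Limits AlgebraicGeometry Opposite
universe u
open EtModW

namespace Groth.Agent.S6654

open Groth.Agent.EtpbcA.Germ (Fib fmap pt)
open Groth.Agent.EtpbcA.FLCExact (exists_fib)
open Groth.Agent.Etrest.ModGerm

/-- Let X be an irreducible scheme, ξ a geometric point over its generic point, Λ a commutative ring, M'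
a submodule of a Λ-module M, and G a sheaf of Λ-modules on the small etale site of X with
monomorphisms a : const M' ⟶ G and b : G ⟶ const M whose composite is the map of constant sheaves
induced by the inclusion. If the stalk of a at ξ is an isomorphism, then a is an isomorphism. -/
theorem result (Λ : Type (u + 1)) [CommRing Λ] {X : Scheme.{u}} [IrreducibleSpace ↥X]
    {Ω : Type u} [Field Ω] [IsSepClosed Ω] (ξ : Spec (CommRingCat.of Ω) ⟶ X)
    (hξ : ξ.base default = genericPoint ↥X)
    (M : Type (u + 1)) [AddCommGroup M] [Module Λ M] (M' : Submodule Λ M) (G : EtModW.Mod Λ X)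
    (a : EtModW.constMod Λ X ↥M' ⟶ G) (b : G ⟶ EtModW.constMod Λ X M) [Mono a] [Mono b]
    (hab : a ≫ b = (constantSheaf X.smallEtaleTopology (ModuleCat.{u + 1} Λ)).map (ModuleCat.ofHom M'.subtype))
    (hst : IsIso ((EtModW.stalk Λ ξ).map a)) : IsIso a := by
  have hcomp : ∀ (V : X.Etale) (m' : ↥M'), ev Λ b V (ev Λ a V
      (Groth.Agent.Sga4h.ModConstFT.constSec Λ X (↥M') V m')) =
        Groth.Agent.Sga4h.ModConstFT.constSec Λ X M V (m' : M) := by
    intro V m'
    have h1 := K336.ConstMap.ev_cmap (Λ := Λ) (X := X) M'.subtype V m'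
    rw [K336.ConstMap.cmap, ← hab] at h1
    exact h1
  have hepi : Epi a := by
    refine K336.Sect.epi_of_local a fun U s x => ?_
    -- after shrinking, `b s` is a constant section
    obtain ⟨V, k, v, m, hv, em⟩ := (Groth.Agent.Sga4h.ModConstFT.isConstVia_const Λ X M U).surjective
      (𝟙 U) x (ev Λ b U s)
    rw [Category.comp_id, Groth.Agent.Sga4h.ModConstFT.res_constSec, ← ev_res] at em
    -- a point of `V` above the generic point
    have hfl : IsOpen (Set.range V.hom) := by
      have : Etale V.hom := V.prop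
      exact (IsOpenMap.isOpen_range (f := V.hom) V.hom.isOpenMap)
    obtain ⟨w, hw⟩ : genericPoint X ∈ Set.range V.hom :=
      (genericPoint_spec X).mem_open_set_iff hfl |>.2 (by
        refine ⟨V.hom v, trivial, ⟨v, rfl⟩⟩)
    obtain ⟨t, ht⟩ := exists_fib ξ V w (hw.trans hξ.symm)
    -- the germ of `s` comes from `M'`
    have hbij := (Groth.Agent.Sga4h.ModConstFT.isConstVia_const Λ X (↥M') V) Ω ξ t
    have hsurj : Function.Surjective (stalkMap Λ ξ a) := by
      have h1 : Epi ((EtModW.stalk Λ ξ).map a) := inferInstance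
      exact (ModuleCat.epi_iff_surjective _).1 h1
    obtain ⟨z, hz⟩ := hsurj (germ Λ ξ G t (res Λ G k s))
    obtain ⟨m', rfl⟩ := hbij.2 z
    have e1 : germ Λ ξ (EtModW.constMod Λ X M) t (Groth.Agent.Sga4h.ModConstFT.constSec Λ X M V m) =
        germ Λ ξ (EtModW.constMod Λ X M) t
          (Groth.Agent.Sga4h.ModConstFT.constSec Λ X M V (m' : M)) := by
      rw [← em, ← stalkMap_germ, ← hz]
      change stalkMap Λ ξ b (stalkMap Λ ξ a _) = _
      rw [stalkMap_germ, stalkMap_germ]
      exact congrArg _ (hcomp V m')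
    have e2 := (Groth.Agent.Sga4h.ModConstFT.isConstVia_const Λ X M V Ω ξ t).1 e1
    refine ⟨V, k, Groth.Agent.Sga4h.ModConstFT.constSec Λ X (↥M') V m', ⟨v, hv⟩, ?_⟩
    apply K336.Sect.ev_injective b V
    rw [em, e2]
    exact hcomp V m'
  exact isIso_of_mono_of_epi a

end Groth.Agent.S6654
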