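import Groth.Statements.S6655
import Groth.Agent.EtModW.K336.OverConst
-- import your own Groth.Agent.* helpers here

set_option autoImplicit false
open CategoryTheory CategoryTheory.Limits AlgebraicGeometry Opposite
universe u
open EtModW

namespace Groth.Agent.S6655

open Groth.Agent.EtpbcA.Germ (Fib fmap pt exists_geomPt hom_pt)
open Groth.Agent.Etrest.ModGerm Groth.Agent.Etrest.ModFT

/-- Part (3): with both sheaves of finite type: let Λ be a commutative ring and φ : F ⟶ G a map of
finite type locally constant sheaves of Λ-modules on the small etale site of a scheme X. Then on the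
members of some etale covering of X the restriction of φ is, up to isomorphisms with constant
sheaves on both sides, the map of constant sheaves induced by a Λ-linear map. (The published
statement allows G to be any locally constant sheaf of Λ-modules; this row assumes G of finite type
as well.) -/
theorem result (Λ : Type (u + 1)) [CommRing Λ] {X : Scheme.{u}} (F G : EtModW.Mod Λ X)
    (φ : F ⟶ G) (hF : EtModW.IsFTLocConst Λ F) (hG : EtModW.IsFTLocConst Λ G) :
    ∃ (ι : Type u) (U : ι → X.Etale), EtCoh.Covers U ∧ ∀ i, ∃ (M N : Type (u + 1)) (_ : AddCommGroup M) (_ : AddCommGroup N)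
      (_ : Module Λ M) (_ : Module Λ N) (h : M →ₗ[Λ] N)
      (α : EtModW.restr Λ F (U i) ≅ (constantSheaf (X.smallEtaleTopology.over (U i)) (ModuleCat.{u + 1} Λ)).obj (ModuleCat.of Λ M))
      (β : EtModW.restr Λ G (U i) ≅ (constantSheaf (X.smallEtaleTopology.over (U i)) (ModuleCat.{u + 1} Λ)).obj (ModuleCat.of Λ N)),
      (X.smallEtaleTopology.overPullback (ModuleCat.{u + 1} Λ) (U i)).map φ ≫ β.hom =
        α.hom ≫ (constantSheaf (X.smallEtaleTopology.over (U i)) (ModuleCat.{u + 1} Λ)).map (ModuleCat.ofHom h) := by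
  have key : ∀ x : X, ∃ (U : X.Etale) (_ : ∃ u : U.left, U.hom u = x) (M N : Type (u + 1))
      (_ : AddCommGroup M) (_ : AddCommGroup N) (_ : Module Λ M) (_ : Module Λ N) (h : M →ₗ[Λ] N)
      (α : EtModW.restr Λ F U ≅ (constantSheaf (X.smallEtaleTopology.over U) (ModuleCat.{u + 1} Λ)).obj (ModuleCat.of Λ M))
      (β : EtModW.restr Λ G U ≅ (constantSheaf (X.smallEtaleTopology.over U) (ModuleCat.{u + 1} Λ)).obj (ModuleCat.of Λ N)),
      (X.smallEtaleTopology.overPullback (ModuleCat.{u + 1} Λ) U).map φ ≫ β.hom =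
        α.hom ≫ (constantSheaf (X.smallEtaleTopology.over U) (ModuleCat.{u + 1} Λ)).map (ModuleCat.ofHom h) := by
    intro x
    obtain ⟨Ω, _, _, ξ, t₀, ht₀⟩ := exists_geomPt (U := EtCoh.top X) x
    obtain ⟨U₁, g₁, t₁, M, _, _, _, φA, e₁, hA⟩ := exists_const_nbhd hF ξ t₀
    obtain ⟨U₂, g₂, t₂, N, _, _, _, φB, e₂, hB⟩ := exists_const_nbhd hG ξ t₁
    obtain ⟨V, g, t, h, e₃, hh⟩ := exists_local_hom ξ φ t₂ ((res Λ F g₂).comp φA) φB hB
    refine ⟨V, ⟨pt ξ t, ?_⟩, M, N, inferInstance, inferInstance, inferInstance, inferInstance, h,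
      K336.OverConst.isoConst F V _ ((hA.res g₂).res g), K336.OverConst.isoConst G V _ (hB.res g), ?_⟩
    · rw [hom_pt ξ t, ← hom_pt ξ t₀, ht₀]
      rfl
    · exact K336.OverConst.isoConst_naturality φ V _ _ _ _ h hh
  choose U hU M N i1 i2 i3 i4 h α β e using key
  exact ⟨X, U, fun x => ⟨x, (hU x).choose, (hU x).choose_spec⟩, fun x =>
    ⟨M x, N x, i1 x, i2 x, i3 x, i4 x, h x, α x, β x, e x⟩⟩

end Groth.Agent.S6655
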