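import Groth.Statements.S6659
import Groth.Agent.Sga4h.OpenClosed

set_option autoImplicit false
universe u
open CategoryTheory CategoryTheory.Limits AlgebraicGeometry Opposite
attribute [local instance] HasDerivedCategory.standard
open EtDual

namespace Groth.Agent.S6659

open Groth.Agent.Sga4h Groth.Agent.Sga4h.AdmCx Groth.Agent.Etrest Groth.Agent.Etrest.DEtPush

/-- Let i : Z → X be a closed immersion of schemes with open complement j : U → X. The direct image i_*
of abelian etale sheaves is exact (its right exactness is carried as an instance hypothesis), and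
the induced functor D(Z_et) → D(X_et) is fully faithful; an object K of D(X_et) lies in its
essential image if and only if every cohomology sheaf of K has zero restriction to U, i.e. K has
cohomology sheaves supported on Z. (The identification of the quasi-inverse with the derived functor
of sections supported on Z is not part of this row.) -/
theorem result {Z X U : Scheme.{u}} (i : Z ⟶ X)
    [IsClosedImmersion i] (j : U ⟶ X) [IsOpenImmersion j] (hZU : Set.range j = (Set.range i)ᶜ)
    [PreservesFiniteColimits (EtCoh.push i)] :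
    ((EtCoh.push i).mapDerivedCategory.Full ∧ (EtCoh.push i).mapDerivedCategory.Faithful) ∧
      ∀ K : DCoh.DEt X,
        (EtCoh.push i).mapDerivedCategory.essImage K ↔
          ∀ n : ℤ, IsZero ((EtCoh.pull j).obj (DCoh.HDEt K n)) := by
  have hff := Etcore.IntUnivInj.full_faithful_all i
  obtain ⟨h1, h2⟩ := hff
  have h3 : IsIso (EtCoh.pullPushAdj i).counit := Adjunction.counit_isIso_of_R_fully_faithful _
  have h4 : ∀ M, IsIso ((CohtopB.ExactDerAdj.derivedAdj (EtCoh.pullPushAdj i)).counit.app M) :=
    OpenClosed.isIso_counit_derivedAdj (EtCoh.pullPushAdj i) (fun X => inferInstance)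
  have h5 : IsIso (CohtopB.ExactDerAdj.derivedAdj (EtCoh.pullPushAdj i)).counit :=
    NatIso.isIso_of_isIso_app _
  have ff := (CohtopB.ExactDerAdj.derivedAdj (EtCoh.pullPushAdj i)).fullyFaithfulROfIsIsoCounit
  refine ⟨⟨ff.full, ff.faithful⟩, fun K => ⟨?_, ?_⟩⟩
  · rintro ⟨M, ⟨e⟩⟩ n
    have e1 : DCoh.HDEt K n ≅ (EtCoh.push i).obj (DCoh.HDEt M n) :=
      (DerivedCategory.homologyFunctor _ n).mapIso e.symm ≪≫
        Dcoh.MapDer.homologyMapDerApp (EtCoh.push i) n M
    refine (OpenClosed.isZero_pull_push i j ?_ (DCoh.HDEt M n)).of_iso ((EtCoh.pull j).mapIso e1)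
    intro x hx
    have : j x ∈ Set.range j := ⟨x, rfl⟩
    rw [hZU] at this
    exact this hx
  · intro h
    have h6 : IsZero ((pullD j).obj K) := (OpenClosed.isZero_pullD_iff j K).2 h
    have h7 := OpenClosed.isIso_unit_of_isZero i j hZU K h6
    exact ⟨(pullD i).obj K, ⟨(((pushDIso (f := i)).app _).symm ≪≫
      (asIso ((dPullPush i).unit.app K)).symm)⟩⟩

end Groth.Agent.S6659
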