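import Groth.Statements.S6663
import Groth.Agent.EtBC.K1.FieldMain

set_option autoImplicit false
universe u
open CategoryTheory CategoryTheory.Limits AlgebraicGeometry Opposite
open EtBC

namespace Groth.Agent.S6663

/-- Let f : X → S be a morphism of schemes and n, q integers with q ≥ 1 such that BC(f, n, q − 1) holds
and BC(f, n, q) fails. Here BC(f, n, q − 1) means: for every base change f₁ : X₁ → S₁ of f along a
morphism S₁ → S, every cartesian square Y₁ = X₁ ×_{S₁} T₁ over a quasi-compact quasi-separated g₁ :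
T₁ → S₁ (with h₁ : Y₁ → X₁, e₁ : Y₁ → T₁), and every abelian sheaf G on the small etale site of T₁
killed by n, the base change map f₁⁻¹ R^a g₁,_* G → R^a h₁,_* e₁⁻¹ G is an isomorphism for all a ≤ q
− 1. (BC(f, n, q) is the same with a ≤ q.) Then there exist a base change f' : X' → S' of f, a field
K and a morphism g : Spec K → S', the cartesian square Y = X' ×_{S'} Spec K (h : Y → X', e : Y →
Spec K) and an abelian sheaf F on the small etale site of Spec K killed by n such that the degree-q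
base change map f'⁻¹ R^q g_* F → R^q h_* e⁻¹ F is not an isomorphism. -/
theorem result {X S : Scheme.{u}} (f : X ⟶ S) (n q : ℕ) (hq : 1 ≤ q)
    (hBC : (∀ ⦃S₁ X₁ T₁ Y₁ : Scheme.{u}⦄ (p₁ : S₁ ⟶ S) (f₁ : X₁ ⟶ S₁) (r₁ : X₁ ⟶ X),
        IsPullback r₁ f₁ f p₁ →
        ∀ (g₁ : T₁ ⟶ S₁) (h₁ : Y₁ ⟶ X₁) (e₁ : Y₁ ⟶ T₁) (c₁ : IsPullback e₁ h₁ g₁ f₁)
          [QuasiCompact g₁] [QuasiSeparated g₁] [PreservesFiniteLimits (EtCoh.pull e₁)]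
          (G₁ : EtCoh.Ab T₁), EtCoh.KilledBy n G₁ →
          ∀ q₁ : ℕ, q₁ ≤ q - 1 → IsIso (EtBC.bcQ g₁ f₁ h₁ e₁ c₁.w q₁ G₁)))
    (hnot : ¬ (∀ ⦃S₂ X₂ T₂ Y₂ : Scheme.{u}⦄ (p₂ : S₂ ⟶ S) (f₂ : X₂ ⟶ S₂) (r₂ : X₂ ⟶ X),
        IsPullback r₂ f₂ f p₂ →
        ∀ (g₂ : T₂ ⟶ S₂) (h₂ : Y₂ ⟶ X₂) (e₂ : Y₂ ⟶ T₂) (c₂ : IsPullback e₂ h₂ g₂ f₂)
          [QuasiCompact g₂] [QuasiSeparated g₂] [PreservesFiniteLimits (EtCoh.pull e₂)]
          (G₂ : EtCoh.Ab T₂), EtCoh.KilledBy n G₂ →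
          ∀ q₂ : ℕ, q₂ ≤ q → IsIso (EtBC.bcQ g₂ f₂ h₂ e₂ c₂.w q₂ G₂))) :
    ∃ (S' X' Y : Scheme.{u}) (p : S' ⟶ S) (f' : X' ⟶ S') (r : X' ⟶ X) (_ : IsPullback r f' f p)
      (K : Type u) (_ : Field K) (g : Spec (CommRingCat.of K) ⟶ S') (h : Y ⟶ X') (e : Y ⟶ Spec (CommRingCat.of K))
      (c : IsPullback e h g f') (F : EtCoh.Ab (Spec (CommRingCat.of K))) (_ : EtCoh.KilledBy n F),
      ∀ [PreservesFiniteLimits (EtCoh.pull e)], ¬ IsIso (EtBC.bcQ g f' h e c.w q F) := by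
  by_contra hcon
  obtain ⟨m, rfl⟩ : ∃ m, q = m + 1 := ⟨q - 1, by omega⟩
  have hfld : ∀ {S' X' Y : Scheme.{u}} (p : S' ⟶ S) (f' : X' ⟶ S') (r : X' ⟶ X),
        IsPullback r f' f p →
        ∀ (K : Type u) [Field K] (g : Spec (.of K) ⟶ S') (h : Y ⟶ X') (e : Y ⟶ Spec (.of K))
          (c : IsPullback e h g f') (G : EtCoh.Ab (Spec (.of K))), EtCoh.KilledBy n G →
          IsIso (K557.BcQ.bq c.w (m + 1) G) := by
    intro S' X' Y p f' r cX K _ g h e c G hG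
    by_contra hni
    exact hcon ⟨S', X', Y, p, f', r, cX, K, inferInstance, g, h, e, c, G, hG, fun hi => hni hi⟩
  refine hnot ?_
  intro S₂ X₂ T₂ Y₂ p₂ f₂ r₂ cX g₂ h₂ e₂ c₂ _ _ _ G₂ hG q₂ hq₂
  rcases Nat.lt_or_ge q₂ (m + 1) with hlt | hge
  · exact hBC p₂ f₂ r₂ cX g₂ h₂ e₂ c₂ G₂ hG q₂ (by omega)
  · obtain rfl : q₂ = m + 1 := le_antisymm hq₂ hge
    refine Groth.Agent.EtBC.K1.FieldMain.isIso_bq_of_fields f n m ?_ hfld p₂ f₂ r₂ cX g₂ h₂ e₂ c₂ G₂ hG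
    intro S₁ X₁ T₁ Y₁ p₁ f₁ r₁ cX₁ g₁ h₁ e₁ c₁ _ _ G₁ hG₁ q₁ hq₁
    have := Groth.Agent.S0101.result e₁
    exact hBC p₁ f₁ r₁ cX₁ g₁ h₁ e₁ c₁ G₁ hG₁ q₁ hq₁

end Groth.Agent.S6663
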