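import Groth.Statements.S6665
import Groth.Agent.S6664
import Groth.Agent.EtBC.K625.GenPt

set_option autoImplicit false
universe u
open CategoryTheory CategoryTheory.Limits AlgebraicGeometry Opposite
open EtBC

namespace Groth.Agent.S6665

/-- Let f : X → S be a morphism of schemes and n, q integers with q ≥ 1, n invertible on S, such that
BC(f, n, q − 1) holds and BC(f, n, q) fails. Here BC(f, n, q − 1) means: for every base change f₁ :
X₁ → S₁ of f along a morphism S₁ → S, every cartesian square Y₁ = X₁ ×_{S₁} T₁ over a quasi-compact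
quasi-separated g₁ : T₁ → S₁ (with h₁ : Y₁ → X₁, e₁ : Y₁ → T₁), and every abelian sheaf G on the
small etale site of T₁ killed by n, the base change map f₁⁻¹ R^a g₁,_* G → R^a h₁,_* e₁⁻¹ G is an
isomorphism for all a ≤ q − 1. (BC(f, n, q) is the same with a ≤ q.) Then there exist an affine
integral scheme S' over S all of whose local rings are integrally closed and whose function field K
is algebraically closed, the base change f' : X' = X ×_S S' → S', the cartesian square Y = X' ×_{S'}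
Spec K over the generic point Spec K → S' with projection h : Y → X', and a natural number d
dividing n such that R^q h_* of the constant sheaf ℤ/d on Y is nonzero. -/
theorem result {X S : Scheme.{u}} (f : X ⟶ S) (n q : ℕ)
    (hq : 1 ≤ q) (hn : IsUnit (n : Γ(S, ⊤)))
    (hBC : (∀ ⦃S₁ X₁ T₁ Y₁ : Scheme.{u}⦄ (p₁ : S₁ ⟶ S) (f₁ : X₁ ⟶ S₁) (r₁ : X₁ ⟶ X),
        IsPullback r₁ f₁ f p₁ →
        ∀ (g₁ : T₁ ⟶ S₁) (h₁ : Y₁ ⟶ X₁) (e₁ : Y₁ ⟶ T₁) (c₁ : IsPullback e₁ h₁ g₁ f₁)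
          [QuasiCompact g₁] [QuasiSeparated g₁] [PreservesFiniteLimits (EtCoh.pull e₁)]
          (G₁ : EtCoh.Ab T₁), EtCoh.KilledBy n G₁ →
          ∀ q₁ : ℕ, q₁ ≤ q - 1 → IsIso (EtBC.bcQ g₁ f₁ h₁ e₁ c₁.w q₁ G₁)))
    (hnot : ¬ (∀ ⦃S₂ X₂ T₂ Y₂ : Scheme.{u}⦄ (p₂ : S₂ ⟶ S) (f₂ : X₂ ⟶ S₂) (r₂ : X₂ ⟶ X),
        IsPullback r₂ f₂ f p₂ →
        ∀ (g₂ : T₂ ⟶ S₂) (h₂ : Y₂ ⟶ X₂) (e₂ : Y₂ ⟶ T₂) (c₂ : IsPullback e₂ h₂ g₂ f₂)
          [QuasiCompact g₂] [QuasiSeparated g₂] [PreservesFiniteLimits (EtCoh.pull e₂)]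
          (G₂ : EtCoh.Ab T₂), EtCoh.KilledBy n G₂ →
          ∀ q₂ : ℕ, q₂ ≤ q → IsIso (EtBC.bcQ g₂ f₂ h₂ e₂ c₂.w q₂ G₂))) :
    ∃ (S' X' Y : Scheme.{u}) (_ : IsAffine S') (_ : IsIntegral S')
      (_ : ∀ s : S', IsIntegrallyClosed (S'.presheaf.stalk s)) (_ : IsAlgClosed S'.functionField)
      (p : S' ⟶ S) (f' : X' ⟶ S') (r : X' ⟶ X) (_ : IsPullback r f' f p)
      (h : Y ⟶ X') (e : Y ⟶ Spec S'.functionField) (_ : IsPullback e h (S'.fromSpecStalk (genericPoint S')) f')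
      (d : ℕ) (_ : d ∣ n),
      ¬ IsZero ((EtCoh.Rpush h q).obj (EtCoh.const Y (ZMod d))) := by
  have hn0 : 0 < n := by
    obtain ⟨S', X', Y, p, f', r, hX, K, _, g, h, e, c, F, hF, hne⟩ :=
      Groth.Agent.S6663.result f n q hq hBC hnot
    exact Nat.pos_of_ne_zero fun h0 => K625.GenPt.cast_ne_zero hn (g ≫ p) (by rw [h0, Nat.cast_zero])
  obtain ⟨S', X', Y, i1, i2, i3, i4, p, f', r, hX, K, i5, i6, g, i7, h, e, c, d, hd, hne⟩ :=
    Groth.Agent.S6664.result f n q hq hn0 hBC hnot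
  have hd' : (d : S'.functionField) ≠ 0 := by
    obtain ⟨m, rfl⟩ := hd
    have h1 : ((d * m : ℕ) : S'.functionField) ≠ 0 :=
      K625.GenPt.cast_ne_zero (K := S'.functionField) hn (S'.fromSpecStalk (genericPoint S') ≫ p)
    rw [Nat.cast_mul] at h1
    exact left_ne_zero_of_mul h1
  obtain ⟨Y₀, h₀, e₀, c₀, hne₀⟩ := K625.GenPt.exists_witness g h e c d q hd' hne
  exact ⟨S', X', Y₀, i1, i2, i3, i4, p, f', r, hX, h₀, e₀, c₀, d, hd, hne₀⟩

end Groth.Agent.S6665
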