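import Groth.Statements.S6666
import Groth.Agent.Lim.K339.StalkLim
import Groth.Agent.Lim.K339.ChainLim
import Groth.Agent.Lim.K339.LimTop
import Groth.Agent.Ega1.ReducedSub

set_option autoImplicit false
universe u
open CategoryTheory AlgebraicGeometry
open Lim

namespace Groth.Agent.S6666

open Opposite Limits in
/-- Let T be a nonempty quasi-compact quasi-separated scheme and P a property of schemes over T (applied
to quasi-compact quasi-separated ones). Assume: (1) for every thickening T'' → T' (a surjective
closed immersion) of quasi-compact quasi-separated schemes over T, P(T'') if and only if P(T'); (2)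
if a scheme T' over T is a limit (in schemes over T) of a cofiltered system of quasi-compact
quasi-separated schemes over T with affine transition morphisms and P holds for every member, then
P(T'); (3) if T' is quasi-compact quasi-separated over T with P(T') and Z ⊂ T' is a closed subscheme
whose open complement V is quasi-compact, then P(V) or P(Z). Then P(T) implies P(Spec K → T) for
some field K and some morphism Spec K → T. (The published statement does not require T nonempty; for
T empty and P identically true there is no morphism from the spectrum of a field to T, so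
nonemptiness is assumed here.) -/
theorem result (T : Scheme.{u}) [CompactSpace T] [QuasiSeparatedSpace T]
    [Nonempty T] (P : ∀ ⦃T' : Scheme.{u}⦄, (T' ⟶ T) → Prop)
    (h1 : ∀ ⦃T' T'' : Scheme.{u}⦄ (a : T' ⟶ T) (t : T'' ⟶ T') [IsClosedImmersion t] [Surjective t]
      [CompactSpace T'] [QuasiSeparatedSpace T'] [CompactSpace T''] [QuasiSeparatedSpace T''], P (t ≫ a) ↔ P a)
    (h2 : ∀ ⦃I : Type u⦄ [SmallCategory I] [IsCofiltered I] (D : I ⥤ Over T) (c : Limits.Cone D) (_ : Limits.IsLimit c),
      (∀ (i j : I) (m : i ⟶ j), IsAffineHom (D.map m).left) →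
      (∀ i, CompactSpace (D.obj i).left ∧ QuasiSeparatedSpace (D.obj i).left) →
      (∀ i, P (D.obj i).hom) → P c.pt.hom)
    (h3 : ∀ ⦃T' Z V : Scheme.{u}⦄ (a : T' ⟶ T) [CompactSpace T'] [QuasiSeparatedSpace T'] (i : Z ⟶ T') [IsClosedImmersion i]
      (j : V ⟶ T') [IsOpenImmersion j] [CompactSpace V], Set.range j = (Set.range i)ᶜ → P a → P (j ≫ a) ∨ P (i ≫ a))
    (hT : P (𝟙 T)) :
    ∃ (K : Type u) (_ : Field K) (t : Spec (CommRingCat.of K) ⟶ T), P t := by
  have hsubc : ∀ (K : T.IdealSheafData), CompactSpace K.subscheme := fun K =>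
    QuasiCompact.compactSpace_of_compactSpace K.subschemeι
  have hsubq : ∀ (K : T.IdealSheafData), QuasiSeparatedSpace K.subscheme := fun K =>
    quasiSeparatedSpace_of_quasiSeparated K.subschemeι
  let 𝒮 : Set T.IdealSheafData := {K | Nonempty K.subscheme ∧ P K.subschemeι}
  have hbot : (⊥ : T.IdealSheafData) ∈ 𝒮 := by
    have h4 : IsIso (⊥ : T.IdealSheafData).subschemeι := inferInstance
    refine ⟨?_, ?_⟩
    · obtain ⟨x⟩ := ‹Nonempty T›
      exact ⟨inv (⊥ : T.IdealSheafData).subschemeι x⟩
    · have := (h1 (𝟙 T) (⊥ : T.IdealSheafData).subschemeι).mpr hT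
      rwa [Category.comp_id] at this
  -- a minimal closed subscheme
  obtain ⟨I, -, hI, hmax⟩ := zorn_le_nonempty₀ 𝒮 (fun C hC hch y hy => by
    refine ⟨sSup C, ⟨K339.ChainLim.nonempty_sSup C ⟨y, hy⟩ hch fun K hK => (hC hK).1, ?_⟩,
      fun z hz => le_sSup hz⟩
    have : Nonempty C := ⟨⟨y, hy⟩⟩
    have : IsDirectedOrder C := ⟨fun a b => by
      rcases hch.total a.2 b.2 with hab | hba
      · exact ⟨b, hab, le_rfl⟩
      · exact ⟨a, le_rfl, hba⟩⟩
    exact h2 (K339.ChainLim.cD C) (K339.ChainLim.cC C) (K339.ChainLim.isLimitCC C)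
      (fun i j m => inferInstance) (fun i => ⟨hsubc _, hsubq _⟩) (fun i => (hC i.unop.2).2)) ⊥ hbot
  obtain ⟨hIne, hIP⟩ := hI
  have hrange : ∀ K : T.IdealSheafData, Set.range K.subschemeι = (K.support : Set T) := fun K =>
    Scheme.IdealSheafData.range_subschemeι K
  -- it is reduced
  have hrad : I.radical ≤ I := by
    have hpt : ∀ y : I.subscheme, ∃ w : I.radical.subscheme, I.radical.subschemeι w = I.subschemeι y := by
      intro y
      have hy : I.subschemeι y ∈ Set.range I.radical.subschemeι := by
        rw [hrange, Scheme.IdealSheafData.support_radical, ← hrange]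
        exact ⟨y, rfl⟩
      exact hy
    let t : I.radical.subscheme ⟶ I.subscheme :=
      Scheme.IdealSheafData.inclusion (Scheme.IdealSheafData.le_radical I)
    have ht : t ≫ I.subschemeι = I.radical.subschemeι := Scheme.IdealSheafData.inclusion_subschemeι _
    have htc : IsClosedImmersion t := by
      have h4 : IsClosedImmersion (t ≫ I.subschemeι) := by rw [ht]; infer_instance
      exact IsClosedImmersion.of_comp_isClosedImmersion t I.subschemeι
    have hts : Surjective t := by
      refine ⟨fun y => ?_⟩
      obtain ⟨w, hw⟩ := hpt y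
      refine ⟨w, I.subschemeι.isClosedEmbedding.injective ?_⟩
      rw [← hw, ← ht]
      rfl
    refine hmax ⟨?_, ?_⟩ (Scheme.IdealSheafData.le_radical _)
    · obtain ⟨y⟩ := hIne
      obtain ⟨w, -⟩ := hpt y
      exact ⟨w⟩
    · have := (h1 I.subschemeι t).mpr hIP
      rwa [ht] at this
  have hradeq : I.radical = I := le_antisymm hrad (Scheme.IdealSheafData.le_radical _)
  have hred : IsReduced I.subscheme := by
    have := Groth.Agent.Ega1.ReducedSub.isReduced_subscheme_radical I
    rwa [hradeq] at this
  let Z := I.subscheme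
  let z : Z ⟶ T := I.subschemeι
  have hZc : CompactSpace Z := hsubc I
  have hZq : QuasiSeparatedSpace Z := hsubq I
  have hZred : IsReduced Z := hred
  obtain ⟨x₀⟩ : Nonempty Z := hIne
  obtain ⟨η, hη⟩ : ∃ η : Z, closure {η} ∈ irreducibleComponents Z := by
    obtain ⟨η, hη⟩ := QuasiSober.sober (isIrreducible_irreducibleComponent (x := x₀))
      (isClosed_irreducibleComponent (x := x₀))
    exact ⟨η, by rw [hη.def]; exact irreducibleComponent_mem_irreducibleComponents x₀⟩
  have hfield := isField_stalk_of_closure_mem_irreducibleComponents Z η hη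
  have hV : ∀ V : K339.StalkLim.J η, P (K339.StalkLim.inc η V ≫ z) := by
    intro V
    have hVa : IsAffineOpen V.1.1 := V.1.2
    let j := K339.StalkLim.inc η V
    have hj : IsOpenImmersion j := hVa.isOpenImmersion_fromSpec
    have hjr : Set.range j = (V.1.1 : Set Z) := hVa.range_fromSpec
    let W : TopologicalSpace.Closeds Z := ⟨(V.1.1 : Set Z)ᶜ, V.1.1.2.isClosed_compl⟩
    let i := (Scheme.IdealSheafData.vanishingIdeal W).subschemeι
    have hir : Set.range i = (V.1.1 : Set Z)ᶜ := by
      rw [Scheme.IdealSheafData.range_subschemeι]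
      rfl
    rcases h3 z i j (by rw [hir, hjr, compl_compl]) hIP with h4 | h4
    · exact h4
    · rcases isEmpty_or_nonempty (Scheme.IdealSheafData.vanishingIdeal W).subscheme with hW | hW
      · have hjs : Surjective j := by
          refine ⟨fun y => ?_⟩
          have hy : y ∈ Set.range j := by
            rw [hjr, ← compl_compl (V.1.1 : Set Z), ← hir]
            rintro ⟨w, -⟩
            exact hW.elim w
          exact hy
        have hji : IsIso j := by
          have : Epi j.base := (TopCat.epi_iff_surjective _).mpr hjs.surj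
          exact IsOpenImmersion.isIso j
        exact (h1 z j).mpr hIP
      · exfalso
        have hle : I ≤ (i ≫ z).ker := by
          refine le_trans ?_ (Scheme.Hom.le_ker_comp i z)
          rw [Scheme.IdealSheafData.ker_subschemeι]
        have hmem : (i ≫ z).ker ∈ 𝒮 := by
          have hiso : IsIso (i ≫ z).toImage := inferInstance
          refine ⟨?_, ?_⟩
          · obtain ⟨w⟩ := hW
            exact ⟨(i ≫ z).toImage w⟩
          · have hc : CompactSpace (Scheme.IdealSheafData.vanishingIdeal W).subscheme :=
              QuasiCompact.compactSpace_of_compactSpace i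
            have hq : QuasiSeparatedSpace (Scheme.IdealSheafData.vanishingIdeal W).subscheme :=
              quasiSeparatedSpace_of_quasiSeparated i
            refine (h1 (i ≫ z).ker.subschemeι (i ≫ z).toImage).mp ?_
            rw [Scheme.Hom.toImage_imageι]
            exact h4
        have heq : (i ≫ z).ker = I := le_antisymm (hmax hmem hle) hle
        have hr : z η ∈ Set.range (i ≫ z).ker.subschemeι := by
          rw [heq]
          exact ⟨η, rfl⟩
        have hrs : Set.range (i ≫ z).ker.subschemeι = Set.range (i ≫ z) := by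
          rw [hrange, Scheme.Hom.support_ker]
          exact (i ≫ z).isClosedEmbedding.isClosed_range.closure_eq
        rw [hrs] at hr
        obtain ⟨w, hw⟩ := hr
        have hw' : i w = η := z.isClosedEmbedding.injective hw
        have : η ∈ Set.range i := ⟨w, hw'⟩
        rw [hir] at this
        exact this V.2
  have hst : P (Z.fromSpecStalk η ≫ z) :=
    h2 (K339.StalkLim.D η z) (K339.StalkLim.C η z) (K339.StalkLim.isLimitC η z)
      (fun V W m => (inferInstance : IsAffineHom (K339.StalkLim.tr η (leOfHom m))))
      (fun V => ⟨(inferInstance : CompactSpace (Spec Γ(Z, V.1.1))),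
        (inferInstance : QuasiSeparatedSpace (Spec Γ(Z, V.1.1)))⟩) (fun V => hV V)
  let φ : Z.presheaf.stalk η ⟶ CommRingCat.of (IsLocalRing.ResidueField (Z.presheaf.stalk η)) :=
    CommRingCat.ofHom (IsLocalRing.residue (Z.presheaf.stalk η))
  have hφs : Function.Surjective φ := IsLocalRing.residue_surjective (R := Z.presheaf.stalk η)
  have hφ : IsIso φ := by
    refine (ConcreteCategory.isIso_iff_bijective _).mpr ⟨?_, hφs⟩
    change Function.Injective (IsLocalRing.residue (Z.presheaf.stalk η))
    rw [RingHom.injective_iff_ker_eq_bot, IsLocalRing.ker_residue]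
    exact IsLocalRing.isField_iff_maximalIdeal_eq.mp hfield
  refine ⟨IsLocalRing.ResidueField (Z.presheaf.stalk η), inferInstance,
    Spec.map φ ≫ Z.fromSpecStalk η ≫ z, ?_⟩
  exact (h1 (Z.fromSpecStalk η ≫ z) (Spec.map φ)).mpr hst

end Groth.Agent.S6666
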