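import Groth.Statements.S6667
import Groth.Agent.SGA4h.K557.WeakEt
import Groth.Agent.Etbc.H232.SHFactor
import Groth.Agent.Etcore.HpullViaEq

set_option autoImplicit false
universe u
open CategoryTheory CategoryTheory.Limits AlgebraicGeometry Opposite
open EtBC

namespace Groth.Agent.S6667

open scoped Groth.Agent.Etcore.EtInst in
theorem bijective_HpullVia_iff {X Y Z : Scheme.{u}} (f : X ⟶ Y) (t : Y ⟶ Z) (f₀ : X ⟶ Z) (w : f ≫ t = f₀)
    [PreservesFiniteLimits (EtCoh.pull f)] (G : EtCoh.Ab Z) (p : ℕ) :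
    Function.Bijective (EtCore.HpullVia f t f₀ w G p) ↔
      Function.Bijective (Groth.Agent.Etcore.HpullCalc.hp f ((EtCoh.pull t).obj G) p) :=
  Iff.trans (iff_of_eq (congrArg Function.Bijective
    (funext fun x => Groth.Agent.Etcore.HpullCalc.HpullVia_apply_eq_hpVia f t f₀ w G p x)))
    (Groth.Agent.Etcore.HpullCalc.bijective_hpVia_iff f t f₀ w G p)

/-- Let Y = X ×_S T be a cartesian square of schemes with f : X → S, g : T → S quasi-compact and
quasi-separated, h : Y → X and e : Y → T, let F be an abelian sheaf on the small etale site of T and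
q ≥ 0. The following are equivalent: (1) for every point x of X, all strict henselizations R_X of
the local ring of X at x and R_S of the local ring of S at f(x), every local homomorphism ψ : R_S →
R_X compatible with f, and all cartesian squares P_S = Spec R_S ×_S T, P_X = Spec R_X ×_S T with the
morphism m : P_X → P_S induced by ψ, the pullback map H^q(P_S, F|P_S) → H^q(P_X, F|P_X) along m is
bijective; (2) the degree-q base change map f⁻¹ R^q g_* F → R^q h_* e⁻¹ F is an isomorphism. -/
theorem result {X S Y T : Scheme.{u}} (f : X ⟶ S) (g : T ⟶ S)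
    [QuasiCompact g] [QuasiSeparated g] (h : Y ⟶ X) (e : Y ⟶ T) (c : IsPullback e h g f)
    [PreservesFiniteLimits (EtCoh.pull e)] (F : EtCoh.Ab T) (q : ℕ) :
    (∀ (x : X) (RS : Type u) [CommRing RS] [IsLocalRing RS] [Algebra (S.presheaf.stalk (f.base x)) RS]
      [IsLocalHom (algebraMap (S.presheaf.stalk (f.base x)) RS)] [Hensel.IsStrictHenselization (S.presheaf.stalk (f.base x)) RS]
      (RX : Type u) [CommRing RX] [IsLocalRing RX] [Algebra (X.presheaf.stalk x) RX]
      [IsLocalHom (algebraMap (X.presheaf.stalk x) RX)] [Hensel.IsStrictHenselization (X.presheaf.stalk x) RX]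
      (ψ : RS →+* RX) [IsLocalHom ψ],
      ψ.comp (algebraMap (S.presheaf.stalk (f.base x)) RS) = (algebraMap (X.presheaf.stalk x) RX).comp (f.stalkMap x).hom →
      ∀ (PS PX : Scheme.{u}) (aS : PS ⟶ T) (bS : PS ⟶ Spec (CommRingCat.of RS))
        (_ : IsPullback aS bS g (Hens2.specOf S (f.base x) RS))
        (aX : PX ⟶ T) (bX : PX ⟶ Spec (CommRingCat.of RX))
        (_ : IsPullback aX bX g (Hens2.specOf X x RX ≫ f))
        (m : PX ⟶ PS) (w : m ≫ aS = aX), m ≫ bS = bX ≫ Spec.map (CommRingCat.ofHom ψ) →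
        ∀ [PreservesFiniteLimits (EtCoh.pull m)], Function.Bijective (EtCore.HpullVia m aS aX w F q)) ↔
    IsIso (EtBC.bcQ g f h e c.w q F) := by
  have i1 : QuasiCompact h := MorphismProperty.of_isPullback c ‹_›
  have i2 : QuasiSeparated h := MorphismProperty.of_isPullback c ‹_›
  rw [K557.BcQ.bcQ_eq]
  constructor
  · intro H
    refine K557.WeakEt.isIso_bq_of_forall c.w q F (fun x => ?_)
    obtain ⟨RS, _, _, _, _, hRS, -⟩ :=
      Groth.Agent.Hensel.Exist.exists_isStrictHenselization (R := S.presheaf.stalk (f x))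
    obtain ⟨RX, _, _, _, _, hRX, -⟩ :=
      Groth.Agent.Hensel.Exist.exists_isStrictHenselization (R := X.presheaf.stalk x)
    obtain ⟨ψ, hψ, hcomp⟩ := Groth.Agent.Etbc.H232.SHFactor.exists_above (f.stalkMap x).hom RS RX
    have hsp := (Groth.Agent.Etrest.VCBaseChange.specOf_comm f x RS RX ψ).1 hcomp
    have HS := IsPullback.of_hasPullback g (Hens2.specOf S (f x) RS)
    have HY := IsPullback.of_hasPullback h (Hens2.specOf X x RX)
    have HX := HY.paste_horiz c
    have hm : (pullback.fst h (Hens2.specOf X x RX) ≫ e) ≫ g =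
        (pullback.snd h (Hens2.specOf X x RX) ≫ Spec.map (CommRingCat.ofHom ψ)) ≫ Hens2.specOf S (f x) RS := by
      rw [HX.w, Category.assoc]
      exact congrArg (fun z => pullback.snd h (Hens2.specOf X x RX) ≫ z) hsp.symm
    have key := @H x RS _ _ _ _ hRS RX _ _ _ _ hRX ψ hψ hcomp _ _ _ _ HS _ _ HX (HS.lift _ _ hm)
      (HS.lift_fst _ _ hm) (HS.lift_snd _ _ hm) inferInstance
    rw [bijective_HpullVia_iff] at key
    exact ⟨RS, RX, inferInstance, inferInstance, inferInstance, inferInstance, _, _, ψ, _, _, _, _, _, _, _,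
      Groth.Agent.Etrest.StrictLoc.isStrictLoc_specOf S (f x) RS,
      Groth.Agent.Etrest.StrictLoc.isStrictLoc_specOf X x RX, hψ, hsp,
      Groth.Agent.Etrest.VCBaseChange.specOf_closedPoint X x RX, HS, HY, HS.lift_fst _ _ hm,
      HS.lift_snd _ _ hm, key⟩
  · intro H x RS _ _ _ _ hRS RX _ _ _ _ hRX ψ hψ hcomp PS PX aS bS HS aX bX HX m w hm _
    rw [bijective_HpullVia_iff]
    have hsp := (Groth.Agent.Etrest.VCBaseChange.specOf_comm f x RS RX ψ).1 hcomp
    have hl : aX ≫ g = (bX ≫ Hens2.specOf X x RX) ≫ f :=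
      HX.w.trans (Category.assoc bX (Hens2.specOf X x RX) f).symm
    have HY : IsPullback (c.lift aX (bX ≫ Hens2.specOf X x RX) hl) bX h (Hens2.specOf X x RX) :=
      IsPullback.of_right (by rw [c.lift_fst]; exact HX) (c.lift_snd _ _ _) c
    exact K557.WeakEt.bijective_hp_of_isIso_bq c.w q F H
      (Groth.Agent.Etrest.StrictLoc.isStrictLoc_specOf S (f x) RS)
      (Groth.Agent.Etrest.StrictLoc.isStrictLoc_specOf X x RX) ψ hsp HS HY
      (by rw [c.lift_fst]; exact w) hm

end Groth.Agent.S6667
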