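import Groth.Statements.S6670
import Groth.Agent.EtBC.K1.ProfinPbk
import Groth.Agent.Etbc.H193.PbkLocal

set_option autoImplicit false
universe u
open CategoryTheory CategoryTheory.Limits AlgebraicGeometry Opposite
open EtBC

namespace Groth.Agent.S6670

open Groth.Agent.Etcore.HQ Groth.Agent.Etcore.LimBC1
open Groth.Agent.EtBC.K1.SepProfin
  Groth.Agent.EtBC.K1.ProfinPt Groth.Agent.EtBC.K1.ProfinBC Groth.Agent.EtBC.K1.ResIso
  Groth.Agent.EtBC.K1.ProfinPbk
open scoped TensorProduct

section Alg

variable {K : Type u} [Field K] [IsSepClosed K] {A R : Type u} [CommRing A] [CommRing R]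
  [Algebra A K] [Algebra A R] (hR : EtPBC.IsIndEtale A R)
  {C : Type u} [CommRing C] (ψ : R →+* C)
  {PS PX : Scheme.{u}} (aS : PS ⟶ Spec (.of K)) (bS : PS ⟶ Spec (.of R))
  {Z : Scheme.{u}} (i : Spec (.of A) ⟶ Z) [Mono i]
  (cS : IsPullback aS bS (Spec.map (CommRingCat.ofHom (algebraMap A K)) ≫ i)
    (Spec.map (CommRingCat.ofHom (algebraMap A R)) ≫ i))
  (bX : PX ⟶ Spec (.of C)) (m : PX ⟶ PS)
  (cX : IsPullback m bX bS (Spec.map (CommRingCat.ofHom ψ)))
  (F : EtCoh.Ab (Spec (.of K))) (q : ℕ) {aX : PX ⟶ Spec (.of K)} (w : m ≫ aS = aX)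

include hR cS cX in
theorem criterion [PreservesFiniteLimits (EtCoh.pull m)] :
    Function.Bijective (EtCore.HpullVia m aS aX w F q) ↔
      ∀ (κ' : R →+* K), κ'.comp (algebraMap A R) = algebraMap A K →
        ∀ (Q' : Scheme.{u}) (aQ' : Q' ⟶ Spec (CommRingCat.of K)) (bQ' : Q' ⟶ Spec (CommRingCat.of C)),
          IsPullback aQ' bQ' (Spec.map (CommRingCat.ofHom κ')) (Spec.map (CommRingCat.ofHom ψ)) →
          ∀ [PreservesFiniteLimits (EtCoh.pull aQ')], Function.Bijective (EtCore.Hpull aQ' F q) := by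
  have h : EtPBC.IsIndEtale K (K ⊗[A] R) := Proet.IndEtale.isIndEtale_baseChange A R K hR
  let l : Spec (.of (K ⊗[A] R)) ⟶ Spec (.of K) := Spec.map (CommRingCat.ofHom
    (Algebra.TensorProduct.includeLeftRingHom (R := A) (A := K) (B := R)))
  let r : Spec (.of (K ⊗[A] R)) ⟶ Spec (.of R) := Spec.map (CommRingCat.ofHom
    (Algebra.TensorProduct.includeRight (R := A) (A := K) (B := R)).toRingHom)
  have c0 : IsPullback l r (Spec.map (CommRingCat.ofHom (algebraMap A K)))
      (Spec.map (CommRingCat.ofHom (algebraMap A R))) :=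
    ((CommRingCat.isPushout_tensorProduct A K R).op.map Scheme.Spec).flip
  have c1 : IsPullback l r (Spec.map (CommRingCat.ofHom (algebraMap A K)) ≫ i)
      (Spec.map (CommRingCat.ofHom (algebraMap A R)) ≫ i) :=
    ⟨⟨by rw [← Category.assoc, c0.w, Category.assoc]⟩,
      ⟨PullbackCone.isLimitOfCompMono _ _ i _ c0.isLimit⟩⟩
  let ε : PS ≅ Spec (.of (K ⊗[A] R)) := cS.isoIsPullback _ _ c1
  have hε1 : ε.hom ≫ l = aS := cS.isoIsPullback_hom_fst _ _ c1
  have hε2 : ε.hom ≫ r = bS := cS.isoIsPullback_hom_snd _ _ c1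
  let y : PX ⟶ Spec (.of (K ⊗[A] R)) := m ≫ ε.hom
  have cX' : IsPullback y bX r (Spec.map (CommRingCat.ofHom ψ)) := by
    refine IsPullback.of_iso cX (Iso.refl _) ε (Iso.refl _) (Iso.refl _) ?_ ?_ ?_ ?_
    · simp [y]
    · simp
    · simp [hε2]
    · simp
  have hy1 : IsAffineHom y :=
    MorphismProperty.of_isPullback (P := @IsAffineHom) cX'.flip inferInstance
  have e1 : Function.Bijective (EtCore.HpullVia m aS aX w F q) ↔
      Function.Bijective (res F m w q) := bijective_HpullVia_iff_res F q m aS aX w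
  have e2 : Function.Bijective (res F m w q) ↔
      Function.Bijective (res F (q := l) (q' := y ≫ l) y rfl q) := by
    refine bijective_res_iff F q m w y rfl (𝟙 PX) ε.hom hε1 ?_
    rw [Category.id_comp]
  refine e1.trans (e2.trans ((bijective_iff F l y q h).trans ?_))
  have key : ∀ (κ' : R →+* K) (φ : K ⊗[A] R →+* K)
      (_ : φ.comp (algebraMap K (K ⊗[A] R)) = RingHom.id K)
      (_ : φ.comp (Algebra.TensorProduct.includeRight (R := A) (A := K) (B := R)).toRingHom = κ')
      (p : PrimeSpectrum (K ⊗[A] R)) (_ : p.asIdeal = RingHom.ker φ)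
      (Q' : Scheme.{u}) (aQ' : Q' ⟶ Spec (CommRingCat.of K)) (bQ' : Q' ⟶ Spec (CommRingCat.of C)),
          IsPullback aQ' bQ' (Spec.map (CommRingCat.ofHom κ')) (Spec.map (CommRingCat.ofHom ψ)) →
          ∀ [PreservesFiniteLimits (EtCoh.pull aQ')],
      (Function.Bijective (res F (pullback.snd y (ptMap p)) (cond l y (ptMap p)) q) ↔
        Function.Bijective (EtCore.Hpull aQ' F q)) := by
    intro κ' φ hφ hφr p hp Q' aQ' bQ' c' _
    have hr : Spec.map (CommRingCat.ofHom φ) ≫ r = Spec.map (CommRingCat.ofHom κ') := by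
      rw [← hφr, CommRingCat.ofHom_comp, Spec.map_comp]
    let c : Q' ⟶ PX := cX'.lift (aQ' ≫ Spec.map (CommRingCat.ofHom φ)) bQ' (by
      rw [Category.assoc, hr, c'.w])
    have hc1 : c ≫ y = aQ' ≫ Spec.map (CommRingCat.ofHom φ) := cX'.lift_fst _ _ _
    have hc2 : c ≫ bX = bQ' := cX'.lift_snd _ _ _
    refine pt_iff h p F y q φ hφ hp aQ' c ?_
    refine IsPullback.of_right (h₁₂ := bX) (h₂₂ := r) (v₁₃ := Spec.map (CommRingCat.ofHom ψ)) ?_
      hc1 cX'.flip
    rw [hc2, hr]
    exact c'.flip
  constructor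
  · intro H κ' hκ' Q' aQ' bQ' c' _
    let φ : K ⊗[A] R →+* K := (Algebra.TensorProduct.lift (R := A) (S := A) (AlgHom.id A K)
      ({ toRingHom := κ', commutes' := fun a => RingHom.congr_fun hκ' a } : R →ₐ[A] K)
      (fun _ _ => Commute.all _ _)).toRingHom
    have h1 : φ.comp (algebraMap K (K ⊗[A] R)) = RingHom.id K := by
      ext x
      simp [φ, Algebra.TensorProduct.algebraMap_apply]
    have h2 : φ.comp (Algebra.TensorProduct.includeRight (R := A) (A := K) (B := R)).toRingHom = κ' := by
      ext x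
      simp [φ]
    exact (key κ' φ h1 h2 ⟨RingHom.ker φ, RingHom.ker_isPrime φ⟩ rfl Q' aQ' bQ' c').1 (H _)
  · intro H p
    let e : K ≃+* (K ⊗[A] R ⧸ p.asIdeal) :=
      RingEquiv.ofBijective _ (algebraMap_quotient_bijective h p.asIdeal)
    let φ : K ⊗[A] R →+* K := e.symm.toRingHom.comp (Ideal.Quotient.mk p.asIdeal)
    have h1 : φ.comp (algebraMap K (K ⊗[A] R)) = RingHom.id K := by
      ext x
      exact e.symm_apply_apply x
    have hp : p.asIdeal = RingHom.ker φ := by
      ext x
      rw [RingHom.mem_ker]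
      change _ ↔ e.symm (Ideal.Quotient.mk p.asIdeal x) = 0
      rw [map_eq_zero_iff e.symm e.symm.injective, Ideal.Quotient.eq_zero_iff_mem]
    let κ' : R →+* K := φ.comp (Algebra.TensorProduct.includeRight (R := A) (A := K) (B := R)).toRingHom
    have hκ' : κ'.comp (algebraMap A R) = algebraMap A K := by
      ext x
      have h3 := RingHom.congr_fun h1 (algebraMap A K x)
      refine Eq.trans ?_ h3
      change φ (Algebra.TensorProduct.includeRight (algebraMap A R x)) = φ _
      congr 1
      rw [AlgHom.commutes]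
      rfl
    have : PreservesFiniteLimits (EtCoh.pull (pullback.fst (Spec.map (CommRingCat.ofHom κ'))
        (Spec.map (CommRingCat.ofHom ψ)))) := Groth.Agent.Etcore.HQ.pfl _
    exact (key κ' φ h1 rfl p hp _ _ _ (IsPullback.of_hasPullback _ _)).2
      (H κ' hκ' _ _ _ (IsPullback.of_hasPullback _ _))

end Alg

/-- Let f : X → S be a morphism of schemes, x a point of X, R_X a strict henselization of the local ring
of X at x and R_S one of the local ring of S at f(x), ψ : R_S → R_X a local homomorphism compatible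
with f, K a separably closed field with a ring map κ : R_S → K, F an abelian sheaf on the small
etale site of Spec K and q ≥ 0. Form P_S = Spec R_S ×_S Spec K and P_X = Spec R_X ×_S Spec K (Spec K
mapping to S through κ and Spec R_S) with the morphism m : P_X → P_S induced by ψ. Then the pullback
map H^q(P_S, F|P_S) → H^q(P_X, F|P_X) along m is bijective if and only if, for every ring map κ' :
R_S → K that agrees with κ on the local ring of S at f(x) and Q' = Spec R_X ×_{Spec R_S} Spec K
formed with κ' and ψ, the pullback map H^q(Spec K, F) → H^q(Q', F|Q') along the projection Q' → Spec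
K is bijective. (The published statement asks the second condition only for the given map κ. The
points of P_S are all the ring maps R_S → K agreeing with κ on the local ring of S, and the first
condition does not depend on κ among them; when the local ring of S at f(x) has two branches, for
instance at the node of a nodal cubic with X its normalization, q = 0 and F constant, the second
condition holds for κ through one branch while the first fails. So the second condition is asked
here for every such map.) -/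
theorem result {X S : Scheme.{u}} (f : X ⟶ S) (x : X)
    (RS : Type u) [CommRing RS] [IsLocalRing RS] [Algebra (S.presheaf.stalk (f.base x)) RS]
      [IsLocalHom (algebraMap (S.presheaf.stalk (f.base x)) RS)] [Hensel.IsStrictHenselization (S.presheaf.stalk (f.base x)) RS]
    (RX : Type u) [CommRing RX] [IsLocalRing RX] [Algebra (X.presheaf.stalk x) RX]
      [IsLocalHom (algebraMap (X.presheaf.stalk x) RX)] [Hensel.IsStrictHenselization (X.presheaf.stalk x) RX]
    (ψ : RS →+* RX) [IsLocalHom ψ]
    (hψ : ψ.comp (algebraMap (S.presheaf.stalk (f.base x)) RS) = (algebraMap (X.presheaf.stalk x) RX).comp (f.stalkMap x).hom)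
    (K : Type u) [Field K] [IsSepClosed K] (κ : RS →+* K) (F : EtCoh.Ab (Spec (CommRingCat.of K))) (q : ℕ)
    (PS PX : Scheme.{u}) (aS : PS ⟶ Spec (CommRingCat.of K)) (bS : PS ⟶ Spec (CommRingCat.of RS))
    (cS : IsPullback aS bS (Spec.map (CommRingCat.ofHom κ) ≫ Hens2.specOf S (f.base x) RS) (Hens2.specOf S (f.base x) RS))
    (aX : PX ⟶ Spec (CommRingCat.of K)) (bX : PX ⟶ Spec (CommRingCat.of RX))
    (cX : IsPullback aX bX (Spec.map (CommRingCat.ofHom κ) ≫ Hens2.specOf S (f.base x) RS) (Hens2.specOf X x RX ≫ f))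
    (m : PX ⟶ PS) (w : m ≫ aS = aX) (hm : m ≫ bS = bX ≫ Spec.map (CommRingCat.ofHom ψ))
    [PreservesFiniteLimits (EtCoh.pull m)] :
    Function.Bijective (EtCore.HpullVia m aS aX w F q) ↔
      ∀ (κ' : RS →+* K), κ'.comp (algebraMap (S.presheaf.stalk (f.base x)) RS) =
          κ.comp (algebraMap (S.presheaf.stalk (f.base x)) RS) →
        ∀ (Q' : Scheme.{u}) (aQ' : Q' ⟶ Spec (CommRingCat.of K)) (bQ' : Q' ⟶ Spec (CommRingCat.of RX)),
          IsPullback aQ' bQ' (Spec.map (CommRingCat.ofHom κ')) (Spec.map (CommRingCat.ofHom ψ)) →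
          ∀ [PreservesFiniteLimits (EtCoh.pull aQ')], Function.Bijective (EtCore.Hpull aQ' F q) := by
  let _ : Algebra (S.presheaf.stalk (f.base x)) K :=
    (κ.comp (algebraMap (S.presheaf.stalk (f.base x)) RS)).toAlgebra
  have hR : EtPBC.IsIndEtale (S.presheaf.stalk (f.base x)) RS :=
    Etbc.H193.PbkLocal.isIndEtale_of_isStrictHenselization _ RS
  have hK : Spec.map (CommRingCat.ofHom κ) ≫ Hens2.specOf S (f.base x) RS =
      Spec.map (CommRingCat.ofHom (algebraMap (S.presheaf.stalk (f.base x)) K)) ≫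
        S.fromSpecStalk (f.base x) := by
    rw [← Category.assoc, ← Spec.map_comp, ← CommRingCat.ofHom_comp]
  have hψ' : Spec.map (CommRingCat.ofHom ψ) ≫ Hens2.specOf S (f.base x) RS =
      Hens2.specOf X x RX ≫ f := by
    rw [← Category.assoc, ← Spec.map_comp, ← CommRingCat.ofHom_comp, hψ, CommRingCat.ofHom_comp,
      Spec.map_comp, Category.assoc, Category.assoc, CommRingCat.ofHom_hom,
      Scheme.SpecMap_stalkMap_fromSpecStalk]
  have cm : IsPullback m bX bS (Spec.map (CommRingCat.ofHom ψ)) := by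
    refine IsPullback.of_right (h₁₂ := aS) (h₂₂ := Hens2.specOf S (f.base x) RS)
      (v₁₃ := Spec.map (CommRingCat.ofHom κ) ≫ Hens2.specOf S (f.base x) RS) ?_ hm cS
    rw [w, hψ']
    exact cX
  exact criterion hR ψ aS bS (S.fromSpecStalk (f.base x)) (hK ▸ cS) bX m cm F q w

end Groth.Agent.S6670
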