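import Groth.Statements.S6671
import Groth.Agent.Etbc.H186.BCFlatSh
import Groth.Agent.UnramB.GeomConn
-- import your own Groth.Agent.* helpers here

set_option autoImplicit false
set_option backward.isDefEq.respectTransparency.types false
universe u
open CategoryTheory CategoryTheory.Limits AlgebraicGeometry Opposite
open EtBC

namespace Groth.Agent.S6671

open Groth.Agent.EtpbcB.BCCrit Groth.Agent.Sga4A.EtStalk EtDesc
open Groth.Agent.EtpbcB.Big (etHom et_w et_hom_ext)

/-- Cancellation of an etale morphism on the right for flatness. -/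
theorem flat_of_comp_etale {U V S : Scheme.{u}} (a : U ⟶ V) (v : V ⟶ S) [Etale v]
    [Flat (a ≫ v)] : Flat a := by
  have h : MorphismProperty.HasOfPostcompProperty @Flat @Etale := by
    rw [MorphismProperty.hasOfPostcompProperty_iff_le_diagonal]
    intro X Y f hf
    have : IsOpenImmersion (pullback.diagonal f) := inferInstance
    exact (inferInstance : Flat (pullback.diagonal f))
  exact MorphismProperty.of_postcomp (W := @Flat) (W' := @Etale) a v ‹_› ‹_›

/-- A flat quasi-compact surjective morphism is submersive after every etale base change. -/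
theorem etSubmersive_of_flat {U V : Scheme.{u}} (a : U ⟶ V) [Flat a] [QuasiCompact a]
    [Surjective a] : EtSubmersive a := by
  intro W
  have h1 : Surjective (bcFst a W) := by
    have : Surjective (pullback.fst W.hom a) := inferInstance
    exact this
  have h2 : Flat (bcFst a W) := by
    have : Flat (pullback.fst W.hom a) := inferInstance
    exact this
  have h3 : QuasiCompact (bcFst a W) := by
    have : QuasiCompact (pullback.fst W.hom a) := inferInstance
    exact this
  exact Flat.isQuotientMap_of_surjective (bcFst a W)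

/-- A morphism from the source of a flat quasi-compact morphism with geometrically connected
fibres to a scheme etale over the base, the base itself being etale over `S`, descends. -/
theorem exists_desc {U V V' S : Scheme.{u}} (a : U ⟶ V') [Flat a] [QuasiCompact a]
    [GeometricallyConnected a] (v' : V' ⟶ S) (v : V ⟶ S) [Etale v] (s : U ⟶ V)
    (hs : s ≫ v = a ≫ v') : ∃ c : V' ⟶ V, c ≫ v = v' ∧ a ≫ c = s := by
  let p₂ : pullback v' v ⟶ V' := pullback.fst v' v
  have : Etale p₂ := inferInstanceAs (Etale (pullback.fst v' v))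
  let φ' : pullback (𝟙 V') a ⟶ pullback p₂ a :=
    pullback.lift (pullback.lift (pullback.snd (𝟙 V') a ≫ a) (pullback.snd (𝟙 V') a ≫ s)
      (by rw [Category.assoc, Category.assoc, hs])) (pullback.snd (𝟙 V') a)
      (pullback.lift_fst _ _ _)
  obtain ⟨φ, ⟨h1, h2⟩, -⟩ := Groth.Agent.UnramB.GeomConn.existsUnique_hom_of_etale a (𝟙 V') p₂ φ'
    (pullback.lift_snd _ _ _)
  refine ⟨φ ≫ pullback.snd v' v, ?_, ?_⟩
  · rw [Category.assoc, ← pullback.condition, ← Category.assoc]
    change (φ ≫ p₂) ≫ v' = v'
    rw [h1, Category.id_comp]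
  · let j : U ⟶ pullback (𝟙 V') a := pullback.lift a (𝟙 U) (by simp)
    have e1 : j ≫ pullback.fst (𝟙 V') a = a := pullback.lift_fst _ _ _
    have e2 : j ≫ pullback.snd (𝟙 V') a = 𝟙 U := pullback.lift_snd _ _ _
    have e3 : φ' ≫ pullback.fst p₂ a ≫ pullback.snd v' v = pullback.snd (𝟙 V') a ≫ s := by
      rw [← Category.assoc, pullback.lift_fst, pullback.lift_snd]
    calc a ≫ φ ≫ pullback.snd v' v = j ≫ (pullback.fst (𝟙 V') a ≫ φ) ≫ pullback.snd v' v := by
          rw [← Category.assoc, ← Category.assoc, ← Category.assoc, e1, Category.assoc]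
      _ = s := by rw [h2, Category.assoc, e3, ← Category.assoc, e2, Category.id_comp]

/-- Let Y = X ×_S T be a cartesian square of schemes with f : X → S flat, g : T → S, h : Y → X, e : Y →
T. Assume that every etale X-scheme U has a jointly surjective family of morphisms of etale
X-schemes U_i → U such that each composite U_i → S factors as a quasi-compact morphism a_i : U_i →
V_i with geometrically connected fibres followed by an etale morphism V_i → S. Then for every sheaf
of sets F on the small etale site of T the base change map f⁻¹ g_* F → h_* e⁻¹ F is an isomorphism. -/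
theorem result {X S Y T : Scheme.{u}} (f : X ⟶ S) [Flat f]
    (g : T ⟶ S) (h : Y ⟶ X) (e : Y ⟶ T) (c : IsPullback e h g f)
    (hcov : ∀ U : X.Etale, ∃ (ι : Type u) (Uc : ι → X.Etale) (mU : ∀ i, Uc i ⟶ U),
      (∀ y : U.left, ∃ (i : ι) (z : (Uc i).left), (mU i).left.base z = y) ∧
      ∀ i, ∃ (V : S.Etale) (a : (Uc i).left ⟶ V.left),
        a ≫ V.hom = (Uc i).hom ≫ f ∧ QuasiCompact a ∧ GeometricallyConnected a)
    (F : EtDesc.Sh T) :
    IsIso (EtBC.baseChange0Sh g f h e c.w F) := by
  have key : ∀ (U : X.Etale) (y : U.left), ∃ (U' : X.Etale) (m : U' ⟶ U) (y' : U'.left)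
      (V : S.Etale) (a : U'.left ⟶ V.left), m.left y' = y ∧ a ≫ V.hom = U'.hom ≫ f ∧ Flat a ∧
        QuasiCompact a ∧ GeometricallyConnected a ∧ Surjective a := by
    intro U y
    obtain ⟨ι, Uc, mU, h1, h2⟩ := hcov U
    obtain ⟨i, z, hz⟩ := h1 y
    obtain ⟨V, a, ha, hqc, hgc⟩ := h2 i
    have hfl : Flat (a ≫ V.hom) := by
      rw [ha]
      infer_instance
    have hfl' : Flat a := flat_of_comp_etale a V.hom
    exact ⟨Uc i, mU i, z, V, a, hz, ha, hfl', hqc, hgc, inferInstance⟩
  refine Groth.Agent.Etbc.H186.BCCritSh.isIso_baseChange0Sh_of_fam g f h e c.w F ?_ ?_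
  · intro V σ τ U b hσ y
    obtain ⟨U', m, y', V', a, hy', ha, hfl, hqc, hgc, hsurj⟩ := key U y
    obtain ⟨t, ht1, ht2⟩ := exists_desc a V'.hom V.hom (m.left ≫ b.left ≫ bcFst f V) (by
      rw [Category.assoc, Category.assoc, bc_condition, ← Category.assoc b.left, et_w, ha,
        ← Category.assoc, et_w])
    let c' : V' ⟶ V := etHom t ht1
    let b' : U' ⟶ (EtCoh.bc f).obj V' := etHom (pullback.lift a U'.hom ha)
      (pullback.lift_snd _ _ _)
    have hb' : b'.left ≫ bcFst f V' = a := pullback.lift_fst _ _ _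
    have hcomm : m ≫ b = b' ≫ (EtCoh.bc f).map c' := by
      apply et_hom_ext
      apply hom_ext_bc f
      · have h1 : (b' ≫ (EtCoh.bc f).map c').left = b'.left ≫ ((EtCoh.bc f).map c').left := rfl
        have h2 : (m ≫ b).left = m.left ≫ b.left := rfl
        rw [h1, h2, Category.assoc, Category.assoc, bc_map_fst, ← Category.assoc b'.left, hb']
        exact ht2.symm
      · rw [et_w, et_w]
    refine ⟨V', c', U', m, b', y', hy', hcomm, ?_⟩
    have hsurj' : Surjective (kap g f h e c.w b') := by
      have h2 := Groth.Agent.EtpbcB.BCFlat.isPullback_kap c b'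
      rw [hb'] at h2
      exact MorphismProperty.of_isPullback (P := @Surjective) h2.flip hsurj
    have hk : kap g f h e c.w b' ≫ ((EtCoh.bc g).map c').left =
        ((EtCoh.bc h).map m).left ≫ kap g f h e c.w b := by
      apply hom_ext_bc g
      · rw [Category.assoc, Category.assoc, bc_map_fst, kap_fst, ← Category.assoc, kap_fst,
          ← Category.assoc (((EtCoh.bc h).map m).left), bc_map_fst]
        have h3 : c'.left = t := rfl
        simp only [Category.assoc]
        rw [h3, ← ht2]
        congr 1
        rw [← Category.assoc b'.left, hb']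
      · rw [Category.assoc, Category.assoc, et_w, kap_hom, kap_hom, ← Category.assoc, et_w]
    refine sect_ext_germ F _ _ _ fun z => ?_
    obtain ⟨z', rfl⟩ := hsurj'.surj z
    obtain ⟨Ω, _, _, l, rfl⟩ := exists_geomPoint _ z'
    refine ⟨Ω, inferInstance, inferInstance, l ≫ kap g f h e c.w b', rfl, ?_⟩
    have e3 : (l ≫ kap g f h e c.w b') ≫ ((EtCoh.bc g).map c').left =
        (l ≫ ((EtCoh.bc h).map m).left) ≫ kap g f h e c.w b := by
      rw [Category.assoc, hk, Category.assoc]
    have e2 : ((l ≫ ((EtCoh.bc h).map m).left) ≫ kap g f h e c.w b) ≫ ((EtCoh.bc g).obj V).hom =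
        (l ≫ kap g f h e c.w b') ≫ ((EtCoh.bc g).obj V').hom := by
      rw [← e3, Category.assoc]
      congr 1
      exact Over.w ((EtCoh.bc g).map c').hom
    rw [germ_res' F ((EtCoh.bc g).map c') (l ≫ kap g f h e c.w b') rfl _ e2 e3 σ,
      germ_res' F ((EtCoh.bc g).map c') (l ≫ kap g f h e c.w b') rfl _ e2 e3 τ]
    exact hσ Ω (l ≫ ((EtCoh.bc h).map m).left) _ e2
  · intro U γ y
    obtain ⟨U', m, y', V, a, hy', ha, hfl, hqc, hgc, hsurj⟩ := key U y
    let b' : U' ⟶ (EtCoh.bc f).obj V := etHom (pullback.lift a U'.hom ha)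
      (pullback.lift_snd _ _ _)
    have hb' : b'.left ≫ bcFst f V = a := pullback.lift_fst _ _ _
    have hP := Groth.Agent.EtpbcB.BCFlat.isPullback_kap c b'
    rw [hb'] at hP
    have h1 : Surjective (kap g f h e c.w b') :=
      MorphismProperty.of_isPullback (P := @Surjective) hP.flip hsurj
    have h2 : Flat (kap g f h e c.w b') :=
      MorphismProperty.of_isPullback (P := @Flat) hP.flip hfl
    have h3 : GeometricallyConnected (kap g f h e c.w b') :=
      MorphismProperty.of_isPullback (P := @GeometricallyConnected) hP.flip hgc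
    have h4 : QuasiCompact (kap g f h e c.w b') :=
      MorphismProperty.of_isPullback (P := @QuasiCompact) hP.flip hqc
    have e4 : ((EtCoh.bc h).map m).left ≫ ((EtCoh.bc h).obj U).hom ≫ e =
        kap g f h e c.w b' ≫ ((EtCoh.bc g).obj V).hom := by
      rw [kap_hom, ← Category.assoc]
      exact congrArg (· ≫ e) (Over.w ((EtCoh.bc h).map m).hom)
    obtain ⟨δ, hδ⟩ := Groth.Agent.Etbc.H186.FamConnSh.exists_of_connected (kap g f h e c.w b')
      (etSubmersive_of_flat _)
      (fun _ _ _ s => GeometricallyConnected.geometrically_connectedSpace s _ _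
        (IsPullback.of_hasPullback _ s))
      ((EtCoh.bc g).obj V).hom ((γ.pull ((EtCoh.bc h).map m).left).congr e4)
    obtain ⟨σ, hσ⟩ := δ.exists_sect
    refine ⟨V, U', m, b', σ, y', hy', ?_⟩
    intro Ω _ _ l ξ h h'
    have h5 : l ≫ kap g f _ e c.w b' ≫ ((EtCoh.bc g).obj V).hom = ξ := by
      rw [← Category.assoc]
      exact h'
    rw [hσ (l ≫ kap g f _ e c.w b') ξ h', hδ l ξ h' h5, Fam.congr_val]
    rfl

end Groth.Agent.S6671
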