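import Groth.Statements.S6693
import Groth.Agent.EtpbcA.LATrans
import Groth.Agent.UnramA.LAAsm810

set_option autoImplicit false
universe u
open CategoryTheory CategoryTheory.Limits AlgebraicGeometry Opposite
open EtBC

namespace Groth.Agent.S6693

open EtCoh IsLocalRing Groth.Agent.Etrest.StrictLoc Groth.Agent.Sga1.UlaRes
  Groth.Agent.Sga1.UlaGeo Groth.Agent.Sga1.UlaLoc Groth.Agent.Sga1.UlaSL Groth.Agent.EtpbcA.LA

/-- the stalk condition for an arbitrary fibre product with a geometric point of the strictly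
henselian base, at the points of the closed fibre -/
theorem laStalk_of_lAt {A : Type u} [CommRing A] [HenselianLocalRing A]
    [IsSepClosed (ResidueField A)] {X' : Scheme.{u}} (f' : X' ⟶ Spec (CommRingCat.of A)) (F : Ab X')
    {k : Type u} [Field k] [IsSepClosed k] (ξ : Spec (CommRingCat.of k) ⟶ X')
    (hx : f' (ξ default) = closedPoint A) (hL : LAt f' F (ξ default))
    {Ω : Type u} [Field Ω] [IsSepClosed Ω] (ω : A →+* Ω) {Xt : Scheme.{u}} (h : Xt ⟶ X')
    (ft : Xt ⟶ Spec (CommRingCat.of Ω)) (ct : IsPullback h ft f' (Spec.map (CommRingCat.ofHom ω))) :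
    LAStalk h F ξ := by
  have hqc : QuasiCompact h := MorphismProperty.of_isPullback ct.flip inferInstance
  have hqs : QuasiSeparated h := MorphismProperty.of_isPullback ct.flip inferInstance
  obtain ⟨C, _, _, τ, hτ, hτx⟩ := exists_isStrictLoc X' (ξ default)
  obtain ⟨β, hβ⟩ : ∃ β : A →+* C, spm β = τ ≫ f' :=
    ⟨(Spec.preimage (τ ≫ f')).hom, Spec.map_preimage (τ ≫ f')⟩
  have hid := isStrictLoc_id A
  have hloc : IsLocalHom β := by
    rw [IsLocalRing.isLocalHom_iff_comap_closedPoint]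
    have h1 := congrArg (fun q => q (closedPoint C)) hβ
    exact h1.trans ((congrArg f' hτx).trans hx)
  have H : VC F τ β := hL A C (𝟙 _) τ hid hτ hτx β (by rw [Category.comp_id, hβ])
  have h1 : IsPullback (pullback.fst h τ) (pullback.snd h τ) h τ := IsPullback.of_hasPullback _ _
  rw [laStalk_iff_res h F ξ hτ hτx.symm h1]
  have h2 := h1.flip.paste_vert ct
  rw [← hβ] at h2
  exact H Ω ω _ _ _ h2

theorem main {X S : Scheme.{u}} (f : X ⟶ S) (F : EtCoh.Ab X)
    (hla : SGA4h.IsLARel f F) (s : S) (RS : Type u) [CommRing RS] [IsLocalRing RS] [Algebra (S.presheaf.stalk s) RS]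
      [IsLocalHom (algebraMap (S.presheaf.stalk s) RS)] [Hensel.IsStrictHenselization (S.presheaf.stalk s) RS]
    (X' : Scheme.{u}) (f' : X' ⟶ Spec (CommRingCat.of RS)) (p : X' ⟶ X) (cX : IsPullback p f' f (Hens2.specOf S s RS))
    (Ω : Type u) [Field Ω] [IsAlgClosed Ω] (τ : RS →+* Ω)
    (Xt : Scheme.{u}) (h : Xt ⟶ X') (ft : Xt ⟶ Spec (CommRingCat.of Ω))
    (ct : IsPullback h ft f' (Spec.map (CommRingCat.ofHom τ)))
    (Xs : Scheme.{u}) (i : Xs ⟶ X') (fs : Xs ⟶ Spec (CommRingCat.of (IsLocalRing.ResidueField RS)))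
    (cs : IsPullback i fs f' (Spec.map (CommRingCat.ofHom (IsLocalRing.residue RS)))) :
    IsIso ((EtCoh.pull i).map ((EtCoh.pullPushAdj h).unit.app ((EtCoh.pull p).obj F))) ∧
      ∀ q : ℕ, 0 < q →
        IsZero ((EtCoh.pull i).obj ((EtCoh.Rpush h q).obj ((EtCoh.pull h).obj ((EtCoh.pull p).obj F)))) := by
  have hσ : IsStrictLoc (Hens2.specOf S s RS) := isStrictLoc_specOf S s RS
  have := hσ.henselian
  have := hσ.sepClosed
  have key : ∀ (k : Type u) [Field k] [IsSepClosed k] (ξ : Spec (CommRingCat.of k) ⟶ Xs),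
      LAStalk h ((EtCoh.pull p).obj F) (ξ ≫ i) := by
    intro k _ _ ξ
    have hx : f' ((ξ ≫ i) default) = closedPoint RS := by
      have h1 : (ξ ≫ i) ≫ f' = (ξ ≫ fs) ≫ Spec.map (CommRingCat.ofHom (residue RS)) := by
        rw [Category.assoc, cs.w, Category.assoc]
      have h2 : f' ((ξ ≫ i) default) = Spec.map (CommRingCat.ofHom (residue RS)) ((ξ ≫ fs) default) :=
        congrArg (fun q => q default) h1
      rw [h2, Subsingleton.elim ((ξ ≫ fs) default) (closedPoint (ResidueField RS))]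
      have hl : IsLocalHom (CommRingCat.Hom.hom (CommRingCat.ofHom (residue RS))) :=
        inferInstanceAs (IsLocalHom (residue RS))
      exact Spec_closedPoint (R := CommRingCat.of RS) (S := CommRingCat.of (ResidueField RS))
        (f := CommRingCat.ofHom (residue RS))
    refine laStalk_of_lAt f' ((EtCoh.pull p).obj F) (ξ ≫ i) hx ?_ τ h ft ct
    exact (Groth.Agent.UnramA.LAAsm.lAt_baseChange_iff f F hσ cX _).2 (isLARelAt_iff.1 (hla _))
  constructor
  · apply Etcore.Stalks.isIso_of_stalks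
    intro x
    obtain ⟨k, i1, i2, ξ, hξ⟩ := Etcore.Stalks.exists_geom x
    refine ⟨k, i1, i2, ξ, hξ, ?_⟩
    have h1 := (ConcreteCategory.isIso_iff_bijective _).2 (key k ξ).1
    exact (NatIso.isIso_map_iff (Etbase.StalkPull.stalkPullIso i ξ) _).1 h1
  · intro q hq
    rw [Etcore.Stalks.isZero_iff_stalks]
    intro k _ _ ξ
    exact ((key k ξ).2 q hq).of_iso ((Etbase.StalkPull.stalkPullIso i ξ).symm.app _)

/-- For a single abelian sheaf (a bounded below complex concentrated in degree 0): let f : X → S be a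
morphism of schemes and F an abelian sheaf on the small etale site of X such that f is locally
acyclic relative to F. Let s be a point of S, R_S a strict henselization of the local ring of S at
s, X' = X ×_S Spec R_S with projection p : X' → X, t̄ : Spec Ω → Spec R_S a geometric point with Ω
algebraically closed, h : X_t̄ = X' ×_{Spec R_S} Spec Ω → X' and i : X_s̄ = X' ×_{Spec R_S} Spec
κ(R_S) → X' the fibres over t̄ and over the closed point. Put F' = p⁻¹ F. Then the restriction along
i of the unit F' → h_* h⁻¹ F' is an isomorphism, and i⁻¹ R^q h_* (h⁻¹ F') is zero for every q > 0;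
together these say that i⁻¹ applied to β : F' → Rh_* (F'|X_t̄) is an isomorphism. -/
theorem result {X S : Scheme.{u}} (f : X ⟶ S) (F : EtCoh.Ab X)
    (hla : SGA4h.IsLARel f F) (s : S) (RS : Type u) [CommRing RS] [IsLocalRing RS] [Algebra (S.presheaf.stalk s) RS]
      [IsLocalHom (algebraMap (S.presheaf.stalk s) RS)] [Hensel.IsStrictHenselization (S.presheaf.stalk s) RS]
    (X' : Scheme.{u}) (f' : X' ⟶ Spec (CommRingCat.of RS)) (p : X' ⟶ X) (cX : IsPullback p f' f (Hens2.specOf S s RS))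
    (Ω : Type u) [Field Ω] [IsAlgClosed Ω] (τ : RS →+* Ω)
    (Xt : Scheme.{u}) (h : Xt ⟶ X') (ft : Xt ⟶ Spec (CommRingCat.of Ω))
    (ct : IsPullback h ft f' (Spec.map (CommRingCat.ofHom τ)))
    (Xs : Scheme.{u}) (i : Xs ⟶ X') (fs : Xs ⟶ Spec (CommRingCat.of (IsLocalRing.ResidueField RS)))
    (cs : IsPullback i fs f' (Spec.map (CommRingCat.ofHom (IsLocalRing.residue RS)))) :
    IsIso ((EtCoh.pull i).map ((EtCoh.pullPushAdj h).unit.app ((EtCoh.pull p).obj F))) ∧
      ∀ q : ℕ, 0 < q →
        IsZero ((EtCoh.pull i).obj ((EtCoh.Rpush h q).obj ((EtCoh.pull h).obj ((EtCoh.pull p).obj F)))) := by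
  exact main f F hla s RS X' f' p cX Ω τ Xt h ft ct Xs i fs cs

end Groth.Agent.S6693
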