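import Groth.Statements.S6695
import Groth.Agent.EtPBC.K345.MainTwo
import Groth.Agent.EtPBC.K345.TorsBC

set_option autoImplicit false
universe u
open CategoryTheory CategoryTheory.Limits AlgebraicGeometry Opposite
open EtPBC

namespace Groth.Agent.S6695

/-- Let k → K be an extension of fields, X an affine integral scheme of dimension one which is smooth
over k, with a k-rational point x, n a natural number invertible in k, F an abelian sheaf on the
small etale site of Spec K killed by n, q > 0 and ξ ∈ H^q(X_K, F|X_K) where X_K = X ×_k Spec K. Then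
there exist finite field extensions k → k' and K → K' with an embedding k' → K' compatible with k →
K, the base change X_{k'} with its point x_{k'}, a finite etale morphism Z → X_{k'} equipped with an
action of a finite group G over X_{k'} making it a G-torsor (the map ∐_G Z → Z ×_{X_{k'}} Z, (g, z)
↦ (z, g·z), is an isomorphism), with the order of G dividing a power of n and with a section of Z
over x_{k'}, such that ξ maps to zero under pullback to H^q(Z_{K'}, F|Z_{K'}), Z_{K'} = Z ×_{k'}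
Spec K'. (The published statement asks for a connected finite etale Galois cover; this row asks for
a G-torsor that need not be connected, and the connected component through the section over x_{k'}
is such a cover.) -/
theorem result {k K : Type u} [Field k] [Field K] (φ : k →+* K)
    (X : Scheme.{u}) [IsAffine X] [IsIntegral X] (hdim : topologicalKrullDim X = 1)
    (sX : X ⟶ Spec (CommRingCat.of k)) [Smooth sX] (x : Spec (CommRingCat.of k) ⟶ X) (hx : x ≫ sX = 𝟙 _)
    (n : ℕ) (hn : (n : k) ≠ 0) (F : EtCoh.Ab (Spec (CommRingCat.of K))) (hF : EtCoh.KilledBy n F)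
    (XK : Scheme.{u}) (pK : XK ⟶ X) (aK : XK ⟶ Spec (CommRingCat.of K))
    (cK : IsPullback pK aK sX (Spec.map (CommRingCat.ofHom φ))) [PreservesFiniteLimits (EtCoh.pull aK)]
    (q : ℕ) (hq : 0 < q) (ξ : EtCoh.H XK ((EtCoh.pull aK).obj F) q) :
    ∃ (k' K' : Type u) (_ : Field k') (_ : Field K') (ik : k →+* k') (iK : K →+* K') (ψ : k' →+* K')
      (_ : ψ.comp ik = iK.comp φ) (_ : ik.Finite) (_ : iK.Finite)
      (Xk : Scheme.{u}) (p' : Xk ⟶ X) (a' : Xk ⟶ Spec (CommRingCat.of k'))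
      (_ : IsPullback p' a' sX (Spec.map (CommRingCat.ofHom ik)))
      (x' : Spec (CommRingCat.of k') ⟶ Xk) (_ : x' ≫ a' = 𝟙 _) (_ : x' ≫ p' = Spec.map (CommRingCat.ofHom ik) ≫ x)
      (Z : Scheme.{u}) (c : Z ⟶ Xk) (_ : IsFinite c) (_ : Etale c)
      (G : Type) (_ : Group G) (_ : Fintype G) (m : ℕ) (_ : Fintype.card G ∣ n ^ m)
      (ρ : G →* CategoryTheory.Aut Z) (hρ : ∀ g : G, (ρ g).hom ≫ c = c)
      (_ : IsIso (Limits.Sigma.desc (fun g : G =>
            pullback.lift (𝟙 Z) (ρ g).hom ((Category.id_comp c).trans (hρ g).symm))))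
      (σ : Spec (CommRingCat.of k') ⟶ Z) (_ : σ ≫ c = x')
      (ZK : Scheme.{u}) (bZ : ZK ⟶ Z) (aZ : ZK ⟶ Spec (CommRingCat.of K'))
      (_ : IsPullback bZ aZ (c ≫ a') (Spec.map (CommRingCat.ofHom ψ)))
      (mZ : ZK ⟶ XK) (w : mZ ≫ aK = aZ ≫ Spec.map (CommRingCat.ofHom iK)) (_ : mZ ≫ pK = bZ ≫ c ≫ p'),
      ∀ [PreservesFiniteLimits (EtCoh.pull mZ)],
        EtCore.HpullVia mZ aK (aZ ≫ Spec.map (CommRingCat.ofHom iK)) w F q ξ = 0 := by
  have hn0 : n ≠ 0 := fun h => hn (by rw [h, Nat.cast_zero])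
  have key : ∃ (k' K' : Type u) (_ : Field k') (_ : Field K') (ik : k →+* k') (iK : K →+* K')
      (ψ : k' →+* K')
      (_ : ψ.comp ik = iK.comp φ) (_ : ik.Finite) (_ : iK.Finite)
      (Xk : Scheme.{u}) (p' : Xk ⟶ X) (a' : Xk ⟶ Spec (CommRingCat.of k'))
      (_ : IsPullback p' a' sX (Spec.map (CommRingCat.ofHom ik)))
      (x' : Spec (CommRingCat.of k') ⟶ Xk) (_ : x' ≫ a' = 𝟙 _)
      (_ : x' ≫ p' = Spec.map (CommRingCat.ofHom ik) ≫ x)
      (Z : Scheme.{u}) (c : Z ⟶ Xk) (G : Type) (_ : Group G) (_ : Fintype G) (m : ℕ)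
      (_ : Fintype.card G ∣ n ^ m) (ρ : G →* CategoryTheory.Aut Z)
      (_ : Groth.Agent.Sga4h.H222.Tors.IsTors c ρ)
      (σ : Spec (CommRingCat.of k') ⟶ Z) (_ : σ ≫ c = x')
      (ZK : Scheme.{u}) (bZ : ZK ⟶ Z) (aZ : ZK ⟶ Spec (CommRingCat.of K'))
      (_ : IsPullback bZ aZ (c ≫ a') (Spec.map (CommRingCat.ofHom ψ)))
      (mZ : ZK ⟶ XK) (_ : mZ ≫ aK = aZ ≫ Spec.map (CommRingCat.ofHom iK))
      (_ : mZ ≫ pK = bZ ≫ c ≫ p'), K345.ViaZero.Van mZ aK F q ξ := by
    rcases Nat.lt_or_ge 1 q with hq1 | hq1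
    · exact K345.MainTwo.main_two φ hdim sX x hx n hn0 F hF cK q hq1 ξ
    · obtain rfl : q = 1 := by omega
      exact K345.MainOne.main_one φ sX x hx n hn F hF cK ξ
  obtain ⟨k', K', _, _, ik, iK, ψ, hψ, hik, hiK, Xk, p', a', hXk, x', hx', hx'', Z, c, G, _, _, m, hm,
    ρ, hρ, σ, hσ, ZK, bZ, aZ, hZ, mZ, h1, h2, h3⟩ := key
  refine ⟨k', K', inferInstance, inferInstance, ik, iK, ψ, hψ, hik, hiK, Xk, p', a', hXk, x', hx', hx'',
    Z, c, hρ.fin, hρ.et, G, inferInstance, inferInstance, m, hm, ρ, hρ.inv, K345.TorsBC.isIso_desc hρ,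
    σ, hσ, ZK, bZ, aZ, hZ, mZ, h1, h2, ?_⟩
  intro _
  exact K345.ViaZero.main mZ aK _ h1 F q ξ h3

end Groth.Agent.S6695
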