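import Groth.Statements.S6700
import Groth.Agent.EtModD.K733.Resol

set_option autoImplicit false
universe u
open CategoryTheory CategoryTheory.Limits AlgebraicGeometry Opposite
attribute [local instance] HasDerivedCategory.standard
open EtModD

namespace Groth.Agent.S6700

open K733.EtModBase Groth.Agent.Etcore.LFree Groth.Agent.Sga4h.Dbc323 in
attribute [local instance] Abelian.hasFiniteBiproducts Groth.Agent.Sga4h.EtaleRes.jCont in
theorem isConstructible_sum (Λ : Type (u + 1)) [CommRing Λ] [IsNoetherianRing Λ] (X : Scheme.{u})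
    [QuasiSeparatedSpace X] (m : ℕ) (U : Fin m → Scheme.{u}) (j : ∀ k, U k ⟶ X) [∀ k, Etale (j k)]
    [∀ k, IsAffine (U k)] :
    EtModW.IsConstructible Λ (∐ fun k => (EtSix.extZeroMod Λ (j k)).obj (EtSix.constΛ Λ (U k))) := by
  refine (consM Λ X).prop_of_iso ((biproduct.isColimit _).coconePointUniqueUpToIso (coproductIsCoproduct _))
    (isConstructible_biproduct _ fun k => ?_)
  obtain ⟨e⟩ := nonempty_LM_iso_extZero (Λ := Λ) (j k)
  refine (consM Λ X).prop_of_iso e ?_
  have : IsAffine (Scheme.Etale.mk (j k)).left := inferInstanceAs (IsAffine (U k))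
  exact Groth.Agent.Etcore.LFreePull.isConstructible_LM_of_affine (Scheme.Etale.mk (j k))

/-- (1) ⇔ (2): let X be a quasi-compact and quasi-separated scheme, Λ a Noetherian ring and K an object
of D(X_et, Λ) which is bounded above. Then every cohomology sheaf of K is a constructible sheaf of
Λ-modules if and only if K is isomorphic, in D(X_et, Λ), to the image of a bounded above complex of
sheaves of Λ-modules each of whose terms is isomorphic to a finite direct sum of sheaves j_! Λ,
extensions by zero of the constant sheaf Λ along etale morphisms j : U → X with U affine. (A third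
equivalent condition, representability by a bounded above complex of flat constructible sheaves of
Λ-modules, is not included. Continuity of the functors V ↦ (V → U → X) between small etale sites,
true for every etale morphism, appears as an instance binder in front of the extension-by-zero
terms.) -/
theorem result (Λ : Type (u + 1)) [CommRing Λ]
    [IsNoetherianRing Λ] (X : Scheme.{u}) [CompactSpace X] [QuasiSeparatedSpace X] (K : EtModD.D Λ X) (n : ℤ)
    [K.IsLE n] :
    (∀ i : ℤ, EtModW.IsConstructible Λ (EtModD.HD K i)) ↔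
      ∃ (C : CochainComplex (EtModW.Mod Λ X) ℤ) (c : ℤ),
        (∀ i : ℤ, c < i → IsZero (C.X i)) ∧
        (∀ i : ℤ, ∃ (m : ℕ) (U : Fin m → Scheme.{u}) (j : ∀ k, U k ⟶ X) (_ : ∀ k, Etale (j k))
            (_ : ∀ k, IsAffine (U k)),
            ∀ [∀ k, EtShriek.JCont (j k)],
              Nonempty (C.X i ≅ ∐ fun k => (EtSix.extZeroMod Λ (j k)).obj (EtSix.constΛ Λ (U k)))) ∧
        Nonempty (DerivedCategory.Q.obj C ≅ K) := by
  constructor
  · intro hK
    let K' := DerivedCategory.Q.objPreimage K
    let e : DerivedCategory.Q.obj K' ≅ K := DerivedCategory.Q.objObjPreimageIso K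
    have h1 : ∀ i, EtModW.IsConstructible Λ (K'.homology i) := fun i =>
      Groth.Agent.Etcore.LCrit.isConstructible_of_iso
        (((DerivedCategory.homologyFunctor _ i).mapIso e).symm ≪≫
          (DerivedCategory.homologyFunctorFactors _ i).app K') (hK i)
    have h2 : ∀ i > n, K'.ExactAt i := fun i hi => by
      rw [HomologicalComplex.exactAt_iff_isZero_homology]
      exact (K.isZero_of_isLE n i hi).of_iso (((DerivedCategory.homologyFunctor _ i).mapIso e).symm ≪≫
          (DerivedCategory.homologyFunctorFactors _ i).app K').symm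
    obtain ⟨F, f, hF1, hF2, hF3⟩ := K733.EtModResol.exists_resolution K' n h1 h2
    refine ⟨F, n, fun i hi => hF1 i hi, fun i => ?_, ?_⟩
    · obtain ⟨m, W, hW, ⟨i⟩⟩ := hF2 i
      refine ⟨m, fun k => (W k).left, fun k => (W k).hom, fun k => inferInstance, hW, ?_⟩
      intro inst
      have : ∀ k, EtShriek.JCont (W k).hom := inst
      obtain ⟨i'⟩ := K733.EtModLift.nonempty_biproduct_iso (Λ := Λ) W
      exact ⟨i ≪≫ i'⟩
    · have : IsIso (DerivedCategory.Q.map f) := inferInstance
      exact ⟨asIso (DerivedCategory.Q.map f) ≪≫ e⟩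
  · rintro ⟨C, c, hc, hC, ⟨e⟩⟩ i
    refine Groth.Agent.Etcore.LCrit.isConstructible_of_iso
      (((DerivedCategory.homologyFunctorFactors _ i).app C).symm ≪≫
        (DerivedCategory.homologyFunctor _ i).mapIso e)
      (K733.EtModBase.isConstructible_homology C (fun i => ?_) i)
    obtain ⟨m, U, j, hj, hU, h⟩ := hC i
    have := fun k => Groth.Agent.Sga4h.EtaleRes.jCont (j k)
    obtain ⟨e⟩ := @h this
    exact Groth.Agent.Etcore.LCrit.isConstructible_of_iso e.symm (isConstructible_sum Λ X m U j)

end Groth.Agent.S6700
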