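import Groth.Statements.S6702
import Groth.Agent.EtBC.K558.DFin
import Groth.Agent.Etbc.H180.BcMap

set_option autoImplicit false
universe u
open CategoryTheory CategoryTheory.Limits AlgebraicGeometry Opposite
attribute [local instance] HasDerivedCategory.standard
open EtBC

namespace Groth.Agent.S6702

open K558.DFin K558.ClsLim.SSys K558.StageLim

/-- Let ι be a nonempty directed preordered set and consider an inverse system, indexed by ι, of
cartesian squares of schemes Y_i = X_i ×_{S_i} T_i (f_i : X_i → S_i, g_i : T_i → S_i quasi-compact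
and quasi-separated, h_i : Y_i → X_i, e_i : Y_i → T_i) with affine transition morphisms, and let X,
S, T, Y be limits with induced morphisms f, g, h, e forming a cartesian square compatible with the
projections. Let 0 be an index and K₀ a bounded below object of D(T_0,et); for i ≥ 0 let K_i be its
pullback to T_i and K its pullback to T. If for every i ≥ 0 the base change morphism f_i⁻¹ Rg_i,_*
K_i → Rh_i,_* e_i⁻¹ K_i is an isomorphism, then the base change morphism f⁻¹ Rg_* K → Rh_* e⁻¹ K is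
an isomorphism. (Unbounded derived direct images exist under the stated binders; the base change
morphisms are transposes under adjunctions between inverse image and derived direct image, supplied
as data; left exactness of the inverse image functors is carried as instance hypotheses.) -/
theorem result {ι : Type u} [Preorder ι] [Nonempty ι] [IsDirected ι (· ≤ ·)]
    (Xs Ss Ts Ys : ιᵒᵖ ⥤ Scheme.{u}) (fN : Xs ⟶ Ss) (gN : Ts ⟶ Ss) (hN : Ys ⟶ Xs) (eN : Ys ⟶ Ts)
    (sq : ∀ a : ιᵒᵖ, IsPullback (eN.app a) (hN.app a) (gN.app a) (fN.app a))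
    [∀ a : ιᵒᵖ, QuasiCompact (gN.app a)] [∀ a : ιᵒᵖ, QuasiSeparated (gN.app a)]
    (haff : ∀ ⦃a b : ιᵒᵖ⦄ (m : a ⟶ b),
      IsAffineHom (Xs.map m) ∧ IsAffineHom (Ss.map m) ∧ IsAffineHom (Ts.map m) ∧ IsAffineHom (Ys.map m))
    (cX : Cone Xs) (hcX : IsLimit cX) (cS : Cone Ss) (hcS : IsLimit cS)
    (cT : Cone Ts) (hcT : IsLimit cT) (cY : Cone Ys) (hcY : IsLimit cY)
    (f : cX.pt ⟶ cS.pt) (g : cT.pt ⟶ cS.pt) (h : cY.pt ⟶ cX.pt) (e : cY.pt ⟶ cT.pt)
    (hf : ∀ a, f ≫ cS.π.app a = cX.π.app a ≫ fN.app a) (hg : ∀ a, g ≫ cS.π.app a = cT.π.app a ≫ gN.app a)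
    (hh : ∀ a, h ≫ cX.π.app a = cY.π.app a ≫ hN.app a) (he : ∀ a, e ≫ cT.π.app a = cY.π.app a ≫ eN.app a)
    (c : IsPullback e h g f)
    [∀ a, PreservesFiniteLimits (EtCoh.pull (eN.app a))] [∀ a, PreservesFiniteLimits (EtCoh.pull (fN.app a))]
    [∀ ⦃a b : ιᵒᵖ⦄ (m : a ⟶ b), PreservesFiniteLimits (EtCoh.pull (Ts.map m))]
    [∀ a, PreservesFiniteLimits (EtCoh.pull (cT.π.app a))]
    [PreservesFiniteLimits (EtCoh.pull e)] [PreservesFiniteLimits (EtCoh.pull f)]
    [∀ a, DCoh.HasRpushEt (Ts.obj a) (gN.app a)] [∀ a, DCoh.HasRpushEt (Ys.obj a) (hN.app a)]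
    [∀ a, DCoh.HasRpushEt (Xs.obj a) (fN.app a)]
    (adjs : ∀ a, EtBC.pullD (fN.app a) ⊣ DCoh.RpushEt (Xs.obj a) (fN.app a))
    [DCoh.HasRpushEt cT.pt g] [DCoh.HasRpushEt cY.pt h] [DCoh.HasRpushEt cX.pt f]
    (adj : EtBC.pullD f ⊣ DCoh.RpushEt cX.pt f)
    (i₀ : ι) (K₀ : DCoh.DEt (Ts.obj (op i₀))) (n : ℤ) [K₀.IsGE n]
    (hstage : ∀ (i : ι) (hi : i₀ ≤ i), IsIso (EtBC.bcMap (gN.app (op i)) (fN.app (op i)) (hN.app (op i)) (eN.app (op i))
      (sq (op i)).w (adjs (op i)) ((EtBC.pullD (Ts.map (homOfLE hi).op)).obj K₀))) :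
    IsIso (EtBC.bcMap g f h e c.w adj ((EtBC.pullD (cT.π.app (op i₀))).obj K₀)) := by
  rw [Groth.Agent.Etbc.H180.BcMap.isIso_bcMap_iff]
  have hin := incl_op_initial i₀
  refine isIso_limit (Functor.whiskerLeft (incl i₀).op fN) (Functor.whiskerLeft (incl i₀).op gN)
    (Functor.whiskerLeft (incl i₀).op hN) (Functor.whiskerLeft (incl i₀).op eN) (fun a => (sq ((incl i₀).op.obj a)).w)
    (fun a => inferInstanceAs (QuasiCompact (gN.app ((incl i₀).op.obj a))))
    (fun a => inferInstanceAs (QuasiSeparated (gN.app ((incl i₀).op.obj a))))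
    (fun a => MorphismProperty.of_isPullback (P := @QuasiCompact) (sq ((incl i₀).op.obj a)) inferInstance)
    (fun a => MorphismProperty.of_isPullback (P := @QuasiSeparated) (sq ((incl i₀).op.obj a)) inferInstance)
    (fun _ _ m => (haff ((incl i₀).op.map m)).1) (fun _ _ m => (haff ((incl i₀).op.map m)).2.1)
    (fun _ _ m => (haff ((incl i₀).op.map m)).2.2.1) (fun _ _ m => (haff ((incl i₀).op.map m)).2.2.2)
    ((Functor.Initial.isLimitWhiskerEquiv (incl i₀).op cX).symm hcX)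
    ((Functor.Initial.isLimitWhiskerEquiv (incl i₀).op cS).symm hcS)
    ((Functor.Initial.isLimitWhiskerEquiv (incl i₀).op cT).symm hcT)
    ((Functor.Initial.isLimitWhiskerEquiv (incl i₀).op cY).symm hcY)
    f g h e (fun a => hf ((incl i₀).op.obj a)) (fun a => hg ((incl i₀).op.obj a))
    (fun a => hh ((incl i₀).op.obj a)) (fun a => he ((incl i₀).op.obj a)) c.w
    (fun i => Ts.map (homOfLE i.2).op) (fun i j hij => ?_) (cT.π.app (op i₀)) (fun i => cT.w (homOfLE i.2).op)
    n K₀ (fun i => ?_)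
  · exact (Ts.map_comp _ _).symm
  · exact (Groth.Agent.Etbc.H180.BcMap.isIso_bcMap_iff _ _ _ _ _ _ _).1 (hstage i.1 i.2)

end Groth.Agent.S6702
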