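import Groth.Statements.S6703
import Groth.Agent.DEquiv.K350.Tri

set_option autoImplicit false
universe v v' u u'
open CategoryTheory
open DEquiv

namespace Groth.Agent.S6703

open CategoryTheory.Limits CategoryTheory.Pretriangulated in
/-- Let F : D ⥤ D' be an exact functor of triangulated categories admitting both a left and a right
adjoint, and let S be a set of objects of D such that an object K of D is zero as soon as Hom(E,
K⟦i⟧) = 0 for all E ∈ S and i ∈ ℤ, and also as soon as Hom(K, E⟦i⟧) = 0 for all E ∈ S and i ∈ ℤ. If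
for all E, E' ∈ S and i ∈ ℤ the map Hom(E, E'⟦i⟧) → Hom(F E, F (E'⟦i⟧)) given by F is bijective,
then F is full and faithful. -/
theorem result
    {D : Type u} [Category.{v} D] [Preadditive D] [HasZeroObject D] [HasShift D ℤ]
    [∀ n : ℤ, (shiftFunctor D n).Additive] [Pretriangulated D] [IsTriangulated D]
    {D' : Type u'} [Category.{v'} D'] [Preadditive D'] [HasZeroObject D'] [HasShift D' ℤ]
    [∀ n : ℤ, (shiftFunctor D' n).Additive] [Pretriangulated D'] [IsTriangulated D']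
    (F : D ⥤ D') [F.CommShift ℤ] [F.IsTriangulated] [F.IsLeftAdjoint] [F.IsRightAdjoint]
    (S : Set D)
    (h2 : ∀ K : D, (∀ E ∈ S, ∀ (i : ℤ) (f : E ⟶ (shiftFunctor D i).obj K), f = 0) → IsZero K)
    (h3 : ∀ K : D, (∀ E ∈ S, ∀ (i : ℤ) (f : K ⟶ (shiftFunctor D i).obj E), f = 0) → IsZero K)
    (h4 : ∀ E ∈ S, ∀ E' ∈ S, ∀ i : ℤ,
      Function.Bijective (fun f : E ⟶ (shiftFunctor D i).obj E' => F.map f)) :
    F.Full ∧ F.Faithful := by
  -- the adjunction with the right adjoint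
  obtain ⟨H, ⟨adj⟩⟩ : ∃ H : D' ⥤ D, Nonempty (F ⊣ H) := ⟨_, ⟨Adjunction.ofIsLeftAdjoint F⟩⟩
  let _ : H.CommShift ℤ := adj.rightAdjointCommShift ℤ
  have _ : adj.CommShift ℤ := adj.commShift_of_leftAdjoint ℤ
  obtain ⟨u, ψ, hψ, hsh, hunit⟩ : ∃ (u : ∀ X : D, X ⟶ H.obj (F.obj X))
      (ψ : ∀ (i : ℤ) (X : D), H.obj (F.obj (X⟦i⟧)) ⟶ (H.obj (F.obj X))⟦i⟧)
      (_ : ∀ (i : ℤ) (X : D), IsIso (ψ i X))
      (_ : ∀ (i : ℤ) (X : D), (u X)⟦i⟧' = u (X⟦i⟧) ≫ ψ i X),
      ∀ {X Y : D} (f : X ⟶ Y), f ≫ u Y = adj.homEquiv _ _ (F.map f) := by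
    refine ⟨fun X => adj.unit.app X, fun i X =>
      H.map ((F.commShiftIso i).hom.app X) ≫ (H.commShiftIso i).hom.app (F.obj X),
      fun i X => by infer_instance, fun i X => adj.shift_unit_app i X, ?_⟩
    intro X Y f
    rw [Adjunction.homEquiv_unit]
    exact adj.unit.naturality f
  -- the unit is an isomorphism on `S`
  have key : ∀ E' ∈ S, IsIso (u E') := by
    intro E' hE'
    refine K350.Tri.isIso_of_bijective_coyoneda S h2 (u E') ?_
    intro E hE i
    constructor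
    · intro f g hfg
      change f ≫ (u E')⟦i⟧' = g ≫ (u E')⟦i⟧' at hfg
      rw [hsh, ← Category.assoc, ← Category.assoc, cancel_mono, hunit, hunit] at hfg
      exact (h4 E hE E' hE' i).1 ((adj.homEquiv _ _).injective hfg)
    · intro g
      obtain ⟨f, hf⟩ := (h4 E hE E' hE' i).2 ((adj.homEquiv _ _).symm (g ≫ inv (ψ i E')))
      refine ⟨f, ?_⟩
      change f ≫ (u E')⟦i⟧' = g
      change F.map f = _ at hf
      rw [hsh, ← Category.assoc, hunit, hf, Equiv.apply_symm_apply]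
      simp
  have key' : ∀ E' ∈ S, ∀ i : ℤ, IsIso (u (E'⟦i⟧)) := by
    intro E' hE' i
    have _ := key E' hE'
    have h5 : u (E'⟦i⟧) = (u E')⟦i⟧' ≫ inv (ψ i E') := by
      rw [hsh]; simp
    rw [h5]; infer_instance
  have key2 : ∀ (K : D), ∀ E' ∈ S, ∀ i : ℤ,
      Function.Bijective (fun f : K ⟶ (shiftFunctor D i).obj E' => F.map f) := by
    intro K E' hE' i
    have _ := key' E' hE' i
    constructor
    · intro f g hfg
      change F.map f = F.map g at hfg
      rw [← cancel_mono (u (E'⟦i⟧)), hunit, hunit, hfg]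
    · intro g
      refine ⟨adj.homEquiv _ _ g ≫ inv (u (E'⟦i⟧)), ?_⟩
      change F.map _ = g
      apply (adj.homEquiv _ _).injective
      rw [← hunit]
      simp
  obtain ⟨G, ⟨adj2⟩⟩ : ∃ G : D' ⥤ D, Nonempty (G ⊣ F) := ⟨_, ⟨Adjunction.ofIsRightAdjoint F⟩⟩
  obtain ⟨c, hc, hcounit⟩ : ∃ (c : ∀ X : D, G.obj (F.obj X) ⟶ X) (_ : ∀ X, c X = adj2.counit.app X),
      ∀ {X Y : D} (f : X ⟶ Y), adj2.homEquiv _ _ (c X ≫ f) = F.map f := by
    refine ⟨fun X => adj2.counit.app X, fun X => rfl, ?_⟩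
    intro X Y f
    rw [Adjunction.homEquiv_unit]
    simp
  have key3 : ∀ K : D, IsIso (c K) := by
    intro K
    refine K350.Tri.isIso_of_bijective_yoneda S h3 (c K) ?_
    intro E hE i
    constructor
    · intro f g hfg
      change c K ≫ f = c K ≫ g at hfg
      apply (key2 K E hE i).1
      change F.map f = F.map g
      rw [← hcounit, hfg, hcounit]
    · intro g
      obtain ⟨f, hf⟩ := (key2 K E hE i).2 (adj2.homEquiv _ _ g)
      refine ⟨f, ?_⟩
      change c K ≫ f = g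
      apply (adj2.homEquiv _ _).injective
      rw [hcounit]
      exact hf
  have _ : ∀ K : D, IsIso (adj2.counit.app K) := fun K => by
    rw [← hc K]; exact key3 K
  have _ : IsIso adj2.counit := NatIso.isIso_of_isIso_app _
  exact ⟨adj2.fullyFaithfulROfIsIsoCounit.full, adj2.fullyFaithfulROfIsIsoCounit.faithful⟩

end Groth.Agent.S6703
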