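import Groth.Statements.S6708

set_option autoImplicit false
universe v u
open CategoryTheory
open DEquiv

namespace Groth.Agent.S6708

open CategoryTheory.Limits CategoryTheory.Pretriangulated in
/-- Let D be a pretriangulated category, D' ⊆ D a full triangulated subcategory (given as a property of
objects that is triangulated in Mathlib's sense) and X an object of D. Then the category of arrows E
⟶ X with E in D' is filtered. -/
theorem result
    {D : Type u} [Category.{v} D] [Preadditive D] [HasZeroObject D] [HasShift D ℤ]
    [∀ n : ℤ, (shiftFunctor D n).Additive] [Pretriangulated D]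
    (P : ObjectProperty D) [P.IsTriangulated] (X : D) :
    IsFiltered (CostructuredArrow P.ι X) := by
  have hne : Nonempty (CostructuredArrow P.ι X) := by
    obtain ⟨Z, hZ, hZP⟩ := P.exists_prop_of_containsZero
    exact ⟨CostructuredArrow.mk (Y := (⟨Z, hZP⟩ : P.FullSubcategory)) (0 : Z ⟶ X)⟩
  have h1 : IsFilteredOrEmpty (CostructuredArrow P.ι X) := by
    constructor
    · intro A B
      have hT := binaryBiproductTriangle_distinguished A.left.obj B.left.obj
      obtain ⟨E, hE, ⟨e⟩⟩ := P.ext_of_isTriangulatedClosed₂' _ hT A.left.property B.left.property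
      change A.left.obj ⊞ B.left.obj ≅ E at e
      refine ⟨CostructuredArrow.mk (Y := (⟨E, hE⟩ : P.FullSubcategory))
        (e.inv ≫ biprod.desc A.hom B.hom : E ⟶ X),
        CostructuredArrow.homMk (ObjectProperty.homMk (biprod.inl ≫ e.hom)) ?_,
        CostructuredArrow.homMk (ObjectProperty.homMk (biprod.inr ≫ e.hom)) ?_, trivial⟩
      · change (biprod.inl ≫ e.hom) ≫ (e.inv ≫ biprod.desc A.hom B.hom) = A.hom
        simp
      · change (biprod.inr ≫ e.hom) ≫ (e.inv ≫ biprod.desc A.hom B.hom) = B.hom
        simp
    · intro A B f g
      obtain ⟨Z, hZ, b, c, hT⟩ := P.distinguished_cocone_triangle (f.left.hom - g.left.hom)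
        A.left.property B.left.property
      have hf : f.left.hom ≫ B.hom = A.hom := by
        have := CostructuredArrow.w f
        exact this
      have hg : g.left.hom ≫ B.hom = A.hom := by
        have := CostructuredArrow.w g
        exact this
      obtain ⟨h, hh⟩ := Triangle.yoneda_exact₂ _ hT B.hom (by
        change (f.left.hom - g.left.hom) ≫ B.hom = 0
        rw [Preadditive.sub_comp, hf, hg, sub_self])
      change B.hom = b ≫ h at hh
      refine ⟨CostructuredArrow.mk (Y := (⟨Z, hZ⟩ : P.FullSubcategory)) (h : Z ⟶ X),
        CostructuredArrow.homMk (ObjectProperty.homMk b) ?_, ?_⟩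
      · change b ≫ h = B.hom
        exact hh.symm
      · ext
        change f.left.hom ≫ b = g.left.hom ≫ b
        have := comp_distTriang_mor_zero₁₂ _ hT
        change (f.left.hom - g.left.hom) ≫ b = 0 at this
        rwa [Preadditive.sub_comp, sub_eq_zero] at this
  exact { nonempty := hne }

end Groth.Agent.S6708
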