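import Groth.Statements.S6710
import Mathlib.RingTheory.LocalRing.Module
import Mathlib.LinearAlgebra.Dual.Lemmas
import Mathlib.RingTheory.Finiteness.Ideal
import Mathlib.RingTheory.Localization.Integer
import Mathlib.RingTheory.Nilpotent.Lemmas
import Mathlib.RingTheory.Ideal.MinimalPrime.Localization

set_option autoImplicit false
universe u v
open CategoryTheory
open FunMor

namespace K355

open TensorProduct

/-- For a finite module `M` with `p` in its support, there is a nonzero linear map `M → A/p`. -/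
theorem exists_ne_zero_to_quotient {A : Type u} [CommRing A] {M : Type v} [AddCommGroup M]
    [Module A M] [Module.Finite A M] (p : PrimeSpectrum A) (hp : p ∈ Module.support A M) :
    ∃ φ : M →ₗ[A] A ⧸ p.asIdeal, φ ≠ 0 := by
  rw [Module.mem_support_iff_nontrivial_residueField_tensorProduct] at hp
  let k := p.asIdeal.ResidueField
  obtain ⟨t, ht⟩ := exists_ne (0 : k ⊗[A] M)
  obtain ⟨f, hf⟩ : ∃ f : Module.Dual k (k ⊗[A] M), f t ≠ 0 := by
    by_contra hcon
    push Not at hcon
    exact ht ((Module.forall_dual_apply_eq_zero_iff k t).mp hcon)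
  -- restrict to `M`
  let ψ : M →ₗ[A] k := (f.restrictScalars A).comp (TensorProduct.mk A k M 1)
  have hψ : ψ ≠ 0 := by
    intro h0
    apply hf
    have : f = 0 := by
      apply TensorProduct.AlgebraTensorModule.ext
      intro x m
      have h1 : f ((1 : k) ⊗ₜ[A] m) = 0 := by
        have := congrArg (fun g => g m) h0
        simpa [ψ] using this
      have h2 : x ⊗ₜ[A] m = x • ((1 : k) ⊗ₜ[A] m) := by
        rw [TensorProduct.smul_tmul', smul_eq_mul, mul_one]
      rw [h2, map_smul, h1, smul_zero]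
      rfl
    rw [this]; rfl
  obtain ⟨s, hs⟩ := (Module.finite_def.mp (inferInstance : Module.Finite A M))
  classical
  obtain ⟨b, hb⟩ := IsLocalization.exist_integer_multiples_of_finset (nonZeroDivisors (A ⧸ p.asIdeal))
    (s.image ψ)
  obtain ⟨b', hb'⟩ := Ideal.Quotient.mk_surjective (b : A ⧸ p.asIdeal)
  let j : (A ⧸ p.asIdeal) →ₗ[A] k := (IsScalarTower.toAlgHom A (A ⧸ p.asIdeal) k).toLinearMap
  have hj : Function.Injective j := IsFractionRing.injective (A ⧸ p.asIdeal) k
  have hrange : LinearMap.range (b' • ψ) ≤ LinearMap.range j := by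
    rw [LinearMap.range_eq_map, ← hs, Submodule.map_span_le]
    intro m hm
    obtain ⟨c, hc⟩ := hb (ψ m) (Finset.mem_image_of_mem _ hm)
    refine ⟨c, ?_⟩
    change algebraMap _ _ c = b' • ψ m
    rw [hc, ← hb']
    rw [← Ideal.Quotient.algebraMap_eq, algebraMap_smul]
  let φ : M →ₗ[A] A ⧸ p.asIdeal :=
    (LinearEquiv.ofInjective j hj).symm.toLinearMap.comp
      ((b' • ψ).codRestrict (LinearMap.range j) (fun m => hrange ⟨m, rfl⟩))
  refine ⟨φ, ?_⟩
  intro h0
  apply hψ
  ext m
  have h1 : φ m = 0 := by rw [h0]; rfl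
  have h2 : j (φ m) = b' • ψ m := by
    have := LinearEquiv.ofInjective_apply (f := j) (h := hj)
      ((LinearEquiv.ofInjective j hj).symm
        ((b' • ψ).codRestrict (LinearMap.range j) (fun m => hrange ⟨m, rfl⟩) m))
    rw [LinearEquiv.apply_symm_apply] at this
    exact this.symm
  rw [h1, map_zero] at h2
  have h3 : algebraMap A k b' * ψ m = 0 := by
    rw [← Algebra.smul_def]; exact h2.symm
  rcases mul_eq_zero.mp h3 with h4 | h4
  · exfalso
    have h5 : algebraMap (A ⧸ p.asIdeal) k b = 0 := by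
      rw [← hb', ← Ideal.Quotient.algebraMap_eq, ← IsScalarTower.algebraMap_apply]
      exact h4
    have h6 : (b : A ⧸ p.asIdeal) = 0 := by
      apply IsFractionRing.injective (A ⧸ p.asIdeal) k
      rw [h5, map_zero]
    exact nonZeroDivisors.ne_zero b.2 h6
  · exact h4

/-- Minimal `m` argument: if `L` is finitely generated and contained in a prime `p` minimal over `I`, then for
every `t ∉ p` there is `c` with `c L ⊆ I` and `c t ∉ I`. -/
theorem exists_mul_le_and_notMem {A : Type u} [CommRing A] {I p : Ideal A}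
    (hp : p ∈ I.minimalPrimes) {L : Ideal A} (hL : L.FG) (hLp : L ≤ p) {t : A} (ht : t ∉ p) :
    ∃ c : A, (∀ l ∈ L, c * l ∈ I) ∧ c * t ∉ I := by
  classical
  have hpp : p.IsPrime := hp.1.1
  have hex : ∃ (m : ℕ), ∃ s : A, s ∉ p ∧ ∀ l ∈ L ^ m, s * l ∈ I := by
    have hrad : p.map (algebraMap A (Localization.AtPrime p)) ≤
        (I.map (algebraMap A (Localization.AtPrime p))).radical := by
      rw [Ideal.radical_eq_sInf, le_sInf_iff]
      rintro q ⟨hq', hq⟩
      obtain ⟨h₁, h₂⟩ := ((IsLocalization.AtPrime.orderIsoOfPrime _ p) ⟨q, hq⟩).2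
      rw [Ideal.map_le_iff_le_comap] at hq' ⊢
      exact hp.2 ⟨h₁, hq'⟩ h₂
    obtain ⟨n, hn⟩ := Ideal.exists_pow_le_of_le_radical_of_fg
      (I := L.map (algebraMap A (Localization.AtPrime p))) ((Ideal.map_mono hLp).trans hrad)
      (hL.map _)
    have hLn : (L ^ n).FG := hL.pow
    rw [← Ideal.map_pow] at hn
    have h1 : ∀ a ∈ L ^ n, ∃ s ∉ p, s * a ∈ I := by
      intro a ha
      have h2 := hn (Ideal.mem_map_of_mem _ ha)
      rw [IsLocalization.mem_map_algebraMap_iff (M := p.primeCompl)] at h2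
      obtain ⟨⟨a', b⟩, h3⟩ := h2
      rw [← map_mul, IsLocalization.eq_iff_exists p.primeCompl] at h3
      obtain ⟨t, ht⟩ := h3
      refine ⟨t * b, fun h => (t * b).2 h, ?_⟩
      simp only at ht
      rw [show (t : A) * b * a = t * (a * b) by ring, ht]
      exact I.mul_mem_left _ a'.2
    obtain ⟨S, hS⟩ := hLn
    choose! σ hσ hσ' using h1
    have hSL : ∀ a ∈ S, a ∈ L ^ n := fun a ha => hS ▸ Ideal.subset_span ha
    refine ⟨n, ∏ a ∈ S, σ a, ?_, ?_⟩
    · intro h
      obtain ⟨a, ha, h'⟩ := hpp.prod_mem_iff.mp h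
      exact hσ a (hSL a ha) h'
    · rw [← Ideal.span_singleton_mul_le_iff, ← hS, Ideal.span_singleton_mul_le_iff]
      intro z hz
      refine Submodule.span_induction (p := fun z _ => (∏ a ∈ S, σ a) * z ∈ I) ?_ ?_ ?_ ?_ hz
      · intro z hz
        rw [← Finset.mul_prod_erase S σ hz, mul_comm (σ z), mul_assoc]
        exact I.mul_mem_left _ (hσ' z (hSL z hz))
      · simp
      · intro x y _ _ hx hy
        rw [mul_add]; exact I.add_mem hx hy
      · intro r x _ hx
        rw [smul_eq_mul, mul_left_comm]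
        exact I.mul_mem_left _ hx
  let m := Nat.find hex
  obtain ⟨s, hs, hsm⟩ := Nat.find_spec hex
  have hm : Nat.find hex ≠ 0 := by
    intro h0
    rw [h0] at hsm
    exact hs (hp.1.2 (by simpa using hsm 1 (by simp)))
  obtain ⟨m', hm'⟩ := Nat.exists_eq_succ_of_ne_zero hm
  have hmin := Nat.find_min hex (m := m') (by omega)
  push Not at hmin
  obtain ⟨l, hl, hl'⟩ := hmin (s * t) (fun h => (hpp.mem_or_mem h).elim hs ht)
  refine ⟨s * l, ?_, ?_⟩
  · intro l' hl''
    rw [mul_assoc]
    apply hsm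
    rw [hm', pow_succ]
    exact Ideal.mul_mem_mul hl hl''
  · rwa [show s * l * t = s * t * l by ring]

end K355

namespace Groth.Agent.S6710

/-- The statement for an affine scheme written in terms of modules: let A be a commutative ring, M a
finitely presented A-module and N a nonzero A-module with Supp(N) ⊆ Supp(M). Then Hom_A(M, N) is
nonzero. -/
theorem result
    (A : Type u) [CommRing A] (M : Type v) [AddCommGroup M] [Module A M]
    [Module.FinitePresentation A M] (N : Type v) [AddCommGroup N] [Module A N] [Nontrivial N]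
    (h : Module.support A N ⊆ Module.support A M) : Nontrivial (M →ₗ[A] N) := by
  obtain ⟨x, hx⟩ := exists_ne (0 : N)
  let I : Ideal A := LinearMap.ker (LinearMap.toSpanSingleton A N x)
  have hI : I ≠ ⊤ := by
    intro h0
    have : (1 : A) ∈ I := h0 ▸ Submodule.mem_top
    apply hx
    simpa [I] using this
  obtain ⟨P, hPmax, hIP⟩ := Ideal.exists_le_maximal I hI
  have := hPmax.isPrime
  obtain ⟨p, hp, -⟩ := Ideal.exists_minimalPrimes_le hIP
  have hpp : p.IsPrime := hp.1.1
  have hsN : (⟨p, hpp⟩ : PrimeSpectrum A) ∈ Module.support A N := by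
    rw [Module.mem_support_iff_exists_annihilator]
    refine ⟨x, ?_⟩
    intro a ha
    apply hp.1.2
    rw [LinearMap.mem_ker, LinearMap.toSpanSingleton_apply]
    exact (Submodule.mem_annihilator_span_singleton x a).mp ha
  obtain ⟨φ, hφ⟩ := K355.exists_ne_zero_to_quotient _ (h hsN)
  obtain ⟨n, m, f, g, hf, hfg⟩ := Module.FinitePresentation.exists_fin' A M
  obtain ⟨Λ, hΛ⟩ := Module.projective_lifting_property
    (Submodule.mkQ p) (φ.comp f) (Submodule.mkQ_surjective p)
  let L : Ideal A := LinearMap.range (Λ.comp g)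
  have hL : L.FG := by
    have : (⊤ : Submodule A (Fin m → A)).FG := Module.Finite.fg_top
    rw [show L = Submodule.map (Λ.comp g) ⊤ from LinearMap.range_eq_map _]
    exact this.map _
  have hLp : L ≤ p := by
    rintro _ ⟨y, rfl⟩
    have h1 : Submodule.mkQ p (Λ (g y)) = 0 := by
      rw [← LinearMap.comp_apply, hΛ, LinearMap.comp_apply,
        (hfg (g y)).mpr ⟨y, rfl⟩, map_zero]
    exact Ideal.Quotient.eq_zero_iff_mem.mp h1
  obtain ⟨e, he⟩ : ∃ e, Λ e ∉ p := by
    by_contra hcon
    push Not at hcon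
    apply hφ
    ext y
    obtain ⟨z, rfl⟩ := hf y
    have h1 : Submodule.mkQ p (Λ z) = φ (f z) := by
      rw [← LinearMap.comp_apply, hΛ]; rfl
    rw [← h1]
    exact Ideal.Quotient.eq_zero_iff_mem.mpr (hcon z)
  obtain ⟨c, hc, hc'⟩ := K355.exists_mul_le_and_notMem hp hL hLp he
  let ψ : (Fin n → A) →ₗ[A] N := (LinearMap.toSpanSingleton A N x).comp (c • Λ)
  have hker : LinearMap.ker f ≤ LinearMap.ker ψ := by
    intro y hy
    obtain ⟨z, rfl⟩ := (hfg y).mp hy
    have h1 : c * Λ (g z) ∈ I := hc _ ⟨z, rfl⟩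
    exact h1
  let q : M →ₗ[A] N := (Submodule.liftQ _ ψ hker).comp
    (f.quotKerEquivOfSurjective hf).symm.toLinearMap
  have hq : ∀ y, q (f y) = ψ y := by
    intro y
    have h1 : (f.quotKerEquivOfSurjective hf).symm (f y) = Submodule.Quotient.mk y := by
      rw [LinearEquiv.symm_apply_eq]; rfl
    change (Submodule.liftQ _ ψ hker) ((f.quotKerEquivOfSurjective hf).symm (f y)) = _
    rw [h1]; rfl
  refine ⟨q, 0, ?_⟩
  intro h0
  apply hc'
  have h1 : q (f e) = 0 := by rw [h0]; rfl
  rw [hq] at h1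
  exact h1

end Groth.Agent.S6710
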