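import Groth.Statements.S6712
import Groth.Agent.S2387

set_option autoImplicit false
universe u
open CategoryTheory AlgebraicGeometry
open DEquiv

namespace Groth.Agent.S6712

open CategoryTheory.Limits in
/-- Let S be a Noetherian scheme, s ∈ S, and p : X ⟶ Y a morphism over S where X ⟶ S and Y ⟶ S are
proper and X ⟶ S is flat. If the fibre X_s ⟶ Y_s of p is an isomorphism, then there is an open
neighbourhood U of s such that the base change X_U ⟶ Y_U of p is an isomorphism. -/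
theorem result
    {S X Y : Scheme.{u}} [IsNoetherian S] (s : S) (g : X ⟶ S) (h : Y ⟶ S) (p : X ⟶ Y)
    (w : p ≫ h = g) [IsProper g] [IsProper h] [Flat g]
    (hs : IsIso (pullback.map g (S.fromSpecResidueField s) h (S.fromSpecResidueField s) p (𝟙 _)
      (𝟙 _) ((Category.comp_id g).trans w.symm)
      ((Category.comp_id _).trans (Category.id_comp _).symm))) :
    ∃ U : S.Opens, s ∈ U ∧
      IsIso (pullback.map g U.ι h U.ι p (𝟙 _) (𝟙 _) ((Category.comp_id g).trans w.symm)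
        ((Category.comp_id _).trans (Category.id_comp _).symm)) := by
  subst w
  have : IsIso (CohIII.fiberMapOver p (p ≫ h) h rfl s) := hs
  obtain ⟨U, hsU, hU⟩ := Groth.Agent.S2387.result p (p ≫ h) h rfl s
  refine ⟨U, hsU, ?_⟩
  obtain ⟨r, hr, hr'⟩ : ∃ r : ((p ≫ h) ⁻¹ᵁ U).toScheme ⟶ (h ⁻¹ᵁ U).toScheme,
      IsIso r ∧ r ≫ (h ⁻¹ᵁ U).ι = ((p ≫ h) ⁻¹ᵁ U).ι ≫ p :=
    ⟨p ∣_ (h ⁻¹ᵁ U), hU, morphismRestrict_ι p (h ⁻¹ᵁ U)⟩
  have key : pullback.map (p ≫ h) U.ι h U.ι p (𝟙 _) (𝟙 _) ((Category.comp_id (p ≫ h)).trans rfl)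
        ((Category.comp_id _).trans (Category.id_comp _).symm) =
      (pullbackRestrictIsoRestrict (p ≫ h) U).hom ≫ r ≫
        (pullbackRestrictIsoRestrict h U).inv := by
    rw [← Category.assoc, Iso.eq_comp_inv, ← cancel_mono (h ⁻¹ᵁ U).ι]
    simp only [Category.assoc, pullbackRestrictIsoRestrict_hom_ι, hr', pullback.map,
      pullback.lift_fst, pullbackRestrictIsoRestrict_hom_ι_assoc]
  rw [key]
  infer_instance

end Groth.Agent.S6712
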