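import Groth.Statements.S6718
import Groth.Agent.DEquiv.K350.SerreFun

set_option autoImplicit false
universe w v u
open CategoryTheory
open DEquiv

namespace Groth.Agent.S6718

open CategoryTheory.Limits CategoryTheory.Pretriangulated in
/-- Let k be a field and T a k-linear (pre)triangulated category with dim_k Hom(X, Y) < ∞ for all X, Y.
The following are equivalent: (1) there are a k-linear equivalence S : T ⥤ T and k-linear
isomorphisms c_{X,Y} : Hom(X, Y) ≅ Hom(Y, S X)^∨ natural in X and in Y; (2) for every object X the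
functor Y ↦ Hom(X, Y)^∨ is representable and the functor Y ↦ Hom(Y, X)^∨ is corepresentable, by
k-linear isomorphisms natural in Y. (Here V^∨ is the k-linear dual.) -/
theorem result
    {k : Type w} [Field k]
    {T : Type u} [Category.{v} T] [Preadditive T] [Linear k T] [HasZeroObject T] [HasShift T ℤ]
    [∀ n : ℤ, (shiftFunctor T n).Additive] [∀ n : ℤ, (shiftFunctor T n).Linear k] [Pretriangulated T]
    [∀ X Y : T, Module.Finite k (X ⟶ Y)] :
    (∃ (S : T ≌ T) (_ : S.functor.Additive) (_ : S.functor.Linear k)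
        (c : ∀ X Y : T, (X ⟶ Y) ≃ₗ[k] Module.Dual k (Y ⟶ S.functor.obj X)),
        (∀ (X Y Y' : T) (f : X ⟶ Y) (g : Y ⟶ Y'),
          c X Y' (f ≫ g) = (c X Y f) ∘ₗ Linear.leftComp k (S.functor.obj X) g) ∧
        (∀ (X' X Y : T) (a : X' ⟶ X) (f : X ⟶ Y),
          c X' Y (a ≫ f) = (c X Y f) ∘ₗ Linear.rightComp k Y (S.functor.map a))) ↔
    ((∀ X : T, ∃ (SX : T) (e : ∀ Y : T, (Y ⟶ SX) ≃ₗ[k] Module.Dual k (X ⟶ Y)),
        ∀ (Y Y' : T) (g : Y' ⟶ Y) (f : Y ⟶ SX),
          e Y' (g ≫ f) = (e Y f) ∘ₗ Linear.rightComp k X g) ∧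
      (∀ X : T, ∃ (RX : T) (e : ∀ Y : T, (RX ⟶ Y) ≃ₗ[k] Module.Dual k (Y ⟶ X)),
        ∀ (Y Y' : T) (g : Y ⟶ Y') (f : RX ⟶ Y),
          e Y' (f ≫ g) = (e Y f) ∘ₗ Linear.leftComp k X g)) := by
  constructor
  · rintro ⟨S, _, _, c, hc₁, hc₂⟩
    have hs := fun X => K350.Serre.isSerre_of_equiv (c X) (hc₁ X)
    refine ⟨fun X => ⟨S.functor.obj X, fun Y => (hs X).1.equiv' Y, ?_⟩, fun X => ?_⟩
    · intro Y Y' g f
      ext s
      change c X X (𝟙 X) (s ≫ g ≫ f) = c X X (𝟙 X) ((s ≫ g) ≫ f)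
      rw [Category.assoc]
    · let e : S.functor.obj (S.inverse.obj X) ≅ X := S.counitIso.app X
      have h2 := (hs (S.inverse.obj X)).1.of_iso e
      refine ⟨S.inverse.obj X, fun Y => h2.equiv Y, ?_⟩
      intro Y Y' g f
      ext s
      change c (S.inverse.obj X) (S.inverse.obj X) (𝟙 _) (((f ≫ g) ≫ s) ≫ e.inv) =
        c (S.inverse.obj X) (S.inverse.obj X) (𝟙 _) ((f ≫ g ≫ s) ≫ e.inv)
      rw [Category.assoc f g s]
  · rintro ⟨h1, h2⟩
    choose SX e he using h1
    choose t ht hte using fun X => K350.Serre.isSerre_of_equiv' (e X) (he X)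
    let F := K350.Serre.serreFunctor SX t ht
    have hF : F.EssSurj := by
      constructor
      intro Y
      obtain ⟨RY, c, hc⟩ := h2 Y
      have h3 := (K350.Serre.isSerre_of_equiv c (fun Y Y' f g => hc Y Y' g f)).1
      obtain ⟨φ, -⟩ := (ht RY).exists_iso h3
      exact ⟨RY, ⟨φ⟩⟩
    have hFe : F.IsEquivalence := { }
    refine ⟨F.asEquivalence, inferInstanceAs F.Additive, inferInstanceAs (F.Linear k),
      fun X Y => (ht X).equiv Y, ?_, ?_⟩
    · intro X Y Y' f g
      ext s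
      change t X ((f ≫ g) ≫ s) = t X (f ≫ g ≫ s)
      rw [Category.assoc]
    · intro X' X Y a f
      ext s
      change Y ⟶ SX X' at s
      change t X' ((a ≫ f) ≫ s) = t X (f ≫ s ≫ K350.Serre.serreMap SX t ht a)
      rw [← Category.assoc f, K350.Serre.serreMap_spec, Category.assoc]

end Groth.Agent.S6718
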