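import Groth.Statements.S6720
import Groth.Agent.DEquiv.K235.PtExt
import Groth.Agent.DEquiv.K235.PtModel

set_option autoImplicit false
universe u
open CategoryTheory AlgebraicGeometry
attribute [local instance] HasDerivedCategory.standard
open DEquiv

namespace Groth.Agent.S6720

/-- Let X be a scheme of finite type over a field k which is regular, x ∈ X a closed point, O_x the
skyscraper sheaf at x with value κ(x), and K a perfect object of D(O_X). If Hom(O_x, K⟦i⟧) = 0 for
all i ∈ ℤ, then K is zero on an open neighbourhood of x; likewise if Hom(K, O_x⟦i⟧) = 0 for all i ∈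
ℤ. (K zero on U is expressed as: no cohomology sheaf of K has a point of U in its support.) -/
theorem result
    (k : Type u) [Field k] (X : Scheme.{u}) [X.Over (Spec (.of k))]
    [LocallyOfFiniteType (X ↘ Spec (.of k))] [CompactSpace X]
    (hreg : Models.IsRegularScheme X) (x : X) (hx : IsClosed ({x} : Set X))
    (K : DCoh.D X) (hK : DCoh.IsPerfect K) :
    ((∀ (i : ℤ) (φ : DCoh.inD X ((Coh.push (X.fromSpecResidueField x)).obj (Coh.structureModule _)) ⟶ (shiftFunctor (DCoh.D X) i).obj K), φ = 0) →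
      ∃ U : X.Opens, x ∈ U ∧ ∀ (i : ℤ) (y : X), y ∈ U → y ∉ CohB1.support (DCoh.HD K i)) ∧
    ((∀ (i : ℤ) (φ : K ⟶ (shiftFunctor (DCoh.D X) i).obj (DCoh.inD X ((Coh.push (X.fromSpecResidueField x)).obj (Coh.structureModule _)))), φ = 0) →
      ∃ U : X.Opens, x ∈ U ∧ ∀ (i : ℤ) (y : X), y ∈ U → y ∉ CohB1.support (DCoh.HD K i)) := by
  have hN : IsLocallyNoetherian X := LocallyOfFiniteType.isLocallyNoetherian (X ↘ Spec (.of k))
  have hL : DCoh.HasLpull (X.fromSpecResidueField x) := Groth.Agent.PerfB.PullData.hasLpull _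
  obtain ⟨U, hxU, hU⟩ := K235.PtModel.exists_open_perf x K hK
  constructor
  · intro h
    have := hreg x
    obtain ⟨d, hd⟩ : ∃ d : ℕ, ringKrullDim (X.presheaf.stalk x) = d := by
      have := (finiteRingKrullDim_iff_ne_bot_and_top (R := X.presheaf.stalk x)).1 inferInstance
      obtain ⟨a, ha⟩ := WithBot.ne_bot_iff_exists.1 this.1
      have hat : a ≠ ⊤ := by
        rintro rfl
        exact this.2 ha.symm
      obtain ⟨m, rfl⟩ := ENat.ne_top_iff_exists.1 hat
      exact ⟨m, ha.symm⟩
    obtain ⟨ψ, hψ⟩ := K235.PtExt.exists_sky X hreg x hx d hd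
    refine ⟨U, hxU, fun i => hU i ?_⟩
    have h1 := K235.PtHom.isZero_of_hom_from_sky' x K hK d (i + d) ψ hψ (h _)
    rwa [add_sub_cancel_right] at h1
  · intro h
    refine ⟨U, hxU, fun i => hU i ?_⟩
    have h1 := K235.PtHom.isZero_of_hom_to_sky' x K (-i) (h _)
    rwa [neg_neg] at h1

end Groth.Agent.S6720
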