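import Groth.Statements.S6721
import Groth.Agent.S2222
import Groth.Agent.PerfA.QCohD

set_option autoImplicit false
universe u
open CategoryTheory AlgebraicGeometry
attribute [local instance] HasDerivedCategory.standard
open DEquiv

namespace Groth.Agent.S6721

/-- Let X be a Noetherian scheme all of whose local rings are regular and whose underlying space has
Krull dimension d. Let K be a bounded object of D(O_X) with coherent cohomology sheaves and a ∈ ℤ
with H^i(K) = 0 for a < i < a + d. Then the connecting morphism τ_{≥ a+d} K ⟶ (τ_{< a+d} K)⟦1⟧ of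
the truncation triangle vanishes (note τ_{< a+d} K = τ_{≤ a} K here), so K decomposes as τ_{≤ a} K ⊕
τ_{≥ a+d} K. -/
theorem result
    (X : Scheme.{u}) [IsNoetherian X] (hreg : Models.IsRegularScheme X) (d : ℕ)
    (hd : topologicalKrullDim X = d) (K : DCoh.D X) (hK : DCoh.IsCohD K) (lo hi : ℤ)
    [DerivedCategory.IsGE K lo] [DerivedCategory.IsLE K hi] (a : ℤ)
    (hgap : ∀ i : ℤ, a < i → i < a + d → Limits.IsZero (DCoh.HD K i)) :
    (DerivedCategory.TStructure.t.truncGEδLT (a + d)).app K = 0 := by
  set K' := (DerivedCategory.TStructure.t.truncGE (a + d)).obj K with hK'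
  set L := (DerivedCategory.TStructure.t.truncLT (a + d)).obj K with hL
  have hL0 : ∀ i : ℤ, a < i → Limits.IsZero (DCoh.HD L i) := by
    intro i hi'
    by_cases h : i < a + d
    · have := Groth.Agent.CohtopB.DTrunc.isIso_homology_map_truncLTι K (a + d) i h
      exact (hgap i hi' h).of_iso (asIso ((DerivedCategory.homologyFunctor X.Modules i).map
        ((DerivedCategory.TStructure.t.truncLTι (a + d)).app K)))
    · exact DerivedCategory.isZero_of_isLE _ (a + d - 1) i (by omega)
  have hLle : DerivedCategory.IsLE L a := (DerivedCategory.isLE_iff _ _).2 hL0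
  have hLge : DerivedCategory.IsGE L lo := by
    rw [DerivedCategory.isGE_iff]
    intro i hi'
    by_cases h : i < a + d
    · have := Groth.Agent.CohtopB.DTrunc.isIso_homology_map_truncLTι K (a + d) i h
      exact (DerivedCategory.isZero_of_isGE K lo i hi').of_iso
        (asIso ((DerivedCategory.homologyFunctor X.Modules i).map
        ((DerivedCategory.TStructure.t.truncLTι (a + d)).app K)))
    · exact DerivedCategory.isZero_of_isLE _ (a + d - 1) i (by omega)
  have hK'le : DerivedCategory.IsLE K' hi := by
    rw [DerivedCategory.isLE_iff]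
    intro i hi'
    by_cases h : a + d ≤ i
    · have := Groth.Agent.CohtopB.DTrunc.isIso_homology_map_truncGEπ K (a + d) i h
      exact (DerivedCategory.isZero_of_isLE K hi i hi').of_iso
        (asIso ((DerivedCategory.homologyFunctor X.Modules i).map
        ((DerivedCategory.TStructure.t.truncGEπ (a + d)).app K))).symm
    · exact DerivedCategory.isZero_of_isGE _ (a + d) i (by omega)
  have h1 : DerivedCategory.IsLE (L⟦(1 : ℤ)⟧) (a - 1) := by
    have := DerivedCategory.TStructure.t.isLE_shift L a 1 (a - 1) (by omega)
    exact this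
  have h2 : DerivedCategory.IsGE (L⟦(1 : ℤ)⟧) (lo - 1) := by
    have := DerivedCategory.TStructure.t.isGE_shift L lo 1 (lo - 1) (by omega)
    exact this
  exact (Groth.Agent.S2222.result X hreg d hd).2 K' (L⟦(1 : ℤ)⟧) a hi (lo - 1)
    (Groth.Agent.PerfA.QCohD.isCohD_truncGE hK _)
    (Groth.Agent.PerfA.QCohD.isCohD_shift (Groth.Agent.PerfA.QCohD.isCohD_truncLT hK _) _)
    inferInstance hK'le h2 h1 _

end Groth.Agent.S6721
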