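import Groth.Statements.S6722
import Groth.Agent.FunMor.K592.SuppGen

set_option autoImplicit false
universe u
open CategoryTheory AlgebraicGeometry
open FunMor

namespace Groth.Agent.S6722

open CategoryTheory.Limits in
/-- Let X be a quasi-compact and quasi-separated scheme and F a finitely presented (quasi-coherent)
O_X-module. Then every quasi-coherent O_X-module E with Supp(E) ⊆ Supp(F) lies in the smallest Serre
subcategory of QCoh(O_X) containing F which is closed under extensions and arbitrary direct sums.
Stated as: E has every property P of O_X-modules such that P holds for F, P is a Serre class on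
quasi-coherent modules (in a short exact sequence of quasi-coherent modules the middle term has P
iff the outer terms do), and P is closed under direct sums of quasi-coherent modules. (The reverse
inclusion, that such modules form a class of this kind, is not restated.) -/
theorem result
    (X : Scheme.{u}) [CompactSpace X] [QuasiSeparatedSpace X]
    (F : X.Modules) (hFq : Coh.IsQCoh F) (hF : CohB1.IsFP F)
    (P : ObjectProperty X.Modules) (hPF : P F)
    (hSerre : ∀ S : ShortComplex X.Modules, S.ShortExact → Coh.IsQCoh S.X₁ → Coh.IsQCoh S.X₂ →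
      Coh.IsQCoh S.X₃ → (P S.X₂ ↔ P S.X₁ ∧ P S.X₃))
    (hsum : ∀ (ι : Type u) (M : ι → X.Modules), (∀ i, Coh.IsQCoh (M i)) → (∀ i, P (M i)) →
      P (∐ M))
    (E : X.Modules) (hE : Coh.IsQCoh E) (hsupp : CohB1.support E ⊆ CohB1.support F) :
    P E := by
    have hzero : ∀ Z : X.Modules, IsZero Z → P Z := by
      intro Z hZ
      have hZq : Coh.IsQCoh Z := Groth.Agent.PerfA.QCohSerre.isQCoh_of_isZero hZ
      let S : ShortComplex X.Modules := ShortComplex.mk (0 : Z ⟶ F) (𝟙 F) (by simp)
      have hS : S.ShortExact :=
        { exact := (S.exact_iff_mono rfl).2 (inferInstanceAs (Mono (𝟙 F)))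
          mono_f := ⟨fun _ _ _ => hZ.eq_of_tgt _ _⟩
          epi_g := inferInstanceAs (Epi (𝟙 F)) }
      exact ((hSerre S hS hZq hFq hFq).1 hPF).1
    have hiso : ∀ (A B : X.Modules) (e : A ≅ B), Coh.IsQCoh A → P A → P B := by
      intro A B e hA hPA
      have hB : Coh.IsQCoh B := Groth.Agent.PerfA.QCohSerre.isQCoh_of_iso e hA
      obtain ⟨Z, h0⟩ := (inferInstance : HasZeroObject X.Modules).zero
      let S : ShortComplex X.Modules := ShortComplex.mk (0 : Z ⟶ A) e.hom (by simp)
      have hS : S.ShortExact :=
        { exact := (S.exact_iff_mono rfl).2 (inferInstanceAs (Mono e.hom))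
          mono_f := ⟨fun _ _ _ => h0.eq_of_tgt _ _⟩
          epi_g := inferInstanceAs (Epi e.hom) }
      exact ((hSerre S hS (Groth.Agent.PerfA.QCohSerre.isQCoh_of_isZero h0) hA hB).1 hPA).2
    let P' : ObjectProperty (QCohCat.QCoh X) := fun M => P M.obj
    have hP' : K592.Localizing.IsLocalizing P' := by
      constructor
      · intro S hS
        have h := hS.map_of_exact (QCohCat.isQCoh X).ι
        exact hSerre _ h S.X₁.property S.X₂.property S.X₃.property
      · intro ι M _ hM
        have e : (∐ fun i => (M i).obj) ≅ (∐ M : QCohCat.QCoh X).obj :=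
          (coproductIsCoproduct _).coconePointUniqueUpToIso
            (isColimitMapCoconeCofanMkEquiv _ _ _
              (isColimitOfPreserves (QCohCat.isQCoh X).ι (coproductIsCoproduct M)))
        refine hiso _ _ e ?_ (hsum ι (fun i => (M i).obj) (fun i => (M i).property) hM)
        exact Groth.Agent.PerfA.QCohSerre.isQCoh_of_iso e.symm (∐ M : QCohCat.QCoh X).property
    exact K592.SuppGen.gen ⟨F, hFq⟩ hF P' hP' hPF ⟨E, hE⟩ hsupp

end Groth.Agent.S6722
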