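import Groth.Statements.S6724
import Groth.Agent.S6723
import Groth.Agent.FunMor.K355.CohExt

set_option autoImplicit false
universe u
open CategoryTheory AlgebraicGeometry
open FunMor

namespace Groth.Agent.S6724

/-- Let X and Y be Noetherian schemes and F : Coh(O_X) ⥤ Coh(O_Y) an equivalence of categories. Then
there exist an isomorphism of schemes f : Y ≅ X and an invertible O_Y-module L such that F(G) ≅ f^*
G ⊗ L functorially in the coherent O_X-module G (an isomorphism between F followed by the inclusion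
into O_Y-modules and the composite of the inclusion, f^* and - ⊗ L). -/
theorem result
    (X Y : Scheme.{u}) [IsNoetherian X] [IsNoetherian Y]
    (F : ObjectProperty.FullSubcategory (fun M : X.Modules => Coh.IsCoh M) ≌ ObjectProperty.FullSubcategory (fun M : Y.Modules => Coh.IsCoh M)) :
    ∃ (f : Y ≅ X) (L : Y.Modules), PicF.IsInvertible L ∧
      Nonempty (F.functor ⋙ ObjectProperty.ι (fun M : Y.Modules => Coh.IsCoh M) ≅
        ObjectProperty.ι (fun M : X.Modules => Coh.IsCoh M) ⋙ Scheme.Modules.pullback f.hom ⋙ DCoh.tensorRightMod L) := by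
  have hX : Limits.HasFilteredColimitsOfSize.{u, u} (QCohCat.QCoh X) := K355.hasFilteredColimits_QCoh X
  have hY : Limits.HasFilteredColimitsOfSize.{u, u} (QCohCat.QCoh Y) := K355.hasFilteredColimits_QCoh Y
  obtain ⟨F', hF', ⟨e⟩⟩ := K355.coh_exists_extension X (F.functor ⋙ K355.incC Y)
  obtain ⟨G', hG', ⟨e'⟩⟩ := K355.coh_exists_extension Y (F.inverse ⋙ K355.incC X)
  have hFG : Limits.PreservesFilteredColimitsOfSize.{u, u} (F' ⋙ G') := Limits.comp_preservesFilteredColimits F' G'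
  have hGF : Limits.PreservesFilteredColimitsOfSize.{u, u} (G' ⋙ F') := Limits.comp_preservesFilteredColimits G' F'
  obtain ⟨i1⟩ := K355.coh_exists_iso X (F' ⋙ G') (𝟭 _)
    ((Functor.associator _ _ _).symm ≪≫ Functor.isoWhiskerRight e G' ≪≫ Functor.associator _ _ _ ≪≫
      Functor.isoWhiskerLeft F.functor e' ≪≫ (Functor.associator _ _ _).symm ≪≫
      Functor.isoWhiskerRight F.unitIso.symm (K355.incC X) ≪≫ Functor.leftUnitor _ ≪≫
      (Functor.rightUnitor _).symm)
  obtain ⟨i2⟩ := K355.coh_exists_iso Y (G' ⋙ F') (𝟭 _)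
    ((Functor.associator _ _ _).symm ≪≫ Functor.isoWhiskerRight e' F' ≪≫ Functor.associator _ _ _ ≪≫
      Functor.isoWhiskerLeft F.inverse e ≪≫ (Functor.associator _ _ _).symm ≪≫
      Functor.isoWhiskerRight F.counitIso (K355.incC Y) ≪≫ Functor.leftUnitor _ ≪≫
      (Functor.rightUnitor _).symm)
  let Φ : QCohCat.QCoh X ≌ QCohCat.QCoh Y := CategoryTheory.Equivalence.mk F' G' i1.symm i2
  obtain ⟨f, L, hL, ⟨j⟩⟩ := Groth.Agent.S6723.result X Y Φ
  refine ⟨f, L, hL, ⟨?_⟩⟩
  have k : F' ⋙ (QCohCat.isQCoh Y).ι ≅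
    (QCohCat.isQCoh X).ι ⋙ Scheme.Modules.pullback f.hom ⋙ DCoh.tensorRightMod L := j
  have a : (F.functor ⋙ K355.incC Y) ⋙ (QCohCat.isQCoh Y).ι ≅
    K355.incC X ⋙ (QCohCat.isQCoh X).ι ⋙ Scheme.Modules.pullback f.hom ⋙ DCoh.tensorRightMod L :=
    Functor.isoWhiskerRight e.symm _ ≪≫ Functor.associator _ _ _ ≪≫
      Functor.isoWhiskerLeft (K355.incC X) k
  exact a

end Groth.Agent.S6724
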