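import Groth.Statements.S6725
import Groth.Agent.FunMor.K355.FPRep
-- import your own Groth.Agent.* helpers here

set_option autoImplicit false
universe u v' u'
open CategoryTheory CategoryTheory.Limits
open FunMor

namespace Groth.Agent.S6725

/-- Essential surjectivity of the functor F ↦ (F(A), induced A-action): let A be a commutative ring and
B an additive category with cokernels. For every object K of B and ring map κ : A → End(K) there
exist a right exact functor F from the category of finitely presented A-modules to B and an
isomorphism F(A) ≅ K carrying F(multiplication by a) to κ(a) for every a ∈ A. -/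
theorem result
    (A : Type u) [CommRing A] {B : Type u'} [Category.{v'} B] [Preadditive B] [HasFiniteBiproducts B]
    [HasCokernels B] (K : B) (κ : A →+* End K) :
    ∃ (F : (ObjectProperty.FullSubcategory (fun M : ModuleCat.{u} A => Module.FinitePresentation A M)) ⥤ B) (_ : PreservesFiniteColimits F)
      (e : F.obj (⟨ModuleCat.of A A, inferInstance⟩ : (ObjectProperty.FullSubcategory (fun M : ModuleCat.{u} A => Module.FinitePresentation A M))) ≅ K),
      ∀ a : A, F.map (ObjectProperty.homMk (ModuleCat.ofHom (LinearMap.lsmul A A a)) : (⟨ModuleCat.of A A, inferInstance⟩ : (ObjectProperty.FullSubcategory (fun M : ModuleCat.{u} A => Module.FinitePresentation A M))) ⟶ (⟨ModuleCat.of A A, inferInstance⟩ : (ObjectProperty.FullSubcategory (fun M : ModuleCat.{u} A => Module.FinitePresentation A M)))) ≫ e.hom = e.hom ≫ κ a := by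
  refine ⟨K355.RF κ, K355.RF_preservesFiniteColimits κ, ?_⟩
  have h1 := K355.RFS κ (⟨ModuleCat.of A A, inferInstance⟩ : (K355.FP A).FullSubcategory)
  have h2 : K355.IsRep κ (ModuleCat.of A A) K κ := K355.isRep_A
  obtain ⟨f, hf⟩ := h1.ex _ h2.lin
  obtain ⟨g, hg⟩ := h2.ex _ h1.lin
  refine ⟨⟨f, g, ?_, ?_⟩, ?_⟩
  · refine h1.uniq _ _ fun x => ?_
    rw [← Category.assoc, hf, Category.comp_id]
    exact hg x
  · refine h2.uniq _ _ fun x => ?_
    rw [← Category.assoc, hg, Category.comp_id]
    exact hf x
  · intro a
    refine h1.uniq _ _ fun x => ?_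
    rw [← Category.assoc, ← Category.assoc, K355.RFu_map, hf]
    have h3 : K355.RFu κ (⟨ModuleCat.of A A, inferInstance⟩ : (K355.FP A).FullSubcategory) x ≫ f =
      κ x := hf x
    refine Eq.trans ?_ (congrArg (· ≫ (show K ⟶ K from κ a)) h3).symm
    change κ (a * x) = _
    rw [κ.map_mul]
    rfl

end Groth.Agent.S6725
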