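import Groth.Statements.S6726
import Groth.Agent.FunMor.K355.FPWatts
-- import your own Groth.Agent.* helpers here

set_option autoImplicit false
universe u v' u'
open CategoryTheory CategoryTheory.Limits
open FunMor

namespace Groth.Agent.S6726

/-- Full faithfulness of the functor F ↦ (F(A), induced A-action): let A be a commutative ring, B an
additive category with cokernels, and F, F' right exact functors from the category of finitely
presented A-modules to B. Then two natural transformations F ⟶ F' with the same component at A are
equal, and a morphism φ : F(A) ⟶ F'(A) is the component at A of a natural transformation as soon as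
it commutes with F and F' applied to multiplication by every a ∈ A. -/
theorem result
    (A : Type u) [CommRing A] {B : Type u'} [Category.{v'} B] [Preadditive B] [HasFiniteBiproducts B]
    [HasCokernels B] (F F' : (ObjectProperty.FullSubcategory (fun M : ModuleCat.{u} A => Module.FinitePresentation A M)) ⥤ B)
    [PreservesFiniteColimits F] [PreservesFiniteColimits F'] :
    (∀ t t' : F ⟶ F', t.app (⟨ModuleCat.of A A, inferInstance⟩ : (ObjectProperty.FullSubcategory (fun M : ModuleCat.{u} A => Module.FinitePresentation A M))) = t'.app (⟨ModuleCat.of A A, inferInstance⟩ : (ObjectProperty.FullSubcategory (fun M : ModuleCat.{u} A => Module.FinitePresentation A M))) → t = t') ∧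
    ∀ φ : F.obj (⟨ModuleCat.of A A, inferInstance⟩ : (ObjectProperty.FullSubcategory (fun M : ModuleCat.{u} A => Module.FinitePresentation A M))) ⟶ F'.obj (⟨ModuleCat.of A A, inferInstance⟩ : (ObjectProperty.FullSubcategory (fun M : ModuleCat.{u} A => Module.FinitePresentation A M))),
      (∀ a : A, F.map (ObjectProperty.homMk (ModuleCat.ofHom (LinearMap.lsmul A A a)) : (⟨ModuleCat.of A A, inferInstance⟩ : (ObjectProperty.FullSubcategory (fun M : ModuleCat.{u} A => Module.FinitePresentation A M))) ⟶ (⟨ModuleCat.of A A, inferInstance⟩ : (ObjectProperty.FullSubcategory (fun M : ModuleCat.{u} A => Module.FinitePresentation A M)))) ≫ φ = φ ≫ F'.map (ObjectProperty.homMk (ModuleCat.ofHom (LinearMap.lsmul A A a)) : (⟨ModuleCat.of A A, inferInstance⟩ : (ObjectProperty.FullSubcategory (fun M : ModuleCat.{u} A => Module.FinitePresentation A M))) ⟶ (⟨ModuleCat.of A A, inferInstance⟩ : (ObjectProperty.FullSubcategory (fun M : ModuleCat.{u} A => Module.FinitePresentation A M))))) →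
      ∃ t : F ⟶ F', t.app (⟨ModuleCat.of A A, inferInstance⟩ : (ObjectProperty.FullSubcategory (fun M : ModuleCat.{u} A => Module.FinitePresentation A M))) = φ := by
  have := K355.hasFiniteBiproducts_FP A
  have := K355.additive_of_preservesFiniteColimits F
  have := K355.additive_of_preservesFiniteColimits F'
  have key : ∀ (φ : F.obj (K355.oA (K355.FP_of A)) ⟶ F'.obj (K355.oA (K355.FP_of A)))
      (hφ : ∀ a : A, F.map (K355.mulA (K355.FP_of A) a) ≫ φ = φ ≫ F'.map (K355.mulA (K355.FP_of A) a))
      (M : (K355.FP A).FullSubcategory),
      ∃! g : F.obj M ⟶ F'.obj M, ∀ x : M.obj,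
        F.map (K355.pt (K355.FP_of A) x) ≫ g = φ ≫ F'.map (K355.pt (K355.FP_of A) x) := by
    intro φ hφ M
    refine K355.existsUnique_desc_FP F M (fun x => φ ≫ F'.map (K355.pt (K355.FP_of A) x)) ?_ ?_
    · intro x y
      rw [K355.pt_add, F'.map_add, Preadditive.comp_add]
    · intro a x
      rw [K355.pt_smul, F'.map_comp, ← Category.assoc, ← hφ a, Category.assoc]
  have nat_of : ∀ (t : F ⟶ F') (M : (K355.FP A).FullSubcategory) (x : M.obj),
      F.map (K355.pt (K355.FP_of A) x) ≫ t.app M =
        t.app (K355.oA (K355.FP_of A)) ≫ F'.map (K355.pt (K355.FP_of A) x) :=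
    fun t M x => t.naturality _
  constructor
  · intro t t' htt'
    have htt : t.app (K355.oA (K355.FP_of A)) = t'.app (K355.oA (K355.FP_of A)) := htt'
    ext M
    obtain ⟨g, -, hg⟩ := key (t.app (K355.oA (K355.FP_of A))) (fun a => t.naturality _) M
    rw [hg (t.app M) (nat_of t M), hg (t'.app M) (fun x => by rw [nat_of t' M x, htt])]
  · intro φ hφ
    choose g hg hg' using key φ hφ
    refine ⟨{ app := g, naturality := fun M N f => ?_ }, ?_⟩
    · obtain ⟨k, -, hk⟩ := K355.existsUnique_desc_FP F M
        (fun x => φ ≫ F'.map (K355.pt (K355.FP_of A) x) ≫ F'.map f) (by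
          intro x y
          rw [K355.pt_add, F'.map_add, Preadditive.add_comp, Preadditive.comp_add]) (by
          intro a x
          rw [K355.pt_smul, F'.map_comp, Category.assoc, ← Category.assoc φ]
          refine (congrArg (· ≫ F'.map (K355.pt (K355.FP_of A) x) ≫ F'.map f) (hφ a)).symm.trans ?_
          rw [Category.assoc]
          rfl)
      rw [hk (F.map f ≫ g N) (fun x => by
        rw [← Category.assoc, ← F.map_comp, K355.pt_comp, hg N, ← K355.pt_comp, F'.map_comp]),
        hk (g M ≫ F'.map f) (fun x => by rw [← Category.assoc, hg M, Category.assoc])]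
    · have h1 := hg (K355.oA (K355.FP_of A)) (1 : A)
      rw [K355.pt_one, F.map_id, F'.map_id, Category.id_comp, Category.comp_id] at h1
      exact h1

end Groth.Agent.S6726
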