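import Groth.Statements.S6736
import Groth.Agent.FunMor.K355.TripleProd
import Groth.Agent.FunMor.K355.FMAcyc
-- import your own Groth.Agent.* helpers here

set_option autoImplicit false
universe u
open CategoryTheory CategoryTheory.Limits AlgebraicGeometry
open FunMor

namespace Groth.Agent.S6736

/-- Let R be a ring and X, Y schemes over R with X quasi-compact with affine diagonal. Let K be a
quasi-coherent module on X ×_R Y which is flat over X and such that R^q pr_{2,*}(pr_1^* F ⊗ K) = 0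
for all quasi-coherent O_X-modules F and all q > 0. Then for every scheme T over R and every
quasi-coherent module F on T ×_R X, R^q pr_{13,*}(pr_{12}^* F ⊗ pr_{23}^* K) = 0 for all q > 0. Here
T ×_R X ×_R Y is realised as (T ×_R X) ×_X (X ×_R Y), with pr_{12}, pr_{23} its two projections and
pr_{13} the morphism to T ×_R Y determined by its two components. (Higher direct images as right
derived functors; the injective-resolution instances hold for module categories of schemes but are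
carried as binders.) -/
theorem result
    (R : Type u) [CommRing R] (X Y : Scheme.{u}) [X.Over (Spec (.of R))] [Y.Over (Spec (.of R))]
    [CompactSpace X] [IsAffineHom (pullback.diagonal (X ↘ Spec (.of R)))]
    [HasInjectiveResolutions (pullback (X ↘ Spec (.of R)) (Y ↘ Spec (.of R))).Modules]
    (K : (pullback (X ↘ Spec (.of R)) (Y ↘ Spec (.of R))).Modules) (hKq : Coh.IsQCoh K)
    (hKfl : FlatMod.IsFlatOver (pullback.fst (X ↘ Spec (.of R)) (Y ↘ Spec (.of R))) K)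
    (hKac : ∀ (F : X.Modules), Coh.IsQCoh F → ∀ q : ℕ, 0 < q →
      IsZero ((Coh.Rpush (pullback.snd (X ↘ Spec (.of R)) (Y ↘ Spec (.of R))) q).obj
        (CohB1.tensorMod ((Scheme.Modules.pullback (pullback.fst (X ↘ Spec (.of R)) (Y ↘ Spec (.of R)))).obj F) K)))
    (T : Scheme.{u}) [T.Over (Spec (.of R))]
    [HasInjectiveResolutions (pullback (pullback.snd (T ↘ Spec (.of R)) (X ↘ Spec (.of R))) (pullback.fst (X ↘ Spec (.of R)) (Y ↘ Spec (.of R)))).Modules]
    (pr₁₃ : (pullback (pullback.snd (T ↘ Spec (.of R)) (X ↘ Spec (.of R))) (pullback.fst (X ↘ Spec (.of R)) (Y ↘ Spec (.of R)))) ⟶ (pullback (T ↘ Spec (.of R)) (Y ↘ Spec (.of R))))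
    (h₁ : pr₁₃ ≫ pullback.fst (T ↘ Spec (.of R)) (Y ↘ Spec (.of R)) =
      pullback.fst _ _ ≫ pullback.fst (T ↘ Spec (.of R)) (X ↘ Spec (.of R)))
    (h₂ : pr₁₃ ≫ pullback.snd (T ↘ Spec (.of R)) (Y ↘ Spec (.of R)) =
      pullback.snd _ _ ≫ pullback.snd (X ↘ Spec (.of R)) (Y ↘ Spec (.of R)))
    (F : (pullback (T ↘ Spec (.of R)) (X ↘ Spec (.of R))).Modules) (hF : Coh.IsQCoh F) (q : ℕ) (hq : 0 < q) :
    IsZero ((Coh.Rpush pr₁₃ q).obj
      (CohB1.tensorMod
        ((Scheme.Modules.pullback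
          (pullback.fst (pullback.snd (T ↘ Spec (.of R)) (X ↘ Spec (.of R))) (pullback.fst (X ↘ Spec (.of R)) (Y ↘ Spec (.of R))))).obj F)
        ((Scheme.Modules.pullback
          (pullback.snd (pullback.snd (T ↘ Spec (.of R)) (X ↘ Spec (.of R))) (pullback.fst (X ↘ Spec (.of R)) (Y ↘ Spec (.of R))))).obj K))) := by
  have hx1 : QuasiCompact (X ↘ Spec (.of R)) := inferInstance
  have hx2 : QuasiSeparated (X ↘ Spec (.of R)) := ⟨inferInstance⟩
  have hq1 : QuasiCompact (pullback.snd (X ↘ Spec (.of R)) (Y ↘ Spec (.of R))) :=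
    MorphismProperty.of_isPullback (IsPullback.of_hasPullback _ _) hx1
  have hq2 : QuasiSeparated (pullback.snd (X ↘ Spec (.of R)) (Y ↘ Spec (.of R))) :=
    MorphismProperty.of_isPullback (IsPullback.of_hasPullback _ _) hx2
  have htr := K355.isPullback_triple (T ↘ Spec (.of R)) (X ↘ Spec (.of R)) (Y ↘ Spec (.of R)) pr₁₃
    h₁ h₂
  have hp1 : QuasiCompact pr₁₃ := MorphismProperty.of_isPullback htr hx1
  have hp2 : QuasiSeparated pr₁₃ := MorphismProperty.of_isPullback htr hx2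
  have hE := Groth.Agent.Ega1.TensorRestrict.isQCoh_tensorMod _ _ (K355.isQCoh_pull
    (pullback.fst (pullback.snd (T ↘ Spec (.of R)) (X ↘ Spec (.of R)))
      (pullback.fst (X ↘ Spec (.of R)) (Y ↘ Spec (.of R)))) F hF) (K355.isQCoh_pull
    (pullback.snd (pullback.snd (T ↘ Spec (.of R)) (X ↘ Spec (.of R)))
      (pullback.fst (X ↘ Spec (.of R)) (Y ↘ Spec (.of R)))) K hKq)
  refine (Groth.Agent.Ega3B.RpushAff.isZero_iff_cover pr₁₃ _ hE
    (fun i : T.affineOpens × Y.affineOpens =>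
      (pullback.fst (T ↘ Spec (.of R)) (Y ↘ Spec (.of R)) ⁻¹ᵁ i.1.1 ⊓
        pullback.snd (T ↘ Spec (.of R)) (Y ↘ Spec (.of R)) ⁻¹ᵁ i.2.1))
    (fun i => Groth.Agent.Ega3B.ProjFrame.isAffineOpen_fst_inf_snd _ _ i.1.2 i.2.2)
    (K355.iSup_products _ _) q).2 fun i => ?_
  have hA := K355.isAffineHom_part (T ↘ Spec (.of R)) (X ↘ Spec (.of R)) i.1
  obtain ⟨e⟩ := K355.nonempty_HHon (IsPullback.of_hasPullback
    (pullback.snd (T ↘ Spec (.of R)) (X ↘ Spec (.of R)))
      (pullback.fst (X ↘ Spec (.of R)) (Y ↘ Spec (.of R))))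
    (pullback.fst (T ↘ Spec (.of R)) (X ↘ Spec (.of R)) ⁻¹ᵁ i.1.1)
    (pullback.snd (X ↘ Spec (.of R)) (Y ↘ Spec (.of R)) ⁻¹ᵁ i.2.1) _
    (K355.preimage_triple (T ↘ Spec (.of R)) (X ↘ Spec (.of R)) (Y ↘ Spec (.of R)) pr₁₃ h₁ h₂
      i.1.1 i.2.1) F hF K hKq q
  refine e.toEquiv.subsingleton_congr.2 ?_
  have hF' := Groth.Agent.Ega1.QcqsPush.isQCoh_pushforward
    ((pullback.fst (T ↘ Spec (.of R)) (X ↘ Spec (.of R)) ⁻¹ᵁ i.1.1).ι ≫
      pullback.snd (T ↘ Spec (.of R)) (X ↘ Spec (.of R))) _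
    (K355.isQCoh_pull (pullback.fst (T ↘ Spec (.of R)) (X ↘ Spec (.of R)) ⁻¹ᵁ i.1.1).ι F hF)
  exact Groth.Agent.Ega3B.RpushAff.subsingleton_HHon_of_isZero
    (pullback.snd (X ↘ Spec (.of R)) (Y ↘ Spec (.of R))) _
    (Groth.Agent.Ega1.TensorRestrict.isQCoh_tensorMod _ _ (K355.isQCoh_pull _ _ hF') hKq)
    i.2.2 q (hKac _ hF' q hq)

end Groth.Agent.S6736
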