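import Groth.Statements.S6740
import Groth.Agent.DEquiv.K351.LocDualU

set_option autoImplicit false
universe u
open CategoryTheory AlgebraicGeometry
attribute [local instance] HasDerivedCategory.standard
open DEquiv

namespace Groth.Agent.S6740

/-- Let X be a scheme of finite type over a field k which is regular, x ∈ X a closed point with d = dim
O_{X,x}, and F, F' coherent O_X-modules supported at x whose stalks are Matlis dual: F'_x ≅ Hom(F_x,
E) over O_{X,x} for an injective hull E of the residue field κ(x). Then there are bijections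
Hom_X(F, M) ≅ H^0(X, M ⊗^L F'⟦-d⟧) = H^{-d}(X, M ⊗^L F'), natural in the perfect object M of D(O_X).
(The derived functors - ⊗^L F' and RΓ(X, -) are assumed to exist, as instance binders; existence of
a natural family of bijections is asserted.) -/
theorem result
    (k : Type u) [Field k] (X : Scheme.{u}) [X.Over (Spec (.of k))]
    [LocallyOfFiniteType (X ↘ Spec (.of k))] [CompactSpace X]
    (hreg : Models.IsRegularScheme X) (x : X) (hx : IsClosed ({x} : Set X))
    (d : ℕ) (hd : ringKrullDim (X.presheaf.stalk x) = d)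
    (E : Type u) [AddCommGroup E] [Module (X.presheaf.stalk x) E]
    (ι : IsLocalRing.ResidueField (X.presheaf.stalk x) →ₗ[(X.presheaf.stalk x)] E) (hι : InjHull.IsInjectiveHull ι)
    (F F' : X.Modules) (hF : Coh.IsCoh F) (hF' : Coh.IsCoh F')
    (hsF : CohB1.support F ⊆ {x}) (hsF' : CohB1.support F' ⊆ {x})
    (hdual : Nonempty ((F'.presheaf.stalk x) ≃ₗ[(X.presheaf.stalk x)] ((F.presheaf.stalk x) →ₗ[(X.presheaf.stalk x)] E)))
    [DCoh.HasLTensorMod F'] [DCoh.HasRΓ X] :
    ∃ e : ∀ M : DCoh.D X, DCoh.IsPerfect M →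
        ((DCoh.inD X F ⟶ M) ≃
          ((DerivedCategory.homologyFunctor AddCommGrpCat.{u} (-(d : ℤ))).obj
            ((DCoh.RΓ X).obj ((DCoh.LTensorMod F').obj M)))),
      ∀ (M M' : DCoh.D X) (hM : DCoh.IsPerfect M) (hM' : DCoh.IsPerfect M') (g : M ⟶ M')
        (φ : DCoh.inD X F ⟶ M),
        e M' hM' (φ ≫ g) =
          ((DerivedCategory.homologyFunctor AddCommGrpCat.{u} (-(d : ℤ))).map
            ((DCoh.RΓ X).map ((DCoh.LTensorMod F').map g))) (e M hM φ) := by
  have hN : IsLocallyNoetherian X :=
    LocallyOfFiniteType.isLocallyNoetherian (X ↘ Spec (CommRingCat.of k))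
  obtain ⟨hdual⟩ := hdual
  obtain ⟨eV⟩ := K351.LocDualT.nonempty_dual k X hreg x hx d hd E ι hι F F' hF hF' hsF hsF' hdual
  exact K351.LocDualU.main X F F' d (K351.LocDualU.isPerfect_inD X hreg F hF) eV

end Groth.Agent.S6740
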