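import Groth.Statements.S6743
import Groth.Agent.S6742
import Groth.Agent.DEquiv.K351.CritPn
import Groth.Agent.Dix.ProjProper

set_option autoImplicit false
universe u
open CategoryTheory AlgebraicGeometry
attribute [local instance] HasDerivedCategory.standard
open DEquiv

namespace Groth.Agent.S6743

/-- Let X be a scheme over a field k whose structure morphism is H-projective (X is a closed subscheme
of some P^n_k; over a field this is the same as projective) and let K be an object of D(O_X) with
quasi-coherent cohomology sheaves. Then K is bounded with coherent cohomology sheaves if and only if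
for every perfect object E of D(O_X) the k-vector spaces Ext^i_X(E, K) = Hom(E, K⟦i⟧) are
finite-dimensional for all i ∈ ℤ and nonzero for only finitely many i. -/
theorem result
    (k : Type u) [Field k] (X : Scheme.{u}) [X.Over (Spec (.of k))]
    (hproj : RelProj.IsHProjective (X ↘ Spec (.of k)))
    (K : DCoh.D X) (hK : DCoh.IsQCohD K) :
    SGA6.cohbP X K ↔
      ∀ E : DCoh.D X, DCoh.IsPerfect E →
        (∀ i : ℤ, Module.Finite k (E ⟶ (shiftFunctor (DCoh.D X) i).obj K)) ∧
        Set.Finite {i : ℤ | Nontrivial (E ⟶ (shiftFunctor (DCoh.D X) i).obj K)} := by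
  obtain ⟨n, i, hi, hi'⟩ := hproj
  have h1 : i.IsOver (Spec (CommRingCat.of k)) := ⟨hi'⟩
  have h2 : IsProper (X ↘ Spec (CommRingCat.of k)) := by
    rw [← hi']
    infer_instance
  constructor
  · intro h E hE
    exact S6742.result k X K h E hE
  · intro h
    exact K351.CritPn.cohb_of_closed n i K hK h

end Groth.Agent.S6743
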