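import Groth.Statements.S6748
import Groth.Agent.S6747
import Groth.Agent.DEquiv.K351.AdjPerf

set_option autoImplicit false
universe u
open CategoryTheory AlgebraicGeometry
attribute [local instance] HasDerivedCategory.standard
open DEquiv

namespace Groth.Agent.S6748

/-- Let X and Y be schemes proper over a field k with X regular (all local rings regular), and let F :
D_perf(O_X) ⥤ D_perf(O_Y) be a k-linear exact functor between the full subcategories of perfect
objects of D(O_X) and D(O_Y) (the instance hypotheses record that these are triangulated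
subcategories). Then F has a right adjoint and a left adjoint. (Both adjoints are then exact
functors of triangulated categories; that general fact is not restated.) -/
theorem result
    (k : Type u) [Field k] (X Y : Scheme.{u}) [X.Over (Spec (.of k))] [Y.Over (Spec (.of k))]
    [IsProper (X ↘ Spec (.of k))] [IsProper (Y ↘ Spec (.of k))] (hreg : Models.IsRegularScheme X)
    [(SGA6.perfP X).IsTriangulated] [(SGA6.perfP Y).IsTriangulated]
    (F : (SGA6.perfP X).FullSubcategory ⥤ (SGA6.perfP Y).FullSubcategory) [F.Additive] [F.Linear k]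
    [F.CommShift ℤ] [F.IsTriangulated] :
    F.IsLeftAdjoint ∧ F.IsRightAdjoint := by
  constructor
  · have h : ∀ K : (SGA6.perfP Y).FullSubcategory, ∃ (R : (SGA6.perfP X).FullSubcategory)
        (e : ∀ E : (SGA6.perfP X).FullSubcategory, (F.obj E ⟶ K) ≃ (E ⟶ R)),
        ∀ (E' E : (SGA6.perfP X).FullSubcategory) (f : E' ⟶ E) (g : F.obj E ⟶ K),
          e E' (F.map f ≫ g) = f ≫ e E g := by
      intro K
      obtain ⟨K', hK', ⟨a⟩⟩ := S6746.result k X hreg (K351.AdjPerf.yonF k F K)
        (K351.AdjPerf.yonF_lin F K) (K351.AdjPerf.yonF_cohom F K) (K351.AdjPerf.yonF_fin F K)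
      refine ⟨⟨K', hK'⟩, fun E => ((a.app (Opposite.op E)).toLinearEquiv.toEquiv).trans
        (K351.AdjPerf.homLin (k := k) E ⟨K', hK'⟩).symm.toEquiv, ?_⟩
      intro E' E f g
      ext
      exact ConcreteCategory.congr_hom (a.hom.naturality f.op) g
    choose R e he using h
    exact (Adjunction.adjunctionOfEquivRight (F := F) (G_obj := R) (fun E K => e K E)
      (fun E' E K f g => he K E' E f g)).isLeftAdjoint
  · have h : ∀ K : (SGA6.perfP Y).FullSubcategory, ∃ (L : (SGA6.perfP X).FullSubcategory)
        (e : ∀ E : (SGA6.perfP X).FullSubcategory, (L ⟶ E) ≃ (K ⟶ F.obj E)),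
        ∀ (E E' : (SGA6.perfP X).FullSubcategory) (g : E ⟶ E') (h : L ⟶ E),
          e E' (h ≫ g) = e E h ≫ F.map g := by
      intro K
      obtain ⟨L, ⟨a⟩⟩ := S6747.result k X hreg (K351.AdjPerf.coyonF k F K)
        (K351.AdjPerf.coyonF_fin F K)
      refine ⟨L, fun E => (a.app E).toLinearEquiv.symm.toEquiv, ?_⟩
      intro E E' g h
      exact ConcreteCategory.congr_hom (a.inv.naturality g) h
    choose L e he using h
    exact (Adjunction.adjunctionOfEquivLeft (G := F) (F_obj := L) (fun K E => e K E)
      (fun K E E' g h => he K E E' g h)).isRightAdjoint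

end Groth.Agent.S6748
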