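import Groth.Statements.S6749
import Groth.Agent.S6748
import Groth.Agent.S6703
import Groth.Agent.DEquiv.K352.Orth

set_option autoImplicit false
universe u
open CategoryTheory AlgebraicGeometry
attribute [local instance] HasDerivedCategory.standard
open DEquiv

namespace Groth.Agent.S6749

/-- Let X and Y be schemes proper over a field k with X regular (all local rings regular), and let F :
D_perf(O_X) ⥤ D_perf(O_Y) be a k-linear exact functor between the full subcategories of perfect
objects (the instance hypotheses record that these are triangulated subcategories). For a closed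
point x of X write O_x for the skyscraper sheaf at x with value κ(x), viewed in degree 0 of D(O_X);
it is perfect because X is regular, and the statement quantifies over a proof of this. Then F is
fully faithful if and only if for all closed points x, x' of X and all i ∈ ℤ the map Ext^i_X(O_x,
O_{x'}) = Hom(O_x, O_{x'}⟦i⟧) ⟶ Hom(F O_x, F(O_{x'}⟦i⟧)) given by F is bijective. -/
theorem result
    (k : Type u) [Field k] (X Y : Scheme.{u}) [X.Over (Spec (.of k))] [Y.Over (Spec (.of k))]
    [IsProper (X ↘ Spec (.of k))] [IsProper (Y ↘ Spec (.of k))] (hreg : Models.IsRegularScheme X)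
    [(SGA6.perfP X).IsTriangulated] [(SGA6.perfP Y).IsTriangulated]
    (F : (SGA6.perfP X).FullSubcategory ⥤ (SGA6.perfP Y).FullSubcategory) [F.Additive] [F.Linear k]
    [F.CommShift ℤ] [F.IsTriangulated] :
    (F.Full ∧ F.Faithful) ↔
      ∀ (x x' : X), IsClosed ({x} : Set X) → IsClosed ({x'} : Set X) →
        ∀ (hx : DCoh.IsPerfect (DCoh.inD X ((Coh.push (X.fromSpecResidueField x)).obj (Coh.structureModule _))))
          (hx' : DCoh.IsPerfect (DCoh.inD X ((Coh.push (X.fromSpecResidueField x')).obj (Coh.structureModule _)))) (i : ℤ),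
          Function.Bijective (fun f : (⟨DCoh.inD X ((Coh.push (X.fromSpecResidueField x)).obj (Coh.structureModule _)), hx⟩ : (SGA6.perfP X).FullSubcategory) ⟶
              (shiftFunctor ((SGA6.perfP X).FullSubcategory) i).obj ⟨DCoh.inD X ((Coh.push (X.fromSpecResidueField x')).obj (Coh.structureModule _)), hx'⟩ => F.map f) := by
  constructor
  · rintro ⟨_, _⟩ x x' hx hx' h1 h2 i
    exact ⟨F.map_injective, F.map_surjective⟩
  · intro h
    obtain ⟨_, _⟩ := Groth.Agent.S6748.result k X Y hreg F
    have hN : IsNoetherian X := K352.Sky.isNoetherian k X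
    let S : Set (SGA6.perfP X).FullSubcategory := {E | ∃ (x : X) (_ : IsClosed ({x} : Set X)) (hx : _),
      E = ⟨DCoh.inD X (K352.Sky.sky X x), hx⟩}
    refine Groth.Agent.S6703.result F S ?_ ?_ ?_
    · intro K hK
      refine (K352.Orth.isZero_iff _).1 (K352.Orth.isZero_of_orth₁ k X hreg K.obj K.property fun x hx => ?_)
      have hE := K352.Sky.isPerfect_inD hreg (K352.Sky.isCoh_sky x hx)
      exact K352.Orth.lift_zero (SGA6.perfP X) (E := ⟨DCoh.inD X (K352.Sky.sky X x), hE⟩) (K := K)
        (hK _ ⟨x, hx, hE, rfl⟩)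
    · intro K hK
      refine (K352.Orth.isZero_iff _).1 (K352.Orth.isZero_of_orth₂ k X hreg K.obj K.property fun x hx => ?_)
      have hE := K352.Sky.isPerfect_inD hreg (K352.Sky.isCoh_sky x hx)
      exact K352.Orth.lift_zero (SGA6.perfP X) (E := K) (K := ⟨DCoh.inD X (K352.Sky.sky X x), hE⟩)
        (hK _ ⟨x, hx, hE, rfl⟩)
    · rintro _ ⟨x, hx, hx1, rfl⟩ _ ⟨x', hx', hx2, rfl⟩ i
      exact h x x' hx hx' hx1 hx2 i

end Groth.Agent.S6749
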