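import Groth.Statements.S6750
import Groth.Agent.S6749
import Groth.Agent.S6742
import Groth.Agent.DEquiv.K352.ZD
import Groth.Agent.DEquiv.K352.HeartFF
import Groth.Agent.DEquiv.K352.Orth

set_option autoImplicit false
universe u
open CategoryTheory AlgebraicGeometry
attribute [local instance] HasDerivedCategory.standard
open DEquiv

namespace Groth.Agent.S6750

open K160.CohHeart K160.HeartAbs

section

variable {X : Scheme.{u}} [IsNoetherian X]

/-- Zero-dimensional coherent modules. -/
def T (M : CohX X) : Prop := K352.Sky.IsZD M.obj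

theorem T_sub {M N : CohX X} (f : M ⟶ N) (hf : Mono f) (hN : T N) : T M :=
  have : Mono f.hom := inferInstanceAs (Mono ((Groth.Agent.PerfA.CohSerre.cohp X).ι.map f))
  K352.Sky.IsZD.of_mono hN f.hom M.property

theorem T_quot {M N : CohX X} (f : M ⟶ N) (hf : Epi f) (hM : T M) : T N :=
  have : Epi f.hom := inferInstanceAs (Epi ((Groth.Agent.PerfA.CohSerre.cohp X).ι.map f))
  K352.Sky.IsZD.of_epi hM f.hom N.property

theorem T_ext {N N' : CohX X} (j : N ⟶ N') (hj : Mono j) (hN : T N) :
    ∃ (N'' : CohX X) (q : N' ⟶ N''), T N'' ∧ Mono (j ≫ q) := by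
  have : Mono j.hom := inferInstanceAs (Mono ((Groth.Agent.PerfA.CohSerre.cohp X).ι.map j))
  obtain ⟨N'', q, hq, h1, h2⟩ := K352.ZD.exists_quot j.hom hN N'.property
  let M : CohX X := ⟨N'', h1.isCoh⟩
  let q' : N' ⟶ M := ObjectProperty.homMk q
  refine ⟨M, q', h1, ?_⟩
  have h3 : Mono ((Groth.Agent.PerfA.CohSerre.cohp X).ι.map (j ≫ q')) := h2
  exact (Groth.Agent.PerfA.CohSerre.cohp X).ι.mono_of_mono_map h3

end

/-- Let X be a scheme proper over a field k which is regular (all local rings regular), and let F :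
D_perf(O_X) ⥤ D_perf(O_X) be a k-linear exact functor on the full subcategory of perfect objects
(the instance hypothesis records that it is a triangulated subcategory). Assume that for every
coherent O_X-module M whose support has dimension 0 (a nonempty finite set of closed points) there
is an isomorphism M ≅ F(M), where M is viewed in degree 0 (a perfect object since X is regular; the
statement quantifies over a proof of this). Then F is fully faithful. -/
theorem result
    (k : Type u) [Field k] (X : Scheme.{u}) [X.Over (Spec (.of k))] [IsProper (X ↘ Spec (.of k))]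
    (hreg : Models.IsRegularScheme X) [(SGA6.perfP X).IsTriangulated]
    (F : (SGA6.perfP X).FullSubcategory ⥤ (SGA6.perfP X).FullSubcategory) [F.Additive] [F.Linear k]
    [F.CommShift ℤ] [F.IsTriangulated]
    (h : ∀ (M : X.Modules), Coh.IsCoh M → (CohB1.support M).Finite → (CohB1.support M).Nonempty →
        (∀ x ∈ CohB1.support M, IsClosed ({x} : Set X)) →
        ∀ (hM : DCoh.IsPerfect (DCoh.inD X M)),
          Nonempty ((⟨DCoh.inD X M, hM⟩ : (SGA6.perfP X).FullSubcategory) ≅ F.obj ⟨DCoh.inD X M, hM⟩)) :
    F.Full ∧ F.Faithful := by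
  have hN : IsNoetherian X := K352.Sky.isNoetherian k X
  have hP := perf_iff X hreg
  have hd := K160.CohHeart.heartData hP
  refine (Groth.Agent.S6749.result k X X hreg F).2 fun x x' hx hx' h1 h2 i => ?_
  have hF : ∀ M : CohX X, T M → Nonempty ((inC hP).obj M ≅ F.obj ((inC hP).obj M)) := by
    intro M hM
    by_cases hne : (CohB1.support M.obj).Nonempty
    · exact h M.obj hM.isCoh hM.fin hne hM.closed ((inC hP).obj M).property
    · have h0 : Limits.IsZero M.obj := Groth.Agent.CohqB.DevSupport.isZero_of_support_eq_empty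
        (Set.not_nonempty_iff_eq_empty.1 hne)
      have h3 : Limits.IsZero ((inC hP).obj M) := by
        rw [← K352.Orth.isZero_iff]
        exact (DerivedCategory.singleFunctor X.Modules 0).map_isZero h0
      exact ⟨h3.iso (F.map_isZero h3)⟩
  have hfin : ∀ M N : CohX X, T M → T N → ∀ i : ℤ,
      Module.Finite k ((inC hP).obj M ⟶ (shiftFunctor (SGA6.perfP X).FullSubcategory i).obj ((inC hP).obj N)) := by
    intro M N hM hN i
    have h3 := (Groth.Agent.S6742.result k X ((inC hP).obj N).obj ((hP _).1 ((inC hP).obj N).property)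
      ((inC hP).obj M).obj ((inC hP).obj M).property).1 i
    let A := (inC hP).obj M
    let B := (inC hP).obj N
    let e1 : (A ⟶ (shiftFunctor (SGA6.perfP X).FullSubcategory i).obj B) ≃ₗ[k]
        (A.obj ⟶ ((shiftFunctor (SGA6.perfP X).FullSubcategory i).obj B).obj) :=
      LinearEquiv.ofBijective ((SGA6.perfP X).ι.mapLinearMap k)
        ⟨(SGA6.perfP X).ι.map_injective, (SGA6.perfP X).ι.map_surjective⟩
    let e2 : (A.obj ⟶ ((shiftFunctor (SGA6.perfP X).FullSubcategory i).obj B).obj) ≃ₗ[k]
        (A.obj ⟶ (shiftFunctor (DCoh.D X) i).obj B.obj) :=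
      Linear.homCongr k (Iso.refl _) (((SGA6.perfP X).ι.commShiftIso i).app B)
    exact Module.Finite.equiv (e1.trans e2).symm
  exact K352.HeartFF.bijective k hd F T T_sub T_quot T_ext hF hfin ⟨_, K352.Sky.isCoh_sky x hx⟩
    ⟨_, K352.Sky.isCoh_sky x' hx'⟩ (K352.Sky.isZD_sky x hx) (K352.Sky.isZD_sky x' hx') i

end Groth.Agent.S6750
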