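import Groth.Statements.S6751
import Groth.Agent.S6748
import Groth.Agent.DEquiv.K352.Orth
import Groth.Agent.DEquiv.K352.EssIm

set_option autoImplicit false
universe u
open CategoryTheory AlgebraicGeometry
attribute [local instance] HasDerivedCategory.standard
open DEquiv

namespace Groth.Agent.S6751

/-- Let X and Y be schemes proper over a field k with X regular (all local rings regular), and let F, G
: D_perf(O_X) ⥤ D_perf(O_Y) be k-linear exact functors between the full subcategories of perfect
objects (the instance hypotheses record that these are triangulated subcategories). Assume that F(M)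
≅ G(M) for every coherent O_X-module M whose support has dimension 0 (a nonempty finite set of
closed points; M viewed in degree 0, a perfect object since X is regular, the statement quantifying
over a proof of this), and suppose moreover that the functor F is both full and faithful. Under
these conditions, for each perfect object M on X the object G(M) is isomorphic to F applied to some
perfect object, i.e. everything G hits lies in F's essential image. -/
theorem result
    (k : Type u) [Field k] (X Y : Scheme.{u}) [X.Over (Spec (.of k))] [Y.Over (Spec (.of k))]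
    [IsProper (X ↘ Spec (.of k))] [IsProper (Y ↘ Spec (.of k))] (hreg : Models.IsRegularScheme X)
    [(SGA6.perfP X).IsTriangulated] [(SGA6.perfP Y).IsTriangulated]
    (F : (SGA6.perfP X).FullSubcategory ⥤ (SGA6.perfP Y).FullSubcategory) [F.Additive] [F.Linear k]
    [F.CommShift ℤ] [F.IsTriangulated]
    (G : (SGA6.perfP X).FullSubcategory ⥤ (SGA6.perfP Y).FullSubcategory) [G.Additive] [G.Linear k]
    [G.CommShift ℤ] [G.IsTriangulated]
    (h1 : ∀ (M : X.Modules), Coh.IsCoh M → (CohB1.support M).Finite → (CohB1.support M).Nonempty →
        (∀ x ∈ CohB1.support M, IsClosed ({x} : Set X)) →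
        ∀ (hM : DCoh.IsPerfect (DCoh.inD X M)),
          Nonempty (F.obj ⟨DCoh.inD X M, hM⟩ ≅ G.obj ⟨DCoh.inD X M, hM⟩))
    [F.Full] [F.Faithful] (M : (SGA6.perfP X).FullSubcategory) :
    F.essImage (G.obj M) := by
  obtain ⟨_, _⟩ := Groth.Agent.S6748.result k X Y hreg F
  obtain ⟨_, _⟩ := Groth.Agent.S6748.result k X Y hreg G
  have hN : IsNoetherian X := K352.Sky.isNoetherian k X
  let S : Set (SGA6.perfP X).FullSubcategory := {E | ∃ (x : X) (_ : IsClosed ({x} : Set X)) (hx : _),
    E = ⟨DCoh.inD X (K352.Sky.sky X x), hx⟩}
  refine K352.EssIm.essImage F G S (fun K hK => ?_) ?_ M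
  · refine (K352.Orth.isZero_iff _).1 (K352.Orth.isZero_of_orth₁ k X hreg K.obj K.property fun x hx => ?_)
    have hE := K352.Sky.isPerfect_inD hreg (K352.Sky.isCoh_sky x hx)
    exact K352.Orth.lift_zero (SGA6.perfP X) (E := ⟨DCoh.inD X (K352.Sky.sky X x), hE⟩) (K := K)
      (hK _ ⟨x, hx, hE, rfl⟩)
  · rintro _ ⟨x, hx, hx1, rfl⟩
    have hz := K352.Sky.isZD_sky x hx
    exact h1 _ hz.isCoh hz.fin (K352.Sky.support_sky_nonempty x hx) hz.closed hx1

end Groth.Agent.S6751
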