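import Groth.Statements.S6753
import Groth.Agent.FunMor.K350.CohAsm2
import Groth.Agent.FunMor.K350.SuppGeo

set_option autoImplicit false
universe u
open CategoryTheory AlgebraicGeometry
attribute [local instance] HasDerivedCategory.standard
open FunMor

namespace Groth.Agent.S6753

/-- Let X and Y be schemes of finite type over a field k with X separated over k, and let F : Coh(O_X) ⥤
Coh(O_Y) be a k-linear exact functor between the full subcategories of coherent modules. Then there
is a coherent O_{X ×_k Y}-module K, flat over X and whose support is closed and finite over Y (with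
its reduced structure), such that F is isomorphic to the restriction to coherent modules of the
functor M ↦ pr_{2,*}(pr_1^* M ⊗ K): an isomorphism of functors Coh(O_X) ⥤ Mod(O_Y) between F
followed by the inclusion and the inclusion followed by pullback along pr_1, tensoring with K and
pushforward along pr_2. (The published statement is an equivalence between the category of such
functors and the category of such K; this row states that every such functor arises from some K.) -/
theorem result
    (k : Type u) [Field k] (X Y : Scheme.{u}) [X.Over (Spec (.of k))] [Y.Over (Spec (.of k))]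
    [LocallyOfFiniteType (X ↘ Spec (.of k))] [CompactSpace X] [IsSeparated (X ↘ Spec (.of k))]
    [LocallyOfFiniteType (Y ↘ Spec (.of k))] [CompactSpace Y]
    (F : (ObjectProperty.FullSubcategory fun M : X.Modules => Coh.IsCoh M) ⥤ (ObjectProperty.FullSubcategory fun M : Y.Modules => Coh.IsCoh M)) [F.Additive] [F.Linear k]
    [Limits.PreservesFiniteLimits F] [Limits.PreservesFiniteColimits F] :
    ∃ (K : (Limits.pullback (X ↘ Spec (.of k)) (Y ↘ Spec (.of k))).Modules), Coh.IsCoh K ∧ FlatMod.IsFlatOver (Limits.pullback.fst (X ↘ Spec (.of k)) (Y ↘ Spec (.of k))) K ∧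
      (∃ hZ : IsClosed (CohB1.support K),
        IsFinite ((Scheme.IdealSheafData.vanishingIdeal ⟨CohB1.support K, hZ⟩).subschemeι ≫ (Limits.pullback.snd (X ↘ Spec (.of k)) (Y ↘ Spec (.of k))))) ∧
      Nonempty (F ⋙ ObjectProperty.ι (fun M : Y.Modules => Coh.IsCoh M) ≅
        ObjectProperty.ι (fun M : X.Modules => Coh.IsCoh M) ⋙ Scheme.Modules.pullback (Limits.pullback.fst (X ↘ Spec (.of k)) (Y ↘ Spec (.of k))) ⋙
          DCoh.tensorRightMod K ⋙ Coh.push (Limits.pullback.snd (X ↘ Spec (.of k)) (Y ↘ Spec (.of k)))) := by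
  have hXN : IsNoetherian X := Groth.Agent.LoccohB.AdStruct.isNoetherian_of_finiteType (X ↘ Spec (.of k))
  have hYN : IsNoetherian Y := Groth.Agent.LoccohB.AdStruct.isNoetherian_of_finiteType (Y ↘ Spec (.of k))
  have hinj := Groth.Agent.Dcoh.DerSch.hasInjectiveResolutions
    (Limits.pullback (X ↘ Spec (.of k)) (Y ↘ Spec (.of k)))
  have sq := IsPullback.of_hasPullback (X ↘ Spec (.of k)) (Y ↘ Spec (.of k))
  obtain ⟨K, F', i1, i2, i3, i4, s, ⟨e⟩, hK, hfl, hv⟩ := K350.Ker.exists_coh_kernel k sq F
  have hPN : IsNoetherian (Limits.pullback (X ↘ Spec (.of k)) (Y ↘ Spec (.of k))) :=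
    Groth.Agent.LoccohB.AdStruct.isNoetherian_of_finiteType
      (Limits.pullback.snd (X ↘ Spec (.of k)) (Y ↘ Spec (.of k)) ≫ (Y ↘ Spec (.of k)))
  have hcoh : Coh.IsCoh K := K350.Ker.isCoh_kernel sq F F' s e hK
  have hsupp : ∃ hZ : IsClosed (CohB1.support K),
        IsFinite ((Scheme.IdealSheafData.vanishingIdeal ⟨CohB1.support K, hZ⟩).subschemeι ≫ (Limits.pullback.snd (X ↘ Spec (.of k)) (Y ↘ Spec (.of k)))) := by
    have hJ : JacobsonSpace Y := LocallyOfFiniteType.jacobsonSpace (Y ↘ Spec (.of k))
    have hpush := K350.Ker.isCoh_push F F' s e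
    refine K350.SuppFin.exists_isFinite _ K hcoh (fun y hy => K350.SuppFin.finite_fibre sq hcoh hpush
      (fun i _ p' g h => K350.Ker.exists_epi F' s hK i h) y hy) hpush fun n hn => ?_
    obtain ⟨m, rfl⟩ := Nat.exists_eq_succ_of_ne_zero hn.ne'
    exact (hv m (K350.WattsQ.OQ X)).of_iso ((Coh.Rpush _ (m + 1)).mapIso (K350.Ker.vIso _ K).symm)
  exact ⟨K, hcoh, hfl, hsupp, K350.Ker.nonempty_coh_iso F F' s e⟩

end Groth.Agent.S6753
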