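import Groth.Statements.S6754
import Groth.Agent.S6753
import Groth.Agent.DEquiv.K352.SibAsm
import Groth.Agent.DEquiv.K352.SibPush

set_option autoImplicit false
universe u
open CategoryTheory AlgebraicGeometry
attribute [local instance] HasDerivedCategory.standard
open DEquiv

namespace Groth.Agent.S6754

/-- Let X and Y be schemes of finite type over a field k with X separated over k, and let F :
D^b_Coh(O_X) ⥤ D^b_Coh(O_Y) be a k-linear exact functor between the full subcategories of bounded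
objects with coherent cohomology sheaves (the instance hypotheses record that these are triangulated
subcategories) which sends every coherent O_X-module placed in degree 0 to an object isomorphic to a
coherent O_Y-module placed in degree 0. The derived functors Lpr_1^*, - ⊗^L K (for every module K on
X ×_k Y) and Rpr_{2,*} are assumed to exist (instance binders). Then there is a coherent O_{X ×_k
Y}-module K, flat over X and with support closed and finite over Y (with its reduced structure),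
such that F and the Fourier-Mukai functor Φ_K = Rpr_{2,*}(Lpr_1^*(-) ⊗^L K) are siblings: there is
an isomorphism F(M) ≅ Φ_K(M) natural in the coherent O_X-module M placed in degree 0, and F(L) ≅
Φ_K(L) for every object L of D^b_Coh(O_X). -/
theorem result
    (k : Type u) [Field k] (X Y : Scheme.{u}) [X.Over (Spec (.of k))] [Y.Over (Spec (.of k))]
    [LocallyOfFiniteType (X ↘ Spec (.of k))] [CompactSpace X] [IsSeparated (X ↘ Spec (.of k))]
    [LocallyOfFiniteType (Y ↘ Spec (.of k))] [CompactSpace Y]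
    [(SGA6.cohbP X).IsTriangulated] [(SGA6.cohbP Y).IsTriangulated]
    (F : (SGA6.cohbP X).FullSubcategory ⥤ (SGA6.cohbP Y).FullSubcategory) [F.Additive] [F.Linear k] [F.CommShift ℤ] [F.IsTriangulated]
    (hF : ∀ (M : X.Modules), Coh.IsCoh M → ∀ (hM : SGA6.cohbP X (DCoh.inD X M)),
      ∃ N : Y.Modules, Coh.IsCoh N ∧ Nonempty ((F.obj ⟨DCoh.inD X M, hM⟩).obj ≅ DCoh.inD Y N))
    [DCoh.HasLpull (Limits.pullback.fst (X ↘ Spec (.of k)) (Y ↘ Spec (.of k)))] [DCoh.HasRpush (Limits.pullback.snd (X ↘ Spec (.of k)) (Y ↘ Spec (.of k)))] [∀ K : (Limits.pullback (X ↘ Spec (.of k)) (Y ↘ Spec (.of k))).Modules, DCoh.HasLTensorMod K] :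
    ∃ (K : (Limits.pullback (X ↘ Spec (.of k)) (Y ↘ Spec (.of k))).Modules), Coh.IsCoh K ∧ FlatMod.IsFlatOver (Limits.pullback.fst (X ↘ Spec (.of k)) (Y ↘ Spec (.of k))) K ∧
      (∃ hZ : IsClosed (CohB1.support K),
        IsFinite ((Scheme.IdealSheafData.vanishingIdeal ⟨CohB1.support K, hZ⟩).subschemeι ≫ (Limits.pullback.snd (X ↘ Spec (.of k)) (Y ↘ Spec (.of k))))) ∧
      (∃ e : ∀ (M : X.Modules), Coh.IsCoh M → ∀ (hM : SGA6.cohbP X (DCoh.inD X M)),
          (F.obj ⟨DCoh.inD X M, hM⟩).obj ≅ (DCoh.Lpull (Limits.pullback.fst (X ↘ Spec (.of k)) (Y ↘ Spec (.of k))) ⋙ DCoh.LTensorMod K ⋙ DCoh.Rpush (Limits.pullback.snd (X ↘ Spec (.of k)) (Y ↘ Spec (.of k)))).obj (DCoh.inD X M),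
        ∀ (M N : X.Modules) (hcM : Coh.IsCoh M) (hcN : Coh.IsCoh N)
          (hM : SGA6.cohbP X (DCoh.inD X M)) (hN : SGA6.cohbP X (DCoh.inD X N)) (φ : M ⟶ N),
          (F.map (ObjectProperty.homMk ((DerivedCategory.singleFunctor X.Modules 0).map φ) :
              (⟨DCoh.inD X M, hM⟩ : (SGA6.cohbP X).FullSubcategory) ⟶ ⟨DCoh.inD X N, hN⟩)).hom ≫ (e N hcN hN).hom =
            (e M hcM hM).hom ≫ (DCoh.Lpull (Limits.pullback.fst (X ↘ Spec (.of k)) (Y ↘ Spec (.of k))) ⋙ DCoh.LTensorMod K ⋙ DCoh.Rpush (Limits.pullback.snd (X ↘ Spec (.of k)) (Y ↘ Spec (.of k)))).map ((DerivedCategory.singleFunctor X.Modules 0).map φ)) ∧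
      (∀ L : (SGA6.cohbP X).FullSubcategory, Nonempty ((F.obj L).obj ≅ (DCoh.Lpull (Limits.pullback.fst (X ↘ Spec (.of k)) (Y ↘ Spec (.of k))) ⋙ DCoh.LTensorMod K ⋙ DCoh.Rpush (Limits.pullback.snd (X ↘ Spec (.of k)) (Y ↘ Spec (.of k)))).obj L.obj)) := by
  have := K352.SibAsm.isNoetherian k X
  obtain ⟨K, ⟨h1, h2, h3⟩, h4, h5⟩ := K352.SibAsm.main k X Y F hF
    (Limits.pullback.fst (X ↘ Spec (.of k)) (Y ↘ Spec (.of k))) (Limits.pullback.snd (X ↘ Spec (.of k)) (Y ↘ Spec (.of k)))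
    (fun K => Coh.IsCoh K ∧ FlatMod.IsFlatOver (Limits.pullback.fst (X ↘ Spec (.of k)) (Y ↘ Spec (.of k))) K ∧
      (∃ hZ : IsClosed (CohB1.support K),
        IsFinite ((Scheme.IdealSheafData.vanishingIdeal ⟨CohB1.support K, hZ⟩).subschemeι ≫
          (Limits.pullback.snd (X ↘ Spec (.of k)) (Y ↘ Spec (.of k))))))
    (fun G _ _ _ _ => by
      obtain ⟨K, a, b, c, d⟩ := Groth.Agent.S6753.result k X Y G
      exact ⟨K, ⟨a, b, c⟩, d⟩)
    (fun K hK => K352.SibPush.nonempty_iso _ _ K hK.1 hK.2.1 hK.2.2)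
  exact ⟨K, h1, h2, h3, h4, h5⟩

end Groth.Agent.S6754
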