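import Groth.Statements.S6760
import Groth.Agent.DEquiv.K160.Sib6760
import Groth.Agent.S6750
import Groth.Agent.S6751
import Groth.Agent.S6752

set_option autoImplicit false
universe u
open CategoryTheory AlgebraicGeometry
attribute [local instance] HasDerivedCategory.standard
open DEquiv

namespace Groth.Agent.S6760

/-- Let X and Y be schemes proper over a field k with X regular (all local rings regular), and let F, G
: D_perf(O_X) ⥤ D_perf(O_Y) be k-linear exact functors between the full subcategories of perfect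
objects (the instance hypotheses record that these are triangulated subcategories). The derived
functors Lpr_1^*, - ⊗^L K (for every complex K of modules on X ×_k Y) and Rpr_{2,*} are assumed to
exist (instance binders). Assume: F(M) ≅ G(M) for every coherent O_X-module M whose support has
dimension 0 (a nonempty finite set of closed points; M in degree 0, perfect since X is regular, the
statement quantifying over a proof of this); F is fully faithful; and G followed by the inclusion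
into D(O_Y) is isomorphic to the restriction of a Fourier-Mukai functor Φ_{K₀} =
Rpr_{2,*}(Lpr_1^*(-) ⊗^L K₀) with K₀ perfect. Then there is a complex K defining a perfect object of
D(O_{X ×_k Y}) such that F and Φ_K are siblings: F(M) ≅ Φ_K(M) naturally in the coherent O_X-module
M placed in degree 0, and F(L) ≅ Φ_K(L) for every perfect L. -/
theorem result
    (k : Type u) [Field k] (X Y : Scheme.{u}) [X.Over (Spec (.of k))] [Y.Over (Spec (.of k))]
    [IsProper (X ↘ Spec (.of k))] [IsProper (Y ↘ Spec (.of k))] (hreg : Models.IsRegularScheme X)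
    [(SGA6.perfP X).IsTriangulated] [(SGA6.perfP Y).IsTriangulated]
    (F : (SGA6.perfP X).FullSubcategory ⥤ (SGA6.perfP Y).FullSubcategory) [F.Additive] [F.Linear k]
    [F.CommShift ℤ] [F.IsTriangulated]
    (G : (SGA6.perfP X).FullSubcategory ⥤ (SGA6.perfP Y).FullSubcategory) [G.Additive] [G.Linear k]
    [G.CommShift ℤ] [G.IsTriangulated]
    [DCoh.HasLpull (Limits.pullback.fst (X ↘ Spec (.of k)) (Y ↘ Spec (.of k)))] [DCoh.HasRpush (Limits.pullback.snd (X ↘ Spec (.of k)) (Y ↘ Spec (.of k)))]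
    [∀ K : CochainComplex (Limits.pullback (X ↘ Spec (.of k)) (Y ↘ Spec (.of k))).Modules ℤ, DCoh.HasLTensorCx K]
    (h1 : ∀ (M : X.Modules), Coh.IsCoh M → (CohB1.support M).Finite → (CohB1.support M).Nonempty →
        (∀ x ∈ CohB1.support M, IsClosed ({x} : Set X)) →
        ∀ (hM : DCoh.IsPerfect (DCoh.inD X M)),
          Nonempty (F.obj ⟨DCoh.inD X M, hM⟩ ≅ G.obj ⟨DCoh.inD X M, hM⟩))
    [F.Full] [F.Faithful]
    (K₀ : CochainComplex (Limits.pullback (X ↘ Spec (.of k)) (Y ↘ Spec (.of k))).Modules ℤ) (hK₀ : DCoh.IsPerfect (DCoh.toD _ K₀))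
    (h3 : Nonempty (G ⋙ ObjectProperty.ι (SGA6.perfP Y) ≅ ObjectProperty.ι (SGA6.perfP X) ⋙ (DCoh.Lpull (Limits.pullback.fst (X ↘ Spec (.of k)) (Y ↘ Spec (.of k))) ⋙ DCoh.LTensorCx K₀ ⋙ DCoh.Rpush (Limits.pullback.snd (X ↘ Spec (.of k)) (Y ↘ Spec (.of k)))))) :
    ∃ (K : CochainComplex (Limits.pullback (X ↘ Spec (.of k)) (Y ↘ Spec (.of k))).Modules ℤ), DCoh.IsPerfect (DCoh.toD _ K) ∧
      (∃ e : ∀ (M : X.Modules), Coh.IsCoh M → ∀ (hM : SGA6.perfP X (DCoh.inD X M)),
          (F.obj ⟨DCoh.inD X M, hM⟩).obj ≅ (DCoh.Lpull (Limits.pullback.fst (X ↘ Spec (.of k)) (Y ↘ Spec (.of k))) ⋙ DCoh.LTensorCx K ⋙ DCoh.Rpush (Limits.pullback.snd (X ↘ Spec (.of k)) (Y ↘ Spec (.of k)))).obj (DCoh.inD X M),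
        ∀ (M N : X.Modules) (hcM : Coh.IsCoh M) (hcN : Coh.IsCoh N)
          (hM : SGA6.perfP X (DCoh.inD X M)) (hN : SGA6.perfP X (DCoh.inD X N)) (φ : M ⟶ N),
          (F.map (ObjectProperty.homMk ((DerivedCategory.singleFunctor X.Modules 0).map φ) :
              (⟨DCoh.inD X M, hM⟩ : (SGA6.perfP X).FullSubcategory) ⟶ ⟨DCoh.inD X N, hN⟩)).hom ≫ (e N hcN hN).hom =
            (e M hcM hM).hom ≫ (DCoh.Lpull (Limits.pullback.fst (X ↘ Spec (.of k)) (Y ↘ Spec (.of k))) ⋙ DCoh.LTensorCx K ⋙ DCoh.Rpush (Limits.pullback.snd (X ↘ Spec (.of k)) (Y ↘ Spec (.of k)))).map ((DerivedCategory.singleFunctor X.Modules 0).map φ)) ∧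
      (∀ L : (SGA6.perfP X).FullSubcategory, Nonempty ((F.obj L).obj ≅ (DCoh.Lpull (Limits.pullback.fst (X ↘ Spec (.of k)) (Y ↘ Spec (.of k))) ⋙ DCoh.LTensorCx K ⋙ DCoh.Rpush (Limits.pullback.snd (X ↘ Spec (.of k)) (Y ↘ Spec (.of k)))).obj L.obj)) := by
  have hN : IsNoetherian X := K160.SerreGor.isNoetherian k X
  -- `G = F ∘ H`
  obtain ⟨H, i1, i2, i3, i4, ⟨eH⟩⟩ := K160.LiftFF.exists_lift k G F
    (fun M => Groth.Agent.S6751.result k X Y hreg F G h1 M)
  have hHT : ∀ (M : X.Modules), Coh.IsCoh M → (CohB1.support M).Finite → (CohB1.support M).Nonempty →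
      (∀ x ∈ CohB1.support M, IsClosed ({x} : Set X)) → ∀ (hM : DCoh.IsPerfect (DCoh.inD X M)),
      Nonempty ((⟨DCoh.inD X M, hM⟩ : (SGA6.perfP X).FullSubcategory) ≅ H.obj ⟨DCoh.inD X M, hM⟩) := by
    intro M a b c d hM
    obtain ⟨e⟩ := h1 M a b c d hM
    exact ⟨F.preimageIso (e ≪≫ (eH.app _).symm)⟩
  obtain ⟨j1, j2⟩ := Groth.Agent.S6750.result k X hreg H hHT
  have g1 : G.Full := Functor.Full.of_iso eH
  have g2 : G.Faithful := Functor.Faithful.of_iso eH
  -- `F = G ∘ H'`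
  obtain ⟨H', i1', i2', i3', i4', ⟨eH'⟩⟩ := K160.LiftFF.exists_lift k F G
    (fun M => Groth.Agent.S6751.result k X Y hreg G F
      (fun M a b c d hM => ⟨(h1 M a b c d hM).some.symm⟩) M)
  obtain ⟨f, hf1, hf2, L, hL, e, he⟩ := Groth.Agent.S6752.result k X hreg H' (by
    intro M a b c d hM
    obtain ⟨e⟩ := h1 M a b c d hM
    exact ⟨G.preimageIso (e.symm ≪≫ (eH'.app _).symm)⟩)
  -- the kernel
  let p := Limits.pullback.fst (X ↘ Spec (.of k)) (Y ↘ Spec (.of k))
  let q := Limits.pullback.snd (X ↘ Spec (.of k)) (Y ↘ Spec (.of k))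
  let g : Limits.pullback (X ↘ Spec (.of k)) (Y ↘ Spec (.of k)) ⟶
      Limits.pullback (X ↘ Spec (.of k)) (Y ↘ Spec (.of k)) :=
    Limits.pullback.map _ _ _ _ f.hom (𝟙 Y) (𝟙 _) (by rw [hf1, Category.comp_id])
      (by rw [Category.comp_id, Category.id_comp])
  have hg : IsIso g := inferInstance
  have hgp : g ≫ p = p ≫ f.hom := Limits.pullback.lift_fst _ _ _
  have hgq : g ≫ q = q := (Limits.pullback.lift_snd _ _ _).trans (Category.comp_id _)
  obtain ⟨K, hK, t, ht⟩ := K160.Sib6760.exists_kernel f.hom p q g hgp hgq L hL K₀ hK₀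
  obtain ⟨s⟩ := h3
  let τ : K160.SibSch.Nat (P := SGA6.perfP X) (F ⋙ (SGA6.perfP Y).ι) (K160.Sib6760.Phi p q K) :=
    { e := fun M hc hM => ((SGA6.perfP Y).ι.mapIso (eH'.app ⟨DCoh.inD X M, hM⟩)).symm ≪≫
        s.app (H'.obj ⟨DCoh.inD X M, hM⟩) ≪≫ (K160.Sib6760.Phi p q K₀).mapIso (e M hc hM) ≪≫ t M hc.1
      nat := fun M N hcM hcN hM hN φ => by
        let φ' : (⟨DCoh.inD X M, hM⟩ : (SGA6.perfP X).FullSubcategory) ⟶ ⟨DCoh.inD X N, hN⟩ :=
          ObjectProperty.homMk ((DerivedCategory.singleFunctor X.Modules 0).map φ)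
        have n1 : (F.map φ').hom ≫ (eH'.inv.app ⟨DCoh.inD X N, hN⟩).hom =
            (eH'.inv.app ⟨DCoh.inD X M, hM⟩).hom ≫ (G.map (H'.map φ')).hom :=
          congrArg (fun z => z.hom) (eH'.inv.naturality φ')
        have n2 : (G.map (H'.map φ')).hom ≫ s.hom.app (H'.obj ⟨DCoh.inD X N, hN⟩) =
            s.hom.app (H'.obj ⟨DCoh.inD X M, hM⟩) ≫ (K160.Sib6760.Phi p q K₀).map (H'.map φ').hom :=
          s.hom.naturality (H'.map φ')
        have n3 := congrArg (fun z => (K160.Sib6760.Phi p q K₀).map z) (he M N hcM hcN hM hN φ)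
        rw [Functor.map_comp, Functor.map_comp] at n3
        have n4 := ht M N hcM.1 hcN.1 φ
        change (F.map φ').hom ≫ (eH'.inv.app ⟨DCoh.inD X N, hN⟩).hom ≫
          s.hom.app (H'.obj ⟨DCoh.inD X N, hN⟩) ≫ (K160.Sib6760.Phi p q K₀).map (e N hcN hN).hom ≫ (t N hcN.1).hom =
          ((eH'.inv.app ⟨DCoh.inD X M, hM⟩).hom ≫
          s.hom.app (H'.obj ⟨DCoh.inD X M, hM⟩) ≫ (K160.Sib6760.Phi p q K₀).map (e M hcM hM).hom ≫
            (t M hcM.1).hom) ≫ (K160.Sib6760.Phi p q K).map ((DerivedCategory.singleFunctor X.Modules 0).map φ)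
        exact K160.Sib6760.chase n1 n2 n3 n4 }
  refine ⟨K, hK, ⟨fun M hc hM => τ.e M hc hM, fun M N hcM hcN hM hN φ => τ.nat M N hcM hcN hM hN φ⟩, fun L => ?_⟩
  exact K160.SibSch.objIso (K160.CohHeart.perf_iff X hreg) ((K242.QCohKit.isTriang_Lpull p).comp
    ((K242.QCohKit.isTriang_LTensorCx K).comp (K242.QCohKit.isTriang_Rpush q))) τ L

end Groth.Agent.S6760
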