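import Groth.Statements.S6755
import Groth.Agent.DEquiv.K160.KerG
import Groth.Agent.S6760

set_option autoImplicit false
universe u
open CategoryTheory AlgebraicGeometry
attribute [local instance] HasDerivedCategory.standard
open DEquiv

namespace Groth.Agent.S6755

/-- Let X and Y be schemes smooth and proper over a field k and let F : D_perf(O_X) ⥤ D_perf(O_Y) be a
k-linear exact functor between the full subcategories of perfect objects (the instance hypotheses
record that these are triangulated subcategories) which is fully faithful. The derived functors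
Lpr_1^*, - ⊗^L K (for every complex K of modules on X ×_k Y) and Rpr_{2,*} are assumed to exist
(instance binders). Then there is a complex K of O_{X ×_k Y}-modules defining a perfect object of
D(O_{X ×_k Y}) such that F and the Fourier-Mukai functor Φ_K = Rpr_{2,*}(Lpr_1^*(-) ⊗^L K) are
siblings: there is an isomorphism F(M) ≅ Φ_K(M) natural in the coherent O_X-module M placed in
degree 0 (such M are perfect as X is regular; the statement quantifies over a proof of this), and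
F(L) ≅ Φ_K(L) for every perfect L. -/
theorem result
    (k : Type u) [Field k] (X Y : Scheme.{u}) [X.Over (Spec (.of k))] [Y.Over (Spec (.of k))]
    [IsProper (X ↘ Spec (.of k))] [Smooth (X ↘ Spec (.of k))] [IsProper (Y ↘ Spec (.of k))] [Smooth (Y ↘ Spec (.of k))]
    [(SGA6.perfP X).IsTriangulated] [(SGA6.perfP Y).IsTriangulated]
    (F : (SGA6.perfP X).FullSubcategory ⥤ (SGA6.perfP Y).FullSubcategory) [F.Additive] [F.Linear k]
    [F.CommShift ℤ] [F.IsTriangulated] [F.Full] [F.Faithful]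
    [DCoh.HasLpull (Limits.pullback.fst (X ↘ Spec (.of k)) (Y ↘ Spec (.of k)))] [DCoh.HasRpush (Limits.pullback.snd (X ↘ Spec (.of k)) (Y ↘ Spec (.of k)))]
    [∀ K : CochainComplex (Limits.pullback (X ↘ Spec (.of k)) (Y ↘ Spec (.of k))).Modules ℤ, DCoh.HasLTensorCx K] :
    ∃ (K : CochainComplex (Limits.pullback (X ↘ Spec (.of k)) (Y ↘ Spec (.of k))).Modules ℤ), DCoh.IsPerfect (DCoh.toD _ K) ∧
      (∃ e : ∀ (M : X.Modules), Coh.IsCoh M → ∀ (hM : SGA6.perfP X (DCoh.inD X M)),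
          (F.obj ⟨DCoh.inD X M, hM⟩).obj ≅ (DCoh.Lpull (Limits.pullback.fst (X ↘ Spec (.of k)) (Y ↘ Spec (.of k))) ⋙ DCoh.LTensorCx K ⋙ DCoh.Rpush (Limits.pullback.snd (X ↘ Spec (.of k)) (Y ↘ Spec (.of k)))).obj (DCoh.inD X M),
        ∀ (M N : X.Modules) (hcM : Coh.IsCoh M) (hcN : Coh.IsCoh N)
          (hM : SGA6.perfP X (DCoh.inD X M)) (hN : SGA6.perfP X (DCoh.inD X N)) (φ : M ⟶ N),
          (F.map (ObjectProperty.homMk ((DerivedCategory.singleFunctor X.Modules 0).map φ) :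
              (⟨DCoh.inD X M, hM⟩ : (SGA6.perfP X).FullSubcategory) ⟶ ⟨DCoh.inD X N, hN⟩)).hom ≫ (e N hcN hN).hom =
            (e M hcM hM).hom ≫ (DCoh.Lpull (Limits.pullback.fst (X ↘ Spec (.of k)) (Y ↘ Spec (.of k))) ⋙ DCoh.LTensorCx K ⋙ DCoh.Rpush (Limits.pullback.snd (X ↘ Spec (.of k)) (Y ↘ Spec (.of k)))).map ((DerivedCategory.singleFunctor X.Modules 0).map φ)) ∧
      (∀ L : (SGA6.perfP X).FullSubcategory, Nonempty ((F.obj L).obj ≅ (DCoh.Lpull (Limits.pullback.fst (X ↘ Spec (.of k)) (Y ↘ Spec (.of k))) ⋙ DCoh.LTensorCx K ⋙ DCoh.Rpush (Limits.pullback.snd (X ↘ Spec (.of k)) (Y ↘ Spec (.of k)))).obj L.obj)) := by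
  have hcX : CompactSpace X := QuasiCompact.compactSpace_of_compactSpace (X ↘ Spec (.of k))
  have hreg : Models.IsRegularScheme X := K357.DiagEnv.isRegular k X (X ↘ Spec (.of k))
  obtain ⟨K, hK, hiso⟩ := K160.KerF.kernel k X Y F
  obtain ⟨G, i1, i2, i3, i4, ⟨eG⟩⟩ := K160.KerG.exists_G k X Y K hK
  let K₀ := DerivedCategory.Q.objPreimage K
  let eK : DCoh.toD _ K₀ ≅ K := DerivedCategory.Q.objObjPreimageIso K
  obtain ⟨e1⟩ := K353.Conv.fm_cx (Limits.pullback.fst (X ↘ Spec (.of k)) (Y ↘ Spec (.of k)))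
    (Limits.pullback.snd (X ↘ Spec (.of k)) (Y ↘ Spec (.of k))) K₀
  obtain ⟨e2⟩ := K353.Conv.fm_congr (Limits.pullback.fst (X ↘ Spec (.of k)) (Y ↘ Spec (.of k)))
    (Limits.pullback.snd (X ↘ Spec (.of k)) (Y ↘ Spec (.of k))) eK
  refine Groth.Agent.S6760.result k X Y hreg F G (fun M hM _ _ hcl hMp => ?_) K₀
    (Groth.Agent.PerfA.PerfLocal.isPerfect_of_iso eK.symm hK)
    ⟨eG ≪≫ Functor.isoWhiskerLeft _ (e2.symm ≪≫ e1.symm)⟩
  obtain ⟨j⟩ := hiso M hM hcl hMp
  obtain ⟨c⟩ := K353.Calc.braid ((DCoh.Lpull (Limits.pullback.fst (X ↘ Spec (.of k)) (Y ↘ Spec (.of k)))).obj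
    (DCoh.inD X M))
  exact ⟨(SGA6.perfP Y).isoMk (j.symm ≪≫ (DCoh.Rpush _).mapIso (c.app K) ≪≫ (eG.app ⟨DCoh.inD X M, hMp⟩).symm)⟩

end Groth.Agent.S6755
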