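import Groth.Statements.S6761
import Groth.Agent.DEquiv.K160.Sib6760
import Groth.Agent.S1535
import Groth.Agent.S6755

set_option autoImplicit false
universe u
open CategoryTheory AlgebraicGeometry
attribute [local instance] HasDerivedCategory.standard
open DEquiv

namespace Groth.Agent.S6761

/-- Let X and Y be schemes smooth and proper over a field k and let F : D_perf(O_X) ⥤ D_perf(O_Y) be a
k-linear exact functor between the full subcategories of perfect objects (the instance hypotheses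
record that these are triangulated subcategories) which is an equivalence of categories. The derived
functors Lpr_1^*, - ⊗^L K (for every complex K of modules on X ×_k Y) and Rpr_{2,*} are assumed to
exist (instance binders). Then there is a complex K defining a perfect object of D(O_{X ×_k Y}) such
that the Fourier-Mukai functor Φ_K = Rpr_{2,*}(Lpr_1^*(-) ⊗^L K) is a sibling of F — F(M) ≅ Φ_K(M)
naturally in the coherent O_X-module M placed in degree 0 (perfect as X is regular; the statement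
quantifies over a proof of this) and F(L) ≅ Φ_K(L) for every perfect L — and Φ_K induces an
equivalence on perfect objects: it is bijective on morphisms between perfect objects of D(O_X) and
every perfect object of D(O_Y) is isomorphic to Φ_K(L) for some perfect L. -/
theorem result
    (k : Type u) [Field k] (X Y : Scheme.{u}) [X.Over (Spec (.of k))] [Y.Over (Spec (.of k))]
    [IsProper (X ↘ Spec (.of k))] [Smooth (X ↘ Spec (.of k))] [IsProper (Y ↘ Spec (.of k))] [Smooth (Y ↘ Spec (.of k))]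
    [(SGA6.perfP X).IsTriangulated] [(SGA6.perfP Y).IsTriangulated]
    (F : (SGA6.perfP X).FullSubcategory ⥤ (SGA6.perfP Y).FullSubcategory) [F.Additive] [F.Linear k]
    [F.CommShift ℤ] [F.IsTriangulated] [F.IsEquivalence]
    [DCoh.HasLpull (Limits.pullback.fst (X ↘ Spec (.of k)) (Y ↘ Spec (.of k)))] [DCoh.HasRpush (Limits.pullback.snd (X ↘ Spec (.of k)) (Y ↘ Spec (.of k)))]
    [∀ K : CochainComplex (Limits.pullback (X ↘ Spec (.of k)) (Y ↘ Spec (.of k))).Modules ℤ, DCoh.HasLTensorCx K] :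
    ∃ (K : CochainComplex (Limits.pullback (X ↘ Spec (.of k)) (Y ↘ Spec (.of k))).Modules ℤ), DCoh.IsPerfect (DCoh.toD _ K) ∧
      (∃ e : ∀ (M : X.Modules), Coh.IsCoh M → ∀ (hM : SGA6.perfP X (DCoh.inD X M)),
          (F.obj ⟨DCoh.inD X M, hM⟩).obj ≅ (DCoh.Lpull (Limits.pullback.fst (X ↘ Spec (.of k)) (Y ↘ Spec (.of k))) ⋙ DCoh.LTensorCx K ⋙ DCoh.Rpush (Limits.pullback.snd (X ↘ Spec (.of k)) (Y ↘ Spec (.of k)))).obj (DCoh.inD X M),
        ∀ (M N : X.Modules) (hcM : Coh.IsCoh M) (hcN : Coh.IsCoh N)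
          (hM : SGA6.perfP X (DCoh.inD X M)) (hN : SGA6.perfP X (DCoh.inD X N)) (φ : M ⟶ N),
          (F.map (ObjectProperty.homMk ((DerivedCategory.singleFunctor X.Modules 0).map φ) :
              (⟨DCoh.inD X M, hM⟩ : (SGA6.perfP X).FullSubcategory) ⟶ ⟨DCoh.inD X N, hN⟩)).hom ≫ (e N hcN hN).hom =
            (e M hcM hM).hom ≫ (DCoh.Lpull (Limits.pullback.fst (X ↘ Spec (.of k)) (Y ↘ Spec (.of k))) ⋙ DCoh.LTensorCx K ⋙ DCoh.Rpush (Limits.pullback.snd (X ↘ Spec (.of k)) (Y ↘ Spec (.of k)))).map ((DerivedCategory.singleFunctor X.Modules 0).map φ)) ∧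
      (∀ L : (SGA6.perfP X).FullSubcategory, Nonempty ((F.obj L).obj ≅ (DCoh.Lpull (Limits.pullback.fst (X ↘ Spec (.of k)) (Y ↘ Spec (.of k))) ⋙ DCoh.LTensorCx K ⋙ DCoh.Rpush (Limits.pullback.snd (X ↘ Spec (.of k)) (Y ↘ Spec (.of k)))).obj L.obj)) ∧
      (∀ A B : (SGA6.perfP X).FullSubcategory, Function.Bijective (fun g : A.obj ⟶ B.obj => (DCoh.Lpull (Limits.pullback.fst (X ↘ Spec (.of k)) (Y ↘ Spec (.of k))) ⋙ DCoh.LTensorCx K ⋙ DCoh.Rpush (Limits.pullback.snd (X ↘ Spec (.of k)) (Y ↘ Spec (.of k)))).map g)) ∧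
      (∀ C : (SGA6.perfP Y).FullSubcategory, ∃ A : (SGA6.perfP X).FullSubcategory, Nonempty ((DCoh.Lpull (Limits.pullback.fst (X ↘ Spec (.of k)) (Y ↘ Spec (.of k))) ⋙ DCoh.LTensorCx K ⋙ DCoh.Rpush (Limits.pullback.snd (X ↘ Spec (.of k)) (Y ↘ Spec (.of k)))).obj A.obj ≅ C.obj)) := by
  have hN : IsNoetherian X := K160.SerreGor.isNoetherian k X
  have hreg : Models.IsRegularScheme X := fun x => Groth.Agent.S1535.result k X x
  let p := Limits.pullback.fst (X ↘ Spec (.of k)) (Y ↘ Spec (.of k))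
  let q := Limits.pullback.snd (X ↘ Spec (.of k)) (Y ↘ Spec (.of k))
  obtain ⟨K, hK, ⟨e, he⟩, hobj⟩ := Groth.Agent.S6755.result k X Y F
  have hΦ : Groth.Agent.PerfC.IsoLocus.IsTriang (K160.Sib6760.Phi p q K) := (K242.QCohKit.isTriang_Lpull p).comp
    ((K242.QCohKit.isTriang_LTensorCx K).comp (K242.QCohKit.isTriang_Rpush q))
  let τ : K160.SibSch.Nat (P := SGA6.perfP X) (F ⋙ (SGA6.perfP Y).ι) (K160.Sib6760.Phi p q K) := ⟨e, he⟩
  obtain ⟨h1, h2⟩ := K160.SibSch.ff (K160.CohHeart.perf_iff X hreg) hΦ τ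
  refine ⟨K, hK, ⟨e, he⟩, hobj, fun A B => ⟨fun g g' hg => ?_, fun g => ?_⟩, fun C => ?_⟩
  · have h3 : (ObjectProperty.homMk g : A ⟶ B) = ObjectProperty.homMk g' :=
      ((SGA6.perfP X).ι ⋙ K160.Sib6760.Phi p q K).map_injective hg
    exact congrArg (fun z => z.hom) h3
  · obtain ⟨g', hg'⟩ := ((SGA6.perfP X).ι ⋙ K160.Sib6760.Phi p q K).map_surjective (X := A) (Y := B) g
    exact ⟨g'.hom, hg'⟩
  · obtain ⟨A, ⟨i⟩⟩ : ∃ A, Nonempty (F.obj A ≅ C) := ⟨_, ⟨F.objObjPreimageIso C⟩⟩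
    obtain ⟨j⟩ := hobj A
    exact ⟨A, ⟨j.symm ≪≫ (SGA6.perfP Y).ι.mapIso i⟩⟩

end Groth.Agent.S6761
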