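import Groth.Statements.S6756
import Groth.Agent.DEquiv.K358.CntMain
import Groth.Agent.DEquiv.K358.KerEq
import Groth.Agent.S6759
import Groth.Agent.S6761
import Groth.Agent.S13557

set_option autoImplicit false
universe u
open CategoryTheory AlgebraicGeometry
attribute [local instance] HasDerivedCategory.standard
open DEquiv

namespace Groth.Agent.S6756

attribute [local instance] Groth.Agent.Dcoh.DerPull.hasLpull Groth.Agent.Dcoh.DerSch.hasRpush

attribute [local instance] Groth.Agent.Dcoh.ModTens.hasLTensorCx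

open K358.RelE K358.KerEq K358.CntMain in
theorem hLim : HLim.{u} := by
  intro I _ _ D c hc _ _ _ i₀ X₀ Y₀ a₀ b₀ _ _ _ _ h
  obtain ⟨K, hK⟩ := exists_kernel_of_re _ _ h
  obtain ⟨i, v, Ki, hKi⟩ := Groth.Agent.S13557.result D c hc i₀ a₀ b₀ K hK
  exact ⟨i, v, re_of_kernel _ _ Ki hKi⟩

open K358.RelE K358.KerEq K358.CntMain in
theorem diagKer (K : Type u) [Field K] : DiagKer.{u} K := by
  intro X a _ _ N hN h
  let _ : X.Over (Spec (.of K)) := ⟨a⟩
  have h1 : IsProper (X ↘ Spec (.of K)) := ‹IsProper a›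
  have h2 : Smooth (X ↘ Spec (.of K)) := ‹Smooth a›
  exact @Groth.Agent.S6759.result K _ X _ h1 h2 N hN (Groth.Agent.Dcoh.DerPull.hasLpull _)
    (Groth.Agent.Dcoh.ModTens.hasLTensorCx N) (Groth.Agent.Dcoh.DerSch.hasRpush _) h

/-- A countable nonempty family can be indexed by the natural numbers. -/
theorem exists_seq {J : Type u} [Countable J] (S : Scheme.{u}) (F : J → Scheme.{u}) (q : ∀ j, F j ⟶ S) :
    ∃ (Yseq : ℕ → Scheme.{u}) (p : ∀ n, Yseq n ⟶ S), ∀ j, ∃ (n : ℕ) (e : F j ≅ Yseq n), e.hom ≫ p n = q j := by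
  obtain ⟨f, hf⟩ := exists_injective_nat J
  classical
  let P : ℕ → Over S := fun n => if h : ∃ j, f j = n then Over.mk (q h.choose) else Over.mk (𝟙 S)
  have hP : ∀ j, P (f j) = Over.mk (q j) := fun j => by
    have h : ∃ j', f j' = f j := ⟨j, rfl⟩
    have h2 : h.choose = j := hf h.choose_spec
    simp only [P, dif_pos h]
    rw [h2]
  refine ⟨fun n => (P n).left, fun n => (P n).hom, fun j => ⟨f j, ?_⟩⟩
  obtain ⟨e⟩ : Nonempty (Over.mk (q j) ≅ P (f j)) := ⟨eqToIso (hP j).symm⟩
  exact ⟨(Over.forget S).mapIso e, Over.w e.hom⟩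

/-- Let K be an algebraically closed field and X a scheme smooth and proper over K. Then there are at
most countably many isomorphism classes of schemes Y smooth and proper over K which are derived
equivalent to X, i.e. admit a K-linear exact equivalence D_perf(O_X) ⥤ D_perf(O_Y) between the full
subcategories of perfect objects (the instance hypotheses record that these are triangulated
subcategories): there is a sequence Y_0, Y_1, Y_2, … of schemes over K such that every such Y is
isomorphic over K to some Y_n. -/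
theorem result
    (K : Type u) [Field K] [IsAlgClosed K] (X : Scheme.{u}) [X.Over (Spec (.of K))]
    [IsProper (X ↘ Spec (.of K))] [Smooth (X ↘ Spec (.of K))] [(SGA6.perfP X).IsTriangulated] :
    ∃ (Yseq : ℕ → Scheme.{u}) (p : ∀ n, Yseq n ⟶ Spec (.of K)),
      ∀ (Y : Scheme.{u}) [Y.Over (Spec (.of K))] [IsProper (Y ↘ Spec (.of K))] [Smooth (Y ↘ Spec (.of K))]
        [(SGA6.perfP Y).IsTriangulated]
        (e : (SGA6.perfP X).FullSubcategory ≌ (SGA6.perfP Y).FullSubcategory)
        [e.functor.Additive] [e.functor.Linear K] [e.functor.CommShift ℤ] [e.functor.IsTriangulated],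
        ∃ (n : ℕ) (f : Y ≅ Yseq n), f.hom ≫ p n = Y ↘ Spec (.of K) := by
  obtain ⟨J, hJ, F, q, hF⟩ := K358.CntMain.main hLim.{u} K (X ↘ Spec (.of K))
  obtain ⟨Yseq, p, hp⟩ := exists_seq (Spec (.of K)) F q
  refine ⟨Yseq, p, fun Y _ _ _ _ e _ _ _ _ => ?_⟩
  obtain ⟨N, hN, -, -, hbij, hsurj⟩ := Groth.Agent.S6761.result K X Y e.functor
  obtain ⟨j, e₁, he₁⟩ := hF Y (Y ↘ Spec (.of K)) (K358.KerEq.re_of_fm (diagKer K) _ _ N hN hbij hsurj)
  obtain ⟨n, e₂, he₂⟩ := hp j
  exact ⟨n, e₁ ≪≫ e₂, by rw [Iso.trans_hom, Category.assoc, he₂, he₁]⟩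

end Groth.Agent.S6756
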