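import Groth.Statements.S6757
import Groth.Agent.FunMor.K350.KerLin
import Groth.Agent.FunMor.K350.KerExact

set_option autoImplicit false
universe u
open CategoryTheory AlgebraicGeometry
attribute [local instance] HasDerivedCategory.standard
open FunMor

namespace Groth.Agent.S6757

/-- Let R be a ring and X, Y schemes over R with X quasi-compact with affine diagonal, and let F :
QCoh(O_X) ⥤ QCoh(O_Y) be an R-linear exact functor which commutes with arbitrary direct sums. Then
there is a quasi-coherent O_{X ×_R Y}-module K which is flat over X and satisfies R^q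
pr_{2,*}(pr_1^* M ⊗ K) = 0 for every quasi-coherent O_X-module M and every q > 0 (higher direct
images as right derived functors; the existence of injective resolutions, true for module categories
of schemes, is carried as a binder), such that F is isomorphic to the functor M ↦ pr_{2,*}(pr_1^* M
⊗ K): an isomorphism of functors QCoh(O_X) ⥤ Mod(O_Y) between F followed by the inclusion and the
inclusion followed by pullback along pr_1, tensoring with K and pushforward along pr_2. (The
published statement is an equivalence of categories between such functors and such K; this row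
states that every such functor arises from some such K.) -/
theorem result
    (R : Type u) [CommRing R] (X Y : Scheme.{u}) [X.Over (Spec (.of R))] [Y.Over (Spec (.of R))] [CompactSpace X] [IsAffineHom (Limits.pullback.diagonal (X ↘ Spec (.of R)))]
    [HasInjectiveResolutions (Limits.pullback (X ↘ Spec (.of R)) (Y ↘ Spec (.of R))).Modules]
    (F : QCohCat.QCoh X ⥤ QCohCat.QCoh Y) [F.Additive] [F.Linear R]
    [Limits.PreservesFiniteLimits F] [Limits.PreservesFiniteColimits F]
    [∀ J : Type u, Limits.PreservesColimitsOfShape (Discrete J) F] :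
    ∃ (K : (Limits.pullback (X ↘ Spec (.of R)) (Y ↘ Spec (.of R))).Modules), Coh.IsQCoh K ∧ FlatMod.IsFlatOver (Limits.pullback.fst (X ↘ Spec (.of R)) (Y ↘ Spec (.of R))) K ∧
      (∀ (M : X.Modules), Coh.IsQCoh M → ∀ q : ℕ, 0 < q →
        Limits.IsZero ((Coh.Rpush (Limits.pullback.snd (X ↘ Spec (.of R)) (Y ↘ Spec (.of R))) q).obj
          ((DCoh.tensorRightMod K).obj ((Scheme.Modules.pullback (Limits.pullback.fst (X ↘ Spec (.of R)) (Y ↘ Spec (.of R)))).obj M)))) ∧
      Nonempty (F ⋙ ObjectProperty.ι (QCohCat.isQCoh Y) ≅ (ObjectProperty.ι (QCohCat.isQCoh X) ⋙ Scheme.Modules.pullback (Limits.pullback.fst (X ↘ Spec (.of R)) (Y ↘ Spec (.of R))) ⋙ DCoh.tensorRightMod K ⋙ Coh.push (Limits.pullback.snd (X ↘ Spec (.of R)) (Y ↘ Spec (.of R))))) := by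
  have hU : ∀ U : X.affineOpens, IsAffineHom U.1.ι := fun U =>
    haveI : IsAffine U.1.toScheme := U.2
    K350.Ker.isAffineHom_of_diag (X ↘ Spec (.of R)) U.1.ι
  have sq := IsPullback.of_hasPullback (X ↘ Spec (.of R)) (Y ↘ Spec (.of R))
  obtain ⟨K, hK, s, hs⟩ := K350.Ker.exists_kernel sq F (K350.Ker.rlin_of_linear R F)
  have hs' : ∀ (U : X.affineOpens) (L : QCohCat.QCoh U.1.toScheme),
      IsIso (s.app ((Groth.Agent.Models2.QCohPush.pushQ U.1.ι).obj L)) := fun U L =>
    haveI : IsAffine U.1.toScheme := U.2
    hs U.1.ι L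
  have hfl := K350.Ker.isFlatOver_kernel sq F hK s hs'
  have hiso := K350.Ker.isIso_kernel F hfl s hs'
  have hqc : QuasiCompact (X ↘ Spec (.of R)) := inferInstance
  have hqs : QuasiSeparated (X ↘ Spec (.of R)) := ⟨inferInstance⟩
  refine ⟨K, hK, hfl, fun M hM n hn => ?_, ⟨@asIso _ _ _ _ s hiso⟩⟩
  obtain ⟨m, rfl⟩ : ∃ m, n = m + 1 := ⟨n - 1, by omega⟩
  exact K350.Ker.isZero_Rpush_FM sq F hK hfl s m ⟨M, hM⟩

end Groth.Agent.S6757
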