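import Groth.Statements.S6764
import Groth.Agent.FunMor.K293.FMComp

set_option autoImplicit false
universe u
open CategoryTheory AlgebraicGeometry
attribute [local instance] HasDerivedCategory.standard
open FunMor

namespace Groth.Agent.S6764

/-- Fix a ring R and R-schemes X, Y, Z, where X and Y are quasi-compact and have affine diagonal.
Suppose the functors F from QCoh(O_X) to QCoh(O_Y) and G from QCoh(O_Y) to QCoh(O_Z) are exact,
R-linear, and preserve arbitrary direct sums, and let K on X ×_R Y and L on Y ×_R Z be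
quasi-coherent kernels for them: K is flat over X, L is flat over Y, the higher direct images R^n
pr_{2,*}(pr_1^* M ⊗ K) and R^n pr_{2,*}(pr_1^* N ⊗ L) vanish for n > 0 and M, N quasi-coherent
(right derived functors; injective resolutions carried as binders), and F ≅ pr_{2,*}(pr_1^*(-) ⊗ K),
G ≅ pr_{2,*}(pr_1^*(-) ⊗ L) as functors to O-modules. Realise X ×_R Y ×_R Z as (X ×_R Y) ×_Y (Y ×_R
Z) with projections pr_{12}, pr_{23} and let pr_{13} be its morphism to X ×_R Z determined by the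
two components. Then G ∘ F is isomorphic, as a functor QCoh(O_X) ⥤ Mod(O_Z), to M ↦ pr_{2,*}(pr_1^*
M ⊗ E) with E = pr_{13,*}(pr_{12}^* K ⊗ pr_{23}^* L). -/
theorem result
    (R : Type u) [CommRing R] (X Y Z : Scheme.{u}) [X.Over (Spec (.of R))] [Y.Over (Spec (.of R))] [Z.Over (Spec (.of R))]
    [CompactSpace X] [IsAffineHom (Limits.pullback.diagonal (X ↘ Spec (.of R)))]
    [CompactSpace Y] [IsAffineHom (Limits.pullback.diagonal (Y ↘ Spec (.of R)))]
    [HasInjectiveResolutions (Limits.pullback (X ↘ Spec (.of R)) (Y ↘ Spec (.of R))).Modules] [HasInjectiveResolutions (Limits.pullback (Y ↘ Spec (.of R)) (Z ↘ Spec (.of R))).Modules]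
    (F : QCohCat.QCoh X ⥤ QCohCat.QCoh Y) [F.Additive] [F.Linear R]
    [Limits.PreservesFiniteLimits F] [Limits.PreservesFiniteColimits F]
    [∀ J : Type u, Limits.PreservesColimitsOfShape (Discrete J) F]
    (G : QCohCat.QCoh Y ⥤ QCohCat.QCoh Z) [G.Additive] [G.Linear R]
    [Limits.PreservesFiniteLimits G] [Limits.PreservesFiniteColimits G]
    [∀ J : Type u, Limits.PreservesColimitsOfShape (Discrete J) G]
    (K : (Limits.pullback (X ↘ Spec (.of R)) (Y ↘ Spec (.of R))).Modules) (hK : Coh.IsQCoh K) (hKf : FlatMod.IsFlatOver (Limits.pullback.fst (X ↘ Spec (.of R)) (Y ↘ Spec (.of R))) K)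
    (hKa : (∀ (M : X.Modules), Coh.IsQCoh M → ∀ n : ℕ, 0 < n →
      Limits.IsZero ((Coh.Rpush (Limits.pullback.snd (X ↘ Spec (.of R)) (Y ↘ Spec (.of R))) n).obj ((DCoh.tensorRightMod K).obj ((Scheme.Modules.pullback (Limits.pullback.fst (X ↘ Spec (.of R)) (Y ↘ Spec (.of R)))).obj M)))))
    (hFK : Nonempty (F ⋙ ObjectProperty.ι (QCohCat.isQCoh Y) ≅ ObjectProperty.ι (QCohCat.isQCoh X) ⋙ (Scheme.Modules.pullback (Limits.pullback.fst (X ↘ Spec (.of R)) (Y ↘ Spec (.of R))) ⋙ DCoh.tensorRightMod K ⋙ Coh.push (Limits.pullback.snd (X ↘ Spec (.of R)) (Y ↘ Spec (.of R))))))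
    (L : (Limits.pullback (Y ↘ Spec (.of R)) (Z ↘ Spec (.of R))).Modules) (hL : Coh.IsQCoh L) (hLf : FlatMod.IsFlatOver (Limits.pullback.fst (Y ↘ Spec (.of R)) (Z ↘ Spec (.of R))) L)
    (hLa : (∀ (M : Y.Modules), Coh.IsQCoh M → ∀ n : ℕ, 0 < n →
      Limits.IsZero ((Coh.Rpush (Limits.pullback.snd (Y ↘ Spec (.of R)) (Z ↘ Spec (.of R))) n).obj ((DCoh.tensorRightMod L).obj ((Scheme.Modules.pullback (Limits.pullback.fst (Y ↘ Spec (.of R)) (Z ↘ Spec (.of R)))).obj M)))))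
    (hGL : Nonempty (G ⋙ ObjectProperty.ι (QCohCat.isQCoh Z) ≅ ObjectProperty.ι (QCohCat.isQCoh Y) ⋙ (Scheme.Modules.pullback (Limits.pullback.fst (Y ↘ Spec (.of R)) (Z ↘ Spec (.of R))) ⋙ DCoh.tensorRightMod L ⋙ Coh.push (Limits.pullback.snd (Y ↘ Spec (.of R)) (Z ↘ Spec (.of R))))))
    (pr₁₃ : (Limits.pullback (Limits.pullback.snd (X ↘ Spec (.of R)) (Y ↘ Spec (.of R))) (Limits.pullback.fst (Y ↘ Spec (.of R)) (Z ↘ Spec (.of R)))) ⟶ (Limits.pullback (X ↘ Spec (.of R)) (Z ↘ Spec (.of R))))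
    (h₁ : pr₁₃ ≫ (Limits.pullback.fst (X ↘ Spec (.of R)) (Z ↘ Spec (.of R))) = (Limits.pullback.fst (Limits.pullback.snd (X ↘ Spec (.of R)) (Y ↘ Spec (.of R))) (Limits.pullback.fst (Y ↘ Spec (.of R)) (Z ↘ Spec (.of R)))) ≫ (Limits.pullback.fst (X ↘ Spec (.of R)) (Y ↘ Spec (.of R))))
    (h₂ : pr₁₃ ≫ (Limits.pullback.snd (X ↘ Spec (.of R)) (Z ↘ Spec (.of R))) = (Limits.pullback.snd (Limits.pullback.snd (X ↘ Spec (.of R)) (Y ↘ Spec (.of R))) (Limits.pullback.fst (Y ↘ Spec (.of R)) (Z ↘ Spec (.of R)))) ≫ (Limits.pullback.snd (Y ↘ Spec (.of R)) (Z ↘ Spec (.of R)))) :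
    Nonempty ((F ⋙ G) ⋙ ObjectProperty.ι (QCohCat.isQCoh Z) ≅
      ObjectProperty.ι (QCohCat.isQCoh X) ⋙
        (Scheme.Modules.pullback (Limits.pullback.fst (X ↘ Spec (.of R)) (Z ↘ Spec (.of R))) ⋙ DCoh.tensorRightMod ((Coh.push pr₁₃).obj (CohB1.tensorMod ((Scheme.Modules.pullback (Limits.pullback.fst (Limits.pullback.snd (X ↘ Spec (.of R)) (Y ↘ Spec (.of R))) (Limits.pullback.fst (Y ↘ Spec (.of R)) (Z ↘ Spec (.of R))))).obj K) ((Scheme.Modules.pullback (Limits.pullback.snd (Limits.pullback.snd (X ↘ Spec (.of R)) (Y ↘ Spec (.of R))) (Limits.pullback.fst (Y ↘ Spec (.of R)) (Z ↘ Spec (.of R))))).obj L))) ⋙ Coh.push (Limits.pullback.snd (X ↘ Spec (.of R)) (Z ↘ Spec (.of R))))) := by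
  have : QuasiSeparated (X ↘ Spec (.of R)) := ⟨inferInstance⟩
  have : QuasiCompact (X ↘ Spec (.of R)) := inferInstance
  have : QuasiSeparated (Y ↘ Spec (.of R)) := ⟨inferInstance⟩
  have : QuasiCompact (Y ↘ Spec (.of R)) := inferInstance
  obtain ⟨eF⟩ := hFK
  obtain ⟨eG⟩ := hGL
  obtain ⟨e⟩ := K293.FMComp.nonempty_comp (X ↘ Spec (.of R)) (Y ↘ Spec (.of R))
    (Z ↘ Spec (.of R)) K hK L hL hLf (fun M hM n hn => hLa M hM n hn) pr₁₃ h₁ h₂
  exact ⟨Functor.isoWhiskerLeft F eG ≪≫ Functor.isoWhiskerRight eF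
    (K355.FM (Limits.pullback.fst (Y ↘ Spec (.of R)) (Z ↘ Spec (.of R)))
      (Limits.pullback.snd (Y ↘ Spec (.of R)) (Z ↘ Spec (.of R))) L) ≪≫ e⟩

end Groth.Agent.S6764
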