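import Groth.Statements.S6766
import Groth.Agent.FunMor.K350.KerLin

set_option autoImplicit false
universe u
open CategoryTheory AlgebraicGeometry
attribute [local instance] HasDerivedCategory.standard
open FunMor

namespace Groth.Agent.S6766

/-- Let R be a ring and X, Y schemes over R with X quasi-compact with affine diagonal. Suppose that F :
QCoh(O_X) ⥤ QCoh(O_Y) is a functor that is R-linear and right exact and that preserves direct sums
of any size. One can then find a quasi-coherent O_{X ×_R Y}-module K and a natural transformation t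
from F (followed by the inclusion into O_Y-modules) to the functor F_K : M ↦ pr_{2,*}(pr_1^* M ⊗ K)
such that t is an isomorphism at f_* M' whenever f : X' ⟶ X is a morphism out of an affine scheme X'
and M' is any quasi-coherent O_{X'}-module (f is then affine, so f_* M' is quasi-coherent; the
statement quantifies over a proof of this). -/
theorem result
    (R : Type u) [CommRing R] (X Y : Scheme.{u}) [X.Over (Spec (.of R))] [Y.Over (Spec (.of R))] [CompactSpace X] [IsAffineHom (Limits.pullback.diagonal (X ↘ Spec (.of R)))]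
    (F : QCohCat.QCoh X ⥤ QCohCat.QCoh Y) [F.Additive] [F.Linear R]
    [Limits.PreservesFiniteColimits F] [∀ J : Type u, Limits.PreservesColimitsOfShape (Discrete J) F] :
    ∃ (K : (Limits.pullback (X ↘ Spec (.of R)) (Y ↘ Spec (.of R))).Modules) (_ : Coh.IsQCoh K)
      (t : F ⋙ ObjectProperty.ι (QCohCat.isQCoh Y) ⟶ (ObjectProperty.ι (QCohCat.isQCoh X) ⋙ Scheme.Modules.pullback (Limits.pullback.fst (X ↘ Spec (.of R)) (Y ↘ Spec (.of R))) ⋙ DCoh.tensorRightMod K ⋙ Coh.push (Limits.pullback.snd (X ↘ Spec (.of R)) (Y ↘ Spec (.of R))))),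
      ∀ (X' : Scheme.{u}) [IsAffine X'] (f : X' ⟶ X) (M' : X'.Modules), Coh.IsQCoh M' →
        ∀ (hM : QCohCat.isQCoh X ((Coh.push f).obj M')),
          IsIso (t.app ⟨(Coh.push f).obj M', hM⟩) := by
  have hU : ∀ U : X.affineOpens, IsAffineHom U.1.ι := fun U =>
    haveI : IsAffine U.1.toScheme := U.2
    K350.Ker.isAffineHom_of_diag (X ↘ Spec (.of R)) U.1.ι
  obtain ⟨K, hK, s, hs⟩ := K350.Ker.exists_kernel (IsPullback.of_hasPullback (X ↘ Spec (.of R)) (Y ↘ Spec (.of R)))
    F (K350.Ker.rlin_of_linear R F)
  refine ⟨K, hK, s, fun X' _ f M' hM' hM => ?_⟩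
  have hf := K350.Ker.isAffineHom_of_diag (X ↘ Spec (.of R)) f
  exact hs f ⟨M', hM'⟩

end Groth.Agent.S6766
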