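import Groth.Statements.S6767
import Groth.Agent.FunMor.K355.DiagEpi
import Groth.Agent.S6736
import Groth.Agent.S0485
-- import your own Groth.Agent.* helpers here

set_option autoImplicit false
universe u
open CategoryTheory AlgebraicGeometry
attribute [local instance] HasDerivedCategory.standard
open FunMor

namespace Groth.Agent.S6767

/-- Let R be a ring and X, Y schemes over R with X quasi-compact, separated and flat over R. Let K be a
quasi-coherent O_{X ×_R Y}-module which is flat over X and such that R^q pr_{2,*}(pr_1^* M ⊗ K) = 0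
for every quasi-coherent O_X-module M and every q > 0 (right derived functors of pr_{2,*}; the
existence of injective resolutions is carried as a binder) — that is, K is the kernel of the exact
functor M ↦ pr_{2,*}(pr_1^* M ⊗ K). Then there is an epimorphism O_X ⊠ F(O_X) = pr_1^* O_X ⊗ pr_2^*
(pr_{2,*} K) ⟶ K of O_{X ×_R Y}-modules (existence of such an epimorphism; pr_{2,*}(pr_1^* O_X ⊗ K)
is written as pr_{2,*} K). -/
theorem result
    (R : Type u) [CommRing R] (X Y : Scheme.{u}) [X.Over (Spec (.of R))] [Y.Over (Spec (.of R))] [CompactSpace X] [IsSeparated (X ↘ Spec (.of R))] [Flat (X ↘ Spec (.of R))]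
    [HasInjectiveResolutions (Limits.pullback (X ↘ Spec (.of R)) (Y ↘ Spec (.of R))).Modules]
    (K : (Limits.pullback (X ↘ Spec (.of R)) (Y ↘ Spec (.of R))).Modules) (hK : Coh.IsQCoh K) (hKf : FlatMod.IsFlatOver (Limits.pullback.fst (X ↘ Spec (.of R)) (Y ↘ Spec (.of R))) K)
    (hKa : ∀ (M : X.Modules), Coh.IsQCoh M → ∀ q : ℕ, 0 < q →
      Limits.IsZero ((Coh.Rpush (Limits.pullback.snd (X ↘ Spec (.of R)) (Y ↘ Spec (.of R))) q).obj ((DCoh.tensorRightMod K).obj ((Scheme.Modules.pullback (Limits.pullback.fst (X ↘ Spec (.of R)) (Y ↘ Spec (.of R)))).obj M)))) :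
    ∃ π : CohB1.tensorMod ((Scheme.Modules.pullback (Limits.pullback.fst (X ↘ Spec (.of R)) (Y ↘ Spec (.of R)))).obj (Coh.structureModule X))
        ((Scheme.Modules.pullback (Limits.pullback.snd (X ↘ Spec (.of R)) (Y ↘ Spec (.of R)))).obj ((Coh.push (Limits.pullback.snd (X ↘ Spec (.of R)) (Y ↘ Spec (.of R)))).obj K)) ⟶ K, Epi π := by
  have hx1 : QuasiCompact (X ↘ Spec (.of R)) := inferInstance
  have hE : EnoughInjectives (K355.triple (X ↘ Spec (.of R)) (X ↘ Spec (.of R))
      (Y ↘ Spec (.of R))).Modules := Groth.Agent.S0485.result _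
    (K355.triple (X ↘ Spec (.of R)) (X ↘ Spec (.of R)) (Y ↘ Spec (.of R))).ringCatSheaf
  have hI : HasInjectiveResolutions (K355.triple (X ↘ Spec (.of R)) (X ↘ Spec (.of R))
      (Y ↘ Spec (.of R))).Modules := inferInstance
  have hA : IsAffineHom (Limits.pullback.diagonal (X ↘ Spec (.of R))) := inferInstance
  refine K355.exists_epi (X ↘ Spec (.of R)) (Y ↘ Spec (.of R)) K hK hKf fun I hI' => ?_
  exact Groth.Agent.S6736.result R X Y K hK hKf hKa X _
    (K355.pr13_fst (X ↘ Spec (.of R)) (Y ↘ Spec (.of R)))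
    (K355.pr13_snd (X ↘ Spec (.of R)) (Y ↘ Spec (.of R))) I hI' 1 one_pos

end Groth.Agent.S6767
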