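import Groth.Statements.S6768
import Groth.Agent.DEquiv.K370.Orlov
import Groth.Agent.S6755

set_option autoImplicit false
universe u
open CategoryTheory AlgebraicGeometry
attribute [local instance] HasDerivedCategory.standard
open DEquiv

namespace Groth.Agent.S6768

/-- Let X and Y be schemes smooth and proper over a field k, with the structure morphism of X moreover
H-projective (X is a closed subscheme of some P^n_k), and let F : D_perf(O_X) ⥤ D_perf(O_Y) be a
k-linear exact functor between the full subcategories of perfect objects (the instance hypotheses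
record that these are triangulated subcategories) which is fully faithful. The derived functors
Lpr_1^*, - ⊗^L K (for every complex K of modules on X ×_k Y) and Rpr_{2,*} are assumed to exist
(instance binders). Then F is a Fourier-Mukai functor: there is a complex K defining a perfect
object of D(O_{X ×_k Y}) such that F followed by the inclusion into D(O_Y) is isomorphic to the
restriction of Φ_K = Rpr_{2,*}(Lpr_1^*(-) ⊗^L K) to perfect objects. -/
theorem result
    (k : Type u) [Field k] (X Y : Scheme.{u}) [X.Over (Spec (.of k))] [Y.Over (Spec (.of k))]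
    [IsProper (X ↘ Spec (.of k))] [Smooth (X ↘ Spec (.of k))] [IsProper (Y ↘ Spec (.of k))] [Smooth (Y ↘ Spec (.of k))] (hproj : RelProj.IsHProjective (X ↘ Spec (.of k)))
    [(SGA6.perfP X).IsTriangulated] [(SGA6.perfP Y).IsTriangulated]
    (F : (SGA6.perfP X).FullSubcategory ⥤ (SGA6.perfP Y).FullSubcategory) [F.Additive] [F.Linear k]
    [F.CommShift ℤ] [F.IsTriangulated] [F.Full] [F.Faithful]
    [DCoh.HasLpull (Limits.pullback.fst (X ↘ Spec (.of k)) (Y ↘ Spec (.of k)))] [DCoh.HasRpush (Limits.pullback.snd (X ↘ Spec (.of k)) (Y ↘ Spec (.of k)))]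
    [∀ K : CochainComplex (Limits.pullback (X ↘ Spec (.of k)) (Y ↘ Spec (.of k))).Modules ℤ, DCoh.HasLTensorCx K] :
    ∃ (K : CochainComplex (Limits.pullback (X ↘ Spec (.of k)) (Y ↘ Spec (.of k))).Modules ℤ), DCoh.IsPerfect (DCoh.toD _ K) ∧
      Nonempty (F ⋙ ObjectProperty.ι (SGA6.perfP Y) ≅ ObjectProperty.ι (SGA6.perfP X) ⋙ (DCoh.Lpull (Limits.pullback.fst (X ↘ Spec (.of k)) (Y ↘ Spec (.of k))) ⋙ DCoh.LTensorCx K ⋙ DCoh.Rpush (Limits.pullback.snd (X ↘ Spec (.of k)) (Y ↘ Spec (.of k))))) := by
  obtain ⟨K, hK, h, -⟩ := S6755.result k X Y F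
  exact ⟨K, hK, K370.Orlov.main k X Y hproj F _ _ K h⟩

end Groth.Agent.S6768
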