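import Groth.Statements.S6769
import Groth.Agent.FunMor.K355.ModWatts
-- import your own Groth.Agent.* helpers here

set_option autoImplicit false
universe u
open CategoryTheory CategoryTheory.Limits TensorProduct
open scoped ModuleCat.Algebra
open FunMor

namespace Groth.Agent.S6769

/-- Let R be a commutative ring and A, B commutative R-algebras; Mod_A and Mod_B are R-linear
categories. Suppose F, F' : Mod_A ⥤ Mod_B are R-linear functors, each of which preserves finite
colimits (so is right exact) and also preserves direct sums indexed by any set. Then: (i) there is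
an A ⊗_R B-module K — a module over A and over B with commuting actions on which the two R-actions
agree — and B-linear isomorphisms K ⊗_A M ≅ F(M) natural in the A-module M; (ii) a natural
transformation F ⟶ F' is determined by its component at A, and a B-linear map φ : F(A) ⟶ F'(A) is
the component at A of some natural transformation F ⟶ F' if and only if it commutes with the
A-actions, i.e. F(a · id_A) ≫ φ = φ ≫ F'(a · id_A) for all a ∈ A. (Together: K ↦ (- ⊗_A K) is an
equivalence from Mod_{A ⊗_R B} onto the category of such functors.) -/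
theorem result
    (R : Type u) [CommRing R] (A B : Type u) [CommRing A] [CommRing B] [Algebra R A] [Algebra R B]
    (F F' : ModuleCat.{u} A ⥤ ModuleCat.{u} B) [F.Additive] [F.Linear R] [F'.Additive] [F'.Linear R]
    [PreservesFiniteColimits F] [∀ J : Type u, PreservesColimitsOfShape (Discrete J) F]
    [PreservesFiniteColimits F'] [∀ J : Type u, PreservesColimitsOfShape (Discrete J) F'] :
    (∃ (K : Type u) (_ : AddCommGroup K) (_ : Module A K) (_ : Module B K) (_ : SMulCommClass A B K),
      (∀ (r : R) (x : K), algebraMap R A r • x = algebraMap R B r • x) ∧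
      ∃ η : ∀ M : ModuleCat.{u} A, (K ⊗[A] M) ≃ₗ[B] F.obj M,
        ∀ (M N : ModuleCat.{u} A) (f : M ⟶ N) (x : K ⊗[A] M),
          η N (LinearMap.lTensor K f.hom x) = F.map f (η M x)) ∧
    (∀ t t' : F ⟶ F', t.app (ModuleCat.of A A) = t'.app (ModuleCat.of A A) → t = t') ∧
    (∀ φ : F.obj (ModuleCat.of A A) ⟶ F'.obj (ModuleCat.of A A),
      (∃ t : F ⟶ F', t.app (ModuleCat.of A A) = φ) ↔
        ∀ a : A, F.map (a • 𝟙 (ModuleCat.of A A)) ≫ φ = φ ≫ F'.map (a • 𝟙 (ModuleCat.of A A))) := by
  have hmul : ∀ a : A, a • 𝟙 (ModuleCat.of A A) = ModuleCat.ofHom (LinearMap.lsmul A A a) := by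
    intro a
    ext
    rfl
  have ptM_add : ∀ {M : ModuleCat.{u} A} (x y : M), K355.ptM (x + y) = K355.ptM x + K355.ptM y := by
    intro M x y
    refine ModuleCat.hom_ext (LinearMap.ext_ring ?_)
    change (1 : A) • (x + y) = (1 : A) • x + (1 : A) • y
    rw [smul_add]
  have ptM_smul : ∀ {M : ModuleCat.{u} A} (a : A) (x : M),
      K355.ptM (a • x) = ModuleCat.ofHom (LinearMap.lsmul A A a) ≫ K355.ptM x := by
    intro M a x
    refine ModuleCat.hom_ext (LinearMap.ext_ring ?_)
    change (1 : A) • (a • x) = (a • (1 : A)) • x
    rw [one_smul, smul_eq_mul, mul_one]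
  have ptM_comp : ∀ {M N : ModuleCat.{u} A} (x : M) (f : M ⟶ N),
      K355.ptM x ≫ f = K355.ptM (f x) := by
    intro M N x f
    refine ModuleCat.hom_ext (LinearMap.ext_ring ?_)
    change f ((1 : A) • x) = (1 : A) • f x
    rw [one_smul, one_smul]
  have ptM_one : K355.ptM (M := ModuleCat.of A A) (1 : A) = 𝟙 _ := by
    refine ModuleCat.hom_ext (LinearMap.ext_ring ?_)
    change (1 : A) • (1 : A) = 1
    rw [smul_eq_mul, mul_one]
  have nat_of : ∀ (t : F ⟶ F') (M : ModuleCat.{u} A) (x : M),
      F.map (K355.ptM x) ≫ t.app M = t.app (ModuleCat.of A A) ≫ F'.map (K355.ptM x) :=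
    fun t M x => t.naturality _
  have key : ∀ (φ : F.obj (ModuleCat.of A A) ⟶ F'.obj (ModuleCat.of A A))
      (hφ : ∀ a : A, F.map (ModuleCat.ofHom (LinearMap.lsmul A A a)) ≫ φ =
        φ ≫ F'.map (ModuleCat.ofHom (LinearMap.lsmul A A a)))
      (M : ModuleCat.{u} A),
      ∃! g : F.obj M ⟶ F'.obj M, ∀ x : M,
        F.map (K355.ptM x) ≫ g = φ ≫ F'.map (K355.ptM x) := by
    intro φ hφ M
    refine K355.existsUnique_desc_mod F M (fun x => φ ≫ F'.map (K355.ptM x)) ?_ ?_
    · intro x y
      rw [ptM_add, F'.map_add, Preadditive.comp_add]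
    · intro a x
      rw [ptM_smul, F'.map_comp, ← Category.assoc, ← hφ a, Category.assoc]
  refine ⟨?_, ?_, ?_⟩
  · let K : Type u := F.obj (ModuleCat.of A A)
    let act : A →+* Module.End B K :=
      { toFun := fun a => (F.map (ModuleCat.ofHom (LinearMap.lsmul A A a))).hom
        map_one' := by
          rw [← hmul, one_smul, F.map_id]; rfl
        map_mul' := fun a b => by
          rw [← hmul, ← hmul, ← hmul]
          have : (a * b) • 𝟙 (ModuleCat.of A A) = (b • 𝟙 (ModuleCat.of A A)) ≫ (a • 𝟙 (ModuleCat.of A A)) := by
            rw [hmul, hmul, hmul]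
            refine ModuleCat.hom_ext (LinearMap.ext fun x => ?_)
            change (a * b) • x = a • (b • x)
            rw [mul_smul]
          rw [this, F.map_comp]; rfl
        map_zero' := by
          rw [← hmul, zero_smul, F.map_zero]; rfl
        map_add' := fun a b => by
          rw [← hmul, ← hmul, ← hmul, add_smul, F.map_add]; rfl }
    let mA : Module A K := Module.compHom K act
    have hact : ∀ (a : A) (k : K), a • k = F.map (ModuleCat.ofHom (LinearMap.lsmul A A a)) k :=
      fun a k => rfl
    have : SMulCommClass A B K := ⟨fun a b k => by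
      rw [hact, hact]
      exact (F.map (ModuleCat.ofHom (LinearMap.lsmul A A a))).hom.map_smul b k⟩
    refine ⟨K, inferInstance, mA, inferInstance, inferInstance, ?_, ?_⟩
    · intro r x
      have h1 : algebraMap R A r • 𝟙 (ModuleCat.of A A) =
          @HSMul.hSMul R (ModuleCat.of A A ⟶ ModuleCat.of A A) _
            (@instHSMul _ _ (Linear.homModule (R := R) (ModuleCat.of A A) (ModuleCat.of A A)).toSMul)
            r (𝟙 (ModuleCat.of A A)) := rfl
      rw [hact, ← hmul, h1, F.map_smul, F.map_id]
      rfl
    · -- the forward map
      let fwd0 : ∀ M : ModuleCat.{u} A, (K ⊗[A] M) →+ F.obj M := fun M =>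
        TensorProduct.liftAddHom
          (AddMonoidHom.mk' (fun k => AddMonoidHom.mk' (fun x => F.map (K355.ptM x) k)
            (fun x y => by rw [ptM_add, F.map_add]; rfl))
            (fun k k' => by ext x; exact map_add (F.map (K355.ptM x)).hom k k'))
          (fun a k x => by
            change F.map (K355.ptM x) (a • k) = F.map (K355.ptM (a • x)) k
            rw [ptM_smul, F.map_comp, hact]
            rfl)
      have fwd0_tmul : ∀ (M : ModuleCat.{u} A) (k : K) (x : M),
          fwd0 M (k ⊗ₜ[A] x) = F.map (K355.ptM x) k := fun M k x => rfl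
      let fwd : ∀ M : ModuleCat.{u} A, (K ⊗[A] M) →ₗ[B] F.obj M := fun M =>
        { toFun := fwd0 M
          map_add' := (fwd0 M).map_add
          map_smul' := fun b t => by
            induction t using TensorProduct.induction_on with
            | zero => simp only [smul_zero, map_zero]
            | add x y hx hy =>
              simp only [smul_add, map_add] at hx hy ⊢
              rw [hx, hy]
            | tmul k x =>
              rw [TensorProduct.smul_tmul', fwd0_tmul, fwd0_tmul]
              exact (F.map (K355.ptM x)).hom.map_smul b k }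
      have fwd_tmul : ∀ (M : ModuleCat.{u} A) (k : K) (x : M),
          fwd M (k ⊗ₜ[A] x) = F.map (K355.ptM x) k := fun M k x => rfl
      have hfwd : ∀ M : ModuleCat.{u} A, Function.Bijective (fwd M) := by
        intro M
        let hh : M → (F.obj (ModuleCat.of A A) ⟶ ModuleCat.of B (K ⊗[A] M)) := fun x =>
          ModuleCat.ofHom
            { toFun := fun k : K => k ⊗ₜ[A] x
              map_add' := fun k k' => TensorProduct.add_tmul k k' x
              map_smul' := fun b k => (TensorProduct.smul_tmul' b k x).symm }
        obtain ⟨g, hg, -⟩ := K355.existsUnique_desc_mod F M hh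
          (fun x y => by
            refine ModuleCat.hom_ext (LinearMap.ext fun k => ?_)
            exact TensorProduct.tmul_add _ _ _)
          (fun a x => by
            refine ModuleCat.hom_ext (LinearMap.ext fun k => ?_)
            change k ⊗ₜ[A] (a • x) = (a • k) ⊗ₜ[A] x
            rw [TensorProduct.smul_tmul])
        have hg' : ∀ (k : K) (x : M), g (F.map (K355.ptM x) k) = k ⊗ₜ[A] x := fun k x =>
          congrArg (fun f => f.hom k) (hg x)
        have hgf : ∀ t, g (fwd M t) = t := by
          intro t
          induction t using TensorProduct.induction_on with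
          | zero => rw [map_zero, map_zero]
          | add x y hx hy => rw [map_add, map_add, hx, hy]
          | tmul k x => rw [fwd_tmul, hg']
        have hfg : g ≫ ModuleCat.ofHom (fwd M) = 𝟙 _ := by
          obtain ⟨g₀, -, hu⟩ := K355.existsUnique_desc_mod F M (fun x => F.map (K355.ptM x))
            (fun x y => by rw [ptM_add, F.map_add]) (fun a x => by rw [ptM_smul, F.map_comp])
          refine (hu _ (fun x => ?_)).trans (hu _ (fun x => Category.comp_id _)).symm
          rw [← Category.assoc, hg]
          refine ModuleCat.hom_ext (LinearMap.ext fun k => ?_)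
          exact fwd_tmul M k x
        refine ⟨Function.LeftInverse.injective hgf, fun y => ⟨g y, ?_⟩⟩
        exact congrArg (fun f => f.hom y) hfg
      refine ⟨fun M => LinearEquiv.ofBijective (fwd M) (hfwd M), ?_⟩
      intro M N f t
      change fwd N (LinearMap.lTensor K f.hom t) = F.map f (fwd M t)
      induction t using TensorProduct.induction_on with
      | zero => simp only [map_zero]
      | add x y hx hy => simp only [map_add, hx, hy]
      | tmul k x =>
        rw [LinearMap.lTensor_tmul, fwd_tmul, fwd_tmul]
        have := congrArg (fun g => (F.map g) k) (ptM_comp x f)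
        rw [F.map_comp] at this
        exact this.symm
  · intro t t' htt
    ext1
    ext1 M
    obtain ⟨g, -, hg⟩ := key (t.app (ModuleCat.of A A)) (fun a => t.naturality _) M
    rw [hg (t.app M) (nat_of t M), hg (t'.app M) (fun x => by rw [nat_of t' M x, htt])]
  · intro φ
    constructor
    · rintro ⟨t, rfl⟩ a
      exact t.naturality _
    · intro hφ'
      have hφ : ∀ a : A, F.map (ModuleCat.ofHom (LinearMap.lsmul A A a)) ≫ φ =
        φ ≫ F'.map (ModuleCat.ofHom (LinearMap.lsmul A A a)) := fun a => by
          rw [← hmul]; exact hφ' a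
      choose g hg hg' using key φ hφ
      refine ⟨{ app := g, naturality := fun M N f => ?_ }, ?_⟩
      · obtain ⟨k, -, hk⟩ := K355.existsUnique_desc_mod F M
          (fun x => φ ≫ F'.map (K355.ptM x) ≫ F'.map f) (by
            intro x y
            rw [ptM_add, F'.map_add, Preadditive.add_comp, Preadditive.comp_add]) (by
            intro a x
            rw [ptM_smul, F'.map_comp, Category.assoc, ← Category.assoc φ, ← hφ, Category.assoc])
        rw [hk (F.map f ≫ g N) (fun x => by
          rw [← Category.assoc, ← F.map_comp, ptM_comp, hg N, ← ptM_comp, F'.map_comp]),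
          hk (g M ≫ F'.map f) (fun x => by rw [← Category.assoc, hg M, Category.assoc])]
      · have h1 := hg (ModuleCat.of A A) (1 : A)
        rw [ptM_one, F.map_id, F'.map_id, Category.id_comp, Category.comp_id] at h1
        exact h1

end Groth.Agent.S6769
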