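import Groth.Statements.S6775
import Mathlib.Algebra.Homology.CommSq
import Mathlib.CategoryTheory.Abelian.CommSq
import Mathlib.Algebra.Homology.ShortComplex.Abelian

set_option autoImplicit false
open CategoryTheory CategoryTheory.Limits
universe v u
open CategoryTheory CategoryTheory.Abelian

namespace Groth.Agent.S6775

/-- In an abelian category a cartesian square whose bottom arrow `k` is an epimorphism is also
cocartesian, and the arrow `f` opposite to `k` is an epimorphism. -/
theorem result {A : Type u} [Category.{v} A] [Abelian A] {w x y z : A} (f : w ⟶ y) (g : w ⟶ x) (h : y ⟶ z) (k : x ⟶ z) (sq : IsPullback f g h k) [Epi k] : IsPushout f g h k ∧ Epi f := by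
  have hex : (ShortComplex.mk (biprod.lift f g) (biprod.desc h (-k))
      (by simp [sq.w])).Exact := sq.exact_shortComplex'
  have hepi : Epi (biprod.desc h (-k)) := by
    have h1 : biprod.inr ≫ biprod.desc h (-k) = -k := by simp
    have h2 : Epi (-k) := inferInstance
    rw [← h1] at h2
    exact epi_of_epi biprod.inr _
  have hc : IsColimit (CokernelCofork.ofπ (biprod.desc h (-k))
      (by simp [sq.w] : biprod.lift f g ≫ biprod.desc h (-k) = 0)) := by
    have : Epi (ShortComplex.mk (biprod.lift f g) (biprod.desc h (-k))
      (by simp [sq.w])).g := hepi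
    exact hex.gIsCokernel
  refine ⟨⟨⟨sq.w⟩, ⟨PushoutCocone.IsColimit.mk _
    (fun s => hc.desc (CokernelCofork.ofπ (biprod.desc s.inl (-s.inr))
      (by simp [s.condition]))) ?_ ?_ ?_⟩⟩, ?_⟩
  · intro s
    have := hc.fac (CokernelCofork.ofπ (biprod.desc s.inl (-s.inr))
      (by simp [s.condition])) .one
    simpa using biprod.inl ≫= this
  · intro s
    have := hc.fac (CokernelCofork.ofπ (biprod.desc s.inl (-s.inr))
      (by simp [s.condition])) .one
    simpa using biprod.inr ≫= this
  · intro s m h1 h2
    apply Cofork.IsColimit.hom_ext hc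
    have := hc.fac (CokernelCofork.ofπ (biprod.desc s.inl (-s.inr))
      (by simp [s.condition])) .one
    refine Eq.trans ?_ this.symm
    apply biprod.hom_ext'
    · simpa using h1
    · simpa using h2
  · have := Abelian.epi_fst_of_isLimit h k sq.isLimit
    exact this

end Groth.Agent.S6775
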