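import Groth.Statements.S6787
import Groth.Agent.Ega3A.MLBasic

set_option autoImplicit false
open CategoryTheory CategoryTheory.Limits
universe u
open HomAlg3

namespace Groth.Agent.S6787

open Opposite Ega3A.MLBasic

/-- The elementwise content of essential constancy. -/
theorem essConstant_elim {C : ℕᵒᵖ ⥤ AddCommGrpCat.{u}} {C₀ : AddCommGrpCat.{u}}
    {c : (Functor.const ℕᵒᵖ).obj C₀ ⟶ C} (h : DerCA.IsEssConstant C C₀ c) :
    ∃ (i : ℕ) (s : C.obj (op i) →+ C₀), ∀ j : ℕ, ∃ (k : ℕ) (hi : i ≤ k) (hj : j ≤ k),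
      ∀ x : C.obj (op k), (C.map (homOfLE hj).op).hom x =
        (c.app (op j)).hom (s ((C.map (homOfLE hi).op).hom x)) := by
  obtain ⟨i, s, -, h⟩ := h
  refine ⟨i, s.hom, fun j => ?_⟩
  obtain ⟨k, hi, hj, hk⟩ := h j
  exact ⟨k, hi, hj, fun x => congrArg (fun f => f.hom x) hk⟩

/-- Compatibility of a cone on a constant system with the transition maps. -/
theorem const_map {C : ℕᵒᵖ ⥤ AddCommGrpCat.{u}} {C₀ : AddCommGrpCat.{u}}
    (c : (Functor.const ℕᵒᵖ).obj C₀ ⟶ C) {j k : ℕ} (hj : j ≤ k) (x : C₀) :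
    (C.map (homOfLE hj).op).hom ((c.app (op k)).hom x) = (c.app (op j)).hom x := by
  have := c.naturality (homOfLE hj).op
  exact (congrArg (fun f => f.hom x) this).symm

/-- An essentially constant system is Mittag-Leffler. -/
theorem isMittagLeffler_of_essConstant {C : ℕᵒᵖ ⥤ AddCommGrpCat.{u}} {C₀ : AddCommGrpCat.{u}}
    {c : (Functor.const ℕᵒᵖ).obj C₀ ⟶ C} (h : DerCA.IsEssConstant C C₀ c) :
    (C ⋙ forget AddCommGrpCat).IsMittagLeffler := by
  rw [isMittagLeffler_iff]
  obtain ⟨i, s, h⟩ := essConstant_elim h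
  intro j
  obtain ⟨k, hi, hj, hk⟩ := h j
  refine ⟨k, hj, fun l hl x => ?_⟩
  exact ⟨(c.app (op l)).hom (s ((C.map (homOfLE hi).op).hom x)), by rw [const_map, hk]⟩

/-- Take inverse systems `(A_i)`, `(B_i)`, `(C_i)` of abelian groups over `ℕ`, with morphisms of systems
`(A_i) ⟶ (B_i) ⟶ (C_i)` that give a short exact sequence at every index, and suppose `(C_i)` is
essentially constant. Then `(A_i)` is Mittag-Leffler if and only if `(B_i)` is. -/
theorem result {A B C : ℕᵒᵖ ⥤ AddCommGrpCat.{u}} (a : A ⟶ B) (b : B ⟶ C) (ha : ∀ i, Function.Injective (a.app i).hom) (hb : ∀ i, Function.Surjective (b.app i).hom) (hex : ∀ i, (b.app i).hom.ker = (a.app i).hom.range) (hC : ∃ (C₀ : AddCommGrpCat.{u}) (c : (Functor.const ℕᵒᵖ).obj C₀ ⟶ C), DerCA.IsEssConstant C C₀ c) : (A ⋙ forget AddCommGrpCat).IsMittagLeffler ↔ (B ⋙ forget AddCommGrpCat).IsMittagLeffler := by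
  obtain ⟨C₀, c, hc⟩ := hC
  have hex' : ∀ i (y : B.obj i), (b.app i).hom y = 0 → ∃ x, (a.app i).hom x = y := fun i y hy => by
    have : y ∈ (b.app i).hom.ker := hy
    rw [hex] at this
    exact this
  have hzero : ∀ i (x : A.obj i), (b.app i).hom ((a.app i).hom x) = 0 := fun i x => by
    have : (a.app i).hom x ∈ (b.app i).hom.ker := by
      rw [hex]; exact ⟨x, rfl⟩
    exact this
  refine ⟨fun hA => isMittagLeffler_of_extension a b hb hex' hA (isMittagLeffler_of_essConstant hc),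
    fun hB => ?_⟩
  rw [isMittagLeffler_iff] at hB ⊢
  obtain ⟨i₀, s, h⟩ := essConstant_elim hc
  intro j
  obtain ⟨i, hi, hi'⟩ := hB (max j i₀)
  refine ⟨i, (le_max_left _ _).trans hi, fun k hk x => ?_⟩
  obtain ⟨l, hl, hkl, hl'⟩ := h k
  obtain ⟨y, hy⟩ := hi' (max l i) (le_max_right _ _) ((a.app (op i)).hom x)
  set y' := (B.map (homOfLE (le_max_left l i)).op).hom y with hy'
  have h1 : (B.map (homOfLE ((le_max_left j i₀).trans (hi.trans hk) |>.trans hkl)).op).hom y' =
      (B.map (homOfLE ((le_max_left j i₀).trans hi)).op).hom ((a.app (op i)).hom x) := by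
    have := congrArg (B.map (homOfLE (le_max_left j i₀)).op).hom hy
    rw [map_map, map_map] at this
    rw [hy', map_map, ← this]
  have h2 : (b.app (op i₀)).hom ((B.map (homOfLE hl).op).hom y') = 0 := by
    have := congrArg (B.map (homOfLE (le_max_right j i₀)).op).hom hy
    rw [map_map, map_map, ← naturality_apply] at this
    rw [hy', map_map, this, hzero]
  have h3 : (b.app (op k)).hom ((B.map (homOfLE hkl).op).hom y') = 0 := by
    rw [naturality_apply, hl', ← naturality_apply, h2, map_zero, map_zero]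
  obtain ⟨z, hz⟩ := hex' _ _ h3
  refine ⟨z, ?_⟩
  apply ha
  rw [naturality_apply, naturality_apply, hz, map_map, ← h1]

end Groth.Agent.S6787
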