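import Groth.Statements.S6789
import Mathlib.AlgebraicTopology.CechNerve
import Mathlib.AlgebraicTopology.SimplicialObject.Homotopy

set_option autoImplicit false
open CategoryTheory CategoryTheory.Limits
universe v u
open CategoryTheory CategoryTheory.SimplicialObject

namespace Groth.Agent.S6789

open Opposite Simplicial

section
variable {C : Type u} [Category.{v} C] {Y X : C} (f : Y ⟶ X)
  [∀ n : ℕ, HasWidePullback (Arrow.mk f).right (fun _ : Fin (n + 1) => (Arrow.mk f).left)
    (fun _ => (Arrow.mk f).hom)]

/-- The faces of the Čech nerve, on coordinates. -/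
theorem δ_π {n : ℕ} (i : Fin (n + 2)) (k : Fin (n + 1)) :
    (Arrow.mk f).cechNerve.δ i ≫ WidePullback.π (fun _ => (Arrow.mk f).hom) k =
      WidePullback.π (fun _ => (Arrow.mk f).hom) (i.succAbove k) :=
  WidePullback.lift_π _ _ _ _ _

/-- The faces of the Čech nerve, on the base. -/
theorem δ_base {n : ℕ} (i : Fin (n + 2)) :
    (Arrow.mk f).cechNerve.δ i ≫ WidePullback.base (fun _ : Fin (n + 1) => (Arrow.mk f).hom) =
      WidePullback.base (fun _ : Fin (n + 2) => (Arrow.mk f).hom) :=
  WidePullback.lift_base _ _ _ _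

/-- The degeneracies of the Čech nerve, on coordinates. -/
theorem σ_π {n : ℕ} (i : Fin (n + 1)) (k : Fin (n + 2)) :
    (Arrow.mk f).cechNerve.σ i ≫ WidePullback.π (fun _ => (Arrow.mk f).hom) k =
      WidePullback.π (fun _ => (Arrow.mk f).hom) (i.predAbove k) :=
  WidePullback.lift_π _ _ _ _ _

/-- The degeneracies of the Čech nerve, on the base. -/
theorem σ_base {n : ℕ} (i : Fin (n + 1)) :
    (Arrow.mk f).cechNerve.σ i ≫ WidePullback.base (fun _ : Fin (n + 2) => (Arrow.mk f).hom) =
      WidePullback.base (fun _ : Fin (n + 1) => (Arrow.mk f).hom) :=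
  WidePullback.lift_base _ _ _ _

/-- The homotopy operators: duplicate the `i`-th coordinate, and apply `a` to the coordinates up to
`i` and `b` to the others. -/
noncomputable def hMap (a b : Arrow.mk f ⟶ Arrow.mk f) (ha : a.right = 𝟙 X) (hb : b.right = 𝟙 X)
    {n : ℕ} (i : Fin (n + 1)) :
    (Arrow.mk f).cechNerve _⦋n⦌ ⟶ (Arrow.mk f).cechNerve _⦋n + 1⦌ :=
  WidePullback.lift (WidePullback.base _)
    (fun j : Fin (n + 1 + 1) => WidePullback.π (fun _ => (Arrow.mk f).hom) (i.predAbove j) ≫
      (if j ≤ i.castSucc then a.left else b.left)) (by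
    intro j
    have h1 : a.left ≫ f = f := (Arrow.w a).trans (by rw [ha]; exact Category.comp_id _)
    have h2 : b.left ≫ f = f := (Arrow.w b).trans (by rw [hb]; exact Category.comp_id _)
    split_ifs
    · simp only [Arrow.mk_hom, Category.assoc]
      erw [h1]
      exact WidePullback.π_arrow (fun _ => (Arrow.mk f).hom) _
    · simp only [Arrow.mk_hom, Category.assoc]
      erw [h2]
      exact WidePullback.π_arrow (fun _ => (Arrow.mk f).hom) _)

theorem hMap_π (a b : Arrow.mk f ⟶ Arrow.mk f) (ha : a.right = 𝟙 X) (hb : b.right = 𝟙 X)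
    {n : ℕ} (i : Fin (n + 1)) (k : Fin (n + 1 + 1)) :
    hMap f a b ha hb i ≫ WidePullback.π (fun _ => (Arrow.mk f).hom) k =
      WidePullback.π (fun _ => (Arrow.mk f).hom) (i.predAbove k) ≫
      (if k ≤ i.castSucc then a.left else b.left) :=
  WidePullback.lift_π _ _ _ _ _

theorem hMap_base (a b : Arrow.mk f ⟶ Arrow.mk f) (ha : a.right = 𝟙 X) (hb : b.right = 𝟙 X)
    {n : ℕ} (i : Fin (n + 1)) :
    hMap f a b ha hb i ≫ WidePullback.base (fun _ : Fin (n + 1 + 1) => (Arrow.mk f).hom) =
      WidePullback.base (fun _ : Fin (n + 1) => (Arrow.mk f).hom) :=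
  WidePullback.lift_base _ _ _ _

theorem map_π (a : Arrow.mk f ⟶ Arrow.mk f) {n : ℕ} (k : Fin (n + 1)) :
    (Arrow.mapCechNerve a).app (op ⦋n⦌) ≫ WidePullback.π (fun _ => (Arrow.mk f).hom) k =
      WidePullback.π (fun _ => (Arrow.mk f).hom) k ≫ a.left :=
  WidePullback.lift_π _ _ _ _ _

theorem map_base (a : Arrow.mk f ⟶ Arrow.mk f) (ha : a.right = 𝟙 X) {n : ℕ} :
    (Arrow.mapCechNerve a).app (op ⦋n⦌) ≫
        WidePullback.base (fun _ : Fin (n + 1) => (Arrow.mk f).hom) =
      WidePullback.base (fun _ : Fin (n + 1) => (Arrow.mk f).hom) := by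
  have : (Arrow.mapCechNerve a).app (op ⦋n⦌) ≫
        WidePullback.base (fun _ : Fin (n + 1) => (Arrow.mk f).hom) =
      WidePullback.base (fun _ : Fin (n + 1) => (Arrow.mk f).hom) ≫ a.right :=
    WidePullback.lift_base _ _ _ _
  rw [this, ha]
  exact Category.comp_id _

/-- The homotopy between the maps of Čech nerves induced by two endomorphisms over the base. -/
noncomputable def cechHomotopy (a b : Arrow.mk f ⟶ Arrow.mk f) (ha : a.right = 𝟙 X)
    (hb : b.right = 𝟙 X) :
    SimplicialObject.Homotopy (Arrow.mapCechNerve a) (Arrow.mapCechNerve b) where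
  h i := hMap f a b ha hb i
  h_zero_comp_δ_zero n := by
    refine WidePullback.hom_ext _ _ _ (fun k => ?_) ?_
    · rw [Category.assoc, δ_π, hMap_π, map_π]
      simp
    · rw [Category.assoc, δ_base, hMap_base, map_base _ _ hb]
  h_last_comp_δ_last n := by
    refine WidePullback.hom_ext _ _ _ (fun k => ?_) ?_
    · rw [Category.assoc, δ_π, hMap_π, map_π]
      simp [Fin.castSucc_le_castSucc_iff, Fin.le_last]
    · rw [Category.assoc, δ_base, hMap_base, map_base _ _ ha]
  h_succ_comp_δ_castSucc_of_lt {n} i j hij := by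
    refine WidePullback.hom_ext _ _ _ (fun k => ?_) ?_
    · rw [Category.assoc, δ_π, hMap_π, Category.assoc, hMap_π, ← Category.assoc, δ_π]
      have h1 : j.succ.predAbove (i.castSucc.succAbove k) = i.succAbove (j.predAbove k) := by
        have := SimplexCategory.δ_comp_σ_of_le hij
        exact congrArg (fun φ => φ.toOrderHom k) this
      have h2 : (i.castSucc.succAbove k ≤ j.succ.castSucc) ↔ (k ≤ j.castSucc) := by
        simp only [Fin.succAbove, Fin.lt_def, Fin.le_def] at hij ⊢
        split_ifs <;> simp_all <;> omega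
      rw [h1]
      simp only [h2]
    · rw [Category.assoc, δ_base, hMap_base, Category.assoc, hMap_base, δ_base]
  h_succ_comp_δ_castSucc_succ {n} j := by
    refine WidePullback.hom_ext _ _ _ (fun k => ?_) ?_
    · rw [Category.assoc, δ_π, hMap_π, Category.assoc, δ_π, hMap_π]
      have h1 : j.succ.predAbove (j.castSucc.succ.succAbove k) = k := by
        have := SimplexCategory.δ_comp_σ_self (i := j.succ)
        exact congrArg (fun φ => φ.toOrderHom k) this
      have h1' : j.castSucc.predAbove (j.castSucc.succ.succAbove k) = k := by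
        have := SimplexCategory.δ_comp_σ_succ (i := j.castSucc)
        exact congrArg (fun φ => φ.toOrderHom k) this
      have h2 : (j.castSucc.succ.succAbove k ≤ j.succ.castSucc) ↔
          (j.castSucc.succ.succAbove k ≤ j.castSucc.castSucc) := by
        clear h1 h1'
        simp only [Fin.succAbove, Fin.lt_def, Fin.le_def]
        split_ifs <;> simp_all <;> omega
      rw [h1, h1']
      simp only [h2]
    · rw [Category.assoc, δ_base, hMap_base, Category.assoc, δ_base, hMap_base]
  h_castSucc_comp_δ_succ_of_lt {n} i j hij := by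
    refine WidePullback.hom_ext _ _ _ (fun k => ?_) ?_
    · rw [Category.assoc, δ_π, hMap_π, Category.assoc, hMap_π, ← Category.assoc, δ_π]
      have h1 : j.castSucc.predAbove (i.succ.succAbove k) = i.succAbove (j.predAbove k) := by
        have := SimplexCategory.δ_comp_σ_of_gt hij
        exact congrArg (fun φ => φ.toOrderHom k) this
      have h2 : (i.succ.succAbove k ≤ j.castSucc.castSucc) ↔ (k ≤ j.castSucc) := by
        simp only [Fin.succAbove, Fin.lt_def, Fin.le_def] at hij ⊢
        split_ifs <;> simp_all <;> omega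
      rw [h1]
      simp only [h2]
    · rw [Category.assoc, δ_base, hMap_base, Category.assoc, hMap_base, δ_base]
  h_comp_σ_castSucc_of_le {n} i j hij := by
    refine WidePullback.hom_ext _ _ _ (fun k => ?_) ?_
    · rw [Category.assoc, σ_π, hMap_π, Category.assoc, hMap_π, ← Category.assoc, σ_π]
      have h1 : j.predAbove (i.castSucc.predAbove k) = i.predAbove (j.succ.predAbove k) := by
        have := SimplexCategory.σ_comp_σ hij
        exact congrArg (fun φ => φ.toOrderHom k) this
      have h2 : (i.castSucc.predAbove k ≤ j.castSucc) ↔ (k ≤ j.succ.castSucc) := by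
        clear h1
        simp only [Fin.predAbove, Fin.lt_def, Fin.le_def] at hij ⊢
        split_ifs with h3
        · simp only [Fin.val_castSucc, Fin.val_succ, Fin.val_pred] at h3 ⊢
          omega
        · simp only [Fin.val_castSucc, Fin.val_succ, Fin.coe_castPred] at h3 ⊢
          omega
      rw [h1]
      simp only [h2]
    · rw [Category.assoc, σ_base, hMap_base, Category.assoc, hMap_base, σ_base]
  h_comp_σ_succ_of_lt {n} i j hij := by
    refine WidePullback.hom_ext _ _ _ (fun k => ?_) ?_
    · rw [Category.assoc, σ_π, hMap_π, Category.assoc, hMap_π, ← Category.assoc, σ_π]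
      have h1 : j.predAbove (i.succ.predAbove k) = i.predAbove (j.castSucc.predAbove k) := by
        have := SimplexCategory.σ_comp_σ hij
        exact (congrArg (fun φ => φ.toOrderHom k) this).symm
      have h2 : (i.succ.predAbove k ≤ j.castSucc) ↔ (k ≤ j.castSucc.castSucc) := by
        clear h1
        simp only [Fin.predAbove, Fin.lt_def, Fin.le_def] at hij ⊢
        split_ifs with h3
        · simp only [Fin.val_castSucc, Fin.val_succ, Fin.val_pred] at h3 ⊢
          omega
        · simp only [Fin.val_castSucc, Fin.val_succ, Fin.coe_castPred] at h3 ⊢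
      rw [h1]
      simp only [h2]
    · rw [Category.assoc, σ_base, hMap_base, Category.assoc, hMap_base, σ_base]

end

/-- For a morphism `f : Y ⟶ X` with a section `s`, the endomorphism of the Čech nerve of `f` (the
simplicial object of iterated fibre products of `Y` over `X`) that applies `s ∘ f` factorwise admits
simplicial homotopies to and from the identity: the published formula gives one direction and its
mirror image (exchange the roles of the identity and `s ∘ f`) gives the other. -/
theorem result {C : Type u} [Category.{v} C] {Y X : C} (f : Y ⟶ X) (s : X ⟶ Y) (hs : s ≫ f = 𝟙 X) [∀ n : ℕ, HasWidePullback (Arrow.mk f).right (fun _ : Fin (n + 1) => (Arrow.mk f).left) (fun _ => (Arrow.mk f).hom)] (φ : Arrow.mk f ⟶ Arrow.mk f) (hφl : φ.left = f ≫ s) (hφr : φ.right = 𝟙 X) : Nonempty (SimplicialObject.Homotopy (𝟙 (Arrow.mk f).cechNerve) (Arrow.mapCechNerve φ)) ∧ Nonempty (SimplicialObject.Homotopy (Arrow.mapCechNerve φ) (𝟙 (Arrow.mk f).cechNerve)) := by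
  have h1 : Arrow.mapCechNerve (𝟙 (Arrow.mk f)) = 𝟙 (Arrow.mk f).cechNerve := by
    ext n : 2
    refine WidePullback.hom_ext _ _ _ (fun k => ?_) ?_
    · exact (map_π f (𝟙 (Arrow.mk f)) k).trans (by simp)
    · exact (map_base f (𝟙 (Arrow.mk f)) rfl).trans (by simp)
  rw [← h1]
  exact ⟨⟨cechHomotopy f (𝟙 _) φ rfl hφr⟩, ⟨cechHomotopy f φ (𝟙 _) hφr rfl⟩⟩

end Groth.Agent.S6789
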