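import Groth.Statements.S6790
import Mathlib.Tactic.CategoryTheory.Monoidal.PureCoherence
import Mathlib.CategoryTheory.Monoidal.Rigid.Basic

set_option autoImplicit false
open CategoryTheory CategoryTheory.Limits MonoidalCategory
universe v u
open CategoryTheory CategoryTheory.Monoidal

namespace Groth.Agent.S6790

/-- In an idempotent-complete additive monoidal category, a direct summand of an object admitting a dual
(with coevaluation `𝟙_ A ⟶ X ⊗ Y` and evaluation `Y ⊗ X ⟶ 𝟙_ A`) again admits such a dual. -/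
theorem result {A : Type u} [Category.{v} A] [Preadditive A] [HasFiniteBiproducts A] [MonoidalCategory A] [MonoidalPreadditive A] [IsIdempotentComplete A] {X X₁ : A} (i : X₁ ⟶ X) (p : X ⟶ X₁) (hip : i ≫ p = 𝟙 X₁) [HasRightDual X] : Nonempty (HasRightDual X₁) := by
  let e : X ⟶ X := p ≫ i
  have hee : e ≫ e = e := by simp [e, reassoc_of% hip]
  let Y : A := HasRightDual.rightDual X
  let e' : Y ⟶ Y := rightAdjointMate e
  have he'e' : e' ≫ e' = e' := by
    have := comp_rightAdjointMate (f := e) (g := e)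
    rw [hee] at this
    exact this.symm
  obtain ⟨Y₁, j, q, hjq, hqj⟩ := IsIdempotentComplete.idempotents_split Y e' he'e'
  let η : 𝟙_ A ⟶ X ⊗ Y := ExactPairing.coevaluation X Y
  let ε : Y ⊗ X ⟶ 𝟙_ A := ExactPairing.evaluation X Y
  have h1 : Y ◁ η ≫ (α_ _ _ _).inv ≫ ε ▷ Y = (ρ_ Y).hom ≫ (λ_ Y).inv :=
    ExactPairing.coevaluation_evaluation X Y
  have h2 : η ▷ X ≫ (α_ _ _ _).hom ≫ X ◁ ε = (λ_ X).hom ≫ (ρ_ X).inv :=
    ExactPairing.evaluation_coevaluation X Y
  have h3 : η ≫ X ◁ e' = η ≫ e ▷ Y := coevaluation_comp_rightAdjointMate e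
  have h4 : e' ▷ X ≫ ε = Y ◁ e ≫ ε := rightAdjointMate_comp_evaluation e
  have hep : e ≫ p = p := by simp [e, hip]
  have hie : i ≫ e = i := by simp [e, reassoc_of% hip]
  have hje : j ≫ e' = j := by rw [← hqj, reassoc_of% hjq]
  have heq : e' ≫ q = q := by rw [← hqj, Category.assoc, hjq, Category.comp_id]
  refine ⟨{ rightDual := Y₁, exact := {
    coevaluation' := η ≫ (p ⊗ₘ q)
    evaluation' := (j ⊗ₘ i) ≫ ε
    coevaluation_evaluation' := ?_
    evaluation_coevaluation' := ?_ } }⟩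
  · have h5 : (j ⊗ₘ e) ≫ ε = j ▷ X ≫ ε := by
      rw [tensorHom_def, Category.assoc, ← h4, ← comp_whiskerRight_assoc, hje]
    calc Y₁ ◁ (η ≫ (p ⊗ₘ q)) ≫ (α_ _ _ _).inv ≫ ((j ⊗ₘ i) ≫ ε) ▷ Y₁
        = Y₁ ◁ η ≫ (α_ _ _ _).inv ≫ (((j ⊗ₘ e) ≫ ε) ⊗ₘ q) := by
          have h6 : Y₁ ◁ (p ⊗ₘ q) ≫ (α_ _ _ _).inv ≫ (j ⊗ₘ i) ▷ Y₁ =
              (α_ _ _ _).inv ≫ ((j ⊗ₘ e) ⊗ₘ q) := by
            rw [← id_tensorHom, associator_inv_naturality_assoc, ← tensorHom_id,
              tensorHom_comp_tensorHom, tensorHom_comp_tensorHom, Category.id_comp,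
              Category.comp_id]
          rw [MonoidalCategory.whiskerLeft_comp, comp_whiskerRight, Category.assoc,
            reassoc_of% h6, ← tensorHom_id, tensorHom_comp_tensorHom, Category.comp_id]
      _ = j ▷ _ ≫ (Y ◁ η ≫ (α_ _ _ _).inv ≫ ε ▷ Y) ≫ (𝟙_ A) ◁ q := by
          rw [h5, tensorHom_def, comp_whiskerRight]
          simp only [Category.assoc]
          rw [← associator_inv_naturality_left_assoc, ← whisker_exchange_assoc]
      _ = (ρ_ Y₁).hom ≫ (λ_ Y₁).inv := by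
          rw [h1]
          simp [reassoc_of% hjq]
  · have h5 : η ≫ (p ⊗ₘ e') = η ≫ p ▷ Y := by
      rw [tensorHom_def', ← Category.assoc, h3, Category.assoc, ← comp_whiskerRight, hep]
    calc (η ≫ (p ⊗ₘ q)) ▷ X₁ ≫ (α_ _ _ _).hom ≫ X₁ ◁ ((j ⊗ₘ i) ≫ ε)
        = ((η ≫ (p ⊗ₘ e')) ⊗ₘ i) ≫ (α_ _ _ _).hom ≫ X₁ ◁ ε := by
          have h6 : (p ⊗ₘ q) ▷ X₁ ≫ (α_ _ _ _).hom ≫ X₁ ◁ (j ⊗ₘ i) =
              ((p ⊗ₘ e') ⊗ₘ i) ≫ (α_ _ _ _).hom := by
            rw [← tensorHom_id, associator_naturality_assoc, ← id_tensorHom,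
              tensorHom_comp_tensorHom, tensorHom_comp_tensorHom, Category.id_comp,
              Category.comp_id, hqj, associator_naturality]
          rw [MonoidalCategory.whiskerLeft_comp, comp_whiskerRight, Category.assoc,
            reassoc_of% h6, ← tensorHom_id, tensorHom_comp_tensorHom_assoc, Category.id_comp]
      _ = (𝟙_ A) ◁ i ≫ (η ▷ X ≫ (α_ _ _ _).hom ≫ X ◁ ε) ≫ p ▷ _ := by
          rw [h5, tensorHom_def', comp_whiskerRight]
          simp only [Category.assoc]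
          rw [associator_naturality_left_assoc, whisker_exchange]
      _ = (λ_ X₁).hom ≫ (ρ_ X₁).inv := by
          rw [h2]
          simp [reassoc_of% hip]

end Groth.Agent.S6790
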