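import Groth.Statements.S6791
import Mathlib.CategoryTheory.Abelian.SerreClass.Localization

set_option autoImplicit false
open CategoryTheory CategoryTheory.Limits
universe v u v' u' v'' u''
open CategoryTheory CategoryTheory.SerreClass

namespace Groth.Agent.S6791

/-- For an exact functor `F : A ⥤ B` of abelian categories and a Serre class `P` of `A` killed by `F`,
with `L : A ⥤ Q` a model of the quotient `A/P` and `Fbar : Q ⥤ B` the induced functor, `P` is
exactly the kernel of `F` if and only if `Fbar` is faithful. -/
theorem result {A : Type u} [Category.{v} A] [Abelian A] {B : Type u'} [Category.{v'} B] [Abelian B] (F : A ⥤ B) [F.Additive] [PreservesFiniteLimits F] [PreservesFiniteColimits F] (P : ObjectProperty A) [P.IsSerreClass] (hP : ∀ X : A, P X → IsZero (F.obj X)) {Q : Type u''} [Category.{v''} Q] [Abelian Q] (L : A ⥤ Q) [L.IsLocalization P.isoModSerre] [L.Additive] [PreservesFiniteLimits L] [PreservesFiniteColimits L] (Fbar : Q ⥤ B) (e : L ⋙ Fbar ≅ F) : (∀ X : A, IsZero (F.obj X) → P X) ↔ Fbar.Faithful := by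
  have hFadd : (L ⋙ Fbar).Additive := Functor.additive_of_iso e.symm
  have hadd : Fbar.Additive :=
    (Localization.functor_additive_iff L P.isoModSerre Fbar).2 hFadd
  constructor
  · intro h
    apply Functor.faithful_of_comp_cancel_zero_of_hasLeftCalculusOfFractions L P.isoModSerre
    intro X₁ X₂ f hf
    rw [ObjectProperty.SerreClassLocalization.map_eq_zero_iff L P]
    apply h
    have hFf : F.map f = 0 := by
      have := e.hom.naturality f
      rw [Functor.comp_map, hf, zero_comp] at this
      rw [← cancel_epi (e.hom.app X₁), ← this, comp_zero]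
    rw [← Abelian.image.fac f, F.map_comp] at hFf
    have h1 : F.map (Abelian.factorThruImage f) = 0 := by
      rw [← cancel_mono (F.map (Abelian.image.ι f)), hFf, zero_comp]
    rw [IsZero.iff_id_eq_zero, ← cancel_epi (F.map (Abelian.factorThruImage f)), h1]
    simp
  · intro hfaith X hX
    rw [← ObjectProperty.SerreClassLocalization.isZero_obj_iff L P]
    have h1 : IsZero (Fbar.obj (L.obj X)) := hX.of_iso (e.app X)
    rw [IsZero.iff_id_eq_zero]
    apply Fbar.map_injective
    exact h1.eq_of_src _ _

end Groth.Agent.S6791
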