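import Groth.Statements.S6795


set_option autoImplicit false
open CategoryTheory CategoryTheory.Limits
universe v u
open CategoryTheory CategoryTheory.Preadditive

namespace Groth.Agent.S6795

/-- A preadditive category with countable products in which split epimorphisms have kernels is
idempotent complete (Karoubian). -/
theorem result {D : Type u} [Category.{v} D] [Preadditive D] [HasCountableProducts D] (hk : ∀ ⦃X Y : D⦄ (f : X ⟶ Y), IsSplitEpi f → HasKernel f) : IsIdempotentComplete D := by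
  rw [Idempotents.isIdempotentComplete_iff_idempotents_have_kernels]
  intro X e he
  let P : D := ∏ᶜ fun _ : ℕ => X
  let Φ : P ⟶ P := Pi.lift (fun n => Pi.π _ n ≫ e + Pi.π _ (n+1) ≫ (𝟙 X - e))
  let Ψ : P ⟶ P := Pi.lift (fun n => match n with
    | 0 => Pi.π _ 0
    | n+1 => Pi.π _ n ≫ (𝟙 X - e) + Pi.π _ (n+1) ≫ e)
  have hΦ : ∀ n, Φ ≫ Pi.π (fun _ : ℕ => X) n =
      Pi.π _ n ≫ e + Pi.π _ (n+1) ≫ (𝟙 X - e) := fun n => by simp [Φ]
  have hΨ0 : Ψ ≫ Pi.π (fun _ : ℕ => X) 0 = Pi.π _ 0 := by simp [Ψ]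
  have hΨ1 : ∀ n, Ψ ≫ Pi.π (fun _ : ℕ => X) (n+1) =
      Pi.π _ n ≫ (𝟙 X - e) + Pi.π _ (n+1) ≫ e := fun n => by simp [Ψ]
  have hee : e ≫ (𝟙 X - e) = 0 := by simp [he]
  have hee' : (𝟙 X - e) ≫ e = 0 := by simp [he]
  have hff : (𝟙 X - e) ≫ (𝟙 X - e) = 𝟙 X - e := by
    rw [Preadditive.comp_sub, hee']; simp
  have hsplit : Ψ ≫ Φ = 𝟙 P := by
    apply Pi.hom_ext
    intro n
    rw [Category.assoc, hΦ, Preadditive.comp_add, ← Category.assoc, ← Category.assoc, hΨ1]
    cases n with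
    | zero =>
      rw [hΨ0, Preadditive.add_comp, Category.assoc, Category.assoc, hff, hee]
      simp
    | succ n =>
      rw [hΨ1, Preadditive.add_comp, Preadditive.add_comp]
      simp only [Category.assoc, hff, hee, hee', he]
      simp
  have hs : IsSplitEpi Φ := ⟨⟨⟨Ψ, hsplit⟩⟩⟩
  have hker := hk Φ hs
  have key : ∀ {W : D} (a : W ⟶ P), a ≫ Φ = 0 →
      (a ≫ Pi.π (fun _ : ℕ => X) 0) ≫ e = 0 ∧
      ∀ n, a ≫ Pi.π (fun _ : ℕ => X) (n+1) = 0 := by
    intro W a ha
    have h1 : ∀ n, (a ≫ Pi.π (fun _ : ℕ => X) n) ≫ e +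
        (a ≫ Pi.π (fun _ : ℕ => X) (n+1)) ≫ (𝟙 X - e) = 0 := by
      intro n
      have : a ≫ Φ ≫ Pi.π (fun _ : ℕ => X) n = 0 := by rw [← Category.assoc, ha, zero_comp]
      rw [hΦ, Preadditive.comp_add] at this
      simpa only [Category.assoc] using this
    have h2 : ∀ n, (a ≫ Pi.π (fun _ : ℕ => X) n) ≫ e = 0 := by
      intro n
      have := h1 n =≫ e
      rw [Preadditive.add_comp, Category.assoc, Category.assoc, he, Category.assoc, hee',
        comp_zero, add_zero, zero_comp] at this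
      rw [Category.assoc]; exact this
    have h3 : ∀ n, (a ≫ Pi.π (fun _ : ℕ => X) (n+1)) ≫ (𝟙 X - e) = 0 := by
      intro n
      have := h1 n
      rwa [h2, zero_add] at this
    refine ⟨h2 0, fun n => ?_⟩
    have h4 := h3 n
    rw [Preadditive.comp_sub, h2 (n+1), sub_zero, Category.comp_id] at h4
    exact h4
  obtain ⟨hk1, hk2⟩ := key (kernel.ι Φ) (kernel.condition Φ)
  refine ⟨⟨⟨KernelFork.ofι (kernel.ι Φ ≫ Pi.π (fun _ : ℕ => X) 0) hk1, ?_⟩⟩⟩
  refine KernelFork.IsLimit.ofι _ _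
    (fun {W} g hg => kernel.lift Φ (Pi.lift (fun n => match n with | 0 => g | _ + 1 => 0)) ?_)
    ?_ ?_
  · apply Pi.hom_ext
    intro n
    rw [Category.assoc, hΦ, Preadditive.comp_add]
    cases n with
    | zero => simp [hg]
    | succ n => simp
  · intro W g hg
    simp
  · intro W g hg m hm
    apply equalizer.hom_ext
    apply Pi.hom_ext
    intro n
    cases n with
    | zero =>
      simpa using hm
    | succ n =>
      have := hk2 n
      simp [this]

end Groth.Agent.S6795
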