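import Groth.Statements.S6807
import Groth.Agent.Ega3A.MLComplex
import Groth.Agent.S6787

set_option autoImplicit false
open CategoryTheory CategoryTheory.Limits
universe u
open HomAlg3

namespace Groth.Agent.S6807

/-- For an inverse system of cochain complexes of abelian groups over `ℕ` whose terms in degrees `n-2`
and `n-1` form Mittag-Leffler systems and whose degree-`(n-1)` cohomologies form an essentially
constant system, the canonical map from the degree-`n` cohomology of the limit complex to the limit
of the degree-`n` cohomologies is an isomorphism. (The published statement is for four-term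
complexes in degrees `-2, …, 1`; only those four degrees of a longer complex enter.) -/
theorem result (K : ℕᵒᵖ ⥤ HomologicalComplex AddCommGrpCat.{u} (ComplexShape.up ℤ)) (n : ℤ) (h2 : ((K ⋙ HomologicalComplex.eval _ _ (n - 2)) ⋙ forget AddCommGrpCat).IsMittagLeffler) (h1 : ((K ⋙ HomologicalComplex.eval _ _ (n - 1)) ⋙ forget AddCommGrpCat).IsMittagLeffler) (hH : ∃ (C₀ : AddCommGrpCat.{u}) (c : (Functor.const ℕᵒᵖ).obj C₀ ⟶ K ⋙ HomologicalComplex.homologyFunctor _ _ (n - 1)), DerCA.IsEssConstant (K ⋙ HomologicalComplex.homologyFunctor _ _ (n - 1)) C₀ c) : IsIso (limit.post K (HomologicalComplex.homologyFunctor _ _ n)) := by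
  obtain ⟨C₀, c, hc⟩ := hH
  have hH := Groth.Agent.S6787.isMittagLeffler_of_essConstant hc
  have hn : (ComplexShape.up ℤ).prev n = n - 1 := by
    apply (ComplexShape.up ℤ).prev_eq'; simp
  have hm : (ComplexShape.up ℤ).prev (n - 1) = n - 2 := by
    apply (ComplexShape.up ℤ).prev_eq'; simp; ring
  have hn' : (ComplexShape.up ℤ).next n = n + 1 := by
    apply (ComplexShape.up ℤ).next_eq'; simp
  have hm' : (ComplexShape.up ℤ).next (n - 1) = n := by
    apply (ComplexShape.up ℤ).next_eq'; simp
  have hpost : ∀ (h : ((limit K).homology n : AddCommGrpCat)) (a : ℕᵒᵖ),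
      (limit.π (K ⋙ HomologicalComplex.homologyFunctor _ _ n) a).hom
        ((limit.post K (HomologicalComplex.homologyFunctor _ _ n)).hom h) =
      (HomologicalComplex.homologyMap (limit.π K a) n).hom h := fun h a =>
    congrArg (fun g => g.hom h) (limit.post_π K (HomologicalComplex.homologyFunctor _ _ n) a)
  have hlim : ∀ q, IsLimit ((HomologicalComplex.eval _ _ q).mapCone (limit.cone K)) := fun q =>
    isLimitOfPreserves _ (limit.isLimit K)
  have hbij : Function.Bijective (limit.post K (HomologicalComplex.homologyFunctor _ _ n)).hom := by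
    refine ⟨?_, fun s => ?_⟩
    · rw [injective_iff_map_eq_zero]
      intro x hx
      refine Ega3A.MLComplex.homology_eq_zero Ega3A.MLBasic.nat_cof (n - 2) (n - 1) n hm hn hm' h2 hH
        (limit.cone K) (hlim (n - 1)) (hlim n) x (fun a => ?_)
      have := hpost x a
      rw [hx, map_zero] at this
      exact this.symm
    · obtain ⟨h, hh⟩ := Ega3A.MLComplex.exists_homology_lift Ega3A.MLBasic.nat_cof (n - 1) n (n + 1)
        hn hn' h1 (limit.cone K) (hlim n) (hlim _)
        ⟨fun a => (limit.π (K ⋙ HomologicalComplex.homologyFunctor _ _ n) a).hom s,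
          fun {a b} f => congrArg (fun g => g.hom s)
            (limit.w (K ⋙ HomologicalComplex.homologyFunctor _ _ n) f)⟩
      refine ⟨h, ?_⟩
      apply Concrete.limit_ext
      intro a
      exact (hpost h a).trans (hh a)
  exact (ConcreteCategory.isIso_iff_bijective _).2 hbij

end Groth.Agent.S6807
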