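import Groth.Statements.S6808

set_option autoImplicit false
open CategoryTheory Opposite
universe u
open SSet

namespace Groth.Agent.S6808

/-- A map of simplicial sets preserving non-degeneracy of simplices and injective on non-degenerate
simplices is injective in every dimension. -/
theorem result {U V : SSet.{u}} (f : U ⟶ V) (ha : ∀ (n : ℕ) (x : U.obj (op (SimplexCategory.mk n))), x ∈ U.nonDegenerate n → f.app (op (SimplexCategory.mk n)) x ∈ V.nonDegenerate n) (hb : ∀ n : ℕ, Set.InjOn (f.app (op (SimplexCategory.mk n))) (U.nonDegenerate n)) (n : ℕ) : Function.Injective (f.app (op (SimplexCategory.mk n))) := by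
  intro x y hxy
  obtain ⟨m₁, s₁, _, x', rfl⟩ := U.exists_nonDegenerate x
  obtain ⟨m₂, s₂, _, y', rfl⟩ := U.exists_nonDegenerate y
  rw [NatTrans.naturality_apply, NatTrans.naturality_apply] at hxy
  obtain rfl : m₁ = m₂ := V.unique_nonDegenerate_dim _ s₁ ⟨_, ha _ _ x'.2⟩ rfl s₂ ⟨_, ha _ _ y'.2⟩ hxy
  obtain rfl : s₁ = s₂ :=
    V.unique_nonDegenerate_map _ s₁ ⟨_, ha _ _ x'.2⟩ rfl s₂ ⟨_, ha _ _ y'.2⟩ hxy
  have h1 := V.unique_nonDegenerate_simplex _ s₁ ⟨_, ha _ _ x'.2⟩ rfl s₁ ⟨_, ha _ _ y'.2⟩ hxy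
  have h2 : x'.1 = y'.1 := hb _ x'.2 y'.2 (congrArg Subtype.val h1)
  rw [h2]

end Groth.Agent.S6808
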