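import Groth.Statements.S6815
import Mathlib.CategoryTheory.Limits.Preserves.Shapes.Products
import Mathlib.CategoryTheory.Limits.FunctorCategory.Basic

set_option autoImplicit false
open CategoryTheory CategoryTheory.Limits
universe w v u
open CategoryTheory CategoryTheory.SimplicialObject

namespace Groth.Agent.S6815

open Opposite Simplicial in
/-- Joint injectivity of the projections of a product of simplicial objects, degreewise. -/
theorem pi_app_hom_ext {C : Type u} [Category.{v} C] {T : Type w} [HasLimitsOfShape (Discrete T) C]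
    {Y : T → SimplicialObject C} {n : SimplexCategoryᵒᵖ} {S : C} (a b : S ⟶ (∏ᶜ Y).obj n)
    (h : ∀ t, a ≫ (Pi.π Y t).app n = b ≫ (Pi.π Y t).app n) : a = b := by
  let L := isLimitOfPreserves ((evaluation SimplexCategoryᵒᵖ C).obj n)
    (limit.isLimit (Discrete.functor Y))
  apply L.hom_ext
  rintro ⟨t⟩
  exact h t

open Opposite Simplicial in
/-- Lifting a family of morphisms to the product of simplicial objects, degreewise. -/
theorem pi_app_lift {C : Type u} [Category.{v} C] {T : Type w} [HasLimitsOfShape (Discrete T) C]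
    {Y : T → SimplicialObject C} {n : SimplexCategoryᵒᵖ} {S : C} (a : ∀ t, S ⟶ (Y t).obj n) :
    ∃ l : S ⟶ (∏ᶜ Y).obj n, ∀ t, l ≫ (Pi.π Y t).app n = a t := by
  let L := isLimitOfPreserves ((evaluation SimplexCategoryᵒᵖ C).obj n)
    (limit.isLimit (Discrete.functor Y))
  let c : Cone (Discrete.functor Y ⋙ (evaluation SimplexCategoryᵒᵖ C).obj n) :=
    { pt := S
      π := Discrete.natTrans (fun t => a t.as) }
  refine ⟨L.lift c, fun t => ?_⟩
  exact L.fac c ⟨t⟩

/-- Homotopies between the factors of two product morphisms of simplicial objects assemble to a homotopy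
between the products. -/
theorem result {C : Type u} [Category.{v} C] {T : Type w} [HasLimitsOfShape (Discrete T) C] {X Y : T → SimplicialObject C} (a b : ∀ t, X t ⟶ Y t) (h : ∀ t, Nonempty (SimplicialObject.Homotopy (a t) (b t))) : Nonempty (SimplicialObject.Homotopy (Limits.Pi.map a) (Limits.Pi.map b)) := by
  let H : ∀ t, SimplicialObject.Homotopy (a t) (b t) := fun t => (h t).some
  let l : ∀ {n : ℕ} (i : Fin (n + 1)), (∏ᶜ X).obj (Opposite.op (SimplexCategory.mk n)) ⟶
      (∏ᶜ Y).obj (Opposite.op (SimplexCategory.mk (n + 1))) := fun {n} i =>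
    (pi_app_lift (fun t => (Pi.π X t).app _ ≫ (H t).h i)).choose
  have hl : ∀ {n : ℕ} (i : Fin (n + 1)) (t : T), l i ≫ (Pi.π Y t).app _ =
      (Pi.π X t).app _ ≫ (H t).h i := fun {n} i t =>
    (pi_app_lift (fun t => (Pi.π X t).app _ ≫ (H t).h i)).choose_spec t
  have hmap : ∀ (c : ∀ t, X t ⟶ Y t) (n) (t : T), (Limits.Pi.map c).app n ≫ (Pi.π Y t).app n =
      (Pi.π X t).app n ≫ (c t).app n := fun c n t => by
    rw [← NatTrans.comp_app, Limits.Pi.map_π, NatTrans.comp_app]
  have hδX : ∀ {n : ℕ} (i : Fin (n + 2)) (t : T), (∏ᶜ X).δ i ≫ (Pi.π X t).app _ =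
      (Pi.π X t).app _ ≫ (X t).δ i := fun i t => ((Pi.π X t).naturality _)
  have hδY : ∀ {n : ℕ} (i : Fin (n + 2)) (t : T), (∏ᶜ Y).δ i ≫ (Pi.π Y t).app _ =
      (Pi.π Y t).app _ ≫ (Y t).δ i := fun i t => ((Pi.π Y t).naturality _)
  have hσX : ∀ {n : ℕ} (i : Fin (n + 1)) (t : T), (∏ᶜ X).σ i ≫ (Pi.π X t).app _ =
      (Pi.π X t).app _ ≫ (X t).σ i := fun i t => ((Pi.π X t).naturality _)
  have hσY : ∀ {n : ℕ} (i : Fin (n + 1)) (t : T), (∏ᶜ Y).σ i ≫ (Pi.π Y t).app _ =
      (Pi.π Y t).app _ ≫ (Y t).σ i := fun i t => ((Pi.π Y t).naturality _)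
  refine ⟨{ h := l
            h_zero_comp_δ_zero := ?_
            h_last_comp_δ_last := ?_
            h_succ_comp_δ_castSucc_of_lt := ?_
            h_succ_comp_δ_castSucc_succ := ?_
            h_castSucc_comp_δ_succ_of_lt := ?_
            h_comp_σ_castSucc_of_le := ?_
            h_comp_σ_succ_of_lt := ?_ }⟩
  · intro n
    apply pi_app_hom_ext
    intro t
    rw [Category.assoc, hδY, reassoc_of% hl, (H t).h_zero_comp_δ_zero, hmap]
  · intro n
    apply pi_app_hom_ext
    intro t
    rw [Category.assoc, hδY, reassoc_of% hl, (H t).h_last_comp_δ_last, hmap]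
  · intro n i j hij
    apply pi_app_hom_ext
    intro t
    rw [Category.assoc, hδY, reassoc_of% hl, (H t).h_succ_comp_δ_castSucc_of_lt i j hij,
      Category.assoc, hl, reassoc_of% hδX]
  · intro n j
    apply pi_app_hom_ext
    intro t
    rw [Category.assoc, hδY, reassoc_of% hl, (H t).h_succ_comp_δ_castSucc_succ j,
      Category.assoc, hδY, reassoc_of% hl]
  · intro n i j hij
    apply pi_app_hom_ext
    intro t
    rw [Category.assoc, hδY, reassoc_of% hl, (H t).h_castSucc_comp_δ_succ_of_lt i j hij,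
      Category.assoc, hl, reassoc_of% hδX]
  · intro n i j hij
    apply pi_app_hom_ext
    intro t
    rw [Category.assoc, hσY, reassoc_of% hl, (H t).h_comp_σ_castSucc_of_le i j hij,
      Category.assoc, hl, reassoc_of% hσX]
  · intro n i j hij
    apply pi_app_hom_ext
    intro t
    rw [Category.assoc, hσY, reassoc_of% hl, (H t).h_comp_σ_succ_of_lt i j hij,
      Category.assoc, hl, reassoc_of% hσX]

end Groth.Agent.S6815
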