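import Groth.Statements.S6816

set_option autoImplicit false
open CategoryTheory CategoryTheory.Limits
universe v u
open CochainComplex

namespace Groth.Agent.S6816

theorem aux {D : Type u} [Category.{v} D] [Preadditive D] {X₁ X₂ X₃ Y₁ Y₂ Y₃ : D}
    (f : X₁ ⟶ X₂) (g : X₂ ⟶ X₃) (f' : Y₁ ⟶ Y₂) (g' : Y₂ ⟶ Y₃)
    (d₁ : X₁ ⟶ Y₁) (d₂ : X₂ ⟶ Y₂) (d₃ : X₃ ⟶ Y₃) (h₁ : f ≫ d₂ = d₁ ≫ f') (h₂ : g ≫ d₃ = d₂ ≫ g')
    (r : X₂ ⟶ X₁) (s s' : X₃ ⟶ X₂) (ρ ρ' : Y₂ ⟶ Y₁) (σ' : Y₃ ⟶ Y₂)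
    (e₁ : r ≫ f + g ≫ s = 𝟙 X₂) (e₂ : s' ≫ g = 𝟙 X₃) (e₃ : s ≫ g = 𝟙 X₃)
    (e₄ : ρ' ≫ f' + g' ≫ σ' = 𝟙 Y₂) (e₅ : f' ≫ ρ = 𝟙 Y₁) (e₆ : f' ≫ ρ' = 𝟙 Y₁) :
    s' ≫ d₂ ≫ ρ' = s ≫ d₂ ≫ ρ + ((s' ≫ r) ≫ d₁ - d₃ ≫ σ' ≫ ρ) := by
  have a₁ : s' = s' ≫ r ≫ f + s := by
    conv_lhs => rw [← Category.comp_id s', ← e₁, Preadditive.comp_add, reassoc_of% e₂]
  have a₂ : ρ = ρ' + g' ≫ σ' ≫ ρ := by
    conv_lhs => rw [← Category.id_comp ρ, ← e₄, Preadditive.add_comp, Category.assoc,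
      Category.assoc, e₅, Category.comp_id]
  have a₃ : ρ' = ρ - g' ≫ σ' ≫ ρ := by
    rw [eq_sub_iff_add_eq, ← a₂]
  have b₁ : s' ≫ d₂ ≫ ρ' = s ≫ d₂ ≫ ρ' + (s' ≫ r) ≫ d₁ := by
    conv_lhs => rw [a₁, Preadditive.add_comp, Category.assoc, Category.assoc, reassoc_of% h₁, e₆,
      Category.comp_id]
    rw [Category.assoc, add_comm]
  have b₂ : s ≫ d₂ ≫ ρ' = s ≫ d₂ ≫ ρ - d₃ ≫ σ' ≫ ρ := by
    rw [a₃, Preadditive.comp_sub, Preadditive.comp_sub, ← reassoc_of% h₂, reassoc_of% e₃]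
  rw [b₁, b₂]
  abel

/-- The boundary morphisms `C ⟶ A⟦1⟧` attached to two degreewise splittings of a degreewise split
sequence `A ⟶ B ⟶ C` of cochain complexes are homotopic. -/
theorem result {C : Type u} [Category.{v} C] [Preadditive C] [HasBinaryBiproducts C] (S : ShortComplex (CochainComplex C ℤ)) (σ σ' : ∀ n : ℤ, (S.map (HomologicalComplex.eval C (ComplexShape.up ℤ) n)).Splitting) : Nonempty (Homotopy (CochainComplex.homOfDegreewiseSplit S σ) (CochainComplex.homOfDegreewiseSplit S σ')) := by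
  let h : HomComplex.Cochain S.X₃ S.X₁ 0 :=
    HomComplex.Cochain.ofHoms (fun n => (σ' n).s ≫ (σ n).r)
  let c := (cocycleOfDegreewiseSplit S σ).1
  let c' := (cocycleOfDegreewiseSplit S σ').1
  have key : c' = c + HomComplex.δ 0 1 h := by
    ext p _ rfl
    rw [HomComplex.Cochain.add_v, HomComplex.δ_zero_cochain_v]
    simp only [h, HomComplex.Cochain.ofHoms_v]
    exact aux (S.f.f p) (S.g.f p) (S.f.f (p + 1)) (S.g.f (p + 1)) (S.X₁.d p (p + 1))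
      (S.X₂.d p (p + 1)) (S.X₃.d p (p + 1)) (S.f.comm _ _) (S.g.comm _ _)
      (σ p).r (σ p).s (σ' p).s (σ (p + 1)).r (σ' (p + 1)).r (σ' (p + 1)).s
      (σ p).id (σ' p).s_g (σ p).s_g (σ' (p + 1)).id (σ (p + 1)).f_r (σ' (p + 1)).f_r
  refine ⟨(HomComplex.Cochain.equivHomotopy _ _).symm ⟨h.rightShift 1 (-1) (by lia), ?_⟩⟩
  rw [HomComplex.Cochain.δ_rightShift _ 1 (-1) 0 _ 1 (by lia)]
  have e1 : ∀ τ, HomComplex.Cochain.ofHom (homOfDegreewiseSplit S τ) =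
      (cocycleOfDegreewiseSplit S τ).1.rightShift 1 0 (zero_add 1) := by
    intro τ
    exact HomComplex.Cocycle.cochain_ofHom_homOf_eq_coe _
  rw [e1, e1]
  change c.rightShift 1 0 _ = _ + c'.rightShift 1 0 _
  rw [key, HomComplex.Cochain.rightShift_add]
  simp

end Groth.Agent.S6816
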