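import Groth.Statements.S6818
import Groth.Agent.CategoryTheory.K356.Sk

set_option autoImplicit false
open CategoryTheory CategoryTheory.Limits Opposite
universe v u
open CategoryTheory CategoryTheory.Abelian

namespace Groth.Agent.S6818

open K356.Sk AlgebraicTopology.DoldKan in

/-- For a simplicial object `U` of an abelian category and `n ≥ 0`, the subobjects `U'_m ⊆ U_m`
generated by the images of all `U_i ⟶ U_m` induced by maps `[m] ⟶ [i]` with `i ≤ n` form a
simplicial subobject equal to `U` in dimensions `≤ n` whose normalized part vanishes in dimensions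
`> n`. Here the normalized subobject of `U_m` is the joint kernel of the faces `d_1, …, d_m`; the
published statement uses the faces `d_0, …, d_{m-1}`, the mirror-image convention, and both versions
hold. -/
theorem result {A : Type u} [Category.{v} A] [Abelian A] (U : SimplicialObject A) (n : ℕ) (U' : ∀ m : ℕ, Subobject (U.obj (op (SimplexCategory.mk m)))) (hU' : ∀ m : ℕ, IsLUB (Set.range (fun φ : Σ i : Fin (n + 1), (SimplexCategory.mk m ⟶ SimplexCategory.mk i) => imageSubobject (U.map φ.2.op))) (U' m)) : (∀ (m m' : ℕ) (ψ : SimplexCategory.mk m' ⟶ SimplexCategory.mk m), imageSubobject ((U' m).arrow ≫ U.map ψ.op) ≤ U' m') ∧ (∀ i : ℕ, i ≤ n → U' i = ⊤) ∧ (∀ m : ℕ, n < m → U' m ⊓ AlgebraicTopology.NormalizedMooreComplex.objX U m = ⊥) := by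
  have hle : ∀ (m : ℕ) (i : Fin (n + 1)) (φ : SimplexCategory.mk m ⟶ SimplexCategory.mk i),
      imageSubobject (U.map φ.op) ≤ U' m := fun m i φ => (hU' m).1 ⟨⟨i, φ⟩, rfl⟩
  refine ⟨fun m m' ψ => ?_, fun i hi => ?_, fun m hm => ?_⟩
  · rw [imageSubobject_le_iff, Category.assoc]
    refine lub_comp_zero (fun φ : Σ i : Fin (n + 1), (SimplexCategory.mk m ⟶ SimplexCategory.mk i) =>
      U.map φ.2.op) (U' m) (hU' m) _ (fun φ => ?_)
    have := hle m' φ.1 (ψ ≫ φ.2)
    rw [imageSubobject_le_iff, op_comp, U.map_comp, Category.assoc] at this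
    exact this
  · have := hle i ⟨i, Nat.lt_succ_of_le hi⟩ (𝟙 _)
    rw [op_id, U.map_id] at this
    rw [eq_top_iff]
    refine le_trans ?_ this
    rw [le_iff_comp_cokernel]
    have h2 := (imageSubobject_le_iff (𝟙 (U.obj (op (SimplexCategory.mk i)))) _).1
      (le_refl (imageSubobject (𝟙 (U.obj (op (SimplexCategory.mk i))))))
    rw [Category.id_comp] at h2
    rw [h2, comp_zero]
  · apply eq_bot_of_arrow_eq_zero
    set P := U' m ⊓ AlgebraicTopology.NormalizedMooreComplex.objX U m with hP
    have h1 : P ≤ U' m := inf_le_left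
    have h2 : P ≤ AlgebraicTopology.NormalizedMooreComplex.objX U m := inf_le_right
    have h3 : P.arrow ≫ (PInfty (X := U)).f m = P.arrow := by
      rw [← Subobject.ofLE_arrow h2, Category.assoc, objX_arrow_comp_PInfty]
    have h4 : (U' m).arrow ≫ (PInfty (X := U)).f m = 0 := by
      refine lub_comp_zero
        (fun φ : Σ i : Fin (n + 1), (SimplexCategory.mk m ⟶ SimplexCategory.mk i) =>
        U.map φ.2.op) (U' m) (hU' m) _ (fun φ => ?_)
      exact degeneracy_comp U φ.2 (lt_of_le_of_lt (Nat.le_of_lt_succ φ.1.2) hm)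
    rw [← h3, ← Subobject.ofLE_arrow h1, Category.assoc, h4, comp_zero]

end Groth.Agent.S6818
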