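import Groth.Statements.S6819
import Groth.Agent.CategoryTheory.K356.Sk

set_option autoImplicit false
open CategoryTheory CategoryTheory.Limits Opposite
universe v u
open CategoryTheory CategoryTheory.Abelian

namespace Groth.Agent.S6819

open K356.Sk in

/-- For a simplicial object `U` of an abelian category, the counit `i_{n!} sk_n U ⟶ U` of the skeleton
adjunction is a monomorphism in each degree, with image the subobject generated by the images of the
maps `U_i ⟶ U_m` induced by `[m] ⟶ [i]`, `i ≤ n`. -/
theorem result {A : Type u} [Category.{v} A] [Abelian A] (U : SimplicialObject A) (n : ℕ) (U' : ∀ m : ℕ, Subobject (U.obj (op (SimplexCategory.mk m)))) (hU' : ∀ m : ℕ, IsLUB (Set.range (fun φ : Σ i : Fin (n + 1), (SimplexCategory.mk m ⟶ SimplexCategory.mk i) => imageSubobject (U.map φ.2.op))) (U' m)) [∀ F : (SimplexCategory.Truncated n)ᵒᵖ ⥤ A, (SimplexCategory.Truncated.inclusion n).op.HasLeftKanExtension F] (m : ℕ) : Mono (((SimplicialObject.skAdj n).counit.app U).app (op (SimplexCategory.mk m))) ∧ imageSubobject (((SimplicialObject.skAdj n).counit.app U).app (op (SimplexCategory.mk m)))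 = U' m := by
  let L := (SimplexCategory.Truncated.inclusion n).op
  let X := (SimplicialObject.Truncated.sk n).obj ((SimplicialObject.truncation n).obj U)
  let c : X ⟶ U := (SimplicialObject.skAdj n).counit.app U
  let α : (SimplicialObject.truncation n).obj U ⟶ L ⋙ X :=
    L.lanUnit.app ((SimplicialObject.truncation n).obj U)
  -- the counit is an isomorphism in degrees at most `n`
  have hpw : ∀ F : (SimplexCategory.Truncated n)ᵒᵖ ⥤ A,
      (SimplexCategory.Truncated.inclusion n).op.HasPointwiseLeftKanExtension F :=
    fun F => K356.TruncFin.hasPointwiseLeft n F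
  have hunit : IsIso (SimplicialObject.skAdj (C := A) n).unit :=
    SimplicialObject.Truncated.sk_coreflective n
  have hiso : IsIso ((SimplicialObject.truncation n).map c) := by
    have h1 := (SimplicialObject.skAdj n).right_triangle_components U
    have h2 : (SimplicialObject.truncation n).map c =
        inv ((SimplicialObject.skAdj n).unit.app ((SimplicialObject.truncation n).obj U)) := by
      rw [← cancel_epi ((SimplicialObject.skAdj n).unit.app ((SimplicialObject.truncation n).obj U)),
        IsIso.hom_inv_id]
      exact h1
    rw [h2]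
    infer_instance
  have hc : ∀ (a : SimplexCategory) (_ : a.len ≤ n), IsIso (c.app (op a)) := by
    intro a ha
    exact (inferInstance : IsIso (((SimplicialObject.truncation n).map c).app
      (op (⟨a, ha⟩ : SimplexCategory.Truncated n))))
  have hmono : Mono c := by
    have h1 : Mono ((AlgebraicTopology.normalizedMooreComplex A).map c) := by
      apply HomologicalComplex.mono_of_mono_f
      intro k
      have h2 : ((AlgebraicTopology.normalizedMooreComplex A).map c).f k ≫
          (AlgebraicTopology.NormalizedMooreComplex.objX U k).arrow =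
          (AlgebraicTopology.NormalizedMooreComplex.objX X k).arrow ≫
            c.app (op (SimplexCategory.mk k)) :=
        congrArg (fun φ => HomologicalComplex.Hom.f φ k)
          ((AlgebraicTopology.inclusionOfMooreComplex A).naturality c)
      by_cases hk : k ≤ n
      · have := hc (SimplexCategory.mk k) hk
        have h3 : Mono ((AlgebraicTopology.NormalizedMooreComplex.objX X k).arrow ≫
            c.app (op (SimplexCategory.mk k))) := inferInstance
        exact @mono_of_mono_fac _ _ _ _ _ _ _ _ h3 h2
      · have h3 := objX_eq_bot n X α k (not_le.1 hk)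
        have h4 : IsZero (((AlgebraicTopology.normalizedMooreComplex A).obj X).X k) := by
          change IsZero ((AlgebraicTopology.NormalizedMooreComplex.objX X k : Subobject _) : A)
          rw [h3]
          exact (isZero_zero A).of_iso Subobject.botCoeIsoZero
        exact ⟨fun a b _ => h4.eq_of_tgt a b⟩
    exact (CategoryTheory.Abelian.DoldKan.equivalence (A := A)).functor.mono_of_mono_map h1
  have hmono' : Mono (c.app (op (SimplexCategory.mk m))) := inferInstance
  refine ⟨hmono', le_antisymm ?_ ?_⟩
  · rw [imageSubobject_le_iff]
    apply hom_ext n X α (Y := SimplexCategory.mk m)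
    intro a ha θ
    have h1 : X.map θ.op ≫ c.app (op (SimplexCategory.mk m)) = c.app (op a) ≫ U.map θ.op :=
      c.naturality θ.op
    have h2 := (hU' m).1 ⟨⟨⟨a.len, Nat.lt_succ_of_le ha⟩, θ⟩, rfl⟩
    rw [imageSubobject_le_iff] at h2
    have h3 : U.map θ.op ≫ cokernel.π (U' m).arrow = 0 := h2
    rw [comp_zero]
    refine (Category.assoc _ _ _).symm.trans ?_
    erw [h1]
    rw [Category.assoc, h3, comp_zero]
  · apply (hU' m).2
    rintro _ ⟨φ, rfl⟩
    have := hc (SimplexCategory.mk φ.1) (Nat.le_of_lt_succ φ.1.2)
    have h1 : X.map φ.2.op ≫ c.app (op (SimplexCategory.mk m)) =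
        c.app (op (SimplexCategory.mk φ.1)) ≫ U.map φ.2.op := c.naturality φ.2.op
    have h2 : U.map φ.2.op = (inv (c.app (op (SimplexCategory.mk φ.1))) ≫ X.map φ.2.op) ≫
        c.app (op (SimplexCategory.mk m)) := by
      rw [Category.assoc, h1, IsIso.inv_hom_id_assoc]
    dsimp only
    rw [h2]
    exact imageSubobject_comp_le _ _

end Groth.Agent.S6819
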