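import Groth.Statements.S6820

set_option autoImplicit false
universe u
open Smoothing

namespace Groth.Agent.S6820

/-- Let A be a Noetherian ring, M a finite A-module, S a multiplicative subset of A and π an element of
A such that on the localised module S⁻¹M the kernels of multiplication by π and by π² agree. Then
there is an element s of S such that for every n > 0 the kernels of multiplication by sⁿπ and by
(sⁿπ)² on M agree. (Kernel equalities are written as implications, the reverse inclusions being
automatic.) -/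
theorem result {A : Type u} [CommRing A] [IsNoetherianRing A]
    (M : Type u) [AddCommGroup M] [Module A M] [Module.Finite A M] (S : Submonoid A) (π : A)
    (h : ∀ m : LocalizedModule S M, π ^ 2 • m = 0 → π • m = 0) :
    ∃ s ∈ S, ∀ n : ℕ, 0 < n → ∀ m : M, (s ^ n * π) ^ 2 • m = 0 → (s ^ n * π) • m = 0 := by
  -- the submodules `ker (s • ·)`, `s ∈ S`, have a maximal element
  let L : A → Submodule A M := fun s => LinearMap.ker (LinearMap.lsmul A M s)
  have hL : ∀ s m, m ∈ L s ↔ s • m = 0 := fun s m => Iff.rfl
  obtain ⟨_, ⟨s, hs, rfl⟩, hmax⟩ := set_has_maximal_iff_noetherian.mpr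
    (inferInstance : IsNoetherian A M) (L '' (S : Set A)) ⟨L 1, 1, S.one_mem, rfl⟩
  refine ⟨s, hs, fun n hn m hm => ?_⟩
  -- `π • m` is killed by an element of `S`
  have h1 : π ^ 2 • (LocalizedModule.mkLinearMap S M m) = 0 := by
    rw [← map_smul]
    refine (LocalizedModule.mk_eq (S := S)).mpr ?_ |>.trans (LocalizedModule.zero_mk (1 : S))
    refine ⟨⟨s ^ (n * 2), S.pow_mem hs _⟩, ?_⟩
    simp only [Submonoid.smul_def, Submonoid.coe_one, one_smul, smul_zero]
    rw [smul_smul, ← hm]
    congr 1
    ring
  have h2 := h _ h1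
  rw [← map_smul] at h2
  have h3 : LocalizedModule.mk (π • m) (1 : S) = LocalizedModule.mk 0 (1 : S) :=
    h2.trans (LocalizedModule.zero_mk (1 : S)).symm
  obtain ⟨t, ht⟩ := (LocalizedModule.mk_eq (S := S)).mp h3
  have ht' : (t : A) • (π • m) = 0 := by
    simpa [Submonoid.smul_def] using ht
  -- maximality
  have hle : L s ≤ L (s * t) := by
    intro x hx
    rw [hL] at hx ⊢
    rw [mul_comm, mul_smul, hx, smul_zero]
  have heq : L s = L (s * t) := by
    by_contra hne
    exact hmax (L (s * t)) ⟨s * t, S.mul_mem hs t.2, rfl⟩ (lt_of_le_of_ne hle hne)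
  have h4 : π • m ∈ L (s * t) := by
    rw [hL, mul_smul, ht', smul_zero]
  rw [← heq, hL] at h4
  obtain ⟨n, rfl⟩ : ∃ k, n = k + 1 := ⟨n - 1, by omega⟩
  rw [mul_smul, pow_succ, mul_smul, h4, smul_zero]

end Groth.Agent.S6820
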