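import Groth.Statements.S6821
import Groth.Agent.S2022

set_option autoImplicit false
universe u
open Smoothing

namespace Groth.Agent.S6821

/-- Let R → Λ be a flat ring map and I ⊆ R an ideal with I² = 0 such that Λ/IΛ is ind-smooth over R/I
(every map from a finitely presented algebra factors through a smooth one). Let B be a smooth
R-algebra, φ : B → Λ an R-algebra map and J ⊆ IB a finitely generated ideal with φ(J) = 0. Then
there are a smooth R-algebra B' and R-algebra maps α : B → B' and β : B' → Λ with α(J) = 0 and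
β(α(b)) − φ(b) ∈ IΛ for all b. -/
theorem result {R Λ B : Type u} [CommRing R] [CommRing Λ] [Algebra R Λ] [Module.Flat R Λ]
    (I : Ideal R) (hI : I ^ 2 = ⊥) (h : Smoothing.IndSmooth (R ⧸ I) (Λ ⧸ I.map (algebraMap R Λ)))
    [CommRing B] [Algebra R B] [Algebra.Smooth R B] (φ : B →ₐ[R] Λ) (J : Ideal B)
    (hJ : J ≤ I.map (algebraMap R B)) (hJfg : J.FG) (hφJ : ∀ x ∈ J, φ x = 0) :
    ∃ (B' : Type u) (_ : CommRing B') (_ : Algebra R B'), Algebra.Smooth R B' ∧
      ∃ (α : B →ₐ[R] B') (β : B' →ₐ[R] Λ), (∀ x ∈ J, α x = 0) ∧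
        ∀ b : B, β (α b) - φ b ∈ I.map (algebraMap R Λ) := by
  have hnil : IsNilpotent I := ⟨2, hI⟩
  have hind : Smoothing.IndSmooth R Λ := Groth.Agent.S2022.result I hnil h
  have hfp : Algebra.FinitePresentation R (B ⧸ J) := Algebra.FinitePresentation.quotient hJfg
  obtain ⟨B', _, _, hB', g, k, hk⟩ := hind (B ⧸ J) hfp (Ideal.Quotient.liftₐ J φ hφJ)
  refine ⟨B', inferInstance, inferInstance, hB', g.comp (Ideal.Quotient.mkₐ R J), k, ?_, ?_⟩
  · intro x hx
    change g (Ideal.Quotient.mk J x) = 0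
    rw [Ideal.Quotient.eq_zero_iff_mem.mpr hx, map_zero]
  · intro b
    have h1 : k (g (Ideal.Quotient.mk J b)) = φ b :=
      DFunLike.congr_fun hk (Ideal.Quotient.mk J b)
    change k (g (Ideal.Quotient.mk J b)) - φ b ∈ _
    rw [h1, sub_self]
    exact Submodule.zero_mem _

end Groth.Agent.S6821
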