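import Groth.Statements.S6822
import Groth.Agent.Smoothlim.Resolve
import Groth.Agent.Smoothlim.PopReduce

set_option autoImplicit false
universe u
open Smoothing

namespace Groth.Agent.S6822

open Groth.Agent.Smoothlim

/-- For surjective `R → R/K` the base change `(R/K) ⊗ A` is `A/KA`. -/
noncomputable def quotEquiv {R A : Type u} [CommRing R] [CommRing A] [Algebra R A] (K : Ideal R) :
    TensorProduct R (R ⧸ K) A ≃ₐ[R ⧸ K] (A ⧸ K.map (algebraMap R A)) :=
  PopReduce.tensorEquiv (Λ₁ := A ⧸ K.map (algebraMap R A))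
    Ideal.Quotient.mk_surjective
    Ideal.Quotient.mk_surjective (by
      have h : RingHom.ker (algebraMap R (R ⧸ K)) = K := Ideal.mk_ker
      have h' : RingHom.ker (algebraMap A (A ⧸ K.map (algebraMap R A))) = K.map (algebraMap R A) :=
        Ideal.mk_ker
      rw [h, h'])

/-- Resolvability of `A/KA → Λ/KΛ` implies resolvability of `(R/K) ⊗ A → Λ/KΛ`. -/
theorem resolvable_redHom {R A Λ : Type u} [CommRing R]
    [CommRing A] [Algebra R A] [Algebra.FinitePresentation R A] [CommRing Λ] [Algebra R Λ]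
    (φ : A →ₐ[R] Λ) (K : Ideal R) (𝔮 : Ideal (Λ ⧸ K.map (algebraMap R Λ)))
    (φK : (A ⧸ K.map (algebraMap R A)) →ₐ[R ⧸ K] (Λ ⧸ K.map (algebraMap R Λ)))
    (hφK : ∀ a : A, φK (Ideal.Quotient.mk _ a) = Ideal.Quotient.mk _ (φ a))
    (hres : Smoothing.Resolvable (R ⧸ K) φK 𝔮) :
    Smoothing.Resolvable (R ⧸ K) (Resolve.redHom φ K) 𝔮 := by
  obtain ⟨B, _, _, hB, g, h, hgh, h1, h2⟩ := hres
  let e := quotEquiv (A := A) K
  have he : φK.comp (e : TensorProduct R (R ⧸ K) A →ₐ[R ⧸ K] (A ⧸ K.map (algebraMap R A))) =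
      Resolve.redHom φ K := by
    apply AlgHom.ext
    intro x
    obtain ⟨a, rfl⟩ := PopReduce.exists_one_tmul
      (R := R) (R₁ := R ⧸ K) Ideal.Quotient.mk_surjective x
    rw [Resolve.redHom_one_tmul]
    change φK (e ((1 : R ⧸ K) ⊗ₜ[R] a)) = _
    have : e ((1 : R ⧸ K) ⊗ₜ[R] a) = Ideal.Quotient.mk _ a := by
      have h3 := Algebra.TensorProduct.lift_tmul
        (Algebra.ofId (R ⧸ K) (A ⧸ K.map (algebraMap R A)))
        (IsScalarTower.toAlgHom R A (A ⧸ K.map (algebraMap R A)))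
        (fun _ _ => Commute.all _ _) (1 : R ⧸ K) a
      rw [map_one, one_mul] at h3
      exact h3
    rw [this, hφK]
  refine ⟨B, inferInstance, inferInstance, hB,
    g.comp (e : TensorProduct R (R ⧸ K) A →ₐ[R ⧸ K] (A ⧸ K.map (algebraMap R A))), h, ?_, ?_, h2⟩
  · rw [← AlgHom.comp_assoc, hgh, he]
  · rw [← he]
    refine le_trans ?_ h1
    rw [Smoothing.singRad, Smoothing.singRad]
    apply Ideal.radical_mono
    rw [← SingIdeal.map_algEquiv e]
    exact le_of_eq (Ideal.map_map _ _).symm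


/-- Let R be Noetherian, A a finitely presented R-algebra, φ : A → Λ an R-algebra map and 𝔮 ⊆ Λ a prime.
Let r ≥ 1 and π₁, …, π_r ∈ R map into 𝔮, and assume: for each i the annihilators of π_i and of π_i²
agree in R/(π₁⁸, …, π_{i−1}⁸) and in Λ/(π₁⁸, …, π_{i−1}⁸)Λ, and each π_i maps to a strictly standard
element of A over R. Write K = (π₁⁸, …, π_r⁸). If the reduced problem R/K → A/KA → Λ/KΛ ⊇ 𝔮/KΛ can
be resolved (for the map A/KA → Λ/KΛ induced by φ), then R → A → Λ ⊇ 𝔮 can be resolved. -/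
theorem result {R A Λ : Type u} [CommRing R] [IsNoetherianRing R]
    [CommRing A] [Algebra R A] [Algebra.FinitePresentation R A] [CommRing Λ] [Algebra R Λ]
    (φ : A →ₐ[R] Λ) (𝔮 : Ideal Λ) [𝔮.IsPrime] {r : ℕ} (hr : 0 < r) (π : Fin r → R)
    (hπ𝔮 : ∀ i, algebraMap R Λ (π i) ∈ 𝔮)
    (hR : ∀ i : Fin r, ∀ x : R ⧸ Ideal.span (Set.range fun j : {j : Fin r // (j : ℕ) < (i : ℕ)} => π j ^ 8),
      Ideal.Quotient.mk _ (π i) ^ 2 * x = 0 → Ideal.Quotient.mk _ (π i) * x = 0)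
    (hΛ : ∀ i : Fin r, ∀ x : Λ ⧸ Ideal.span (Set.range fun j : {j : Fin r // (j : ℕ) < (i : ℕ)} =>
        algebraMap R Λ (π j) ^ 8),
      Ideal.Quotient.mk _ (algebraMap R Λ (π i)) ^ 2 * x = 0 → Ideal.Quotient.mk _ (algebraMap R Λ (π i)) * x = 0)
    (hstd : ∀ i, Smoothing.IsStrictlyStandard R A (algebraMap R A (π i)))
    (K : Ideal R) (hK : K = Ideal.span (Set.range fun i => π i ^ 8))
    (φK : (A ⧸ K.map (algebraMap R A)) →ₐ[R ⧸ K] (Λ ⧸ K.map (algebraMap R Λ)))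
    (hφK : ∀ a : A, φK (Ideal.Quotient.mk _ a) = Ideal.Quotient.mk _ (φ a))
    (hres : Smoothing.Resolvable (R ⧸ K) φK (𝔮.map (Ideal.Quotient.mk (K.map (algebraMap R Λ))))) :
    Smoothing.Resolvable R φ 𝔮 := by
  subst hK
  have hcond : ∀ {S : Type u} [CommRing S] (I : Ideal S) (a : S),
      (∀ x : S ⧸ I, Ideal.Quotient.mk _ a ^ 2 * x = 0 → Ideal.Quotient.mk _ a * x = 0) →
      ∀ x : S, a ^ 2 * x ∈ I → a * x ∈ I := by
    intro S _ I a h x hx
    rw [← Ideal.Quotient.eq_zero_iff_mem] at hx ⊢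
    rw [map_mul, map_pow] at hx
    rw [map_mul]
    exact h _ hx
  exact Resolve.resolvable_of_redHom φ 𝔮 r π
    (fun i => hcond _ _ (hR i)) (fun i => hcond _ _ (hΛ i)) hstd
    (resolvable_redHom φ _ _ φK hφK hres)

end Groth.Agent.S6822
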