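import Groth.Statements.S6825
import Groth.Agent.Smoothing.K359.EtaleSolve
import Groth.Agent.CalgB.GRing2
import Groth.Agent.S0543

set_option autoImplicit false
universe u
open Smoothing

namespace Groth.Agent.S6825

/-- Let R be a Noetherian local ring with maximal ideal m which is a G-ring, R^ its m-adic completion,
and F₁, …, F_m polynomials in n variables over R having a solution a = (a₁, …, a_n) in R^. Then for
every N there are an étale R-algebra R', an R-algebra map ψ : R' → R^, a maximal ideal m' of R'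
lying over m with κ(m) = κ(m') and ψ(m') ⊆ mR^, and a solution b = (b₁, …, b_n) of the system in R'
with a_i − ψ(b_i) ∈ m^N R^ for all i. (The source compares a and b inside R^ through the
identification of R^ with the completion of R' at m'; here that comparison map is the R-algebra map
ψ.) -/
theorem result {R : Type u} [CommRing R] [IsLocalRing R] (hG : CAlg.IsGRing R)
    {n m : ℕ} (F : Fin m → MvPolynomial (Fin n) R)
    (a : Fin n → AdicCompletion (IsLocalRing.maximalIdeal R) R) (ha : ∀ j, MvPolynomial.aeval a (F j) = 0)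
    (N : ℕ) :
    ∃ (R' : Type u) (_ : CommRing R') (_ : Algebra R R'), Algebra.Etale R R' ∧
      ∃ (ψ : R' →ₐ[R] AdicCompletion (IsLocalRing.maximalIdeal R) R) (m' : Ideal R'), m'.IsMaximal ∧
        m'.comap (algebraMap R R') = IsLocalRing.maximalIdeal R ∧
        (∀ x : R', ∃ r : R, x - algebraMap R R' r ∈ m') ∧
        (∀ x ∈ m', ψ x ∈ (IsLocalRing.maximalIdeal R).map
          (algebraMap R (AdicCompletion (IsLocalRing.maximalIdeal R) R))) ∧
        ∃ b : Fin n → R', (∀ j, MvPolynomial.aeval b (F j) = 0) ∧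
          ∀ i, a i - ψ (b i) ∈ (IsLocalRing.maximalIdeal R ^ N).map
            (algebraMap R (AdicCompletion (IsLocalRing.maximalIdeal R) R)) := by
  have hN : IsNoetherianRing R := hG.1
  let 𝔪 := IsLocalRing.maximalIdeal R
  let C := AdicCompletion 𝔪 R
  have fg : 𝔪.FG := IsNoetherian.noetherian 𝔪
  let 𝔫 : Ideal C := 𝔪.map (algebraMap R C)
  have hreg : CAlg.IsRegularHom R C :=
    (Groth.Agent.CalgB.GRing2.isGRing_iff_of_isLocalRing R).mp hG
  have hC : IsNoetherianRing C := Groth.Agent.S0543.result R 𝔪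
  have hcpl : IsAdicComplete 𝔫 C := AdicCompletion.isAdicComplete_self _ fg
  obtain ⟨R', _, _, hR', ψ, b, hb, hab, hres⟩ := K359.EtaleSolve.main hreg 𝔫 𝔪
    (fun s hs => ((IsLocalRing.notMem_maximalIdeal.mp hs)).map (algebraMap R C)) le_rfl
    (fun c M => by
      obtain ⟨r, hr⟩ := K359.EtaleSolve.exists_sub_mem 𝔪 fg c M
      exact ⟨r, 1, fun h => (IsLocalRing.maximalIdeal.isMaximal R).ne_top
        ((Ideal.eq_top_iff_one _).mpr h), by rwa [map_one, one_mul]⟩)
    (fun x M hx => ⟨1, fun h => (IsLocalRing.maximalIdeal.isMaximal R).ne_top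
        ((Ideal.eq_top_iff_one _).mpr h), by
          rw [one_mul]; exact K359.EtaleSolve.mem_pow_of_algebraMap_mem 𝔪 fg x M hx⟩)
    F a ha (N + 1) (Nat.succ_pos N)
  have h𝔫 : 𝔫.IsMaximal := AdicCompletion.isMaximal_map_of_le _ _ (le_refl _) fg
  have h1 : ∀ x : R', ∃ r : R, ψ (x - algebraMap R R' r) ∈ 𝔫 := by
    intro x
    obtain ⟨r, s, hs, hrs⟩ := hres x
    obtain ⟨u, rfl⟩ := IsLocalRing.notMem_maximalIdeal.mp hs
    refine ⟨(u⁻¹ : Rˣ) * r, ?_⟩
    have h2 : x - algebraMap R R' ((u⁻¹ : Rˣ) * r) =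
        algebraMap R R' (u⁻¹ : Rˣ) * (algebraMap R R' u * x - algebraMap R R' r) := by
      rw [mul_sub, ← mul_assoc, ← map_mul, Units.inv_mul, map_one, one_mul, ← map_mul]
    rw [h2, map_mul]
    exact Ideal.mul_mem_left _ _ (Ideal.pow_le_self (Nat.succ_ne_zero N) hrs)
  refine ⟨R', inferInstance, inferInstance, hR', ψ, 𝔫.comap ψ, ?_, ?_, h1, fun x hx => hx, b, hb,
    fun i => ?_⟩
  · -- the quotient `R' → C/𝔫` is surjective
    have hsurj : Function.Surjective ((Ideal.Quotient.mk 𝔫).comp ψ.toRingHom) := by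
      intro y
      obtain ⟨c, rfl⟩ := Ideal.Quotient.mk_surjective y
      obtain ⟨r, hr⟩ := K359.EtaleSolve.exists_sub_mem 𝔪 fg c 1
      refine ⟨algebraMap R R' r, ?_⟩
      change Ideal.Quotient.mk 𝔫 (ψ (algebraMap R R' r)) = _
      rw [ψ.commutes, eq_comm, Ideal.Quotient.eq]
      rwa [pow_one] at hr
    have hker : 𝔫.comap ψ = RingHom.ker ((Ideal.Quotient.mk 𝔫).comp ψ.toRingHom) := by
      ext x
      rw [RingHom.mem_ker, RingHom.comp_apply, Ideal.Quotient.eq_zero_iff_mem]
      rfl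
    rw [hker]
    let _ := Ideal.Quotient.field 𝔫
    exact RingHom.ker_isMaximal_of_surjective _ hsurj
  · have h3 : (𝔫.comap ψ).comap (algebraMap R R') = 𝔫.comap (algebraMap R C) := by
      rw [← ψ.comp_algebraMap]
      rfl
    rw [h3]
    refine ((IsLocalRing.maximalIdeal.isMaximal R).eq_of_le ?_ Ideal.le_comap_map).symm
    exact Ideal.comap_ne_top _ h𝔫.ne_top
  · rw [Ideal.map_pow]
    exact Ideal.pow_le_pow_right (Nat.le_succ N) (hab i)

end Groth.Agent.S6825
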