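import Groth.Statements.S6843
import Groth.Agent.Smoothing.K359.EtaleSolve
import Groth.Agent.CalgB.GRing2
import Groth.Agent.S0543
import Groth.Agent.CalgB.RegHom7

set_option autoImplicit false
universe u
open Smoothing

namespace Groth.Agent.S6843

/-- Let R be a Noetherian ring, p ⊆ R a prime with R_p a G-ring, (R_p)^ the completion of R_p, and F₁,
…, F_m polynomials in n variables over R with a solution a in (R_p)^. Then for every N there are an
étale R-algebra R', a ring map ψ : R' → (R_p)^ compatible with the maps from R, a prime p' ⊆ R'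
lying over p with κ(p) = κ(p') (every element of R'/p' is a fraction of elements of R/p) and ψ(p') ⊆
p(R_p)^, and a solution b of the system in R' with a_i − ψ(b_i) ∈ p^N (R_p)^. (The source compares a
and b through the identification of (R_p)^ with the completion of R'_{p'}; here the comparison map
is ψ.) -/
theorem result {R : Type u} [CommRing R] [IsNoetherianRing R]
    (p : Ideal R) [p.IsPrime] (hG : CAlg.IsGRing (Localization.AtPrime p)) {n m : ℕ}
    (F : Fin m → MvPolynomial (Fin n) R)
    (a : Fin n → AdicCompletion (IsLocalRing.maximalIdeal (Localization.AtPrime p)) (Localization.AtPrime p))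
    (ha : ∀ j, MvPolynomial.aeval a (MvPolynomial.map (algebraMap R (Localization.AtPrime p)) (F j)) = 0) (N : ℕ) :
    ∃ (R' : Type u) (_ : CommRing R') (_ : Algebra R R'), Algebra.Etale R R' ∧
      ∃ (ψ : R' →+* AdicCompletion (IsLocalRing.maximalIdeal (Localization.AtPrime p)) (Localization.AtPrime p))
        (p' : Ideal R'), p'.IsPrime ∧
        (∀ r : R, ψ (algebraMap R R' r) =
          algebraMap (Localization.AtPrime p) _ (algebraMap R (Localization.AtPrime p) r)) ∧
        p'.comap (algebraMap R R') = p ∧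
        (∀ x : R', ∃ r s : R, s ∉ p ∧ algebraMap R R' s * x - algebraMap R R' r ∈ p') ∧
        (∀ x ∈ p', ψ x ∈ (IsLocalRing.maximalIdeal (Localization.AtPrime p)).map
          (algebraMap (Localization.AtPrime p)
            (AdicCompletion (IsLocalRing.maximalIdeal (Localization.AtPrime p)) (Localization.AtPrime p)))) ∧
        ∃ b : Fin n → R', (∀ j, MvPolynomial.aeval b (F j) = 0) ∧
          ∀ i, a i - ψ (b i) ∈ (IsLocalRing.maximalIdeal (Localization.AtPrime p) ^ N).map
            (algebraMap (Localization.AtPrime p)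
              (AdicCompletion (IsLocalRing.maximalIdeal (Localization.AtPrime p)) (Localization.AtPrime p))) := by
  let T := Localization.AtPrime p
  let 𝔪 := IsLocalRing.maximalIdeal T
  let C := AdicCompletion 𝔪 T
  have fg : 𝔪.FG := IsNoetherian.noetherian 𝔪
  let 𝔫 : Ideal C := 𝔪.map (algebraMap T C)
  have hregT : CAlg.IsRegularHom T C :=
    (Groth.Agent.CalgB.GRing2.isGRing_iff_of_isLocalRing T).mp hG
  have hC : IsNoetherianRing C := Groth.Agent.S0543.result T 𝔪
  have tower : IsScalarTower R T C := inferInstance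
  have hregRT : CAlg.IsRegularHom R T :=
    Groth.Agent.CalgB.RegHom7.isRegularHom_of_isLocalization T p.primeCompl
  have hreg : CAlg.IsRegularHom R C :=
    Groth.Agent.CalgB.RegHom6.isRegularHom_comp hregRT hregT
  have hcpl : IsAdicComplete 𝔫 C := AdicCompletion.isAdicComplete_self _ fg
  have h𝔫 : 𝔫.IsMaximal := AdicCompletion.isMaximal_map_of_le _ _ (le_refl _) fg
  have hunit : ∀ s : R, s ∉ p → IsUnit (algebraMap R C s) := fun s hs => by
    rw [IsScalarTower.algebraMap_apply R T C]
    exact (IsLocalization.map_units T (⟨s, hs⟩ : p.primeCompl)).map (algebraMap T C)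
  have hmT : p.map (algebraMap R T) = 𝔪 := Localization.AtPrime.map_eq_maximalIdeal
  have hp𝔫 : p.map (algebraMap R C) ≤ 𝔫 := by
    rw [IsScalarTower.algebraMap_eq R T C, ← Ideal.map_map, hmT]
  have hpinv : 𝔫.comap (algebraMap R C) = p := by
    apply le_antisymm
    · intro x hx
      by_contra hxp
      exact h𝔫.ne_top (Ideal.eq_top_of_isUnit_mem _ hx (hunit x hxp))
    · exact Ideal.map_le_iff_le_comap.mp hp𝔫
  have dens : ∀ (c : C) (M : ℕ), ∃ r s : R, s ∉ p ∧
      algebraMap R C s * c - algebraMap R C r ∈ 𝔫 ^ M := by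
    intro c M
    obtain ⟨t, ht⟩ := K359.EtaleSolve.exists_sub_mem 𝔪 fg c M
    obtain ⟨⟨r, s⟩, hrs⟩ := IsLocalization.surj p.primeCompl t
    refine ⟨r, s, s.2, ?_⟩
    have h1 : algebraMap R C s * c - algebraMap R C r =
        algebraMap R C s * (c - algebraMap T C t) := by
      rw [IsScalarTower.algebraMap_apply R T C r, ← hrs, map_mul,
        ← IsScalarTower.algebraMap_apply]
      ring
    rw [h1]
    exact Ideal.mul_mem_left _ _ ht
  have inter : ∀ (x : R) (M : ℕ), algebraMap R C x ∈ 𝔫 ^ M → ∃ s : R, s ∉ p ∧ s * x ∈ p ^ M := by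
    intro x M hx
    rw [IsScalarTower.algebraMap_apply R T C] at hx
    have h1 := K359.EtaleSolve.mem_pow_of_algebraMap_mem 𝔪 fg _ M hx
    rw [← hmT, ← Ideal.map_pow, IsLocalization.algebraMap_mem_map_algebraMap_iff p.primeCompl] at h1
    obtain ⟨s, hs, hsx⟩ := h1
    exact ⟨s, hs, hsx⟩
  have ha' : ∀ j, MvPolynomial.aeval a (F j) = 0 := by
    intro j
    have := ha j
    rwa [MvPolynomial.aeval_map_algebraMap] at this
  obtain ⟨R', _, _, hR', ψ, b, hb, hab, hres⟩ := K359.EtaleSolve.main hreg 𝔫 p hunit hp𝔫 dens inter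
    F a ha' (N + 1) (Nat.succ_pos N)
  refine ⟨R', inferInstance, inferInstance, hR', ψ.toRingHom, 𝔫.comap ψ, inferInstance,
    ?_, ?_, ?_, fun x hx => hx, b, hb, fun i => ?_⟩
  · intro r
    rw [← IsScalarTower.algebraMap_apply R T C]
    exact ψ.commutes r
  · refine Eq.trans ?_ hpinv
    rw [← ψ.comp_algebraMap]
    rfl
  · intro x
    obtain ⟨r, s, hs, hrs⟩ := hres x
    refine ⟨r, s, hs, ?_⟩
    change ψ (algebraMap R R' s * x - algebraMap R R' r) ∈ 𝔫
    exact Ideal.pow_le_self (Nat.succ_ne_zero N) hrs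
  · rw [Ideal.map_pow]
    exact Ideal.pow_le_pow_right (Nat.le_succ N) (hab i)

end Groth.Agent.S6843
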