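import Groth.Statements.S6854
import Groth.Agent.CalgA.PopArtApprox

set_option autoImplicit false
universe u
open Smoothing

namespace Groth.Agent.S6854

/-- The kernel of `K ⊗ Ω_{k/ℤ} → Ω_{K/ℤ}` is a quotient of `H₁(L_{K/k})`. -/
theorem imperfection_finite {k K : Type u} [Field k] [Field K] [Algebra k K]
    (hH : Module.Finite K (Algebra.H1Cotangent k K)) :
    Module.Finite K (EGA41.imperfection ℤ k K) := by
  have hex := Algebra.H1Cotangent.exact_δ_mapBaseChange ℤ k K
  have h1 : EGA41.imperfection ℤ k K = LinearMap.range (Algebra.H1Cotangent.δ ℤ k K) :=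
    LinearMap.exact_iff.mp hex
  rw [h1]
  infer_instance


/-- Let k be a field of characteristic p > 0 and Λ an Artinian local k-algebra with residue field K such
that H_1(L_{K/k}) is a finite-dimensional K-vector space. Then Λ is a filtered colimit (a directed
union) of k-subalgebras A ⊆ Λ which are Artinian local and essentially of finite type over k, with A
→ Λ flat and m_A Λ = m_Λ; stated as: every finite subset of Λ is contained in such a subalgebra. -/
theorem result {k Λ : Type u} [Field k] (p : ℕ) [Fact p.Prime]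
    [CharP k p] [CommRing Λ] [Algebra k Λ] [IsArtinianRing Λ] [IsLocalRing Λ]
    (hH : Module.Finite (IsLocalRing.ResidueField Λ) (Algebra.H1Cotangent k (IsLocalRing.ResidueField Λ)))
    (E : Finset Λ) :
    ∃ (A : Subalgebra k Λ) (_ : IsLocalRing A), (↑E : Set Λ) ⊆ A ∧ IsArtinianRing A ∧ Module.Flat A Λ ∧
      Algebra.EssFiniteType k A ∧
      (IsLocalRing.maximalIdeal A).map (algebraMap A Λ) = IsLocalRing.maximalIdeal Λ := by
  let K := IsLocalRing.ResidueField Λ
  let π : Λ →ₐ[k] K := IsScalarTower.toAlgHom k Λ K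
  have hπ : Function.Surjective π := IsLocalRing.residue_surjective
  have hkerπ : RingHom.ker π.toRingHom = IsLocalRing.maximalIdeal Λ := IsLocalRing.ker_residue
  obtain ⟨n, hn⟩ : IsNilpotent (IsLocalRing.maximalIdeal Λ) := by
    rw [← IsLocalRing.jacobson_eq_maximalIdeal ⊥ bot_ne_top]
    exact IsArtinianRing.isNilpotent_jacobson_bot
  obtain ⟨A, hflat, hunit, hmax, hE, s, hs, hfrac⟩ :=
    Groth.Agent.CalgA.PopArtApprox.exists_approx p (AlgHom.id k Λ) π hπ
      (fun x => ⟨x, 1, by simp, by simp⟩) n (by rw [hkerπ, hn]; rfl)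
      (IsNoetherian.noetherian _) (imperfection_finite hH) E
  have hloc : IsLocalHom A.val.toRingHom := ⟨fun x hx => hunit x hx⟩
  have hA : IsLocalRing A := RingHom.domain_isLocalRing A.val.toRingHom
  have hm : IsLocalRing.maximalIdeal A = (IsLocalRing.maximalIdeal Λ).comap (algebraMap A Λ) := by
    ext x
    rw [Ideal.mem_comap, IsLocalRing.mem_maximalIdeal, IsLocalRing.mem_maximalIdeal, mem_nonunits_iff,
      mem_nonunits_iff, not_iff_not]
    exact ⟨fun h => h.map (algebraMap A Λ), fun h => hunit x h⟩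
  have hess : Algebra.EssFiniteType k A := by
    rw [Algebra.essFiniteType_iff]
    classical
    have hsA : ∀ x ∈ s, x ∈ A := fun x hx => hs x hx
    let σ : Finset A := s.attach.image fun x => ⟨x.1, hsA x.1 x.2⟩
    have hσ : ∀ a : A, (a : Λ) ∈ Algebra.adjoin k (s : Set Λ) → a ∈ Algebra.adjoin k (σ : Set A) := by
      intro a ha
      have h1 : (Algebra.adjoin k (σ : Set A)).map A.val = Algebra.adjoin k (s : Set Λ) := by
        rw [AlgHom.map_adjoin]
        congr 1
        ext x
        simp only [Set.mem_image, Finset.mem_coe, σ, Finset.mem_image, Finset.mem_attach, true_and]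
        constructor
        · rintro ⟨_, ⟨y, rfl⟩, rfl⟩
          exact y.2
        · intro hx
          exact ⟨_, ⟨⟨x, hx⟩, rfl⟩, rfl⟩
      rw [← h1] at ha
      obtain ⟨b, hb, hba⟩ := ha
      have : b = a := Subtype.ext hba
      rwa [← this]
    have hle : Algebra.adjoin k (s : Set Λ) ≤ A := Algebra.adjoin_le hsA
    refine ⟨σ, fun x => ?_⟩
    obtain ⟨a, ha, b, hb, hbu, hab⟩ := hfrac x.1 x.2
    refine ⟨⟨b, hle hb⟩, hσ _ hb, hunit _ hbu, hσ _ ?_⟩
    have : ((x * ⟨b, hle hb⟩ : A) : Λ) = a := hab
    rw [this]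
    exact ha
  have hnoeth : IsNoetherianRing A := Algebra.EssFiniteType.isNoetherianRing k A
  refine ⟨A, hA, fun x hx => hE x hx, ?_, hflat, hess, ?_⟩
  · rw [isArtinianRing_iff_isNilpotent_maximalIdeal]
    refine ⟨n, ?_⟩
    rw [Submodule.zero_eq_bot, eq_bot_iff]
    have h1 : (IsLocalRing.maximalIdeal A) ^ n ≤
        ((IsLocalRing.maximalIdeal Λ) ^ n).comap (algebraMap A Λ) := by
      rw [hm]
      exact Ideal.le_comap_pow _ _
    refine h1.trans ?_
    rw [hn]
    intro x hx
    have hx0 : (x : Λ) = 0 := hx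
    exact Subtype.ext hx0
  · rw [hm]
    rw [hkerπ] at hmax
    exact hmax

end Groth.Agent.S6854
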