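import Groth.Statements.S6855

set_option autoImplicit false
universe u
open CategoryTheory CategoryTheory.Limits TopologicalSpace
open ModSite

namespace Groth.Agent.S6855

/-- Let X be a topological space and O a sheaf of rings on X. Then the support of O, the set of points x
with nonzero stalk O_x, is closed in X. -/
theorem result {X : TopCat.{u}} (O : TopCat.Sheaf CommRingCat.{u} X) :
    IsClosed {x : X | Nontrivial (O.presheaf.stalk x)} := by
  rw [← isOpen_compl_iff, isOpen_iff_forall_mem_open]
  intro x hx
  have hx' : Subsingleton (O.presheaf.stalk x) := not_nontrivial_iff_subsingleton.mp hx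
  have h0 : O.presheaf.germ ⊤ x (by trivial) (1 : O.presheaf.obj (Opposite.op ⊤)) =
      O.presheaf.germ ⊤ x (by trivial) (0 : O.presheaf.obj (Opposite.op ⊤)) := Subsingleton.elim _ _
  obtain ⟨W, hxW, iU, iV, hW⟩ := O.presheaf.germ_eq x _ _ _ _ h0
  refine ⟨W, ?_, W.isOpen, hxW⟩
  intro y hy
  refine not_nontrivial_iff_subsingleton.mpr ?_
  refine subsingleton_of_zero_eq_one ?_
  have h1 : O.presheaf.germ W y hy (1 : O.presheaf.obj (Opposite.op W)) =
      O.presheaf.germ W y hy (0 : O.presheaf.obj (Opposite.op W)) := by
    rw [map_one, map_zero] at hW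
    rw [hW]
  rw [map_one, map_zero] at h1
  exact h1.symm

end Groth.Agent.S6855
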