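import Groth.Statements.S6857
import Groth.Agent.CohtopA.PushClosed
import Groth.Agent.CohtopB.TopStalk

set_option autoImplicit false
universe u
open CategoryTheory CategoryTheory.Limits TopologicalSpace
open CohTop

namespace Groth.Agent.S6857

/-- Let i : Z → X be the inclusion of a closed subset of a topological space (a closed embedding). Then
i_* : Ab(Z) → Ab(X) is exact (right exactness being the content, i_* is a right adjoint) and fully
faithful, an abelian sheaf on X lies in its essential image exactly when its stalks at points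
outside i(Z) are zero (support contained in Z), and i⁻¹ ∘ i_* is isomorphic to the identity functor
(existence of an isomorphism of functors is asserted). -/
theorem result {Z X : TopCat.{u}} (i : Z ⟶ X)
    (hi : Topology.IsClosedEmbedding i) :
    PreservesFiniteColimits (CohTop.push i) ∧ (CohTop.push i).Full ∧ (CohTop.push i).Faithful ∧
      (∀ F : CohTop.Ab X, (CohTop.push i).essImage F ↔ ∀ x : X, x ∉ Set.range i → IsZero (CohTop.stalk F x)) ∧
      Nonempty (CohTop.push i ⋙ CohTop.pull i ≅ 𝟭 (CohTop.Ab Z)) := by
  have hex : PreservesFiniteColimits (CohTop.push i) :=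
    Groth.Agent.CohtopA.PushClosed.preservesFiniteColimits_push_of_isClosedEmbedding i hi
  have hc : ∀ G : CohTop.Ab Z, IsIso ((CohtopB.TopPull.adj i).counit.app G) :=
    CohtopB.TopStalk.isIso_counit_of_isInducing i hi.isInducing
  have hc' : IsIso (CohtopB.TopPull.adj i).counit := NatIso.isIso_of_isIso_app _
  have hff : (CohTop.push i).FullyFaithful := (CohtopB.TopPull.adj i).fullyFaithfulROfIsIsoCounit
  refine ⟨hex, hff.full, hff.faithful, fun F => ⟨?_, ?_⟩, ⟨asIso (CohtopB.TopPull.adj i).counit⟩⟩
  · rintro ⟨G, ⟨e⟩⟩ x hx
    have h1 := CohtopB.TopStalk.isZero_stalk_push i G x (by rwa [hi.isClosed_range.closure_eq])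
    exact h1.of_iso ((CohtopB.TopPull.stalkF x).mapIso e.symm)
  · intro h
    have := CohtopB.TopStalk.isIso_unit_of_isClosedEmbedding i hi F h
    exact ⟨_, ⟨(asIso ((CohtopB.TopPull.adj i).unit.app F)).symm⟩⟩

end Groth.Agent.S6857
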