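import Groth.Statements.S6858
import Groth.Agent.ModSite.K293.StalkBasis

set_option autoImplicit false
universe u
open CategoryTheory CategoryTheory.Limits TopologicalSpace
open ModSite

namespace Groth.Agent.S6858

/-- Let (X, O) be a ringed space all of whose stalks O_{X,x} are nonzero rings and F a locally free
O-module. Then there is a locally constant function rank_F : X → ℕ ∪ {∞} such that for every point
x, every open neighbourhood U of x and every index set I with F|_U ≅ ⊕_{i ∈ I} O_U, the cardinality
of I (a natural number or ∞) is rank_F(x). -/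
theorem result {X : TopCat.{u}} (O : TopCat.Sheaf CommRingCat.{u} X)
    (hO : ∀ x : X, Nontrivial (O.presheaf.stalk x)) (F : ModSite.Mod O)
    [SheafOfModules.IsLocallyFree (R := ModSite.ringSh O) F] :
    ∃ rk : X → ℕ∞, IsLocallyConstant rk ∧
      ∀ (x : X) (U : Opens X) (I : Type u), x ∈ U →
        Nonempty ((ModSite.restr O U).obj F ≅ SheafOfModules.free I) → ENat.card I = rk x := by
  classical
  obtain ⟨q, hq⟩ := SheafOfModules.IsLocallyFree.exists_isLocallyFreeData (M := F)
  have key : ∀ x : X, ∃ (U : Opens X) (I : Type u), x ∈ U ∧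
      Nonempty ((ModSite.restr O U).obj F ≅ SheafOfModules.free I) := by
    intro x
    have hc := q.coversTop
    rw [Opens.coversTop_iff, IsOpenCover] at hc
    have hx : x ∈ ⨆ i, q.X i := by rw [hc]; trivial
    rw [Opens.mem_iSup] at hx
    obtain ⟨i, hi⟩ := hx
    have := hq.isIso i
    exact ⟨q.X i, (q.generators i).I, hi, ⟨(asIso (q.generators i).π).symm⟩⟩
  choose U I hU e using key
  have hr : ∀ (x : X) (V : Opens X) (K : Type u), x ∈ V →
      Nonempty ((ModSite.restr O V).obj F ≅ SheafOfModules.free K) → ENat.card K = ENat.card (I x) := by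
    intro x V K hx e'
    have := K293.StalkCmp.nontrivial_stalkRing O x
    exact K293.StalkBasis.enatCard_eq e' (e x) x hx (hU x)
  refine ⟨fun x => ENat.card (I x), ?_, hr⟩
  rw [IsLocallyConstant.iff_exists_open]
  intro x
  exact ⟨U x, (U x).2, hU x, fun y hy => (hr y (U x) (I x) hy (e x)).symm⟩

end Groth.Agent.S6858
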