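import Groth.Statements.S6860
import Groth.Agent.CalgB.QuasiRegular

set_option autoImplicit false
universe u
open Smoothing

namespace Groth.Agent.S6860

open MvPolynomial Algebra

/-- The presentation `A = A[x_1, …, x_m] / (x_i - e_i)` of `A` over itself. -/
noncomputable def graphPre {A : Type u} [CommRing A] {m : ℕ} (e : Fin m → A) :
    Algebra.PreSubmersivePresentation A A (Fin m) (Fin m) where
  toGenerators := Generators.ofSurjective e fun s => ⟨C s, by simp⟩
  relation := fun i => X i - C (e i)
  span_range_relation_eq_ker := by
    apply le_antisymm
    · rw [Ideal.span_le]
      rintro _ ⟨i, rfl⟩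
      rw [SetLike.mem_coe, Generators.ker_eq_ker_aeval_val, RingHom.mem_ker]
      change aeval e (X i - C (e i)) = 0
      simp
    · intro p hp
      rw [Generators.ker_eq_ker_aeval_val, RingHom.mem_ker] at hp
      change aeval e p = 0 at hp
      have h := Groth.Agent.CalgB.QuasiRegular.sub_C_eval_mem e p
      have h2 : eval e p = 0 := by
        rw [← hp]
        rfl
      rwa [h2, C_0, sub_zero] at h
  map := id
  map_inj := Function.injective_id

/-- The submersive presentation `A = A[x_1, …, x_m] / (x_i - e_i)` of `A` over itself. -/
noncomputable def graphPresentation {A : Type u} [CommRing A] {m : ℕ} (e : Fin m → A) :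
    Algebra.SubmersivePresentation A A (Fin m) (Fin m) where
  toPreSubmersivePresentation := graphPre e
  jacobian_isUnit := by
    classical
    rw [PreSubmersivePresentation.jacobian_eq_jacobiMatrix_det]
    have : (graphPre e).jacobiMatrix = 1 := by
      ext1 i j
      rw [PreSubmersivePresentation.jacobiMatrix_apply]
      change pderiv i (X j - C (e j)) = _
      rw [map_sub, pderiv_C, sub_zero, pderiv_X, Matrix.one_apply, Pi.single_apply]
      simp [eq_comm]
    rw [this, Matrix.det_one, map_one]
    exact isUnit_one


/-- Let R → A be standard smooth and E ⊆ A a finite subset. Then A admits a standard smooth presentation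
A = R[x₁, …, x_N]/(f₁, …, f_c) (a submersive presentation: finitely many generators and relations,
an injection from the relations to the variables picking the distinguished variables, and the
Jacobian of the relations with respect to the distinguished variables invertible in A) in which
every element of E is the class of a distinguished variable. (The published statement arranges E to
be exactly the classes of the first n = |E| variables, all of them distinguished, with c ≥ n; this
row states that E is contained in the set of classes of the distinguished variables, which is what
that arrangement gives.) -/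
theorem result {R A : Type u} [CommRing R] [CommRing A] [Algebra R A]
    [Algebra.IsStandardSmooth R A] (E : Finset A) :
    ∃ (ι σ : Type) (_ : Finite ι) (_ : Finite σ) (P : Algebra.SubmersivePresentation R A ι σ),
      (↑E : Set A) ⊆ Set.range (P.val ∘ P.map) := by
  obtain ⟨ι, σ, hσ, hι, ⟨P⟩⟩ := (inferInstance : Algebra.IsStandardSmooth R A).out
  let e : Fin E.card → A := fun i => (E.equivFin.symm i : A)
  refine ⟨Fin E.card ⊕ ι, Fin E.card ⊕ σ, inferInstance, inferInstance,
    (graphPresentation e).comp P, ?_⟩
  intro x hx
  refine ⟨Sum.inl (E.equivFin ⟨x, hx⟩), ?_⟩
  change e (E.equivFin ⟨x, hx⟩) = x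
  simp [e]

end Groth.Agent.S6860
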