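import Groth.Statements.S6875
import Groth.Agent.CAlg.K63.Reflexive

set_option autoImplicit false
universe u
open CAlg

namespace Groth.Agent.S6875

/-- Let `R` be a Noetherian domain, `M` a finite `R`-module and `N` a finite reflexive `R`-module. Then
`Hom_R(M, N)` is reflexive. -/
theorem result (R : Type u) [CommRing R] [IsDomain R] [IsNoetherianRing R]
    (M N : Type u) [AddCommGroup M] [Module R M] [Module.Finite R M] [AddCommGroup N] [Module R N] [Module.Finite R N]
    [Module.IsReflexive R N] : Module.IsReflexive R (M →ₗ[R] N) := by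
  obtain ⟨n, p, hp⟩ := Module.Finite.exists_fin' R M
  have hk : Module.Finite R (LinearMap.ker p) := inferInstance
  obtain ⟨m, q, hq⟩ := Module.Finite.exists_fin' R (LinearMap.ker p)
  have hfin : Module.Finite R (M →ₗ[R] N) := inferInstance
  let e₁ : ((Fin n → R) →ₗ[R] N) ≃ₗ[R] (Fin n → N) := (Pi.basisFun R (Fin n)).constr R |>.symm
  let f : (M →ₗ[R] N) →ₗ[R] ((Fin n → R) →ₗ[R] N) := LinearMap.lcomp R N p
  let g : ((Fin n → R) →ₗ[R] N) →ₗ[R] ((Fin m → R) →ₗ[R] N) :=
    LinearMap.lcomp R N ((LinearMap.ker p).subtype ∘ₗ q)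
  have hN : Module.IsReflexive R ((Fin n → R) →ₗ[R] N) := by
    have := K63.Reflexive.isReflexive_pi (R := R) N n
    exact Module.equiv e₁.symm
  have hN0 : Module.IsTorsionFree R N := inferInstance
  have hN' : Module.IsTorsionFree R ((Fin m → R) →ₗ[R] N) :=
    K63.TorsionFree.linearMap_isTorsionFree _ _
  have hf : Function.Injective f := by
    intro a b hab
    ext x
    obtain ⟨y, rfl⟩ := hp x
    exact LinearMap.congr_fun hab y
  have hfg : Function.Exact f g := by
    intro y
    constructor
    · intro hy
      have h1 : LinearMap.ker p ≤ LinearMap.ker y := by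
        intro z hz
        obtain ⟨w, hw⟩ := hq ⟨z, hz⟩
        have h3 : y ((LinearMap.ker p).subtype (q w)) = 0 := LinearMap.congr_fun hy w
        rw [hw] at h3
        exact h3
      refine ⟨((LinearMap.ker p).liftQ y h1) ∘ₗ (p.quotKerEquivOfSurjective hp).symm.toLinearMap, ?_⟩
      apply LinearMap.ext
      intro z
      change ((LinearMap.ker p).liftQ y h1) ((p.quotKerEquivOfSurjective hp).symm (p z)) = _
      rw [show (p.quotKerEquivOfSurjective hp).symm (p z) = Submodule.Quotient.mk z by
        rw [LinearEquiv.symm_apply_eq]; rfl]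
      rfl
    · rintro ⟨x, rfl⟩
      apply LinearMap.ext
      intro z
      change x (p ((LinearMap.ker p).subtype (q z))) = 0
      have : p ((LinearMap.ker p).subtype (q z)) = 0 := (q z).2
      rw [this, map_zero]
  exact K63.TorsionFree.isReflexive_of_exact f g hf hfg

end Groth.Agent.S6875
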