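import Groth.Statements.S6877
import Groth.Agent.CAlg.K64.DepthHom

set_option autoImplicit false
universe u
open CAlg

namespace Groth.Agent.S6877

theorem main (R : Type u) [CommRing R] [IsNoetherianRing R]
    (M N : Type u) [AddCommGroup M] [Module R M] [Module.Finite R M] [AddCommGroup N] [Module R N] [Module.Finite R N]
    (k : ℕ) (hk : k ≤ 2) (h : LocCoh.HasSk k R N) : LocCoh.HasSk k R (M →ₗ[R] N) := by
  intro p hp
  have : Module.FinitePresentation R M := Module.finitePresentation_of_finite R M
  let e : LocalizedModule p.primeCompl (M →ₗ[R] N) ≃ₗ[Localization.AtPrime p]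
      (LocalizedModule p.primeCompl M →ₗ[Localization.AtPrime p] LocalizedModule p.primeCompl N) :=
    (Module.FinitePresentation.linearEquivMapExtendScalars p.primeCompl).extendScalarsOfIsLocalization
      p.primeCompl (Localization.AtPrime p)
  have : IsNoetherianRing (Localization.AtPrime p) := IsLocalization.isNoetherianRing p.primeCompl _ inferInstance
  have : Module.Finite (Localization.AtPrime p)
      (LocalizedModule p.primeCompl M →ₗ[Localization.AtPrime p] LocalizedModule p.primeCompl N) :=
    K64.DepthHom.finite_hom _ _
  rw [Groth.Agent.Ega4B.DepthBasic.depth_congr e, Module.supportDim_eq_of_equiv e]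
  have h1 := K64.DepthHom.supportDim_hom_le (R := Localization.AtPrime p) (LocalizedModule p.primeCompl M)
    (LocalizedModule p.primeCompl N)
  have h2 := K64.DepthHom.min_le_depth_hom (R := Localization.AtPrime p) (LocalizedModule p.primeCompl M)
    (N := LocalizedModule p.primeCompl N)
  have h3 := h p
  have h4 : min (k : WithBot ℕ∞) (Module.supportDim (Localization.AtPrime p)
      (LocalizedModule p.primeCompl M →ₗ[Localization.AtPrime p] LocalizedModule p.primeCompl N)) ≤
      ((min (2 : ℕ∞) (LocCoh.depth (Localization.AtPrime p) (LocalizedModule p.primeCompl N)) : ℕ∞) : WithBot ℕ∞) := by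
    rw [WithBot.coe_min]
    refine le_min ((min_le_left _ _).trans ?_) ((min_le_min le_rfl h1).trans h3)
    exact_mod_cast hk
  exact h4.trans (by exact_mod_cast h2)

/-- Let `R` be a Noetherian ring and `M, N` finite `R`-modules. If `N` has `(S_1)`, resp. `(S_2)`, then
so does `Hom_R(M, N)`. (The published statement has a third part, over a domain: `N` torsion free
with `(S_2)` implies the same for `Hom_R(M, N)`; this row states parts one and two.) -/
theorem result (R : Type u) [CommRing R] [IsNoetherianRing R]
    (M N : Type u) [AddCommGroup M] [Module R M] [Module.Finite R M] [AddCommGroup N] [Module R N] [Module.Finite R N] :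
    (LocCoh.HasSk 1 R N → LocCoh.HasSk 1 R (M →ₗ[R] N)) ∧
    (LocCoh.HasSk 2 R N → LocCoh.HasSk 2 R (M →ₗ[R] N)) :=
  ⟨main R M N 1 (by norm_num), main R M N 2 le_rfl⟩

end Groth.Agent.S6877
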