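import Groth.Statements.S6879
import Groth.Agent.CAlg.K64.Reflexive

set_option autoImplicit false
universe u
open CAlg

namespace Groth.Agent.S6879

/-- Let `R` be a Noetherian domain and `M` a finite `R`-module. Then `M` is reflexive if and only if for
every prime `𝔭` of `R` either `M_𝔭` is a reflexive `R_𝔭`-module or `depth(M_𝔭) ≥ 2`. -/
theorem result (R : Type u) [CommRing R] [IsDomain R]
    [IsNoetherianRing R] (M : Type u) [AddCommGroup M] [Module R M] [Module.Finite R M] :
    Module.IsReflexive R M ↔ ∀ (p : Ideal R) [p.IsPrime],
      Module.IsReflexive (Localization.AtPrime p) (LocalizedModule p.primeCompl M) ∨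
        2 ≤ LocCoh.depth (Localization.AtPrime p) (LocalizedModule p.primeCompl M) := by
  have h1 : Module.FinitePresentation R M := Module.finitePresentation_of_finite R M
  have h2 : Module.FinitePresentation R (Module.Dual R M) := K64.Reflexive.finitePresentation_dual R M
  constructor
  · intro h p _
    left
    exact ⟨K64.Reflexive.bijective_eval_of_isLocalizedModule p.primeCompl (Localization.AtPrime p)
      (LocalizedModule.mkLinearMap p.primeCompl M) h.bijective_dual_eval'⟩
  · intro h
    refine ⟨Groth.Agent.S2090.result _ fun p _ => ?_⟩
    rcases h p with h | h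
    · left
      rw [K64.Reflexive.bijective_map_eval_iff p.primeCompl (Localization.AtPrime p)
        (LocalizedModule.mkLinearMap p.primeCompl M)]
      exact h.bijective_dual_eval'
    · right
      exact ⟨h, K64.Reflexive.notMem_associatedPrimes_of_two_le_depth p h⟩

end Groth.Agent.S6879
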