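import Groth.Statements.S6881
import Groth.Agent.CAlg.K64.Reflexive
import Mathlib.RingTheory.DedekindDomain.IntegralClosure
import Mathlib.Algebra.Module.LocalizedModule.IsLocalization

set_option autoImplicit false
universe u
open CAlg

namespace Groth.Agent.S6881

open Module nonZeroDivisors

section
variable {A K L : Type u} [CommRing A] [IsDomain A] [IsNoetherianRing A]
  [Field K] [Algebra A K] [IsFractionRing A K] [Field L] [Algebra K L] [FiniteDimensional K L]
  [Algebra A L] [IsScalarTower A K L]

variable (A L) in
/-- The inclusion of the integral closure. -/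
noncomputable def inc : integralClosure A L →ₗ[A] L := (IsScalarTower.toAlgHom A (integralClosure A L) L).toLinearMap

theorem inc_apply (b : integralClosure A L) : inc A L b = (b : L) := rfl

variable (K) in
include K in
theorem isLocalizedModule_inc : IsLocalizedModule A⁰ (inc A L) := by
  have : IsLocalization (Algebra.algebraMapSubmonoid (integralClosure A L) A⁰) L :=
    IsIntegralClosure.isLocalization A K L (integralClosure A L)
  exact isLocalizedModule_iff_isLocalization.mpr this

variable (K) in
/-- The extension of functionals. -/
noncomputable def ext (φ : Dual A (integralClosure A L)) : Dual K L :=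
  have := isLocalizedModule_inc (A := A) (L := L) K
  K64.Reflexive.dualMap A⁰ K (inc A L) φ

theorem ext_apply (φ : Dual A (integralClosure A L)) (b : integralClosure A L) :
    ext K φ (b : L) = algebraMap A K (φ b) := by
  have := isLocalizedModule_inc (A := A) (L := L) K
  exact K64.Reflexive.dualMap_apply A⁰ K (inc A L) φ b

/-- A functional on `L` is determined by its values on the integral closure. -/
theorem eq_of_forall {ψ ψ' : Dual K L} (h : ∀ b : integralClosure A L, ψ (b : L) = ψ' (b : L)) : ψ = ψ' := by
  have := isLocalizedModule_inc (A := A) (L := L) K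
  apply LinearMap.restrictScalars_injective A
  apply IsLocalizedModule.linearMap_ext A⁰ (inc A L) (Algebra.linearMap A K)
  ext b
  exact h b

variable (A K L) in
/-- The elements of `L` on which all extended functionals take values in `A`; this is a subring. -/
noncomputable def bidual : Subalgebra A L where
  carrier := {x | ∀ φ : Dual A (integralClosure A L), ∃ a : A, algebraMap A K a = ext K φ x}
  mul_mem' := by
    intro x y hx hy φ
    -- `b ↦ φ(x b)`
    have h1 : ∀ b : integralClosure A L, ∃ a : A, algebraMap A K a = ext K φ (x * b) := by
      intro b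
      obtain ⟨a, ha⟩ := hx (φ ∘ₗ LinearMap.mulLeft A b)
      refine ⟨a, ha.trans ?_⟩
      have : ext K (φ ∘ₗ LinearMap.mulLeft A b) = ext K φ ∘ₗ LinearMap.mulLeft K (b : L) := by
        apply eq_of_forall (A := A)
        intro c
        rw [ext_apply, LinearMap.comp_apply, LinearMap.comp_apply, LinearMap.mulLeft_apply, LinearMap.mulLeft_apply,
          ← ext_apply]
        rfl
      rw [this, LinearMap.comp_apply, LinearMap.mulLeft_apply, mul_comm]
    choose g hg using h1
    have hinj := IsFractionRing.injective A K
    let g' : Dual A (integralClosure A L) :=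
      { toFun := g
        map_add' := fun b c => hinj (by rw [map_add, hg, hg, hg, Subalgebra.coe_add, mul_add, map_add])
        map_smul' := fun c b => hinj (by
          have h3 : x * ((c • b : integralClosure A L) : L) = algebraMap A K c • (x * (b : L)) := by
            rw [algebraMap_smul, Subalgebra.coe_smul, mul_smul_comm]
          rw [hg, RingHom.id_apply, smul_eq_mul, map_mul (algebraMap A K), hg, h3, map_smul, smul_eq_mul]) }
    obtain ⟨a, ha⟩ := hy g'
    refine ⟨a, ha.trans ?_⟩
    have : ext K g' = ext K φ ∘ₗ LinearMap.mulLeft K x := by
      apply eq_of_forall (A := A)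
      intro c
      rw [ext_apply, LinearMap.comp_apply, LinearMap.mulLeft_apply]
      exact hg c
    rw [this, LinearMap.comp_apply, LinearMap.mulLeft_apply]
  add_mem' := by
    intro x y hx hy φ
    obtain ⟨a, ha⟩ := hx φ
    obtain ⟨b, hb⟩ := hy φ
    exact ⟨a + b, by rw [map_add, map_add, ha, hb]⟩
  algebraMap_mem' := by
    intro r φ
    refine ⟨φ (algebraMap A _ r), ?_⟩
    rw [← ext_apply]
    rfl

theorem mem_bidual (x : L) : x ∈ bidual A K L ↔
    ∀ φ : Dual A (integralClosure A L), ∃ a : A, algebraMap A K a = ext K φ x := Iff.rfl

variable [Module.Finite A ↥(integralClosure A L)]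

variable (A K L) in
/-- The map `B** → L`. -/
noncomputable def θ : Dual A (Dual A (integralClosure A L)) →ₗ[A] L :=
  have := isLocalizedModule_inc (A := A) (L := L) K
  have : Module.FinitePresentation A (integralClosure A L) := Module.finitePresentation_of_finite A _
  ((evalEquiv K L).symm.toLinearMap.restrictScalars A) ∘ₗ K64.Reflexive.ddualMap A⁰ K (inc A L)

theorem ext_θ (Φ : Dual A (Dual A (integralClosure A L))) (φ : Dual A (integralClosure A L)) :
    ext K φ (θ A K L Φ) = algebraMap A K (Φ φ) := by
  have := isLocalizedModule_inc (A := A) (L := L) K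
  have : Module.FinitePresentation A (integralClosure A L) := Module.finitePresentation_of_finite A _
  have h1 : evalEquiv K L (θ A K L Φ) = K64.Reflexive.ddualMap A⁰ K (inc A L) Φ :=
    (evalEquiv K L).apply_symm_apply _
  have h2 := LinearMap.congr_fun h1 (ext K φ)
  rw [evalEquiv_apply, Dual.eval_apply] at h2
  rw [h2]
  exact K64.Reflexive.ddualMap_apply A⁰ K (inc A L) Φ φ

theorem bidual_le_range : (bidual A K L).toSubmodule ≤ LinearMap.range (θ A K L) := by
  have := isLocalizedModule_inc (A := A) (L := L) K
  have : Module.FinitePresentation A (integralClosure A L) := Module.finitePresentation_of_finite A _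
  intro x hx
  choose g hg using (mem_bidual (K := K) x).mp hx
  have hinj := IsFractionRing.injective A K
  let Φ : Dual A (Dual A (integralClosure A L)) :=
    { toFun := g
      map_add' := fun φ ψ => hinj (by
        rw [map_add, hg, hg, hg]
        simp [ext])
      map_smul' := fun c φ => hinj (by
        rw [hg, RingHom.id_apply, smul_eq_mul, map_mul, hg]
        simp [ext, Algebra.smul_def]) }
  refine ⟨Φ, ?_⟩
  apply (evalEquiv K L).injective
  apply LinearMap.restrictScalars_injective A
  apply IsLocalizedModule.linearMap_ext A⁰ (K64.Reflexive.dualMap A⁰ K (inc A L)) (Algebra.linearMap A K)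
  ext φ
  have h1 := ext_θ (K := K) (L := L) Φ φ
  have h2 : algebraMap A K (Φ φ) = ext K φ x := hg φ
  exact h1.trans h2

theorem fg_bidual : Submodule.FG (Subalgebra.toSubmodule (bidual A K L)) := by
  have h1 : Module.Finite A (Dual A (integralClosure A L)) := K64.DepthHom.finite_hom _ _
  have h2 : Module.Finite A (Dual A (Dual A (integralClosure A L))) := K64.DepthHom.finite_hom _ _
  have h3 : IsNoetherian A (LinearMap.range (θ A K L)) := inferInstance
  rw [isNoetherian_submodule] at h3
  exact h3 _ bidual_le_range

end

/-- For `A` a Noetherian integrally closed domain with fraction field `K` and `L/K` a finite field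
extension, if the integral closure of `A` in `L` is a finitely generated `A`-module then it is a
reflexive `A`-module. -/
theorem result (A K L : Type u) [CommRing A] [IsDomain A] [IsNoetherianRing A]
    [IsIntegrallyClosed A] [Field K] [Algebra A K] [IsFractionRing A K] [Field L] [Algebra K L] [FiniteDimensional K L]
    [Algebra A L] [IsScalarTower A K L] [Module.Finite A ↥(integralClosure A L)] :
    Module.IsReflexive A ↥(integralClosure A L) := by
  have := isLocalizedModule_inc (A := A) (L := L) K
  have : Module.FinitePresentation A (integralClosure A L) := Module.finitePresentation_of_finite A _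
  refine ⟨⟨?_, ?_⟩⟩
  · intro b c hbc
    apply Subtype.ext
    apply (evalEquiv K L).injective
    apply LinearMap.restrictScalars_injective A
    apply IsLocalizedModule.linearMap_ext A⁰ (K64.Reflexive.dualMap A⁰ K (inc A L)) (Algebra.linearMap A K)
    ext φ
    have h1 : ext K φ (b : L) = ext K φ (c : L) := by
      rw [ext_apply, ext_apply]
      congr 1
      exact LinearMap.congr_fun hbc φ
    exact h1
  · intro Φ
    have h1 : θ A K L Φ ∈ bidual A K L := fun φ => ⟨Φ φ, (ext_θ Φ φ).symm⟩
    have h2 : IsIntegral A (θ A K L Φ) := IsIntegral.of_mem_of_fg (bidual A K L) fg_bidual _ h1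
    refine ⟨⟨θ A K L Φ, h2⟩, ?_⟩
    ext φ
    rw [Dual.eval_apply]
    apply IsFractionRing.injective A K
    rw [← ext_θ, ← ext_apply]

end Groth.Agent.S6881
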