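import Groth.Statements.S6882
import Mathlib.Algebra.Module.PID
import Mathlib.LinearAlgebra.Dual.Lemmas
import Mathlib.LinearAlgebra.FreeModule.PID

set_option autoImplicit false
universe u
open CAlg

namespace Groth.Agent.S6882

/-- For a finite module `M` over a discrete valuation ring `R`, the evaluation map from `M` to its
double dual `M**` is surjective. -/
theorem result (R : Type u) [CommRing R] [IsDomain R]
    [IsDiscreteValuationRing R] (M : Type u) [AddCommGroup M] [Module R M] [Module.Finite R M] :
    Function.Surjective (Module.Dual.eval R M) := by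
  let T := Submodule.torsion R M
  have hfree : Module.Free R (M ⧸ T) := Module.free_of_finite_type_torsion_free'
  let π : M →ₗ[R] M ⧸ T := T.mkQ
  -- every functional kills the torsion, so `π.dualMap` is bijective
  have hπ : Function.Bijective π.dualMap := by
    constructor
    · exact LinearMap.dualMap_injective_of_surjective T.mkQ_surjective
    · intro f
      refine ⟨T.liftQ f ?_, ?_⟩
      · rintro x ⟨a, ha⟩
        have h1 : (a : R) • f x = 0 := by
          rw [← map_smul]
          have : (a : R) • x = 0 := ha
          rw [this, map_zero]
        exact (smul_eq_zero.mp h1).resolve_left (nonZeroDivisors.coe_ne_zero a)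
      · ext x; rfl
  intro φ
  obtain ⟨y, hy⟩ := (Module.bijective_dual_eval R (M ⧸ T)).2 (φ ∘ₗ π.dualMap)
  obtain ⟨x, rfl⟩ := T.mkQ_surjective y
  refine ⟨x, ?_⟩
  ext f
  obtain ⟨g, rfl⟩ := hπ.2 f
  exact LinearMap.congr_fun hy g

end Groth.Agent.S6882
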