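import Groth.Statements.S6885
import Groth.Agent.CAlg.K64.FiniteDescent
import Groth.Agent.CAlg.K64.ProjectiveFilt

set_option autoImplicit false
universe u
open TensorProduct
open CAlg

namespace Groth.Agent.S6885

/-- Projective modules over a free algebra are projective over the base. -/
theorem projective_restrictScalars (R R' : Type u) [CommRing R] [CommRing R'] [Algebra R R'] [Module.Free R R']
    (P : Type u) [AddCommGroup P] [Module R P] [Module R' P] [IsScalarTower R R' P] [hP : Module.Projective R' P] :
    Module.Projective R P := by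
  obtain ⟨s, hs⟩ := hP
  refine Module.Projective.of_split (s.restrictScalars R) ((Finsupp.linearCombination R' id).restrictScalars R) ?_
  ext p
  exact hs p

/-- Descent of projectivity along a nonzero free algebra. -/
theorem projective_of_free (R R' : Type u) [CommRing R] [Nontrivial R] [CommRing R'] [Algebra R R'] [Module.Free R R']
    [Nontrivial R'] (P : Type u) [AddCommGroup P] [Module R P] [Module.Projective R' (R' ⊗[R] P)] :
    Module.Projective R P := by
  classical
  have h1 : Module.Projective R (R' ⊗[R] P) := projective_restrictScalars R R' _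
  let b := Module.Free.chooseBasis R R'
  let e : R' ⊗[R] P ≃ₗ[R] (Module.Free.ChooseBasisIndex R R' →₀ P) :=
    (TensorProduct.congr b.repr (LinearEquiv.refl R P)).trans (TensorProduct.finsuppScalarLeft R P _)
  have h2 : Module.Projective R (Module.Free.ChooseBasisIndex R R' →₀ P) := Module.Projective.of_equiv e
  obtain ⟨i⟩ : Nonempty (Module.Free.ChooseBasisIndex R R') := b.index_nonempty
  exact Module.Projective.of_split (Finsupp.lsingle i) (Finsupp.lapply i) (by ext p; simp)

/-- For an injective ring map `R → S` between Noetherian rings making `S` a finite `R`-module, an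
`R`-module `P` whose base change `S ⊗_R P` is projective over `S` is projective over `R`. -/
theorem result (R S : Type u) [CommRing R]
    [IsNoetherianRing R] [CommRing S] [IsNoetherianRing S] [Algebra R S] [Module.Finite R S]
    (hinj : Function.Injective (algebraMap R S)) (P : Type u) [AddCommGroup P] [Module R P]
    [Module.Projective S (S ⊗[R] P)] : Module.Projective R P := by
  have hflat : Module.Flat R P := K64.FiniteDescent.flat_of_finite_injective R S hinj P inferInstance
  rcases subsingleton_or_nontrivial R with hR | hR
  · have := Module.Free.of_subsingleton' R P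
    infer_instance
  obtain ⟨R', _, _, hfin, hfree, hinj', κ, _, J, hJ, hn⟩ := K64.FiniteDescent.exists_family R S hinj
  have : IsNoetherianRing R' := IsNoetherianRing.of_finite R R'
  have : Nontrivial R' := hinj'.nontrivial
  -- projectivity over `S' = R' ⊗ S`, and over `R'/J k`
  have hS' : Module.Projective (R' ⊗[R] S) ((R' ⊗[R] S) ⊗[R'] (R' ⊗[R] P)) := by
    let _ : Algebra S (R' ⊗[R] S) := Algebra.TensorProduct.rightAlgebra
    have h1 : Module.Projective (R' ⊗[R] S) ((R' ⊗[R] S) ⊗[S] (S ⊗[R] P)) := inferInstance
    exact Module.Projective.of_equiv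
      ((AlgebraTensorModule.cancelBaseChange R S (R' ⊗[R] S) (R' ⊗[R] S) P).trans
        (AlgebraTensorModule.cancelBaseChange R R' (R' ⊗[R] S) (R' ⊗[R] S) P).symm)
  have hk : ∀ k, Module.Projective (R' ⧸ J k) ((R' ⧸ J k) ⊗[R'] (R' ⊗[R] P)) := by
    intro k
    let _ : Algebra (R' ⊗[R] S) (R' ⧸ J k) := (hJ k).some.toRingHom.toAlgebra
    have : IsScalarTower R' (R' ⊗[R] S) (R' ⧸ J k) :=
      IsScalarTower.of_algebraMap_eq fun r => ((hJ k).some.commutes r).symm
    exact Module.Projective.of_equiv
      (AlgebraTensorModule.cancelBaseChange R' (R' ⊗[R] S) (R' ⧸ J k) (R' ⧸ J k) (R' ⊗[R] P))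
  obtain ⟨m, hm⟩ := IsNoetherianRing.isNilpotent_nilradical R'
  have hprod : (Finset.univ.toList.map J).prod ^ m = ⊥ := by
    rw [eq_bot_iff]
    refine (Ideal.pow_right_mono (le_trans ?_ hn) m).trans hm.le
    rw [Finset.prod_map_toList]
    exact Ideal.prod_le_inf
  have h3 : Module.Projective R' (R' ⊗[R] P) := by
    refine K64.ProjectiveFilt.projective_of_flat_of_prod_eq_zero
      ((List.replicate m (Finset.univ.toList.map J)).flatten) ?_ ?_
    · intro I hI
      obtain ⟨L, hL, hIL⟩ := List.mem_flatten.mp hI
      rw [(List.mem_replicate.mp hL).2] at hIL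
      obtain ⟨k, -, rfl⟩ := List.mem_map.mp hIL
      exact hk k
    · rw [List.prod_flatten, List.map_replicate, List.prod_replicate]
      exact hprod
  exact projective_of_free R R' P

end Groth.Agent.S6885
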