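import Groth.Statements.S6887
import Mathlib.LinearAlgebra.Matrix.Charpoly.Basic
import Mathlib.LinearAlgebra.Matrix.Charpoly.Coeff
import Mathlib.RingTheory.Nakayama

set_option autoImplicit false
universe u
open Polynomial
open CAlg

namespace Groth.Agent.S6887

/-- If `b • y i = ∑ j, a i j • y j` with the `y i` generating the `A`-module `B`, then the characteristic
polynomial of `a` kills `b`. -/
theorem aeval_charpoly_eq_zero {A B : Type u} [CommRing A] [CommRing B] [Algebra A B] {ι : Type}
    [Fintype ι] [DecidableEq ι] (y : ι → B) (hy : Submodule.span A (Set.range y) = ⊤) (b : B)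
    (a : Matrix ι ι A) (ha : ∀ i, b * y i = ∑ j, a i j • y j) : aeval b a.charpoly = 0 := by
  -- the matrix `b - a` over `B` kills the vector `y`
  let N : Matrix ι ι B := Matrix.scalar ι b - a.map (algebraMap A B)
  have hN : N.mulVec y = 0 := by
    ext i
    simp only [N, Matrix.sub_mulVec, Pi.sub_apply, Pi.zero_apply]
    rw [sub_eq_zero]
    simp only [Matrix.scalar_apply, Matrix.mulVec_diagonal]
    rw [ha i]
    simp [Matrix.mulVec, dotProduct, Algebra.smul_def]
  have hdet : N.det = aeval b a.charpoly := by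
    rw [aeval_def, ← eval_map, ← Matrix.charpoly_map, Matrix.eval_charpoly]
  have h1 : ∀ i, N.det * y i = 0 := by
    intro i
    have := congrArg (fun v => (N.adjugate.mulVec v) i) hN
    simp only [Matrix.mulVec_mulVec, Matrix.adjugate_mul, Matrix.mulVec_zero, Pi.zero_apply] at this
    simpa [Matrix.smul_mulVec] using this
  have h2 : ∀ x : B, N.det * x = 0 := by
    intro x
    have hx : x ∈ Submodule.span A (Set.range y) := hy ▸ trivial
    induction hx using Submodule.span_induction with
    | mem x hx => obtain ⟨i, rfl⟩ := hx; exact h1 i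
    | zero => exact mul_zero _
    | add x z _ _ hx hz => rw [mul_add, hx, hz, add_zero]
    | smul c x _ hx => rw [mul_smul_comm, hx, smul_zero]
  rw [← hdet, ← mul_one N.det]
  exact h2 1

/-- Let `(A, I)` be a Zariski pair (`I` inside the Jacobson radical) and `A → B` a finite ring map.
Suppose `B/IB ≅ B₁ × B₂` as `A`-algebras with `A → B₁` surjective, and `b ∈ B` maps to `(1, 0)`.
Then there is a monic `f ∈ A[x]` with `f(b) = 0` whose reduction modulo `I` is `(x - 1) x^d` for
some `d ≥ 1`. -/
theorem result (A B : Type u) [CommRing A] [CommRing B]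
    [Algebra A B] [Module.Finite A B] (I : Ideal A) (hI : I ≤ Ideal.jacobson (⊥ : Ideal A))
    (B₁ B₂ : Type u) [CommRing B₁] [CommRing B₂] [Algebra A B₁] [Algebra A B₂]
    (e : (B ⧸ I.map (algebraMap A B)) ≃ₐ[A] B₁ × B₂) (h₁ : Function.Surjective (algebraMap A B₁)) (b : B)
    (hb : e (Ideal.Quotient.mk (I.map (algebraMap A B)) b) = (1, 0)) :
    ∃ (f : A[X]) (d : ℕ), f.Monic ∧ Polynomial.aeval b f = 0 ∧ 1 ≤ d ∧
      f.map (Ideal.Quotient.mk I) = (X - 1) * X ^ d := by
  classical
  -- the projection `π : B → B₁ × B₂` as an `A`-linear map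
  let mk : B →ₐ[A] (B ⧸ I.map (algebraMap A B)) := Ideal.Quotient.mkₐ A _
  let π : B →ₐ[A] B₁ × B₂ := (e : (B ⧸ I.map (algebraMap A B)) →ₐ[A] B₁ × B₂).comp mk
  have hπs : Function.Surjective π := e.surjective.comp Ideal.Quotient.mk_surjective
  have hπk : ∀ x, π x = 0 ↔ x ∈ I • (⊤ : Submodule A B) := by
    intro x
    rw [Ideal.smul_top_eq_map, Submodule.restrictScalars_mem, ← Ideal.Quotient.eq_zero_iff_mem]
    change e (Ideal.Quotient.mk _ x) = 0 ↔ _
    exact map_eq_zero_iff e e.injective
  have hπb : π b = (1, 0) := hb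
  have hfin : Module.Finite A (B₁ × B₂) := Module.Finite.of_surjective π.toLinearMap hπs
  have hfin2 : Module.Finite A B₂ :=
    Module.Finite.of_surjective (LinearMap.snd A B₁ B₂) LinearMap.snd_surjective
  obtain ⟨m, z, hz⟩ := Module.Finite.exists_fin (R := A) (M := B₂)
  choose y₀ hy₀ using fun i : Option (Fin m) => hπs ((0, i.elim 0 z) : B₁ × B₂)
  let y : Option (Option (Fin m)) → B := fun i => i.elim b y₀
  have hyspan : Submodule.span A (Set.range y) = ⊤ := by
    have h2 : ∀ x : B, ∃ w ∈ Submodule.span A (Set.range y), π w = π x := by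
      intro x
      obtain ⟨a₁, ha₁⟩ := h₁ (π x).1
      have h3 : ((0 : B₁), (π x).2) ∈ (Submodule.span A (Set.range y)).map π.toLinearMap := by
        have h4 : (Submodule.span A (Set.range z)).map (LinearMap.inr A B₁ B₂) ≤
            (Submodule.span A (Set.range y)).map π.toLinearMap := by
          rw [Submodule.map_span_le]
          rintro _ ⟨i, rfl⟩
          refine ⟨y (some (some i)), Submodule.subset_span ⟨_, rfl⟩, ?_⟩
          exact hy₀ (some i)
        apply h4
        refine ⟨(π x).2, ?_, rfl⟩
        rw [hz]; trivial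
      obtain ⟨w, hw, hw'⟩ := h3
      refine ⟨a₁ • b + w, Submodule.add_mem _ (Submodule.smul_mem _ _ (Submodule.subset_span ⟨none, rfl⟩)) hw, ?_⟩
      have hw'' : π w = (0, (π x).2) := hw'
      rw [map_add, map_smul, hπb, hw'']
      ext
      · simp [Algebra.smul_def, ha₁]
      · simp
    apply le_antisymm le_top
    apply Submodule.le_of_le_smul_of_le_jacobson_bot (Module.Finite.fg_top) hI
    intro x _
    obtain ⟨w, hw, hwx⟩ := h2 x
    have : x - w ∈ I • (⊤ : Submodule A B) := by
      rw [← hπk, map_sub, hwx, sub_self]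
    rw [← add_sub_cancel w x]
    exact Submodule.add_mem_sup hw this
  -- the multiplication matrix
  let δ : Option (Option (Fin m)) → A := fun i => i.elim 1 (fun _ => 0)
  have hc : ∀ i, ∃ c : Option (Option (Fin m)) → A, (∀ j, c j ∈ I) ∧ b * y i - δ i • y i = ∑ j, c j • y j := by
    intro i
    have h5 : b * y i - δ i • y i ∈ I • Submodule.span A (Set.range y) := by
      rw [hyspan, ← hπk, map_sub, map_mul, hπb, map_smul]
      cases i with
      | none => simp [y, δ, hπb]
      | some i => simp only [y, δ, Option.elim_some, zero_smul, sub_zero, hy₀]; ext <;> simp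
    obtain ⟨c, hc, hc'⟩ := (Submodule.mem_ideal_smul_span_iff_exists_sum I y _).mp h5
    refine ⟨c, hc, ?_⟩
    rw [← hc', Finsupp.sum_fintype]
    simp
  choose c hc hc' using hc
  let a : Matrix (Option (Option (Fin m))) (Option (Option (Fin m))) A := Matrix.diagonal δ + Matrix.of c
  refine ⟨a.charpoly, m + 1, Matrix.charpoly_monic a, ?_, Nat.le_add_left 1 m, ?_⟩
  · apply aeval_charpoly_eq_zero y hyspan
    intro i
    have := hc' i
    rw [sub_eq_iff_eq_add] at this
    rw [this]
    simp only [a, Matrix.add_apply, Matrix.of_apply, add_smul, Finset.sum_add_distrib]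
    rw [add_comm]
    congr 1
    rw [Finset.sum_eq_single i]
    · simp
    · intro j _ hj
      rw [Matrix.diagonal_apply_ne _ hj.symm, zero_smul]
    · exact fun h => absurd (Finset.mem_univ i) h
  · rw [← Matrix.charpoly_map]
    have : a.map (Ideal.Quotient.mk I) = Matrix.diagonal fun i => Ideal.Quotient.mk I (δ i) := by
      ext i j
      simp only [a, Matrix.map_apply, Matrix.add_apply, Matrix.of_apply, map_add,
        Ideal.Quotient.eq_zero_iff_mem.mpr (hc i j), add_zero]
      by_cases hij : i = j
      · subst hij; simp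
      · simp [Matrix.diagonal_apply_ne _ hij]
    rw [this, Matrix.charpoly_diagonal, Fintype.prod_option, Fintype.prod_option]
    simp [δ, pow_succ, mul_comm]

end Groth.Agent.S6887
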