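import Groth.Statements.S6888
import Mathlib.RingTheory.Henselian
import Mathlib.Algebra.Polynomial.Derivative

set_option autoImplicit false
universe u
open Polynomial
open CAlg

namespace Groth.Agent.S6888

/-- An idempotent in the Jacobson radical is zero. -/
theorem idem_eq_zero {A : Type u} [CommRing A] (e : A) (he : IsIdempotentElem e)
    (h : e ∈ Ideal.jacobson (⊥ : Ideal A)) : e = 0 := by
  have h1 : IsUnit (1 - e) := by
    have := Ideal.mem_jacobson_bot.mp h (-1)
    have h2 : e * -1 + 1 = 1 - e := by ring
    rwa [h2] at this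
  have h3 : (1 - e) * e = 0 := by
    rw [sub_mul, one_mul, he.eq, sub_self]
  exact (h1.mul_right_eq_zero).mp h3

/-- Let `A` be absolutely integrally closed (every monic polynomial over `A` is a product of linear
factors) and `I ⊆ A` an ideal contained in the Jacobson radical such that `A → A/I` is surjective
(hence bijective) on idempotents. Then `(A, I)` is a henselian pair. (The published statement also
records the converse, which holds for every henselian pair; this row states the sufficiency only.) -/
theorem result (A : Type u) [CommRing A]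
    (hA : ∀ f : A[X], f.Monic → ∃ s : Multiset A, f = (s.map fun a => X - C a).prod) (I : Ideal A)
    (hI : I ≤ Ideal.jacobson (⊥ : Ideal A))
    (hidem : ∀ e : A ⧸ I, IsIdempotentElem e → ∃ e' : A, IsIdempotentElem e' ∧ Ideal.Quotient.mk I e' = e) :
    HenselianRing A I := by
  classical
  refine ⟨hI, fun f hf a₀ h0 h1 => ?_⟩
  obtain ⟨s, hs⟩ := hA f hf
  -- index the roots
  obtain ⟨n, r, hr⟩ : ∃ (n : ℕ) (r : Fin n → A), f = ∏ i, (X - C (r i)) := by
    refine ⟨s.toList.length, fun i => s.toList.get i, ?_⟩
    rw [hs, ← Multiset.prod_map_toList]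
    exact (Fin.prod_univ_fun_getElem s.toList (fun a => X - C a)).symm
  have hev : f.eval a₀ = ∏ i, (a₀ - r i) := by
    rw [hr, eval_prod]; simp
  have hder : f.derivative.eval a₀ = ∑ i, ∏ j ∈ Finset.univ.erase i, (a₀ - r j) := by
    rw [hr, derivative_prod_finset, eval_finsetSum]
    simp [eval_prod]
  let q := Ideal.Quotient.mk I
  let u : Fin n → A ⧸ I := fun i => q (a₀ - r i)
  have hu0 : ∏ i, u i = 0 := by
    have : q (f.eval a₀) = 0 := Ideal.Quotient.eq_zero_iff_mem.mpr h0
    rw [hev, map_prod] at this
    exact this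
  obtain ⟨w, hw⟩ := h1
  have hw' : (w : A ⧸ I) = ∑ i, ∏ j ∈ Finset.univ.erase i, u j := by
    rw [hw, hder, map_sum]
    simp only [map_prod]
    rfl
  let e : Fin n → A ⧸ I := fun i => (w⁻¹ : (A ⧸ I)ˣ) * ∏ j ∈ Finset.univ.erase i, u j
  have he1 : ∑ i, e i = 1 := by
    simp only [e]
    rw [← Finset.mul_sum, ← hw', Units.inv_mul]
  have heu : ∀ i, e i * u i = 0 := by
    intro i
    simp only [e]
    rw [mul_assoc, Finset.prod_erase_mul _ _ (Finset.mem_univ i), hu0, mul_zero]
  have hee : ∀ i j, i ≠ j → e i * e j = 0 := by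
    intro i j hij
    have h2 : ∏ k ∈ Finset.univ.erase j, u k = u i * ∏ k ∈ (Finset.univ.erase j).erase i, u k :=
      (Finset.mul_prod_erase _ _ (Finset.mem_erase.mpr ⟨hij, Finset.mem_univ i⟩)).symm
    have h3 : e j = u i * ((w⁻¹ : (A ⧸ I)ˣ) * ∏ k ∈ (Finset.univ.erase j).erase i, u k) := by
      simp only [e]; rw [h2]; ring
    rw [h3, ← mul_assoc, heu, zero_mul]
  have hidem' : ∀ i, IsIdempotentElem (e i) := by
    intro i
    have : e i * ∑ j, e j = e i * e i := by
      rw [Finset.mul_sum]
      exact Finset.sum_eq_single i (fun j _ hj => hee i j hj.symm) (fun h => absurd (Finset.mem_univ i) h)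
    rw [he1, mul_one] at this
    exact this.symm
  choose e' he' hqe using fun i => hidem (e i) (hidem' i)
  have horth : ∀ i j, i ≠ j → e' i * e' j = 0 := by
    intro i j hij
    apply idem_eq_zero _ ((he' i).mul (he' j))
    apply hI
    rw [← Ideal.Quotient.eq_zero_iff_mem, map_mul, hqe, hqe, hee i j hij]
  have hmul : ∀ i, e' i * ∑ j, e' j = e' i := by
    intro i
    rw [Finset.mul_sum, Finset.sum_eq_single i (fun j _ hj => horth i j hj.symm)
      (fun h => absurd (Finset.mem_univ i) h)]
    exact he' i
  have hsum : ∑ i, e' i = 1 := by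
    have hS : IsIdempotentElem (∑ i, e' i) := by
      change (∑ i, e' i) * (∑ i, e' i) = ∑ i, e' i
      conv_lhs => rw [Finset.sum_mul]
      exact Finset.sum_congr rfl fun i _ => hmul i
    have h1S := hS.one_sub
    have : 1 - ∑ i, e' i = 0 := by
      apply idem_eq_zero _ h1S
      apply hI
      rw [← Ideal.Quotient.eq_zero_iff_mem, map_sub, map_sum, map_one]
      simp only [hqe]
      rw [he1, sub_self]
    exact (sub_eq_zero.mp this).symm
  let a : A := ∑ i, e' i * r i
  have ha : ∀ i, e' i * (a - r i) = 0 := by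
    intro i
    have : e' i * a = e' i * r i := by
      simp only [a]
      rw [Finset.mul_sum, Finset.sum_eq_single i]
      · rw [← mul_assoc, (he' i).eq]
      · intro j _ hj
        rw [← mul_assoc, horth i j hj.symm, zero_mul]
      · exact fun h => absurd (Finset.mem_univ i) h
    rw [mul_sub, this, sub_self]
  refine ⟨a, ?_, ?_⟩
  · change f.eval a = 0
    have h4 : f.eval a = ∏ i, (a - r i) := by
      rw [hr, eval_prod]; simp
    have h5 : ∀ i, e' i * f.eval a = 0 := by
      intro i
      rw [h4, ← Finset.mul_prod_erase _ _ (Finset.mem_univ i), ← mul_assoc, ha, zero_mul]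
    rw [← one_mul (f.eval a), ← hsum, Finset.sum_mul]
    exact Finset.sum_eq_zero fun i _ => h5 i
  · have h6 : a - a₀ = ∑ i, e' i * (r i - a₀) := by
      simp only [a, mul_sub]
      rw [Finset.sum_sub_distrib, ← Finset.sum_mul, hsum, one_mul]
    rw [← Ideal.Quotient.eq_zero_iff_mem, h6, map_sum]
    refine Finset.sum_eq_zero fun i _ => ?_
    rw [map_mul, hqe]
    have : q (r i - a₀) = - u i := by
      simp only [u]; rw [← map_neg]; congr 1; ring
    change e i * q (r i - a₀) = 0
    rw [this, mul_neg, heu, neg_zero]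

end Groth.Agent.S6888
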