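import Groth.Statements.S6893
import Groth.Agent.Flat2B.NilpFlat
import Groth.Agent.Ega43.NilpotentFlat

set_option autoImplicit false
universe u
open TensorProduct
open CAlg

namespace Groth.Agent.S6893

/-- Let `M` be a module over a ring `R` and `I₁, I₂ ⊆ R` ideals. Suppose flatness of `M/I₁M` as an
`R/I₁`-module holds, and likewise `M/I₂M` is a flat `R/I₂`-module; then the quotient `M/(I₁ ∩ I₂)M`
is also flat as a module over `R/(I₁ ∩ I₂)`. -/
theorem result {R : Type u} [CommRing R] (M : Type u) [AddCommGroup M] [Module R M]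
    (I₁ I₂ : Ideal R) [Module.Flat (R ⧸ I₁) ((R ⧸ I₁) ⊗[R] M)] [Module.Flat (R ⧸ I₂) ((R ⧸ I₂) ⊗[R] M)] :
    Module.Flat (R ⧸ (I₁ ⊓ I₂)) ((R ⧸ (I₁ ⊓ I₂)) ⊗[R] M) := by
  rw [Module.Flat.iff_rTensor_injective']
  intro J
  rw [Groth.Agent.Flat2B.NilpFlat.rTensor_injective_iff]
  -- the maps to the two quotients
  let q₁ : (R ⧸ (I₁ ⊓ I₂)) →ₗ[R] (R ⧸ I₁) := Submodule.factor inf_le_left
  let q₂ : (R ⧸ (I₁ ⊓ I₂)) →ₗ[R] (R ⧸ I₂) := Submodule.factor inf_le_right
  let i : J →ₗ[R] (R ⧸ (I₁ ⊓ I₂)) := J.subtype.restrictScalars R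
  -- `A₁ = ker (J → R/I₁)`
  let f₁ : J →ₗ[R] (R ⧸ I₁) := q₁ ∘ₗ i
  let g : LinearMap.ker f₁ →ₗ[R] (R ⧸ I₂) := q₂ ∘ₗ i ∘ₗ (LinearMap.ker f₁).subtype
  have hq : ∀ x : R ⧸ (I₁ ⊓ I₂), q₁ x = 0 → q₂ x = 0 → x = 0 := by
    intro x h1 h2
    obtain ⟨x, rfl⟩ := Ideal.Quotient.mk_surjective x
    have h1' : (Ideal.Quotient.mk I₁ x) = 0 := h1
    have h2' : (Ideal.Quotient.mk I₂ x) = 0 := h2
    rw [Ideal.Quotient.eq_zero_iff_mem] at h1' h2' ⊢
    exact ⟨h1', h2'⟩
  have hg : Function.Injective g := by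
    rw [injective_iff_map_eq_zero]
    intro x hx
    apply Subtype.ext; apply Subtype.ext
    exact hq _ x.2 hx
  have hq1k : ∀ a ∈ I₁, ∀ n : R ⧸ I₁, a • n = 0 := by
    intro a ha n
    obtain ⟨n, rfl⟩ := Ideal.Quotient.mk_surjective n
    change Ideal.Quotient.mk I₁ (a * n) = 0
    exact Ideal.Quotient.eq_zero_iff_mem.mpr (I₁.mul_mem_right _ ha)
  have hq2k : ∀ a ∈ I₂, ∀ n : R ⧸ I₂, a • n = 0 := by
    intro a ha n
    obtain ⟨n, rfl⟩ := Ideal.Quotient.mk_surjective n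
    change Ideal.Quotient.mk I₂ (a * n) = 0
    exact Ideal.Quotient.eq_zero_iff_mem.mpr (I₂.mul_mem_right _ ha)
  have hker : ∀ a ∈ I₂, ∀ n : LinearMap.ker f₁, a • n = 0 := by
    intro a ha n
    apply hg
    rw [map_smul, map_zero, hq2k a ha]
  have hgM : Function.Injective (g.rTensor M) :=
    Groth.Agent.Ega43.NilpotentFlat.rTensor_injective_of_flat_quotient M I₂ hker hq2k g hg
  -- the range of `f₁`
  have hran : ∀ a ∈ I₁, ∀ n : LinearMap.range f₁, a • n = 0 := by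
    intro a ha n
    apply Subtype.ext
    exact hq1k a ha n.1
  have hrM : Function.Injective ((LinearMap.range f₁).subtype.rTensor M) :=
    Groth.Agent.Ega43.NilpotentFlat.rTensor_injective_of_flat_quotient M I₁ hran hq1k _
      Subtype.val_injective
  have hex : Function.Exact ((LinearMap.ker f₁).subtype.rTensor M) (f₁.rangeRestrict.rTensor M) := by
    apply rTensor_exact M
    · rw [LinearMap.exact_iff, LinearMap.ker_rangeRestrict, Submodule.range_subtype]
    · exact f₁.surjective_rangeRestrict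
  rw [injective_iff_map_eq_zero]
  intro x hx
  have hx' : i.rTensor M x = 0 := hx
  have h1 : f₁.rangeRestrict.rTensor M x = 0 := by
    apply hrM
    rw [map_zero]
    have : (LinearMap.range f₁).subtype.rTensor M (f₁.rangeRestrict.rTensor M x) =
        q₁.rTensor M (i.rTensor M x) := by
      rw [← LinearMap.comp_apply, ← LinearMap.comp_apply, ← LinearMap.rTensor_comp, ← LinearMap.rTensor_comp]
      rfl
    rw [this, hx', map_zero]
  obtain ⟨y, rfl⟩ := (hex x).mp h1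
  have h2 : g.rTensor M y = 0 := by
    have : g.rTensor M y = q₂.rTensor M (i.rTensor M ((LinearMap.ker f₁).subtype.rTensor M y)) := by
      rw [← LinearMap.comp_apply, ← LinearMap.comp_apply, ← LinearMap.rTensor_comp, ← LinearMap.rTensor_comp]
      rfl
    rw [this, hx', map_zero]
  rw [show y = 0 from hgM (h2.trans (map_zero _).symm), map_zero]

end Groth.Agent.S6893
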