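import Groth.Statements.S6898
import Mathlib.RingTheory.Flat.Basic
import Mathlib.RingTheory.Flat.Tensor
import Mathlib.RingTheory.SimpleModule.Basic
import Mathlib.RingTheory.Finiteness.Basic
import Mathlib.LinearAlgebra.TensorProduct.Quotient
import Mathlib.RingTheory.TensorProduct.Finite
import Mathlib.RingTheory.LocalRing.ResidueField.Basic

set_option autoImplicit false
universe u
open TensorProduct
open CAlg

namespace Groth.Agent.S6898

section
variable {A : Type u} [CommRing A] (N : Type u) [AddCommGroup N] [Module A N]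

/-- `I N` is the image of `I ⊗ N → N`. -/
theorem mem_smul_top_iff (I : Ideal A) (y : N) :
    y ∈ I • (⊤ : Submodule A N) ↔ ∃ t : I ⊗[A] N, I.subtype.rTensor N t = 1 ⊗ₜ y := by
  constructor
  · intro h
    induction h using Submodule.smul_induction_on' with
    | smul a ha n _ =>
      exact ⟨⟨a, ha⟩ ⊗ₜ n, by
        rw [LinearMap.rTensor_tmul, Submodule.subtype_apply, ← TensorProduct.smul_tmul, smul_eq_mul, mul_one]⟩
    | add x _ y _ hx hy =>
      obtain ⟨s, hs⟩ := hx
      obtain ⟨t, ht⟩ := hy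
      exact ⟨s + t, by rw [map_add, hs, ht, TensorProduct.tmul_add]⟩
  · rintro ⟨t, ht⟩
    have h1 : y = TensorProduct.lid A N (I.subtype.rTensor N t) := by rw [ht]; simp
    rw [h1]
    clear h1 ht
    induction t using TensorProduct.induction_on with
    | zero => simp
    | add x y hx hy => rw [map_add, map_add]; exact add_mem hx hy
    | tmul a n =>
      simp only [LinearMap.rTensor_tmul, Submodule.subtype_apply, TensorProduct.lid_tmul]
      exact Submodule.smul_mem_smul a.2 trivial

theorem mk_tmul_eq_zero (J : Ideal A) {y : N} (hy : y ∈ J • (⊤ : Submodule A N)) :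
    (Ideal.Quotient.mk J 1) ⊗ₜ[A] y = (0 : (A ⧸ J) ⊗[A] N) := by
  obtain ⟨t, ht⟩ := (mem_smul_top_iff N J y).mp hy
  have h1 : (J.mkQ.rTensor N) (J.subtype.rTensor N t) = 0 := by
    rw [← LinearMap.comp_apply, ← LinearMap.rTensor_comp]
    have : J.mkQ ∘ₗ J.subtype = 0 := by
      ext x
      exact Ideal.Quotient.eq_zero_iff_mem.mpr x.2
    rw [this]; simp
  rw [ht] at h1
  exact h1

/-- For `N` flat, `IN ∩ JN = (I ∩ J)N`. -/
theorem mem_inf_smul_top [Module.Flat A N] (I J : Ideal A) {y : N} (hI : y ∈ I • (⊤ : Submodule A N))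
    (hJ : y ∈ J • (⊤ : Submodule A N)) : y ∈ (I ⊓ J) • (⊤ : Submodule A N) := by
  obtain ⟨t, ht⟩ := (mem_smul_top_iff N I y).mp hI
  let i : (I ⊓ J : Ideal A) →ₗ[A] I := Submodule.inclusion inf_le_left
  let q : I →ₗ[A] (A ⧸ J) := J.mkQ ∘ₗ I.subtype
  have hex : Function.Exact i q := by
    rw [LinearMap.exact_iff]
    ext ⟨x, hx⟩
    simp only [LinearMap.mem_ker, LinearMap.mem_range]
    constructor
    · intro h
      have : x ∈ J := by
        have h' : Ideal.Quotient.mk J x = 0 := h
        rwa [Ideal.Quotient.eq_zero_iff_mem] at h'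
      exact ⟨⟨x, hx, this⟩, rfl⟩
    · rintro ⟨⟨z, hz⟩, hz'⟩
      have : z = x := congrArg Subtype.val hz'
      subst this
      exact Ideal.Quotient.eq_zero_iff_mem.mpr hz.2
  have hexN := Module.Flat.rTensor_exact (M := N) hex
  have h0 : q.rTensor N t = 0 := by
    have : q.rTensor N t = J.mkQ.rTensor N (I.subtype.rTensor N t) := by
      rw [← LinearMap.comp_apply, ← LinearMap.rTensor_comp]
    rw [this, ht]
    exact mk_tmul_eq_zero N J hJ
  obtain ⟨s, rfl⟩ := (hexN t).mp h0
  rw [mem_smul_top_iff]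
  refine ⟨s, ?_⟩
  rw [← ht, ← LinearMap.comp_apply, ← LinearMap.rTensor_comp]
  rfl

end

theorem fg_of_isLeast {A : Type u} [CommRing A] {M : Type u} [AddCommGroup M] [Module A M] (x : M) (I : Ideal A)
    (hx : IsLeast {J : Ideal A | x ∈ J • (⊤ : Submodule A M)} I) : I.FG := by
  obtain ⟨t, ht⟩ := (mem_smul_top_iff M I x).mp hx.1
  obtain ⟨J, hJ, hJI, y, hy⟩ := Submodule.exists_fg_le_eq_rTensor_inclusion (I := I) t
  have h1 : x ∈ (J : Ideal A) • (⊤ : Submodule A M) := by
    rw [mem_smul_top_iff]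
    refine ⟨y, ?_⟩
    rw [← ht, hy, ← LinearMap.comp_apply, ← LinearMap.rTensor_comp]
    rfl
  rw [le_antisymm (hx.2 h1) hJI]
  exact hJ

/-- Let `(A, 𝔪)` be a local ring and `u : M → N` a linear map between flat `A`-modules whose reduction
`M/𝔪M → N/𝔪N` is injective. If `I` is the content ideal of some `x ∈ M` (the least ideal `I` with `x
∈ IM`), then `I` is also the least ideal `J` with `u(x) ∈ J·N`. -/
theorem result {A : Type u} [CommRing A] [IsLocalRing A] {M N : Type u}
    [AddCommGroup M] [Module A M] [Module.Flat A M] [AddCommGroup N] [Module A N] [Module.Flat A N] (u : M →ₗ[A] N)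
    (hu : Function.Injective (u.baseChange (IsLocalRing.ResidueField A))) (x : M) (I : Ideal A)
    (hx : IsLeast {J : Ideal A | x ∈ J • (⊤ : Submodule A M)} I) :
    IsLeast {J : Ideal A | u x ∈ J • (⊤ : Submodule A N)} I := by
  have hux : u x ∈ I • (⊤ : Submodule A N) := by
    have h1 : u x ∈ (I • (⊤ : Submodule A M)).map u := ⟨x, hx.1, rfl⟩
    rw [Submodule.map_smul''] at h1
    exact Submodule.smul_mono le_rfl le_top h1
  refine ⟨hux, ?_⟩
  intro J hJ
  have hK := mem_inf_smul_top N I J hux hJ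
  -- it suffices to prove that `K = I ⊓ J` is all of `I`
  set K : Ideal A := I ⊓ J with hKdef
  by_contra hIJ
  have hIfin : Module.Finite A I := Module.Finite.iff_fg.mpr (fg_of_isLeast x I hx)
  let K' : Submodule A I := Submodule.comap I.subtype K
  have hK' : K' ≠ ⊤ := by
    intro h
    apply hIJ
    intro a ha
    have : (⟨a, ha⟩ : I) ∈ K' := by rw [h]; trivial
    exact (show a ∈ K from this).2
  obtain ⟨P, hP, hKP⟩ := (IsCoatomic.eq_top_or_exists_le_coatom K').resolve_left hK'
  have hsimple : IsSimpleModule A (I ⧸ P) := isSimpleModule_iff_isCoatom.mpr hP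
  obtain ⟨m, hm, ⟨e⟩⟩ := isSimpleModule_iff_quot_maximal.mp hsimple
  obtain rfl : m = IsLocalRing.maximalIdeal A := IsLocalRing.eq_maximalIdeal hm
  -- the functional `f : I → k`
  let f : I →ₗ[A] IsLocalRing.ResidueField A := e.toLinearMap ∘ₗ P.mkQ
  have hfker : ∀ a : I, f a = 0 ↔ a ∈ P := by
    intro a
    have : (f a = 0) = (e (P.mkQ a) = (0 : A ⧸ IsLocalRing.maximalIdeal A)) := rfl
    rw [this, map_eq_zero_iff e e.injective, ← LinearMap.mem_ker, Submodule.ker_mkQ]
  obtain ⟨t, ht⟩ := (mem_smul_top_iff M I x).mp hx.1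
  have hne : f.rTensor M t ≠ 0 := by
    intro h0
    have hex : Function.Exact (P.subtype.rTensor M) (f.rTensor M) := by
      apply rTensor_exact M
      · rw [LinearMap.exact_iff, Submodule.range_subtype]
        ext a
        exact hfker a
      · exact e.surjective.comp P.mkQ_surjective
    obtain ⟨s, hs⟩ := (hex t).mp h0
    have h2 : x ∈ (P.map I.subtype : Ideal A) • (⊤ : Submodule A M) := by
      rw [mem_smul_top_iff]
      let j : P →ₗ[A] (P.map I.subtype : Ideal A) := I.subtype.submoduleMap P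
      refine ⟨j.rTensor M s, ?_⟩
      rw [← ht, ← hs, ← LinearMap.comp_apply, ← LinearMap.rTensor_comp, ← LinearMap.comp_apply,
        ← LinearMap.rTensor_comp]
      rfl
    have h3 : I ≤ (P.map I.subtype : Ideal A) := hx.2 h2
    apply hP.1
    rw [eq_top_iff]
    rintro ⟨a, ha⟩ -
    obtain ⟨⟨b, hb⟩, hbP, hba⟩ := h3 ha
    have : b = a := hba
    subst this
    exact hbP
  -- the image of `t` in `I ⊗ N`
  have h4 : I.subtype.rTensor N (u.lTensor I t) = 1 ⊗ₜ u x := by
    have : I.subtype.rTensor N (u.lTensor I t) = u.lTensor A (I.subtype.rTensor M t) := by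
      rw [← LinearMap.comp_apply, ← LinearMap.comp_apply, LinearMap.rTensor_comp_lTensor,
        LinearMap.lTensor_comp_rTensor]
    rw [this, ht, LinearMap.lTensor_tmul]
  obtain ⟨s, hs⟩ := (mem_smul_top_iff N K (u x)).mp hK
  let i : K →ₗ[A] I := Submodule.inclusion inf_le_left
  have h5 : u.lTensor I t = i.rTensor N s := by
    apply Module.Flat.rTensor_preserves_injective_linearMap (M := N) I.subtype Subtype.val_injective
    rw [h4, ← hs, ← LinearMap.comp_apply, ← LinearMap.rTensor_comp]
    rfl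
  have h6 : f.rTensor N (u.lTensor I t) = 0 := by
    rw [h5, ← LinearMap.comp_apply, ← LinearMap.rTensor_comp]
    have : f ∘ₗ i = 0 := by
      ext a
      exact (hfker _).mpr (hKP a.2)
    rw [this]; simp
  have h7 : u.lTensor (IsLocalRing.ResidueField A) (f.rTensor M t) = 0 := by
    rw [← h6, ← LinearMap.comp_apply, ← LinearMap.comp_apply, LinearMap.rTensor_comp_lTensor,
        LinearMap.lTensor_comp_rTensor]
  exact hne (hu (h7.trans (map_zero _).symm))

end Groth.Agent.S6898
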