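import Groth.Statements.S6899
-- import your own Groth.Agent.* helpers here
import Groth.Agent.Etalg.Milnor

set_option autoImplicit false
universe u
open TensorProduct
open EtAlg

namespace Groth.Agent.S6899

/-- Let `B' = B ×_A A'` be a fibre square of rings with `A' → A` surjective, and let `(N₁, M₁', φ₁) →
(N₂, M₂', φ₂)` be a morphism of glueing data (a `B`-linear `u : N₁ → N₂` and an `A'`-linear `v : M₁'
→ M₂'` compatible with the `φ_i`) with `u` and `v` surjective. Then the induced map of glued modules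
`N₁ ×_{φ₁} M₁' → N₂ ×_{φ₂} M₂'` is surjective. -/
theorem result (B' B A' A : Type u) [CommRing B'] [CommRing B] [CommRing A'] [CommRing A]
    [Algebra B' B] [Algebra B' A'] [Algebra B A] [Algebra A' A] [Algebra B' A] [IsScalarTower B' B A] [IsScalarTower B' A' A]
    (hsq : EtMil.IsFibreSquare B' B A' A)
    {N₁ N₂ M₁' M₂' : Type u} [AddCommGroup N₁] [Module B N₁] [Module B' N₁] [IsScalarTower B' B N₁]
    [AddCommGroup N₂] [Module B N₂] [Module B' N₂] [IsScalarTower B' B N₂]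
    [AddCommGroup M₁'] [Module A' M₁'] [Module B' M₁'] [IsScalarTower B' A' M₁']
    [AddCommGroup M₂'] [Module A' M₂'] [Module B' M₂'] [IsScalarTower B' A' M₂']
    (φ₁ : A ⊗[B] N₁ ≃ₗ[A] A ⊗[A'] M₁') (φ₂ : A ⊗[B] N₂ ≃ₗ[A] A ⊗[A'] M₂') (u : N₁ →ₗ[B] N₂) (v : M₁' →ₗ[A'] M₂')
    (hc : (v.baseChange A).comp φ₁.toLinearMap = φ₂.toLinearMap.comp (u.baseChange A))
    (hu : Function.Surjective u) (hv : Function.Surjective v) :
    ∀ y : N₂ × M₂', y ∈ EtMil.glue B' φ₂ → ∃ x : N₁ × M₁', x ∈ EtMil.glue B' φ₁ ∧ u x.1 = y.1 ∧ v x.2 = y.2 := by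
  rintro ⟨n₂, m₂⟩ hy
  have hs := hsq.1
  obtain ⟨n₁, rfl⟩ := hu n₂
  obtain ⟨m₁, hm₁⟩ := Groth.Agent.Etalg.Milnor.exists_lift (B' := B') hs φ₁ n₁
  have h1 : ((u n₁, v m₁) : N₂ × M₂') ∈ EtMil.glue B' φ₂ := by
    rw [Groth.Agent.Etalg.Milnor.mem_glue] at hm₁ ⊢
    have h := LinearMap.congr_fun hc ((1 : A) ⊗ₜ[B] n₁)
    simp only [LinearMap.comp_apply, LinearEquiv.coe_coe, LinearMap.baseChange_tmul] at h hm₁ ⊢
    rw [hm₁, LinearMap.baseChange_tmul] at h
    exact h.symm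
  have h2 : ((0, m₂ - v m₁) : N₂ × M₂') ∈ EtMil.glue B' φ₂ := by
    have := Submodule.sub_mem _ hy h1
    simpa using this
  rw [Groth.Agent.Etalg.Milnor.zero_mem_glue_iff hs] at h2
  have h3 : (RingHom.ker (algebraMap A' A)) • (⊤ : Submodule A' M₂') =
      ((RingHom.ker (algebraMap A' A)) • (⊤ : Submodule A' M₁')).map v := by
    rw [Submodule.map_smul'', Submodule.map_top, LinearMap.range_eq_top.2 hv]
  rw [h3] at h2
  obtain ⟨k, hk, hkv⟩ := h2
  have h4 : ((0, k) : N₁ × M₁') ∈ EtMil.glue B' φ₁ :=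
    (Groth.Agent.Etalg.Milnor.zero_mem_glue_iff hs φ₁ k).2 hk
  refine ⟨(n₁, m₁ + k), ?_, rfl, ?_⟩
  · have := Submodule.add_mem _ hm₁ h4
    simpa using this
  · simp [hkv]

end Groth.Agent.S6899
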