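import Groth.Statements.S6905
import Groth.Agent.DRing.K226.KFlat

set_option autoImplicit false
universe u
open CategoryTheory CategoryTheory.Limits MonoidalCategory
open DRing

namespace Groth.Agent.S6905

/-- For every complex `M•` of `R`-modules there is a K-flat complex `K•` with flat terms together with a
degreewise surjective quasi-isomorphism `K• → M•`. -/
theorem result (R : Type u) [CommRing R] (M : DRing.Cx R) :
    ∃ (K : DRing.Cx R) (f : K ⟶ M), (∀ L : DRing.Cx R, (∀ i : ℤ, IsZero (L.homology i)) → ∀ i : ℤ, IsZero ((L ⊗ K).homology i)) ∧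
      DRing.TermwiseFlat K ∧ QuasiIso f ∧ ∀ i : ℤ, Function.Surjective (f.f i) := by
  obtain ⟨N, c, h1, h2, h3, h4⟩ := K226.KFlat.exists_resolution M
  exact ⟨N, c, (K226.KFlat.isKF_iff N).2 h3, h4, h1, fun i => (ModuleCat.epi_iff_surjective _).1 (h2 i)⟩

end Groth.Agent.S6905
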