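import Groth.Statements.S6909
import Mathlib.RingTheory.Filtration

set_option autoImplicit false
universe u
open CAlg

namespace Groth.Agent.S6909

/-- A linear map with image in `J N` maps `I M` into `(I * J) N`. -/
theorem map_mem_of_mem_smul {A : Type u} [CommRing A] {M N : Type u} [AddCommGroup M] [Module A M]
    [AddCommGroup N] [Module A N] (d : M →ₗ[A] N) (J : Ideal A)
    (hd : ∀ x, d x ∈ J • (⊤ : Submodule A N)) (I : Ideal A) {x : M} (hx : x ∈ I • (⊤ : Submodule A M)) :
    d x ∈ (I * J) • (⊤ : Submodule A N) := by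
  have h1 : d x ∈ (I • (⊤ : Submodule A M)).map d := ⟨x, hx, rfl⟩
  rw [Submodule.map_smul''] at h1
  have h2 : (⊤ : Submodule A M).map d ≤ J • (⊤ : Submodule A N) := by
    rintro _ ⟨x, -, rfl⟩; exact hd x
  have h3 := Submodule.smul_mono (le_refl I) h2 h1
  rwa [← Submodule.smul_assoc, smul_eq_mul] at h3

/-- The inductive step of the comparison: elements of `g'⁻¹(Iⁿ N)` lie in `f'(L) + I^r M` for `r ≤ n - c`. -/
theorem key {A : Type u} [CommRing A] (I : Ideal A)
    {L M N : Type u} [AddCommGroup L] [Module A L]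
    [AddCommGroup M] [Module A M] [AddCommGroup N] [Module A N]
    (f f' : L →ₗ[A] M) (g g' : M →ₗ[A] N) (c : ℕ) (hgf' : g'.comp f' = 0)
    (hf : (∀ n : ℕ, c ≤ n → LinearMap.range f ⊓ (I ^ n • (⊤ : Submodule A M)) ≤ Submodule.map f (I ^ (n - c) • (⊤ : Submodule A L))))
    (hg : (∀ n : ℕ, c ≤ n → LinearMap.range g ⊓ (I ^ n • (⊤ : Submodule A N)) ≤ Submodule.map g (I ^ (n - c) • (⊤ : Submodule A M))))
    (hex : Function.Exact f g)
    (hff' : ∀ x : L, f x - f' x ∈ I ^ (c + 1) • (⊤ : Submodule A M))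
    (hgg' : ∀ y : M, g y - g' y ∈ I ^ (c + 1) • (⊤ : Submodule A N)) (n : ℕ) (a : M)
    (ha : g' a ∈ I ^ n • (⊤ : Submodule A N)) (r : ℕ) (hr : r + c ≤ n) :
    ∃ b : L, a - f' b ∈ I ^ r • (⊤ : Submodule A M) := by
  induction r with
  | zero => exact ⟨0, by simp⟩
  | succ r ih =>
    obtain ⟨b, hb⟩ := ih (by omega)
    set a₀ := a - f' b with ha₀
    have h1 : g' a₀ ∈ I ^ n • (⊤ : Submodule A N) := by
      have : g' (f' b) = 0 := LinearMap.congr_fun hgf' b
      rw [ha₀, map_sub, this, sub_zero]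
      exact ha
    have h2 : (g - g') a₀ ∈ I ^ (r + c + 1) • (⊤ : Submodule A N) := by
      have := map_mem_of_mem_smul (g - g') (I ^ (c + 1)) hgg' (I ^ r) hb
      rwa [← pow_add] at this
    have h3 : g a₀ ∈ I ^ (r + c + 1) • (⊤ : Submodule A N) := by
      have : g a₀ = g' a₀ + (g - g') a₀ := by simp
      rw [this]
      exact add_mem (Submodule.smul_mono_left (Ideal.pow_le_pow_right (by omega)) h1) h2
    obtain ⟨a₁, ha₁, hga₁⟩ := hg (r + c + 1) (by omega) ⟨⟨a₀, rfl⟩, h3⟩
    have hrc : r + c + 1 - c = r + 1 := by omega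
    rw [hrc] at ha₁
    obtain ⟨b', hb'⟩ := (hex (a₀ - a₁)).mp (by rw [map_sub, hga₁, sub_self])
    have ha₁' : a₁ ∈ I ^ r • (⊤ : Submodule A M) :=
      Submodule.smul_mono_left (Ideal.pow_le_pow_right (Nat.le_succ r)) ha₁
    have hfb' : f b' ∈ I ^ r • (⊤ : Submodule A M) := by
      rw [hb']; exact sub_mem hb ha₁'
    -- choose a good preimage
    obtain ⟨b'', hb''f, hb''⟩ : ∃ b'' : L, f b'' = f b' ∧ (f - f') b'' ∈ I ^ (r + 1) • (⊤ : Submodule A M) := by
      rcases le_or_gt c r with hcr | hcr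
      · obtain ⟨b'', hb'', h⟩ := hf r hcr ⟨⟨b', rfl⟩, hfb'⟩
        refine ⟨b'', h, ?_⟩
        have := map_mem_of_mem_smul (f - f') (I ^ (c + 1)) hff' (I ^ (r - c)) hb''
        rw [← pow_add] at this
        rwa [show r - c + (c + 1) = r + 1 by omega] at this
      · refine ⟨b', rfl, ?_⟩
        exact Submodule.smul_mono_left (Ideal.pow_le_pow_right (by omega)) (hff' b')
    refine ⟨b + b'', ?_⟩
    have h5 : a - f' (b + b'') = (f - f') b'' + a₁ := by
      have : a = f' b + a₀ := by rw [ha₀]; abel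
      have h6 : a₀ = f b'' + a₁ := by rw [hb''f, hb']; abel
      rw [this, h6, map_add, LinearMap.sub_apply]
      abel
    rw [h5]
    exact add_mem hb'' ha₁

/-- Let `A` be a Noetherian ring, `I ⊆ A` an ideal inside the Jacobson radical, and `L → M → N` two
complexes `(f, g)` and `(f', g')` of finite `A`-modules with `f' ≡ f` modulo `I^{c+1}M` and `g' ≡ g`
modulo `I^{c+1}N`. If `c` works in the Artin–Rees lemma for `f` and for `g` (that is `f(L) ∩ IⁿM ⊆
f(I^{n-c}L)` for `n ≥ c`, and likewise for `g`) and `(f, g)` is exact, then `c` works for `g'` and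
`(f', g')` is exact. -/
theorem result {A : Type u} [CommRing A] [IsNoetherianRing A] (I : Ideal A)
    (hI : I ≤ Ideal.jacobson (⊥ : Ideal A)) {L M N : Type u} [AddCommGroup L] [Module A L] [Module.Finite A L]
    [AddCommGroup M] [Module A M] [Module.Finite A M] [AddCommGroup N] [Module A N] [Module.Finite A N]
    (f f' : L →ₗ[A] M) (g g' : M →ₗ[A] N) (c : ℕ) (hgf : g.comp f = 0) (hgf' : g'.comp f' = 0)
    (hf : (∀ n : ℕ, c ≤ n → LinearMap.range f ⊓ (I ^ n • (⊤ : Submodule A M)) ≤ Submodule.map f (I ^ (n - c) • (⊤ : Submodule A L))))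
    (hg : (∀ n : ℕ, c ≤ n → LinearMap.range g ⊓ (I ^ n • (⊤ : Submodule A N)) ≤ Submodule.map g (I ^ (n - c) • (⊤ : Submodule A M))))
    (hex : Function.Exact f g)
    (hff' : ∀ x : L, f x - f' x ∈ I ^ (c + 1) • (⊤ : Submodule A M))
    (hgg' : ∀ y : M, g y - g' y ∈ I ^ (c + 1) • (⊤ : Submodule A N)) :
    (∀ n : ℕ, c ≤ n → LinearMap.range g' ⊓ (I ^ n • (⊤ : Submodule A N)) ≤ Submodule.map g' (I ^ (n - c) • (⊤ : Submodule A M))) ∧
    Function.Exact f' g' := by
  have hk := key I f f' g g' c hgf' hf hg hex hff' hgg'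
  constructor
  · rintro n hn _ ⟨⟨a, rfl⟩, ha⟩
    obtain ⟨b, hb⟩ := hk n a ha (n - c) (by omega)
    refine ⟨a - f' b, hb, ?_⟩
    have : g' (f' b) = 0 := LinearMap.congr_fun hgf' b
    rw [map_sub, this, sub_zero]
  · intro a
    constructor
    · intro ha
      have h1 : ∀ r : ℕ, (LinearMap.range f').mkQ a ∈ (I ^ r • (⊤ : Submodule A (M ⧸ LinearMap.range f'))) := by
        intro r
        obtain ⟨b, hb⟩ := hk (r + c) a (by rw [ha]; exact zero_mem _) r le_rfl
        have h2 : (LinearMap.range f').mkQ a = (LinearMap.range f').mkQ (a - f' b) := by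
          rw [map_sub]
          have : (LinearMap.range f').mkQ (f' b) = 0 := by
            simp
          rw [this, sub_zero]
        rw [h2]
        have h3 : (LinearMap.range f').mkQ (a - f' b) ∈ (I ^ r • (⊤ : Submodule A M)).map (LinearMap.range f').mkQ :=
          ⟨_, hb, rfl⟩
        rw [Submodule.map_smul''] at h3
        exact Submodule.smul_mono le_rfl le_top h3
      have h4 : (LinearMap.range f').mkQ a ∈ (⨅ i : ℕ, I ^ i • ⊤ : Submodule A (M ⧸ LinearMap.range f')) := by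
        rw [Submodule.mem_iInf]; exact h1
      rw [Ideal.iInf_pow_smul_eq_bot_of_le_jacobson I hI, Submodule.mem_bot, ← LinearMap.mem_ker,
        Submodule.ker_mkQ] at h4
      exact h4
    · rintro ⟨b, rfl⟩
      exact LinearMap.congr_fun hgf' b

end Groth.Agent.S6909
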