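import Groth.Statements.S6910
import Groth.Agent.S6909

set_option autoImplicit false
universe u
open CAlg

namespace Groth.Agent.S6910

/-- One inclusion; only `c works for g` and the congruence of `g`, `g'` are used. -/
theorem key {A : Type u} [CommRing A] (I : Ideal A)
    {M N : Type u} [AddCommGroup M] [Module A M] [AddCommGroup N] [Module A N]
    (g g' : M →ₗ[A] N) (c : ℕ)
    (hg : (∀ n : ℕ, c ≤ n → LinearMap.range g ⊓ (I ^ n • (⊤ : Submodule A N)) ≤ Submodule.map g (I ^ (n - c) • (⊤ : Submodule A M))))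
    (hgg' : ∀ y : M, g y - g' y ∈ I ^ (c + 1) • (⊤ : Submodule A N)) (n : ℕ) :
    I ^ (n + 1) • (⊤ : Submodule A N) ⊔ (LinearMap.range g ⊓ I ^ n • (⊤ : Submodule A N)) ≤
      I ^ (n + 1) • (⊤ : Submodule A N) ⊔ (LinearMap.range g' ⊓ I ^ n • (⊤ : Submodule A N)) := by
  refine sup_le le_sup_left ?_
  rintro y ⟨⟨a, rfl⟩, ha⟩
  -- choose `a` so that `(g - g') a ∈ I^(n+1) N`
  obtain ⟨a', ha', hd⟩ : ∃ a' : M, g a' = g a ∧ (g - g') a' ∈ I ^ (n + 1) • (⊤ : Submodule A N) := by
    rcases le_or_gt c n with hcn | hcn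
    · obtain ⟨a', h1, h2⟩ := hg n hcn ⟨⟨a, rfl⟩, ha⟩
      refine ⟨a', h2, ?_⟩
      have := Groth.Agent.S6909.map_mem_of_mem_smul (g - g') (I ^ (c + 1)) hgg' (I ^ (n - c)) h1
      rw [← pow_add] at this
      rwa [show n - c + (c + 1) = n + 1 by omega] at this
    · exact ⟨a, rfl, Submodule.smul_mono_left (Ideal.pow_le_pow_right (by omega)) (hgg' a)⟩
  have h3 : g a = (g - g') a' + g' a' := by rw [← ha']; simp
  have h4 : g' a' ∈ I ^ n • (⊤ : Submodule A N) := by
    have : g' a' = g a - (g - g') a' := by rw [h3]; abel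
    rw [this]
    exact sub_mem ha (Submodule.smul_mono_left (Ideal.pow_le_pow_right (Nat.le_succ n)) hd)
  rw [h3]
  exact Submodule.add_mem_sup hd ⟨⟨a', rfl⟩, h4⟩

/-- Let `A` be a Noetherian ring, `I ⊆ A` an ideal inside the Jacobson radical, and `L → M → N` two
complexes `(f, g)` and `(f', g')` of finite `A`-modules with `f' ≡ f` modulo `I^{c+1}M` and `g' ≡ g`
modulo `I^{c+1}N`, such that the Artin–Rees bound holds with constant `c` for both `f` and `g`, and
`(f, g)` is exact. Then for every `n` the submodules `I^{n+1}N + g(M) ∩ IⁿN` and `I^{n+1}N + g'(M) ∩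
IⁿN` of `N` are equal; consequently the associated graded modules of `Coker g` and `Coker g'` with
respect to `I` coincide degreewise as subquotients of `N`. -/
theorem result {A : Type u} [CommRing A] [IsNoetherianRing A] (I : Ideal A)
    (hI : I ≤ Ideal.jacobson (⊥ : Ideal A)) {L M N : Type u} [AddCommGroup L] [Module A L] [Module.Finite A L]
    [AddCommGroup M] [Module A M] [Module.Finite A M] [AddCommGroup N] [Module A N] [Module.Finite A N]
    (f f' : L →ₗ[A] M) (g g' : M →ₗ[A] N) (c : ℕ) (hgf : g.comp f = 0) (hgf' : g'.comp f' = 0)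
    (hf : (∀ n : ℕ, c ≤ n → LinearMap.range f ⊓ (I ^ n • (⊤ : Submodule A M)) ≤ Submodule.map f (I ^ (n - c) • (⊤ : Submodule A L))))
    (hg : (∀ n : ℕ, c ≤ n → LinearMap.range g ⊓ (I ^ n • (⊤ : Submodule A N)) ≤ Submodule.map g (I ^ (n - c) • (⊤ : Submodule A M))))
    (hex : Function.Exact f g)
    (hff' : ∀ x : L, f x - f' x ∈ I ^ (c + 1) • (⊤ : Submodule A M))
    (hgg' : ∀ y : M, g y - g' y ∈ I ^ (c + 1) • (⊤ : Submodule A N)) (n : ℕ) :
    I ^ (n + 1) • (⊤ : Submodule A N) ⊔ (LinearMap.range g ⊓ I ^ n • (⊤ : Submodule A N)) =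
      I ^ (n + 1) • (⊤ : Submodule A N) ⊔ (LinearMap.range g' ⊓ I ^ n • (⊤ : Submodule A N)) := by
  have h := (Groth.Agent.S6909.result I hI f f' g g' c hgf hgf' hf hg hex hff' hgg').1
  refine le_antisymm (key I g g' c hg hgg' n) (key I g' g c h (fun y => ?_) n)
  rw [← neg_sub]
  exact neg_mem (hgg' y)

end Groth.Agent.S6910
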