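import Groth.Statements.S6911
import Mathlib.RingTheory.Flat.Basic
import Mathlib.RingTheory.Ideal.Maps

set_option autoImplicit false
universe u
open TensorProduct
open CAlg

namespace Groth.Agent.S6911

/-- Let `A → B` be a flat map of Noetherian rings, `I ⊆ A` an ideal and `f : M → N` a map of finite
`A`-modules such that `c` works for `f` in the Artin–Rees lemma (`f(M) ∩ IⁿN ⊆ f(I^{n-c}M)` for `n ≥
c`). Then `c` works for `f ⊗ 1 : M ⊗_A B → N ⊗_A B` and the ideal `IB`. -/
theorem result {A B : Type u} [CommRing A] [IsNoetherianRing A] [CommRing B]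
    [IsNoetherianRing B] [Algebra A B] [Module.Flat A B] (I : Ideal A) {M N : Type u} [AddCommGroup M] [Module A M]
    [Module.Finite A M] [AddCommGroup N] [Module A N] [Module.Finite A N] (f : M →ₗ[A] N) (c : ℕ)
    (hf : (∀ n : ℕ, c ≤ n → LinearMap.range f ⊓ (I ^ n • (⊤ : Submodule A N)) ≤ Submodule.map f (I ^ (n - c) • (⊤ : Submodule A M)))) :
    ∀ n : ℕ, c ≤ n →
      LinearMap.range (f.baseChange B) ⊓ ((I.map (algebraMap A B)) ^ n • (⊤ : Submodule B (B ⊗[A] N))) ≤
        Submodule.map (f.baseChange B) ((I.map (algebraMap A B)) ^ (n - c) • (⊤ : Submodule B (B ⊗[A] M))) := by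
  rintro n hn _ ⟨⟨z, rfl⟩, hz⟩
  let q : N →ₗ[A] N ⧸ (I ^ n • (⊤ : Submodule A N)) := Submodule.mkQ _
  let K : Submodule A M := (I ^ n • (⊤ : Submodule A N)).comap f
  have hex : Function.Exact K.subtype (q ∘ₗ f) := by
    rw [LinearMap.exact_iff, Submodule.range_subtype, LinearMap.ker_comp, Submodule.ker_mkQ]
  have hexB := Module.Flat.lTensor_exact (M := B) hex
  -- `(IB)ⁿ (B ⊗ N)` dies in `B ⊗ N/IⁿN`
  have h0 : ∀ y ∈ (I.map (algebraMap A B)) ^ n • (⊤ : Submodule B (B ⊗[A] N)), q.baseChange B y = 0 := by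
    intro y hy
    rw [← Ideal.map_pow] at hy
    have h1 : (I ^ n).map (algebraMap A B) • (⊤ : Submodule B (B ⊗[A] N)) ≤ LinearMap.ker (q.baseChange B) := by
      rw [Ideal.map, Submodule.span_smul_eq, Submodule.set_smul_le_iff]
      rintro _ y ⟨a, ha, rfl⟩ -
      rw [LinearMap.mem_ker, map_smul]
      induction y using TensorProduct.induction_on with
      | zero => simp
      | add x y hx hy => rw [map_add, smul_add, hx, hy, add_zero]
      | tmul b y =>
        rw [LinearMap.baseChange_tmul, algebraMap_smul, ← TensorProduct.tmul_smul, ← map_smul]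
        have : q (a • y) = 0 := by
          rw [← LinearMap.mem_ker, Submodule.ker_mkQ]
          exact Submodule.smul_mem_smul ha trivial
        rw [this, TensorProduct.tmul_zero]
    exact h1 hy
  have h1 : (q ∘ₗ f).lTensor B z = 0 := by
    have := h0 _ hz
    rw [← LinearMap.comp_apply, ← LinearMap.baseChange_comp] at this
    exact this
  obtain ⟨w, rfl⟩ := (hexB z).mp h1
  clear h1 hz
  have key : ∀ w : B ⊗[A] K, f.baseChange B (K.subtype.lTensor B w) ∈
      Submodule.map (f.baseChange B) ((I.map (algebraMap A B)) ^ (n - c) • (⊤ : Submodule B (B ⊗[A] M))) := by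
    intro w
    induction w using TensorProduct.induction_on with
    | zero => simp
    | add x y hx hy => rw [map_add, map_add]; exact add_mem hx hy
    | tmul b k =>
      obtain ⟨v, hv, hv'⟩ := hf n hn ⟨⟨k.1, rfl⟩, k.2⟩
      have h2 : f.baseChange B (K.subtype.lTensor B (b ⊗ₜ k)) = f.baseChange B (b ⊗ₜ v) := by
        rw [LinearMap.lTensor_tmul, LinearMap.baseChange_tmul, LinearMap.baseChange_tmul, hv']
        rfl
      rw [h2]
      refine ⟨b ⊗ₜ v, ?_, rfl⟩
      have h3 : ∀ v ∈ I ^ (n - c) • (⊤ : Submodule A M), b ⊗ₜ[A] v ∈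
          (I.map (algebraMap A B)) ^ (n - c) • (⊤ : Submodule B (B ⊗[A] M)) := by
        intro v hv
        induction hv using Submodule.smul_induction_on' with
        | smul a ha m _ =>
          have h4 : b ⊗ₜ[A] (a • m) = algebraMap A B a • (b ⊗ₜ[A] m) := by
            rw [TensorProduct.tmul_smul, algebraMap_smul]
          rw [h4]
          refine Submodule.smul_mem_smul ?_ trivial
          rw [← Ideal.map_pow]
          exact Ideal.mem_map_of_mem _ ha
        | add x _ y _ hx hy => rw [TensorProduct.tmul_add]; exact add_mem hx hy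
      exact h3 v hv
  exact key w

end Groth.Agent.S6911
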