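import Groth.Statements.S6912
import Groth.Agent.CAlg.K64.RankDomain
import Mathlib.Algebra.Module.FinitePresentation
import Mathlib.LinearAlgebra.FreeModule.Finite.Matrix

set_option autoImplicit false
universe u
open TensorProduct
open CAlg

namespace Groth.Agent.S6912

/-- Let `R` be a domain and `M`, `N` two `R`-modules; rank means dimension over the fraction field after
base change. Then `rank (M ⊗_R N) = rank M · rank N`, and when `M` is finitely presented also `rank
Hom_R(M, N) = rank M · rank N`. -/
theorem result (R : Type u) [CommRing R] [IsDomain R] (M N : Type u)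
    [AddCommGroup M] [Module R M] [AddCommGroup N] [Module R N] :
    Module.rank R (M ⊗[R] N) = Module.rank R M * Module.rank R N ∧
    (Module.FinitePresentation R M → Module.rank R (M →ₗ[R] N) = Module.rank R M * Module.rank R N) := by
  refine ⟨K64.RankDomain.rank_tensorProduct_of_isDomain R M N, fun _ => ?_⟩
  let K := FractionRing R
  let f := TensorProduct.mk R K M 1
  let g := TensorProduct.mk R K N 1
  have h1 : Module.rank R (K ⊗[R] M →ₗ[R] K ⊗[R] N) = Module.rank R (M →ₗ[R] N) :=
    @IsLocalizedModule.rank_eq R (M →ₗ[R] N) _ _ _ (nonZeroDivisors R) le_rfl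
      (K ⊗[R] M →ₗ[R] K ⊗[R] N) _ _ (IsLocalizedModule.map (nonZeroDivisors R) f g)
      (Module.FinitePresentation.isLocalizedModule_map (nonZeroDivisors R) f g)
  have h2 : Module.rank K (K ⊗[R] M →ₗ[R] K ⊗[R] N) = Module.rank R (K ⊗[R] M →ₗ[R] K ⊗[R] N) :=
    @IsLocalization.rank_eq R K (K ⊗[R] M →ₗ[R] K ⊗[R] N) _ _ _ _ _ _ _ (nonZeroDivisors R) _ le_rfl
  have h3 : Module.rank K (K ⊗[R] M →ₗ[R] K ⊗[R] N) = Module.rank K (K ⊗[R] M →ₗ[K] K ⊗[R] N) :=
    (LinearMap.extendScalarsOfIsLocalizationEquiv (nonZeroDivisors R) K).rank_eq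
  have := Module.Finite.base_change R K M
  rw [← h1, ← h2, h3, ← K64.RankDomain.rank_eq_rank_tensor R K M,
    ← K64.RankDomain.rank_eq_rank_tensor R K N, Module.rank_linearMap]
  simp

end Groth.Agent.S6912
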