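import Groth.Statements.S6913
import Mathlib.LinearAlgebra.Dimension.Finite
import Mathlib.LinearAlgebra.InvariantBasisNumber
import Mathlib.LinearAlgebra.FreeModule.StrongRankCondition
import Mathlib.LinearAlgebra.Dimension.Localization
import Mathlib.RingTheory.Localization.Module
import Mathlib.RingTheory.Localization.Away.Basic
import Mathlib.RingTheory.Finiteness.Basic
import Mathlib.Algebra.Module.LocalizedModule.Submodule

set_option autoImplicit false
universe u
open CAlg

namespace Groth.Agent.S6913

/-- Over a domain, a finite module has a free submodule of the same rank with torsion quotient, and a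
common denominator. -/
theorem exists_family (R : Type u) [CommRing R] [IsDomain R] (M : Type u) [AddCommGroup M]
    [Module R M] [Module.Finite R M] : ∃ v : Fin (Module.finrank R M) → M, LinearIndependent R v ∧
      ∃ c : R, c ≠ 0 ∧ ∀ x : M, c • x ∈ Submodule.span R (Set.range v) := by
  classical
  obtain ⟨v, hv⟩ := exists_linearIndependent_of_le_finrank (R := R) (M := M) le_rfl
  refine ⟨v, hv, ?_⟩
  have h1 : ∀ x : M, ∃ c : R, c ≠ 0 ∧ c • x ∈ Submodule.span R (Set.range v) := by
    intro x
    by_contra hcon
    push Not at hcon
    have h2 : LinearIndependent R (Fin.cons x v : Fin (Module.finrank R M + 1) → M) := by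
      refine LinearIndependent.finCons' x v hv ?_
      intro c y hy hcy
      by_contra hc
      apply hcon c hc
      rw [eq_neg_of_add_eq_zero_left hcy]
      exact neg_mem hy
    have := h2.fintype_card_le_finrank
    rw [Fintype.card_fin] at this
    omega
  obtain ⟨G, hG⟩ := Module.Finite.fg_top (R := R) (M := M)
  choose c hc0 hc using h1
  refine ⟨∏ x ∈ G, c x, Finset.prod_ne_zero_iff.mpr fun x _ => hc0 x, ?_⟩
  intro x
  have hx : x ∈ Submodule.span R (G : Set M) := hG ▸ trivial
  induction hx using Submodule.span_induction with
  | mem x hx =>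
    rw [← Finset.prod_erase_mul _ _ hx, mul_smul]
    exact Submodule.smul_mem _ _ (hc x)
  | zero => rw [smul_zero]; exact zero_mem _
  | add x y _ _ hx hy => rw [smul_add]; exact add_mem hx hy
  | smul a x _ hx => rw [smul_comm]; exact Submodule.smul_mem _ _ hx

/-- Let `R` be a domain and `M` a finite `R`-module, of (finite) rank `r`. Then: some linear map `M →
R^r` has torsion kernel and torsion cokernel; some nonzero `f ∈ R` makes `M_f` free of rank `r` over
`R_f`; and some injective linear map `R^r → M` has torsion cokernel. -/
theorem result (R : Type u) [CommRing R] [IsDomain R] (M : Type u) [AddCommGroup M]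
    [Module R M] [Module.Finite R M] :
    (∃ h : M →ₗ[R] (Fin (Module.finrank R M) → R),
      (∀ x : M, h x = 0 → ∃ c : R, c ≠ 0 ∧ c • x = 0) ∧
      (∀ y : Fin (Module.finrank R M) → R, ∃ c : R, c ≠ 0 ∧ c • y ∈ LinearMap.range h)) ∧
    (∃ f : R, f ≠ 0 ∧ Module.Free (Localization.Away f) (LocalizedModule (Submonoid.powers f) M) ∧
      Module.finrank (Localization.Away f) (LocalizedModule (Submonoid.powers f) M) = Module.finrank R M) ∧
    (∃ g : (Fin (Module.finrank R M) → R) →ₗ[R] M, Function.Injective g ∧
      ∀ x : M, ∃ c : R, c ≠ 0 ∧ c • x ∈ LinearMap.range g) := by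
  classical
  obtain ⟨v, hv, c, hc0, hc⟩ := exists_family R M
  let g : (Fin (Module.finrank R M) → R) →ₗ[R] M := Fintype.linearCombination R v
  have hg : Function.Injective g := linearIndependent_iff_injective_fintypeLinearCombination.mp hv
  have hgr : LinearMap.range g = Submodule.span R (Set.range v) := Fintype.range_linearCombination R v
  refine ⟨?_, ?_, g, hg, fun x => ⟨c, hc0, hgr ▸ hc x⟩⟩
  · let e := LinearEquiv.ofInjective g hg
    let t : M →ₗ[R] LinearMap.range g := (c • LinearMap.id : M →ₗ[R] M).codRestrict _ fun x => hgr ▸ hc x
    have ht : ∀ x, ((e.symm (t x)) |> g) = c • x := by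
      intro x
      exact congrArg Subtype.val (e.apply_symm_apply (t x))
    refine ⟨e.symm.toLinearMap ∘ₗ t, ?_, ?_⟩
    · intro x hx
      refine ⟨c, hc0, ?_⟩
      rw [← ht x]
      have : e.symm (t x) = 0 := hx
      rw [this, map_zero]
    · intro y
      refine ⟨c, hc0, g y, ?_⟩
      apply hg
      rw [map_smul]
      exact ht (g y)
  · refine ⟨c, hc0, ?_⟩
    let S := Submonoid.powers c
    let A := Localization.Away c
    have hdom : IsDomain A :=
      IsLocalization.isDomain_localization (powers_le_nonZeroDivisors_of_noZeroDivisors hc0)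
    let f := LocalizedModule.mkLinearMap S M
    have hli : LinearIndependent A (f ∘ v) := hv.of_isLocalizedModule A S f
    have hsp : ⊤ ≤ Submodule.span A (Set.range (f ∘ v)) := by
      intro x _
      have hcu : IsUnit (algebraMap R A c) := IsLocalization.Away.algebraMap_isUnit c
      obtain ⟨⟨m, s⟩, rfl⟩ := IsLocalizedModule.mk'_surjective S f x
      have h3 : f (c • m) ∈ Submodule.span A (Set.range (f ∘ v)) := by
        have h4 : ∀ y ∈ Submodule.span R (Set.range v), f y ∈ Submodule.span A (Set.range (f ∘ v)) := by
          intro y hy
          induction hy using Submodule.span_induction with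
          | mem y hy =>
            obtain ⟨i, rfl⟩ := hy
            exact Submodule.subset_span ⟨i, rfl⟩
          | zero => rw [map_zero]; exact zero_mem _
          | add x y _ _ hx hy => rw [map_add]; exact add_mem hx hy
          | smul a x _ hx =>
            rw [map_smul, ← algebraMap_smul A a (f x)]
            exact Submodule.smul_mem _ _ hx
        exact h4 _ (hc m)
      rw [map_smul, ← algebraMap_smul A c (f m)] at h3
      have h5 : f m ∈ Submodule.span A (Set.range (f ∘ v)) := by
        have := Submodule.smul_mem _ (hcu.unit⁻¹ : Aˣ).1 h3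
        rwa [smul_smul, IsUnit.val_inv_mul, one_smul] at this
      have h6 : IsLocalizedModule.mk' f m s = IsLocalization.mk' A 1 s • f m := by
        rw [← IsLocalizedModule.mk'_one S f m, IsLocalizedModule.mk'_smul_mk', one_smul, mul_one]
      change IsLocalizedModule.mk' f m s ∈ _
      rw [h6]
      exact Submodule.smul_mem _ _ h5
    let b := Module.Basis.mk hli hsp
    refine ⟨Module.Free.of_basis b, ?_⟩
    rw [Module.finrank_eq_card_basis b, Fintype.card_fin]

end Groth.Agent.S6913
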