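import Groth.Statements.S6927
import Groth.Agent.FlatMor.K249.FlatStage
import Groth.Agent.FlatMor.K249.FlatIdealUniv

set_option autoImplicit false
universe u
open TensorProduct
open FlatMor

namespace Groth.Agent.S6927

open IsLocalRing Groth.Agent in
theorem le_ker {R S R' S' : Type u} [CommRing R] [IsLocalRing R]
    [IsNoetherianRing R] [CommRing S]
    [CommRing R'] [IsLocalRing R'] [CommRing S']
    [Algebra R S] [Algebra.FiniteType R S] [Algebra R R'] [IsLocalHom (algebraMap R R')] [Algebra S S'] [Algebra R' S']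
    [Algebra R S'] [IsScalarTower R S S'] [IsScalarTower R R' S'] [Algebra.IsPushout R S R' S']
    {M M' : Type u} [AddCommGroup M] [Module S M] [Module R M] [IsScalarTower R S M] [Module.Finite S M]
    [AddCommGroup M'] [Module S' M'] [Module R' M'] [IsScalarTower R' S' M'] [Module S M'] [IsScalarTower S S' M']
    (f : M →ₗ[S] M') (hf : IsBaseChange S' f) (I : Ideal R)
    (hmin : ∀ J : Ideal R, (∀ (q : Ideal S) [q.IsPrime], q.comap (algebraMap R S) = maximalIdeal R →
        Module.Flat (R ⧸ J) ((R ⧸ J) ⊗[R] LocalizedModule q.primeCompl M)) → I ≤ J)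
    (h : ∀ (q' : Ideal S') [q'.IsPrime], q'.comap (algebraMap R' S') = maximalIdeal R' →
      FlatCA.FlatAt R' q' M') : I ≤ RingHom.ker (algebraMap R R') := by
  haveI : Algebra.IsPushout R R' S S' := .symm inferInstance
  let E : Set (PrimeSpectrum S') := PrimeSpectrum.zeroLocus ((maximalIdeal R').map (algebraMap R' S') : Set S')
  have hE : IsCompact E := (PrimeSpectrum.isClosed_zeroLocus _).isCompact
  have hEflat : ∀ q ∈ E, Module.Flat R' (LocalizedModule q.asIdeal.primeCompl M') := by
    intro q hq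
    refine h q.asIdeal ?_
    have h1 : maximalIdeal R' ≤ q.asIdeal.comap (algebraMap R' S') := Ideal.map_le_iff_le_comap.1 hq
    exact ((maximalIdeal.isMaximal R').eq_of_le (Ideal.IsPrime.ne_top inferInstance) h1).symm
  obtain ⟨A', B₁, N₁, _, _, _, _, _, _, _, _, _, _, _, _, _, _, _, _, g₁, K, hA', hg₁, hK1, hK2⟩ :=
    K249.FlatStage.exists_fg_flat_compact (A₀ := R) (B₀ := S) (N₀ := M) (A := R') (B := S')
      f hf E hE hEflat
  let P' : Ideal A' := (maximalIdeal R').comap (algebraMap A' R')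
  haveI : P'.IsPrime := inferInstance
  haveI : Algebra.FiniteType R A' := A'.fg_iff_finiteType.mp hA'
  haveI : IsNoetherianRing A' := Algebra.FiniteType.isNoetherianRing R A'
  let A₃ := Localization.AtPrime P'
  haveI : IsNoetherianRing A₃ := IsLocalization.isNoetherianRing P'.primeCompl A₃ inferInstance
  have hunit : ∀ x : P'.primeCompl, IsUnit (algebraMap A' R' x) := by
    intro x
    by_contra hx
    exact x.2 ((mem_maximalIdeal _).2 hx)
  let ψ : A₃ →+* R' := IsLocalization.lift (M := P'.primeCompl) (g := algebraMap A' R') hunit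
  have hψ : ψ.comp (algebraMap A' A₃) = algebraMap A' R' := IsLocalization.lift_comp _
  have hψR : ψ.comp (algebraMap R A₃) = algebraMap R R' := by
    rw [IsScalarTower.algebraMap_eq R A' A₃, ← RingHom.comp_assoc, hψ]
    rfl
  haveI : IsLocalHom (algebraMap R A₃) := ⟨fun x hx => by
    have h1 : IsUnit (ψ (algebraMap R A₃ x)) := hx.map ψ
    have h2 : ψ (algebraMap R A₃ x) = algebraMap R R' x := RingHom.congr_fun hψR x
    rw [h2] at h1
    exact isUnit_of_map_unit _ _ h1⟩
  obtain ⟨B₃, _, _, _, _, _, _, _⟩ :=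
    K249.FlatAtDescent.exists_pushout_model (A₂ := A') (B₂ := B₁) A₃
  obtain ⟨N₃, _, _, _, _, g₃, hg₃⟩ := K249.FlatAtDescent.exists_baseChange_model (B₂ := B₁) N₁ B₃
  letI : Module A₃ N₃ := Module.compHom N₃ (algebraMap A₃ B₃)
  haveI : IsScalarTower A₃ B₃ N₃ := .of_algebraMap_smul fun _ _ => rfl
  letI : Algebra S B₃ := ((algebraMap B₁ B₃).comp (algebraMap S B₁)).toAlgebra
  haveI : IsScalarTower S B₁ B₃ := .of_algebraMap_eq' rfl
  letI : Module S N₃ := Module.compHom N₃ (algebraMap S B₃)
  haveI : IsScalarTower S B₃ N₃ := .of_algebraMap_smul fun _ _ => rfl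
  haveI : IsScalarTower S B₁ N₃ := .of_algebraMap_smul fun b x => by
    rw [← algebraMap_smul B₃ (algebraMap S B₁ b) x, ← IsScalarTower.algebraMap_apply]
    rfl
  letI : Algebra R B₃ := ((algebraMap S B₃).comp (algebraMap R S)).toAlgebra
  haveI : IsScalarTower R S B₃ := .of_algebraMap_eq' rfl
  haveI : IsScalarTower R B₁ B₃ := .of_algebraMap_eq' (by
    change ((algebraMap B₁ B₃).comp (algebraMap S B₁)).comp (algebraMap R S) = _
    rw [RingHom.comp_assoc, ← IsScalarTower.algebraMap_eq R S B₁])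
  haveI : IsScalarTower R A₃ B₃ := .of_algebraMap_eq' (by
    rw [IsScalarTower.algebraMap_eq R B₁ B₃, IsScalarTower.algebraMap_eq R A' B₁,
      IsScalarTower.algebraMap_eq R A' A₃, ← RingHom.comp_assoc, ← RingHom.comp_assoc,
      ← IsScalarTower.algebraMap_eq A' B₁ B₃, ← IsScalarTower.algebraMap_eq A' A₃ B₃])
  haveI p3 : Algebra.IsPushout R S A₃ B₃ := by
    have h1 : Algebra.IsPushout R A' S B₁ := inferInstance
    have h2 : Algebra.IsPushout A' A₃ B₁ B₃ := .symm inferInstance
    exact ((Algebra.IsPushout.comp_iff R A' S B₁).2 h2).symm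
  haveI : IsScalarTower R A' R' := inferInstance
  haveI : IsScalarTower A' R' S' := inferInstance
  haveI : IsScalarTower R B₁ S' := .of_algebraMap_eq' (by
    rw [IsScalarTower.algebraMap_eq R S B₁, ← RingHom.comp_assoc,
      ← IsScalarTower.algebraMap_eq S B₁ S', ← IsScalarTower.algebraMap_eq R S S'])
  haveI p4 : Algebra.IsPushout A' R' B₁ S' := by
    rw [← Algebra.IsPushout.comp_iff R A' S B₁]
    infer_instance
  haveI p5 : Algebra.IsPushout A' B₁ R' S' := p4.symm
  have key : I ≤ RingHom.ker (algebraMap R A₃) := by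
    refine K249.FlatIdealUniv.le_ker_of_flatAt (S' := B₃) (M' := N₃) ((g₃.restrictScalars S).comp g₁) (hg₁.comp hg₃) I hmin ?_
    intro Q₃ _ hQ₃
    refine Flat2B.FlatDim.flatAt_baseChange (A₁ := A') g₃ hg₃ (Q₃.under B₁) Q₃ (hK1 _ ?_)
    haveI i1 : (Q₃.under B₁).LiesOver P' := ⟨by
      change P' = (Q₃.comap (algebraMap B₁ B₃)).comap (algebraMap A' B₁)
      rw [Ideal.comap_comap, ← IsScalarTower.algebraMap_eq A' B₁ B₃,
        IsScalarTower.algebraMap_eq A' A₃ B₃, ← Ideal.comap_comap, hQ₃]
      exact (Localization.AtPrime.under_maximalIdeal (I := P')).symm⟩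
    haveI i2 : (maximalIdeal R').LiesOver P' := ⟨rfl⟩
    obtain ⟨q', hq', hq'1, hq'2⟩ := Flat2B.EtaleNhd.exists_prime_of_isPushout (R := A') (R' := R')
      (S := B₁) (S' := S') P' (Q₃.under B₁) (maximalIdeal R')
    have h3 := hK2 ⟨q', hq'⟩ (by
      change ((maximalIdeal R').map (algebraMap R' S') : Set S') ⊆ q'
      rw [SetLike.coe_subset_coe, Ideal.map_le_iff_le_comap]
      exact (Ideal.over_def q' (maximalIdeal R')).le)
    have h4 : Q₃.under B₁ = q'.comap (algebraMap B₁ S') := Ideal.over_def q' (Q₃.under B₁)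
    rw [h4]
    exact h3
  intro x hx
  have h1 : algebraMap R A₃ x = 0 := key hx
  have h2 : ψ (algebraMap R A₃ x) = algebraMap R R' x := RingHom.congr_fun hψR x
  rw [RingHom.mem_ker, ← h2, h1, map_zero]

/-- Let `(R, 𝔪)` be a complete Noetherian local ring, `R → S` of finite type, `M` a finite `S`-module,
and `I ⊆ 𝔪` the least ideal for which, at every prime `𝔮` of `S` lying over `𝔪`, the localization
`(M/IM)_𝔮` is an `R/I`-flat module. Then for every local homomorphism `φ : R → R'` of local rings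
(`R'` arbitrary), with `S' = S ⊗_R R'` and `M' = M ⊗_R R'`: `M'_{𝔮'}` is flat over `R'` for every
prime `𝔮'` of `S'` over `𝔪'` if and only if `φ(I) = 0`. -/
theorem result {R S R' S' : Type u} [CommRing R] [IsLocalRing R]
    [IsNoetherianRing R] [IsAdicComplete (IsLocalRing.maximalIdeal R) R] [CommRing S]
    [CommRing R'] [IsLocalRing R'] [CommRing S']
    [Algebra R S] [Algebra.FiniteType R S] [Algebra R R'] [IsLocalHom (algebraMap R R')] [Algebra S S'] [Algebra R' S']
    [Algebra R S'] [IsScalarTower R S S'] [IsScalarTower R R' S'] [Algebra.IsPushout R S R' S']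
    {M M' : Type u} [AddCommGroup M] [Module S M] [Module R M] [IsScalarTower R S M] [Module.Finite S M]
    [AddCommGroup M'] [Module S' M'] [Module R' M'] [IsScalarTower R' S' M'] [Module S M'] [IsScalarTower S S' M']
    (f : M →ₗ[S] M') (hf : IsBaseChange S' f) (I : Ideal R) (hIm : I ≤ IsLocalRing.maximalIdeal R)
    (hI : (∀ (q : Ideal S) [q.IsPrime], q.comap (algebraMap R S) = IsLocalRing.maximalIdeal R →
        Module.Flat (R ⧸ I) ((R ⧸ I) ⊗[R] LocalizedModule q.primeCompl M)))
    (hmin : ∀ J : Ideal R, (∀ (q : Ideal S) [q.IsPrime], q.comap (algebraMap R S) = IsLocalRing.maximalIdeal R →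
        Module.Flat (R ⧸ J) ((R ⧸ J) ⊗[R] LocalizedModule q.primeCompl M)) → I ≤ J) :
    (∀ (q' : Ideal S') [q'.IsPrime], q'.comap (algebraMap R' S') = IsLocalRing.maximalIdeal R' → FlatCA.FlatAt R' q' M') ↔
      I ≤ RingHom.ker (algebraMap R R') := by
  constructor
  · intro h
    exact le_ker f hf I hmin h
  · intro h q' _ hq'
    refine K249.FlatIdealUniv.flatAt_of_le_ker f hf I h q' (hI (q'.under S) ?_)
    change (q'.comap (algebraMap S S')).comap (algebraMap R S) = _
    rw [Ideal.comap_comap, ← IsScalarTower.algebraMap_eq, IsScalarTower.algebraMap_eq R R' S',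
      ← Ideal.comap_comap, hq']
    exact ((IsLocalRing.local_hom_TFAE (algebraMap R R')).out 0 4).1 ‹_›

end Groth.Agent.S6927
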