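import Groth.Statements.S6928
import Groth.Agent.FlatMor.K249.FlatStage5
import Groth.Agent.FlatMor.K249.StageSel

set_option autoImplicit false
universe u
open FlatMor

namespace Groth.Agent.S6928

/-- Let `R → S` be a ring map that is essentially of finite presentation, `J ⊆ S` an ideal and `M` a
finitely presented `S`-module. Let `(R_λ)` be a directed system of `R`-algebras with colimit `R'`,
and `I_λ ⊆ R_λ` ideals with `I_λ R_μ ⊆ I_μ`, `I' = colim I_λ`, `S' = S ⊗_R R'`, `M' = M ⊗_R R'`. If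
`M'_{𝔮'}` is flat over `R'` for every prime `𝔮' ⊇ I'S' + JS'`, then there is `λ` such that, with
`S_λ = S ⊗_R R_λ` and `M_λ = M ⊗_R R_λ`, `(M_λ)_𝔮` is flat over `R_λ` for every prime `𝔮 ⊇ I_λ S_λ +
J S_λ`. -/
theorem result {R S : Type u} [CommRing R] [CommRing S] [Algebra R S] (hS : FlatCA.EssFinitePresentation R S)
    {M : Type u} [AddCommGroup M] [Module S M] [Module R M] [IsScalarTower R S M] [Module.FinitePresentation S M]
    {ι : Type u} [Preorder ι] (G : ι → Type u) [∀ i, CommRing (G i)] [∀ i, Algebra R (G i)]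
    (g : ∀ i j, i ≤ j → G i →+* G j) (hgR : ∀ i j (h : i ≤ j), (g i j h).comp (algebraMap R (G i)) = algebraMap R (G j))
    (R' : Type u) [CommRing R'] [Algebra R R'] [∀ i, Algebra (G i) R'] [∀ i, IsScalarTower R (G i) R']
    (hcolim : FlatCA.IsDirectedColimitRing G g R')
    (Il : ∀ i, Ideal (G i)) (hIl : ∀ i j (h : i ≤ j), (Il i).map (g i j h) ≤ Il j)
    {S' : Type u} [CommRing S'] [Algebra S S'] [Algebra R' S'] [Algebra R S'] [IsScalarTower R S S']
    [IsScalarTower R R' S'] [Algebra.IsPushout R S R' S']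
    {M' : Type u} [AddCommGroup M'] [Module S' M'] [Module R' M'] [IsScalarTower R' S' M'] [Module S M']
    [IsScalarTower S S' M'] (f : M →ₗ[S] M') (hf : IsBaseChange S' f)
    (J : Ideal S)
    (h : ∀ (q' : Ideal S') [q'.IsPrime],
      (⨆ i, (Il i).map (algebraMap (G i) R')).map (algebraMap R' S') ⊔ J.map (algebraMap S S') ≤ q' →
        FlatCA.FlatAt R' q' M') :
    ∃ i : ι, ∀ (Si Mi : Type u) [CommRing Si] [Algebra S Si] [Algebra (G i) Si] [Algebra R Si] [IsScalarTower R S Si]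
      [IsScalarTower R (G i) Si] [Algebra.IsPushout R S (G i) Si] [AddCommGroup Mi] [Module Si Mi] [Module (G i) Mi]
      [IsScalarTower (G i) Si Mi] [Module S Mi] [IsScalarTower S Si Mi] (fi : M →ₗ[S] Mi), IsBaseChange Si fi →
      ∀ (q : Ideal Si) [q.IsPrime], (Il i).map (algebraMap (G i) Si) ⊔ J.map (algebraMap S Si) ≤ q → FlatCA.FlatAt (G i) q Mi := by
  classical
  obtain ⟨S₀, _, _, _, _, W, hfp, hloc⟩ := hS
  letI : Module S₀ M := Module.compHom M (algebraMap S₀ S)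
  haveI : IsScalarTower S₀ S M := .of_algebraMap_smul fun _ _ => rfl
  obtain ⟨N₀, _, _, φ, hfpN, hφ⟩ := Groth.Agent.Flat2C.LocModel.exists_fp_model W S M
  haveI : Module.Flat S₀ S := IsLocalization.flat S W
  obtain ⟨A₀, B₀, P₀, _, _, _, _, _, _, _, _, _, _, _, _, _, _, g₀, hA₀, hpush, hB₀, hP₀, hg₀⟩ :=
    K249.FlatStage4.exists_model_abs (R := R) (S := S₀) (M := N₀)
  haveI : IsNoetherianRing A₀ := Algebra.FiniteType.isNoetherianRing ℤ A₀
  haveI : Algebra.IsPushout A₀ B₀ R S₀ := hpush.symm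
  letI : Algebra A₀ R' := ((algebraMap R R').comp (algebraMap A₀ R)).toAlgebra
  haveI : IsScalarTower A₀ R R' := .of_algebraMap_eq' rfl
  obtain ⟨A₁, B₁, P₁, _, _, _, _, _, _, _, _, _, _, _, _, _, _, _, _, _, g₁, K, θ, hft, hg₁, hθ1,
    hθ2, hK1, hK2⟩ := K249.FlatStage5.exists_level_model (A₀ := A₀) (B₀ := B₀) (R := R) g₀ hg₀ φ hφ f hf _ h
  haveI : Algebra.FiniteType ℤ A₁ := Algebra.FiniteType.trans hA₀ hft
  obtain ⟨k, w, hw, hsel⟩ := K249.StageSel.exists_stage_ideal (A₀ := A₀) (A₁ := A₁) (B₀ := B₀)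
    (B₁ := B₁) (R := R) (S := S) ((algebraMap S₀ S).comp (algebraMap B₀ S₀)) (by
      rw [RingHom.comp_assoc, ← IsScalarTower.algebraMap_eq A₀ B₀ S₀,
        IsScalarTower.algebraMap_eq A₀ R S₀, ← RingHom.comp_assoc,
        ← IsScalarTower.algebraMap_eq R S₀ S]) G g hgR R' hcolim Il hIl J
    (algebraMap A₁ R') (by
      rw [← IsScalarTower.algebraMap_eq A₀ A₁ R', IsScalarTower.algebraMap_eq A₀ R R'])
    θ hθ1 hθ2 K hK2
  refine ⟨k, ?_⟩
  intro Si Mi _ _ _ _ _ _ _ _ _ _ _ _ _ fi hfi q _ hq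
  letI : Algebra A₁ (G k) := w.toAlgebra
  letI : Algebra A₀ (G k) := ((algebraMap R (G k)).comp (algebraMap A₀ R)).toAlgebra
  haveI : IsScalarTower A₀ R (G k) := .of_algebraMap_eq' rfl
  haveI : IsScalarTower A₀ A₁ (G k) := .of_algebraMap_eq' hw.symm
  obtain ⟨θi, hi1, hi2⟩ := K249.StageSel.exists_desc (A₀ := A₀) (A₁ := A₁) (B₀ := B₀) (B₁ := B₁)
    ((algebraMap (G k) Si).comp w)
    ((algebraMap S Si).comp ((algebraMap S₀ S).comp (algebraMap B₀ S₀))) (by
      rw [RingHom.comp_assoc, hw, RingHom.comp_assoc, RingHom.comp_assoc,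
        ← IsScalarTower.algebraMap_eq A₀ B₀ S₀, IsScalarTower.algebraMap_eq A₀ R S₀,
        ← RingHom.comp_assoc (algebraMap A₀ R) (algebraMap R S₀) (algebraMap S₀ S),
        ← IsScalarTower.algebraMap_eq R S₀ S, ← RingHom.comp_assoc, ← RingHom.comp_assoc,
        ← IsScalarTower.algebraMap_eq R (G k) Si,
        ← IsScalarTower.algebraMap_eq R S Si])
  have hnot := hsel Si θi hi1 hi2 q hq
  exact K249.FlatStage3.flatAt_transfer (A₀ := A₀) (B₀ := B₀) (R := R) (S := S) (A₁ := A₁) (T := G k) g₀ hg₀ φ hφ g₁ hg₁ fi hfi θi hi1 hi2 q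
    (fun Q₁ _ hQ₁ => hK1 Q₁ (by rw [hQ₁]; exact hnot))

end Groth.Agent.S6928
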