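import Groth.Statements.S6929
-- import your own Groth.Agent.* helpers here
import Groth.Agent.S2017
import Groth.Agent.EtAlg.K361.FinTypePi

set_option autoImplicit false
universe u
open EtAlg

namespace Groth.Agent.S6929

/-- Let `R` be a Noetherian ring, `ι` a finite index type, and `φ_i : A_i → B_i`, `ψ_i : Q → B_i`
surjective `R`-algebra maps, where `Q` and all `A_i`, `B_i` are `R`-algebras of finite type. Then
the fibre product ring `P = Q ×_{∏ B_i} ∏ A_i` (pairs `(q, a)` with `ψ_i(q) = φ_i(a_i)` for all `i`)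
is an `R`-algebra of finite type. -/
theorem result (R : Type u) [CommRing R] [IsNoetherianRing R] {ι : Type u} [Fintype ι]
    (Q : Type u) [CommRing Q] [Algebra R Q] [Algebra.FiniteType R Q] (A B : ι → Type u) [∀ i, CommRing (A i)]
    [∀ i, CommRing (B i)] [∀ i, Algebra R (A i)] [∀ i, Algebra R (B i)] (hA : ∀ i, Algebra.FiniteType R (A i))
    (hB : ∀ i, Algebra.FiniteType R (B i)) (φ : ∀ i, A i →ₐ[R] B i) (ψ : ∀ i, Q →ₐ[R] B i)
    (hφ : ∀ i, Function.Surjective (φ i)) (hψ : ∀ i, Function.Surjective (ψ i)) :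
    Algebra.FiniteType R ↥(AlgHom.equalizer ((AlgHom.pi ψ).comp (AlgHom.fst R Q (∀ i, A i)))
      ((AlgHom.pi fun i => (φ i).comp (Pi.evalAlgHom R A i)).comp (AlgHom.snd R Q (∀ i, A i)))) := by
  classical
  have hA' : Algebra.FiniteType R (∀ i, A i) := K361.FinTypePi.finiteType_pi A hA
  have hB' : Algebra.FiniteType R (∀ i, B i) := K361.FinTypePi.finiteType_pi B hB
  let f : (∀ i, A i) →ₐ[R] (∀ i, B i) := AlgHom.pi fun i => (φ i).comp (Pi.evalAlgHom R A i)
  have hf : Function.Surjective f := by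
    intro b
    choose a ha using fun i => hφ i (b i)
    exact ⟨a, funext ha⟩
  let g : Q →ₐ[R] (∀ i, B i) := AlgHom.pi ψ
  have hg : g.toRingHom.Finite := by
    algebraize [g.toRingHom]
    let _ : ∀ i, Algebra Q (B i) := fun i => (ψ i).toRingHom.toAlgebra
    have h1 : ∀ i, Module.Finite Q (B i) := fun i =>
      Module.Finite.of_surjective (Algebra.linearMap Q (B i)) (hψ i)
    have h2 : Module.Finite Q (∀ i, B i) := Module.Finite.pi
    exact h2
  have key := Groth.Agent.S2017.result R (∀ i, A i) (∀ i, B i) Q f hf g hg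
  let e : ↥(AlgHom.equalizer (f.comp (AlgHom.fst R (∀ i, A i) Q)) (g.comp (AlgHom.snd R (∀ i, A i) Q))) →ₐ[R]
      ↥(AlgHom.equalizer (g.comp (AlgHom.fst R Q (∀ i, A i))) (f.comp (AlgHom.snd R Q (∀ i, A i)))) :=
    { toFun := fun x => ⟨(x.1.2, x.1.1), x.2.symm⟩
      map_one' := rfl
      map_mul' := fun _ _ => rfl
      map_zero' := rfl
      map_add' := fun _ _ => rfl
      commutes' := fun _ => rfl }
  have he : Function.Surjective e := fun x => ⟨⟨(x.1.2, x.1.1), x.2.symm⟩, rfl⟩
  exact Algebra.FiniteType.of_surjective e he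

end Groth.Agent.S6929
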