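import Groth.Statements.S6930
import Groth.Agent.FlatMor.K249.StrictConv

set_option autoImplicit false
universe u
open TensorProduct
open FlatMor

namespace Groth.Agent.S6930

/-- Let `(R, 𝔪)` be a local domain whose maximal ideal is nonzero, with fraction field `K`; let `S` be
an `R`-algebra of finite type, `M` a finite `S`-module and `A ⊆ K` a valuation ring dominating `R`.
Then one can find a finitely generated ideal `I ⊆ 𝔪` and a nonzero `a ∈ I` with the following
properties, where `R₁ = R[I/a]` denotes the affine blow-up algebra (taken up to `R`-algebra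
isomorphism): every `x/a` with `x ∈ I` lies in `A`, so that `R₁ ⊆ A` inside `K`; the ring `R₁/𝔪R₁`
is nonzero; the strict transform of `S` (the quotient of `R₁ ⊗_R S` by its `a`-power torsion) is
flat over `R₁` and is a finitely presented `R₁`-algebra; and the strict transform of `M` (the
quotient of `R₁ ⊗_R M` by its `a`-power torsion) is flat over `R₁`. (The published statement asks
for these strict transforms to be flat, and the first to be finitely presented, over `R` itself;
that fails for every choice of `(I, a)` already when `R = k[x, y]` localized at `(x, y)` and `S =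
R[y/x]`, and the published proof, which passes to the limit over the rings `R[I/a]`, yields flatness
and finite presentation over `R[I/a]`, which is what is stated here. The published statement also
allows `𝔪 = 0`, i.e. `R` a field; then all hypotheses hold with `A = K` while no nonzero `a ∈ 𝔪`
exists, so the hypothesis `𝔪 ≠ 0` is added. Finally, the published statement also asserts that the
strict transform of `M` is finitely presented over the strict transform of `S`; that clause is not
included.) -/
theorem result (R K : Type u) [CommRing R] [IsDomain R] [IsLocalRing R] [Field K]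
    [Algebra R K] [IsFractionRing R K] (S : Type u) [CommRing S] [Algebra R S] [Algebra.FiniteType R S] (M : Type u)
    [AddCommGroup M] [Module S M] [Module R M] [IsScalarTower R S M] [Module.Finite S M]
    (A : Type u) [CommRing A] [IsDomain A] [ValuationRing A] [Algebra A K] [IsFractionRing A K] [Algebra R A]
    [IsScalarTower R A K] [IsLocalHom (algebraMap R A)] (hm : IsLocalRing.maximalIdeal R ≠ ⊥) :
    ∃ (I : Ideal R) (a : R), I.FG ∧ I ≤ IsLocalRing.maximalIdeal R ∧ a ∈ I ∧ a ≠ 0 ∧
      (∀ x ∈ I, ∃ y : A, algebraMap A K y * algebraMap R K a = algebraMap R K x) ∧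
      ∀ (R₁ : Type u) [CommRing R₁] [Algebra R R₁] (e : R₁ ≃ₐ[R] ↥(BlowUp.affineAlgebra R I a)),
        (IsLocalRing.maximalIdeal R).map (algebraMap R R₁) ≠ ⊤ ∧
        Module.Flat R₁ ((R₁ ⊗[R] S) ⧸ FlatCA.powTorsion (R₁ ⊗[R] S) (algebraMap R (R₁ ⊗[R] S) a) (R₁ ⊗[R] S)) ∧
        Algebra.FinitePresentation R₁
          ((R₁ ⊗[R] S) ⧸ FlatCA.powTorsion (R₁ ⊗[R] S) (algebraMap R (R₁ ⊗[R] S) a) (R₁ ⊗[R] S)) ∧
        Module.Flat R₁ ((R₁ ⊗[R] M) ⧸ FlatCA.powTorsion R₁ (algebraMap R R₁ a) (R₁ ⊗[R] M)) := by
  classical
  obtain ⟨n, π, hπ⟩ := Algebra.FiniteType.iff_quotient_mvPolynomial''.mp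
    (inferInstance : Algebra.FiniteType R S)
  let P := MvPolynomial (Fin n) R
  letI : Algebra P S := π.toRingHom.toAlgebra
  haveI : IsScalarTower R P S := .of_algebraMap_eq fun x => (π.commutes x).symm
  have hs : Function.Surjective (algebraMap P S) := hπ
  letI : Module P M := Module.compHom M (algebraMap P S)
  haveI : IsScalarTower P S M := .of_algebraMap_smul fun _ _ => rfl
  haveI : IsScalarTower R P M := .of_algebraMap_smul fun b x => by
    rw [← algebraMap_smul S (algebraMap R P b) x, ← IsScalarTower.algebraMap_apply,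
      algebraMap_smul]
  haveI : Module.Finite P S := Module.Finite.of_surjective (Algebra.linearMap P S) hs
  haveI : Module.Finite P M := Module.Finite.trans S M
  obtain ⟨f, hf0, hfree, -, -, hfp⟩ := Groth.Agent.S0389.result (R := R) (S := P) (M := S × M)
  obtain ⟨m₀, hm₀, hm₀'⟩ := Submodule.exists_mem_ne_zero_of_ne_bot hm
  have hdvdI : ∀ a ∈ Ideal.span {f * m₀}, f ∣ a := fun a ha =>
    (dvd_mul_right f m₀).trans (Ideal.mem_span_singleton.1 ha)
  obtain ⟨J, hJ, hJr, H⟩ := Groth.Agent.Flat2C.FlatteningRing.flattening_ring (A := R) (B := P)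
    (S × M) (Ideal.span {f * m₀}) ⟨{f * m₀}, by simp⟩
    (fun a ha => K249.StrictVal.flat_dvd f a (hdvdI a ha) inferInstance)
    (fun a ha => K249.StrictVal.fp_dvd (algebraMap R P f) (algebraMap R P a)
      (map_dvd _ (hdvdI a ha)))
  have hc0 : f * m₀ ≠ 0 := mul_ne_zero hf0 hm₀'
  have hJm : J ≤ IsLocalRing.maximalIdeal R := by
    refine J.le_radical.trans ?_
    rw [hJr, Ideal.IsPrime.radical_le_iff inferInstance, Ideal.span_singleton_le_iff_mem]
    exact Ideal.mul_mem_left _ _ hm₀
  have hJ0 : J ≠ ⊥ := by
    rintro rfl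
    have h1 : f * m₀ ∈ (⊥ : Ideal R).radical := by
      rw [hJr]
      exact Ideal.le_radical (Ideal.mem_span_singleton_self _)
    obtain ⟨k, hk⟩ := h1
    exact pow_ne_zero k hc0 (Ideal.mem_bot.1 hk)
  obtain ⟨s, hs'⟩ := id hJ
  have hne : s.Nonempty := by
    rw [Finset.nonempty_iff_ne_empty]
    rintro rfl
    exact hJ0 (by rw [← hs']; simp)
  obtain ⟨a, ha, hdvd⟩ := K249.StrictVal.exists_dvd_of_finset (algebraMap R A) s hne
  have haJ : a ∈ J := by rw [← hs']; exact Submodule.subset_span ha
  have hdvd' : ∀ x ∈ J, algebraMap R A a ∣ algebraMap R A x := by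
    have h1 : J ≤ (Ideal.span {algebraMap R A a}).comap (algebraMap R A) := by
      rw [← hs', Ideal.span_le]
      intro x hx
      exact Ideal.mem_span_singleton.2 (hdvd x hx)
    exact fun x hx => Ideal.mem_span_singleton.1 (h1 hx)
  have hinj : Function.Injective (algebraMap R A) := by
    have h1 : Function.Injective (algebraMap R K) := IsFractionRing.injective R K
    rw [IsScalarTower.algebraMap_eq R A K] at h1
    exact Function.Injective.of_comp h1
  have ha0 : a ≠ 0 := by
    rintro rfl
    apply hJ0
    rw [eq_bot_iff]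
    intro x hx
    have h1 := hdvd' x hx
    rw [map_zero, zero_dvd_iff] at h1
    exact Ideal.mem_bot.2 (hinj (by rw [h1, map_zero]))
  have haA : algebraMap R A a ≠ 0 := fun h => ha0 (hinj (by rw [h, map_zero]))
  refine ⟨J, a, hJ, hJm, haJ, ha0, ?_, ?_⟩
  · intro x hx
    obtain ⟨y, hy⟩ := hdvd' x hx
    refine ⟨y, ?_⟩
    rw [IsScalarTower.algebraMap_apply R A K, IsScalarTower.algebraMap_apply R A K x, hy, map_mul,
      mul_comm]
  · intro R₁ _ _ e
    have hea : ∀ x : R, e (algebraMap R R₁ x) = algebraMap R _ x := fun x => e.commutes x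
    have hnzd : algebraMap R R₁ a ∈ nonZeroDivisors R₁ := by
      rw [mem_nonZeroDivisors_iff_right]
      intro y hy
      have h1 : e y * algebraMap R _ a = 0 := by rw [← hea, ← map_mul, hy, map_zero]
      have h2 := (mem_nonZeroDivisors_iff_right.1
        (Groth.Agent.Divis.BlowAlg.algebraMap_mem_nonZeroDivisors J a)) _ h1
      exact e.injective (by rw [h2, map_zero])
    have hJmap : J.map (algebraMap R R₁) = Ideal.span {algebraMap R R₁ a} := by
      have h1 := Groth.Agent.Divis.BlowAlg.map_eq_span J a haJ
      have h2 := congrArg (Ideal.map (e.symm : _ →+* R₁)) h1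
      rw [Ideal.map_map, Ideal.map_span, Set.image_singleton] at h2
      have h3 : ((e.symm : BlowUp.affineAlgebra R J a →+* R₁)).comp
          (algebraMap R (BlowUp.affineAlgebra R J a)) = algebraMap R R₁ := by
        ext x
        exact e.symm.commutes x
      rw [h3] at h2
      rw [h2]
      congr 2
      exact e.symm.commutes a
    refine ⟨?_, ?_⟩
    · intro htop
      obtain ⟨θ, hθ⟩ := Groth.Agent.Divis.BlowAlg.exists_hom J a (algebraMap R A)
        (mem_nonZeroDivisors_of_ne_zero haA) hdvd'
      have h1 := congrArg (Ideal.map (θ.comp (e : R₁ →+* BlowUp.affineAlgebra R J a))) htop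
      rw [Ideal.map_map, Ideal.map_top] at h1
      have h2 : (θ.comp (e : R₁ →+* BlowUp.affineAlgebra R J a)).comp (algebraMap R R₁) =
          algebraMap R A := by
        rw [← hθ]
        ext x
        change θ (e (algebraMap R R₁ x)) = θ (algebraMap R _ x)
        rw [hea]
      rw [h2] at h1
      have h3 : (IsLocalRing.maximalIdeal R).map (algebraMap R A) ≤ IsLocalRing.maximalIdeal A :=
        ((IsLocalRing.local_hom_TFAE (algebraMap R A)).out 0 2).1 ‹_›
      rw [h1] at h3
      exact Ideal.IsPrime.ne_top (IsLocalRing.maximalIdeal.isMaximal A).isPrime (top_le_iff.1 h3)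
    · refine K249.StrictConv.strict_conv (P := P) hs a ?_
      intro S' N' G _ _ _ _ _ _ _ _ _ _ _ _ _ φ hφ _ _ _ _ π' hπ' hker
      exact H R₁ S' N' G φ hφ π' (algebraMap R R₁ a) hnzd hJmap hπ' hker

end Groth.Agent.S6930
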