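import Groth.Statements.S6932
import Groth.Agent.CAlg.K64.FPFlat

set_option autoImplicit false
universe u
open CAlg

namespace Groth.Agent.S6932

open K64.FPFlat in
theorem key {R S : Type u} [CommRing R] [CommRing S]
    [Algebra R S] [Algebra.FiniteType R S] [Module.Flat R S] (s : Finset (PrimeSpectrum R))
    (hs : Function.Injective fun r : R => fun p : s => algebraMap R (Localization.AtPrime p.1.asIdeal) r)
    (hloc : ∀ (p : Ideal R) [p.IsPrime],
      Algebra.FinitePresentation (Localization.AtPrime p) (Localization (Algebra.algebraMapSubmonoid S p.primeCompl)))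
    (q : PrimeSpectrum R) :
    ∃ f : R, f ∉ q.asIdeal ∧ Algebra.FinitePresentation R (Localization.Away (algebraMap R S f)) := by
  classical
  obtain ⟨n, φ, hφ⟩ := Algebra.FiniteType.iff_quotient_mvPolynomial''.mp ‹Algebra.FiniteType R S›
  let P : Type u := MvPolynomial (Fin n) R
  have h1 : ∀ p : PrimeSpectrum R, ∃ J : Ideal P, J.FG ∧ J ≤ RingHom.ker φ ∧
      ∀ x ∈ RingHom.ker φ, ∃ t : R, t ∉ p.asIdeal ∧ MvPolynomial.C t * x ∈ J := fun p => by
    have := hloc p.asIdeal
    exact exists_fg φ hφ p.asIdeal
  choose J hJfg hJle hJ using h1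
  let J' : Ideal P := (insert q s).sup J
  have hfg : J'.FG := Submodule.fg_finset_sup _ _ (fun p _ => hJfg p)
  have hle : J' ≤ RingHom.ker φ := Finset.sup_le fun p _ => hJle p
  let S' := P ⧸ J'
  have : Algebra.FinitePresentation R S' := Algebra.FinitePresentation.quotient hfg
  let π : S' →ₐ[R] S := Ideal.Quotient.liftₐ J' φ (fun x hx => hle hx)
  let _ : Algebra S' S := π.toRingHom.toAlgebra
  have : IsScalarTower R S' S := IsScalarTower.of_algebraMap_eq fun r => (π.commutes r).symm
  have hπ : ∀ x : P, algebraMap S' S (Ideal.Quotient.mk J' x) = φ x := fun x => rfl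
  have hs' : Function.Surjective (algebraMap S' S) := fun y => by
    obtain ⟨x, rfl⟩ := hφ y
    exact ⟨Ideal.Quotient.mk J' x, hπ x⟩
  have hk : ∀ p ∈ insert q s, ∀ x : S', algebraMap S' S x = 0 → ∃ t : R, t ∉ p.asIdeal ∧ t • x = 0 := by
    intro p hp x hx
    obtain ⟨x, rfl⟩ := Ideal.Quotient.mk_surjective x
    rw [hπ] at hx
    obtain ⟨t, ht, htx⟩ := hJ p x hx
    refine ⟨t, ht, ?_⟩
    have h2 : MvPolynomial.C t * x ∈ J' := (Finset.le_sup (f := J) hp) htx
    have h3 : t • (Ideal.Quotient.mk J' x) = Ideal.Quotient.mk J' (MvPolynomial.C t * x) := by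
      rw [map_mul]
      exact Algebra.smul_def t (Ideal.Quotient.mk J' x)
    rw [h3]
    exact Ideal.Quotient.eq_zero_iff_mem.mpr h2
  let A := Localization (Algebra.algebraMapSubmonoid S q.asIdeal.primeCompl)
  have : Module.Flat S A := IsLocalization.flat _ (Algebra.algebraMapSubmonoid S q.asIdeal.primeCompl)
  have : Module.Flat R A := Module.Flat.trans R S A
  have hA : IsLocalization (Algebra.algebraMapSubmonoid S' q.asIdeal.primeCompl) A :=
    isLocalization_of_ker q.asIdeal.primeCompl hs' fun x hx => hk q (Finset.mem_insert_self _ _) x hx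
  obtain ⟨f, hf, hflat⟩ := exists_away (R := R) (S := S') (A := A) q.asIdeal
  refine ⟨f, hf, ?_⟩
  -- the kernel of `S' → S` dies in `S'_f`
  let S'f := Localization.Away (algebraMap R S' f)
  have hkf : ∀ x : S', algebraMap S' S x = 0 → ∃ t ∈ Submonoid.powers f, t • x = 0 := by
    intro x hx
    have h3 : algebraMap S' S'f x = 0 := by
      refine eq_zero_of_injective_pi s hs S'f _ fun p hp => ?_
      obtain ⟨t, ht, htx⟩ := hk p (Finset.mem_insert_of_mem hp) x hx
      refine ⟨t, ht, ?_⟩
      have h3' : t • algebraMap S' S'f x = algebraMap S' S'f (t • x) :=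
        (map_smul (IsScalarTower.toAlgHom R S' S'f) t x).symm
      rw [h3', htx, map_zero]
    rw [IsLocalization.map_eq_zero_iff (Submonoid.powers (algebraMap R S' f))] at h3
    obtain ⟨⟨_, k, rfl⟩, h4⟩ := h3
    refine ⟨f ^ k, ⟨k, rfl⟩, ?_⟩
    have h4' : f ^ k • x = algebraMap R S' (f ^ k) * x := @Algebra.smul_def R S' _ _ _ (f ^ k) x
    rw [h4', map_pow]
    exact h4
  let Sf := Localization.Away (algebraMap R S f)
  have hm : ∀ B : Type u, [CommRing B] → [Algebra R B] →
      Algebra.algebraMapSubmonoid B (Submonoid.powers f) = Submonoid.powers (algebraMap R B f) := by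
    intro B _ _
    exact Submonoid.map_powers _ _
  have h5 : IsLocalization (Algebra.algebraMapSubmonoid S (Submonoid.powers f)) Sf := by
    rw [hm]
    infer_instance
  have h6 : IsLocalization (Algebra.algebraMapSubmonoid S' (Submonoid.powers f)) Sf :=
    isLocalization_of_ker (Submonoid.powers f) hs' hkf
  have h7 : IsLocalization.Away (algebraMap R S' f) Sf := by
    rw [hm] at h6
    exact h6
  have h8 : Algebra.FinitePresentation S' Sf := IsLocalization.Away.finitePresentation (algebraMap R S' f)
  exact Algebra.FinitePresentation.trans R S' Sf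

/-- Let `R → S` be a ring map of finite type with `S` flat over `R`, such that `R → ∏_j R_{𝔭_j}` is
injective for some finite set of primes `𝔭_j` and each localization `S_𝔭` (at a prime `𝔭` of `R`) is
a finitely presented `R_𝔭`-algebra. Then `S` is a finitely presented `R`-algebra. -/
theorem result {R S : Type u} [CommRing R] [CommRing S]
    [Algebra R S] [Algebra.FiniteType R S] [Module.Flat R S] (s : Finset (PrimeSpectrum R))
    (hs : Function.Injective fun r : R => fun p : s => algebraMap R (Localization.AtPrime p.1.asIdeal) r)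
    (hloc : ∀ (p : Ideal R) [p.IsPrime],
      Algebra.FinitePresentation (Localization.AtPrime p) (Localization (Algebra.algebraMapSubmonoid S p.primeCompl))) :
    Algebra.FinitePresentation R S := by
  choose f hf hfp using key s hs hloc
  have hspan : Ideal.span (Set.range f) = ⊤ := by
    by_contra hne
    obtain ⟨m, hm, hle⟩ := Ideal.exists_le_maximal _ hne
    exact hf ⟨m, hm.isPrime⟩ (hle (Ideal.subset_span ⟨_, rfl⟩))
  rw [← RingHom.finitePresentation_algebraMap]
  refine RingHom.finitePresentation_ofLocalizationSpanTarget (algebraMap R S) (algebraMap R S '' Set.range f) ?_ ?_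
  · rw [← Ideal.map_span, hspan, Ideal.map_top]
  · rintro ⟨_, _, ⟨q, rfl⟩, rfl⟩
    have := hfp q
    rw [← RingHom.finitePresentation_algebraMap] at this
    exact this

end Groth.Agent.S6932
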