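import Groth.Statements.S6933
import Mathlib.Algebra.Category.Grp.EpiMono

set_option autoImplicit false
universe u
open CategoryTheory
open InjHull

namespace Groth.Agent.S6933

/-- An abelian group `J` that is injective as an object of the category of abelian groups is divisible:
`n J = J` for every nonzero integer `n`. (The published statement is an equivalence; this row states
the implication from injective to divisible.) -/
theorem result (J : Type u) [AddCommGroup J] (hJ : Injective (AddCommGrpCat.of J))
    (n : ℤ) (hn : n ≠ 0) (x : J) : ∃ y : J, n • y = x := by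
  let f : ULift.{u} ℤ →+ ULift.{u} ℤ := DistribSMul.toAddMonoidHom (ULift.{u} ℤ) n
  let g : ULift.{u} ℤ →+ J := ((zmultiplesHom J) x).comp (AddEquiv.ulift (α := ℤ)).toAddMonoidHom
  have hm : Mono (AddCommGrpCat.ofHom f) := by
    rw [AddCommGrpCat.mono_iff_injective]
    intro a b hab
    have h2 : n * a.down = n * b.down := congrArg ULift.down hab
    exact ULift.down_injective (mul_left_cancel₀ hn h2)
  have h := Injective.comp_factorThru (J := AddCommGrpCat.of J) (AddCommGrpCat.ofHom g)
    (AddCommGrpCat.ofHom f)
  have h1 := ConcreteCategory.congr_hom h (ULift.up.{u} (1 : ℤ))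
  have h3 : f (ULift.up.{u} (1 : ℤ)) = n • (ULift.up.{u} (1 : ℤ)) := rfl
  refine ⟨(Injective.factorThru (J := AddCommGrpCat.of J) (AddCommGrpCat.ofHom g)
    (AddCommGrpCat.ofHom f)).hom (ULift.up.{u} (1 : ℤ)), ?_⟩
  rw [← map_zsmul, ← h3]
  refine h1.trans ?_
  change ((1 : ℤ) • x) = x
  exact one_zsmul x

end Groth.Agent.S6933
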