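import Groth.Statements.S6934
-- import your own Groth.Agent.* helpers here

set_option autoImplicit false
universe u
open EtAlg

namespace Groth.Agent.S6934

/-- Let `s : B → R`, `t : R' → R` be ring maps and `B' = B ×_R R'` the fibre product ring, i.e. a ring
`B'` with maps `p : B' → B`, `q : B' → R'`, `s ∘ p = t ∘ q`, such that `(p, q)` is injective with
image the pairs `(b, r')` with `s(b) = t(r')`. Let `h ∈ B'` with images `g = p(h)`, `f = q(h)`. Then
the square of localizations `B'_h → B_g`, `B'_h → R'_f`, `B_g → R_{s(g)}`, `R'_f → R_{t(f)} =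
R_{s(g)}` (the induced maps) is cartesian as well: `B'_h = B_g ×_{R_{s(g)}} R'_f`. -/
theorem result {B R R' B' : Type u} [CommRing B] [CommRing R] [CommRing R'] [CommRing B']
    (s : B →+* R) (t : R' →+* R) (p : B' →+* B) (q : B' →+* R') (hc : s.comp p = t.comp q)
    (hinj : ∀ x y : B', p x = p y → q x = q y → x = y) (hsurj : ∀ (b : B) (r' : R'), s b = t r' → ∃ x : B', p x = b ∧ q x = r')
    (h : B') (Bh Bg Rf Rsg : Type u) [CommRing Bh] [CommRing Bg] [CommRing Rf] [CommRing Rsg]
    [Algebra B' Bh] [IsLocalization.Away h Bh] [Algebra B Bg] [IsLocalization.Away (p h) Bg]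
    [Algebra R' Rf] [IsLocalization.Away (q h) Rf] [Algebra R Rsg] [IsLocalization.Away (s (p h)) Rsg]
    (pL : Bh →+* Bg) (qL : Bh →+* Rf) (sL : Bg →+* Rsg) (tL : Rf →+* Rsg)
    (hp : pL.comp (algebraMap B' Bh) = (algebraMap B Bg).comp p) (hq : qL.comp (algebraMap B' Bh) = (algebraMap R' Rf).comp q)
    (hs : sL.comp (algebraMap B Bg) = (algebraMap R Rsg).comp s) (ht : tL.comp (algebraMap R' Rf) = (algebraMap R Rsg).comp t) :
    (∀ x y : Bh, pL x = pL y → qL x = qL y → x = y) ∧
    (∀ (b : Bg) (r : Rf), sL b = tL r → ∃ x : Bh, pL x = b ∧ qL x = r) := by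
  have hst : s (p h) = t (q h) := congrArg (fun F : B' →+* R => F h) hc
  have hpa : ∀ a, pL (algebraMap B' Bh a) = algebraMap B Bg (p a) := fun a =>
    congrArg (fun F : B' →+* Bg => F a) hp
  have hqa : ∀ a, qL (algebraMap B' Bh a) = algebraMap R' Rf (q a) := fun a =>
    congrArg (fun F : B' →+* Rf => F a) hq
  have hsa : ∀ a, sL (algebraMap B Bg a) = algebraMap R Rsg (s a) := fun a =>
    congrArg (fun F : B →+* Rsg => F a) hs
  have hta : ∀ a, tL (algebraMap R' Rf a) = algebraMap R Rsg (t a) := fun a =>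
    congrArg (fun F : R' →+* Rsg => F a) ht
  constructor
  · have key : ∀ x : Bh, pL x = 0 → qL x = 0 → x = 0 := by
      intro x h1 h2
      obtain ⟨n, a, hx⟩ := IsLocalization.Away.surj h x
      have hu : IsUnit (algebraMap B' Bh h ^ n) :=
        (IsLocalization.Away.algebraMap_isUnit h).pow n
      have h3 : algebraMap B Bg (p a) = 0 := by
        rw [← hpa, ← hx, map_mul, h1, zero_mul]
      have h4 : algebraMap R' Rf (q a) = 0 := by
        rw [← hqa, ← hx, map_mul, h2, zero_mul]
      obtain ⟨k, hk⟩ := IsLocalization.Away.exists_of_eq (S := Bg) (p h)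
        (show algebraMap B Bg (p a) = algebraMap B Bg 0 by rw [h3, map_zero])
      obtain ⟨l, hl⟩ := IsLocalization.Away.exists_of_eq (S := Rf) (q h)
        (show algebraMap R' Rf (q a) = algebraMap R' Rf 0 by rw [h4, map_zero])
      have h5 : h ^ (k + l) * a = 0 := by
        apply hinj
        · rw [map_mul, map_pow, pow_add, mul_comm (p h ^ k), mul_assoc, hk, mul_zero, mul_zero,
            map_zero]
        · rw [map_mul, map_pow, pow_add, mul_assoc, hl, mul_zero, mul_zero, map_zero]
      have h6 : algebraMap B' Bh a = 0 := by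
        have h7 : algebraMap B' Bh h ^ (k + l) * algebraMap B' Bh a = 0 := by
          rw [← map_pow, ← map_mul, h5, map_zero]
        exact ((IsLocalization.Away.algebraMap_isUnit (S := Bh) h).pow (k + l)).mul_right_eq_zero.1 h7
      rw [h6] at hx
      exact hu.mul_left_eq_zero.1 hx
    intro x y h1 h2
    exact sub_eq_zero.1 (key (x - y) (by rw [map_sub, h1, sub_self]) (by rw [map_sub, h2, sub_self]))
  · intro b r hbr
    obtain ⟨n, b0, hb⟩ := IsLocalization.Away.surj (p h) b
    obtain ⟨m, r0, hr⟩ := IsLocalization.Away.surj (q h) r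
    have h1 : algebraMap R Rsg (s (p h ^ m * b0)) = algebraMap R Rsg (t (q h ^ n * r0)) := by
      rw [map_mul, map_pow, map_mul, map_pow, map_mul, map_pow, map_mul, map_pow, ← hsa b0, ← hb,
        ← hta r0, ← hr, map_mul, map_mul, map_pow, map_pow, hsa, hta, ← hst, hbr]
      ring
    obtain ⟨k, hk⟩ := IsLocalization.Away.exists_of_eq (S := Rsg) (s (p h)) h1
    have h2 : s (p h ^ k * (p h ^ m * b0)) = t (q h ^ k * (q h ^ n * r0)) := by
      rw [map_mul, map_pow, hk, hst]; simp only [map_mul, map_pow]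
    obtain ⟨x0, hx1, hx2⟩ := hsurj _ _ h2
    obtain ⟨c, hc1⟩ := (IsLocalization.Away.algebraMap_isUnit (S := Bh) h).pow (k + m + n)
    refine ⟨(algebraMap B' Bh x0) * ((c⁻¹ : Bhˣ) : Bh), ?_, ?_⟩
    · have hu := (IsLocalization.Away.algebraMap_isUnit (S := Bg) (p h)).pow (k + m + n)
      have h3 : pL (c : Bh) = algebraMap B Bg (p h) ^ (k + m + n) := by
        rw [hc1, map_pow, hpa]
      apply hu.mul_right_cancel
      rw [← h3, ← map_mul, mul_assoc, Units.inv_mul, mul_one, hpa, hx1, map_mul, map_mul, ← hb, h3,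
        map_pow, map_pow]
      ring
    · have hu := (IsLocalization.Away.algebraMap_isUnit (S := Rf) (q h)).pow (k + m + n)
      have h3 : qL (c : Bh) = algebraMap R' Rf (q h) ^ (k + m + n) := by
        rw [hc1, map_pow, hqa]
      apply hu.mul_right_cancel
      rw [← h3, ← map_mul, mul_assoc, Units.inv_mul, mul_one, hqa, hx2, map_mul, map_mul, ← hr, h3,
        map_pow, map_pow]
      ring

end Groth.Agent.S6934
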