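import Groth.Statements.S6938
import Groth.Agent.DRing.K226.PCRing

set_option autoImplicit false
universe u
open CategoryTheory CategoryTheory.Limits
attribute [local instance] HasDerivedCategory.standard
open DRing

namespace Groth.Agent.S6938

/-- Let R be a commutative ring, m an integer and K a bounded above cochain complex of R-modules. If the
module K^i is (m - i)-pseudo-coherent for every i, then K is m-pseudo-coherent in D(R). If every K^i
is a pseudo-coherent module, then K is pseudo-coherent. -/
theorem result (R : Type u) [CommRing R] (m : ℤ)
    (K : DRing.Cx R) (b : ℤ) (hb : DRing.VanishesAbove K b) :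
    ((∀ i : ℤ, DRing.IsPseudoCoherentModule R (m - i) (K.X i)) → DRing.IsPseudoCoherent R m (DRing.toD K)) ∧
      ((∀ i : ℤ, DRing.IsPseudoCoherentModule' R (K.X i)) → DRing.IsPseudoCoherent' R (DRing.toD K)) := by
  refine ⟨fun h => K226.PCRing.isPseudoCoherent_of_termwise m K b hb h, fun h => ?_⟩
  rw [K226.PCRing.isPseudoCoherent'_iff]
  exact fun n => K226.PCRing.isPseudoCoherent_of_termwise n K b hb
    (fun i => (K226.PCRing.isPseudoCoherent'_iff _).1 (h i) (n - i))

end Groth.Agent.S6938
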