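import Groth.Statements.S6942
import Groth.Agent.DRing.K226.PCHom

set_option autoImplicit false
universe u
open CategoryTheory CategoryTheory.Limits
attribute [local instance] HasDerivedCategory.standard
open DRing

namespace Groth.Agent.S6942

/-- Let R be a Noetherian commutative ring and m an integer. An object K of D(R) is m-pseudo-coherent
exactly when H^i(K) = 0 for all large i and H^i(K) is a finitely generated R-module for each i ≥ m.
Every finitely generated R-module M is pseudo-coherent, and conversely. -/
theorem result (R : Type u) [CommRing R]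
    [IsNoetherianRing R] (m : ℤ) (K : Dual.D R) (M : Type u) [AddCommGroup M] [Module R M] :
    (DRing.IsPseudoCoherent R m K ↔
      (∃ b : ℤ, ∀ i : ℤ, b < i → Subsingleton (Dual.HD R K i)) ∧ ∀ i : ℤ, m ≤ i → Module.Finite R (Dual.HD R K i)) ∧
      (DRing.IsPseudoCoherentModule' R M ↔ Module.Finite R M) := by
  refine ⟨⟨fun h => ⟨K226.PCRing.exists_bound h, fun i hi => K226.PCHom.finite_HD h i hi⟩, ?_⟩, ?_⟩
  · rintro ⟨⟨b, hb⟩, hf⟩
    exact K226.PCRing.isPseudoCoherent_of_homology m K b hb (fun i hi => by
      have := hf i hi
      exact K226.PCRing.pcm_of_finite (m - i) _)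
  · constructor
    · intro h
      exact (K226.PCRing.pcm_zero_iff M).1 ((K226.PCRing.isPseudoCoherent'_iff _).1 h 0)
    · intro h
      exact (K226.PCRing.isPseudoCoherent'_iff _).2 (fun n => K226.PCRing.pcm_of_finite n M)

end Groth.Agent.S6942
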