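import Groth.Statements.S6943
import Groth.Agent.DRing.K226.PCHom

set_option autoImplicit false
universe u
open CategoryTheory CategoryTheory.Limits
attribute [local instance] HasDerivedCategory.standard
open DRing

namespace Groth.Agent.S6943

/-- Let R be a coherent commutative ring, i.e. every finitely generated ideal of R is finitely presented
as an R-module. Let K be an object of D(R) whose cohomology vanishes in large degrees and m an
integer. Then K is m-pseudo-coherent if and only if H^m(K) is finitely generated and H^i(K) is
finitely presented for every i > m. Consequently K is pseudo-coherent if and only if every H^i(K) is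
finitely presented. -/
theorem result (R : Type u) [CommRing R]
    (hR : ∀ I : Ideal R, I.FG → Module.FinitePresentation R I) (K : Dual.D R)
    (hb : ∃ b : ℤ, ∀ i : ℤ, b < i → Subsingleton (Dual.HD R K i)) (m : ℤ) :
    (DRing.IsPseudoCoherent R m K ↔
      Module.Finite R (Dual.HD R K m) ∧ ∀ i : ℤ, m < i → Module.FinitePresentation R (Dual.HD R K i)) ∧
      (DRing.IsPseudoCoherent' R K ↔ ∀ i : ℤ, Module.FinitePresentation R (Dual.HD R K i)) := by
  obtain ⟨b, hb⟩ := hb
  have key : ∀ n : ℤ, Module.Finite R (Dual.HD R K n) →
      (∀ i : ℤ, n < i → Module.FinitePresentation R (Dual.HD R K i)) → DRing.IsPseudoCoherent R n K := by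
    intro n h1 h2
    refine K226.PCRing.isPseudoCoherent_of_homology n K b hb (fun i hi => ?_)
    rcases hi.eq_or_lt with rfl | hi
    · rw [sub_self, K226.PCRing.pcm_zero_iff]
      exact h1
    · have := h2 i hi
      exact K226.PCRing.pcm_of_finitePresentation hR (n - i) _
  refine ⟨⟨fun h => K226.PCHom.finitePresentation_HD hR h, fun h => key m h.1 h.2⟩, fun h i => ?_, fun h => ?_⟩
  · exact (K226.PCHom.finitePresentation_HD hR ((K226.PCRing.isPseudoCoherent'_iff _).1 h (i - 1))).2 i (by lia)
  · rw [K226.PCRing.isPseudoCoherent'_iff]
    exact fun n => key n (by have := h n; infer_instance) (fun i _ => h i)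

end Groth.Agent.S6943
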