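import Groth.Statements.S6960
import Groth.Agent.PerfC.RingPerf
import Mathlib.RingTheory.Flat.Localization

set_option autoImplicit false
universe u
open CategoryTheory CategoryTheory.Limits
attribute [local instance] HasDerivedCategory.standard
open DRing

namespace Groth.Agent.S6960

/-- Let R be a commutative ring, f_1, ..., f_r elements generating the unit ideal and K a cochain
complex of R-modules. If for every i the termwise localization K ⊗_R R_(f_i) is a perfect object of
D(R_(f_i)), then K is a perfect object of D(R). -/
theorem result {R : Type u} [CommRing R] {r : ℕ} (f : Fin r → R)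
    (hf : Ideal.span (Set.range f) = ⊤) (K : DRing.Cx R)
    (hK : ∀ i, DRing.IsPerfect (Localization.Away (f i))
      (DRing.toD (((ModuleCat.extendScalars (algebraMap R (Localization.Away (f i)))).mapHomologicalComplex
        (ComplexShape.up ℤ)).obj K))) :
    DRing.IsPerfect R (DRing.toD K) := by
  have hfl : ∀ i, (algebraMap R (Localization.Away (f i))).Flat := fun i => by
    rw [RingHom.flat_algebraMap_iff]
    exact IsLocalization.flat _ (Submonoid.powers (f i))
  have hex : ∀ i, Limits.PreservesFiniteLimits
      (ModuleCat.extendScalars.{u, u, u} (algebraMap R (Localization.Away (f i)))) :=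
    fun i => ModuleCat.preservesFiniteLimits_extendScalars_of_flat (hfl i)
  refine PerfC.RingPerf.perfect_descent_family (ι := ULift.{u} (Fin r))
    (fun i => Localization.Away (f i.down))
    (fun i => algebraMap R (Localization.Away (f i.down))) (fun i => hfl i.down) ?_ _ fun i => ?_
  · intro p
    have h1 : ∃ i, f i ∉ p.asIdeal := by
      by_contra hcon
      push Not at hcon
      apply p.2.ne_top
      rw [eq_top_iff, ← hf, Ideal.span_le]
      rintro _ ⟨i, rfl⟩
      exact hcon i
    obtain ⟨i, hi⟩ := h1
    have h2 : p ∈ Set.range (PrimeSpectrum.comap (algebraMap R (Localization.Away (f i)))) := by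
      rw [PrimeSpectrum.localization_away_comap_range (Localization.Away (f i)) (f i)]
      exact hi
    obtain ⟨q, hq⟩ := h2
    exact ⟨⟨i⟩, q, hq⟩
  · exact PerfC.RingPerf.isPerfect_of_iso
      ((ModuleCat.extendScalars.{u, u, u}
        (algebraMap R (Localization.Away (f i.down)))).mapDerivedCategoryFactors.app K).symm
      (hK i.down)

end Groth.Agent.S6960
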