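import Groth.Statements.S6961
import Groth.Agent.PerfC.RingPerf
import Mathlib.RingTheory.Flat.FaithfullyFlat.Algebra

set_option autoImplicit false
universe u
open CategoryTheory CategoryTheory.Limits
attribute [local instance] HasDerivedCategory.standard
open DRing

namespace Groth.Agent.S6961

/-- Let R → R' be a faithfully flat homomorphism of commutative rings and K a cochain complex of
R-modules. If the termwise base change K ⊗_R R' is a perfect object of D(R'), then K is a perfect
object of D(R). -/
theorem result {R R' : Type u} [CommRing R] [CommRing R'] [Algebra R R']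
    [Module.FaithfullyFlat R R'] (K : DRing.Cx R)
    (hK : DRing.IsPerfect R' (DRing.toD (((ModuleCat.extendScalars (algebraMap R R')).mapHomologicalComplex
        (ComplexShape.up ℤ)).obj K))) :
    DRing.IsPerfect R (DRing.toD K) := by
  have hfl : (algebraMap R R').Flat := by
    rw [RingHom.flat_algebraMap_iff]
    infer_instance
  have hex : PreservesFiniteLimits (ModuleCat.extendScalars.{u, u, u} (algebraMap R R')) :=
    ModuleCat.preservesFiniteLimits_extendScalars_of_flat hfl
  refine PerfC.RingPerf.perfect_descent_family (ι := PUnit.{u + 1}) (fun _ => R')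
    (fun _ => algebraMap R R') (fun _ => hfl) ?_ _ fun _ => ?_
  · intro p
    obtain ⟨q, hq⟩ := PrimeSpectrum.comap_surjective_of_faithfullyFlat (A := R) (B := R') p
    exact ⟨⟨⟩, q, hq⟩
  · exact PerfC.RingPerf.isPerfect_of_iso
      ((ModuleCat.extendScalars.{u, u, u} (algebraMap R R')).mapDerivedCategoryFactors.app K).symm hK

end Groth.Agent.S6961
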