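import Groth.Statements.S6963
import Groth.Agent.LoccohB.BidualD
import Groth.Agent.LoccohB.RelF2
import Groth.Agent.LoccohB.RHomVal

set_option autoImplicit false
universe u
open CategoryTheory CategoryTheory.Limits
attribute [local instance] HasDerivedCategory.standard
open DRing

namespace Groth.Agent.S6963

/-- Let A be a commutative ring and K a perfect object of D(A), represented by a cochain complex E for
which RHom_A(E, -) exists; write K^∨ = RHom_A(E, A). Then K^∨ is a perfect object of D(A), and for
every cochain complex E' representing K^∨ for which RHom_A(E', -) exists, RHom_A(E', A) is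
isomorphic to K in D(A) (existence of an isomorphism only; the canonical one is the double-duality
map). -/
theorem result (A : Type u) [CommRing A] (K : Dual.D A) (hK : DRing.IsPerfect A K)
    (E : DRing.Cx A) (eK : DRing.toD E ≅ K) [DRing.HasRHomCx E] :
    DRing.IsPerfect A ((DRing.RHomCx E).obj (Dual.inD A A)) ∧
      ∀ (E' : DRing.Cx A) (eK' : DRing.toD E' ≅ (DRing.RHomCx E).obj (Dual.inD A A)) [DRing.HasRHomCx E'],
        Nonempty ((DRing.RHomCx E').obj (Dual.inD A A) ≅ K) := by
  obtain ⟨I, hI, hinj, ⟨e⟩, hev0⟩ := LoccohB.RelF2.exists_model_self (A := A)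
  have hE : DRing.IsPerfect A (DRing.toD E) := LoccohB.PerfTri.isPerfect_of_iso eK.symm hK
  constructor
  · exact LoccohB.PerfTri.isPerfect_of_iso (LoccohB.RHomVal.rhomIso E I ≪≫ (DRing.RHomCx E).mapIso e)
      (LoccohB.RelF2.isPerfect_homCx E I hE e)
  · intro E' eK' _
    obtain ⟨g⟩ := LoccohB.BidualD.nonempty_homCx_iso I
      (eK' ≪≫ (DRing.RHomCx E).mapIso e.symm ≪≫ (LoccohB.RHomVal.rhomIso E I).symm)
    have hev := LoccohB.HomCx.quasiIso_ev_of_perfect I hinj hev0 E hE
    exact ⟨(DRing.RHomCx E').mapIso e.symm ≪≫ (LoccohB.RHomVal.rhomIso E' I).symm ≪≫ g ≪≫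
      (asIso (DerivedCategory.Q.map (LoccohB.HomCx.ev E I))).symm ≪≫ eK⟩

end Groth.Agent.S6963
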