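import Groth.Statements.S6965
import Groth.Agent.Dual.K174.Basic

set_option autoImplicit false
universe u
open CategoryTheory CategoryTheory.Limits
attribute [local instance] HasDerivedCategory.standard
open DRing

namespace Groth.Agent.S6965

/-- Let R be a commutative ring, K an object of D(R) and a, b integers. These three conditions are
equivalent: (1) the injective amplitude of K lies in [a, b], meaning K is isomorphic in D(R) to a
complex of injective R-modules vanishing outside [a, b]; (2) Hom(N[0], K[i]) = 0 in D(R) for every
R-module N and every integer i outside [a, b]; (3) Hom((R/I)[0], K[i]) = 0 in D(R) for every ideal I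
of R and every integer i outside [a, b]. -/
theorem result (R : Type u) [CommRing R] (K : Dual.D R) (a b : ℤ) :
    [DRing.HasInjAmplitudeIn R a b K,
      ∀ (N : Type u) [AddCommGroup N] [Module R N] (i : ℤ), (i < a ∨ b < i) →
        Subsingleton (DRing.ExtD R (Dual.inD R N) K i),
      ∀ (I : Ideal R) (i : ℤ), (i < a ∨ b < i) → Subsingleton (DRing.ExtD R (Dual.inD R (R ⧸ I)) K i)].TFAE := by
  tfae_have 1 ↔ 2 := K174.Basic.hasInjAmplitudeIn_iff K a b
  tfae_have 2 → 3 := fun h I i hi => h (R ⧸ I) i hi
  tfae_have 3 → 1 := by
    intro h
    have h0 : ∀ i : ℤ, (i < a ∨ b < i) → Subsingleton (Dual.inD R R ⟶ K⟦i⟧) := fun i hi =>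
      Groth.Agent.LoccohB.InjRep.subsingleton_of_iso_left
        ((DerivedCategory.singleFunctor (ModuleCat.{u} R) 0).mapIso
          (Submodule.quotEquivOfEqBot (⊥ : Ideal R) rfl).symm.toModuleIso) (h ⊥ i hi)
    have : DerivedCategory.IsGE K a := by
      rw [DerivedCategory.isGE_iff]
      exact fun i hi => Groth.Agent.LoccohB.InjRep.isZero_homology_of_subsingleton K i (h0 i (Or.inl hi))
    have : DerivedCategory.IsLE K b := by
      rw [DerivedCategory.isLE_iff]
      exact fun i hi => Groth.Agent.LoccohB.InjRep.isZero_homology_of_subsingleton K i (h0 i (Or.inr hi))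
    obtain ⟨J, h1, h2, h3, e⟩ := Groth.Agent.LoccohB.InjRep.exists_injective_representative K a b
      (fun I => h I (b + 1) (Or.inr (by omega)))
    refine ⟨J, ?_, fun i => ?_, e⟩
    · rintro i (hi | hi)
      · exact J.isZero_of_isStrictlyGE a i hi
      · exact J.isZero_of_isStrictlyLE b i hi
    · have := h3 i
      exact Module.injective_module_of_injective_object R _
  tfae_finish

end Groth.Agent.S6965
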