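import Groth.Statements.S6966
import Mathlib.Algebra.Homology.DerivedCategory.Ext.EnoughProjectives
import Mathlib.Algebra.Homology.DerivedCategory.FullyFaithful
import Mathlib.Algebra.Homology.DerivedCategory.SingleTriangle
import Mathlib.Algebra.Category.ModuleCat.EnoughInjectives
import Mathlib.Algebra.Category.ModuleCat.Projective
import Mathlib.Algebra.Homology.ShortComplex.ModuleCat
import Mathlib.Algebra.Module.Projective

set_option autoImplicit false
universe u
open CategoryTheory CategoryTheory.Limits
attribute [local instance] HasDerivedCategory.standard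
open CAlg

namespace Groth.Agent.S6966

/-- Let R be a commutative ring, I an ideal of R and M an R-module. Then the following two conditions
coincide: for each a ∈ I, the endomorphism of M given by multiplication by a can be written as a
composite M → P → M with P some projective R-module; and for every R-module N and every a ∈ I, a
annihilates Ext^1_R(M, N) = Hom(M[0], N[1]) in D(R). -/
theorem result (R : Type u) [CommRing R] (I : Ideal R) (M : Type u)
    [AddCommGroup M] [Module R M] :
    (∀ a ∈ I, ∃ (P : Type u) (_ : AddCommGroup P) (_ : Module R P) (_ : Module.Projective R P)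
        (f : M →ₗ[R] P) (g : P →ₗ[R] M), g ∘ₗ f = a • LinearMap.id) ↔
      ∀ (N : Type u) [AddCommGroup N] [Module R N], ∀ a ∈ I,
        ∀ x : DRing.ExtD R (Dual.inD R M) (Dual.inD R N) 1, a • x = 0 := by
  let F := DerivedCategory.singleFunctor (ModuleCat.{u} R) 0
  have hExt : HasExt.{u + 1} (ModuleCat.{u} R) := HasExt.standard _
  have key : ∀ (P N : ModuleCat.{u} R) [Projective P] (y : F.obj P ⟶ (F.obj N)⟦(1 : ℤ)⟧), y = 0 := by
    intro P N _ y
    have h1 := Abelian.Ext.eq_zero_of_projective (n := 0)
      ((Abelian.Ext.homEquiv (X := P) (Y := N) (n := 0 + 1)).symm y)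
    rw [Equiv.symm_apply_eq] at h1
    exact h1.trans (Abelian.Ext.zero_hom _ _ _)
  constructor
  · intro h N _ _ a ha x
    obtain ⟨P, _, _, hP, f, g, hfg⟩ := h a ha
    have : Projective (ModuleCat.of R P) := by
      rw [← IsProjective.iff_projective]
      exact hP
    have h1 : F.map (ModuleCat.ofHom g) ≫ x = 0 := key _ _ _
    have h2 : a • 𝟙 ((F.obj (ModuleCat.of R M))) = F.map (ModuleCat.ofHom f) ≫ F.map (ModuleCat.ofHom g) := by
      rw [← F.map_id, ← F.map_smul, ← F.map_comp, ← ModuleCat.ofHom_comp, hfg]
      rfl
    have h3 : a • x = (a • 𝟙 ((F.obj (ModuleCat.of R M)))) ≫ x := by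
      rw [Linear.smul_comp, Category.id_comp]
    rw [h3, h2, Category.assoc, h1, comp_zero]
  · intro h a ha
    let π : (M →₀ R) →ₗ[R] M := Finsupp.linearCombination R id
    have hπ : Function.Surjective π := Finsupp.linearCombination_id_surjective R M
    let S : ShortComplex (ModuleCat.{u} R) := ShortComplex.mk
      (X₁ := ModuleCat.of R (LinearMap.ker π)) (X₂ := ModuleCat.of R (M →₀ R)) (X₃ := ModuleCat.of R M)
      (ModuleCat.ofHom (LinearMap.ker π).subtype) (ModuleCat.ofHom π)
      (ModuleCat.hom_ext (LinearMap.ext fun x => x.2))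
    have hS : S.ShortExact :=
      { exact := by
          rw [ShortComplex.ShortExact.moduleCat_exact_iff_function_exact]
          exact LinearMap.exact_subtype_ker_map π
        mono_f := by
          rw [ModuleCat.mono_iff_injective]
          exact Subtype.val_injective
        epi_g := by
          rw [ModuleCat.epi_iff_surjective]
          exact hπ }
    have h1 : a • hS.singleδ = 0 := h (LinearMap.ker π) a ha hS.singleδ
    have h2 : (a • 𝟙 (F.obj S.X₃)) ≫ hS.singleδ = 0 := by
      rw [Linear.smul_comp, Category.id_comp, h1]
    obtain ⟨g, hg⟩ := Pretriangulated.Triangle.coyoneda_exact₃ _ hS.singleTriangle_distinguished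
      (a • 𝟙 (F.obj S.X₃)) h2
    obtain ⟨f, rfl⟩ := F.map_surjective g
    refine ⟨M →₀ R, inferInstance, inferInstance, inferInstance, f.hom, π, ?_⟩
    have h3 : f ≫ S.g = a • 𝟙 S.X₃ := by
      apply F.map_injective
      rw [F.map_comp, F.map_smul, F.map_id]
      exact hg.symm
    have h4 := congrArg ModuleCat.Hom.hom h3
    exact h4

end Groth.Agent.S6966
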