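import Groth.Statements.S6967

set_option autoImplicit false
universe u
open CAlg

namespace Groth.Agent.S6967

/-- Let R be a commutative ring, I an ideal of R and 0 → K → P → M → 0 a short exact sequence of
R-modules with P projective. If multiplication by a on M factors through a projective R-module for
every a ∈ I, then multiplication by a on K factors through a projective R-module for every a ∈ I. -/
theorem result (R : Type u) [CommRing R] (I : Ideal R)
    {K P M : Type u} [AddCommGroup K] [Module R K] [AddCommGroup P] [Module R P] [Module.Projective R P]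
    [AddCommGroup M] [Module R M] (f : K →ₗ[R] P) (g : P →ₗ[R] M) (hf : Function.Injective f)
    (hg : Function.Surjective g) (hfg : LinearMap.range f = LinearMap.ker g)
    (hM : ∀ a ∈ I, ∃ (P : Type u) (_ : AddCommGroup P) (_ : Module R P) (_ : Module.Projective R P)
        (f : M →ₗ[R] P) (g : P →ₗ[R] M), g ∘ₗ f = a • LinearMap.id) :
    ∀ a ∈ I, ∃ (P : Type u) (_ : AddCommGroup P) (_ : Module R P) (_ : Module.Projective R P)
        (f : K →ₗ[R] P) (g : P →ₗ[R] K), g ∘ₗ f = a • LinearMap.id := by
  intro a ha
  obtain ⟨Q, _, _, _, f', g', h⟩ := hM a ha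
  obtain ⟨l, hl⟩ := Module.projective_lifting_property g g' hg
  have key : ∀ p : P, a • p - l (f' (g p)) ∈ LinearMap.range f := by
    intro p
    rw [hfg, LinearMap.mem_ker, map_sub, map_smul]
    have h1 : g (l (f' (g p))) = g' (f' (g p)) := LinearMap.congr_fun hl _
    have h2 : g' (f' (g p)) = a • g p := by simpa using LinearMap.congr_fun h (g p)
    rw [h1, h2, sub_self]
  let T : P →ₗ[R] P := a • LinearMap.id - l ∘ₗ f' ∘ₗ g
  have hT : ∀ p, T p ∈ LinearMap.range f := fun p => by simpa [T] using key p
  let e := LinearEquiv.ofInjective f hf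
  refine ⟨P, inferInstance, inferInstance, inferInstance, f,
    e.symm.toLinearMap ∘ₗ T.codRestrict (LinearMap.range f) hT, ?_⟩
  ext k
  apply hf
  have h3 : f (e.symm ⟨T (f k), hT (f k)⟩) = T (f k) := by
    exact congrArg Subtype.val (e.apply_symm_apply ⟨T (f k), hT (f k)⟩)
  have h4 : g (f k) = 0 := by
    rw [← LinearMap.mem_ker, ← hfg]; exact ⟨k, rfl⟩
  refine h3.trans ?_
  simp [T, h4]

end Groth.Agent.S6967
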