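import Groth.Statements.S6969
import Mathlib.RingTheory.Finiteness.Finsupp
import Mathlib.RingTheory.Finiteness.Basic

set_option autoImplicit false
universe u
open CAlg

namespace Groth.Agent.S6969

/-- Let R be a commutative ring and φ : M → N an R-linear map which factors through a projective
R-module. If M is finitely generated, then φ factors through a finitely generated projective
R-module. -/
theorem result (R : Type u) [CommRing R] {M N : Type u} [AddCommGroup M]
    [Module R M] [Module.Finite R M] [AddCommGroup N] [Module R N] (φ : M →ₗ[R] N)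
    (h : ∃ (P : Type u) (_ : AddCommGroup P) (_ : Module R P) (_ : Module.Projective R P) (f : M →ₗ[R] P)
      (g : P →ₗ[R] N), g ∘ₗ f = φ) :
    ∃ (P : Type u) (_ : AddCommGroup P) (_ : Module R P) (_ : Module.Projective R P) (_ : Module.Finite R P)
      (f : M →ₗ[R] P) (g : P →ₗ[R] N), g ∘ₗ f = φ := by
  classical
  obtain ⟨P, _, _, hP, f, g, rfl⟩ := h
  obtain ⟨s, hs⟩ := hP
  -- `s : P → (P →₀ R)` a section
  obtain ⟨G, hG⟩ := Module.Finite.fg_top (R := R) (M := M)
  let S : Finset P := G.biUnion fun m => (s (f m)).support
  have hS : ∀ m : M, s (f m) ∈ Finsupp.supported R R (S : Set P) := by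
    intro m
    have : (⊤ : Submodule R M) ≤ (Finsupp.supported R R (S : Set P)).comap (s ∘ₗ f) := by
      rw [← hG, Submodule.span_le]
      intro m hm
      simp only [Submodule.comap_coe, Set.mem_preimage, SetLike.mem_coe]
      rw [Finsupp.mem_supported]
      intro x hx
      simp only [S, Finset.coe_biUnion, Set.mem_iUnion]
      exact ⟨m, hm, hx⟩
    exact this trivial
  let F := Finsupp.supported R R (S : Set P)
  let e : F ≃ₗ[R] ((S : Set P) →₀ R) := Finsupp.supportedEquivFinsupp (S : Set P)
  have : Module.Free R F := Module.Free.of_equiv e.symm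
  have : Module.Finite R F := Module.Finite.equiv e.symm
  refine ⟨F, inferInstance, inferInstance, inferInstance, inferInstance,
    (s ∘ₗ f).codRestrict F hS, g ∘ₗ Finsupp.linearCombination R id ∘ₗ F.subtype, ?_⟩
  ext m
  have := hs (f m)
  simp [this]

end Groth.Agent.S6969
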