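import Groth.Statements.S6970
-- import your own Groth.Agent.* helpers here
import Groth.Agent.DRing.K228.PerfQuot
import Groth.Agent.DRing.K229.LiftD
import Groth.Agent.Sga5.NilLift

set_option autoImplicit false
universe u
open CategoryTheory CategoryTheory.Limits
attribute [local instance] HasDerivedCategory.standard
open DRing

namespace Groth.Agent.S6970

/-- Let R be a commutative ring and I a nilpotent ideal of R such that the derived base change D(R) →
D(R/I) exists. Let K be an object of D(R) and E a bounded above cochain complex of projective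
R/I-modules which is isomorphic in D(R/I) to K ⊗^L_R R/I. Then there is a bounded above cochain
complex P of projective R-modules which is isomorphic to K in D(R) and whose termwise reduction P
⊗_R R/I is isomorphic to E as a complex of R/I-modules. -/
theorem result (R : Type u) [CommRing R] (I : Ideal R)
    (hI : IsNilpotent I) [DRing.HasLBaseChange (Ideal.Quotient.mk I)] (K : Dual.D R)
    (E : DRing.Cx (R ⧸ I)) (b : ℤ) (hEb : DRing.VanishesAbove E b)
    (hEp : ∀ i : ℤ, Module.Projective (R ⧸ I) (E.X i))
    (hE : Nonempty (DRing.toD E ≅ (DRing.LBaseChange (Ideal.Quotient.mk I)).obj K)) :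
    ∃ (P : DRing.Cx R) (b' : ℤ), DRing.VanishesAbove P b' ∧ (∀ i : ℤ, Module.Projective R (P.X i)) ∧
      Nonempty (DRing.toD P ≅ K) ∧ Nonempty ((((ModuleCat.extendScalars (Ideal.Quotient.mk I)).mapHomologicalComplex (ComplexShape.up ℤ)).obj P) ≅ E) := by
  have hker : IsNilpotent (RingHom.ker (Ideal.Quotient.mk I)) := by rwa [Ideal.mk_ker]
  let Pc : ObjectProperty (ModuleCat.{u} R) := fun X => Module.Projective R X
  have hPc : Pc.IsClosedUnderIsomorphisms := ⟨fun e h =>
    @Module.Projective.of_equiv' _ _ _ _ _ _ _ _ h e.toLinearEquiv⟩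
  have hLE : K.IsLE b := by
    refine K228.TorQuot.isLE_of_nilpotent (Ideal.Quotient.mk I) Ideal.Quotient.mk_surjective hker ?_
    obtain ⟨e⟩ := hE
    have h1 := K228.PcQuot.isLE_toD E b hEb
    exact (DerivedCategory.isLE_iff _ _).2 fun i hi =>
      ((DRing.toD E).isZero_of_isLE b i hi).of_iso
        ((DerivedCategory.homologyFunctor _ i).mapIso e.symm)
  obtain ⟨Q, hQ, hQ', hQe⟩ := K227.PerfFlat.exists_projective_rep K b
    (fun i hi => ModuleCat.subsingleton_of_isZero (K.isZero_of_isLE b i hi))
  refine K229.LiftD.exists_lift I Pc (fun _ h => h) (fun X Y hX => ?_) (fun X Y f hX hY h => ?_) K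
    ⟨Q, b, hQ, fun i => ?_, hQe⟩ E b hEb (fun i => ?_) hE
  · have hX' : Module.Projective R X := hX
    constructor
    · intro h
      exact @Module.Projective.of_split _ _ _ _ _ _ _ _ h (LinearMap.inr R X Y)
        (LinearMap.snd R X Y) (LinearMap.snd_comp_inr R X Y)
    · intro h
      have h' : Module.Projective R Y := h
      exact inferInstanceAs (Module.Projective R (X × Y))
  · obtain ⟨n, hn⟩ := hI
    have h5 := K228.PerfQuot.sup_pow (LinearMap.range f.hom) I h n
    rw [hn, Ideal.zero_eq_bot, Submodule.bot_smul, sup_bot_eq] at h5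
    exact LinearMap.range_eq_top.1 h5
  · exact (IsProjective.iff_projective (Q.X i)).2 (hQ' i)
  · have := hEp i
    obtain ⟨P, _, _, h1, ⟨e⟩⟩ := Groth.Agent.Sga5.NilLift.exists_projective_lift I hI (E.X i)
    exact ⟨ModuleCat.of R P, h1, ⟨e⟩⟩

end Groth.Agent.S6970
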