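import Groth.Statements.S6975
-- import your own Groth.Agent.* helpers here
import Groth.Agent.DRing.K228.TorPerf

set_option autoImplicit false
universe u
open CategoryTheory CategoryTheory.Limits
attribute [local instance] HasDerivedCategory.standard
open DRing

namespace Groth.Agent.S6975

/-- Let R be a local commutative ring with residue field κ such that the derived base change D(R) → D(κ)
exists, and let K be a pseudo-coherent object of D(R). If there is an integer a with H^i(K ⊗^L_R κ)
= 0 for all i < a, then K is perfect. -/
theorem result (R : Type u) [CommRing R] [IsLocalRing R]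
    [DRing.HasLBaseChange (IsLocalRing.residue R)] (K : Dual.D R) (hK : DRing.IsPseudoCoherent' R K) (a : ℤ)
    (h : ∀ i : ℤ, i < a → Subsingleton (Dual.HD (IsLocalRing.ResidueField R)
      ((DRing.LBaseChange (IsLocalRing.residue R)).obj K) i)) :
    DRing.IsPerfect R K := by
  refine K228.TorPerf.isPerfect_of_retraction hK a fun E hE hKP ⟨e⟩ i hi => ?_
  obtain ⟨s, r, hs, hr⟩ := K228.FibreSplit.exists_retraction_of_exactAt E
    (IsLocalRing.residue R) (Field.toIsField _) hE i (K228.FibreSplit.exactAt_ext E _ e i (h i hi))
  refine K228.FibreSplit.exists_retraction_of_forall _ fun m hm => ⟨s, r, ?_, hr⟩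
  rw [IsLocalRing.eq_maximalIdeal hm]
  exact fun hmem => hs ((IsLocalRing.residue_eq_zero_iff s).2 hmem)

end Groth.Agent.S6975
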