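import Groth.Statements.S6981
-- import your own Groth.Agent.* helpers here
import Groth.Agent.DRing.K228.PolyCone
import Groth.Agent.S2137
import Groth.Agent.DRing.K229.PcRetract
import Groth.Agent.CalgB.PsCoh

set_option autoImplicit false
universe u
open CategoryTheory CategoryTheory.Limits
attribute [local instance] HasDerivedCategory.standard
open DRing

namespace Groth.Agent.S6981

/-- Let R be a commutative ring, K an object of D(R), m an integer, and R[x] → R the R-algebra
homomorphism sending x to 0. Then K is m-pseudo-coherent over R if and only if K, regarded as an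
object of D(R[x]) by restriction of scalars along this map, is m-pseudo-coherent over R[x]. -/
theorem result (R : Type u) [CommRing R] (K : Dual.D R)
    (m : ℤ) :
    DRing.IsPseudoCoherent R m K ↔
      DRing.IsPseudoCoherent (Polynomial R) m ((DRing.restrictD (Polynomial.evalRingHom (0 : R))).obj K) := by
  obtain ⟨E, ⟨e⟩⟩ : ∃ E : DRing.Cx R, Nonempty (DRing.toD E ≅ K) :=
    ⟨DerivedCategory.Q.objPreimage K, ⟨DerivedCategory.Q.objObjPreimageIso K⟩⟩
  let eK : (DRing.restrictD (Polynomial.evalRingHom (0 : R))).obj K ≅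
      DRing.toD ((DRing.restrictCx (Polynomial.evalRingHom (0 : R))).obj E) :=
    (DRing.restrictD (Polynomial.evalRingHom (0 : R))).mapIso e.symm ≪≫
      K228.PolyCone.restrictQ R E
  constructor
  · intro hK
    have hE : DRing.IsPseudoCoherent R m (DRing.toD E) :=
      Groth.Agent.PerfB.DescRing.pc_of_iso e.symm hK
    have h1 : DRing.IsPseudoCoherent (Polynomial R) m
        (DRing.toD ((K228.FlatBC.ext (K228.PolyCone.ι R)).obj E)) :=
      Groth.Agent.PerfB.DescRing.pc_of_iso
        (K228.FlatBC.flatBCQ (K228.PolyCone.ι R) (K228.PolyCone.flat_ι R) E)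
        (K228.FlatBC.pc_flatBC _ _ hE)
    obtain ⟨g, h, hT⟩ := K228.PolyCone.exists_triangle R E
    have h2 := Groth.Agent.CalgB.PsCohGen.PC.obj₃
      (Groth.Agent.CalgB.PsCoh.isProjClass_ffree (Polynomial R)) hT (m := m) (m' := m + 1) rfl
      (Groth.Agent.CalgB.PsCohGen.PC.mono (by omega) h1) h1
    exact Groth.Agent.PerfB.DescRing.pc_of_iso eK.symm h2
  · intro hK
    haveI := Groth.Agent.LoccohB.LBC.hasLBaseChange (Polynomial.evalRingHom (0 : R))
    obtain ⟨f⟩ := K228.PolyCone.main R E
    have h1 := Groth.Agent.S2137.result (Polynomial.evalRingHom (0 : R)) _ m hK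
    have h2 : DRing.IsPseudoCoherent R m
        (DRing.toD E ⊞ (shiftFunctor (Dual.D R) (1 : ℤ)).obj (DRing.toD E)) :=
      Groth.Agent.PerfB.DescRing.pc_of_iso
        ((DRing.LBaseChange (Polynomial.evalRingHom (0 : R))).mapIso eK ≪≫ f) h1
    exact Groth.Agent.PerfB.DescRing.pc_of_iso e
      (K229.PcRetract.pc_of_biprod_left
        (Groth.Agent.CalgB.PsCoh.isProjClass_ffree R) _ _ h2)

end Groth.Agent.S6981
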