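import Groth.Statements.S6984
import Groth.Agent.DerCA.K365.Rel

set_option autoImplicit false
universe u
open CategoryTheory CategoryTheory.Limits
attribute [local instance] HasDerivedCategory.standard
open DerCA

namespace Groth.Agent.S6984

/-- Let R be a commutative ring, A → B a finite homomorphism of finite type R-algebras, K an object of
D(B) and m an integer. Then K is m-pseudo-coherent relative to R over B if and only if K, with
scalars restricted to A, is m-pseudo-coherent relative to R over A; and K is pseudo-coherent
relative to R over B if and only if its restriction to A is pseudo-coherent relative to R. -/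
theorem result {R A B : Type u} [CommRing R] [CommRing A] [CommRing B]
    [Algebra R A] [Algebra A B] [Algebra R B] [IsScalarTower R A B] [Algebra.FiniteType R A]
    [Algebra.FiniteType R B] [Module.Finite A B] (K : Dual.D B) (m : ℤ) :
    (DerCA.IsRelPseudoCoherent R B m K ↔
      DerCA.IsRelPseudoCoherent R A m ((DRing.restrictD (algebraMap A B)).obj K)) ∧
      (DerCA.IsRelPseudoCoherentAll R B K ↔
        DerCA.IsRelPseudoCoherentAll R A ((DRing.restrictD (algebraMap A B)).obj K)) := by
  have key : ∀ m : ℤ, DerCA.IsRelPseudoCoherent R B m K ↔
      DerCA.IsRelPseudoCoherent R A m ((DRing.restrictD (algebraMap A B)).obj K) := by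
    intro m
    obtain ⟨n, α, hα⟩ := Algebra.FiniteType.iff_quotient_mvPolynomial''.1 (inferInstance : Algebra.FiniteType R A)
    let θ : MvPolynomial (Fin n) R →ₐ[R] B := (IsScalarTower.toAlgHom R A B).comp α
    have hθ : (θ : MvPolynomial (Fin n) R →+* B).Finite :=
      RingHom.Finite.comp (f := (α : MvPolynomial (Fin n) R →+* A)) (RingHom.finite_algebraMap.2 inferInstance)
        (RingHom.Finite.of_surjective _ hα)
    rw [K365.Rel.rel_iff_of_finite θ hθ, K365.Rel.rel_iff_of_surjective α hα]
    exact K365.PCRestrict.pc_comp_iff (α : MvPolynomial (Fin n) R →+* A) (algebraMap A B) _ rfl K m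
  exact ⟨key m, forall_congr' key⟩

end Groth.Agent.S6984
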