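import Groth.Statements.S6995
-- import your own Groth.Agent.* helpers here
import Groth.Agent.DRing.K228.GlDim

set_option autoImplicit false
universe u
open CategoryTheory CategoryTheory.Limits
attribute [local instance] HasDerivedCategory.standard
open DRing

namespace Groth.Agent.S6995

/-- Let R be a Noetherian regular commutative ring of finite Krull dimension d ≥ 1, K a perfect object
of D(R) and k an integer such that H^i(K) = 0 for every i with k - d + 2 ≤ i ≤ k. Then K splits in
D(R) as the direct sum of its canonical truncations: there is an isomorphism K ≅ τ_(≤ k-d+1) K ⊕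
τ_(≥ k+1) K under which the truncation map τ_(≤ k-d+1) K → K becomes the first inclusion and K →
τ_(≥ k+1) K the second projection. -/
theorem result (R : Type u) [CommRing R] [IsNoetherianRing R]
    (hreg : ∀ p : PrimeSpectrum R, IsRegularLocalRing (Localization.AtPrime p.asIdeal)) (d : ℕ) (hd1 : 1 ≤ d)
    (hd : ringKrullDim R = d) (K : Dual.D R) (hK : DRing.IsPerfect R K) (k : ℤ)
    (hgap : ∀ i : ℤ, k - d + 2 ≤ i → i ≤ k → Subsingleton (Dual.HD R K i))
    [HasBinaryBiproduct
      (((DerivedCategory.TStructure.t : Triangulated.TStructure (Dual.D R)).truncLT (k - d + 2)).obj K)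
      (((DerivedCategory.TStructure.t : Triangulated.TStructure (Dual.D R)).truncGE (k + 1)).obj K)] :
    ∃ e : K ≅
      ((DerivedCategory.TStructure.t : Triangulated.TStructure (Dual.D R)).truncLT (k - d + 2)).obj K ⊞
        ((DerivedCategory.TStructure.t : Triangulated.TStructure (Dual.D R)).truncGE (k + 1)).obj K,
      ((DerivedCategory.TStructure.t : Triangulated.TStructure (Dual.D R)).truncLTι (k - d + 2)).app K ≫ e.hom =
          biprod.inl ∧
        e.hom ≫ biprod.snd =
          ((DerivedCategory.TStructure.t : Triangulated.TStructure (Dual.D R)).truncGEπ (k + 1)).app K := by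
  have hKb : ∃ b : ℤ, ∀ i : ℤ, b < i → Subsingleton (Dual.HD R K i) := by
    obtain ⟨E, a, b, h1, -, ⟨e⟩⟩ := hK
    exact ⟨b, fun i hi => K228.TorPerf.isZero_hd_of_vanishes E e i (h1 i (Or.inr hi))⟩
  obtain ⟨b, hb⟩ := hKb
  have h0 : Subsingleton
      (((DerivedCategory.TStructure.t : Triangulated.TStructure (Dual.D R)).truncGE (k + 1)).obj K ⟶
      (((DerivedCategory.TStructure.t : Triangulated.TStructure (Dual.D R)).truncLT (k - d + 2)).obj
        K)⟦(1 : ℤ)⟧) := by
    refine K228.GlDim.subsingleton_hom_of_glDim d
      (fun M _ _ => K228.GlDim.hasProjectiveDimensionLT_of_regular R hreg d hd M) _ _ ?_ k ?_ ?_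
    · refine ⟨max b k, fun i hi => ?_⟩
      have h1 := K228.Gap.isIso_homology_truncGEπ K (k + 1) i (by
        have := lt_of_le_of_lt (le_max_right b k) hi
        omega)
      have h2 : IsZero ((DerivedCategory.homologyFunctor (ModuleCat.{u} R) i).obj K) :=
        ModuleCat.isZero_of_iff_subsingleton.2 (hb i (lt_of_le_of_lt (le_max_left b k) hi))
      exact ModuleCat.isZero_of_iff_subsingleton.1 (h2.of_iso (@asIso _ _ _ _ _ h1).symm)
    · intro i hi
      exact ModuleCat.isZero_of_iff_subsingleton.1
        (K228.Gap.isZero_homology_truncGE K (k + 1) i (by omega))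
    · intro i hi
      have h1 : (DerivedCategory.TStructure.t : Triangulated.TStructure (Dual.D R)).IsLE
        (((DerivedCategory.TStructure.t : Triangulated.TStructure (Dual.D R)).truncLT
          (k - d + 2)).obj K) (k - d + 2 - 1) := inferInstance
      have h2 := (DerivedCategory.TStructure.t : Triangulated.TStructure (Dual.D R)).isLE_shift
        (((DerivedCategory.TStructure.t : Triangulated.TStructure (Dual.D R)).truncLT
          (k - d + 2)).obj K) (k - d + 2 - 1) 1 (k - d) (by omega)
      exact K228.Basic.subsingleton_of_isLE _ (k - d) h2 i (by omega)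
  obtain ⟨e, he1, he2⟩ := K228.SplitAway.exists_split K (k - d + 2) (k + 1) (by omega)
    (fun j h1 h2 => hgap j h1 (by omega)) h0
  exact ⟨e, he1, he2.symm⟩

end Groth.Agent.S6995
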