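import Groth.Statements.S6996
-- import your own Groth.Agent.* helpers here
import Groth.Agent.LoccohB.RHomVal
import Groth.Agent.LoccohB.HomCxHD
import Groth.Agent.LoccohB.PerfTri

set_option autoImplicit false
universe u
open CategoryTheory CategoryTheory.Limits
attribute [local instance] HasDerivedCategory.standard
open DRing

namespace Groth.Agent.S6996

/-- Let R be a commutative ring, P a bounded above cochain complex of projective R-modules such that
RHom_R(P, -) exists, and L a cochain complex of R-modules. Then RHom_R(P, L) is isomorphic in D(R)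
to the class of the Hom complex Hom(P, L) (existence of an isomorphism only; the canonical one is
the derived-functor comparison map). -/
theorem result (R : Type u) [CommRing R] (P : DRing.Cx R) (b : ℤ)
    (hb : DRing.VanishesAbove P b) (hP : ∀ i : ℤ, Module.Projective R (P.X i)) [DRing.HasRHomCx P]
    (L : DRing.Cx R) :
    Nonempty ((DRing.RHomCx P).obj (DRing.toD L) ≅ DRing.toD (DRing.homCx P L)) := by
  have hK : P.IsKProjective :=
    Groth.Agent.LoccohB.PerfTri.isKProjective_of_vanishesAbove hb hP
  obtain ⟨I, f, -, hf, hI, -⟩ :=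
    Groth.Agent.Cohder.KInjEss2.exists_kInjective_mono_moduleCat R L
  have h1 : QuasiIso (DRing.homCxMap P f) := by
    refine ⟨fun n => (quasiIsoAt_iff_isIso_homologyMap _ n).2 ?_⟩
    refine (ConcreteCategory.isIso_iff_bijective _).2 ?_
    have hc := Groth.Agent.LoccohB.HomCxHD.computes_of_isKProjective (K := P) (L := L)
    have hc' := Groth.Agent.LoccohB.HomCxHD.computes_of_isKProjective (K := P) (L := I)
    have e : (Groth.Agent.LoccohB.HomCxHD.homologyEquiv P I n hc') ∘
        (HomologicalComplex.homologyMap (DRing.homCxMap P f) n).hom =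
        (fun g : (DerivedCategory.Q.obj P ⟶ (DerivedCategory.Q.obj L)⟦n⟧) =>
          g ≫ (DerivedCategory.Q.map f)⟦n⟧') ∘
          (Groth.Agent.LoccohB.HomCxHD.homologyEquiv P L n hc) :=
      funext fun y => Groth.Agent.LoccohB.HomCxHD.homologyEquiv_post f n hc hc' y
    have hb1 : Function.Bijective (fun g : (DerivedCategory.Q.obj P ⟶ (DerivedCategory.Q.obj L)⟦n⟧) =>
          g ≫ (DerivedCategory.Q.map f)⟦n⟧') := by
      have : IsIso ((DerivedCategory.Q.map f)⟦n⟧') := inferInstance
      constructor
      · intro g g' h
        exact (cancel_mono _).1 h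
      · intro g
        exact ⟨g ≫ inv ((DerivedCategory.Q.map f)⟦n⟧'), by simp⟩
    have h2 : Function.Bijective ((Groth.Agent.LoccohB.HomCxHD.homologyEquiv P I n hc') ∘
        (HomologicalComplex.homologyMap (DRing.homCxMap P f) n).hom) := by
      rw [e]
      exact hb1.comp (LinearEquiv.bijective _)
    exact (Function.Bijective.of_comp_iff' (LinearEquiv.bijective _) _).1 h2
  have e1 : DRing.toD L ≅ DRing.toD I := asIso (DerivedCategory.Q.map f)
  have e2 : DRing.toD (DRing.homCx P L) ≅ DRing.toD (DRing.homCx P I) :=
    asIso (DerivedCategory.Q.map (DRing.homCxMap P f))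
  exact ⟨(DRing.RHomCx P).mapIso e1 ≪≫ (Groth.Agent.LoccohB.RHomVal.rhomIso P I).symm ≪≫ e2.symm⟩

end Groth.Agent.S6996
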