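import Groth.Statements.S6999
-- import your own Groth.Agent.* helpers here
import Groth.Agent.DRing.K228.FiltColim

set_option autoImplicit false
universe u
open CategoryTheory CategoryTheory.Limits
attribute [local instance] HasDerivedCategory.standard
open DRing

namespace Groth.Agent.S6999

/-- Let R be a commutative ring, m an integer, K an m-pseudo-coherent object of D(R), and (M_j) a
diagram of R-modules over a small filtered category with colimit cocone M. Then the canonical map
colim_j Hom(K, M_j[n]) → Hom(K, M[n]) in D(R) is bijective for n < -m and injective for n = -m.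
Unfolded: for n < -m every morphism K → M[n] factors through M_j[n] → M[n] for some j; and for n ≤
-m, a morphism K → M_j[n] whose composite with M_j[n] → M[n] is zero already has zero composite with
M_j[n] → M_(j')[n] for some j → j'. -/
theorem result (R : Type u) [CommRing R] (m : ℤ) (K : Dual.D R)
    (hK : DRing.IsPseudoCoherent R m K) {J : Type u} [SmallCategory J] [IsFiltered J]
    (F : J ⥤ ModuleCat.{u} R) (c : Cocone F) (hc : IsColimit c) :
    (∀ n : ℤ, n < -m → ∀ x : K ⟶ (shiftFunctor (Dual.D R) n).obj (Dual.inD R c.pt),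
      ∃ (j : J) (y : K ⟶ (shiftFunctor (Dual.D R) n).obj (Dual.inD R (F.obj j))),
        y ≫ (shiftFunctor (Dual.D R) n).map
          ((DerivedCategory.singleFunctor (ModuleCat.{u} R) 0).map (c.ι.app j)) = x) ∧
    (∀ n : ℤ, n ≤ -m → ∀ (j : J) (y : K ⟶ (shiftFunctor (Dual.D R) n).obj (Dual.inD R (F.obj j))),
      y ≫ (shiftFunctor (Dual.D R) n).map
          ((DerivedCategory.singleFunctor (ModuleCat.{u} R) 0).map (c.ι.app j)) = 0 →
      ∃ (j' : J) (f : j ⟶ j'), y ≫ (shiftFunctor (Dual.D R) n).map
          ((DerivedCategory.singleFunctor (ModuleCat.{u} R) 0).map (F.map f)) = 0) := by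
  let e (n : ℤ) := ((DerivedCategory.singleFunctors (ModuleCat.{u} R)).shiftIso n (-n) 0
    (by omega))
  have he (n : ℤ) {M N : ModuleCat.{u} R} (g : M ⟶ N) :
      (e n).inv.app M ≫ (shiftFunctor (Dual.D R) n).map
        ((DerivedCategory.singleFunctor (ModuleCat.{u} R) 0).map g) =
      (DerivedCategory.singleFunctor (ModuleCat.{u} R) (-n)).map g ≫ (e n).inv.app N :=
    ((e n).inv.naturality g).symm
  have he' (n : ℤ) {M N : ModuleCat.{u} R} (g : M ⟶ N) :
      (e n).hom.app M ≫ (DerivedCategory.singleFunctor (ModuleCat.{u} R) (-n)).map g =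
      (shiftFunctor (Dual.D R) n).map
        ((DerivedCategory.singleFunctor (ModuleCat.{u} R) 0).map g) ≫ (e n).hom.app N :=
    ((e n).hom.naturality g).symm
  constructor
  · intro n hn x
    obtain ⟨j, y, hy⟩ := K228.FiltColim.surj hK F c hc (-n) (by omega)
      (x ≫ (e n).hom.app c.pt)
    refine ⟨j, y ≫ (e n).inv.app (F.obj j), ?_⟩
    rw [Category.assoc, he, ← Category.assoc, hy, Category.assoc]
    have h1 : (e n).hom.app c.pt ≫ (e n).inv.app c.pt = 𝟙 _ := (e n).hom_inv_id_app c.pt
    exact (congrArg (x ≫ ·) h1).trans (Category.comp_id _)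
  · intro n hn j y hy
    obtain ⟨j', f, hf⟩ := K228.FiltColim.inj hK F c hc (-n) (by omega) j
      (y ≫ (e n).hom.app (F.obj j)) (by
        rw [Category.assoc, he', reassoc_of% hy, zero_comp])
    refine ⟨j', f, ?_⟩
    rw [Category.assoc, he', ← Category.assoc] at hf
    exact (cancel_mono ((e n).hom.app (F.obj j'))).1 (hf.trans zero_comp.symm)

end Groth.Agent.S6999
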