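import Groth.Statements.S7000
-- import your own Groth.Agent.* helpers here
import Groth.Agent.DRing.K228.FlatBC

set_option autoImplicit false
universe u
open CategoryTheory CategoryTheory.Limits
attribute [local instance] HasDerivedCategory.standard
open DRing

namespace Groth.Agent.S7000

/-- Let A → B be a flat homomorphism of commutative rings, m an integer and M an A-module. If M is
m-pseudo-coherent then the B-module B ⊗_A M is m-pseudo-coherent; if M is pseudo-coherent then B ⊗_A
M is pseudo-coherent. -/
theorem result {A B : Type u} [CommRing A] [CommRing B] [Algebra A B]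
    [Module.Flat A B] (m : ℤ) (M : Type u) [AddCommGroup M] [Module A M] :
    (DRing.IsPseudoCoherentModule A m M → DRing.IsPseudoCoherentModule B m (TensorProduct A B M)) ∧
      (DRing.IsPseudoCoherentModule' A M → DRing.IsPseudoCoherentModule' B (TensorProduct A B M)) := by
  have h : (algebraMap A B).Flat := RingHom.flat_algebraMap_iff.2 inferInstance
  exact ⟨fun hM => Groth.Agent.PerfB.DescRing.pc_of_iso (K228.FlatBC.flatBCinD h M)
      (K228.FlatBC.pc_flatBC _ h hM),
    fun hM => Groth.Agent.LoccohB.PerfTri.isPseudoCoherent'_of_iso (K228.FlatBC.flatBCinD h M)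
      (K228.FlatBC.pc'_flatBC _ h hM)⟩

end Groth.Agent.S7000
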