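import Groth.Statements.S7002
-- import your own Groth.Agent.* helpers here
import Groth.Agent.DRing.K228.SplitAway

set_option autoImplicit false
universe u
open CategoryTheory CategoryTheory.Limits
attribute [local instance] HasDerivedCategory.standard
open DRing

namespace Groth.Agent.S7002

/-- Let R be a commutative ring, p a prime ideal of R with residue field κ(p), such that the derived
base change D(R) → D(κ(p)) exists; let i be an integer and K a cochain complex of R-modules which is
pseudo-coherent in D(R) and satisfies H^i(K ⊗^L_R κ(p)) = 0. Then there is an element f ∈ R with f ∉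
p such that, for the termwise localization K_f of K over R_f, the truncation τ_(≥ i+1) K_f is
perfect in D(R_f), its tor amplitude lying in [i+1, b] for some integer b, and K_f ≅ τ_(≥ i+1) K_f ⊕
τ_(≤ i-1) K_f in D(R_f) by an isomorphism carrying K_f → τ_(≥ i+1) K_f to the first projection and
τ_(≤ i-1) K_f → K_f to the second inclusion. -/
theorem result (R : Type u) [CommRing R]
    (p : Ideal R) [p.IsPrime] [DRing.HasLBaseChange (algebraMap R p.ResidueField)] (i : ℤ) (K : DRing.Cx R)
    (hK : DRing.IsPseudoCoherent' R (DRing.toD K))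
    (hi : Subsingleton (Dual.HD p.ResidueField ((DRing.LBaseChange (algebraMap R p.ResidueField)).obj (DRing.toD K)) i)) :
    ∃ f : R, f ∉ p ∧
      let Kf := DRing.toD (((ModuleCat.extendScalars (algebraMap R (Localization.Away f))).mapHomologicalComplex
        (ComplexShape.up ℤ)).obj K)
      let t := (DerivedCategory.TStructure.t : Triangulated.TStructure (Dual.D (Localization.Away f)))
      let Kge := (t.truncGE (i + 1)).obj Kf
      let Klt := (t.truncLT i).obj Kf
      DRing.IsPerfect (Localization.Away f) Kge ∧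
        (∃ b : ℤ, DRing.HasTorAmplitudeIn (Localization.Away f) (i + 1) b Kge) ∧
        ∀ [HasBinaryBiproduct Kge Klt], ∃ e : Kf ≅ Kge ⊞ Klt,
          e.hom ≫ biprod.fst = (t.truncGEπ (i + 1)).app Kf ∧ (t.truncLTι i).app Kf ≫ e.hom = biprod.inr := by
  obtain ⟨E, c, hEc, hE, ⟨e⟩⟩ := hK
  have hE' := K228.FibreSplit.termwiseFiniteProjective_of_free E hE
  have hKP := Groth.Agent.PerfC.RingPerf.isKProjective hEc fun i => (hE' i).2
  obtain ⟨s, r, hs, hr⟩ := K228.FibreSplit.exists_retraction_of_exactAt E
    (algebraMap R p.ResidueField) (Field.toIsField _) hE' i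
    (K228.FibreSplit.exactAt_ext E _ e i hi)
  refine ⟨s, fun hmem => hs (Ideal.algebraMap_residueField_eq_zero.2 hmem), ?_⟩
  intro Kf t Kge Klt
  have hflat : (algebraMap R (Localization.Away s)).Flat :=
    RingHom.flat_algebraMap_iff.2 (IsLocalization.flat _ (Submonoid.powers s))
  obtain ⟨r', hr'⟩ := K228.SplitAway.exists_retraction_ext (S := Localization.Away s) E hE' i s
    (IsLocalization.Away.algebraMap_isUnit s) r hr
  let F := (K228.FlatBC.ext (algebraMap R (Localization.Away s))).obj E
  have hF : DRing.TermwiseFiniteProjective F := fun j => by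
    obtain ⟨h1, h2⟩ := Groth.Agent.PerfB.DescRing.finiteFree_ext
      (algebraMap R (Localization.Away s)) _ (hE j)
    exact ⟨h1, @Module.Projective.of_free _ _ _ _ _ h2⟩
  have hFc : DRing.VanishesAbove F c := fun j hj =>
    Functor.map_isZero (ModuleCat.extendScalars.{u, u, u} _) (hEc j hj)
  let eF : DRing.toD F ≅ Kf := (K228.FlatBC.flatBCQ _ hflat E).symm ≪≫
    (Groth.Agent.LoccohB.FlatLBC.flatBC _ hflat).mapIso e ≪≫ K228.FlatBC.flatBCQ _ hflat K
  obtain ⟨G, hG1, hG2, hG3⟩ := K228.SplitAway.truncGE_of_retraction F i c hF hFc r' hr' Kf eF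
  have hpt := K228.FibreSplit.isPerfect_and_torAmp ⟨G, hG1, hG2, hG3⟩
  refine ⟨hpt.1, ⟨c, hpt.2⟩, ?_⟩
  intro hbp
  have hgap : ∀ j, i ≤ j → j < i + 1 → Subsingleton (Dual.HD (Localization.Away s) Kf j) := by
    intro j h1 h2
    obtain rfl : j = i := by omega
    exact K228.TorPerf.hd_of_exactAt F eF j (K228.FibreSplit.exactAt_of_retraction hr')
  have h0 : Subsingleton (Kge ⟶ Klt⟦(1 : ℤ)⟧) := by
    refine K228.Basic.subsingleton_hom (i + 1) c Kge ⟨G, hG1, fun j => (hG2 j).2, hG3⟩ _
      fun j hj => ?_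
    have h1 : t.IsLE Klt (i - 1) := inferInstance
    have h2 : t.IsLE (Klt⟦(1 : ℤ)⟧) (i - 2) := t.isLE_shift Klt (i - 1) 1 (i - 2) (by omega)
    exact K228.Basic.subsingleton_of_isLE _ (i - 2) h2 j (by omega)
  obtain ⟨e0, he1, he2⟩ := K228.SplitAway.exists_split Kf i (i + 1) (by omega) hgap h0
  refine ⟨e0 ≪≫ biprod.braiding _ _, ?_, ?_⟩
  · rw [Iso.trans_hom, Category.assoc]
    refine Eq.trans ?_ he2.symm
    congr 1
    exact biprod.lift_fst _ _
  · rw [Iso.trans_hom, ← Category.assoc]
    refine (congrArg (· ≫ (biprod.braiding _ _).hom) he1).trans ?_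
    refine biprod.hom_ext _ _ ?_ ?_
    · rw [Category.assoc]
      refine (congrArg (biprod.inl ≫ ·) (biprod.lift_fst _ _)).trans ?_
      rw [biprod.inl_snd, biprod.inr_fst]
    · rw [Category.assoc]
      refine (congrArg (biprod.inl ≫ ·) (biprod.lift_snd _ _)).trans ?_
      rw [biprod.inl_fst, biprod.inr_snd]

end Groth.Agent.S7002
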