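import Groth.Statements.S7008
import Groth.Agent.DerCA.K365.Loc2

set_option autoImplicit false
universe u
open CategoryTheory CategoryTheory.Limits
attribute [local instance] HasDerivedCategory.standard
open DerCA

namespace Groth.Agent.S7008

/-- Let R be a commutative ring, f an element of R, A a finite type R_f-algebra, g an element of A, K a
cochain complex of A-modules and m an integer; write K_g for the termwise localization K ⊗_A A_g, a
complex over the finite type R-algebra A_g. Suppose K is m-pseudo-coherent relative to R_f; then K_g
is m-pseudo-coherent relative to R. Suppose K is pseudo-coherent relative to R_f in every degree;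
then so is K_g relative to R. -/
theorem result {R A : Type u} [CommRing R] [CommRing A] (f : R) [Algebra R A]
    [Algebra (Localization.Away f) A] [IsScalarTower R (Localization.Away f) A]
    [Algebra.FiniteType (Localization.Away f) A] (g : A) (K : DRing.Cx A) (m : ℤ) :
    (DerCA.IsRelPseudoCoherent (Localization.Away f) A m (DRing.toD K) →
      DerCA.IsRelPseudoCoherent R (Localization.Away g) m
        (DRing.toD (((ModuleCat.extendScalars (algebraMap A (Localization.Away g))).mapHomologicalComplex
          (ComplexShape.up ℤ)).obj K))) ∧
      (DerCA.IsRelPseudoCoherentAll (Localization.Away f) A (DRing.toD K) →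
        DerCA.IsRelPseudoCoherentAll R (Localization.Away g)
          (DRing.toD (((ModuleCat.extendScalars (algebraMap A (Localization.Away g))).mapHomologicalComplex
            (ComplexShape.up ℤ)).obj K))) := by
  have key : ∀ m : ℤ, DerCA.IsRelPseudoCoherent (Localization.Away f) A m (DRing.toD K) →
      DerCA.IsRelPseudoCoherent R (Localization.Away g) m
        (DRing.toD (((ModuleCat.extendScalars (algebraMap A (Localization.Away g))).mapHomologicalComplex
          (ComplexShape.up ℤ)).obj K)) := by
    intro m h
    have h1 := K365.Loc.rel_of_iso (K365.Loc.flatBCQ _ (K365.Loc.flat_away g) K)
      (K365.Loc.rel_away g _ m h)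
    have : Module.Flat R (Localization.Away f) := IsLocalization.flat _ (Submonoid.powers f)
    have : Algebra.FiniteType (Localization.Away f) (Localization.Away g) :=
      Algebra.FiniteType.trans (inferInstance : Algebra.FiniteType (Localization.Away f) A)
        (inferInstance : Algebra.FiniteType A (Localization.Away g))
    have : IsScalarTower R (Localization.Away f) (Localization.Away g) := by
      refine IsScalarTower.of_algebraMap_eq fun x => ?_
      rw [IsScalarTower.algebraMap_apply R A (Localization.Away g),
        IsScalarTower.algebraMap_apply R (Localization.Away f) A,
        ← IsScalarTower.algebraMap_apply (Localization.Away f) A (Localization.Away g)]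
    exact (K365.Flat.rel_iff_of_tower (K365.Loc.relModuleAll_of_flat R (Localization.Away f)) _ m).1 h1
  exact ⟨key m, fun h k => key k (h k)⟩

end Groth.Agent.S7008
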