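import Groth.Statements.S7017
import Groth.Agent.LoccohB.PerfTri

set_option autoImplicit false
universe u
open CategoryTheory CategoryTheory.Limits
attribute [local instance] HasDerivedCategory.standard
open DRing

namespace Groth.Agent.S7017

open CategoryTheory.Pretriangulated in
/-- Let R be a commutative ring and K → L → M → K[1] a distinguished triangle in D(R). Whenever two of
K, L, M are pseudo-coherent (isomorphic in D(R) to bounded above complexes of finite free modules),
the remaining one is as well. -/
theorem result (R : Type u) [CommRing R] (T : Triangle (Dual.D R))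
    (hT : T ∈ distinguishedTriangles) :
    (DRing.IsPseudoCoherent' R T.obj₁ → DRing.IsPseudoCoherent' R T.obj₂ → DRing.IsPseudoCoherent' R T.obj₃) ∧
      (DRing.IsPseudoCoherent' R T.obj₁ → DRing.IsPseudoCoherent' R T.obj₃ → DRing.IsPseudoCoherent' R T.obj₂) ∧
      (DRing.IsPseudoCoherent' R T.obj₂ → DRing.IsPseudoCoherent' R T.obj₃ → DRing.IsPseudoCoherent' R T.obj₁) := by
  exact ⟨fun h1 h2 => Groth.Agent.LoccohB.PerfTri.isPseudoCoherent'_obj₃ hT h1 h2,
    fun h1 h3 => Groth.Agent.LoccohB.PerfTri.isPseudoCoherent'_obj₂ hT h1 h3,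
    fun h2 h3 => Groth.Agent.LoccohB.PerfTri.isPseudoCoherent'_obj₁ hT h2 h3⟩

end Groth.Agent.S7017
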