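import Groth.Statements.S7021
import Groth.Agent.DerCA.K365.Rel
import Groth.Agent.DerCA.K365.Dev

set_option autoImplicit false
universe u
open CategoryTheory CategoryTheory.Limits
attribute [local instance] HasDerivedCategory.standard
open DerCA

namespace Groth.Agent.S7021

/-- Let R → A be a finite type homomorphism of commutative rings, α : R[x_1, ..., x_n] → A a surjective
R-algebra homomorphism and M an A-module. Then relative 0-pseudo-coherence of M over R amounts to M
being a finitely generated A-module, and relative (-1)-pseudo-coherence of M over R amounts to M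
being finitely presented as an R[x_1, ..., x_n]-module through α. -/
theorem result {R A : Type u} [CommRing R] [CommRing A]
    [Algebra R A] [Algebra.FiniteType R A] {n : ℕ} (α : MvPolynomial (Fin n) R →ₐ[R] A)
    (hα : Function.Surjective α) (M : Type u) [AddCommGroup M] [Module A M] :
    (DerCA.IsRelPseudoCoherentModule R A 0 M ↔ Module.Finite A M) ∧
      (DerCA.IsRelPseudoCoherentModule R A (-1) M ↔
        @Module.FinitePresentation (MvPolynomial (Fin n) R) M _ _ (Module.compHom M α.toRingHom)) := by
  have key : ∀ m : ℤ, DerCA.IsRelPseudoCoherentModule R A m M ↔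
      DRing.IsPseudoCoherent (MvPolynomial (Fin n) R) m
        ((DerivedCategory.singleFunctor (ModuleCat.{u} (MvPolynomial (Fin n) R)) 0).obj
          ((ModuleCat.restrictScalars.{u} (α : MvPolynomial (Fin n) R →+* A)).obj (ModuleCat.of A M))) := by
    intro m
    refine (K365.Rel.rel_iff_of_surjective α hα _ m).trans ?_
    exact ⟨fun h => Groth.Agent.PerfB.DescRing.pc_of_iso (Groth.Agent.LoccohB.RAdjFin.restrictDSingle _ 0 _) h,
      fun h => Groth.Agent.PerfB.DescRing.pc_of_iso (Groth.Agent.LoccohB.RAdjFin.restrictDSingle _ 0 _).symm h⟩
  constructor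
  · rw [key, K365.Dev.pcModule_zero_iff]
    let _ : Module (MvPolynomial (Fin n) R) M := Module.compHom M α.toRingHom
    let _ : Algebra (MvPolynomial (Fin n) R) A := α.toRingHom.toAlgebra
    have : IsScalarTower (MvPolynomial (Fin n) R) A M := ⟨fun x y z => by
      rw [Algebra.smul_def, mul_smul]; rfl⟩
    change Module.Finite (MvPolynomial (Fin n) R) M ↔ _
    refine ⟨fun h => Module.Finite.of_restrictScalars_finite (MvPolynomial (Fin n) R) A M, fun h => ?_⟩
    have : Module.Finite (MvPolynomial (Fin n) R) A :=
      RingHom.Finite.of_surjective (α : MvPolynomial (Fin n) R →+* A) hα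
    exact Module.Finite.trans A M
  · rw [key, K365.Dev.pcModule_neg_one_iff]
    exact Iff.rfl

end Groth.Agent.S7021
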