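import Groth.Statements.S7022
import Groth.Agent.DerCA.K365.Rel
import Groth.Agent.DerCA.K365.Dev
import Groth.Agent.DerCA.K365.Biprod

set_option autoImplicit false
universe u
open CategoryTheory CategoryTheory.Limits
attribute [local instance] HasDerivedCategory.standard
open DerCA

namespace Groth.Agent.S7022

/-- Let R → A be a finite type homomorphism of commutative rings, m an integer and K, L objects of the
derived category D(A). Whenever the direct sum K ⊕ L is pseudo-coherent relative to R in degree m,
both summands K and L are too; likewise, relative pseudo-coherence of K ⊕ L (in every degree) passes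
to K and to L. -/
theorem result {R A : Type u} [CommRing R] [CommRing A] [Algebra R A] [Algebra.FiniteType R A] (m : ℤ) (K L : Dual.D A) [HasBinaryBiproduct K L] :
    (DerCA.IsRelPseudoCoherent R A m (K ⊞ L) → DerCA.IsRelPseudoCoherent R A m K ∧ DerCA.IsRelPseudoCoherent R A m L) ∧
      (DerCA.IsRelPseudoCoherentAll R A (K ⊞ L) →
        DerCA.IsRelPseudoCoherentAll R A K ∧ DerCA.IsRelPseudoCoherentAll R A L) := by
  have key : ∀ m : ℤ, DerCA.IsRelPseudoCoherent R A m (K ⊞ L) →
      DerCA.IsRelPseudoCoherent R A m K ∧ DerCA.IsRelPseudoCoherent R A m L := by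
    rintro m ⟨n, α, hα, h⟩
    have e : (DRing.restrictD (α : MvPolynomial (Fin n) R →+* A)).obj (K ⊞ L) ≅
        (DRing.restrictD (α : MvPolynomial (Fin n) R →+* A)).obj K ⊞
          (DRing.restrictD (α : MvPolynomial (Fin n) R →+* A)).obj L :=
      K365.Biprod.mapIso _ K L
    obtain ⟨h1, h2⟩ := K365.Dev.pc_of_biprod (Groth.Agent.PerfB.DescRing.pc_of_iso e h)
    exact ⟨⟨n, α, hα, h1⟩, ⟨n, α, hα, h2⟩⟩
  exact ⟨key m, fun h => ⟨fun k => (key k (h k)).1, fun k => (key k (h k)).2⟩⟩

end Groth.Agent.S7022
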