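import Groth.Statements.S7026
import Groth.Agent.DerCA.K365.Rel
import Groth.Agent.DerCA.K365.Dev

set_option autoImplicit false
universe u
open CategoryTheory CategoryTheory.Limits
attribute [local instance] HasDerivedCategory.standard
open DerCA

namespace Groth.Agent.S7026

/-- Let R be a Noetherian commutative ring, R → A a finite type ring homomorphism, m an integer, K an
object of D(A) and M an A-module. Then: m-pseudo-coherence of K relative to R is equivalent to
H^i(K) vanishing for all large i together with H^i(K) being a finitely generated A-module for each i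
≥ m; pseudo-coherence of K relative to R (every degree) is equivalent to the same with H^i(K)
finitely generated for every i; and the A-module M is pseudo-coherent relative to R exactly when M
is finitely generated. -/
theorem result {R A : Type u} [CommRing R]
    [IsNoetherianRing R] [CommRing A] [Algebra R A] [Algebra.FiniteType R A] (m : ℤ) (K : Dual.D A)
    (M : Type u) [AddCommGroup M] [Module A M] :
    (DerCA.IsRelPseudoCoherent R A m K ↔
      (∃ b : ℤ, ∀ i : ℤ, b < i → Subsingleton (Dual.HD A K i)) ∧ ∀ i : ℤ, m ≤ i → Module.Finite A (Dual.HD A K i)) ∧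
    (DerCA.IsRelPseudoCoherentAll R A K ↔
      (∃ b : ℤ, ∀ i : ℤ, b < i → Subsingleton (Dual.HD A K i)) ∧ ∀ i : ℤ, Module.Finite A (Dual.HD A K i)) ∧
    (DerCA.IsRelPseudoCoherentModuleAll R A M ↔ Module.Finite A M) := by
  obtain ⟨n, α, hα⟩ := Algebra.FiniteType.iff_quotient_mvPolynomial''.1 (inferInstance : Algebra.FiniteType R A)
  have hfin : ∀ (M : ModuleCat.{u} A),
      Module.Finite (MvPolynomial (Fin n) R) ((ModuleCat.restrictScalars.{u} (α : MvPolynomial (Fin n) R →+* A)).obj M) ↔
        Module.Finite A M := by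
    intro M
    let _ : Module (MvPolynomial (Fin n) R) M := Module.compHom M α.toRingHom
    let _ : Algebra (MvPolynomial (Fin n) R) A := α.toRingHom.toAlgebra
    have : IsScalarTower (MvPolynomial (Fin n) R) A M := ⟨fun x y z => by
      rw [Algebra.smul_def, mul_smul]; rfl⟩
    change Module.Finite (MvPolynomial (Fin n) R) M ↔ _
    refine ⟨fun h => Module.Finite.of_restrictScalars_finite (MvPolynomial (Fin n) R) A M, fun h => ?_⟩
    have : Module.Finite (MvPolynomial (Fin n) R) A :=
      RingHom.Finite.of_surjective (α : MvPolynomial (Fin n) R →+* A) hα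
    exact Module.Finite.trans A M
  have hiso : ∀ {S : Type u} [CommRing S] {M N : ModuleCat.{u} S} (_ : M ≅ N),
      Module.Finite S M ↔ Module.Finite S N := fun e =>
    ⟨fun h => Groth.Agent.LoccohB.ConeRes.finite_of_iso e h, fun h => Groth.Agent.LoccohB.ConeRes.finite_of_iso e.symm h⟩
  have hle : ∀ (K : Dual.D A) (b : ℤ), K.IsLE b ↔ ∀ i : ℤ, b < i → Subsingleton (Dual.HD A K i) := by
    intro K b
    rw [DerivedCategory.isLE_iff]
    refine forall_congr' fun i => forall_congr' fun _ => ⟨fun h => ModuleCat.subsingleton_of_isZero h, fun h => ?_⟩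
    exact ModuleCat.isZero_of_subsingleton _
  have key : ∀ (m : ℤ) (K : Dual.D A), DerCA.IsRelPseudoCoherent R A m K ↔
      (∃ b : ℤ, ∀ i : ℤ, b < i → Subsingleton (Dual.HD A K i)) ∧
        ∀ i : ℤ, m ≤ i → Module.Finite A (Dual.HD A K i) := by
    intro m K
    rw [K365.Rel.rel_iff_of_surjective α hα]
    refine (K365.Dev.pc_iff_of_noetherian _ m).trans (and_congr (exists_congr fun b => ?_)
      (forall_congr' fun i => forall_congr' fun _ => ?_))
    · rw [Groth.Agent.LoccohB.PCChange.isLE_restrictD_iff, hle]
    · rw [hiso (Groth.Agent.LoccohB.PCChange.hRes _ K i), hfin]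
  refine ⟨key m K, ?_, ?_⟩
  · constructor
    · intro h
      exact ⟨((key 0 K).1 (h 0)).1, fun i => ((key i K).1 (h i)).2 i le_rfl⟩
    · intro h k
      exact (key k K).2 ⟨h.1, fun i _ => h.2 i⟩
  · have h0 : ∀ j : ℤ, j ≠ 0 →
        IsZero ((DerivedCategory.homologyFunctor (ModuleCat.{u} A) j).obj (Dual.inD A M)) := by
      intro j hj
      rcases lt_or_gt_of_ne hj with hj | hj
      · exact DerivedCategory.isZero_of_isGE _ 0 j hj
      · exact DerivedCategory.isZero_of_isLE _ 0 j hj
    have e := (DerivedCategory.singleFunctorCompHomologyFunctorIso (ModuleCat.{u} A) 0).app (ModuleCat.of A M)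
    constructor
    · intro h
      exact (hiso e).1 (((key 0 _).1 (h 0)).2 0 le_rfl)
    · intro h k
      refine (key k _).2 ⟨⟨0, fun i hi => ModuleCat.subsingleton_of_isZero (h0 i hi.ne')⟩, fun i _ => ?_⟩
      by_cases hi : i = 0
      · subst hi
        exact (hiso e).2 h
      · exact Groth.Agent.LoccohB.ConeRes.finite_of_isZero (h0 i hi)

end Groth.Agent.S7026
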