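import Groth.Statements.S7031
import Groth.Agent.DRing.K229.RegPerf
import Groth.Agent.S6942
import Groth.Agent.PerfC.RingPerf

set_option autoImplicit false
universe u
open CategoryTheory CategoryTheory.Limits
attribute [local instance] HasDerivedCategory.standard
open DRing

namespace Groth.Agent.S7031

/-- Let R be a regular commutative ring (Noetherian, with regular local rings at all primes) such that
the derived tensor product - ⊗^L_R M exists on D(R) for every R-module M, and let K be an object of
D(R). Then K is perfect if and only if H^i(K) = 0 outside a bounded range of degrees and every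
H^i(K) is a finitely generated R-module. -/
theorem result (R : Type u) [CommRing R] [IsNoetherianRing R]
    (hreg : ∀ p : PrimeSpectrum R, IsRegularLocalRing (Localization.AtPrime p.asIdeal)) [∀ M : ModuleCat.{u} R, DRing.HasLTensor R M] (K : Dual.D R) :
    DRing.IsPerfect R K ↔
      (∃ a b : ℤ, ∀ i : ℤ, (i < a ∨ b < i) → Subsingleton (Dual.HD R K i)) ∧ ∀ i : ℤ, Module.Finite R (Dual.HD R K i) := by
  constructor
  · intro h
    refine ⟨?_, fun i => ?_⟩
    · obtain ⟨E, a, b, h1, -, ⟨e⟩⟩ := h
      refine ⟨a, b, fun i hi => ?_⟩
      have h3 : IsZero (E.homology i) := by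
        rw [← HomologicalComplex.exactAt_iff_isZero_homology]
        exact HomologicalComplex.ExactAt.of_isZero (h1 i hi)
      exact ModuleCat.subsingleton_of_isZero (h3.of_iso
        ((DerivedCategory.homologyFunctor (ModuleCat.{u} R) i).mapIso e.symm ≪≫
          (DerivedCategory.homologyFunctorFactors (ModuleCat.{u} R) i).app E))
    · exact ((Groth.Agent.S6942.result R i K PUnit.{u + 1}).1.1
        (Groth.Agent.PerfC.RingPerf.pc_of_isPerfect h i)).2 i le_rfl
  · rintro ⟨hb, hf⟩
    refine K229.PerfInd.isPerfect_of_homology K hb fun i => ?_
    have := hf i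
    exact K229.RegPerf.isPerfectModule_of_finite hreg _

end Groth.Agent.S7031
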