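import Groth.Statements.S7039

set_option autoImplicit false
universe u
open LocCoh

namespace Groth.Agent.S7039

/-- For a finitely generated ideal I of a commutative ring R and any R-module M, the quotient of M by
its submodule of I-power torsion elements has no nonzero element annihilated by I. -/
theorem result {R : Type u} [CommRing R] (I : Ideal R) (hI : I.FG)
    (M : Type u) [AddCommGroup M] [Module R M] :
    LocCoh.torsionBy I (M ⧸ DRing.torsionSub I M) = ⊥ := by
  rw [eq_bot_iff]
  intro y hy
  obtain ⟨x, rfl⟩ := Submodule.Quotient.mk_surjective _ y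
  rw [Submodule.mem_torsionBySet_iff] at hy
  rw [Submodule.mem_bot, Submodule.Quotient.mk_eq_zero]
  -- the ideal of elements `a` with `a • x` power torsion contains `I`
  obtain ⟨s, hs⟩ := hI
  have h1 : ∀ a ∈ s, ∃ n : ℕ, ∀ b ∈ I ^ n, b • a • x = 0 := by
    intro a ha
    have haI : a ∈ I := hs ▸ Ideal.subset_span ha
    have := hy ⟨a, haI⟩
    rw [← Submodule.Quotient.mk_smul, Submodule.Quotient.mk_eq_zero] at this
    exact this
  choose! n hn using h1
  refine ⟨(∑ a ∈ s, n a) + 1, ?_⟩
  have h2 : ∀ b ∈ I ^ (∑ a ∈ s, n a), ∀ a ∈ I, (b * a) • x = 0 := by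
    intro b hb a ha
    rw [← hs] at ha
    induction ha using Submodule.span_induction with
    | mem a ha =>
      rw [mul_smul]
      exact hn a ha b (Ideal.pow_le_pow_right (Finset.single_le_sum (fun _ _ => Nat.zero_le _) ha) hb)
    | zero => rw [mul_zero, zero_smul]
    | add a a' _ _ h h' => rw [mul_add, add_smul, h, h', add_zero]
    | smul c a _ h => rw [smul_eq_mul, mul_left_comm, mul_smul, h, smul_zero]
  intro a ha
  rw [pow_succ] at ha
  refine Submodule.mul_induction_on ha (fun b hb c hc => h2 b hb c hc) ?_
  intro a a' h h'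
  rw [add_smul, h, h', add_zero]

end Groth.Agent.S7039
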