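import Groth.Statements.S7040
import Mathlib.Algebra.Homology.ShortComplex.ModuleCat

set_option autoImplicit false
universe u
open CategoryTheory
open LocCoh

namespace Groth.Agent.S7040

open CategoryTheory.Limits

/-- Power torsion passes to extensions (the ideal may be arbitrary). -/
lemma powerTorsion_of_exact {R : Type u} [CommRing R] (I : Ideal R) (hI : I.FG)
    {M N P : Type u} [AddCommGroup M] [Module R M] [AddCommGroup N] [Module R N]
    [AddCommGroup P] [Module R P] (f : M →ₗ[R] N) (g : N →ₗ[R] P) (hf : Function.Exact f g)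
    (hM : LocCoh.IsPowerTorsion I M) (hP : LocCoh.IsPowerTorsion I P) :
    LocCoh.IsPowerTorsion I N := by
  intro x
  obtain ⟨n, hn⟩ := hP (g x)
  -- each `a • x`, `a ∈ I ^ n`, comes from `M`
  have hfg : (I ^ n).FG := hI.pow
  obtain ⟨s, hs⟩ := hfg
  have h1 : ∀ a ∈ s, ∃ m : ℕ, ∀ b ∈ I ^ m, b • a • x = 0 := by
    intro a ha
    have haI : a ∈ I ^ n := hs ▸ Ideal.subset_span ha
    have h2 : g (a • x) = 0 := by rw [map_smul, hn a haI]
    obtain ⟨y, hy⟩ := (hf _).mp h2
    obtain ⟨m, hm⟩ := hM y
    exact ⟨m, fun b hb => by rw [← hy, ← map_smul, hm b hb, map_zero]⟩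
  choose! m hm using h1
  refine ⟨(∑ a ∈ s, m a) + n, ?_⟩
  have h2 : ∀ b ∈ I ^ (∑ a ∈ s, m a), ∀ a ∈ I ^ n, (b * a) • x = 0 := by
    intro b hb a ha
    rw [← hs] at ha
    induction ha using Submodule.span_induction with
    | mem a ha =>
      rw [mul_smul]
      exact hm a ha b (Ideal.pow_le_pow_right (Finset.single_le_sum (fun _ _ => Nat.zero_le _) ha) hb)
    | zero => rw [mul_zero, zero_smul]
    | add a a' _ _ h h' => rw [mul_add, add_smul, h, h', add_zero]
    | smul c a _ h => rw [smul_eq_mul, mul_left_comm, mul_smul, h, smul_zero]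
  intro a ha
  rw [pow_add] at ha
  refine Submodule.mul_induction_on ha (fun b hb c hc => h2 b hb c hc) ?_
  intro a a' h h'
  rw [add_smul, h, h', add_zero]


/-- For a finitely generated ideal I of a commutative ring R, the property of being an I-power torsion
module (every element killed by a power of I) is a Serre class in the category of R-modules: it
holds for 0 and is closed under subobjects, quotients and extensions. -/
theorem result {R : Type u} [CommRing R] (I : Ideal R) (hI : I.FG) :
    ObjectProperty.IsSerreClass (C := ModuleCat.{u} R) (fun M => LocCoh.IsPowerTorsion I M) := by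
  exact
    { exists_zero := ⟨ModuleCat.of R PUnit, ModuleCat.isZero_of_subsingleton _,
        fun m => ⟨0, fun a _ => Subsingleton.elim _ _⟩⟩
      prop_of_mono := by
        intro X Y f _ hY x
        obtain ⟨n, hn⟩ := hY (f.hom x)
        refine ⟨n, fun a ha => (ModuleCat.mono_iff_injective f).mp inferInstance ?_⟩
        rw [map_smul, map_zero]
        exact hn a ha
      prop_of_epi := by
        intro X Y f _ hX y
        obtain ⟨x, rfl⟩ := (ModuleCat.epi_iff_surjective f).mp inferInstance y
        obtain ⟨n, hn⟩ := hX x
        refine ⟨n, fun a ha => ?_⟩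
        rw [← map_smul, hn a ha, map_zero]
      prop_X₂_of_shortExact := by
        intro S hS h1 h3
        exact powerTorsion_of_exact I hI S.f.hom S.g.hom
          ((ShortComplex.ShortExact.moduleCat_exact_iff_function_exact S).mp hS.exact) h1 h3 }

end Groth.Agent.S7040
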