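import Groth.Statements.S7041
import Mathlib.RingTheory.TensorProduct.Finite

set_option autoImplicit false
universe u
open TensorProduct
open LocCoh

namespace Groth.Agent.S7041

theorem exists_rep {R R' : Type u} [CommRing R] [CommRing R'] [Algebra R R'] (I : Ideal R)
    (hq : ∀ n : ℕ, 0 < n → Function.Bijective
      (Ideal.quotientMap (Ideal.map (algebraMap R R') (I ^ n)) (algebraMap R R') Ideal.le_comap_map))
    (n : ℕ) (r' : R') : ∃ r : R, r' - algebraMap R R' r ∈ Ideal.map (algebraMap R R') (I ^ n) := by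
  rcases Nat.eq_zero_or_pos n with rfl | hn
  · exact ⟨0, by rw [pow_zero, Ideal.one_eq_top, Ideal.map_top]; trivial⟩
  · obtain ⟨x, hx⟩ := (hq n hn).2 (Ideal.Quotient.mk _ r')
    obtain ⟨r, rfl⟩ := Ideal.Quotient.mk_surjective x
    refine ⟨r, ?_⟩
    rw [Ideal.quotientMap_mk] at hx
    exact Ideal.Quotient.eq.1 hx.symm

theorem smul_eq_of_rep {R R' : Type u} [CommRing R] [CommRing R'] [Algebra R R'] (I : Ideal R)
    (hq : ∀ n : ℕ, 0 < n → Function.Bijective
      (Ideal.quotientMap (Ideal.map (algebraMap R R') (I ^ n)) (algebraMap R R') Ideal.le_comap_map))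
    {M : Type u} [AddCommGroup M] [Module R M] {r' : R'} {m : M} {n k : ℕ} {r s : R}
    (hr : r' - algebraMap R R' r ∈ Ideal.map (algebraMap R R') (I ^ n))
    (hs : r' - algebraMap R R' s ∈ Ideal.map (algebraMap R R') (I ^ k))
    (hn : ∀ a ∈ I ^ n, a • m = 0) (hk : ∀ a ∈ I ^ k, a • m = 0) : r • m = s • m := by
  wlog h : n ≤ k generalizing n k r s
  · exact (this hs hr hk hn (by omega)).symm
  rcases Nat.eq_zero_or_pos n with rfl | h0
  · have hm : m = 0 := by simpa using hn 1 (by simp)
    rw [hm, smul_zero, smul_zero]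
  have h1 : algebraMap R R' (r - s) ∈ Ideal.map (algebraMap R R') (I ^ n) := by
    have h2 := Ideal.sub_mem _ (Ideal.map_mono (f := algebraMap R R') (Ideal.pow_le_pow_right h) hs) hr
    rw [map_sub]
    convert h2 using 1
    ring
  have h2 : Ideal.quotientMap (Ideal.map (algebraMap R R') (I ^ n)) (algebraMap R R')
      Ideal.le_comap_map (Ideal.Quotient.mk _ (r - s)) = 0 := by
    rw [Ideal.quotientMap_mk]
    exact Ideal.Quotient.eq_zero_iff_mem.2 h1
  have h3 := (hq n h0).1 (h2.trans (map_zero _).symm)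
  rw [← sub_eq_zero, ← sub_smul]
  exact hn _ (Ideal.Quotient.eq_zero_iff_mem.1 h3)

/-- Let R → R' be a homomorphism of commutative rings and I an ideal of R such that the induced map
R/I^n → R'/I^n R' is bijective for every n > 0. Then for every R-module M in which every element is
killed by a power of I, the map M → R' ⊗_R M sending m to 1 ⊗ m is bijective. -/
theorem result {R R' : Type u} [CommRing R] [CommRing R'] [Algebra R R']
    (I : Ideal R)
    (hq : ∀ n : ℕ, 0 < n → Function.Bijective
      (Ideal.quotientMap (Ideal.map (algebraMap R R') (I ^ n)) (algebraMap R R') Ideal.le_comap_map))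
    (M : Type u) [AddCommGroup M] [Module R M] (hM : LocCoh.IsPowerTorsion I M) :
    Function.Bijective (fun m : M => (1 : R') ⊗ₜ[R] m) := by
  choose N hN using hM
  -- the inverse map
  have key : ∀ (r' : R') (m : M), ∃ y : M, ∀ (n : ℕ) (r : R),
      r' - algebraMap R R' r ∈ Ideal.map (algebraMap R R') (I ^ n) → (∀ a ∈ I ^ n, a • m = 0) →
      r • m = y := by
    intro r' m
    obtain ⟨s, hs⟩ := exists_rep I hq (N m) r'
    exact ⟨s • m, fun n r hr hn => smul_eq_of_rep I hq hr hs hn (hN m)⟩
  choose g hg using key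
  let G : R' →ₗ[R] M →ₗ[R] M := LinearMap.mk₂ R g
    (fun r' s' m => by
      obtain ⟨r, hr⟩ := exists_rep I hq (N m) r'
      obtain ⟨s, hs⟩ := exists_rep I hq (N m) s'
      rw [← hg r' m (N m) r hr (hN m), ← hg s' m (N m) s hs (hN m), ← add_smul]
      refine (hg (r' + s') m (N m) (r + s) ?_ (hN m)).symm
      have := Ideal.add_mem _ hr hs
      rw [map_add]
      convert this using 1
      ring)
    (fun c r' m => by
      obtain ⟨r, hr⟩ := exists_rep I hq (N m) r'
      rw [← hg r' m (N m) r hr (hN m), ← mul_smul]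
      refine (hg (c • r') m (N m) (c * r) ?_ (hN m)).symm
      have := Ideal.mul_mem_left _ (algebraMap R R' c) hr
      rw [map_mul, Algebra.smul_def]
      convert this using 1
      ring)
    (fun r' m m' => by
      have h1 : ∀ k, k ≤ N m + N m' → ∀ x : M, (∀ a ∈ I ^ k, a • x = 0) →
          ∀ a ∈ I ^ (N m + N m'), a • x = 0 := fun k hk x hx a ha => hx a (Ideal.pow_le_pow_right hk ha)
      obtain ⟨r, hr⟩ := exists_rep I hq (N m + N m') r'
      rw [← hg r' m _ r hr (h1 _ (by omega) m (hN m)), ← hg r' m' _ r hr (h1 _ (by omega) m' (hN m')),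
        ← smul_add]
      refine (hg r' (m + m') _ r hr fun a ha => ?_).symm
      rw [smul_add, h1 _ (by omega) m (hN m) a ha, h1 _ (by omega) m' (hN m') a ha, add_zero])
    (fun c r' m => by
      obtain ⟨r, hr⟩ := exists_rep I hq (N m) r'
      rw [← hg r' m (N m) r hr (hN m), smul_comm]
      refine (hg r' (c • m) (N m) r hr fun a ha => ?_).symm
      rw [smul_comm, hN m a ha, smul_zero])
  have hG : ∀ m : M, TensorProduct.lift G ((1 : R') ⊗ₜ[R] m) = m := by
    intro m
    rw [TensorProduct.lift.tmul]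
    have := hg 1 m (N m) 1 (by simp) (hN m)
    rw [one_smul] at this
    exact this.symm
  refine ⟨fun m m' h => ?_, fun t => ?_⟩
  · have h' : TensorProduct.lift G ((1 : R') ⊗ₜ[R] m) = TensorProduct.lift G ((1 : R') ⊗ₜ[R] m') :=
      congrArg _ h
    rwa [hG, hG] at h'
  · induction t using TensorProduct.induction_on with
    | zero => exact ⟨0, TensorProduct.tmul_zero _ _⟩
    | add x y hx hy =>
      obtain ⟨a, ha⟩ := hx
      obtain ⟨b, hb⟩ := hy
      exact ⟨a + b, by
        change (1 : R') ⊗ₜ[R] (a + b) = x + y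
        rw [TensorProduct.tmul_add]
        exact congrArg₂ _ ha hb⟩
    | tmul r' m =>
      obtain ⟨r, hr⟩ := exists_rep I hq (N m) r'
      refine ⟨r • m, ?_⟩
      change (1 : R') ⊗ₜ[R] (r • m) = r' ⊗ₜ[R] m
      have h1 : ∀ x ∈ Ideal.map (algebraMap R R') (I ^ (N m)), x ⊗ₜ[R] m = 0 := by
        intro x hx
        refine Submodule.span_induction (p := fun x _ => ∀ y : R', (y * x) ⊗ₜ[R] m = 0)
          ?_ ?_ ?_ ?_ hx 1 |> fun h => by rwa [one_mul] at h
        · rintro _ ⟨a, ha, rfl⟩ y
          rw [mul_comm, ← Algebra.smul_def, TensorProduct.smul_tmul, hN m a ha,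
            TensorProduct.tmul_zero]
        · intro y
          rw [mul_zero, TensorProduct.zero_tmul]
        · intro a b _ _ ha hb y
          rw [mul_add, TensorProduct.add_tmul, ha, hb, add_zero]
        · intro a b _ hb y
          rw [smul_eq_mul, ← mul_assoc]
          exact hb _
      have h2 := h1 _ hr
      rw [TensorProduct.sub_tmul, sub_eq_zero] at h2
      rw [h2, Algebra.algebraMap_eq_smul_one, TensorProduct.smul_tmul]

end Groth.Agent.S7041
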