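import Groth.Statements.S7057
import Groth.Agent.DRing.K230.DCLink
import Groth.Agent.LoccohB.DBase

set_option autoImplicit false
universe u
attribute [local instance] HasDerivedCategory.standard
open DRing

namespace Groth.Agent.S7057

open Groth.Agent.LoccohB

/-- For a homomorphism of commutative rings A → B, an ideal I of A and an object L of D(B), L is derived
complete with respect to the extended ideal IB if and only if L viewed in D(A) by restriction of
scalars is derived complete with respect to I. -/
theorem result {A B : Type u} [CommRing A] [CommRing B] (φ : A →+* B)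
    (I : Ideal A) (L : Dual.D B) :
    DRing.IsDerivedComplete (I.map φ) L ↔ DRing.IsDerivedComplete I ((DRing.restrictD φ).obj L) := by
  rw [K230.DCLink.isDerivedComplete_iff, K230.DCLink.isDerivedComplete_iff]
  have key : ∀ (f : A) (n : ℤ), K230.DCSeq.DC (φ f) (Dual.HD B L n) ↔
      K230.DCSeq.DC f (Dual.HD A ((DRing.restrictD φ).obj L) n) := by
    intro f n
    let e := ((DBase.mapDerivedCategoryHomologyIso (ModuleCat.restrictScalars.{u} φ) n).app L).toLinearEquiv
    exact (K230.DCSeq.dc_iff_of_equiv e).symm
  constructor
  · intro h f hf n
    exact (key f n).1 (h (φ f) (Ideal.mem_map_of_mem φ hf) n)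
  · intro h g hg n
    have h1 : I.map φ ≤ K230.DCSeq.dcIdeal B (Dual.HD B L n) := by
      rw [Ideal.map_le_iff_le_comap]
      intro f hf
      exact (key f n).2 (h f hf n)
    exact h1 hg

end Groth.Agent.S7057
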