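import Groth.Statements.S7061
import Groth.Agent.DRing.K231.AdicTensor
import Groth.Agent.DRing.K231.Orth

set_option autoImplicit false
universe u
attribute [local instance] HasDerivedCategory.standard
open TensorProduct
open CategoryTheory
open DRing

namespace Groth.Agent.S7061

/-- Let A be a Noetherian commutative ring and I an ideal, and assume the derived completion functor
exists. For a finite A-module M and a flat A-module N, the derived completion of M ⊗_A N (placed in
degree 0) has vanishing cohomology in every nonzero degree, and there is an A-linear isomorphism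
from its degree-0 cohomology to the I-adic completion of M ⊗_A N which carries the map M ⊗_A N =
H^0((M ⊗_A N)[0]) → H^0(((M ⊗_A N)[0])^∧) induced by the canonical morphism to the derived
completion to the canonical map from M ⊗_A N to its I-adic completion. -/
theorem result {A : Type u} [CommRing A] [IsNoetherianRing A]
    (I : Ideal A) [DRing.HasDerivedCompletion I]
    (M N : Type u) [AddCommGroup M] [Module A M] [Module.Finite A M] [AddCommGroup N] [Module A N] [Module.Flat A N] :
    (∀ i : ℤ, i ≠ 0 → Subsingleton (Dual.HD A ((DRing.derivedCompletion I).obj (Dual.inD A (M ⊗[A] N))).obj i)) ∧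
      ∃ e : Dual.HD A ((DRing.derivedCompletion I).obj (Dual.inD A (M ⊗[A] N))).obj 0 ≃ₗ[A]
          AdicCompletion I (M ⊗[A] N),
        ∀ x : M ⊗[A] N,
          e ((((DerivedCategory.singleFunctorCompHomologyFunctorIso (ModuleCat.{u} A) 0).inv.app
                (ModuleCat.of A (M ⊗[A] N))) ≫
              (DerivedCategory.homologyFunctor (ModuleCat.{u} A) 0).map
                (DRing.toDerivedCompletion I (Dual.inD A (M ⊗[A] N)))).hom x) =
            AdicCompletion.of I (M ⊗[A] N) x := by
  obtain ⟨e, he⟩ := K231.Orth.exists_iso_of_isRefl (K231.AdicTensor.isRefl_tensor I M N)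
  refine ⟨fun i hi => ?_, ?_⟩
  · have h1 := K230.DCLink.subsingleton_HD_inD (A := A) (AdicCompletion I (M ⊗[A] N)) i hi
    exact ((DerivedCategory.homologyFunctor (ModuleCat.{u} A) i).mapIso e).toLinearEquiv.toEquiv.subsingleton
  · refine ⟨((DerivedCategory.homologyFunctor (ModuleCat.{u} A) 0).mapIso e).toLinearEquiv ≪≫ₗ
      K230.DCLink.inDIso (AdicCompletion I (M ⊗[A] N)), fun x => ?_⟩
    have h1 : (((DerivedCategory.singleFunctorCompHomologyFunctorIso (ModuleCat.{u} A) 0).inv.app
        (ModuleCat.of A (M ⊗[A] N))) ≫ (DerivedCategory.homologyFunctor (ModuleCat.{u} A) 0).map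
          (DRing.toDerivedCompletion I (Dual.inD A (M ⊗[A] N)))) ≫
        (DerivedCategory.homologyFunctor (ModuleCat.{u} A) 0).map e.hom ≫
        ((DerivedCategory.singleFunctorCompHomologyFunctorIso (ModuleCat.{u} A) 0).hom.app
          (ModuleCat.of A (AdicCompletion I (M ⊗[A] N)))) =
        ModuleCat.ofHom (AdicCompletion.of I (M ⊗[A] N)) := by
      rw [Category.assoc, ← Functor.map_comp_assoc, he]
      have h2 := (DerivedCategory.singleFunctorCompHomologyFunctorIso (ModuleCat.{u} A) 0).hom.naturality
        (ModuleCat.ofHom (AdicCompletion.of I (M ⊗[A] N)))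
      exact (congrArg (fun t => (DerivedCategory.singleFunctorCompHomologyFunctorIso (ModuleCat.{u} A) 0).inv.app
        (ModuleCat.of A (M ⊗[A] N)) ≫ t) h2).trans (Iso.inv_hom_id_app_assoc _ _ _)
    exact LinearMap.congr_fun (congrArg ModuleCat.Hom.hom h1) x

end Groth.Agent.S7061
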