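import Groth.Statements.S7069
import Groth.Agent.MoreMor.K371.PerfTor
import Groth.Agent.S7067
import Groth.Agent.S0563

set_option autoImplicit false
universe u
attribute [local instance] HasDerivedCategory.standard
open MoreMor

namespace Groth.Agent.S7069

/-- A finite type homomorphism of commutative rings A → B, where A is a regular ring of finite Krull
dimension, is perfect: pseudo-coherent with B of finite tor dimension as an A-module. -/
theorem result (A B : Type u) [CommRing A] [CommRing B] [Algebra A B]
    [IsRegularRing A] (hdim : ringKrullDim A < ⊤) [Algebra.FiniteType A B] : MoreMor.IsPerfectHom A B := by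
  refine ⟨Groth.Agent.S7067.result A B, ?_⟩
  obtain ⟨d, hd⟩ : ∃ d : ℕ, ringKrullDim A ≤ d := by
    cases h : ringKrullDim A with
    | bot => exact ⟨0, bot_le⟩
    | coe x =>
      cases x with
      | top => exact absurd (h ▸ hdim) (lt_irrefl _)
      | coe n => exact ⟨n, le_rfl⟩
  refine ⟨d, K371.PerfTor.hasTorDimLE_of_localized_maximal d B fun p hp => ?_⟩
  have hreg : IsRegularLocalRing (Localization.AtPrime p) := inferInstance
  have hle : (p.height : WithBot ℕ∞) ≤ d :=
    (Ideal.height_le_ringKrullDim_of_ne_top hp.ne_top).trans hd
  have hle' : p.height ≤ (d : ℕ∞) := by exact_mod_cast hle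
  obtain ⟨e, he⟩ : ∃ e : ℕ, p.height = e :=
    ⟨p.height.toNat, (ENat.natCast_toNat fun h => by
      rw [h] at hle'; exact absurd hle' (by simp)).symm⟩
  have he' : ringKrullDim (Localization.AtPrime p) = e := by
    rw [IsLocalization.AtPrime.ringKrullDim_eq_height p (Localization.AtPrime p), he]; rfl
  have h1 := Groth.Agent.S0563.result (Localization.AtPrime p) e he'
    (TensorProduct A (Localization.AtPrime p) B)
  have h2 : DRing.HasTorDimLE (Localization.AtPrime p) e (TensorProduct A (Localization.AtPrime p) B) :=
    Groth.Agent.Flat2H.TorDimPoly.hasTorDimLE_of_hasProjectiveDimensionLE h1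
  refine Groth.Agent.Flat2H.TorDim.HasTorDimLE.mono h2 ?_
  rw [he] at hle'
  exact_mod_cast hle'

end Groth.Agent.S7069
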