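import Groth.Statements.S7071
import Groth.Agent.DerCA.K365.Hom

set_option autoImplicit false
universe u
attribute [local instance] HasDerivedCategory.standard
open DerCA

namespace Groth.Agent.S7071

/-- Let R → A be a pseudo-coherent homomorphism of commutative rings, m an integer and K an object of
D(A). Then the object K is m-pseudo-coherent as an object of D(A) exactly when, relative to R, it is
m-pseudo-coherent. -/
theorem result (R A : Type u) [CommRing R] [CommRing A]
    [Algebra R A] (hRA : MoreMor.IsPseudoCoherentHom R A) (m : ℤ) (K : Dual.D A) :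
    DerCA.IsRelPseudoCoherent R A m K ↔ DRing.IsPseudoCoherent A m K := by
  obtain ⟨n, φ, hφ, h⟩ := hRA
  have h' : K365.PCRestrict.PCMap (φ : MvPolynomial (Fin n) R →+* A) :=
    (K365.Hom.pcMap_iff_isPseudoCoherentModule' φ.toRingHom).2 h
  exact K365.Hom.rel_iff_of_pcMap φ (RingHom.Finite.of_surjective _ hφ) h' K m

end Groth.Agent.S7071
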