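import Groth.Statements.S7077
import Groth.Agent.DRing.K231.TwoTerm2

set_option autoImplicit false
universe u
attribute [local instance] HasDerivedCategory.standard
open CategoryTheory
open DRing

namespace Groth.Agent.S7077

open K231.TwoTerm Limits Pretriangulated

/-- (1)⇔(2): let R be a commutative ring and K an object of D(R) whose cohomology modules vanish outside
degrees -1 and 0. Then H^{-1}(K) vanishes and H^0(K) is a projective R-module if and only if
Ext^1_R(K, M) = Hom_{D(R)}(K, M[1]) vanishes for every R-module M. -/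
theorem result {R : Type u} [CommRing R] (K : Dual.D R)
    (hK : ∀ i : ℤ, i ≠ -1 → i ≠ 0 → Subsingleton (Dual.HD R K i)) :
    (Subsingleton (Dual.HD R K (-1)) ∧ Module.Projective R (Dual.HD R K 0)) ↔
      ∀ (M : Type u) [AddCommGroup M] [Module R M], Subsingleton (K ⟶ (Dual.inD R M)⟦(1 : ℤ)⟧) := by
  constructor
  · rintro ⟨h1, h2⟩ M _ _
    exact subsingleton_of_forall_eq 0 fun u => K231.TwoTerm2.ext_of_projective K hK h1 h2 (ModuleCat.of R M) u
  · intro h
    obtain ⟨F, _, _, _, M, d, b, c, hT⟩ := K231.TwoTerm2.exists_tri_free K hK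
    have hc : c = 0 := (h M).elim _ _
    have hF : Projective (ModuleCat.of R F) := K231.TwoTerm2.projective_of_free F
    obtain ⟨h1, h2⟩ := K231.TwoTerm.of_ext hT hc
    refine ⟨ModuleCat.subsingleton_of_isZero h1, ?_⟩
    rw [IsProjective.iff_projective]
    exact h2

end Groth.Agent.S7077
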