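import Groth.Statements.S7085

set_option autoImplicit false
universe u
open LocCoh

namespace Groth.Agent.S7085

/-- Let R be a commutative ring, I an ideal generated by finitely many elements f_1, …, f_t, and M an
R-module. Then: M has no nonzero element killed by I if and only if it has no nonzero element killed
by I^n for every n ≥ 1; and M has no nonzero element killed by I if and only if an element of M
vanishing in every localization M_{f_i} is zero. -/
theorem result {R : Type u} [CommRing R] {t : ℕ} (f : Fin t → R)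
    (I : Ideal R) (hI : Ideal.span (Set.range f) = I) (M : Type u) [AddCommGroup M] [Module R M] :
    (LocCoh.torsionBy I M = ⊥ ↔ ∀ n : ℕ, 1 ≤ n → LocCoh.torsionBy (I ^ n) M = ⊥) ∧
    (LocCoh.torsionBy I M = ⊥ ↔
      ∀ m : M, (∀ i : Fin t, LocalizedModule.mkLinearMap (Submonoid.powers (f i)) M m = 0) → m = 0) := by
  have hpow : torsionBy I M = ⊥ → ∀ n : ℕ, torsionBy (I ^ n) M = ⊥ := by
    intro h n
    induction n with
    | zero =>
      rw [eq_bot_iff]
      intro x hx
      have := (Submodule.mem_torsionBySet_iff _ _).1 hx ⟨1, by simp⟩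
      simpa using this
    | succ n ih =>
      rw [eq_bot_iff]
      intro x hx
      have hx' : ∀ a ∈ I ^ (n + 1), a • x = 0 := fun a ha =>
        (Submodule.mem_torsionBySet_iff _ _).1 hx ⟨a, ha⟩
      have h1 : x ∈ torsionBy I M := by
        refine (Submodule.mem_torsionBySet_iff _ _).2 fun a => ?_
        have h2 : (a : R) • x ∈ torsionBy (I ^ n) M := by
          refine (Submodule.mem_torsionBySet_iff _ _).2 fun b => ?_
          rw [← mul_smul]
          exact hx' _ (by rw [pow_succ]; exact Ideal.mul_mem_mul b.2 a.2)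
        rw [ih] at h2
        exact h2
      rw [h] at h1
      exact h1
  refine ⟨⟨fun h n _ => hpow h n, fun h => by simpa using h 1 le_rfl⟩, fun h m hm => ?_, fun h => ?_⟩
  · -- some power of `I` kills `m`
    have h1 : ∀ i, ∃ k : ℕ, f i ^ k • m = 0 := by
      intro i
      have h2 : LocalizedModule.mk m (1 : Submonoid.powers (f i)) = 0 := hm i
      have h3 : LocalizedModule.mk m (1 : Submonoid.powers (f i)) =
          LocalizedModule.mk 0 (1 : Submonoid.powers (f i)) := h2.trans (LocalizedModule.zero_mk _).symm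
      obtain ⟨⟨_, k, rfl⟩, hc⟩ := LocalizedModule.mk_eq.1 h3
      refine ⟨k, ?_⟩
      have hc' : (f i ^ k) • ((1 : R) • m) = (f i ^ k) • ((1 : R) • (0 : M)) := hc
      simpa using hc'
    have h2 : I ≤ (Ideal.torsionOf R M m).radical := by
      rw [← hI, Ideal.span_le]
      rintro _ ⟨i, rfl⟩
      obtain ⟨k, hk⟩ := h1 i
      exact ⟨k, (Ideal.mem_torsionOf_iff _ _).2 hk⟩
    have hfg : I.FG := by
      rw [← hI]
      exact Submodule.fg_span (Set.finite_range f)
    obtain ⟨k, hk⟩ := Ideal.exists_pow_le_of_le_radical_of_fg h2 hfg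
    have h3 : m ∈ torsionBy (I ^ k) M :=
      (Submodule.mem_torsionBySet_iff _ _).2 fun a => (Ideal.mem_torsionOf_iff _ _).1 (hk a.2)
    rw [hpow h k] at h3
    exact h3
  · rw [eq_bot_iff]
    intro m hm
    refine h m fun i => ?_
    have h1 : f i • m = 0 := (Submodule.mem_torsionBySet_iff _ _).1 hm
      ⟨f i, by rw [← hI]; exact Ideal.subset_span ⟨i, rfl⟩⟩
    have h2 : LocalizedModule.mk m (1 : Submonoid.powers (f i)) =
        LocalizedModule.mk 0 (1 : Submonoid.powers (f i)) := by
      refine LocalizedModule.mk_eq.2 ⟨⟨f i, 1, pow_one _⟩, ?_⟩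
      change (f i) • ((1 : R) • m) = (f i) • ((1 : R) • (0 : M))
      simp [h1]
    exact h2.trans (LocalizedModule.zero_mk _)

end Groth.Agent.S7085
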