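import Groth.Statements.S7089
import Groth.Agent.LocCoh.K163.Resol

set_option autoImplicit false
universe u
open CategoryTheory
open LocCoh

namespace Groth.Agent.S7089

theorem isPowerTorsion_directSum {R : Type u} [CommRing R] (I : Ideal R) {ι : Type u} (n : ι → ℕ) :
    LocCoh.IsPowerTorsion I (DirectSum ι fun j => R ⧸ I ^ n j) := by
  classical
  intro x
  induction x using DirectSum.induction_on with
  | zero => exact ⟨0, fun a _ => smul_zero a⟩
  | of i y =>
    refine ⟨n i, fun a ha => ?_⟩
    change a • DirectSum.lof R ι (fun j => R ⧸ I ^ n j) i y = 0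
    rw [← map_smul]
    have : a • y = 0 := by
      obtain ⟨y, rfl⟩ := Ideal.Quotient.mk_surjective y
      exact Ideal.Quotient.eq_zero_iff_mem.2 (Ideal.mul_mem_right _ _ ha)
    rw [this, map_zero]
  | add x y hx hy =>
    obtain ⟨a, ha⟩ := hx
    obtain ⟨b, hb⟩ := hy
    refine ⟨max a b, fun c hc => ?_⟩
    rw [smul_add, ha c (Ideal.pow_le_pow_right (le_max_left _ _) hc),
      hb c (Ideal.pow_le_pow_right (le_max_right _ _) hc), add_zero]

theorem exists_step {R : Type u} [CommRing R] (I : Ideal R) (M : ModuleCat.{u} R)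
    (hM : LocCoh.IsPowerTorsion I M) :
    Nonempty (K163.Resol.Step (R := R) (fun M => LocCoh.IsPowerTorsion I M)
      (fun X => ∃ (ι : Type u) (n : ι → ℕ),
        Nonempty (X ≅ ModuleCat.of R (DirectSum ι fun j => R ⧸ I ^ n j))) M) := by
  classical
  choose N hN using hM
  let g : ∀ m : M, (R ⧸ I ^ N m) →ₗ[R] M := fun m =>
    (I ^ N m).liftQ (LinearMap.toSpanSingleton R M m) (fun a ha => hN m a ha)
  let q : (DirectSum M fun m => R ⧸ I ^ N m) →ₗ[R] M := DirectSum.toModule R M M g
  have hq : Function.Surjective q := by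
    intro m
    refine ⟨DirectSum.lof R M (fun m => R ⧸ I ^ N m) m (Submodule.Quotient.mk 1), ?_⟩
    rw [DirectSum.toModule_lof]
    change (1 : R) • m = m
    rw [one_smul]
  refine ⟨⟨ModuleCat.of R (DirectSum M fun m => R ⧸ I ^ N m), ⟨M, N, ⟨Iso.refl _⟩⟩,
    ModuleCat.ofHom q, hq, ?_⟩⟩
  rintro ⟨x, hx⟩
  obtain ⟨k, hk⟩ := isPowerTorsion_directSum I N x
  exact ⟨k, fun a ha => Subtype.ext (hk a ha)⟩

/-- Let R be a commutative ring, I an ideal and M an R-module in which every element is killed by a
power of I. Then M has a left resolution by modules each of which is a direct sum of copies of R/I^n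
for varying n: there are a chain complex K of R-modules, a quasi-isomorphism from K to M placed in
degree 0, and for each i an isomorphism of K_i with such a direct sum. -/
theorem result {R : Type u} [CommRing R] (I : Ideal R)
    (M : Type u) [AddCommGroup M] [Module R M] (hM : LocCoh.IsPowerTorsion I M) :
    ∃ (K : ChainComplex (ModuleCat.{u} R) ℕ) (π : K ⟶ (ChainComplex.single₀ (ModuleCat.{u} R)).obj (ModuleCat.of R M)),
      QuasiIso π ∧ ∀ i : ℕ, ∃ (ι : Type u) (n : ι → ℕ),
        Nonempty (K.X i ≅ ModuleCat.of R (DirectSum ι fun j => R ⧸ I ^ n j)) := by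
  exact K163.Resol.exists_resolution _ _ (exists_step I) (ModuleCat.of R M) hM

end Groth.Agent.S7089
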