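import Groth.Statements.S7090
-- import your own Groth.Agent.* helpers here
import Groth.Agent.Etalg.FormalGlue

set_option autoImplicit false
universe u
open TensorProduct
open EtAlg

namespace Groth.Agent.S7090

/-- Let R → S be a flat homomorphism of commutative rings and I = (f_1, …, f_t) a finitely generated
ideal such that R/I → S/IS is bijective. Then for every R-module M the glueing complex 0 → M → (S
⊗_R M) × ∏ M_{f_i} → ∏ (S ⊗_R M)_{f_i} × ∏ M_{f_i f_j} is exact. Concretely: an element of M with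
zero image in S ⊗_R M and in every M_{f_i} is zero; and given x in S ⊗_R M and elements m_1, …, m_t
of M and N ≥ 0 such that x and m_i / f_i^N have the same image in (S ⊗_R M)_{f_i} for each i, and
m_i / f_i^N, m_j / f_j^N have the same image in M_{f_i f_j} for all i, j, there is m in M with 1 ⊗ m
= x and m / 1 = m_i / f_i^N in M_{f_i} for every i. -/
theorem result {R S : Type u} [CommRing R] [CommRing S] [Algebra R S] [Module.Flat R S]
    {t : ℕ} (f : Fin t → R) (I : Ideal R) (hI : Ideal.span (Set.range f) = I)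
    (hq : Function.Bijective
      (Ideal.quotientMap (Ideal.map (algebraMap R S) I) (algebraMap R S) Ideal.le_comap_map))
    (M : Type u) [AddCommGroup M] [Module R M] :
    (∀ m : M, (1 : S) ⊗ₜ[R] m = 0 →
        (∀ i : Fin t, LocalizedModule.mkLinearMap (Submonoid.powers (f i)) M m = 0) → m = 0) ∧
    ∀ (x : S ⊗[R] M) (N : ℕ) (m : Fin t → M),
      (∀ i : Fin t, EtGlue.locOfTensor R S (f i) M x =
          EtGlue.tensorOfLoc R S (f i) M (LocalizedModule.mk (m i) ⟨f i ^ N, Submonoid.pow_mem _ (Submonoid.mem_powers (f i)) N⟩)) →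
      (∀ i j : Fin t, ∃ e : ℕ, (f i * f j) ^ e • (f j ^ N • m i - f i ^ N • m j) = 0) →
        ∃ μ : M, (1 : S) ⊗ₜ[R] μ = x ∧
          ∀ i : Fin t, LocalizedModule.mkLinearMap (Submonoid.powers (f i)) M μ =
            LocalizedModule.mk (m i) ⟨f i ^ N, Submonoid.pow_mem _ (Submonoid.mem_powers (f i)) N⟩ := by
  subst hI
  have hI' : ∀ i, f i ∈ Ideal.span (Set.range f) := fun i => Ideal.subset_span ⟨i, rfl⟩
  have hpow : ∀ K : ℕ, ∃ n : ℕ, Ideal.span (Set.range f) ^ n ≤
      Ideal.span (Set.range fun i => f i ^ K) := by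
    intro K
    apply Ideal.exists_pow_le_of_le_radical_of_fg
    · rw [Ideal.span_le]
      rintro _ ⟨i, rfl⟩
      exact ⟨K, Ideal.subset_span ⟨i, rfl⟩⟩
    · exact Submodule.fg_span (Set.finite_range f)
  constructor
  · intro m hm h
    have h1 : ∀ i, ∃ e : ℕ, f i ^ e • m = 0 := by
      intro i
      obtain ⟨⟨_, e, rfl⟩, he⟩ := (IsLocalizedModule.eq_zero_iff (Submonoid.powers (f i))
        (LocalizedModule.mkLinearMap (Submonoid.powers (f i)) M)).1 (h i)
      exact ⟨e, he⟩
    choose e he using h1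
    obtain ⟨n, hn⟩ := hpow (Finset.univ.sup e)
    refine Groth.Agent.Etalg.FormalGlue.eq_zero_of_torsion hq m n (fun a ha => ?_) hm
    have h2 := hn ha
    have h3 : Ideal.span (Set.range fun i => f i ^ (Finset.univ.sup e)) ≤
        (Submodule.span R {m}).annihilator := by
      rw [Ideal.span_le]
      rintro _ ⟨i, rfl⟩
      rw [SetLike.mem_coe, Submodule.mem_annihilator_span_singleton]
      obtain ⟨c, hc⟩ := Nat.exists_eq_add_of_le (Finset.le_sup (f := e) (Finset.mem_univ i))
      simp only
      rw [hc, add_comm, pow_add, mul_smul, he, smul_zero]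
    exact (Submodule.mem_annihilator_span_singleton _ _).1 (h3 h2)
  · intro x N m h1 h2
    have h3 : ∀ i, ∃ e : ℕ, f i ^ e • (f i ^ N • x) = f i ^ e • ((1 : S) ⊗ₜ[R] m i) := by
      intro i
      have h4 : LocalizedModule.mkLinearMap (Submonoid.powers (f i)) (S ⊗[R] M) (f i ^ N • x) =
          LocalizedModule.mkLinearMap (Submonoid.powers (f i)) (S ⊗[R] M) ((1 : S) ⊗ₜ[R] m i) := by
        have h5 := congrArg (fun y => f i ^ N • y) (h1 i)
        simp only [EtGlue.locOfTensor, EtGlue.tensorOfLoc] at h5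
        rw [← map_smul, ← map_smul] at h5
        rw [h5]
        have h6 : (f i ^ N • LocalizedModule.mk (m i) ⟨f i ^ N, Submonoid.pow_mem _
            (Submonoid.mem_powers (f i)) N⟩ : LocalizedModule (Submonoid.powers (f i)) M) =
            LocalizedModule.mkLinearMap (Submonoid.powers (f i)) M (m i) := by
          rw [LocalizedModule.smul'_mk, LocalizedModule.mkLinearMap_apply, LocalizedModule.mk_eq]
          exact ⟨1, by simp [Submonoid.smul_def]⟩
        rw [h6]
        exact IsLocalizedModule.map_apply _ _ _ _ _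
      obtain ⟨⟨_, e, rfl⟩, he⟩ := (IsLocalizedModule.eq_iff_exists (Submonoid.powers (f i))
        (LocalizedModule.mkLinearMap (Submonoid.powers (f i)) (S ⊗[R] M))).1 h4
      exact ⟨e, he⟩
    choose e he using h3
    choose e' he' using h2
    let E := Finset.univ.sup e + Finset.univ.sup (fun i => Finset.univ.sup (e' i))
    have hE : ∀ i, e i ≤ E := fun i =>
      (Finset.le_sup (f := e) (Finset.mem_univ i)).trans (Nat.le_add_right _ _)
    have hE' : ∀ i j, e' i j ≤ E := fun i j =>
      ((Finset.le_sup (f := e' i) (Finset.mem_univ j)).trans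
        (Finset.le_sup (f := fun i => Finset.univ.sup (e' i)) (Finset.mem_univ i))).trans
        (Nat.le_add_left _ _)
    obtain ⟨n, hn⟩ := hpow (E + N)
    have hA : ∀ i j, f i ^ (E + N) • (f j ^ E • m j) = f j ^ (E + N) • (f i ^ E • m i) := by
      intro i j
      obtain ⟨c, hc⟩ := Nat.exists_eq_add_of_le (hE' i j)
      have h4 : (f i * f j) ^ E • (f j ^ N • m i - f i ^ N • m j) = 0 := by
        rw [hc, add_comm, pow_add, mul_smul, he', smul_zero]
      rw [smul_sub, sub_eq_zero, smul_smul, smul_smul] at h4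
      simp only [smul_smul]
      have h5 : f i ^ (E + N) * f j ^ E = (f i * f j) ^ E * f i ^ N := by ring
      have h6 : f j ^ (E + N) * f i ^ E = (f i * f j) ^ E * f j ^ N := by ring
      rw [h5, h6, h4]
    have hB : ∀ i, (1 : S) ⊗ₜ[R] (f i ^ E • m i) = f i ^ (E + N) • x := by
      intro i
      obtain ⟨c, hc⟩ := Nat.exists_eq_add_of_le (hE i)
      have h4 : f i ^ E • (f i ^ N • x) = f i ^ E • ((1 : S) ⊗ₜ[R] m i) := by
        rw [hc, add_comm, pow_add, mul_smul, he, mul_smul]
      rw [TensorProduct.tmul_smul, ← h4, smul_smul, ← pow_add]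
    obtain ⟨μ, hμ1, hμ2⟩ := Groth.Agent.Etalg.FormalGlue.exists_of_compat_family hq
      (fun i => f i ^ (E + N)) n hn (fun i => f i ^ E • m i) hA x hB
    refine ⟨μ, hμ1, fun i => ?_⟩
    rw [LocalizedModule.mkLinearMap_apply, LocalizedModule.mk_eq]
    refine ⟨⟨f i ^ E, E, rfl⟩, ?_⟩
    have := hμ2 i
    simp only [Submonoid.smul_def, one_smul, smul_smul] at this ⊢
    rw [← pow_add]
    exact this.symm

end Groth.Agent.S7090
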