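import Groth.Statements.S7091
import Groth.Agent.DRing.K231.Amp

set_option autoImplicit false
universe u
attribute [local instance] HasDerivedCategory.standard
open CategoryTheory
open DRing

namespace Groth.Agent.S7091

open Pretriangulated

/-- Let A be a commutative ring, I a finitely generated ideal, and assume the derived completion functor
(left adjoint to the inclusion of derived complete objects) exists. If a morphism K → L in D(A)
induces isomorphisms on cohomology in degrees ≥ 1 and a surjection in degree 0, then so does the
induced morphism between the derived completions. -/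
theorem result {A : Type u} [CommRing A] (I : Ideal A) (hI : I.FG)
    [DRing.HasDerivedCompletion I] {K L : Dual.D A} (φ : K ⟶ L)
    (hiso : ∀ i : ℤ, 1 ≤ i → IsIso ((DerivedCategory.homologyFunctor (ModuleCat.{u} A) i).map φ))
    (hepi : Epi ((DerivedCategory.homologyFunctor (ModuleCat.{u} A) 0).map φ)) :
    (∀ i : ℤ, 1 ≤ i → IsIso ((DerivedCategory.homologyFunctor (ModuleCat.{u} A) i).map
        ((DRing.derivedCompletion I).map φ).hom)) ∧
      Epi ((DerivedCategory.homologyFunctor (ModuleCat.{u} A) 0).map ((DRing.derivedCompletion I).map φ).hom) := by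
  obtain ⟨C, g, h, hT⟩ := distinguished_cocone_triangle φ
  obtain ⟨C', g', h', hT'⟩ := distinguished_cocone_triangle ((DRing.derivedCompletion I).map φ).hom
  obtain ⟨c, -, -, hc⟩ := K231.Amp.isRefl_cone hT hT' (K231.Orth.isRefl_toDerivedCompletion I K)
    (K231.Orth.isRefl_toDerivedCompletion I L) (K231.Orth.toDerivedCompletion_naturality φ).symm
  have h1 : C.IsLE (-1) := by
    refine K231.Amp.isLE_cone hT 0 (fun i hi => ?_) (fun i hi => ?_)
    · have := hiso i (by omega)
      infer_instance
    · rcases eq_or_lt_of_le hi with rfl | hi
      · exact hepi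
      · have := hiso i (by omega)
        infer_instance
  have h2 : C'.IsLE (-1) := K231.Amp.isLE_of_isRefl hI hc (-1) h1
  refine ⟨fun i hi => ?_, K231.Amp.epi_of_cone hT' 0 (DerivedCategory.isZero_of_isLE C' (-1) 0 (by omega))⟩
  have h3 := K231.Amp.epi_of_cone hT' i (DerivedCategory.isZero_of_isLE C' (-1) i (by omega))
  have h4 := K231.Amp.mono_of_cone hT' (i - 1) i (by omega)
    (DerivedCategory.isZero_of_isLE C' (-1) (i - 1) (by omega))
  exact isIso_of_mono_of_epi _

end Groth.Agent.S7091
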