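import Groth.Statements.S7092
import Groth.Agent.DRing.K231.Amp

set_option autoImplicit false
universe u
attribute [local instance] HasDerivedCategory.standard
open CategoryTheory
open DRing

namespace Groth.Agent.S7092

open Pretriangulated

/-- Let A be a commutative ring, I an ideal generated by a finite set of r elements, and assume the
derived completion functor exists. If a morphism K → L in D(A) induces isomorphisms on cohomology in
degrees ≤ -1 and an injection in degree 0, then the induced morphism of derived completions induces
isomorphisms on cohomology in degrees ≤ -r-1 and an injection in degree -r. -/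
theorem result {A : Type u} [CommRing A] (I : Ideal A) (s : Finset A)
    (hs : Ideal.span (s : Set A) = I) [DRing.HasDerivedCompletion I] {K L : Dual.D A} (φ : K ⟶ L)
    (hiso : ∀ i : ℤ, i ≤ -1 → IsIso ((DerivedCategory.homologyFunctor (ModuleCat.{u} A) i).map φ))
    (hmono : Mono ((DerivedCategory.homologyFunctor (ModuleCat.{u} A) 0).map φ)) :
    (∀ i : ℤ, i ≤ -(s.card : ℤ) - 1 → IsIso ((DerivedCategory.homologyFunctor (ModuleCat.{u} A) i).map
        ((DRing.derivedCompletion I).map φ).hom)) ∧
      Mono ((DerivedCategory.homologyFunctor (ModuleCat.{u} A) (-(s.card : ℤ))).map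
        ((DRing.derivedCompletion I).map φ).hom) := by
  obtain ⟨C, g, h, hT⟩ := distinguished_cocone_triangle φ
  obtain ⟨C', g', h', hT'⟩ := distinguished_cocone_triangle ((DRing.derivedCompletion I).map φ).hom
  obtain ⟨c, -, -, hc⟩ := K231.Amp.isRefl_cone hT hT' (K231.Orth.isRefl_toDerivedCompletion I K)
    (K231.Orth.isRefl_toDerivedCompletion I L) (K231.Orth.toDerivedCompletion_naturality φ).symm
  have h1 : C.IsGE 0 := by
    refine K231.Amp.isGE_cone hT 0 (fun i hi => ?_) (fun i hi => ?_)
    · rcases eq_or_lt_of_le hi with rfl | hi
      · exact hmono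
      · have := hiso i (by omega)
        infer_instance
    · have := hiso i (by omega)
      infer_instance
  have hl : Ideal.span {x | x ∈ s.toList} = I := by
    rw [← hs]
    congr 1
    ext x
    simp
  have h2 : C'.IsGE (-(s.card : ℤ)) := by
    have h3 := K231.Amp.isGE_of_isRefl s.toList hl hc 0 h1
    rwa [Finset.length_toList, zero_sub] at h3
  refine ⟨fun i hi => ?_, K231.Amp.mono_of_cone hT' (-(s.card : ℤ) - 1) _ (by omega)
    (DerivedCategory.isZero_of_isGE C' (-(s.card : ℤ)) _ (by omega))⟩
  have h3 := K231.Amp.epi_of_cone hT' i (DerivedCategory.isZero_of_isGE C' (-(s.card : ℤ)) i (by omega))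
  have h4 := K231.Amp.mono_of_cone hT' (i - 1) i (by omega)
    (DerivedCategory.isZero_of_isGE C' (-(s.card : ℤ)) (i - 1) (by omega))
  exact isIso_of_mono_of_epi _

end Groth.Agent.S7092
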