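import Groth.Statements.S7093
import Groth.Agent.Dual2.K366.Thick

set_option autoImplicit false
universe u
attribute [local instance] HasDerivedCategory.standard
open CategoryTheory CategoryTheory.Limits
open Dual2

namespace Groth.Agent.S7093

/-- For a flat homomorphism of finite presentation R → A of commutative rings, the R-perfect objects of
D(A) (pseudo-coherent over A, finite tor dimension over R) form a strictly full, saturated
triangulated subcategory: the property is a triangulated object property (contains zero, stable
under shifts and under extensions in distinguished triangles), is closed under isomorphisms, and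
passes to direct summands. -/
theorem result (R A : Type u) [CommRing R] [CommRing A] [Algebra R A]
    [Module.Flat R A] [Algebra.FinitePresentation R A] :
    ObjectProperty.IsTriangulated (C := Dual.D A) (fun K => Dual2.IsRelPerfect R A K) ∧
      ObjectProperty.IsClosedUnderIsomorphisms (C := Dual.D A) (fun K => Dual2.IsRelPerfect R A K) ∧
      ∀ X Y : Dual.D A, Dual2.IsRelPerfect R A (X ⊞ Y) → Dual2.IsRelPerfect R A X ∧ Dual2.IsRelPerfect R A Y := by
  exact ⟨inferInstanceAs (K366.Thick.relPerf R A).IsTriangulated,
    inferInstanceAs (K366.Thick.relPerf R A).IsClosedUnderIsomorphisms, fun X Y h =>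
      ⟨K366.Thick.isRelPerfect_of_retract biprod.inl biprod.fst biprod.inl_fst h,
        K366.Thick.isRelPerfect_of_retract biprod.inr biprod.snd biprod.inr_snd h⟩⟩

end Groth.Agent.S7093
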