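import Groth.Statements.S7095
import Groth.Agent.DRing.K231.TenMod
import Groth.Agent.DRing.K231.AdicCx
import Groth.Agent.DRing.K232.ComplTen
import Groth.Agent.LoccohB.PCNoeth

set_option autoImplicit false
universe u
attribute [local instance] HasDerivedCategory.standard
open CategoryTheory
open DRing

namespace Groth.Agent.S7095

/-- Let A be a Noetherian commutative ring and I an ideal, and assume the derived completion functor and
the derived tensor product with a finite A-module M (total left derived functor) exist. For every
object K of D(A) whose cohomology is bounded above, K^∧ ⊗^L_A M is the derived completion of K ⊗^L_A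
M through the map K ⊗^L_A M → K^∧ ⊗^L_A M induced by the canonical morphism K → K^∧ to the derived
completion K^∧ of K: the object K^∧ ⊗^L_A M is derived complete with respect to I, and every
morphism from K ⊗^L_A M to a derived complete object of D(A) factors uniquely through that map. -/
theorem result {A : Type u} [CommRing A] [IsNoetherianRing A] (I : Ideal A)
    [DRing.HasDerivedCompletion I] (M : Type u) [AddCommGroup M] [Module A M] [Module.Finite A M]
    [DRing.HasLTensor A (ModuleCat.of A M)] (K : Dual.D A) (b : ℤ) (hK : ∀ i : ℤ, b < i → Subsingleton (Dual.HD A K i)) :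
    DRing.IsDerivedComplete I ((DRing.LTensor A (ModuleCat.of A M)).obj ((DRing.derivedCompletion I).obj K).obj) ∧
      ∀ E : Dual.D A, DRing.IsDerivedComplete I E →
        Function.Bijective (fun φ : (DRing.LTensor A (ModuleCat.of A M)).obj ((DRing.derivedCompletion I).obj K).obj ⟶ E =>
          (DRing.LTensor A (ModuleCat.of A M)).map (DRing.toDerivedCompletion I K) ≫ φ) := by
  have hKb : K.IsLE b := by
    rw [DerivedCategory.isLE_iff]
    exact fun i hi => @ModuleCat.isZero_of_subsingleton _ _ _ (hK i hi)
  have hη := K231.Orth.isRefl_toDerivedCompletion I K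
  have hLb := K231.Amp.isLE_of_isRefl (IsNoetherian.noetherian I) hη b hKb
  have hpc : DRing.IsPseudoCoherent' A (Dual.inD A M) :=
    Groth.Agent.LoccohB.PCNoeth.isPseudoCoherent'_of_noetherian (Dual.inD A M) 0 fun i => by
      by_cases hi : i = 0
      · subst hi
        exact Module.Finite.equiv (K230.DCLink.inDIso (A := A) M).symm
      · have := K230.DCLink.subsingleton_HD_inD (A := A) M i hi
        exact Module.Finite.of_finite
  obtain ⟨F, c, hFc, hFf, ⟨e⟩⟩ := hpc
  have := Groth.Agent.LoccohB.LTen.hasLTensorCx F
  have := Groth.Agent.LoccohB.LTen.hasLTensorCx (K231.TenMod.s0 (ModuleCat.of A M))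
  obtain ⟨Θ'⟩ := Groth.Agent.LoccohB.LTen.ltenCongr (E := K231.TenMod.s0 (ModuleCat.of A M)) (E' := F) e.symm
  let Θ := K231.TenMod.ltenModIso (ModuleCat.of A M) ≪≫ Θ'
  have hc := K232.ComplTen.complete_lten I F c hFc hFf _ hη.mem b hLb
  have h1 := K232.KVan.isRefl_map I (IsNoetherian.noetherian I) (K232.TriTen.isTriang_LTensorCx F) hη hc
  have h2 := K231.AdicCx.isRefl_of_iso h1 (Θ.symm.app K) (Θ.symm.app _)
    (Θ.symm.hom.naturality (DRing.toDerivedCompletion I K))
  exact ⟨h2.mem, K231.Orth.bijective_of_isRefl h2⟩

end Groth.Agent.S7095
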