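import Groth.Statements.S7098
import Groth.Agent.DRing.K232.Inv
import Groth.Agent.LoccohB.GMAbs

set_option autoImplicit false
universe u
attribute [local instance] HasDerivedCategory.standard
open DRing

namespace Groth.Agent.S7098

/-- (1)⇔(2): let A be a commutative ring, f an element of A and K an object of D(A). Then every morphism
A_f[0] → K[n] vanishes for every integer n if and only if every morphism E → K vanishes for every
object E of D(A) obtained by restriction of scalars from D(A_f). -/
theorem result {A : Type u} [CommRing A] (f : A)
    (K : Dual.D A) :
    (∀ n : ℤ, Subsingleton (Dual.inD A (Localization.Away f) ⟶ K⟦n⟧)) ↔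
      ∀ E : Dual.D (Localization.Away f),
        Subsingleton ((DRing.restrictD (algebraMap A (Localization.Away f))).obj E ⟶ K) := by
  refine ⟨fun h E => K232.Inv.subsingleton_restrict K h E, fun h n => ?_⟩
  let e := K232.Inv.restrictInD (B := A) (C := Localization.Away f) (Localization.Away f)
  have h1 : Groth.Agent.LoccohB.GMAbs.Orth
      ((DRing.restrictD (algebraMap A (Localization.Away f))).obj
        (Dual.inD (Localization.Away f) (Localization.Away f))) (K⟦n⟧) := by
    refine Groth.Agent.LoccohB.GMAbs.orth_shift_right n (-n) (by simp) ?_
    refine Groth.Agent.LoccohB.GMAbs.Orth.of_iso_left (X := (DRing.restrictD (algebraMap A (Localization.Away f))).obj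
        ((Dual.inD (Localization.Away f) (Localization.Away f))⟦-n⟧)) ?_
      (((DRing.restrictD (algebraMap A (Localization.Away f))).commShiftIso (-n)).app _)
    intro u
    exact (h _).elim _ _
  exact subsingleton_of_forall_eq 0 fun u => h1.of_iso_left e u

end Groth.Agent.S7098
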