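import Groth.Statements.S7099
import Groth.Agent.DRing.K232.KFlatTen
import Mathlib.RingTheory.Localization.BaseChange

set_option autoImplicit false
universe u
attribute [local instance] HasDerivedCategory.standard
open CategoryTheory
open DRing

namespace Groth.Agent.S7099

/-- Let A be a commutative ring, f and g elements of A, and K an object of D(A). Assuming the derived
functors RHom_A(A_f, −), RHom_A(A_g, −) and RHom_A(A_{fg}, −) (total right derived functors of the
Hom complexes out of the localizations placed in degree 0) exist, RHom_A(A_f, RHom_A(A_g, K)) is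
isomorphic in D(A) to RHom_A(A_{fg}, K). (Existence of an isomorphism only.) -/
theorem result {A : Type u} [CommRing A] (f g : A)
    [DRing.HasRHomCx ((HomologicalComplex.single (ModuleCat.{u} A) (ComplexShape.up ℤ) 0).obj
      (ModuleCat.of A (Localization.Away f)))]
    [DRing.HasRHomCx ((HomologicalComplex.single (ModuleCat.{u} A) (ComplexShape.up ℤ) 0).obj
      (ModuleCat.of A (Localization.Away g)))]
    [DRing.HasRHomCx ((HomologicalComplex.single (ModuleCat.{u} A) (ComplexShape.up ℤ) 0).obj
      (ModuleCat.of A (Localization.Away (f * g))))]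
    (K : Dual.D A) :
    Nonempty ((DRing.RHomCx ((HomologicalComplex.single (ModuleCat.{u} A) (ComplexShape.up ℤ) 0).obj
        (ModuleCat.of A (Localization.Away f)))).obj
      ((DRing.RHomCx ((HomologicalComplex.single (ModuleCat.{u} A) (ComplexShape.up ℤ) 0).obj
        (ModuleCat.of A (Localization.Away g)))).obj K) ≅
      (DRing.RHomCx ((HomologicalComplex.single (ModuleCat.{u} A) (ComplexShape.up ℤ) 0).obj
        (ModuleCat.of A (Localization.Away (f * g))))).obj K) := by
  have := Groth.Agent.LoccohB.LTen.hasLTensorCx
    ((HomologicalComplex.single (ModuleCat.{u} A) (ComplexShape.up ℤ) 0).obj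
      (ModuleCat.of A (Localization.Away f)))
  have := Groth.Agent.LoccohB.LTen.hasLTensorCx
    ((HomologicalComplex.single (ModuleCat.{u} A) (ComplexShape.up ℤ) 0).obj
      (ModuleCat.of A (Localization.Away g)))
  have := Groth.Agent.LoccohB.LTen.hasLTensorCx
    ((HomologicalComplex.single (ModuleCat.{u} A) (ComplexShape.up ℤ) 0).obj
      (ModuleCat.of A (Localization.Away (f * g))))
  have h1 : IsLocalization.Away (f * g)
      (TensorProduct A (Localization.Away f) (Localization.Away g)) :=
    IsLocalization.Away.mul' (Localization.Away f) _ f g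
  let e0 : TensorProduct A (Localization.Away f) (Localization.Away g) ≃ₗ[A]
      Localization.Away (f * g) :=
    (IsLocalization.algEquiv (Submonoid.powers (f * g)) _ _).toLinearEquiv
  let e1 : (MonoidalCategoryStruct.tensorObj (ModuleCat.of A (Localization.Away f))
      (ModuleCat.of A (Localization.Away g)) : ModuleCat.{u} A) ≅
      ModuleCat.of A (Localization.Away (f * g)) := e0.toModuleIso
  let e2 : MonoidalCategory.tensorRight (ModuleCat.of A (Localization.Away f)) ⋙
      MonoidalCategory.tensorRight (ModuleCat.of A (Localization.Away g)) ≅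
      MonoidalCategory.tensorRight (ModuleCat.of A (Localization.Away (f * g))) :=
    (MonoidalCategory.tensorRightTensor _ _).symm ≪≫
      (MonoidalCategory.tensoringRight (ModuleCat.{u} A)).mapIso e1
  have : Module.Flat A (ModuleCat.of A (Localization.Away f)) :=
    inferInstanceAs (Module.Flat A (Localization.Away f))
  have : Module.Flat A (ModuleCat.of A (Localization.Away g)) :=
    inferInstanceAs (Module.Flat A (Localization.Away g))
  have : Module.Flat A (ModuleCat.of A (Localization.Away (f * g))) :=
    inferInstanceAs (Module.Flat A (Localization.Away (f * g)))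
  let e3 := CategoryTheory.Functor.isoWhiskerRight
      (K232.KFlatTen.ltenSingleFlat (ModuleCat.of A (Localization.Away f)))
        (DRing.LTensorCx A ((HomologicalComplex.single (ModuleCat.{u} A) (ComplexShape.up ℤ) 0).obj
      (ModuleCat.of A (Localization.Away g)))) ≪≫
    CategoryTheory.Functor.isoWhiskerLeft _
      (K232.KFlatTen.ltenSingleFlat (ModuleCat.of A (Localization.Away g))) ≪≫
    Groth.Agent.LoccohB.LBC.mapDerComp _ _ _ e2 ≪≫
    (K232.KFlatTen.ltenSingleFlat (ModuleCat.of A (Localization.Away (f * g)))).symm
  let a1 := (Groth.Agent.LoccohB.LTen.ltenAdj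
      ((HomologicalComplex.single (ModuleCat.{u} A) (ComplexShape.up ℤ) 0).obj
      (ModuleCat.of A (Localization.Away f)))).comp
    (Groth.Agent.LoccohB.LTen.ltenAdj
      ((HomologicalComplex.single (ModuleCat.{u} A) (ComplexShape.up ℤ) 0).obj
      (ModuleCat.of A (Localization.Away g))))
  let a2 := Groth.Agent.LoccohB.LTen.ltenAdj
      ((HomologicalComplex.single (ModuleCat.{u} A) (ComplexShape.up ℤ) 0).obj
      (ModuleCat.of A (Localization.Away (f * g))))
  exact ⟨((a1.ofNatIsoLeft e3).rightAdjointUniq a2).app K⟩

end Groth.Agent.S7099
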