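import Groth.Statements.S7100
import Groth.Agent.DerCA.K365.Hom
import Groth.Agent.Flat2H.PCFinal
import Groth.Agent.Flat2H.FlatPC2

set_option autoImplicit false
universe u
attribute [local instance] HasDerivedCategory.standard
open DerCA

namespace Groth.Agent.S7100

/-- (1)⇔(4): let R → B → A be homomorphisms of commutative rings with B → A surjective and with R → B
and R → A both flat and of finite presentation. Then an object K of D(A) is pseudo-coherent
(isomorphic in D(A) to a bounded above complex of finite free modules) if and only if its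
restriction of scalars to D(B) is pseudo-coherent; and for every integer m, K is m-pseudo-coherent
if and only if its restriction of scalars to D(B) is m-pseudo-coherent. -/
theorem result (R B A : Type u) [CommRing R] [CommRing B] [CommRing A]
    [Algebra R B] [Algebra R A] [Algebra B A] [IsScalarTower R B A]
    (hφ : Function.Surjective (algebraMap B A))
    [Module.Flat R B] [Algebra.FinitePresentation R B] [Module.Flat R A] [Algebra.FinitePresentation R A]
    (K : Dual.D A) :
    (DRing.IsPseudoCoherent' A K ↔ DRing.IsPseudoCoherent' B ((DRing.restrictD (algebraMap B A)).obj K)) ∧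
      ∀ m : ℤ, (DRing.IsPseudoCoherent A m K ↔
        DRing.IsPseudoCoherent B m ((DRing.restrictD (algebraMap B A)).obj K)) := by
  have hB := Groth.Agent.Flat2H.isPseudoCoherentHom_iff.2 (Groth.Agent.Flat2H.PCHom.of_flat R B)
  have hA := Groth.Agent.Flat2H.isPseudoCoherentHom_iff.2 (Groth.Agent.Flat2H.PCHom.of_flat R A)
  obtain ⟨n, φ, hφs, h⟩ := hB
  have hPC : K365.PCRestrict.PCMap (φ : MvPolynomial (Fin n) R →+* B) :=
    (K365.Hom.pcMap_iff_isPseudoCoherentModule' φ.toRingHom).2 h
  have hψ : K365.PCRestrict.PCMap ((algebraMap B A).comp (φ : MvPolynomial (Fin n) R →+* B)) := by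
    obtain ⟨k, φ', hφ', h'⟩ := hA
    have h1 : DerCA.IsRelPseudoCoherentModuleAll R A A :=
      K365.Hom.relModuleAll_of_pcMap φ' (RingHom.Finite.of_surjective _ hφ')
        ((K365.Hom.pcMap_iff_isPseudoCoherentModule' φ'.toRingHom).2 h')
    exact K365.Hom.pcMap_of_relModuleAll h1 ((IsScalarTower.toAlgHom R B A).comp φ)
      (RingHom.Finite.of_surjective _ (hφ.comp hφs))
  have key : ∀ m : ℤ, (DRing.IsPseudoCoherent A m K ↔
        DRing.IsPseudoCoherent B m ((DRing.restrictD (algebraMap B A)).obj K)) := by
    intro m
    rw [← hψ.iff, hPC.iff_comp (algebraMap B A) _ rfl]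
  exact ⟨by rw [← K365.Hom.forall_iff, ← K365.Hom.forall_iff]; exact forall_congr' key, key⟩

end Groth.Agent.S7100
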