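import Groth.Statements.S7106
import Groth.Agent.DRing.K232.TopHomQ
import Mathlib.Algebra.Category.ModuleCat.EnoughInjectives

set_option autoImplicit false
universe u
attribute [local instance] HasDerivedCategory.standard
open CategoryTheory
open DRing

namespace Groth.Agent.S7106

/-- Let R be a commutative ring, M a cochain complex of R-modules with M^i = 0 for i > 0 and M^0
projective, K a cochain complex with K^i = 0 for i outside [-1, 0] and K^0 projective, and a : M → K
a chain map. Then precomposition with a is the zero map Ext^1_R(K, N) → Ext^1_R(M, N) (morphisms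
into N[1] in D(R)) for every R-module N if and only if there is a map h : M^0 → K^{-1} with a^{-1} +
h ∘ d_M^{-1} = 0. (The published statement composes h^0 with the differential K^{-1} → K^0 of K,
which is not defined; this row composes it with the differential M^{-1} → M^0 of M, as the homotopy
in the published proof does.) -/
theorem result {R : Type u} [CommRing R] (M K : DRing.Cx R)
    (hM : ∀ i : ℤ, 0 < i → Limits.IsZero (M.X i)) (hM0 : Module.Projective R (M.X 0))
    (hK : ∀ i : ℤ, i ≠ -1 → i ≠ 0 → Limits.IsZero (K.X i)) (hK0 : Module.Projective R (K.X 0))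
    (a : M ⟶ K) :
    (∀ (N : Type u) [AddCommGroup N] [Module R N] (ξ : DRing.toD K ⟶ (Dual.inD R N)⟦(1 : ℤ)⟧),
        DerivedCategory.Q.map a ≫ ξ = 0) ↔
      ∃ h : M.X 0 ⟶ K.X (-1), a.f (-1) + M.d (-1) 0 ≫ h = 0 := by
  have : Projective (M.X 0) := (IsProjective.iff_projective (R := R) (M.X 0)).1 hM0
  have : Projective (K.X 0) := (IsProjective.iff_projective (R := R) (K.X 0)).1 hK0
  let e : ∀ N : ModuleCat.{u} R, (Dual.inD R N)⟦(1 : ℤ)⟧ ≅
      DerivedCategory.Q.obj ((CochainComplex.singleFunctor (ModuleCat.{u} R) (-1)).obj N) := fun N =>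
    ((DerivedCategory.singleFunctors (ModuleCat.{u} R)).shiftIso 1 (-1) 0 (by simp)).app N ≪≫
      (DerivedCategory.singleFunctorIsoCompQ (ModuleCat.{u} R) (-1)).app N
  have key := K232.TopHom.ext_one_zero_iff M K hM hK a
  constructor
  · intro H
    obtain ⟨h, hh⟩ := key.1 (fun N ξ => by
      have h1 := H N (ξ ≫ (e N).inv)
      have h2 : (DerivedCategory.Q.map a ≫ ξ) ≫ (e N).inv = 0 := by
        rw [Category.assoc]
        exact h1
      exact (cancel_mono (e N).inv).1 (h2.trans Limits.zero_comp.symm))
    exact ⟨-h, by rw [hh, Preadditive.comp_neg, add_neg_cancel]⟩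
  · rintro ⟨h, hh⟩ N _ _ ξ
    have h1 := key.2 ⟨-h, by rw [Preadditive.comp_neg, eq_neg_iff_add_eq_zero, hh]⟩ (ModuleCat.of R N)
      (ξ ≫ (e (ModuleCat.of R N)).hom)
    have h2 : (DerivedCategory.Q.map a ≫ ξ) ≫ (e (ModuleCat.of R N)).hom = 0 := by
      rw [Category.assoc]
      exact h1
    exact (cancel_mono (e (ModuleCat.of R N)).hom).1 (h2.trans Limits.zero_comp.symm)

end Groth.Agent.S7106
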