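import Groth.Statements.S7114
import Mathlib.RingTheory.Length
import Mathlib.RingTheory.Ideal.Quotient.Basic

set_option autoImplicit false
universe u
open CAlg

namespace Groth.Agent.S7114

/-- Multiplication by `x` from `R/(xⁿ)` to `R/(xⁿ⁺¹)`. -/
noncomputable def mulMap {R : Type u} [CommRing R] (x : R) (n : ℕ) :
    (R ⧸ Ideal.span {x ^ n}) →ₗ[R] (R ⧸ Ideal.span {x ^ (n + 1)}) :=
  Submodule.mapQ _ _ (LinearMap.mulLeft R x) (by
    rw [Ideal.span_le]
    intro y hy
    rw [Set.mem_singleton_iff] at hy
    subst hy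
    show x * x ^ n ∈ Ideal.span {x ^ (n + 1)}
    rw [← pow_succ']
    exact Ideal.mem_span_singleton_self _)

/-- The projection from `R/(xⁿ⁺¹)` to `R/(x)`. -/
noncomputable def projMap {R : Type u} [CommRing R] (x : R) (n : ℕ) :
    (R ⧸ Ideal.span {x ^ (n + 1)}) →ₗ[R] (R ⧸ Ideal.span {x}) :=
  Submodule.mapQ _ _ LinearMap.id (by
    rw [Ideal.span_le]
    intro y hy
    rw [Set.mem_singleton_iff] at hy
    subst hy
    show x ^ (n + 1) ∈ Ideal.span {x}
    exact Ideal.pow_mem_of_mem _ (Ideal.mem_span_singleton_self _) _ (Nat.succ_pos n))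

theorem exact_mul_proj {R : Type u} [CommRing R] (x : R) (n : ℕ) :
    Function.Exact (mulMap x n) (projMap x n) := by
  intro y
  obtain ⟨y, rfl⟩ := Submodule.mkQ_surjective _ y
  constructor
  · intro h
    have h1 : (Submodule.mkQ (Ideal.span {x})) y = 0 := h
    rw [Submodule.mkQ_apply, Submodule.Quotient.mk_eq_zero, Ideal.mem_span_singleton] at h1
    obtain ⟨c, rfl⟩ := h1
    exact ⟨Submodule.mkQ _ c, rfl⟩
  · rintro ⟨z, hz⟩
    obtain ⟨z, rfl⟩ := Submodule.mkQ_surjective _ z
    rw [← hz]
    show (Submodule.mkQ (Ideal.span {x})) (x * z) = 0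
    rw [Submodule.mkQ_apply, Submodule.Quotient.mk_eq_zero, Ideal.mem_span_singleton]
    exact ⟨z, rfl⟩

theorem projMap_surjective {R : Type u} [CommRing R] (x : R) (n : ℕ) :
    Function.Surjective (projMap x n) := by
  intro y
  obtain ⟨y, rfl⟩ := Submodule.mkQ_surjective _ y
  exact ⟨Submodule.mkQ _ y, rfl⟩

theorem length_succ {R : Type u} [CommRing R] (x : R) (n : ℕ) :
    Module.length R (R ⧸ Ideal.span {x ^ (n + 1)}) =
      Module.length R (LinearMap.range (mulMap x n)) + Module.length R (R ⧸ Ideal.span {x}) := by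
  apply Module.length_eq_add_of_exact (LinearMap.range (mulMap x n)).subtype (projMap x n)
    Subtype.val_injective (projMap_surjective x n)
  rw [LinearMap.exact_iff, Submodule.range_subtype]
  exact LinearMap.exact_iff.1 (exact_mul_proj x n)

/-- Let R be a Noetherian local ring of Krull dimension one and x an element of the maximal ideal lying
in no minimal prime of R. Then for every n the length of R/xⁿR is at most n times the length of
R/xR, and equality holds when x is a nonzerodivisor. -/
theorem result (R : Type u) [CommRing R] [IsNoetherianRing R] [IsLocalRing R]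
    (hdim : ringKrullDim R = 1) (x : R) (hx : x ∈ IsLocalRing.maximalIdeal R)
    (hmin : ∀ p ∈ minimalPrimes R, x ∉ p) (n : ℕ) :
    Module.length R (R ⧸ Ideal.span {x ^ n}) ≤ (n : ℕ∞) * Module.length R (R ⧸ Ideal.span {x}) ∧
      (x ∈ nonZeroDivisors R →
        Module.length R (R ⧸ Ideal.span {x ^ n}) = (n : ℕ∞) * Module.length R (R ⧸ Ideal.span {x})) := by
  induction n with
  | zero =>
    have h0 : Module.length R (R ⧸ Ideal.span {x ^ 0}) = 0 := by
      rw [Module.length_eq_zero_iff]
      rw [pow_zero, Ideal.span_singleton_one]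
      exact Submodule.Quotient.subsingleton_iff.2 rfl
    rw [h0]
    simp
  | succ n ih =>
    rw [length_succ, Nat.cast_succ, add_mul, one_mul]
    constructor
    · refine add_le_add_left ?_ _
      exact (Module.length_le_of_surjective (mulMap x n).rangeRestrict
        (mulMap x n).surjective_rangeRestrict).trans ih.1
    · intro hreg
      congr 1
      rw [← ih.2 hreg]
      symm
      apply LinearEquiv.length_eq
      apply LinearEquiv.ofInjective
      rw [injective_iff_map_eq_zero]
      intro y hy
      obtain ⟨y, rfl⟩ := Submodule.mkQ_surjective _ y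
      have h1 : (Submodule.mkQ (Ideal.span {x ^ (n + 1)})) (x * y) = 0 := hy
      rw [Submodule.mkQ_apply, Submodule.Quotient.mk_eq_zero, Ideal.mem_span_singleton] at h1
      rw [Submodule.mkQ_apply, Submodule.Quotient.mk_eq_zero, Ideal.mem_span_singleton]
      obtain ⟨c, hc⟩ := h1
      refine ⟨c, ?_⟩
      rw [pow_succ', mul_assoc] at hc
      exact (mul_cancel_left_mem_nonZeroDivisors hreg).1 hc

end Groth.Agent.S7114
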