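import Groth.Statements.S7120
import Groth.Agent.CAlg.K65.Bezout

set_option autoImplicit false
universe u
open CAlg

namespace Groth.Agent.S7120

/-- Over a Bézout domain, a finitely generated submodule of a free module is itself free of finite rank. -/
theorem result (R : Type u) [CommRing R] [IsDomain R] [IsBezout R]
    (F : Type u) [AddCommGroup F] [Module R F] [Module.Free R F] (N : Submodule R F) (hN : N.FG) :
    Module.Free R N ∧ Module.Finite R N := by
  have hfin : Module.Finite R N := Module.Finite.of_fg hN
  refine ⟨K65.Bezout.free_of_torsionFree R N (fun r x h => ?_), hfin⟩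
  have h1 : r • (x : F) = 0 := congrArg Subtype.val h
  rcases smul_eq_zero.1 h1 with h2 | h2
  · exact Or.inl h2
  · exact Or.inr (Subtype.ext h2)

end Groth.Agent.S7120
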