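import Groth.Statements.S7121
import Groth.Agent.CAlg.K65.BezoutGlobal

set_option autoImplicit false
universe u
open CAlg

namespace Groth.Agent.S7121

open K65.SplitBasics

/-- Over a Bézout domain R, a finitely presented module M splits as R^r ⊕ M_tors for some r, and its
torsion part M_tors is a retract (direct summand) of R/f_1R ⊕ … ⊕ R/f_nR for some nonzero f_1, …,
f_n. -/
theorem result (R : Type u) [CommRing R] [IsDomain R] [IsBezout R]
    (M : Type u) [AddCommGroup M] [Module R M] [Module.FinitePresentation R M] :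
    (∃ r : ℕ, Nonempty (M ≃ₗ[R] ((Fin r → R) × Submodule.torsion R M))) ∧
      ∃ (n : ℕ) (f : Fin n → R), (∀ j, f j ≠ 0) ∧
        ∃ (i : Submodule.torsion R M →ₗ[R] ((j : Fin n) → R ⧸ Ideal.span {f j}))
          (p : ((j : Fin n) → R ⧸ Ideal.span {f j}) →ₗ[R] Submodule.torsion R M),
          p ∘ₗ i = LinearMap.id := by
  let T := Submodule.torsion R M
  have htf : ∀ (r : R) (x : M ⧸ T), r • x = 0 → r = 0 ∨ x = 0 := by
    intro r x h
    by_cases hr : r = 0
    · exact Or.inl hr
    · right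
      obtain ⟨y, rfl⟩ := Submodule.mkQ_surjective _ x
      rw [← map_smul, Submodule.mkQ_apply, Submodule.Quotient.mk_eq_zero] at h
      obtain ⟨c, hc⟩ := (Submodule.mem_torsion_iff _).1 h
      rw [Submodule.mkQ_apply, Submodule.Quotient.mk_eq_zero]
      refine (Submodule.mem_torsion_iff _).2 ⟨c * ⟨r, mem_nonZeroDivisors_of_ne_zero hr⟩, ?_⟩
      rw [mul_smul]
      exact hc
  have hfree : Module.Free R (M ⧸ T) := K65.Bezout.free_of_torsionFree R (M ⧸ T) htf
  obtain ⟨s, hs⟩ := Module.projective_lifting_property T.mkQ LinearMap.id T.mkQ_surjective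
  let e := equivProdKer s T.mkQ hs
  let e1 : (M ⧸ T) ≃ₗ[R] (Fin (Module.finrank R (M ⧸ T)) → R) :=
    (Module.finBasis R (M ⧸ T)).equivFun
  let e2 : LinearMap.ker T.mkQ ≃ₗ[R] T := LinearEquiv.ofEq _ _ (Submodule.ker_mkQ T)
  refine ⟨⟨_, ⟨e.symm.trans (e1.prodCongr e2)⟩⟩, ?_⟩
  have hfp : Module.FinitePresentation R T :=
    Module.finitePresentation_of_split_exact T.subtype T.mkQ s hs Subtype.val_injective
      (LinearMap.exact_subtype_mkQ T)
  apply K65.BezoutGlobal.exists_retract R T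
  rintro ⟨x, hx⟩
  obtain ⟨c, hc⟩ := (Submodule.mem_torsion_iff _).1 hx
  exact ⟨c, nonZeroDivisors.ne_zero c.2, Subtype.ext hc⟩

end Groth.Agent.S7121
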