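import Groth.Statements.S7122
import Groth.Agent.CAlg.K65.Bezout
import Mathlib.LinearAlgebra.Matrix.ToLin
import Mathlib.LinearAlgebra.Determinant
import Mathlib.LinearAlgebra.Dimension.Free
import Mathlib.LinearAlgebra.Dimension.Constructions
import Mathlib.LinearAlgebra.Matrix.NonsingularInverse

set_option autoImplicit false
universe u
open CAlg

namespace Groth.Agent.S7122

open K65.SplitBasics

/-- Let R be a Bézout domain, n ≥ 1, and f_1, ..., f_n elements generating the unit ideal. Then some
invertible n × n matrix over R has (f_1, ..., f_n) as its first row. -/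
theorem result (R : Type u) [CommRing R] [IsDomain R] [IsBezout R]
    (n : ℕ) (f : Fin (n + 1) → R) (hf : Ideal.span (Set.range f) = ⊤) :
    ∃ A : Matrix (Fin (n + 1)) (Fin (n + 1)) R, IsUnit A.det ∧ A 0 = f := by
  classical
  let φ : (Fin (n + 1) → R) →ₗ[R] R := Fintype.linearCombination R f
  have hφ : Function.Surjective φ := by
    rw [← LinearMap.range_eq_top, Fintype.range_linearCombination]
    exact hf
  obtain ⟨s, hs⟩ := Module.projective_lifting_property φ LinearMap.id hφ
  let e := equivProdKer s φ hs
  have he : ∀ v, (e.symm v).1 = φ v := by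
    intro v
    obtain ⟨⟨r, k⟩, rfl⟩ := e.surjective v
    rw [LinearEquiv.symm_apply_apply]
    show r = φ (s r + k.1)
    rw [map_add, show φ k.1 = 0 from k.2, add_zero]
    exact (LinearMap.congr_fun hs r).symm
  have hfin : Module.Finite R (LinearMap.ker φ) :=
    Module.Finite.of_surjective (LinearMap.snd R R (LinearMap.ker φ) ∘ₗ e.symm.toLinearMap)
      (fun y => ⟨e (0, y), by
        rw [LinearMap.comp_apply, LinearEquiv.coe_coe, LinearEquiv.symm_apply_apply]
        rfl⟩)
  have hfree : Module.Free R (LinearMap.ker φ) :=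
    K65.Bezout.free_of_injective R (n + 1) _ (LinearMap.ker φ).subtype Subtype.val_injective
  have hrank : Module.finrank R (LinearMap.ker φ) = n := by
    have h1 := LinearEquiv.finrank_eq e
    rw [Module.finrank_prod, Module.finrank_self, Module.finrank_fin_fun] at h1
    omega
  let b := Module.finBasisOfFinrankEq R (LinearMap.ker φ) hrank
  let e2 : (R × LinearMap.ker φ) ≃ₗ[R] (R × (Fin n → R)) :=
    (LinearEquiv.refl R R).prodCongr b.equivFun
  let e3 : (R × (Fin n → R)) ≃ₗ[R] (Fin (n + 1) → R) := Fin.consLinearEquiv R (fun _ => R)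
  let E : (Fin (n + 1) → R) ≃ₗ[R] (Fin (n + 1) → R) := (e.symm.trans e2).trans e3
  have hE : ∀ v, E v 0 = φ v := by
    intro v
    rw [← he v]
    rfl
  refine ⟨LinearMap.toMatrix' E.toLinearMap, ?_, ?_⟩
  · rw [LinearMap.det_toMatrix']
    exact LinearEquiv.isUnit_det' E
  · funext j
    rw [LinearMap.toMatrix'_apply]
    show E _ 0 = f j
    rw [hE, Fintype.linearCombination_apply]
    simp [Pi.single_apply]

end Groth.Agent.S7122
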