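import Groth.Statements.S7123
import Mathlib.LinearAlgebra.Quotient.Basic
import Mathlib.RingTheory.Ideal.Quotient.Operations

set_option autoImplicit false
universe u
open CAlg

namespace Groth.Agent.S7123

open DirectSum in
/-- For a module P over a ring R these two conditions are equivalent: (1) P is a retract (direct
summand) of a direct sum of cyclic modules R/fR, f ranging over R; (2) for every surjection of
R-modules π : B → C whose kernel A satisfies fA = A ∩ fB for every f in R, each linear map P → C
lifts through π. -/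
theorem result (R : Type u) [CommRing R] (P : Type u)
    [AddCommGroup P] [Module R P] :
    (∃ (ι : Type u) (f : ι → R) (i : P →ₗ[R] (⨁ j, R ⧸ Ideal.span {f j}))
        (p : (⨁ j, R ⧸ Ideal.span {f j}) →ₗ[R] P), p ∘ₗ i = LinearMap.id) ↔
      ∀ (B C : Type u) [AddCommGroup B] [Module R B] [AddCommGroup C] [Module R C] (π : B →ₗ[R] C),
        Function.Surjective π →
        (∀ (f : R) (b : B), π (f • b) = 0 → ∃ a : B, π a = 0 ∧ f • a = f • b) →
        ∀ ψ : P →ₗ[R] C, ∃ φ : P →ₗ[R] B, π ∘ₗ φ = ψ := by
  classical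
  constructor
  · rintro ⟨ι, f, i, p, hpi⟩ B C _ _ _ _ π hπ hrd ψ
    -- lift each generator
    have hlift : ∀ j : ι, ∃ b : B, π b = ψ (p (DirectSum.lof R ι (fun j => R ⧸ Ideal.span {f j}) j
        (Ideal.Quotient.mk _ 1))) ∧ f j • b = 0 := by
      intro j
      obtain ⟨b, hb⟩ := hπ (ψ (p (DirectSum.lof R ι (fun j => R ⧸ Ideal.span {f j}) j
        (Ideal.Quotient.mk _ 1))))
      have h0 : π (f j • b) = 0 := by
        rw [map_smul, hb, ← map_smul, ← map_smul, ← map_smul]
        have : f j • (Ideal.Quotient.mk (Ideal.span {f j}) 1) = 0 := by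
          change (Ideal.Quotient.mk (Ideal.span {f j}) (f j • 1)) = 0
          rw [Ideal.Quotient.eq_zero_iff_mem, smul_eq_mul, mul_one]
          exact Ideal.mem_span_singleton_self _
        rw [this, map_zero, map_zero, map_zero]
      obtain ⟨a, ha, hfa⟩ := hrd _ _ h0
      exact ⟨b - a, by rw [map_sub, ha, hb, sub_zero], by rw [smul_sub, hfa, sub_self]⟩
    choose b hb hfb using hlift
    let L : ∀ j : ι, (R ⧸ Ideal.span {f j}) →ₗ[R] B := fun j =>
      Submodule.liftQ (Ideal.span {f j}) (LinearMap.toSpanSingleton R B (b j)) (by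
        intro x hx
        obtain ⟨c, rfl⟩ := Ideal.mem_span_singleton'.mp hx
        rw [LinearMap.mem_ker, LinearMap.toSpanSingleton_apply, mul_smul, hfb, smul_zero])
    let T : (⨁ j, R ⧸ Ideal.span {f j}) →ₗ[R] B := DirectSum.toModule R ι B L
    refine ⟨T ∘ₗ i, ?_⟩
    have hT : π ∘ₗ T = ψ ∘ₗ p := by
      apply DirectSum.linearMap_ext
      intro j
      apply LinearMap.ext
      intro x
      obtain ⟨x, rfl⟩ := Ideal.Quotient.mk_surjective x
      have hx : (Ideal.Quotient.mk (Ideal.span {f j}) x) =
          x • (Ideal.Quotient.mk (Ideal.span {f j}) 1) := by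
        change _ = (Ideal.Quotient.mk (Ideal.span {f j}) (x • 1))
        rw [smul_eq_mul, mul_one]
      rw [hx, map_smul, map_smul]
      congr 1
      simp only [LinearMap.comp_apply, T, DirectSum.toModule_lof]
      rw [← hb]
      congr 1
      change (LinearMap.toSpanSingleton R B (b j)) 1 = b j
      rw [LinearMap.toSpanSingleton_apply, one_smul]
    rw [← LinearMap.comp_assoc, hT, LinearMap.comp_assoc, hpi, LinearMap.comp_id]
  · intro h
    let ι : Type u := {q : P × R // q.2 • q.1 = 0}
    let f : ι → R := fun q => q.1.2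
    let L : ∀ j : ι, (R ⧸ Ideal.span {f j}) →ₗ[R] P := fun j =>
      Submodule.liftQ (Ideal.span {f j}) (LinearMap.toSpanSingleton R P j.1.1) (by
        intro x hx
        obtain ⟨c, rfl⟩ := Ideal.mem_span_singleton'.mp hx
        rw [LinearMap.mem_ker, LinearMap.toSpanSingleton_apply, mul_smul]
        change c • (j.1.2 • j.1.1) = 0
        rw [j.2, smul_zero])
    let π : (⨁ j, R ⧸ Ideal.span {f j}) →ₗ[R] P := DirectSum.toModule R ι P L
    have hgen : ∀ j : ι, π (DirectSum.lof R ι (fun j => R ⧸ Ideal.span {f j}) j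
        (Ideal.Quotient.mk _ 1)) = j.1.1 := by
      intro j
      simp only [π, DirectSum.toModule_lof]
      change (LinearMap.toSpanSingleton R P j.1.1) 1 = _
      rw [LinearMap.toSpanSingleton_apply, one_smul]
    have hsurj : Function.Surjective π := fun x => ⟨_, hgen ⟨(x, 0), zero_smul _ _⟩⟩
    obtain ⟨i, hi⟩ := h _ _ π hsurj (by
      intro g b hgb
      let j : ι := ⟨(π b, g), by rw [← map_smul]; exact hgb⟩
      refine ⟨b - DirectSum.lof R ι (fun j => R ⧸ Ideal.span {f j}) j (Ideal.Quotient.mk _ 1), ?_, ?_⟩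
      · rw [map_sub, hgen, sub_self]
      · rw [smul_sub, ← map_smul]
        have : g • (Ideal.Quotient.mk (Ideal.span {f j}) 1) = 0 := by
          change (Ideal.Quotient.mk (Ideal.span {f j}) (g • 1)) = 0
          rw [Ideal.Quotient.eq_zero_iff_mem, smul_eq_mul, mul_one]
          exact Ideal.mem_span_singleton_self _
        rw [this, map_zero, sub_zero]) LinearMap.id
    exact ⟨ι, f, i, π, hi⟩

end Groth.Agent.S7123
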