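import Groth.Statements.S7124
import Mathlib.LinearAlgebra.Dimension.Finite
import Mathlib.LinearAlgebra.FiniteDimensional.Basic
import Mathlib.LinearAlgebra.Dimension.StrongRankCondition
import Mathlib.GroupTheory.Index
import Mathlib.Data.Finset.Max
import Mathlib.FieldTheory.Finiteness

set_option autoImplicit false
universe u
open CAlg

namespace Groth.Agent.S7124

open IsLocalRing

section

variable {A B K L : Type u} [CommRing A] [IsDomain A]
    [ValuationRing A] [CommRing B] [IsDomain B] [ValuationRing B] [Field K] [Field L]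
    [Algebra A K] [IsFractionRing A K] [Algebra B L] [IsFractionRing B L] [Algebra A B] [Algebra K L]
    [Algebra A L] [IsScalarTower A K L] [IsScalarTower A B L]

theorem exists_unit (z : L) (hz : ValuationRing.valuation B L z = 1) :
    ∃ u : Bˣ, algebraMap B L u = z := by
  have hz0 : z ≠ 0 := by
    rintro rfl
    rw [map_zero] at hz
    exact zero_ne_one hz
  have h1 : z ∈ (ValuationRing.valuation B L).integer := (Valuation.mem_integer_iff _ _).mpr hz.le
  have h2 : z⁻¹ ∈ (ValuationRing.valuation B L).integer :=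
    (Valuation.mem_integer_iff _ _).mpr (by rw [map_inv₀, hz, inv_one])
  obtain ⟨b, hb⟩ := (ValuationRing.mem_integer_iff B L z).mp h1
  obtain ⟨b', hb'⟩ := (ValuationRing.mem_integer_iff B L z⁻¹).mp h2
  have h3 : b * b' = 1 := by
    apply IsFractionRing.injective B L
    rw [map_mul, hb, hb', mul_inv_cancel₀ hz0, map_one]
  exact ⟨⟨b, b', h3, by rw [mul_comm]; exact h3⟩, hb⟩

theorem valuation_unit (u : Bˣ) : ValuationRing.valuation B L (algebraMap B L u) = 1 := by
  have h1 : ∀ b : B, ValuationRing.valuation B L (algebraMap B L b) ≤ 1 := fun b =>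
    (Valuation.mem_integer_iff _ _).mp ((ValuationRing.mem_integer_iff B L _).mpr ⟨b, rfl⟩)
  refine le_antisymm (h1 _) ?_
  have h2 : ValuationRing.valuation B L (algebraMap B L u) *
      ValuationRing.valuation B L (algebraMap B L (↑u⁻¹ : B)) = 1 := by
    rw [← map_mul, ← map_mul, Units.mul_inv, map_one, map_one]
  rw [← h2]
  calc _ ≤ ValuationRing.valuation B L (algebraMap B L u) * 1 := mul_le_mul_right (h1 _) _
    _ = _ := mul_one _

/-- A nontrivial combination of elements with independent residues is, up to an element of `K`,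
a unit of `B`. -/
theorem exists_unit_of_sum [IsLocalHom (algebraMap A B)] {ι : Type*} [Fintype ι] (y : ι → B)
    (hy : LinearIndependent (ResidueField A) (fun j => residue B (y j)))
    (c : ι → K) (hc : ∃ j, c j ≠ 0) :
    ∃ (c₀ : K) (u : Bˣ), c₀ ≠ 0 ∧ ∑ j, c j • algebraMap B L (y j) = algebraMap K L c₀ * algebraMap B L u := by
  classical
  obtain ⟨j₁, hj₁⟩ := hc
  obtain ⟨j₀, -, hj₀⟩ := Finset.exists_max_image Finset.univ (fun j => ValuationRing.valuation A K (c j))
    ⟨j₁, Finset.mem_univ _⟩
  have hc₀ : c j₀ ≠ 0 := by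
    intro h
    have h1 := hj₀ j₁ (Finset.mem_univ _)
    rw [h, map_zero, le_zero_iff, map_eq_zero] at h1
    exact hj₁ h1
  have ha : ∀ j, ∃ a : A, algebraMap A K a = c j / c j₀ := by
    intro j
    rw [← ValuationRing.mem_integer_iff, Valuation.mem_integer_iff, map_div₀]
    exact div_le_one_of_le₀ (hj₀ j (Finset.mem_univ _)) zero_le
  choose a ha using ha
  have ha₀ : a j₀ = 1 := by
    apply IsFractionRing.injective A K
    rw [ha, div_self hc₀, map_one]
  have hres : residue B (∑ j, algebraMap A B (a j) * y j) ≠ 0 := by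
    intro h0
    rw [map_sum] at h0
    have h1 : ∑ j, residue A (a j) • residue B (y j) = 0 := by
      rw [← h0]
      refine Finset.sum_congr rfl fun j _ => ?_
      rw [map_mul, Algebra.smul_def]
      rfl
    have h2 := (Fintype.linearIndependent_iff.mp hy) _ h1 j₀
    rw [ha₀, map_one] at h2
    exact one_ne_zero h2
  have hu : IsUnit (∑ j, algebraMap A B (a j) * y j) := by
    by_contra hcon
    exact hres ((residue_eq_zero_iff _).mpr hcon)
  obtain ⟨u, hu⟩ := hu
  refine ⟨c j₀, u, hc₀, ?_⟩
  rw [hu, map_sum, Finset.mul_sum]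
  refine Finset.sum_congr rfl fun j _ => ?_
  rw [map_mul, ← IsScalarTower.algebraMap_apply A B L, IsScalarTower.algebraMap_apply A K L, ha,
    ← mul_assoc, ← map_mul, mul_div_cancel₀ _ hc₀, Algebra.smul_def]

/-- The products `x_i y_j` are linearly independent. -/
theorem linearIndependent_mul [IsLocalHom (algebraMap A B)] {ι₁ ι₂ : Type*} [Fintype ι₁] [Fintype ι₂]
    (x : ι₁ → Lˣ)
    (hx : ∀ i i' : ι₁, (∃ (c : Kˣ) (u : Bˣ), (x i : L) = algebraMap K L c * algebraMap B L u * x i') → i = i')
    (y : ι₂ → B) (hy : LinearIndependent (ResidueField A) (fun j => residue B (y j))) :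
    LinearIndependent K (fun p : ι₁ × ι₂ => (x p.1 : L) * algebraMap B L (y p.2)) := by
  classical
  rw [Fintype.linearIndependent_iff]
  intro c hc
  let s : ι₁ → L := fun i => ∑ j, c (i, j) • algebraMap B L (y j)
  have hs : ∑ i, s i * x i = 0 := by
    rw [← hc, Fintype.sum_prod_type]
    refine Finset.sum_congr rfl fun i _ => ?_
    rw [Finset.sum_mul]
    refine Finset.sum_congr rfl fun j _ => ?_
    rw [smul_mul_assoc, mul_comm]
  -- the elements `s i` are all zero
  have hs0 : ∀ i, (∃ j, c (i, j) ≠ 0) → False := by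
    intro i₁ hi₁
    have hsu : ∀ i, (∃ j, c (i, j) ≠ 0) →
        ∃ (c₀ : K) (u : Bˣ), c₀ ≠ 0 ∧ s i = algebraMap K L c₀ * algebraMap B L u := fun i hi =>
      exists_unit_of_sum (A := A) y hy (fun j => c (i, j)) hi
    have hs' : ∀ i, (¬ ∃ j, c (i, j) ≠ 0) → s i = 0 := by
      intro i hi
      push Not at hi
      exact Finset.sum_eq_zero fun j _ => by rw [hi, zero_smul]
    let v := ValuationRing.valuation B L
    obtain ⟨i₀, -, hi₀⟩ := Finset.exists_max_image Finset.univ (fun i => v (s i * x i))
      ⟨i₁, Finset.mem_univ _⟩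
    have hne : v (s i₀ * x i₀) ≠ 0 := by
      intro h
      have h1 := hi₀ i₁ (Finset.mem_univ _)
      rw [h, le_zero_iff, map_eq_zero] at h1
      obtain ⟨c₀, u, hc₀, hu⟩ := hsu i₁ hi₁
      rw [hu] at h1
      rcases mul_eq_zero.mp h1 with h2 | h2
      · rcases mul_eq_zero.mp h2 with h3 | h3
        · exact hc₀ ((map_eq_zero _).mp h3)
        · exact u.ne_zero (IsFractionRing.injective B L (by rw [h3, map_zero]))
      · exact (x i₁).ne_zero h2
    have hi₀' : ∃ j, c (i₀, j) ≠ 0 := by
      by_contra hcon
      rw [hs' i₀ hcon, zero_mul, map_zero] at hne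
      exact hne rfl
    obtain ⟨c₀, u₀, hc₀, hu₀⟩ := hsu i₀ hi₀'
    have hlt : ∀ i ∈ Finset.univ.erase i₀, v (s i * x i) < v (s i₀ * x i₀) := by
      intro i hi
      refine lt_of_le_of_ne (hi₀ i (Finset.mem_univ _)) fun heq => ?_
      have hii : i ≠ i₀ := Finset.ne_of_mem_erase hi
      by_cases hi' : ∃ j, c (i, j) ≠ 0
      · obtain ⟨c₁, u₁, hc₁, hu₁⟩ := hsu i hi'
        have h3 : v (s i * x i / (s i₀ * x i₀)) = 1 := by
          rw [map_div₀, heq, div_self hne]
        obtain ⟨w, hw⟩ := exists_unit (B := B) _ h3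
        apply hii
        apply hx i i₀
        refine ⟨Units.mk0 (c₀ / c₁) (div_ne_zero hc₀ hc₁), w * u₀ * u₁⁻¹, ?_⟩
        have hz : s i₀ * x i₀ ≠ 0 := fun h => hne (by rw [h, map_zero])
        have h4 : s i * x i = algebraMap B L w * (s i₀ * x i₀) := by
          rw [hw, div_mul_cancel₀ _ hz]
        rw [hu₁, hu₀] at h4
        have hc₁' : algebraMap K L c₁ ≠ 0 := fun h => hc₁ ((map_eq_zero _).mp h)
        have hu₁' : algebraMap B L (u₁ : B) ≠ 0 := fun h =>
          u₁.ne_zero (IsFractionRing.injective B L (by rw [h, map_zero]))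
        have h5 : algebraMap B L (u₁ : B) * algebraMap B L ((u₁⁻¹ : Bˣ) : B) = 1 := by
          rw [← map_mul, Units.mul_inv, map_one]
        apply mul_left_cancel₀ (mul_ne_zero hc₁' hu₁')
        rw [h4, Units.val_mk0, Units.val_mul, Units.val_mul, map_mul, map_mul, map_div₀]
        have h6 : algebraMap K L c₁ * (algebraMap K L c₀ / algebraMap K L c₁) = algebraMap K L c₀ :=
          mul_div_cancel₀ _ hc₁'
        linear_combination (-(algebraMap B L (w : B) * algebraMap B L (u₀ : B) * (x i₀ : L) *
          algebraMap K L c₀)) * h5 - (algebraMap B L (w : B) * algebraMap B L (u₀ : B) * (x i₀ : L) *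
          algebraMap B L (u₁ : B) * algebraMap B L ((u₁⁻¹ : Bˣ) : B)) * h6
      · rw [hs' i hi', zero_mul, map_zero] at heq
        exact hne heq.symm
    have hsum : s i₀ * x i₀ = -∑ i ∈ Finset.univ.erase i₀, s i * x i := by
      rw [← Finset.add_sum_erase Finset.univ _ (Finset.mem_univ i₀)] at hs
      exact eq_neg_of_add_eq_zero_left hs
    have h6 := Valuation.map_sum_lt v hne hlt
    have h7 : v (s i₀ * x i₀) = v (∑ i ∈ Finset.univ.erase i₀, s i * x i) := by
      rw [hsum, Valuation.map_neg]
    exact absurd h7 h6.ne'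
  rintro ⟨i, j⟩
  by_contra hcon
  exact hs0 i ⟨j, hcon⟩

end

/-- Let A ⊆ B be an extension of valuation rings (both valuation domains, the inclusion injective and
local) with fraction fields K ⊆ L such that L/K is finite. Then the residue field of B is finite
over that of A, the value group of A has finite index in the value group of B, and (index of value
groups) · (residue degree) ≤ [L : K]. Here the value group of B is written as Lˣ modulo the units of
B, and that of A as the image of Kˣ in it. -/
theorem result (A B K L : Type u) [CommRing A] [IsDomain A]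
    [ValuationRing A] [CommRing B] [IsDomain B] [ValuationRing B] [Field K] [Field L]
    [Algebra A K] [IsFractionRing A K] [Algebra B L] [IsFractionRing B L] [Algebra A B] [Algebra K L]
    [Algebra A L] [IsScalarTower A K L] [IsScalarTower A B L] (hinj : Function.Injective (algebraMap A B))
    [IsLocalHom (algebraMap A B)] [FiniteDimensional K L] :
    let UB : Subgroup Lˣ := (Units.map (algebraMap B L).toMonoidHom).range
    let ΓA : Subgroup (Lˣ ⧸ UB) := ((QuotientGroup.mk' UB).comp (Units.map (algebraMap K L).toMonoidHom)).range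
    Module.Finite (IsLocalRing.ResidueField A) (IsLocalRing.ResidueField B) ∧ ΓA.index ≠ 0 ∧
      ΓA.index * Module.finrank (IsLocalRing.ResidueField A) (IsLocalRing.ResidueField B) ≤
        Module.finrank K L := by
  classical
  intro UB ΓA
  -- representatives of the cosets
  have hrep : ∀ q : (Lˣ ⧸ UB) ⧸ ΓA, ∃ x : Lˣ, (QuotientGroup.mk (QuotientGroup.mk x : Lˣ ⧸ UB) : (Lˣ ⧸ UB) ⧸ ΓA) = q := by
    intro q
    obtain ⟨y, rfl⟩ := QuotientGroup.mk_surjective q
    obtain ⟨x, rfl⟩ := QuotientGroup.mk_surjective y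
    exact ⟨x, rfl⟩
  choose rep hrep using hrep
  have hdist : ∀ q q' : (Lˣ ⧸ UB) ⧸ ΓA,
      (∃ (c : Kˣ) (u : Bˣ), (rep q : L) = algebraMap K L c * algebraMap B L u * rep q') → q = q' := by
    rintro q q' ⟨c, u, h⟩
    rw [← hrep q, ← hrep q']
    rw [eq_comm, QuotientGroup.eq]
    refine ⟨c, ?_⟩
    rw [MonoidHom.comp_apply, QuotientGroup.mk'_apply, ← QuotientGroup.mk_inv, ← QuotientGroup.mk_mul,
      QuotientGroup.eq]
    refine ⟨u, ?_⟩
    apply Units.ext
    have hc : algebraMap K L (c : K) ≠ 0 := fun h => c.ne_zero ((map_eq_zero _).mp h)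
    have hq' : (rep q' : L) ≠ 0 := (rep q').ne_zero
    simp only [Units.val_mul, Units.coe_map, Units.val_inv_eq_inv_val]
    change algebraMap B L u = (algebraMap K L c)⁻¹ * ((rep q' : L)⁻¹ * rep q)
    rw [h]
    field_simp
  -- a finite family in each direction
  have hbound : ∀ (s : Finset ((Lˣ ⧸ UB) ⧸ ΓA)) (ι : Type u) (_ : Fintype ι) (y : ι → ResidueField B),
      LinearIndependent (ResidueField A) y → s.card * Fintype.card ι ≤ Module.finrank K L := by
    intro s ι _ y hy
    choose y' hy' using fun j => residue_surjective (y j)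
    have hy'' : LinearIndependent (ResidueField A) (fun j => residue B (y' j)) := by
      have : (fun j => residue B (y' j)) = y := funext hy'
      rw [this]
      exact hy
    have h1 := linearIndependent_mul (A := A) (K := K) (ι₁ := s) (fun q : s => rep q.1)
      (fun q q' h => Subtype.ext (hdist q.1 q'.1 h)) y' hy''
    have h2 := h1.fintype_card_le_finrank
    rwa [Fintype.card_prod, Fintype.card_coe] at h2
  have hfin : Finite ((Lˣ ⧸ UB) ⧸ ΓA) := by
    by_contra hcon
    rw [not_finite_iff_infinite] at hcon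
    obtain ⟨s, hs⟩ := Infinite.exists_subset_card_eq ((Lˣ ⧸ UB) ⧸ ΓA) (Module.finrank K L + 1)
    have hone : LinearIndependent (ResidueField A) (fun _ : PUnit.{u + 1} => (1 : ResidueField B)) := by
      rw [linearIndependent_unique_iff]
      exact one_ne_zero
    have h1 := hbound s PUnit inferInstance (fun _ => 1) hone
    rw [Fintype.card_punit, mul_one, hs] at h1
    omega
  have hrank : Module.rank (ResidueField A) (ResidueField B) ≤ (Module.finrank K L : Cardinal) := by
    apply rank_le
    intro s hs
    have h1 := hbound {QuotientGroup.mk (1 : Lˣ ⧸ UB)} s inferInstance (fun i => (i : ResidueField B)) hs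
    rwa [Finset.card_singleton, one_mul, Fintype.card_coe] at h1
  have hmf : Module.Finite (ResidueField A) (ResidueField B) := by
    rw [← IsNoetherian.iff_fg, IsNoetherian.iff_rank_lt_aleph0]
    exact hrank.trans_lt (Cardinal.natCast_lt_aleph0)
  have := Fintype.ofFinite ((Lˣ ⧸ UB) ⧸ ΓA)
  refine ⟨hmf, ?_, ?_⟩
  · exact Subgroup.index_ne_zero_of_finite
  · let b := Module.finBasis (ResidueField A) (ResidueField B)
    have h1 := hbound Finset.univ (ULift (Fin (Module.finrank (ResidueField A) (ResidueField B))))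
      inferInstance (fun i => b i.down) (b.linearIndependent.comp _ ULift.down_injective)
    rw [Finset.card_univ, Fintype.card_ulift, Fintype.card_fin] at h1
    rw [Subgroup.index_eq_card, Nat.card_eq_fintype_card]
    exact h1

end Groth.Agent.S7124
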