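import Groth.Statements.S7125
import Groth.Agent.Sga3.H805.FlatHartogs
import Groth.Agent.Etalg.NormalDvr
import Mathlib.RingTheory.Flat.FaithfullyFlat.Algebra

set_option autoImplicit false
universe u
open CAlg

namespace Groth.Agent.S7125

open IsLocalRing

/-- If `R` is a local noetherian domain whose maximal ideal is generated by a non-zero element `ρ` then `R` is a
DVR with uniformiser `ρ`. -/
theorem dvr_of_span {R : Type u} [CommRing R] [IsDomain R] [IsLocalRing R] [IsNoetherianRing R] {ρ : R}
    (hρ : ρ ≠ 0) (hmax : maximalIdeal R = Ideal.span {ρ}) :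
    IsDiscreteValuationRing R ∧ Irreducible ρ := by
  have hnf : ¬ IsField R := by
    rw [IsLocalRing.isField_iff_maximalIdeal_eq, hmax, Ideal.span_singleton_eq_bot]
    exact hρ
  have h1 : IsDiscreteValuationRing R := by
    refine ((IsDiscreteValuationRing.TFAE R hnf).out 0 4).mpr ?_
    exact ⟨⟨ρ, hmax⟩⟩
  exact ⟨h1, (IsDiscreteValuationRing.irreducible_iff_uniformizer ρ).mpr hmax⟩

section

variable {A B : Type u} [CommRing A] [IsDomain A]
    [IsNoetherianRing A] [IsLocalRing A] [IsIntegrallyClosed A] [CommRing B] [IsDomain B] [IsNoetherianRing B]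
    [IsLocalRing B] [IsIntegrallyClosed B] [Algebra A B] [IsLocalHom (algebraMap A B)] [Module.Flat A B]

/-- At an associated prime of `A/fA` the order of `f` is divisible by `n`. -/
theorem local_data {f : A} (hf0 : f ≠ 0) (h : B) (n : ℕ) (w : Bˣ) (hf : algebraMap A B f = (w : B) * h ^ n)
    (hram : ∀ (p : Ideal A) [p.IsPrime], p.height = 1 →
      ∃ (q : Ideal B) (_ : q.IsPrime), q.height = 1 ∧ q.comap (algebraMap A B) = p ∧
        Ideal.map (algebraMap B (Localization.AtPrime q)) (Ideal.map (algebraMap A B) p) =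
          IsLocalRing.maximalIdeal (Localization.AtPrime q))
    (p : Ideal A) (hp : p ∈ associatedPrimes A (A ⧸ Ideal.span {f})) :
    ∃ (π s s' : A) (m : ℕ), s ∉ p ∧ s' ∉ p ∧ s * f = s' * π ^ (n * m) := by
  have hpp : p.IsPrime := hp.isPrime
  have hdvr := Sga3.H805.FlatHartogs.isDiscreteValuationRing_of_mem_associatedPrimes hf0 hp
  have hht := Etalg.NormalDvr.height_eq_one_of_dvr A p hdvr
  obtain ⟨q, hq, -, hcomap, hmax⟩ := hram p hht
  have : Module.FaithfullyFlat A B := Module.FaithfullyFlat.of_flat_of_isLocalHom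
  have hinj : Function.Injective (algebraMap A B) := FaithfulSMul.algebraMap_injective A B
  have hinjA : Function.Injective (algebraMap A (Localization.AtPrime p)) :=
    IsLocalization.injective _ p.primeCompl_le_nonZeroDivisors
  have hinjB : Function.Injective (algebraMap B (Localization.AtPrime q)) :=
    IsLocalization.injective _ q.primeCompl_le_nonZeroDivisors
  -- the uniformiser of `A_p`
  obtain ⟨ϖ, hϖ⟩ := IsDiscreteValuationRing.exists_irreducible (Localization.AtPrime p)
  obtain ⟨π, t, hπ⟩ := IsLocalization.exists_mk'_eq p.primeCompl ϖ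
  have hπ' : ϖ * algebraMap A (Localization.AtPrime p) t = algebraMap A (Localization.AtPrime p) π := by
    rw [← hπ, IsLocalization.mk'_spec]
  have ht : IsUnit (algebraMap A (Localization.AtPrime p) t) := IsLocalization.map_units _ t
  have hirr : Irreducible (algebraMap A (Localization.AtPrime p) π) := by
    rw [← hπ']
    obtain ⟨v, hv⟩ := ht
    rw [← hv]
    exact (irreducible_mul_units v).mpr hϖ
  have hmaxA : maximalIdeal (Localization.AtPrime p) = Ideal.span {algebraMap A (Localization.AtPrime p) π} :=
    hirr.maximalIdeal_eq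
  have hπ0 : π ≠ 0 := by
    rintro rfl
    rw [map_zero] at hirr
    exact not_irreducible_zero hirr
  obtain ⟨k, u, hu⟩ := IsDiscreteValuationRing.eq_unit_mul_pow_irreducible
    (x := algebraMap A (Localization.AtPrime p) f) (fun h => hf0 (hinjA (by rw [h, map_zero]))) hirr
  obtain ⟨a, s, has⟩ := IsLocalization.exists_mk'_eq p.primeCompl (u : Localization.AtPrime p)
  have h1 : (s : A) * f = a * π ^ k := by
    apply hinjA
    rw [map_mul, map_mul, hu, ← has, ← mul_assoc, map_pow, mul_comm _ (IsLocalization.mk' _ _ _),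
      IsLocalization.mk'_spec]
  have ha : a ∉ p := by
    intro hcon
    have h2 : algebraMap A (Localization.AtPrime p) a ∈ maximalIdeal (Localization.AtPrime p) :=
      (IsLocalization.AtPrime.to_map_mem_maximal_iff _ p a).mpr hcon
    have h3 : (u : Localization.AtPrime p) * algebraMap A (Localization.AtPrime p) s =
        algebraMap A (Localization.AtPrime p) a := by
      rw [← has, IsLocalization.mk'_spec]
    rw [← h3] at h2
    exact h2 (u.isUnit.mul (IsLocalization.map_units _ s))
  -- the uniformiser of `B_q`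
  have hunit : ∀ c : A, c ∉ p → IsUnit (algebraMap B (Localization.AtPrime q) (algebraMap A B c)) := by
    intro c hc
    refine IsLocalization.map_units (Localization.AtPrime q) (⟨algebraMap A B c, ?_⟩ : q.primeCompl)
    intro hcon
    apply hc
    rw [← hcomap]
    exact hcon
  have hpπ : ∀ r ∈ p, ∃ t c : A, t ∉ p ∧ t * r = π * c := by
    intro r hr
    have h2 : algebraMap A (Localization.AtPrime p) r ∈ maximalIdeal (Localization.AtPrime p) :=
      (IsLocalization.AtPrime.to_map_mem_maximal_iff _ p r).mpr hr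
    rw [hmaxA, Ideal.mem_span_singleton'] at h2
    obtain ⟨y, hy⟩ := h2
    obtain ⟨c, t, hct⟩ := IsLocalization.exists_mk'_eq p.primeCompl y
    refine ⟨t, c, t.2, ?_⟩
    apply hinjA
    rw [map_mul, map_mul, ← hy, ← hct, mul_left_comm, ← mul_assoc, IsLocalization.mk'_spec, mul_comm]
  have hmaxB : maximalIdeal (Localization.AtPrime q) =
      Ideal.span {algebraMap B (Localization.AtPrime q) (algebraMap A B π)} := by
    apply le_antisymm
    · rw [← hmax, Ideal.map_map, Ideal.map_le_iff_le_comap]
      intro r hr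
      obtain ⟨t, c, ht, htc⟩ := hpπ r hr
      rw [Ideal.mem_comap, RingHom.comp_apply, Ideal.mem_span_singleton]
      rw [← (hunit t ht).dvd_mul_left, ← map_mul, ← map_mul, htc, map_mul, map_mul]
      exact dvd_mul_right _ _
    · rw [Ideal.span_singleton_le_iff_mem, ← hmax]
      apply Ideal.mem_map_of_mem
      apply Ideal.mem_map_of_mem
      have h2 : algebraMap A (Localization.AtPrime p) π ∈ maximalIdeal (Localization.AtPrime p) := by
        rw [hmaxA]
        exact Ideal.mem_span_singleton_self _
      exact (IsLocalization.AtPrime.to_map_mem_maximal_iff _ p π).mp h2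
  have hρ0 : algebraMap B (Localization.AtPrime q) (algebraMap A B π) ≠ 0 := by
    intro hcon
    exact hπ0 (hinj (hinjB (by rw [hcon, map_zero, map_zero])))
  obtain ⟨hdvrB, hirrB⟩ := dvr_of_span hρ0 hmaxB
  have hh0 : h ≠ 0 ∨ n = 0 := by
    by_contra hcon
    push Not at hcon
    rw [hcon.1, zero_pow hcon.2, mul_zero] at hf
    exact hf0 (hinj (by rw [hf, map_zero]))
  have hk : ∃ m, k = n * m := by
    have h2 : algebraMap B (Localization.AtPrime q) (algebraMap A B s) *
        (algebraMap B (Localization.AtPrime q) w * algebraMap B (Localization.AtPrime q) h ^ n) =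
        algebraMap B (Localization.AtPrime q) (algebraMap A B a) *
          algebraMap B (Localization.AtPrime q) (algebraMap A B π) ^ k := by
      rw [← map_pow, ← map_mul (algebraMap B (Localization.AtPrime q)) (w : B), ← hf, ← map_mul, ← map_mul, h1,
        map_mul, map_mul, map_pow, map_pow]
    obtain ⟨us, hus⟩ := hunit s s.2
    obtain ⟨ua, hua⟩ := hunit a ha
    obtain ⟨uw, huw⟩ := (w.isUnit.map (algebraMap B (Localization.AtPrime q)))
    rw [← hus, ← hua, ← huw] at h2
    rcases hh0 with hh0 | rfl
    · obtain ⟨l, v, hv⟩ := IsDiscreteValuationRing.eq_unit_mul_pow_irreducible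
        (x := algebraMap B (Localization.AtPrime q) h) (fun h' => hh0 (hinjB (by rw [h', map_zero]))) hirrB
      refine ⟨l, ?_⟩
      rw [hv, mul_pow, ← pow_mul] at h2
      refine (IsDiscreteValuationRing.unit_mul_pow_congr_pow hirrB hirrB (us * uw * v ^ n) ua (l * n) k ?_).symm.trans
        (mul_comm _ _)
      rw [← h2]
      push_cast
      ring
    · refine ⟨0, ?_⟩
      refine (IsDiscreteValuationRing.unit_mul_pow_congr_pow hirrB hirrB (us * uw) ua 0 k ?_).symm.trans
        (mul_zero _).symm
      rw [← h2]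
      push_cast
      ring
  obtain ⟨m, rfl⟩ := hk
  exact ⟨π, s, a, m, s.2, ha, h1⟩

end

/-- Let A and B be Noetherian local normal domains and A → B a flat homomorphism that is local, and let
f in A, h in B, n > 1 and a unit w of B satisfy f = w·hⁿ in B. Assume that for every height-one
prime p of A there is a height-one prime q of B lying over p such that A_p ⊆ B_q is weakly
unramified, i.e. p generates the maximal ideal of B_q. Then f = u·gⁿ for some g in A and some unit u
of A. -/
theorem result (A B : Type u) [CommRing A] [IsDomain A]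
    [IsNoetherianRing A] [IsLocalRing A] [IsIntegrallyClosed A] [CommRing B] [IsDomain B] [IsNoetherianRing B]
    [IsLocalRing B] [IsIntegrallyClosed B] [Algebra A B] [IsLocalHom (algebraMap A B)] [Module.Flat A B]
    (f : A) (h : B) (n : ℕ) (hn : 1 < n) (w : Bˣ) (hf : algebraMap A B f = (w : B) * h ^ n)
    (hram : ∀ (p : Ideal A) [p.IsPrime], p.height = 1 →
      ∃ (q : Ideal B) (_ : q.IsPrime), q.height = 1 ∧ q.comap (algebraMap A B) = p ∧
        Ideal.map (algebraMap B (Localization.AtPrime q)) (Ideal.map (algebraMap A B) p) =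
          IsLocalRing.maximalIdeal (Localization.AtPrime q)) :
    ∃ (g : A) (u : Aˣ), f = (u : A) * g ^ n := by
  classical
  have hff : Module.FaithfullyFlat A B := Module.FaithfullyFlat.of_flat_of_isLocalHom
  have hinj : Function.Injective (algebraMap A B) := FaithfulSMul.algebraMap_injective A B
  have hn0 : n ≠ 0 := by omega
  by_cases hf0 : f = 0
  · exact ⟨0, 1, by rw [hf0, zero_pow hn0, mul_zero]⟩
  have hh0 : h ≠ 0 := by
    rintro rfl
    rw [zero_pow hn0, mul_zero] at hf
    exact hf0 (hinj (by rw [hf, map_zero]))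
  -- `n`-th roots in `B`
  have hroot : ∀ (x y : B), y ^ n ∣ x ^ n → y ∣ x := fun x y hxy =>
    (IsIntegrallyClosed.pow_dvd_pow_iff hn0).mp hxy
  have hfin : (associatedPrimes A (A ⧸ Ideal.span {f})).Finite := associatedPrimes.finite A _
  have := hfin.fintype
  let ι := (associatedPrimes A (A ⧸ Ideal.span {f}) : Set (Ideal A))
  have hdata : ∀ i : ι, ∃ (π s s' : A) (m : ℕ), s ∉ i.1 ∧ s' ∉ i.1 ∧ s * f = s' * π ^ (n * m) :=
    fun i => local_data hf0 h n w hf hram i.1 i.2
  choose π s s' m hs hs' hsf using hdata
  -- `h` satisfies the equations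
  have hsh : ∀ i, ∃ c : B, algebraMap A B (s i) * h = algebraMap A B (π i ^ m i) * c := by
    intro i
    apply hroot
    have h1 : (algebraMap A B (s i) * h) ^ n =
        algebraMap A B (s i) ^ (n - 1) * (↑w⁻¹ : B) * algebraMap A B (s' i) * algebraMap A B (π i ^ m i) ^ n := by
      have h2 : algebraMap A B (s i) * (w * h ^ n) = algebraMap A B (s' i) * algebraMap A B (π i) ^ (n * m i) := by
        rw [← hf, ← map_mul, hsf, map_mul, map_pow]
      have h3 : algebraMap A B (s i) ^ n = algebraMap A B (s i) ^ (n - 1) * algebraMap A B (s i) := by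
        rw [← pow_succ, Nat.sub_add_cancel (by omega)]
      have h4 : (↑w⁻¹ : B) * w = 1 := Units.inv_mul w
      rw [mul_pow, h3, map_pow, ← pow_mul, mul_comm (m i) n]
      calc _ = algebraMap A B (s i) ^ (n - 1) * ((↑w⁻¹ : B) * w) * (algebraMap A B (s i) * h ^ n) := by
            rw [h4]; ring
        _ = algebraMap A B (s i) ^ (n - 1) * (↑w⁻¹ : B) * (algebraMap A B (s i) * (w * h ^ n)) := by ring
        _ = _ := by rw [h2]; ring
    rw [h1]
    exact dvd_mul_left _ _
  choose c hc using hsh
  -- use flatness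
  let F : (ι →₀ A) →ₗ[A] (Option ι →₀ A) :=
    Finsupp.lift (Option ι →₀ A) A ι (fun i => Finsupp.single none (s i) - Finsupp.single (some i) (π i ^ m i))
  let X : (Option ι →₀ A) →ₗ[A] B :=
    Finsupp.lift B A (Option ι) (fun o => o.elim h c)
  have hXF : X ∘ₗ F = 0 := by
    ext i
    simp only [LinearMap.comp_apply, Finsupp.lsingle_apply, F, X, Finsupp.lift_apply, LinearMap.zero_apply]
    rw [Finsupp.sum_single_index (by rw [zero_smul]), one_smul, Finsupp.sum_sub_index (by
      intro a b1 b2; rw [sub_smul]), Finsupp.sum_single_index (by rw [zero_smul]),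
      Finsupp.sum_single_index (by rw [zero_smul])]
    rw [Option.elim_none, Option.elim_some, Algebra.smul_def, Algebra.smul_def, hc, sub_self]
  obtain ⟨k, a, y, hya, haF⟩ := Module.Flat.exists_factorization_of_comp_eq_zero_of_free hXF
  -- the elements `a j`
  have hh : h = ∑ j, a (Finsupp.single none 1) j • y (Finsupp.single j 1) := by
    have h1 : X (Finsupp.single none 1) = h := by
      simp only [X, Finsupp.lift_apply]
      rw [Finsupp.sum_single_index (by rw [zero_smul]), one_smul, Option.elim_none]
    rw [← h1, hya, LinearMap.comp_apply]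
    conv_lhs => rw [← Finsupp.univ_sum_single (a (Finsupp.single none 1)), map_sum]
    refine Finset.sum_congr rfl fun j _ => ?_
    rw [← map_smul, Finsupp.smul_single, smul_eq_mul, mul_one]
  have hJ : ∀ j i, s i * a (Finsupp.single none 1) j = π i ^ m i * a (Finsupp.single (some i) 1) j := by
    intro j i
    have h1 : a (F (Finsupp.single i 1)) = 0 := by
      rw [← LinearMap.comp_apply, haF, LinearMap.zero_apply]
    simp only [F, Finsupp.lift_apply] at h1
    rw [Finsupp.sum_single_index (by rw [zero_smul]), one_smul, map_sub] at h1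
    have h2 : Finsupp.single (none : Option ι) (s i) = s i • Finsupp.single none 1 := by
      rw [Finsupp.smul_single, smul_eq_mul, mul_one]
    have h3 : Finsupp.single (some i : Option ι) (π i ^ m i) = (π i ^ m i) • Finsupp.single (some i) 1 := by
      rw [Finsupp.smul_single, smul_eq_mul, mul_one]
    rw [h2, h3, map_smul, map_smul, sub_eq_zero] at h1
    have h4 := congrArg (fun z => z j) h1
    simpa using h4
  -- each such element is divisible by `h`
  have hdvd : ∀ b : A, (∀ i, ∃ e, s i * b = π i ^ m i * e) → f ∣ b ^ n := by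
    intro b hb
    rw [← Ideal.mem_span_singleton, ← Ideal.Quotient.eq_zero_iff_mem]
    by_contra hcon
    obtain ⟨P, hP, hle⟩ := exists_le_isAssociatedPrime_of_isNoetherianRing A
      (Ideal.Quotient.mk (Ideal.span {f}) (b ^ n)) hcon
    obtain ⟨i, rfl⟩ : ∃ i : ι, i.1 = P := ⟨⟨P, hP⟩, rfl⟩
    obtain ⟨e, he⟩ := hb i
    have hPp : i.1.IsPrime := hP.isPrime
    have h1 : s' i * s i ^ n ∈ i.1 := by
      apply hle
      rw [Submodule.mem_colon_singleton, Submodule.mem_bot, ← Ideal.Quotient.mk_eq_mk, ← Submodule.Quotient.mk_smul,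
        Ideal.Quotient.mk_eq_mk, Ideal.Quotient.eq_zero_iff_mem, Ideal.mem_span_singleton]
      refine ⟨s i * e ^ n, ?_⟩
      rw [smul_eq_mul, mul_assoc, ← mul_pow, he, mul_pow, ← pow_mul, mul_comm (m _) n, ← mul_assoc, ← hsf]
      ring
    rcases hPp.mem_or_mem h1 with h2 | h2
    · exact hs' _ h2
    · exact hs _ (hPp.mem_of_pow_mem _ h2)
  have hdvd' : ∀ j, ∃ d : B, algebraMap A B (a (Finsupp.single none 1) j) = h * d := by
    intro j
    apply hroot
    obtain ⟨e, he⟩ := hdvd (a (Finsupp.single none 1) j) (fun i => ⟨_, hJ j i⟩)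
    refine ⟨w * algebraMap A B e, ?_⟩
    rw [← map_pow, he, map_mul, hf]
    ring
  choose d hd using hdvd'
  have hsum : ∑ j, d j * y (Finsupp.single j 1) = 1 := by
    apply mul_left_cancel₀ hh0
    rw [mul_one]
    conv_rhs => rw [hh]
    rw [Finset.mul_sum]
    refine Finset.sum_congr rfl fun j _ => ?_
    rw [Algebra.smul_def, hd, mul_assoc]
  have hunit : ∃ j, IsUnit (d j) := by
    by_contra hcon
    push Not at hcon
    have h1 : (∑ j, d j * y (Finsupp.single j 1)) ∈ maximalIdeal B :=
      Ideal.sum_mem _ fun j _ => Ideal.mul_mem_right _ _ ((mem_maximalIdeal _).mpr (hcon j))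
    rw [hsum] at h1
    exact (Ideal.ne_top_iff_one _).mp (maximalIdeal.isMaximal B).ne_top h1
  obtain ⟨j, v, hv⟩ := hunit
  refine ⟨a (Finsupp.single none 1) j, ?_⟩
  set g := a (Finsupp.single none 1) j with hg
  have hgh : algebraMap A B g = h * v := by rw [hd, hv]
  obtain ⟨e, he⟩ : f ∣ g ^ n := hdvd g (fun i => ⟨_, hJ j i⟩)
  have heu : IsUnit e := by
    have h1 : IsUnit (algebraMap A B e) := by
      have h2 : (w : B) * algebraMap A B e = (v : B) ^ n := by
        apply mul_left_cancel₀ (pow_ne_zero n hh0)
        rw [← mul_pow, ← hgh, ← map_pow, he, map_mul, hf]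
        ring
      have h3 : IsUnit ((w : B) * algebraMap A B e) := by
        rw [h2]
        exact v.isUnit.pow n
      exact isUnit_of_mul_isUnit_right h3
    exact isUnit_of_map_unit (algebraMap A B) e h1
  obtain ⟨e', rfl⟩ := heu
  refine ⟨e'⁻¹, ?_⟩
  rw [he, mul_comm f, ← mul_assoc, Units.inv_mul, one_mul]

end Groth.Agent.S7125
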