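import Groth.Statements.S7130
-- import your own Groth.Agent.* helpers here
import Groth.Agent.EtAlg.K361.AbsFlat

set_option autoImplicit false
universe u
open EtAlg

namespace Groth.Agent.S7130

/-- (2) ⇔ (3) ⇔ (4): for a ring A the following are equivalent: every A-module is flat; A is reduced of
Krull dimension zero, in the sense that every prime ideal of A is maximal; the local ring A_p is a
field for every prime p. (The further equivalent condition 'A has weak dimension at most zero'
coincides with the first condition by definition and is not listed separately.) -/
theorem result (A : Type u) [CommRing A] :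
    List.TFAE [∀ (M : Type u) [AddCommGroup M] [Module A M], Module.Flat A M,
      IsReduced A ∧ ∀ p : Ideal A, p.IsPrime → p.IsMaximal,
      ∀ (p : Ideal A) [p.IsPrime], IsField (Localization.AtPrime p)] := by
  tfae_have 1 → 2 := fun h =>
    ⟨K361.AbsFlat.isReduced_of_regular (K361.AbsFlat.regular_of_flat h),
      K361.AbsFlat.isMaximal_of_regular (K361.AbsFlat.regular_of_flat h)⟩
  tfae_have 2 → 3 := fun h p _ => K361.AbsFlat.isField_atPrime h.1 h.2 p
  tfae_have 3 → 1 := fun h M _ _ => K361.AbsFlat.flat_of_isField h M
  tfae_finish

end Groth.Agent.S7130
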