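import Groth.Statements.S7132
-- import your own Groth.Agent.* helpers here
import Groth.Agent.EtAlg.K361.RamEF
import Groth.Agent.Etalg.RamApp

set_option autoImplicit false
universe u
open EtAlg

namespace Groth.Agent.S7132

/-- For an injective local homomorphism A → B of discrete valuation rings whose fraction fields K ⊆ L
form a finite extension, the residue field of B is finite over that of A, and the ramification index
e times the residue degree f is at most [L : K]. -/
theorem result (A B K L : Type u) [CommRing A] [IsDomain A]
    [IsDiscreteValuationRing A] [CommRing B] [IsDomain B] [IsDiscreteValuationRing B] [Algebra A B]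
    (hinj : Function.Injective (algebraMap A B)) [IsLocalHom (algebraMap A B)]
    [Field K] [Field L] [Algebra A K] [IsFractionRing A K] [Algebra B L] [IsFractionRing B L]
    [Algebra K L] [Algebra A L] [IsScalarTower A K L] [IsScalarTower A B L] [FiniteDimensional K L] :
    Module.Finite (IsLocalRing.ResidueField A) (IsLocalRing.ResidueField B) ∧
      Ideal.ramificationIdx' (IsLocalRing.maximalIdeal A) (IsLocalRing.maximalIdeal B) *
          Module.finrank (IsLocalRing.ResidueField A) (IsLocalRing.ResidueField B) ≤
        Module.finrank K L := by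
  classical
  obtain ⟨π, hπ⟩ := IsDiscreteValuationRing.exists_irreducible A
  obtain ⟨ρ, hρ⟩ := IsDiscreteValuationRing.exists_irreducible B
  obtain ⟨he0, u, hu⟩ :=
    Groth.Agent.Etalg.RamApp.exists_unit_ramificationIdx hinj hπ hρ
  set e := Ideal.ramificationIdx' (IsLocalRing.maximalIdeal A) (IsLocalRing.maximalIdeal B) with he
  let ι := Module.Free.ChooseBasisIndex (IsLocalRing.ResidueField A) (IsLocalRing.ResidueField B)
  let b0 : Module.Basis ι (IsLocalRing.ResidueField A) (IsLocalRing.ResidueField B) :=
    Module.Free.chooseBasis _ _
  choose b hb using fun i : ι => IsLocalRing.residue_surjective (b0 i)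
  have hli : LinearIndependent (IsLocalRing.ResidueField A)
      (fun i => IsLocalRing.residue B (b i)) := by
    have h1 : (fun i => IsLocalRing.residue B (b i)) = b0 := funext hb
    rw [h1]
    exact b0.linearIndependent
  have hle : ρ ^ e ∣ algebraMap A B π := ⟨u, by rw [hu, mul_comm]⟩
  have h2 := K361.RamEF.linearIndependent hinj hπ hρ hle b hli
  have h3 : LinearIndependent A (fun x : ι × Fin e => algebraMap B L (b x.1 * ρ ^ (x.2 : ℕ))) :=
    h2.map' (IsScalarTower.toAlgHom A B L).toLinearMap
      (LinearMap.ker_eq_bot.mpr (IsFractionRing.injective B L))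
  have h4 : LinearIndependent K (fun x : ι × Fin e => algebraMap B L (b x.1 * ρ ^ (x.2 : ℕ))) :=
    (LinearIndependent.iff_fractionRing A K).mp h3
  have hfin : Finite (ι × Fin e) := h4.finite_of_isNoetherian
  have : Nonempty (Fin e) := ⟨⟨0, Nat.pos_of_ne_zero he0⟩⟩
  have hι : Finite ι := Finite.prod_left (Fin e)
  have : Fintype ι := Fintype.ofFinite ι
  refine ⟨Module.Finite.of_basis b0, ?_⟩
  have h5 := h4.fintype_card_le_finrank
  rw [Fintype.card_prod, Fintype.card_fin] at h5
  rw [Module.finrank_eq_card_basis b0, mul_comm]
  exact h5

end Groth.Agent.S7132
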