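import Groth.Statements.S7133
-- import your own Groth.Agent.* helpers here
import Groth.Agent.Etalg.RamApp

set_option autoImplicit false
universe u
open EtAlg

namespace Groth.Agent.S7133

/-- For an injective local homomorphism A → B of discrete valuation rings whose fields of fractions are
K ⊆ L: if K has characteristic p > 0 and L/K is purely inseparable, then the ramification index of B
over A is a power of p. -/
theorem result (A B K L : Type u) [CommRing A] [IsDomain A]
    [IsDiscreteValuationRing A] [CommRing B] [IsDomain B] [IsDiscreteValuationRing B] [Algebra A B]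
    (hinj : Function.Injective (algebraMap A B)) [IsLocalHom (algebraMap A B)]
    [Field K] [Field L] [Algebra A K] [IsFractionRing A K] [Algebra B L] [IsFractionRing B L]
    [Algebra K L] [Algebra A L] [IsScalarTower A K L] [IsScalarTower A B L]
    (p : ℕ) (hp : p.Prime) [CharP K p] [IsPurelyInseparable K L] :
    ∃ k : ℕ, Ideal.ramificationIdx' (IsLocalRing.maximalIdeal A) (IsLocalRing.maximalIdeal B) =
      p ^ k := by
  obtain ⟨π, hπ⟩ := IsDiscreteValuationRing.exists_irreducible A
  obtain ⟨ρ, hρ⟩ := IsDiscreteValuationRing.exists_irreducible B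
  obtain ⟨he0, u, hu⟩ :=
    Groth.Agent.Etalg.RamApp.exists_unit_ramificationIdx hinj hπ hρ
  set e := Ideal.ramificationIdx' (IsLocalRing.maximalIdeal A) (IsLocalRing.maximalIdeal B) with he
  haveI : Fact p.Prime := ⟨hp⟩
  haveI : ExpChar K p := ExpChar.prime hp
  obtain ⟨n, c, hc⟩ := IsPurelyInseparable.pow_mem K p (algebraMap B L ρ)
  have hρL : algebraMap B L ρ ≠ 0 := by
    rw [Ne, map_eq_zero_iff _ (IsFractionRing.injective B L)]
    exact hρ.ne_zero
  have hc0 : c ≠ 0 := by
    rintro rfl
    rw [map_zero] at hc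
    exact pow_ne_zero _ hρL hc.symm
  obtain ⟨a, b, hb, rfl⟩ := IsFractionRing.div_surjective (A := A) c
  have hb0 : b ≠ 0 := nonZeroDivisors.ne_zero hb
  have ha0 : a ≠ 0 := by
    rintro rfl
    exact hc0 (by rw [map_zero, zero_div])
  have h1 : algebraMap A B b * ρ ^ p ^ n = algebraMap A B a := by
    apply IsFractionRing.injective B L
    rw [map_mul, map_pow, ← hc, map_div₀, ← IsScalarTower.algebraMap_apply A K L,
      ← IsScalarTower.algebraMap_apply A K L, ← IsScalarTower.algebraMap_apply A B L,
      ← IsScalarTower.algebraMap_apply A B L]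
    have h2 : algebraMap A L b ≠ 0 := by
      rw [IsScalarTower.algebraMap_apply A K L, Ne, map_eq_zero_iff _ (algebraMap K L).injective,
        map_eq_zero_iff _ (IsFractionRing.injective A K)]
      exact hb0
    field_simp
  obtain ⟨r, v, hv⟩ := IsDiscreteValuationRing.eq_unit_mul_pow_irreducible ha0 hπ
  obtain ⟨s, w, hw⟩ := IsDiscreteValuationRing.eq_unit_mul_pow_irreducible hb0 hπ
  have h2 : ((Units.map (algebraMap A B).toMonoidHom w * u ^ s : Bˣ) : B) * ρ ^ (e * s + p ^ n) =
      ((Units.map (algebraMap A B).toMonoidHom v * u ^ r : Bˣ) : B) * ρ ^ (e * r) := by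
    rw [hv, hw, map_mul, map_mul, map_pow, map_pow, hu] at h1
    have h3 : ((Units.map (algebraMap A B).toMonoidHom w * u ^ s : Bˣ) : B) =
        algebraMap A B w * (u : B) ^ s := rfl
    have h4 : ((Units.map (algebraMap A B).toMonoidHom v * u ^ r : Bˣ) : B) =
        algebraMap A B v * (u : B) ^ r := rfl
    rw [h3, h4, pow_add, pow_mul, pow_mul]
    rw [mul_pow, mul_pow] at h1
    linear_combination h1
  have h3 := IsDiscreteValuationRing.unit_mul_pow_congr_pow hρ hρ _ _ _ _ h2
  have h4 : e ∣ p ^ n := by
    have h5 : e ∣ e * s + p ^ n := h3 ▸ dvd_mul_right e r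
    exact (Nat.dvd_add_right (dvd_mul_right e s)).mp h5
  obtain ⟨k, _, hk⟩ := (Nat.dvd_prime_pow hp).mp h4
  exact ⟨k, hk⟩

end Groth.Agent.S7133
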