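import Groth.Statements.S7153
import Mathlib.RingTheory.Filtration
import Mathlib.LinearAlgebra.Quotient.Basic

set_option autoImplicit false
universe u
open CAlg

namespace Groth.Agent.S7153

/-- A consequence of Artin-Rees in the form used below. -/
theorem artinRees {A : Type u} [CommRing A] [IsNoetherianRing A] (I : Ideal A)
    {M : Type u} [AddCommGroup M] [Module A M] [Module.Finite A M] (N : Submodule A M) :
    ∃ c : ℕ, ∀ n : ℕ, c ≤ n → (I ^ n • ⊤ : Submodule A M) ⊓ N ≤ I ^ (n - c) • N := by
  obtain ⟨c, hc⟩ := Ideal.exists_pow_inf_eq_pow_smul I N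
  refine ⟨c, fun n hn => ?_⟩
  rw [hc n hn]
  exact smul_mono_right _ inf_le_right

theorem artinRees_mono {A : Type u} [CommRing A] (I : Ideal A)
    {M : Type u} [AddCommGroup M] [Module A M] (N : Submodule A M) {c c' : ℕ} (hcc : c ≤ c')
    (h : ∀ n : ℕ, c ≤ n → (I ^ n • ⊤ : Submodule A M) ⊓ N ≤ I ^ (n - c) • N) :
    ∀ n : ℕ, c' ≤ n → (I ^ n • ⊤ : Submodule A M) ⊓ N ≤ I ^ (n - c') • N := by
  intro n hn
  exact (h n (hcc.trans hn)).trans (Submodule.smul_mono_left (Ideal.pow_le_pow_right (by omega)))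

/-- Let A be a Noetherian ring, I an ideal and K → L → M a complex of finite A-modules with maps α, β
and homology H = Ker β / Im α; for n ≥ 0 let H_n be the homology of the induced complex K/IⁿK →
L/IⁿL → M/IⁿM, which is β⁻¹(IⁿM)/(Im α + IⁿL). Then there is c > 0 such that for every n: (i) the
image of H_(n+c) → H_n is contained in, hence equal to, the image of H → H_n; (ii) the kernel and
the cokernel of H/IⁿH → H_n are annihilated by I^c. Everything is phrased with representatives in L. -/
theorem result (A : Type u) [CommRing A] [IsNoetherianRing A] (I : Ideal A)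
    (K L M : Type u) [AddCommGroup K] [Module A K] [Module.Finite A K] [AddCommGroup L] [Module A L]
    [Module.Finite A L] [AddCommGroup M] [Module A M] [Module.Finite A M]
    (α : K →ₗ[A] L) (β : L →ₗ[A] M) (hαβ : β ∘ₗ α = 0) :
    ∃ c : ℕ, 0 < c ∧ ∀ n : ℕ,
      (∀ y ∈ (I ^ (n + c) • ⊤ : Submodule A M).comap β,
        ∃ z ∈ LinearMap.ker β, y - z ∈ LinearMap.range α ⊔ (I ^ n • ⊤ : Submodule A L)) ∧
      (∀ z ∈ LinearMap.ker β, z ∈ LinearMap.range α ⊔ (I ^ n • ⊤ : Submodule A L) →
        ∀ a ∈ I ^ c, a • z ∈ LinearMap.range α ⊔ I ^ n • LinearMap.ker β) ∧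
      (∀ y ∈ (I ^ n • ⊤ : Submodule A M).comap β, ∀ a ∈ I ^ c,
        ∃ z ∈ LinearMap.ker β, a • y - z ∈ LinearMap.range α ⊔ (I ^ n • ⊤ : Submodule A L)) := by
  -- the two Artin-Rees constants
  obtain ⟨c₁, h₁⟩ := artinRees I (LinearMap.range β)
  obtain ⟨c₂, h₂⟩ := artinRees I ((LinearMap.ker β).map (LinearMap.range α).mkQ)
  set c := c₁ + c₂ + 1 with hc
  replace h₁ := artinRees_mono I _ (show c₁ ≤ c by omega) h₁
  replace h₂ := artinRees_mono I _ (show c₂ ≤ c by omega) h₂
  -- lifting from `β`
  have key₁ : ∀ n : ℕ, c ≤ n → ∀ y : L, β y ∈ (I ^ n • ⊤ : Submodule A M) →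
      ∃ y' ∈ (I ^ (n - c) • ⊤ : Submodule A L), β y' = β y := by
    intro n hn y hy
    have := h₁ n hn ⟨hy, LinearMap.mem_range_self β y⟩
    rw [LinearMap.range_eq_map, ← Submodule.map_smul''] at this
    exact this
  refine ⟨c, by omega, fun n => ⟨?_, ?_, ?_⟩⟩
  · intro y hy
    obtain ⟨y', hy', hyy⟩ := key₁ (n + c) (by omega) y hy
    refine ⟨y - y', by rw [LinearMap.mem_ker, map_sub, hyy, sub_self], ?_⟩
    rw [sub_sub_cancel]
    refine Submodule.mem_sup_right ?_
    simpa using hy'
  · intro z hz hzn a ha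
    by_cases hn : c ≤ n
    · have hmem : (LinearMap.range α).mkQ z ∈ (I ^ n • ⊤ : Submodule A (L ⧸ LinearMap.range α)) ⊓
          (LinearMap.ker β).map (LinearMap.range α).mkQ := by
        refine ⟨?_, Submodule.mem_map_of_mem hz⟩
        obtain ⟨u, hu, v, hv, rfl⟩ := Submodule.mem_sup.mp hzn
        have hu0 : (LinearMap.range α).mkQ u = 0 := by
          rw [Submodule.mkQ_apply, Submodule.Quotient.mk_eq_zero]; exact hu
        rw [map_add, hu0, zero_add]
        have := Submodule.mem_map_of_mem (f := (LinearMap.range α).mkQ) hv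
        rw [Submodule.map_smul''] at this
        exact Submodule.smul_mono le_rfl le_top this
      have := h₂ n hn hmem
      rw [← Submodule.map_smul''] at this
      obtain ⟨w, hw, hwz⟩ := this
      have hwz' : z - w ∈ LinearMap.range α := by
        rw [← Submodule.Quotient.mk_eq_zero (LinearMap.range α), ← Submodule.mkQ_apply, map_sub, hwz, sub_self]
      have : a • z = a • (z - w) + a • w := by rw [smul_sub, sub_add_cancel]
      rw [this]
      refine Submodule.add_mem_sup (Submodule.smul_mem _ _ hwz') ?_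
      have h3 := Submodule.smul_mem_smul ha hw
      rw [← mul_smul, ← pow_add, Nat.add_sub_cancel' hn] at h3
      exact h3
    · exact Submodule.mem_sup_right (Submodule.smul_mem_smul
        (Ideal.pow_le_pow_right (by omega) ha) hz)
  · intro y hy a ha
    by_cases hn : c ≤ n
    · obtain ⟨y', hy', hyy⟩ := key₁ n hn y hy
      refine ⟨a • (y - y'), ?_, ?_⟩
      · rw [LinearMap.mem_ker, map_smul, map_sub, hyy, sub_self, smul_zero]
      · rw [smul_sub, sub_sub_cancel]
        refine Submodule.mem_sup_right ?_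
        have h3 := Submodule.smul_mem_smul ha hy'
        rw [← mul_smul, ← pow_add, Nat.add_sub_cancel' hn] at h3
        exact h3
    · refine ⟨0, Submodule.zero_mem _, ?_⟩
      rw [sub_zero]
      exact Submodule.mem_sup_right (Submodule.smul_mem_smul
        (Ideal.pow_le_pow_right (by omega) ha) trivial)

end Groth.Agent.S7153
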