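import Groth.Statements.S7136
import Groth.Agent.S7153
import Mathlib.LinearAlgebra.FreeModule.Basic
import Mathlib.LinearAlgebra.FreeModule.Finite.Basic
import Mathlib.RingTheory.Noetherian.Basic
import Mathlib.Algebra.Module.Projective
import Mathlib.LinearAlgebra.Basis.Defs

set_option autoImplicit false
universe u
open CAlg

namespace Groth.Agent.S7136

open Module in
theorem mem_smul_top_of_forall {A : Type u} [CommRing A] {F N : Type u} [AddCommGroup F] [Module A F]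
    [AddCommGroup N] [Module A N] {t : ℕ} (b : Basis (Fin t) A F) (J : Ideal A) (g : F →ₗ[A] N)
    (hg : ∀ x, g x ∈ (J • ⊤ : Submodule A N)) : g ∈ (J • ⊤ : Submodule A (F →ₗ[A] N)) := by
  have h : g = ∑ i, LinearMap.smulRightₗ (b.coord i) (g (b i)) := by
    apply b.ext
    intro j
    rw [LinearMap.sum_apply, Finset.sum_eq_single j]
    · rw [LinearMap.smulRightₗ_apply, LinearMap.smulRight_apply, Basis.coord_apply, Basis.repr_self,
        Finsupp.single_eq_same, one_smul]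
    · intro i _ hij
      rw [LinearMap.smulRightₗ_apply, LinearMap.smulRight_apply, Basis.coord_apply, Basis.repr_self,
        Finsupp.single_eq_of_ne hij, zero_smul]
    · intro h
      exact absurd (Finset.mem_univ _) h
  rw [h]
  refine Submodule.sum_mem _ fun i _ => ?_
  have := Submodule.mem_map_of_mem (f := (LinearMap.smulRightₗ (b.coord i) : N →ₗ[A] (F →ₗ[A] N)))
    (hg (b i))
  rw [Submodule.map_smul''] at this
  exact Submodule.smul_mono le_rfl le_top this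

theorem apply_mem_of_mem_smul {A : Type u} [CommRing A] {F N : Type u} [AddCommGroup F] [Module A F]
    [AddCommGroup N] [Module A N] (J : Ideal A) (g : F →ₗ[A] N)
    (hg : g ∈ (J • ⊤ : Submodule A (F →ₗ[A] N))) (x : F) : g x ∈ (J • ⊤ : Submodule A N) := by
  have := Submodule.mem_map_of_mem (f := (LinearMap.applyₗ x : (F →ₗ[A] N) →ₗ[A] N)) hg
  rw [Submodule.map_smul''] at this
  exact Submodule.smul_mono le_rfl le_top this

/-- The uniform form: one constant `c` for the lifting of maps, the kernel and the cokernel. -/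
theorem main (A : Type u) [CommRing A] [IsNoetherianRing A]
    (I : Ideal A) (M N : Type u) [AddCommGroup M] [Module A M] [Module.Finite A M] [AddCommGroup N] [Module A N]
    [Module.Finite A N] :
    let Nq : ℕ → Submodule A N := fun n => I ^ n • ⊤
    let pr : ∀ n k : ℕ, n ≤ k → (N ⧸ Nq k) →ₗ[A] (N ⧸ Nq n) :=
      fun n k hnk => Submodule.mapQ (Nq k) (Nq n) (LinearMap.id : N →ₗ[A] N) (Submodule.smul_mono_left (Ideal.pow_le_pow_right hnk))
    let red : ∀ n : ℕ, (M →ₗ[A] N) → (M →ₗ[A] N ⧸ Nq n) := fun n φ => (Nq n).mkQ ∘ₗ φ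
    ∃ c : ℕ, ∀ n : ℕ,
      (∀ ψ : M →ₗ[A] N ⧸ Nq (n + c), ∃ φ : M →ₗ[A] N, red n φ = pr n (n + c) (Nat.le_add_right n c) ∘ₗ ψ) ∧
      (∀ φ : M →ₗ[A] N, red n φ = 0 → ∀ a ∈ I ^ c, a • φ ∈ (I ^ n • ⊤ : Submodule A (M →ₗ[A] N))) ∧
      (∀ (ψ : M →ₗ[A] N ⧸ Nq n), ∀ a ∈ I ^ c, ∃ φ : M →ₗ[A] N, red n φ = a • ψ) := by
  intro Nq pr red
  obtain ⟨t, p, hp⟩ := Module.Finite.exists_fin' A M
  obtain ⟨s, q', hq'⟩ := Module.Finite.exists_fin' A (LinearMap.ker p)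
  let q : (Fin s → A) →ₗ[A] (Fin t → A) := (LinearMap.ker p).subtype ∘ₗ q'
  have hpq : p ∘ₗ q = 0 := by
    apply LinearMap.ext
    intro x
    exact (q' x).2
  have hqp : ∀ y, p y = 0 → ∃ x, q x = y := by
    intro y hy
    obtain ⟨x, hx⟩ := hq' ⟨y, hy⟩
    exact ⟨x, by simp [q, hx]⟩
  let β : ((Fin t → A) →ₗ[A] N) →ₗ[A] ((Fin s → A) →ₗ[A] N) := LinearMap.lcomp A N q
  have hβ : ∀ g, β g = g ∘ₗ q := fun g => rfl
  -- descend elements of the kernel of `β`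
  have hker : ∀ g ∈ LinearMap.ker β, ∃ φ : M →ₗ[A] N, φ ∘ₗ p = g := by
    intro g hg
    rw [LinearMap.mem_ker, hβ] at hg
    have hle : LinearMap.ker p ≤ LinearMap.ker g := by
      intro y hy
      obtain ⟨x, rfl⟩ := hqp y hy
      exact LinearMap.congr_fun hg x
    refine ⟨(LinearMap.ker p).liftQ g hle ∘ₗ (LinearMap.quotKerEquivOfSurjective p hp).symm.toLinearMap, ?_⟩
    apply LinearMap.ext
    intro y
    have : (LinearMap.quotKerEquivOfSurjective p hp).symm (p y) = Submodule.Quotient.mk y := by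
      rw [LinearEquiv.symm_apply_eq]
      rfl
    simp only [LinearMap.comp_apply, LinearEquiv.coe_coe, this]
    rfl
  -- lifting
  have hlift : ∀ (n : ℕ) (ψ : M →ₗ[A] N ⧸ Nq n), ∃ g : (Fin t → A) →ₗ[A] N,
      (Nq n).mkQ ∘ₗ g = ψ ∘ₗ p ∧ g ∈ (I ^ n • ⊤ : Submodule A ((Fin s → A) →ₗ[A] N)).comap β := by
    intro n ψ
    obtain ⟨g, hg⟩ := Module.projective_lifting_property (Nq n).mkQ (ψ ∘ₗ p) (Submodule.mkQ_surjective _)
    refine ⟨g, hg, ?_⟩
    rw [Submodule.mem_comap, hβ]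
    refine mem_smul_top_of_forall (Pi.basisFun A (Fin s)) _ _ fun x => ?_
    have : (Nq n).mkQ (g (q x)) = 0 := by
      have h1 := LinearMap.congr_fun hg (q x)
      have h2 := LinearMap.congr_fun hpq x
      simp only [LinearMap.comp_apply, LinearMap.zero_apply] at h1 h2
      rw [h1, h2, map_zero]
    rw [Submodule.mkQ_apply, Submodule.Quotient.mk_eq_zero] at this
    exact this
  -- compare modulo
  have hred : ∀ (n : ℕ) (g g' : (Fin t → A) →ₗ[A] N),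
      g - g' ∈ LinearMap.range (0 : PUnit.{u+1} →ₗ[A] _) ⊔ (I ^ n • ⊤ : Submodule A ((Fin t → A) →ₗ[A] N)) →
      (Nq n).mkQ ∘ₗ g = (Nq n).mkQ ∘ₗ g' := by
    intro n g g' h
    rw [LinearMap.range_zero, bot_sup_eq] at h
    apply LinearMap.ext
    intro x
    have := apply_mem_of_mem_smul _ _ h x
    rw [LinearMap.comp_apply, LinearMap.comp_apply, ← sub_eq_zero, ← map_sub, Submodule.mkQ_apply,
      Submodule.Quotient.mk_eq_zero]
    exact this
  have hcancel : ∀ {X : Type u} [AddCommGroup X] [Module A X] (f g : M →ₗ[A] X), f ∘ₗ p = g ∘ₗ p → f = g := by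
    intro X _ _ f g h
    apply LinearMap.ext
    intro x
    obtain ⟨y, rfl⟩ := hp x
    exact LinearMap.congr_fun h y
  obtain ⟨c, hc0, hc⟩ := S7153.result A I PUnit.{u+1} _ _ (0 : PUnit.{u+1} →ₗ[A] _) β (by simp)
  refine ⟨c, fun n => ⟨?_, ?_, ?_⟩⟩
  · intro ψ
    obtain ⟨g, hg, hgm⟩ := hlift _ ψ
    obtain ⟨z, hz, hgz⟩ := (hc n).1 g hgm
    obtain ⟨φ, hφ⟩ := hker z hz
    refine ⟨φ, hcancel _ _ ?_⟩
    have h1 := hred n _ _ hgz
    rw [← hφ] at h1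
    calc (red n φ) ∘ₗ p = (Nq n).mkQ ∘ₗ (φ ∘ₗ p) := rfl
      _ = (Nq n).mkQ ∘ₗ g := h1.symm
      _ = pr n (n + c) (Nat.le_add_right n c) ∘ₗ ((Nq (n + c)).mkQ ∘ₗ g) := rfl
      _ = _ := by rw [hg]; rfl
  · intro φ hφ a ha
    have h1 : φ ∘ₗ p ∈ LinearMap.ker β := by
      rw [LinearMap.mem_ker, hβ, LinearMap.comp_assoc, hpq, LinearMap.comp_zero]
    have h2 : φ ∘ₗ p ∈ LinearMap.range (0 : PUnit.{u+1} →ₗ[A] _) ⊔
        (I ^ n • ⊤ : Submodule A ((Fin t → A) →ₗ[A] N)) := by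
      refine Submodule.mem_sup_right (mem_smul_top_of_forall (Pi.basisFun A (Fin t)) _ _ fun x => ?_)
      have h3 := LinearMap.congr_fun hφ (p x)
      change (Nq n).mkQ (φ (p x)) = 0 at h3
      rw [Submodule.mkQ_apply, Submodule.Quotient.mk_eq_zero] at h3
      exact h3
    have h3 := (hc n).2.1 _ h1 h2 a ha
    rw [LinearMap.range_zero, bot_sup_eq] at h3
    -- `ker β` is the range of `φ ↦ φ ∘ p`
    let π : (M →ₗ[A] N) →ₗ[A] ((Fin t → A) →ₗ[A] N) := LinearMap.lcomp A N p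
    have hπ : LinearMap.ker β ≤ LinearMap.range π := by
      intro g hg
      obtain ⟨φ, hφ⟩ := hker g hg
      exact ⟨φ, hφ⟩
    have h4 := Submodule.smul_mono (le_refl (I ^ n)) hπ h3
    rw [LinearMap.range_eq_map, ← Submodule.map_smul''] at h4
    obtain ⟨φ', hφ', h5⟩ := h4
    have : φ' = a • φ := hcancel _ _ (by rw [LinearMap.smul_comp]; exact h5)
    rw [← this]
    exact hφ'
  · intro ψ a ha
    obtain ⟨g, hg, hgm⟩ := hlift _ ψ
    obtain ⟨z, hz, hgz⟩ := (hc n).2.2 g hgm a ha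
    obtain ⟨φ, hφ⟩ := hker z hz
    refine ⟨φ, hcancel _ _ ?_⟩
    have h1 := hred n _ _ hgz
    rw [← hφ] at h1
    calc (red n φ) ∘ₗ p = (Nq n).mkQ ∘ₗ (φ ∘ₗ p) := rfl
      _ = (Nq n).mkQ ∘ₗ (a • g) := h1.symm
      _ = a • ((Nq n).mkQ ∘ₗ g) := by rw [LinearMap.comp_smul]
      _ = a • (ψ ∘ₗ p) := by rw [hg]
      _ = _ := by rw [LinearMap.smul_comp]

/-- Let A be a Noetherian ring, I an ideal, and M, N finite A-modules; write N_n = N/IⁿN, so that
Hom_A(M/IⁿM, N_n) = Hom_A(M, N_n). Then (1) the inverse system (Hom_A(M, N_n))_n, with transition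
maps induced by the projections N_k → N_n, is Mittag-Leffler; (2) there is c ≥ 0 such that for all n
the kernel and the cokernel of Hom_A(M, N)/IⁿHom_A(M, N) → Hom_A(M, N_n) are annihilated by I^c. -/
theorem result (A : Type u) [CommRing A] [IsNoetherianRing A]
    (I : Ideal A) (M N : Type u) [AddCommGroup M] [Module A M] [Module.Finite A M] [AddCommGroup N] [Module A N]
    [Module.Finite A N] :
    let Nq : ℕ → Submodule A N := fun n => I ^ n • ⊤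
    let pr : ∀ n k : ℕ, n ≤ k → (N ⧸ Nq k) →ₗ[A] (N ⧸ Nq n) :=
      fun n k hnk => Submodule.mapQ (Nq k) (Nq n) (LinearMap.id : N →ₗ[A] N) (Submodule.smul_mono_left (Ideal.pow_le_pow_right hnk))
    let red : ∀ n : ℕ, (M →ₗ[A] N) → (M →ₗ[A] N ⧸ Nq n) := fun n φ => (Nq n).mkQ ∘ₗ φ
    (∀ n : ℕ, ∃ m : ℕ, n ≤ m ∧ ∀ (k : ℕ) (hmk : m ≤ k) (hnm : n ≤ m) (ψ : M →ₗ[A] N ⧸ Nq m),
        ∃ ψ' : M →ₗ[A] N ⧸ Nq k, pr n k (hnm.trans hmk) ∘ₗ ψ' = pr n m hnm ∘ₗ ψ) ∧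
    ∃ c : ℕ, ∀ n : ℕ,
      (∀ φ : M →ₗ[A] N, red n φ = 0 → ∀ a ∈ I ^ c, a • φ ∈ (I ^ n • ⊤ : Submodule A (M →ₗ[A] N))) ∧
      (∀ (ψ : M →ₗ[A] N ⧸ Nq n), ∀ a ∈ I ^ c, ∃ φ : M →ₗ[A] N, red n φ = a • ψ) := by
  intro Nq pr red
  obtain ⟨c, hc⟩ := main A I M N
  refine ⟨fun n => ⟨n + c, by omega, ?_⟩, c, fun n => (hc n).2⟩
  intro k hmk hnm ψ
  obtain ⟨φ, hφ⟩ := (hc n).1 ψ
  refine ⟨(Nq k).mkQ ∘ₗ φ, ?_⟩
  calc pr n k (hnm.trans hmk) ∘ₗ ((Nq k).mkQ ∘ₗ φ) = (Nq n).mkQ ∘ₗ φ := rfl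
    _ = _ := hφ

end Groth.Agent.S7136
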