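import Groth.Statements.S7135
import Groth.Agent.S7136
import Mathlib.RingTheory.AdicCompletion.Functoriality
import Mathlib.RingTheory.AdicCompletion.Algebra
import Mathlib.RingTheory.Noetherian.Orzech
import Mathlib.RingTheory.Finiteness.Cardinality

set_option autoImplicit false
universe u
open CAlg

namespace Groth.Agent.S7135

/-- Let A be a Noetherian ring, I an ideal and M, N finite A-modules. If M/IⁿM and N/IⁿN are isomorphic
for every n, then the I-adic completions of M and N are isomorphic as modules over the I-adic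
completion of A. -/
theorem result (A : Type u) [CommRing A] [IsNoetherianRing A] (I : Ideal A)
    (M N : Type u) [AddCommGroup M] [Module A M] [Module.Finite A M] [AddCommGroup N] [Module A N]
    [Module.Finite A N]
    (h : ∀ n : ℕ, Nonempty ((M ⧸ (I ^ n • ⊤ : Submodule A M)) ≃ₗ[A] (N ⧸ (I ^ n • ⊤ : Submodule A N)))) :
    Nonempty (AdicCompletion I M ≃ₗ[AdicCompletion I A] AdicCompletion I N) := by
  obtain ⟨c, hc⟩ := S7136.main A I M N
  obtain ⟨e⟩ := h (1 + c)
  -- a map `φ : M → N` which is surjective modulo `I`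
  obtain ⟨φ, hφ⟩ := (hc 1).1 (e.toLinearMap ∘ₗ (I ^ (1 + c) • ⊤ : Submodule A M).mkQ)
  have hsurj1 : Function.Surjective ((I ^ 1 • ⊤ : Submodule A N).mkQ ∘ₗ φ) := by
    have : ((I ^ 1 • ⊤ : Submodule A N).mkQ ∘ₗ φ) = _ := hφ
    rw [this, LinearMap.coe_comp, LinearMap.coe_comp]
    refine Function.Surjective.comp ?_ (e.surjective.comp (Submodule.mkQ_surjective _))
    intro y
    obtain ⟨y, rfl⟩ := Submodule.mkQ_surjective _ y
    exact ⟨Submodule.Quotient.mk y, rfl⟩
  have hsurj : Function.Surjective ((I • ⊤ : Submodule A N).mkQ ∘ₗ φ) := by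
    rw [pow_one] at hsurj1
    exact hsurj1
  -- `range φ + Iⁿ N = N`
  have htop : ∀ n : ℕ, LinearMap.range φ ⊔ (I ^ n • ⊤ : Submodule A N) = ⊤ := by
    intro n
    have h1 : LinearMap.range φ ⊔ (I • ⊤ : Submodule A N) = ⊤ := by
      rw [eq_top_iff]
      intro y _
      obtain ⟨x, hx⟩ := hsurj (Submodule.Quotient.mk y)
      rw [LinearMap.comp_apply, Submodule.mkQ_apply, Submodule.Quotient.eq] at hx
      have : y = φ x + (y - φ x) := by abel
      rw [this]
      refine Submodule.add_mem_sup (LinearMap.mem_range_self _ _) ?_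
      rw [← neg_sub]
      exact Submodule.neg_mem _ hx
    induction n with
    | zero => rw [pow_zero, Ideal.one_eq_top, Submodule.top_smul, sup_top_eq]
    | succ n ih =>
      rw [eq_top_iff]
      calc (⊤ : Submodule A N) = LinearMap.range φ ⊔ (I • ⊤ : Submodule A N) := h1.symm
        _ = LinearMap.range φ ⊔ (I • (LinearMap.range φ ⊔ (I ^ n • ⊤ : Submodule A N))) := by rw [ih]
        _ = LinearMap.range φ ⊔ (I • LinearMap.range φ ⊔ I • (I ^ n • ⊤ : Submodule A N)) := by
            rw [Submodule.smul_sup]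
        _ ≤ LinearMap.range φ ⊔ (I ^ (n + 1) • ⊤ : Submodule A N) := by
            refine sup_le le_sup_left (sup_le ?_ ?_)
            · exact Submodule.smul_le_right.trans le_sup_left
            · rw [← mul_smul, ← pow_succ']
              exact le_sup_right
  -- injectivity modulo `Iⁿ`
  have hinj : ∀ (n : ℕ) (x : M ⧸ (I ^ n • ⊤ : Submodule A M)), φ.reduceModIdeal (I ^ n) x = 0 → x = 0 := by
    intro n
    obtain ⟨e'⟩ := h n
    let R : (M ⧸ (I ^ n • ⊤ : Submodule A M)) →ₗ[A] (N ⧸ (I ^ n • ⊤ : Submodule A N)) :=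
      (φ.reduceModIdeal (I ^ n)).restrictScalars A
    have hR : Function.Surjective R := by
      intro y
      obtain ⟨y, rfl⟩ := Submodule.mkQ_surjective _ y
      have hy : y ∈ LinearMap.range φ ⊔ (I ^ n • ⊤ : Submodule A N) := by rw [htop]; trivial
      obtain ⟨_, ⟨x, rfl⟩, z, hz, rfl⟩ := Submodule.mem_sup.mp hy
      refine ⟨Submodule.Quotient.mk x, ?_⟩
      change Submodule.Quotient.mk (φ x) = Submodule.Quotient.mk (φ x + z)
      rw [Submodule.Quotient.eq]
      simpa using hz
    have hs : Function.Surjective (e'.symm.toLinearMap ∘ₗ R) := e'.symm.surjective.comp hR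
    have hi : Function.Injective (e'.symm.toLinearMap ∘ₗ R) :=
      IsNoetherian.injective_of_surjective_endomorphism _ hs
    intro x hx
    apply hi
    rw [map_zero, LinearMap.comp_apply]
    change e'.symm (φ.reduceModIdeal (I ^ n) x) = 0
    rw [hx, map_zero]
  refine ⟨LinearEquiv.ofBijective (AdicCompletion.map I φ) ⟨?_, ?_⟩⟩
  · rw [← LinearMap.ker_eq_bot, eq_bot_iff]
    intro x hx
    rw [Submodule.mem_bot]
    apply AdicCompletion.ext
    intro n
    apply hinj n
    rw [← AdicCompletion.map_val_apply, LinearMap.mem_ker.mp hx]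
    rfl
  · exact AdicCompletion.map_surjective_of_mkQ_comp_surjective hsurj

end Groth.Agent.S7135
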