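import Groth.Statements.S7137
import Groth.Agent.S0604
import Groth.Agent.Ega4A.DepthBasic
import Groth.Agent.Ega4A.ProjDim
import Groth.Agent.Ega4A.ProjDimTensor2

set_option autoImplicit false
universe u
open CategoryTheory
open CAlg

namespace Groth.Agent.S7137

theorem pd_restrict {R S : Type u} [CommRing R] [CommRing S] [IsNoetherianRing S] [Algebra R S] (e : ℕ)
    (he : HasProjectiveDimensionLT (ModuleCat.of R S) (e + 1)) (n : ℕ) :
    ∀ (E : Type u) [AddCommGroup E] [Module S E] [Module R E] [IsScalarTower R S E]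
      [Module.Finite S E], HasProjectiveDimensionLT (ModuleCat.of S E) (n + 1) →
      HasProjectiveDimensionLT (ModuleCat.of R E) (e + n + 1) := by
  induction n with
  | zero =>
    intro E _ _ _ _ _ hE
    obtain ⟨t, π, hπ⟩ := Module.Finite.exists_fin' S E
    have hproj : Module.Projective S E := (Ega4A.ProjDim.hasPDLT_one_iff E).mp hE
    obtain ⟨s, hs⟩ := Module.projective_lifting_property π LinearMap.id hπ
    have h1 := Ega4A.ProjDimTensor2.hasProjectiveDimensionLT_pi S (e + 1) t he
    have hr : Retract (ModuleCat.of R E) (ModuleCat.of R (Fin t → S)) :=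
      { i := ModuleCat.ofHom (s.restrictScalars R)
        r := ModuleCat.ofHom (π.restrictScalars R)
        retract := by
          rw [← ModuleCat.ofHom_comp]
          ext x
          exact LinearMap.congr_fun hs x }
    exact hr.hasProjectiveDimensionLT (e + 1)
  | succ n ih =>
    intro E _ _ _ _ _ hE
    obtain ⟨t, π, hπ⟩ := Module.Finite.exists_fin' S E
    have hex : Function.Exact (LinearMap.ker π).subtype π := LinearMap.exact_subtype_ker_map π
    have hK : HasProjectiveDimensionLT (ModuleCat.of S (LinearMap.ker π)) (n + 1) :=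
      (Ega4A.ProjDim.hasPDLT_iff_of_exact (LinearMap.ker π).subtype π
        (LinearMap.ker π).injective_subtype hπ hex n).mp hE
    have hK' := ih (LinearMap.ker π) hK
    have hF := Ega4A.ProjDimTensor2.hasProjectiveDimensionLT_pi S (e + 1) t he
    have hF' : HasProjectiveDimensionLT (ModuleCat.of R (Fin t → S)) (e + n + 1 + 1) :=
      hasProjectiveDimensionLT_of_ge _ (e + 1) _ (by omega)
    let C : ShortComplex (ModuleCat.{u} R) :=
      ShortComplex.mk (ModuleCat.ofHom ((LinearMap.ker π).subtype.restrictScalars R))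
        (ModuleCat.ofHom (π.restrictScalars R)) (by
        ext x; exact hex.apply_apply_eq_zero x)
    have hC : C.ShortExact :=
      { exact := by
          rw [ShortComplex.ShortExact.moduleCat_exact_iff_function_exact]
          exact hex
        mono_f := (ModuleCat.mono_iff_injective _).mpr (LinearMap.ker π).injective_subtype
        epi_g := (ModuleCat.epi_iff_surjective _).mpr hπ }
    exact hC.hasProjectiveDimensionLT_X₃ (e + n + 1) hK' hF'

theorem exists_nat {R : Type u} [CommRing R] (M : Type u) [AddCommGroup M] [Module R M] [Nontrivial M]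
    (h : projectiveDimension (ModuleCat.of R M) ≠ ⊤) :
    ∃ e : ℕ, projectiveDimension (ModuleCat.of R M) = e := by
  have hbot : projectiveDimension (ModuleCat.of R M) ≠ ⊥ := by
    rw [Ne, projectiveDimension_eq_bot_iff, ModuleCat.isZero_iff_subsingleton]
    exact not_subsingleton M
  obtain ⟨a, ha⟩ := WithBot.ne_bot_iff_exists.mp hbot
  rw [← ha] at h ⊢
  have ha' : a ≠ ⊤ := fun h' => h (by rw [h']; rfl)
  obtain ⟨n, rfl⟩ := ENat.ne_top_iff_exists.mp ha'
  exact ⟨n, rfl⟩

/-- Take a Noetherian local ring R, an ideal I and a finite module E ≠ 0 over R/I. Suppose that R/I, as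
an R-module, and E, as an R/I-module, both have finite projective dimension. Then E, as an R-module,
has finite projective dimension too, and it equals pd_R(R/I) + pd_{R/I}(E). -/
theorem result (R : Type u) [CommRing R] [IsNoetherianRing R] [IsLocalRing R]
    (I : Ideal R) (E : Type u) [AddCommGroup E] [Module (R ⧸ I) E] [Module R E] [IsScalarTower R (R ⧸ I) E]
    [Module.Finite (R ⧸ I) E] [Nontrivial E]
    (h1 : projectiveDimension (ModuleCat.of R (R ⧸ I)) ≠ ⊤)
    (h2 : projectiveDimension (ModuleCat.of (R ⧸ I) E) ≠ ⊤) :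
    projectiveDimension (ModuleCat.of R E) ≠ ⊤ ∧
      projectiveDimension (ModuleCat.of R E) =
        projectiveDimension (ModuleCat.of R (R ⧸ I)) + projectiveDimension (ModuleCat.of (R ⧸ I) E) := by
  have hnt : Nontrivial (R ⧸ I) := Module.nontrivial (R ⧸ I) E
  have hloc : IsLocalRing (R ⧸ I) :=
    IsLocalRing.of_surjective' (Ideal.Quotient.mk I) Ideal.Quotient.mk_surjective
  have hfin : Module.Finite R E := Module.Finite.trans (R ⧸ I) E
  obtain ⟨e₁, he₁⟩ := exists_nat (R ⧸ I) h1
  obtain ⟨e₂, he₂⟩ := exists_nat E h2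
  have hpd₁ : HasProjectiveDimensionLT (ModuleCat.of R (R ⧸ I)) (e₁ + 1) :=
    (projectiveDimension_le_iff _ _).mp he₁.le
  have hpd₂ : HasProjectiveDimensionLT (ModuleCat.of (R ⧸ I) E) (e₂ + 1) :=
    (projectiveDimension_le_iff _ _).mp he₂.le
  have hpd₃ := pd_restrict e₁ hpd₁ e₂ E hpd₂
  have htop : projectiveDimension (ModuleCat.of R E) ≠ ⊤ :=
    (projectiveDimension_ne_top_iff _).mpr ⟨e₁ + e₂, hpd₃⟩
  obtain ⟨e₃, he₃⟩ := exists_nat E htop
  refine ⟨htop, ?_⟩
  -- Auslander-Buchsbaum three times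
  have hAB₁ := S0604.result R (R ⧸ I) e₁ he₁
  have hAB₂ := S0604.result (R ⧸ I) E e₂ he₂
  have hAB₃ := S0604.result R E e₃ he₃
  have hd₁ : LocCoh.depth R (R ⧸ I) = LocCoh.depth (R ⧸ I) (R ⧸ I) :=
    Ega4A.DepthBasic.depth_congr_of_surjective (Ideal.Quotient.mk I) Ideal.Quotient.mk_surjective
      (R ⧸ I) (R ⧸ I) (AddEquiv.refl _) (fun r m => by
        rw [AddEquiv.refl_apply, AddEquiv.refl_apply]
        exact Algebra.smul_def r m)
  have hd₂ : LocCoh.depth R E = LocCoh.depth (R ⧸ I) E :=
    Ega4A.DepthBasic.depth_congr_of_surjective (Ideal.Quotient.mk I) Ideal.Quotient.mk_surjective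
      E E (AddEquiv.refl _) (fun r m => by
        rw [AddEquiv.refl_apply, AddEquiv.refl_apply]
        exact (algebraMap_smul (R ⧸ I) r m).symm)
  have hne : LocCoh.depth R E ≠ ⊤ := Ega4A.DepthBasic.depth_ne_top E
  rw [he₁, he₂, he₃]
  rw [hd₁, hAB₂, ← hd₂, hAB₃, ← add_assoc] at hAB₁
  obtain ⟨d, hd⟩ := ENat.ne_top_iff_exists.mp hne
  rw [← hd] at hAB₁
  have : e₃ = e₁ + e₂ := by
    have h3 : ((e₃ + d : ℕ) : ℕ∞) = ((e₁ + e₂ + d : ℕ) : ℕ∞) := by
      push_cast
      exact hAB₁
    have h4 := ENat.coe_inj.mp h3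
    omega
  rw [this]
  push_cast
  rfl

end Groth.Agent.S7137
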