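import Groth.Statements.S7138
-- import your own Groth.Agent.* helpers here
import Groth.Agent.EtAlg.K361.KrasnerDvr
import Mathlib.Algebra.Polynomial.Eval.Irreducible
import Mathlib.FieldTheory.SeparableDegree

set_option autoImplicit false
universe u
open EtAlg

namespace Groth.Agent.S7138

open TensorProduct in
/-- Let A be a discrete valuation ring, K its field of fractions, A^ its completion and K^ the fraction
field of A^. Every finite separable extension M of K^ arises by base change: M ≅ K^ ⊗_K L as
K^-algebras for some finite separable extension L/K. -/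
theorem result (A K : Type u) [CommRing A] [IsDomain A]
    [IsDiscreteValuationRing A] [Field K] [Algebra A K] [IsFractionRing A K]
    (Kh : Type u) [Field Kh] [Algebra (AdicCompletion (IsLocalRing.maximalIdeal A) A) Kh]
    [IsFractionRing (AdicCompletion (IsLocalRing.maximalIdeal A) A) Kh] [Algebra A Kh] [Algebra K Kh]
    [IsScalarTower A (AdicCompletion (IsLocalRing.maximalIdeal A) A) Kh] [IsScalarTower A K Kh]
    (M : Type u) [Field M] [Algebra Kh M] [FiniteDimensional Kh M] [Algebra.IsSeparable Kh M] :
    ∃ (L : Type u) (_ : Field L) (_ : Algebra K L), FiniteDimensional K L ∧ Algebra.IsSeparable K L ∧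
      Nonempty ((Kh ⊗[K] L) ≃ₐ[Kh] M) := by
  obtain ⟨Q, hQ, ⟨e⟩⟩ := K361.KrasnerDvr.exists_algEquiv A Kh M
  set QK := Q.map (algebraMap A K) with hQKdef
  have hQK : QK.Monic := hQ.map _
  have hQh : (Q.map (algebraMap A (AdicCompletion (IsLocalRing.maximalIdeal A) A))).map
      (algebraMap (AdicCompletion (IsLocalRing.maximalIdeal A) A) Kh) =
      QK.map (algebraMap K Kh) := by
    rw [hQKdef, Polynomial.map_map, Polynomial.map_map,
      ← IsScalarTower.algebraMap_eq, ← IsScalarTower.algebraMap_eq]
  rw [hQh] at e
  have hirrh : Irreducible (QK.map (algebraMap K Kh)) := by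
    have hdom : IsDomain (AdjoinRoot (QK.map (algebraMap K Kh))) :=
      e.toMulEquiv.isDomain M
    have hprime : (Ideal.span {QK.map (algebraMap K Kh)}).IsPrime :=
      (Ideal.Quotient.isDomain_iff_prime _).mp hdom
    exact ((Ideal.span_singleton_prime (hQK.map _).ne_zero).mp hprime).irreducible
  have hirr : Irreducible QK :=
    Polynomial.Monic.irreducible_of_irreducible_map (algebraMap K Kh) QK hQK hirrh
  have hseph : (QK.map (algebraMap K Kh)).Separable := by
    have h1 : Polynomial.aeval (e (AdjoinRoot.root _)) (QK.map (algebraMap K Kh)) = 0 := by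
      rw [Polynomial.aeval_algHom_apply, AdjoinRoot.aeval_eq, AdjoinRoot.mk_self, map_zero]
    have h2 := minpoly.eq_of_irreducible_of_monic hirrh h1 (hQK.map _)
    rw [h2]
    exact Algebra.IsSeparable.isSeparable Kh _
  have hsep : QK.Separable := (Polynomial.separable_map (algebraMap K Kh)).mp hseph
  have : Fact (Irreducible QK) := ⟨hirr⟩
  refine ⟨AdjoinRoot QK, inferInstance, inferInstance, hQK.finite_adjoinRoot, ?_,
    ⟨(Groth.Agent.Etbc.H203.TensorRoot.tensorEquiv Kh QK).trans e⟩⟩
  have h3 : IsSeparable K (AdjoinRoot.root QK) := by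
    have h4 : minpoly K (AdjoinRoot.root QK) = QK := by
      refine (minpoly.eq_of_irreducible_of_monic hirr ?_ hQK).symm
      rw [AdjoinRoot.aeval_eq, AdjoinRoot.mk_self]
    rw [IsSeparable, h4]
    exact hsep
  have h5 : IntermediateField.adjoin K {AdjoinRoot.root QK} = ⊤ :=
    IntermediateField.adjoin_eq_top_of_algebra K _ (AdjoinRoot.adjoinRoot_eq_top)
  have h6 : Algebra.IsSeparable K (IntermediateField.adjoin K {AdjoinRoot.root QK}) :=
    (IntermediateField.isSeparable_adjoin_simple_iff_isSeparable _ _).mpr h3
  rw [h5] at h6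
  exact Algebra.IsSeparable.of_algHom K (⊤ : IntermediateField K (AdjoinRoot QK))
    (IntermediateField.topEquiv (F := K) (E := AdjoinRoot QK)).symm.toAlgHom

end Groth.Agent.S7138
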