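import Groth.Statements.S7141
import Groth.Agent.Etalg.MaxWEt
import Mathlib.RingTheory.Smooth.Basic
import Mathlib.RingTheory.Nilpotent.Lemmas
import Mathlib.RingTheory.Noetherian.Nilpotent

set_option autoImplicit false
universe u
open EtAlg

namespace Groth.Agent.S7141

open Groth.Agent.Etalg.SepElt

theorem map_sepElt {K : Type u} [Field K] {A : Type u} [CommRing A] [Algebra K A] (A' : Subalgebra K A) :
    (sepElt K A').map A'.val = sepElt K A ⊓ A' := by
  apply le_antisymm
  · rintro _ ⟨x, hx, rfl⟩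
    exact ⟨coe_mem_sepElt x hx, x.2⟩
  · rintro b ⟨hb, hbA'⟩
    have hle : Algebra.adjoin K {b} ≤ A' := Algebra.adjoin_le (Set.singleton_subset_iff.mpr hbA')
    have hle' : Algebra.adjoin K {b} ≤ sepElt K A := Algebra.adjoin_le (Set.singleton_subset_iff.mpr hb)
    have hfg : (Algebra.adjoin K {b}).FG := ⟨{b}, by rw [Finset.coe_singleton]⟩
    have := etale_of_le_sepElt hle' hfg
    have hmem : (⟨b, Algebra.subset_adjoin rfl⟩ : Algebra.adjoin K {b}) ∈ sepElt K (Algebra.adjoin K {b}) := by
      rw [sepElt_eq_top_of_etale]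
      exact Algebra.mem_top
    have h := map_mem_sepElt (Subalgebra.inclusion hle) hmem
    rw [Subalgebra.inclusion_mk] at h
    exact ⟨⟨b, hbA'⟩, h, rfl⟩

theorem bijOn_sepElt (K : Type u) [Field K] (A : Type u) [CommRing A] [Algebra K A] :
    Set.BijOn (Ideal.Quotient.mkₐ K (nilradical A)) (sepElt K A) (sepElt K (A ⧸ nilradical A)) := by
  refine ⟨fun x hx => map_mem_sepElt _ hx, ?_, ?_⟩
  · intro x hx y hy hxy
    have h1 : x - y ∈ nilradical A := by
      rw [← Ideal.Quotient.eq]; exact hxy
    have hred : IsReduced (sepElt K A) := isReduced_of_le_sepElt le_rfl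
    have h2 : IsNilpotent (⟨x - y, Subalgebra.sub_mem _ hx hy⟩ : sepElt K A) := by
      obtain ⟨n, hn⟩ := mem_nilradical.mp h1
      exact ⟨n, Subtype.ext hn⟩
    have h3 := h2.eq_zero
    exact sub_eq_zero.mp (congrArg Subtype.val h3)
  · intro b' hb'
    obtain ⟨b, rfl⟩ := Ideal.Quotient.mk_surjective b'
    let q : A →ₐ[K] A ⧸ nilradical A := Ideal.Quotient.mkₐ K (nilradical A)
    let S : Subalgebra K (A ⧸ nilradical A) := Algebra.adjoin K {q b}
    have hle : S ≤ sepElt K (A ⧸ nilradical A) := Algebra.adjoin_le (Set.singleton_subset_iff.mpr hb')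
    have het : Algebra.Etale K S := etale_of_le_sepElt hle ⟨{q b}, by rw [Finset.coe_singleton]⟩
    let A₁ : Subalgebra K A := Algebra.adjoin K {b}
    have hmap : A₁.map q = S := by
      rw [AlgHom.map_adjoin, Set.image_singleton]
    let g : A₁ →ₐ[K] S := (q.comp A₁.val).codRestrict S (fun x => by
      rw [← hmap]; exact ⟨x, x.2, rfl⟩)
    have hg : Function.Surjective g := by
      rintro ⟨x, hx⟩
      rw [← hmap] at hx
      obtain ⟨y, hy, rfl⟩ := hx
      exact ⟨⟨y, hy⟩, Subtype.ext rfl⟩
    have hnoeth : IsNoetherianRing A₁ := by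
      have : Algebra.FiniteType K A₁ := A₁.fg_iff_finiteType.mp ⟨{b}, by rw [Finset.coe_singleton]⟩
      exact Algebra.FiniteType.isNoetherianRing K A₁
    have hker : IsNilpotent (RingHom.ker (g : A₁ →+* S)) := by
      rw [Ideal.FG.isNilpotent_iff_le_nilradical (IsNoetherian.noetherian _)]
      intro x hx
      rw [RingHom.mem_ker] at hx
      have h1 : q x = 0 := congrArg Subtype.val hx
      have h2 : (x : A) ∈ nilradical A := Ideal.Quotient.eq_zero_iff_mem.mp h1
      obtain ⟨n, hn⟩ := mem_nilradical.mp h2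
      exact mem_nilradical.mpr ⟨n, Subtype.ext hn⟩
    let σ : S →ₐ[K] A₁ := Algebra.FormallySmooth.liftOfSurjective (AlgHom.id K S) g hg hker
    have hσ : ∀ x, g (σ x) = x := fun x => Algebra.FormallySmooth.liftOfSurjective_apply (AlgHom.id K S) g hg hker x
    let s : S := ⟨q b, Algebra.subset_adjoin rfl⟩
    refine ⟨(σ s : A₁), ?_, ?_⟩
    · have h1 : s ∈ sepElt K S := by
        rw [sepElt_eq_top_of_etale]; exact Algebra.mem_top
      exact map_mem_sepElt (A₁.val.comp σ) h1
    · exact congrArg Subtype.val (hσ s)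

theorem isUnit_or_eq_zero {K : Type u} [Field K] {A : Type u} [CommRing A] [Algebra K A]
    (h : ∀ e : A, IsIdempotentElem e → e = 0 ∨ e = 1) {s : A} (hs : s ∈ sepElt K A) : s = 0 ∨ IsUnit s := by
  obtain ⟨c, hc⟩ := exists_eq_mul_mul hs
  have hid : IsIdempotentElem (s * c) := by
    show s * c * (s * c) = s * c
    calc s * c * (s * c) = (s * s * c) * c := by ring
      _ = s * c := by rw [← hc]
  rcases h _ hid with h0 | h1
  · left
    calc s = s * s * c := hc
      _ = s * (s * c) := by ring
      _ = 0 := by rw [h0, mul_zero]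
  · exact Or.inr (IsUnit.of_mul_eq_one c h1)

theorem isField_sepElt {K : Type u} [Field K] {A : Type u} [CommRing A] [Algebra K A] [Nontrivial A]
    (h : ∀ e : A, IsIdempotentElem e → e = 0 ∨ e = 1) : IsField (sepElt K A) := by
  have hdom : IsDomain (sepElt K A) := by
    have : NoZeroDivisors (sepElt K A) := by
      refine ⟨fun {x y} hxy => ?_⟩
      have hxy' : (x : A) * y = 0 := congrArg Subtype.val hxy
      rcases isUnit_or_eq_zero h x.2 with hx | hx
      · exact Or.inl (Subtype.ext hx)
      · right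
        apply Subtype.ext
        exact (hx.mul_right_eq_zero).mp hxy'
    exact NoZeroDivisors.to_isDomain _
  have hint : Algebra.IsIntegral K (sepElt K A) := by
    refine ⟨fun x => ?_⟩
    have hle' : Algebra.adjoin K {(x : A)} ≤ sepElt K A := Algebra.adjoin_le (Set.singleton_subset_iff.mpr x.2)
    have hfg : (Algebra.adjoin K {(x : A)}).FG := ⟨{(x : A)}, by rw [Finset.coe_singleton]⟩
    have hfin := finite_of_le_sepElt hle' hfg
    have h1 : IsIntegral K (⟨x, Algebra.subset_adjoin rfl⟩ : Algebra.adjoin K {(x : A)}) :=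
      Algebra.IsIntegral.isIntegral _
    exact h1.map (Subalgebra.inclusion hle')
  exact isField_of_isIntegral_of_isField' (R := K) (Field.toIsField K)

theorem isSeparable_sepElt {K : Type u} [Field K] {A : Type u} [CommRing A] [Algebra K A]
    (hF : IsField (sepElt K A)) : Algebra.IsSeparable K (sepElt K A) := by
  have hw : Algebra.WeaklyEtale K (sepElt K A) := weaklyEtale_sepElt
  have htop : sepElt K (sepElt K A) = ⊤ := sepElt_eq_top_of_weaklyEtale K (sepElt K A)
  let _ : Field (sepElt K A) := hF.toField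
  refine ⟨fun x => ?_⟩
  have hx : x ∈ sepElt K (sepElt K A) := by rw [htop]; trivial
  exact isSeparable_of_mem_sepElt hx

/-- Let K be a field and, for a K-algebra A, let B_max(A) be its largest weakly étale K-subalgebra. (2)
For a K-subalgebra A' ⊆ A one has B_max(A') = B_max(A) ∩ A'. (4) The quotient map A → A_red =
A/nilradical restricts to a bijection B_max(A) → B_max(A_red). (6) If A ≠ 0 and its only idempotents
are 0 and 1, then B_max(A) is a field, algebraic and separable over K. (The published statement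
omits A ≠ 0; this row assumes it, since for A = 0 the largest weakly étale subalgebra is the zero
ring.) -/
theorem result (K : Type u) [Field K] (A : Type u) [CommRing A] [Algebra K A] :
    (∀ A' : Subalgebra K A,
      (EtAlgD.maxWeaklyEtale K A').map A'.val = EtAlgD.maxWeaklyEtale K A ⊓ A') ∧
    (Set.BijOn (Ideal.Quotient.mkₐ K (nilradical A)) (EtAlgD.maxWeaklyEtale K A)
      (EtAlgD.maxWeaklyEtale K (A ⧸ nilradical A))) ∧
    ((∀ e : A, IsIdempotentElem e → e = 0 ∨ e = 1) → Nontrivial A →
      IsField (EtAlgD.maxWeaklyEtale K A) ∧ Algebra.IsSeparable K (EtAlgD.maxWeaklyEtale K A)) := by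
  refine ⟨fun A' => ?_, ?_, fun hidem hnt => ?_⟩
  · rw [Groth.Agent.Etalg.MaxWEt.maxWeaklyEtale_eq, Groth.Agent.Etalg.MaxWEt.maxWeaklyEtale_eq]
    exact map_sepElt A'
  · rw [Groth.Agent.Etalg.MaxWEt.maxWeaklyEtale_eq, Groth.Agent.Etalg.MaxWEt.maxWeaklyEtale_eq]
    exact bijOn_sepElt K A
  · rw [Groth.Agent.Etalg.MaxWEt.maxWeaklyEtale_eq]
    exact ⟨isField_sepElt hidem, isSeparable_sepElt (isField_sepElt hidem)⟩

end Groth.Agent.S7141
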