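import Groth.Statements.S7142
import Groth.Agent.KZero.K233.ClTrSum
import Groth.Agent.PerfA.ProjHom
import Mathlib.Algebra.Category.ModuleCat.Biproducts
import Mathlib.RingTheory.Finiteness.Prod

set_option autoImplicit false
universe u
open CategoryTheory CategoryTheory.Limits
attribute [local instance] HasDerivedCategory.standard
open KZero

namespace Groth.Agent.S7142

open Groth.Agent.Cohder.KZPerf

/-- Finite projective modules: closure properties. -/
theorem vClosed (R : Type u) [CommRing R] :
    VClosed (fun M : ModuleCat.{u} R => Module.Finite R M ∧ Module.Projective R M) where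
  zero Z hZ := by
    have : Subsingleton Z := ModuleCat.isZero_iff_subsingleton.1 hZ
    exact ⟨inferInstance, inferInstance⟩
  iso e h := ⟨@Module.Finite.equiv _ _ _ _ _ _ _ _ h.1 e.toLinearEquiv,
    @Module.Projective.of_equiv' _ _ _ _ _ _ _ _ h.2 e.toLinearEquiv⟩
  biprod {X Y} hX hY := by
    have := hX.1
    have := hX.2
    have := hY.1
    have := hY.2
    let e : (X × Y) ≃ₗ[R] (X ⊞ Y : ModuleCat.{u} R) := (ModuleCat.biprodIsoProd X Y).symm.toLinearEquiv
    exact ⟨Module.Finite.equiv e, Module.Projective.of_equiv' e⟩
  ker {X Y} f hf hX hY := by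
    have := hX.1
    have := hX.2
    have := hY.1
    have := hY.2
    have hf' : Function.Surjective f.hom := (ModuleCat.epi_iff_surjective f).1 hf
    obtain ⟨s, hs⟩ := Module.projective_lifting_property f.hom LinearMap.id hf'
    -- the kernel is a direct summand
    let π : X →ₗ[R] LinearMap.ker f.hom := LinearMap.codRestrict _ (LinearMap.id - s ∘ₗ f.hom) (by
      intro x
      have : f.hom (s (f.hom x)) = f.hom x := LinearMap.congr_fun hs (f.hom x)
      simp [this])
    have hπ : π ∘ₗ (LinearMap.ker f.hom).subtype = LinearMap.id := by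
      ext x
      have : f.hom x.1 = 0 := x.2
      simp [π, this]
    have hsurj : Function.Surjective π := fun x => ⟨x.1, LinearMap.congr_fun hπ x⟩
    have h1 : Module.Finite R (LinearMap.ker f.hom) := Module.Finite.of_surjective π hsurj
    have h2 : Module.Projective R (LinearMap.ker f.hom) := Module.Projective.of_split _ _ hπ
    let e : LinearMap.ker f.hom ≃ₗ[R] (kernel f : ModuleCat.{u} R) :=
      (ModuleCat.kernelIsoKer f).symm.toLinearEquiv
    exact ⟨Module.Finite.equiv e, Module.Projective.of_equiv' e⟩

/-- Morphisms in `D(R)` between bounded complexes of finite projective modules are chain maps. -/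
theorem roofs (R : Type u) [CommRing R] :
    Roofs (fun M : ModuleCat.{u} R => Module.Finite R M ∧ Module.Projective R M) := by
  intro E F hE hF α
  obtain ⟨⟨a, b, hab⟩, hE'⟩ := hE
  have h1 : E.IsStrictlyLE b := (CochainComplex.isStrictlyLE_iff _ _).2 fun i hi => hab i (Or.inr hi)
  have h2 : ∀ i, Projective (E.X i) := fun i => by
    have := (hE' i).2
    exact ModuleCat.projective_of_categoryTheory_projective (E.X i)
  have h3 : E.IsKProjective := CochainComplex.isKProjective_of_projective E b
  obtain ⟨g, hg⟩ := Groth.Agent.PerfA.ProjHom.exists_Q_map α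
  exact ⟨E, 𝟙 E, g, ⟨⟨a, b, hab⟩, hE'⟩, inferInstance, by rw [hg]; simp⟩

/-- Perfect objects of `D(R)` are those represented by bounded complexes of finite projective modules. -/
theorem isPerfect_iff (R : Type u) [CommRing R] (K : Dual.D R) : DRing.IsPerfect R K ↔
    RepV (fun M : ModuleCat.{u} R => Module.Finite R M ∧ Module.Projective R M) K := by
  constructor
  · rintro ⟨E, a, b, h1, h2, h3⟩
    exact ⟨E, ⟨⟨a, b, h1⟩, h2⟩, h3⟩
  · rintro ⟨E, ⟨⟨a, b, h1⟩, h2⟩, h3⟩
    exact ⟨E, a, b, h1, h2, h3⟩

/-- Let R be a ring. There is an isomorphism K₀(R) ≅ K₀(D_perf(R)) between the Grothendieck group of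
finite projective R-modules and that of the triangulated category of perfect objects of D(R),
sending the class of a finite projective module M to the class of M placed in degree 0; under its
inverse the class of a bounded complex M^• of finite projective modules (vanishing outside [a, b])
goes to Σ_i (-1)^i [M^i]. -/
theorem result (R : Type u) [CommRing R] :
    ∃ φ : KZero.K0sub (fun M : ModuleCat.{u} R => Module.Finite R M ∧ Module.Projective R M) ≃+
        KZero.K0tr (fun K : Dual.D R => DRing.IsPerfect R K),
      (∀ (M : Type u) [AddCommGroup M] [Module R M], Module.Finite R M → Module.Projective R M →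
        φ (KZero.clSub (fun M : ModuleCat.{u} R => Module.Finite R M ∧ Module.Projective R M) (ModuleCat.of R M)) =
          KZero.clTr (fun K : Dual.D R => DRing.IsPerfect R K) (Dual.inD R M)) ∧
      ∀ (E : DRing.Cx R) (a b : ℤ), DRing.VanishesOutside E a b → DRing.TermwiseFiniteProjective E →
        φ.symm (KZero.clTr (fun K : Dual.D R => DRing.IsPerfect R K) (DRing.toD E)) =
          (Finset.Icc a b).sum (fun i => (i.negOnePow : ℤ) •
            KZero.clSub (fun M : ModuleCat.{u} R => Module.Finite R M ∧ Module.Projective R M) (E.X i)) := by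
  obtain ⟨φ, h1, h2⟩ := K233.ClTrSum.exists_equiv_sum (vClosed R) (roofs R)
    (fun K : Dual.D R => DRing.IsPerfect R K) (isPerfect_iff R)
  exact ⟨φ, fun M _ _ hM hM' => h1 (ModuleCat.of R M) ⟨hM, hM'⟩, fun E a b hE hE' => h2 E a b hE' hE⟩

end Groth.Agent.S7142
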