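import Groth.Statements.S7143
import Groth.Agent.S1968
import Mathlib.Algebra.Category.Ring.Instances
import Mathlib.RingTheory.Valuation.LocalSubring
import Mathlib.RingTheory.Flat.Localization

set_option autoImplicit false
universe u
open CategoryTheory
open EtAlg

namespace Groth.Agent.S7143

/-- Every normal domain A with fraction field K is the fibre product V ×_L K for suitable rings V and L
with maps A → V, V → L, K → L (together with the given A → K), where every ideal of V is flat (weak
dimension at most one) and V → L is flat, injective and an epimorphism of rings. -/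
theorem result (A K : Type u) [CommRing A] [IsDomain A] [Field K] [Algebra A K]
    [IsFractionRing A K] [IsIntegrallyClosed A] :
    ∃ (V L : Type u) (_ : CommRing V) (_ : CommRing L) (f : A →+* V) (g : V →+* L) (h : K →+* L),
      g.comp f = h.comp (algebraMap A K) ∧
      (∀ I : Ideal V, Module.Flat V I) ∧ g.Flat ∧ Function.Injective g ∧ Epi (CommRingCat.ofHom g) ∧
      ∀ (v : V) (k : K), g v = h k → ∃! a : A, f a = v ∧ algebraMap A K a = k := by
  classical
  -- the valuation rings of `K` above `A`
  have hex : ∀ x : {x : K // x ∉ (algebraMap A K).range}, ∃ V : ValuationSubring K,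
      (∀ a : A, algebraMap A K a ∈ V) ∧ (x : K) ∉ V := by
    intro x
    have hx : (x : K) ∉ (integralClosure A K).toSubring := by
      intro h
      apply x.2
      have h1 : IsIntegral A (x : K) := h
      exact IsIntegrallyClosed.isIntegral_iff.mp h1
    have h0 : IsIntegrallyClosedIn (integralClosure A K).toSubring K :=
      inferInstanceAs (IsIntegrallyClosedIn (integralClosure A K) K)
    obtain ⟨V, hle, hxV⟩ := Subring.exists_le_valuationSubring_of_isIntegrallyClosedIn hx
    refine ⟨V, fun a => hle ?_, hxV⟩
    show IsIntegral A _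
    exact isIntegral_algebraMap
  choose W hW hxW using hex
  let J := {x : K // x ∉ (algebraMap A K).range}
  obtain ⟨hflat, hloc⟩ := Groth.Agent.S1968.result (fun j : J => W j) (fun _ : J => K)
  let f : A →+* (∀ j : J, W j) := RingHom.pi fun j => (algebraMap A K).codRestrict (W j) (hW j)
  let g : (∀ j : J, W j) →+* (J → K) := algebraMap (∀ j : J, W j) (J → K)
  let h : K →+* (J → K) := RingHom.pi fun _ => RingHom.id K
  have hg : ∀ (v : ∀ j : J, W j) (j : J), g v j = (v j : K) := fun v j => rfl
  refine ⟨∀ j : J, W j, J → K, inferInstance, inferInstance, f, g, h, ?_, hflat, ?_, ?_, ?_, ?_⟩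
  · ext a j
    rfl
  · rw [RingHom.flat_algebraMap_iff]
    exact IsLocalization.flat _ (nonZeroDivisors (∀ j : J, W j))
  · intro v w hvw
    funext j
    apply Subtype.ext
    rw [← hg, ← hg, hvw]
  · exact IsLocalization.epi (nonZeroDivisors (∀ j : J, W j)) (J → K)
  · intro v k hvk
    have hk : k ∈ (algebraMap A K).range := by
      by_contra hcon
      apply hxW ⟨k, hcon⟩
      have h1 := congrFun hvk ⟨k, hcon⟩
      rw [hg] at h1
      have h2 : h k ⟨k, hcon⟩ = k := rfl
      rw [h2] at h1
      have h3 : ((v ⟨k, hcon⟩ : W ⟨k, hcon⟩) : K) ∈ W ⟨k, hcon⟩ := (v ⟨k, hcon⟩).2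
      rwa [h1] at h3
    obtain ⟨a, ha⟩ := hk
    refine ⟨a, ⟨?_, ha⟩, ?_⟩
    · funext j
      apply Subtype.ext
      rw [← hg v j, hvk]
      exact ha
    · rintro b ⟨-, hb⟩
      exact IsFractionRing.injective A K (hb.trans ha.symm)

end Groth.Agent.S7143
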