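import Groth.Statements.S7144

set_option autoImplicit false
universe u
open CAlg

namespace Groth.Agent.S7144

/-- (1) ⇔ (2): let R be a nonzero ring. Then for all a, b in R one of a, b divides the other if and only
if R is local and every finitely generated ideal of R is principal. (The further equivalence with
the total ordering of the set of ideals by inclusion is standard and not restated here.) -/
theorem result (R : Type u) [CommRing R] [Nontrivial R] :
    PreValuationRing R ↔ IsLocalRing R ∧ IsBezout R := by
  constructor
  · intro h
    have hdvd : ∀ a b : R, a ∣ b ∨ b ∣ a := fun a b => ValuationRing.dvd_total a b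
    refine ⟨IsLocalRing.of_nonunits_add ?_, ?_⟩
    · intro a b ha hb hab
      rcases hdvd a b with h | h
      · exact ha (isUnit_of_dvd_unit (dvd_add dvd_rfl h) hab)
      · exact hb (isUnit_of_dvd_unit (dvd_add h dvd_rfl) hab)
    · rw [IsBezout.iff_span_pair_isPrincipal]
      intro a b
      rcases hdvd a b with h | h
      · refine ⟨a, ?_⟩
        apply le_antisymm
        · rw [Ideal.span_le]
          rintro x (rfl | rfl)
          · exact Ideal.mem_span_singleton_self _
          · exact Ideal.mem_span_singleton.mpr h
        · exact Ideal.span_mono (by simp)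
      · refine ⟨b, ?_⟩
        apply le_antisymm
        · rw [Ideal.span_le]
          rintro x (rfl | rfl)
          · exact Ideal.mem_span_singleton.mpr h
          · exact Ideal.mem_span_singleton_self _
        · exact Ideal.span_mono (by simp)
  · rintro ⟨hloc, hbez⟩
    rw [PreValuationRing.iff_dvd_total]
    constructor
    intro a b
    obtain ⟨d, hd⟩ := (IsBezout.iff_span_pair_isPrincipal.mp hbez) a b
    have hd' : Ideal.span {a, b} = Ideal.span {d} := hd
    have hda : d ∣ a := Ideal.mem_span_singleton.mp (hd' ▸ Ideal.subset_span (by simp))
    have hdb : d ∣ b := Ideal.mem_span_singleton.mp (hd' ▸ Ideal.subset_span (by simp))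
    have hdm : d ∈ Ideal.span {a, b} := hd' ▸ Ideal.mem_span_singleton_self d
    obtain ⟨x, y, hxy⟩ := Ideal.mem_span_pair.mp hdm
    obtain ⟨a', ha'⟩ := hda
    obtain ⟨b', hb'⟩ := hdb
    have key : d * (1 - (x * a' + y * b')) = 0 := by
      have : d = x * (d * a') + y * (d * b') := by rw [← ha', ← hb', hxy]
      linear_combination this
    rcases IsLocalRing.isUnit_or_isUnit_one_sub_self (x * a' + y * b') with h | h
    · rcases IsLocalRing.isUnit_or_isUnit_of_isUnit_add h with h1 | h1
      · left
        have hu : IsUnit a' := isUnit_of_mul_isUnit_right h1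
        obtain ⟨u, rfl⟩ := hu
        have : a ∣ d := ⟨(↑u⁻¹ : R), by rw [ha']; simp [mul_assoc]⟩
        exact this.trans ⟨b', hb'⟩
      · right
        have hu : IsUnit b' := isUnit_of_mul_isUnit_right h1
        obtain ⟨u, rfl⟩ := hu
        have : b ∣ d := ⟨(↑u⁻¹ : R), by rw [hb']; simp [mul_assoc]⟩
        exact this.trans ⟨a', ha'⟩
    · have hd0 : d = 0 := by
        have := h.mul_left_eq_zero.mp key
        exact this
      left
      rw [hb', hd0, zero_mul]
      exact dvd_zero _

end Groth.Agent.S7144
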