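import Groth.Statements.S7145
import Mathlib.LinearAlgebra.FreeModule.Basic
import Mathlib.LinearAlgebra.FreeModule.Finite.Basic
import Mathlib.LinearAlgebra.Basis.Submodule
import Mathlib.Algebra.Category.ModuleCat.Abelian
import Mathlib.Algebra.Module.Submodule.Map
import Mathlib.Algebra.Module.Submodule.LinearMap

set_option autoImplicit false
universe u
open CategoryTheory CategoryTheory.Limits
open CAlg

namespace Groth.Agent.S7145

open Module in
/-- A finitely generated submodule of a free module is contained in a finite free submodule. -/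
theorem exists_hull (R : Type u) [CommRing R] (F : Type u) [AddCommGroup F] [Module R F]
    [Module.Free R F] (S : Submodule R F) (hS : S.FG) :
    ∃ T : Submodule R F, S ≤ T ∧ Module.Finite R T ∧ Module.Free R T := by
  classical
  obtain ⟨s, rfl⟩ := hS
  let b := Module.Free.chooseBasis R F
  let t : Finset (Module.Free.ChooseBasisIndex R F) := s.biUnion fun x => (b.repr x).support
  have hli : LinearIndependent R (fun i : t => b i) := b.linearIndependent.comp _ Subtype.val_injective
  refine ⟨Submodule.span R (Set.range (fun i : t => b i)), ?_, ?_, ?_⟩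
  · rw [Submodule.span_le]
    intro x hx
    have h1 := b.mem_span_repr_support x
    refine Submodule.span_mono ?_ h1
    rintro _ ⟨i, hi, rfl⟩
    exact ⟨⟨i, Finset.mem_biUnion.mpr ⟨x, hx, hi⟩⟩, rfl⟩
  · exact Module.Finite.of_basis (Basis.span hli)
  · exact Module.Free.of_basis (Basis.span hli)

/-- A finite free submodule. -/
def Good {R : Type u} [CommRing R] {F : Type u} [AddCommGroup F] [Module R F] (S : Submodule R F) : Prop :=
  Module.Finite R S ∧ Module.Free R S

/-- The submodules making up the subcomplex. -/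
theorem exists_submodules (R : Type u) [CommRing R]
    (F : CochainComplex (ModuleCat.{u} R) ℤ) (hfree : ∀ n : ℤ, Module.Free R (F.X n))
    (N : ℕ) (deg : Fin N → ℤ) (f : ∀ i : Fin N, F.X (deg i)) (a : ℤ) (ha : ∀ i, a ≤ deg i) :
    ∃ G : ∀ n : ℤ, Submodule R (F.X n), (∀ n, n < a → G n = ⊥) ∧ (∀ n, Good (G n)) ∧
      (∀ i j : ℤ, ∀ x ∈ G i, (F.d i j).hom x ∈ G j) ∧ ∀ i, f i ∈ G (deg i) := by
  classical
  -- the span of the given elements in degree `n`
  let S : ∀ n : ℤ, Submodule R (F.X n) := fun n => ⨆ i : Fin N, ⨆ h : deg i = n, R ∙ (h ▸ f i)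
  have hS : ∀ n, (S n).FG := fun n =>
    Submodule.fg_iSup _ fun i => Submodule.fg_iSup _ fun h => Submodule.fg_span_singleton _
  have hfS : ∀ i, f i ∈ S (deg i) := by
    intro i
    refine Submodule.mem_iSup_of_mem i (Submodule.mem_iSup_of_mem rfl ?_)
    exact Submodule.mem_span_singleton_self _
  have hull : ∀ (n : ℤ) (S : Submodule R (F.X n)), ∃ T : Submodule R (F.X n),
      S.FG → (S ≤ T ∧ Module.Finite R T ∧ Module.Free R T) := by
    intro n S
    have := hfree n
    by_cases hS : S.FG
    · obtain ⟨T, hT⟩ := exists_hull R (F.X n) S hS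
      exact ⟨T, fun _ => hT⟩
    · exact ⟨⊥, fun h => absurd h hS⟩
  choose H hH using hull
  let step : (∀ n : ℤ, Submodule R (F.X n)) → (∀ n : ℤ, Submodule R (F.X n)) := fun G n =>
    H n (S n ⊔ (G (n - 1)).map (F.d (n - 1) n).hom)
  let it : ℕ → (∀ n : ℤ, Submodule R (F.X n)) := fun k =>
    Nat.rec (fun n => ⊥) (fun _ G => step G) k
  have it0 : ∀ n, it 0 n = ⊥ := fun n => rfl
  have itS : ∀ k n, it (k + 1) n = H n (S n ⊔ (it k (n - 1)).map (F.d (n - 1) n).hom) := fun k n => rfl
  have hit : ∀ (k : ℕ) (n : ℤ), Good (it k n) := by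
    intro k
    induction k with
    | zero =>
      intro n
      rw [it0]
      exact ⟨inferInstance, inferInstance⟩
    | succ k ih =>
      intro n
      rw [itS]
      have hfg : (S n ⊔ (it k (n - 1)).map (F.d (n - 1) n).hom).FG :=
        (hS n).sup ((Module.Finite.iff_fg.mp (ih (n - 1)).1).map _)
      exact (hH n _ hfg).2
  let G : ∀ n : ℤ, Submodule R (F.X n) := fun n => it (n - a + 1).toNat n
  have hG0 : ∀ n, n < a → G n = ⊥ := by
    intro n hn
    have : (n - a + 1).toNat = 0 := by omega
    simp only [G, this, it0]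
  have hG1 : ∀ n, a ≤ n → S n ⊔ (G (n - 1)).map (F.d (n - 1) n).hom ≤ G n := by
    intro n hn
    have h1 : (n - a + 1).toNat = (n - a).toNat + 1 := by omega
    have h2 : (n - 1 - a + 1).toNat = (n - a).toNat := by
      congr 1
      ring
    simp only [G, h1, h2, itS]
    have hfg : (S n ⊔ (it (n - a).toNat (n - 1)).map (F.d (n - 1) n).hom).FG :=
      (hS n).sup ((Module.Finite.iff_fg.mp (hit _ (n - 1)).1).map _)
    exact (hH n _ hfg).1
  have hd : ∀ i j : ℤ, ∀ x ∈ G i, (F.d i j).hom x ∈ G j := by
    intro i j x hx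
    by_cases hij : i + 1 = j
    · obtain rfl : i = j - 1 := by omega
      by_cases hj : a ≤ j
      · exact (le_sup_right.trans (hG1 j hj)) (Submodule.mem_map_of_mem hx)
      · rw [hG0 _ (by omega), Submodule.mem_bot] at hx
        rw [hx, map_zero]
        exact Submodule.zero_mem _
    · rw [F.shape i j (by simpa using hij)]
      exact Submodule.zero_mem _
  exact ⟨G, hG0, fun n => hit _ n, hd, fun i => (le_sup_left.trans (hG1 _ (ha i))) (hfS i)⟩

/-- Let R be a ring and F a cochain complex of free R-modules that is zero in all sufficiently large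
degrees. Given finitely many elements f_i of F, f_i lying in degree n_i, there is a subcomplex G of
F (a map of complexes G → F injective in every degree) through which every f_i passes, such that G
is zero outside a finite range of degrees and each term of G is a finitely generated free R-module. -/
theorem result (R : Type u) [CommRing R]
    (F : CochainComplex (ModuleCat.{u} R) ℤ) (hfree : ∀ n : ℤ, Module.Free R (F.X n))
    (b : ℤ) (hb : ∀ n : ℤ, b < n → IsZero (F.X n))
    (N : ℕ) (deg : Fin N → ℤ) (f : ∀ i : Fin N, F.X (deg i)) :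
    ∃ (G : CochainComplex (ModuleCat.{u} R) ℤ) (ι : G ⟶ F),
      (∀ n : ℤ, Function.Injective (ι.f n)) ∧
      (∃ a c : ℤ, ∀ n : ℤ, (n < a ∨ c < n) → IsZero (G.X n)) ∧
      (∀ n : ℤ, Module.Finite R (G.X n) ∧ Module.Free R (G.X n)) ∧
      ∀ i : Fin N, f i ∈ Set.range (ι.f (deg i)) := by
  obtain ⟨a, ha⟩ : ∃ a : ℤ, ∀ i, a ≤ deg i := by
    obtain ⟨a, ha⟩ := (Set.finite_range deg).bddBelow
    exact ⟨a, fun i => ha ⟨i, rfl⟩⟩
  obtain ⟨G, hG0, hG, hd, hf⟩ := exists_submodules R F hfree N deg f a ha
  let X : ℤ → ModuleCat.{u} R := fun n => ModuleCat.of R ↥(G n)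
  let d : ∀ i j : ℤ, X i ⟶ X j := fun i j => ModuleCat.ofHom ((F.d i j).hom.restrict (hd i j))
  have hdv : ∀ (i j : ℤ) (x : X i), (((d i j).hom x : X j) : F.X j) = (F.d i j).hom x.1 := fun i j x => rfl
  let GC : CochainComplex (ModuleCat.{u} R) ℤ :=
    { X := X
      d := d
      shape := fun i j hij => ModuleCat.hom_ext (LinearMap.ext fun x => Subtype.ext (by
        rw [hdv, F.shape i j hij]
        rfl))
      d_comp_d' := fun i j k _ _ => ModuleCat.hom_ext (LinearMap.ext fun x => Subtype.ext (by
        change ((F.d j k).hom ((F.d i j).hom x.1) : F.X k) = 0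
        have := F.d_comp_d i j k
        exact congrArg (fun g => g.hom x.1) this)) }
  let ι : GC ⟶ F :=
    { f := fun n => ModuleCat.ofHom (G n).subtype
      comm' := by
        intro i j _
        ext x
        rfl }
  refine ⟨GC, ι, ?_, ⟨a, b, ?_⟩, ?_, ?_⟩
  · intro n
    exact Subtype.val_injective
  · rintro n (hn | hn)
    · have h1 := hG0 n hn
      have : Subsingleton (G n) := by rw [h1]; infer_instance
      exact ModuleCat.isZero_of_subsingleton (ModuleCat.of R (G n))
    · have : Subsingleton (F.X n) := ModuleCat.subsingleton_of_isZero (hb n hn)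
      exact ModuleCat.isZero_of_subsingleton (ModuleCat.of R (G n))
  · intro n
    exact hG n
  · intro i
    exact ⟨⟨f i, hf i⟩, rfl⟩

end Groth.Agent.S7145
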