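import Groth.Statements.S7146
import Mathlib.Data.Sym.Card
import Mathlib.Data.Nat.Choose.Bounds
import Mathlib.RingTheory.Length
import Mathlib.Algebra.Group.Pointwise.Set.ListOfFn
import Mathlib.RingTheory.Ideal.Quotient.Operations
import Mathlib.Analysis.SpecificLimits.Basic

set_option autoImplicit false
universe u
open Filter
open CAlg

namespace Groth.Agent.S7146

section

variable {R : Type u} [CommRing R] {d : ℕ} (g : Fin d → R)

/-- the monomials of degree `n` in the `g_i` -/
def mon (n : ℕ) (s : Sym (Fin d) n) : R := ((s : Multiset (Fin d)).map g).prod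

theorem mon_mem (n : ℕ) (s : Sym (Fin d) n) : mon g n s ∈ Ideal.span (Set.range g) ^ n := by
  obtain ⟨s, hs⟩ := s
  subst hs
  change (s.map g).prod ∈ _
  induction s using Multiset.induction_on with
  | empty => simp
  | cons a s ih =>
    rw [Multiset.map_cons, Multiset.prod_cons, Multiset.card_cons, pow_succ']
    exact Ideal.mul_mem_mul (Ideal.subset_span ⟨a, rfl⟩) ih

theorem span_pow_eq (n : ℕ) :
    Ideal.span (Set.range g) ^ n = Ideal.span (Set.range (mon g n)) := by
  apply le_antisymm
  · rw [← Ideal.submodule_span_eq, Submodule.span_pow, Ideal.submodule_span_eq, Ideal.span_le]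
    intro x hx
    obtain ⟨f, rfl⟩ := Set.mem_pow.mp hx
    choose k hk using fun i => (f i).2
    refine Ideal.subset_span ⟨⟨(List.ofFn k : Multiset (Fin d)), by simp⟩, ?_⟩
    change (Multiset.map g (List.ofFn k : Multiset (Fin d))).prod = _
    rw [Multiset.map_coe, Multiset.prod_coe, List.map_ofFn]
    congr 2
    funext i
    exact hk i
  · rw [Ideal.span_le]
    rintro _ ⟨s, rfl⟩
    exact mon_mem g n s

theorem length_succ (n : ℕ) :
    Module.length R (R ⧸ Ideal.span (Set.range g) ^ (n + 1)) ≤
      (Nat.multichoose d n : ℕ∞) * Module.length R (R ⧸ Ideal.span (Set.range g)) +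
        Module.length R (R ⧸ Ideal.span (Set.range g) ^ n) := by
  classical
  set I := Ideal.span (Set.range g) with hI
  let q : (R ⧸ I ^ (n + 1)) →ₗ[R] (R ⧸ I ^ n) :=
    Submodule.mapQ (I ^ (n + 1)) (I ^ n) LinearMap.id (Ideal.pow_le_pow_right (Nat.le_succ n))
  have hq : Function.Surjective q := by
    intro y
    obtain ⟨y, rfl⟩ := Ideal.Quotient.mk_surjective y
    exact ⟨Ideal.Quotient.mk _ y, rfl⟩
  have hφ : ∀ s : Sym (Fin d) n, I ≤ Submodule.comap (LinearMap.mulLeft R (mon g n s)) (I ^ (n + 1)) := by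
    intro s x hx
    rw [Submodule.mem_comap, LinearMap.mulLeft_apply, pow_succ]
    exact Ideal.mul_mem_mul (mon_mem g n s) hx
  let φ : ∀ s : Sym (Fin d) n, (R ⧸ I) →ₗ[R] (R ⧸ I ^ (n + 1)) := fun s =>
    Submodule.mapQ I (I ^ (n + 1)) (LinearMap.mulLeft R (mon g n s)) (hφ s)
  let Φ : (Sym (Fin d) n → R ⧸ I) →ₗ[R] (R ⧸ I ^ (n + 1)) := ∑ s, φ s ∘ₗ LinearMap.proj s
  have hker : LinearMap.ker q ≤ LinearMap.range Φ := by
    intro y hy
    obtain ⟨r, rfl⟩ := Ideal.Quotient.mk_surjective y
    have hr : r ∈ I ^ n := by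
      have : Ideal.Quotient.mk (I ^ n) r = 0 := hy
      exact Ideal.Quotient.eq_zero_iff_mem.mp this
    rw [hI, span_pow_eq, Ideal.mem_span_range_iff_exists_fun] at hr
    obtain ⟨c, hc⟩ := hr
    refine ⟨fun s => Ideal.Quotient.mk I (c s), ?_⟩
    rw [← hc]
    simp only [Φ, LinearMap.sum_apply, LinearMap.comp_apply, LinearMap.proj_apply, map_sum]
    refine Finset.sum_congr rfl fun s _ => ?_
    change Ideal.Quotient.mk (I ^ (n + 1)) (mon g n s * c s) = _
    rw [mul_comm]
  rw [Module.length_eq_add_of_exact (LinearMap.ker q).subtype q (LinearMap.ker q).injective_subtype hq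
    (LinearMap.exact_subtype_ker_map q)]
  refine add_le_add ?_ le_rfl
  calc Module.length R (LinearMap.ker q) ≤ Module.length R (LinearMap.range Φ) :=
        Module.length_le_of_injective (Submodule.inclusion hker) (Submodule.inclusion_injective hker)
    _ ≤ Module.length R (Sym (Fin d) n → R ⧸ I) :=
        Module.length_le_of_surjective Φ.rangeRestrict Φ.surjective_rangeRestrict
    _ = (Nat.multichoose d n : ℕ∞) * Module.length R (R ⧸ I) := by
        rw [Module.length_pi, ENat.card_eq_coe_fintype_card, Sym.card_sym_fin_eq_multichoose]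

theorem length_le (n : ℕ) :
    Module.length R (R ⧸ Ideal.span (Set.range g) ^ (n + 1)) ≤
      (Nat.multichoose (d + 1) n : ℕ∞) * Module.length R (R ⧸ Ideal.span (Set.range g)) := by
  induction n with
  | zero =>
    rw [Nat.multichoose_zero_right, Nat.cast_one, one_mul, zero_add, pow_one]
  | succ n ih =>
    refine (length_succ g (n + 1)).trans ?_
    rw [Nat.multichoose_succ_succ, Nat.cast_add, add_mul]
    exact add_le_add le_rfl ih

end

/-- Let R be a Noetherian local ring of Krull dimension d and I the ideal generated by a system of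
parameters g_1, ..., g_d (d elements of the maximal ideal generating an ideal with radical the
maximal ideal); let e_I be the multiplicity of I, i.e. d! times the top coefficient of the numerical
polynomial n ↦ length(R/I^(n+1)), equivalently the limit of d!·length(R/Iⁿ)/n^d. Then e_I ≤
length(R/I). (Stated for a natural number e equal to that limit.) -/
theorem result (R : Type u) [CommRing R] [IsNoetherianRing R] [IsLocalRing R]
    (d : ℕ) (hd : ringKrullDim R = d) (g : Fin d → R) (hg : ∀ i, g i ∈ IsLocalRing.maximalIdeal R)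
    (hsop : IsLocalRing.maximalIdeal R ≤ (Ideal.span (Set.range g)).radical) (e : ℕ)
    (he : Tendsto (fun n : ℕ => (d.factorial : ℝ) * ((Module.length R (R ⧸ Ideal.span (Set.range g) ^ n)).toNat : ℝ) / (n : ℝ) ^ d)
      atTop (nhds (e : ℝ))) :
    (e : ℕ∞) ≤ Module.length R (R ⧸ Ideal.span (Set.range g)) := by
  rcases eq_or_ne (Module.length R (R ⧸ Ideal.span (Set.range g))) ⊤ with htop | htop
  · rw [htop]; exact le_top
  obtain ⟨L, hL⟩ := ENat.ne_top_iff_exists.mp htop
  rw [← hL]
  -- the bound
  have hb : ∀ n : ℕ, (Module.length R (R ⧸ Ideal.span (Set.range g) ^ (n + 1))).toNat ≤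
      (n + d).choose d * L := by
    intro n
    have h1 := length_le g n
    rw [← hL, Nat.multichoose_eq] at h1
    have h2 : (d + 1 + n - 1).choose n = (n + d).choose d := by
      rw [show d + 1 + n - 1 = n + d by omega, Nat.choose_symm_add]
    rw [h2, ← Nat.cast_mul] at h1
    exact ENat.toNat_le_of_le_natCast h1
  have hlim : Tendsto (fun n : ℕ => (L : ℝ) * (1 + ((d : ℝ) - 1) * (1 / ((n : ℝ) + 1))) ^ d) atTop
      (nhds ((L : ℝ) * (1 + ((d : ℝ) - 1) * 0) ^ d)) :=
    ((((tendsto_one_div_add_atTop_nhds_zero_nat (𝕜 := ℝ)).const_mul _).const_add _).pow _).const_mul _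
  have he' := (tendsto_add_atTop_iff_nat 1).mpr he
  have hle : (e : ℝ) ≤ (L : ℝ) * (1 + ((d : ℝ) - 1) * 0) ^ d := by
    refine le_of_tendsto_of_tendsto' he' hlim fun n => ?_
    have hpos : (0 : ℝ) < ((n : ℝ) + 1) := by positivity
    have h3 : (1 : ℝ) + ((d : ℝ) - 1) * (1 / ((n : ℝ) + 1)) = ((n : ℝ) + d) / ((n : ℝ) + 1) := by
      field_simp
      ring
    rw [h3, div_pow, ← mul_div_assoc]
    push_cast
    refine div_le_div_of_nonneg_right ?_ (by positivity)
    have h4 : ((Module.length R (R ⧸ Ideal.span (Set.range g) ^ (n + 1))).toNat : ℝ) ≤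
        ((n + d).choose d : ℝ) * L := by exact_mod_cast hb n
    have h5 : ((n + d).choose d : ℝ) ≤ ((n + d : ℕ) : ℝ) ^ d / (d.factorial : ℝ) :=
      Nat.choose_le_pow_div d (n + d)
    have hf : (0 : ℝ) < (d.factorial : ℝ) := by positivity
    calc (d.factorial : ℝ) * ((Module.length R (R ⧸ Ideal.span (Set.range g) ^ (n + 1))).toNat : ℝ)
        ≤ (d.factorial : ℝ) * (((n + d : ℕ) : ℝ) ^ d / (d.factorial : ℝ) * L) := by
          refine mul_le_mul_of_nonneg_left (h4.trans ?_) hf.le
          exact mul_le_mul_of_nonneg_right h5 (by positivity)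
      _ = (L : ℝ) * ((n : ℝ) + d) ^ d := by
          push_cast
          field_simp
  rw [mul_zero, add_zero, one_pow, mul_one] at hle
  exact_mod_cast hle

end Groth.Agent.S7146
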