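import Groth.Statements.S7147
import Groth.Agent.CAlg.K66.FiberForms
import Mathlib.RingTheory.Localization.Module
import Mathlib.Algebra.Module.LocalizedModule.IsLocalization

set_option autoImplicit false
universe u
open CAlg

namespace Groth.Agent.S7147

/-- Let R be a ring, M a finitely presented R-module and x a maximal ideal of R with residue field κ(x);
write M(x) = M/xM and let B(x) ⊆ M(x) be the orthogonal of the image of Hom_R(M, R) in the dual of
M(x), i.e. the classes of those m in M with φ(m) in x for every linear form φ on M, and V(x) =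
M(x)/B(x). For s_1, ..., s_r in M the following are equivalent: (1) there is f in R, f not in x,
such that the map R_f^r → M_f given by the s_i is the inclusion of a direct summand; (2) the images
of s_1, ..., s_r in V(x) are linearly independent over κ(x). -/
theorem result (R : Type u) [CommRing R] (M : Type u)
    [AddCommGroup M] [Module R M] [Module.FinitePresentation R M] (x : Ideal R) [x.IsMaximal]
    (r : ℕ) (s : Fin r → M) :
    let Mx := M ⧸ (x • ⊤ : Submodule R M)
    let Bx : Submodule (R ⧸ x) Mx :=
      Submodule.span (R ⧸ x) ((x • ⊤ : Submodule R M).mkQ '' {m : M | ∀ φ : M →ₗ[R] R, φ m ∈ x})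
    (∃ f : R, f ∉ x ∧
      ∃ g : LocalizedModule (Submonoid.powers f) M →ₗ[Localization.Away f] (Fin r → Localization.Away f),
        g ∘ₗ Fintype.linearCombination (Localization.Away f)
            (fun i => LocalizedModule.mkLinearMap (Submonoid.powers f) M (s i)) = LinearMap.id) ↔
    LinearIndependent (R ⧸ x) (fun i => Bx.mkQ ((x • ⊤ : Submodule R M).mkQ (s i))) := by
  intro Mx Bx
  change _ ↔ LinearIndependent (R ⧸ x) (fun i => K66.FiberForms.img x (s i))
  have hxp : x.IsPrime := Ideal.IsMaximal.isPrime inferInstance
  constructor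
  · rintro ⟨f, hf, g, hg⟩
    have hgs : ∀ i, g (LocalizedModule.mkLinearMap (Submonoid.powers f) M (s i)) = Pi.single i 1 := by
      intro i
      have := LinearMap.congr_fun hg (Pi.single i 1)
      rw [LinearMap.comp_apply, Fintype.linearCombination_apply_single, one_smul] at this
      exact this
    have hpow : ∀ t : Submonoid.powers f, (t : R) ∉ x := by
      rintro ⟨_, n, rfl⟩ h
      exact hf (hxp.mem_of_pow_mem n h)
    rw [K66.FiberForms.linearIndependent_iff]
    intro c hc j
    let gj : M →ₗ[R] Localization.Away f :=
      ((LinearMap.proj j : (Fin r → Localization.Away f) →ₗ[Localization.Away f] _).restrictScalars R) ∘ₗ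
        g.restrictScalars R ∘ₗ LocalizedModule.mkLinearMap (Submonoid.powers f) M
    obtain ⟨φ, k, hφ⟩ := Module.FinitePresentation.exists_lift_of_isLocalizedModule
      (Submonoid.powers f) (Algebra.linearMap R (Localization.Away f)) gj
    have h1 : algebraMap R (Localization.Away f) (φ (∑ i, c i • s i)) =
        algebraMap R (Localization.Away f) (k * c j) := by
      have h2 := LinearMap.congr_fun hφ (∑ i, c i • s i)
      rw [LinearMap.comp_apply, Algebra.linearMap_apply] at h2
      rw [h2]
      have h3 : gj (∑ i, c i • s i) = algebraMap R (Localization.Away f) (c j) := by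
        rw [map_sum, Finset.sum_eq_single j]
        · rw [map_smul]
          change c j • (g (LocalizedModule.mkLinearMap (Submonoid.powers f) M (s j))) j = _
          rw [hgs, Pi.single_eq_same, Algebra.smul_def, mul_one]
        · intro i _ hij
          rw [map_smul]
          change c i • (g (LocalizedModule.mkLinearMap (Submonoid.powers f) M (s i))) j = _
          rw [hgs, Pi.single_eq_of_ne' hij, smul_zero]
        · intro h
          exact absurd (Finset.mem_univ _) h
      change (k : R) • gj (∑ i, c i • s i) = _
      rw [h3, map_mul, Algebra.smul_def]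
    obtain ⟨t, ht⟩ := (IsLocalization.eq_iff_exists (Submonoid.powers f) (Localization.Away f)).mp h1
    have h4 : (t : R) * (k * c j) ∈ x := by
      rw [← ht]
      exact Ideal.mul_mem_left _ _ (hc φ)
    exact (hxp.mem_or_mem ((hxp.mem_or_mem h4).resolve_left (hpow t))).resolve_left (hpow k)
  · intro h
    obtain ⟨φ, hφ⟩ := (K66.FiberForms.linearIndependent_iff_exists_det x s).mp h
    set A : Matrix (Fin r) (Fin r) R := Matrix.of fun i j => φ i (s j) with hA
    refine ⟨A.det, hφ, ?_⟩
    let Rf := Localization.Away A.det
    let g₀ : M →ₗ[R] (Fin r → R) := A.adjugate.mulVecLin ∘ₗ LinearMap.pi φ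
    have hg₀ : ∀ i, g₀ (s i) = Pi.single i A.det := by
      intro i
      have h1 : (LinearMap.pi φ) (s i) = A.mulVec (Pi.single i 1) := by
        ext j
        simp [hA, Matrix.mulVec_single]
      change A.adjugate.mulVec ((LinearMap.pi φ) (s i)) = _
      rw [h1, Matrix.mulVec_mulVec, Matrix.adjugate_mul, Matrix.smul_mulVec, Matrix.one_mulVec,
        ← Pi.single_smul, smul_eq_mul, mul_one]
    let g₁ : M →ₗ[R] (Fin r → Rf) := (Algebra.linearMap R Rf).compLeft (Fin r) ∘ₗ g₀
    have hunit : ∀ t : Submonoid.powers A.det, IsUnit ((algebraMap R (Module.End R (Fin r → Rf))) t) := by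
      intro t
      obtain ⟨w, hw⟩ := IsLocalization.map_units Rf t
      have h6 : ⇑(algebraMap R (Module.End R (Fin r → Rf)) t) = fun v => w • v := by
        funext v
        change (t : R) • v = (w : Rf) • v
        rw [hw, algebraMap_smul]
      rw [Module.End.isUnit_iff, h6]
      exact MulAction.bijective w
    let g₂ : LocalizedModule (Submonoid.powers A.det) M →ₗ[R] (Fin r → Rf) :=
      LocalizedModule.lift (Submonoid.powers A.det) g₁ hunit
    have hg₂ : ∀ m, g₂ (LocalizedModule.mkLinearMap (Submonoid.powers A.det) M m) = g₁ m := fun m =>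
      LinearMap.congr_fun (LocalizedModule.lift_comp (Submonoid.powers A.det) g₁ hunit) m
    let g₃ : LocalizedModule (Submonoid.powers A.det) M →ₗ[Rf] (Fin r → Rf) :=
      g₂.extendScalarsOfIsLocalization (Submonoid.powers A.det) Rf
    have hg₃ : ∀ m, g₃ (LocalizedModule.mkLinearMap (Submonoid.powers A.det) M m) = g₁ m := hg₂
    have hu : IsUnit (algebraMap R Rf A.det) :=
      IsLocalization.map_units Rf (⟨A.det, Submonoid.mem_powers _⟩ : Submonoid.powers A.det)
    obtain ⟨u, hu⟩ := hu
    refine ⟨(↑u⁻¹ : Rf) • g₃, ?_⟩
    apply LinearMap.pi_ext'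
    intro i
    apply LinearMap.ext
    intro a
    rw [LinearMap.comp_apply, LinearMap.comp_apply, LinearMap.coe_single,
      Fintype.linearCombination_apply_single, LinearMap.smul_apply, map_smul, hg₃]
    have h5 : g₁ (s i) = Pi.single i (u : Rf) := by
      change (Algebra.linearMap R Rf).compLeft (Fin r) (g₀ (s i)) = _
      rw [hg₀, hu]
      ext j
      by_cases hij : j = i
      · subst hij; simp
      · simp [Pi.single_eq_of_ne hij]
    rw [h5, LinearMap.id_comp, LinearMap.coe_single, smul_comm, ← Pi.single_smul, ← Pi.single_smul,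
      smul_eq_mul, smul_eq_mul, Units.inv_mul, mul_one]

end Groth.Agent.S7147
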