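import Groth.Statements.S7148
import Groth.Agent.S7153
import Mathlib.Algebra.Category.ModuleCat.Ext.DimensionShifting
import Mathlib.Algebra.Homology.DerivedCategory.Ext.ExactSequences
import Mathlib.Algebra.Category.ModuleCat.Projective

set_option autoImplicit false
universe u
open CategoryTheory
attribute [local instance] HasDerivedCategory.standard
open CAlg

namespace Groth.Agent.S7148

open Abelian

/-- the short complex of two linear maps -/
theorem shortExact_of {A : Type u} [CommRing A] {X Y Z : Type u} [AddCommGroup X] [Module A X]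
    [AddCommGroup Y] [Module A Y] [AddCommGroup Z] [Module A Z] (f : X →ₗ[A] Y) (g : Y →ₗ[A] Z)
    (hf : Function.Injective f) (hfg : Function.Exact f g) (hg : Function.Surjective g) :
    (ShortComplex.mk (ModuleCat.ofHom f) (ModuleCat.ofHom g)
      (by ext x; exact hfg.apply_apply_eq_zero x)).ShortExact := by
  have h1 : Mono (ModuleCat.ofHom f) := (ModuleCat.mono_iff_injective _).2 hf
  have h2 : Epi (ModuleCat.ofHom g) := (ModuleCat.epi_iff_surjective _).2 hg
  exact
    { exact := (ShortComplex.ShortExact.moduleCat_exact_iff_function_exact _).2 hfg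
      mono_f := h1
      epi_g := h2 }

theorem ext_step {A : Type u} [CommRing A]
    {K F M K' F' M' Kn N Nk : Type u} [AddCommGroup K] [Module A K] [AddCommGroup F] [Module A F]
    [AddCommGroup M] [Module A M] [AddCommGroup K'] [Module A K'] [AddCommGroup F'] [Module A F']
    [AddCommGroup M'] [Module A M'] [AddCommGroup Kn] [Module A Kn] [AddCommGroup N] [Module A N]
    [AddCommGroup Nk] [Module A Nk] [Module.Projective A F]
    (i : K →ₗ[A] F) (π : F →ₗ[A] M) (hi : Function.Injective i) (hex : Function.Exact i π)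
    (hπ : Function.Surjective π)
    (i' : K' →ₗ[A] F') (π' : F' →ₗ[A] M') (hi' : Function.Injective i') (hex' : Function.Exact i' π')
    (hπ' : Function.Surjective π')
    (τ₁ : K' →ₗ[A] K) (τ₂ : F' →ₗ[A] F) (τ₃ : M' →ₗ[A] M) (h₁ : i ∘ₗ τ₁ = τ₂ ∘ₗ i')
    (h₂ : π ∘ₗ τ₂ = τ₃ ∘ₗ π') (j : K' →ₗ[A] Kn) (s : Kn →ₗ[A] K) (hj : s ∘ₗ j = τ₁)
    (sN : Nk →ₗ[A] N) (p : ℕ)
    (ih : ∀ e₁ : Ext.{u} (ModuleCat.of A K) (ModuleCat.of A N) p,
      ∃ e₂ : Ext.{u} (ModuleCat.of A Kn) (ModuleCat.of A Nk) p,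
        e₂.comp (Ext.mk₀ (ModuleCat.ofHom sN)) (add_zero p) =
          (Ext.mk₀ (ModuleCat.ofHom s)).comp e₁ (zero_add p))
    (e : Ext.{u} (ModuleCat.of A M) (ModuleCat.of A N) (p + 1)) :
    ∃ e' : Ext.{u} (ModuleCat.of A M') (ModuleCat.of A Nk) (p + 1),
        e'.comp (Ext.mk₀ (ModuleCat.ofHom sN)) (add_zero (p + 1)) =
          (Ext.mk₀ (ModuleCat.ofHom τ₃)).comp e (zero_add (p + 1)) := by
  have hS := shortExact_of i π hi hex hπ
  have hS' := shortExact_of i' π' hi' hex' hπ'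
  let S := ShortComplex.mk (ModuleCat.ofHom i) (ModuleCat.ofHom π)
      (by ext x; exact hex.apply_apply_eq_zero x)
  let S' := ShortComplex.mk (ModuleCat.ofHom i') (ModuleCat.ofHom π')
      (by ext x; exact hex'.apply_apply_eq_zero x)
  have hS1 : S.ShortExact := hS
  have hS1' : S'.ShortExact := hS'
  let φ : S' ⟶ S :=
    { τ₁ := ModuleCat.ofHom τ₁
      τ₂ := ModuleCat.ofHom τ₂
      τ₃ := ModuleCat.ofHom τ₃
      comm₁₂ := by
        change ModuleCat.ofHom τ₁ ≫ ModuleCat.ofHom i = ModuleCat.ofHom i' ≫ ModuleCat.ofHom τ₂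
        rw [← ModuleCat.ofHom_comp, ← ModuleCat.ofHom_comp, h₁]
      comm₂₃ := by
        change ModuleCat.ofHom τ₂ ≫ ModuleCat.ofHom π = ModuleCat.ofHom π' ≫ ModuleCat.ofHom τ₃
        rw [← ModuleCat.ofHom_comp, ← ModuleCat.ofHom_comp, h₂] }
  have hproj : Projective S.X₂ := (IsProjective.iff_projective F).mp inferInstance
  obtain ⟨e₁, he₁⟩ := precomp_extClass_surjective_of_projective_X₂ (ModuleCat.of A N) hS1 p e
  obtain ⟨e₂, he₂⟩ := ih e₁
  have hj' : ModuleCat.ofHom j ≫ ModuleCat.ofHom s = ModuleCat.ofHom τ₁ := by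
    rw [← ModuleCat.ofHom_comp, hj]
  refine ⟨hS1'.extClass.comp ((Ext.mk₀ (ModuleCat.ofHom j)).comp e₂ (zero_add p)) (add_comm 1 p), ?_⟩
  rw [Ext.comp_assoc_of_third_deg_zero, Ext.comp_assoc_of_third_deg_zero, he₂,
    Ext.mk₀_comp_mk₀_assoc, hj', ← Ext.comp_assoc_of_second_deg_zero]
  have hnat := ShortComplex.ShortExact.extClass_naturality hS1' hS1 φ
  have hnat' : hS1'.extClass.comp (Ext.mk₀ (ModuleCat.ofHom τ₁)) (add_zero 1) =
      (Ext.mk₀ (ModuleCat.ofHom τ₃)).comp hS1.extClass (zero_add 1) := hnat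
  have he : e = hS1.extClass.comp e₁ (add_comm 1 p) := he₁.symm
  rw [he]
  exact (congrArg (fun z => z.comp e₁ (add_comm 1 p)) hnat').trans
    (Ext.comp_assoc _ _ _ (zero_add 1) (add_comm 1 p) (by omega))

theorem ext_step2 {A : Type u} [CommRing A] (I : Ideal A)
    {K F M N : Type u} [AddCommGroup K] [Module A K] [AddCommGroup F] [Module A F]
    [AddCommGroup M] [Module A M] [AddCommGroup N] [Module A N] [Module.Projective A F]
    (i : K →ₗ[A] F) (π : F →ₗ[A] M) (hi : Function.Injective i) (hex : Function.Exact i π)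
    (hπ : Function.Surjective π) (c₁ c₂ : ℕ)
    (hc₁ : ∀ k : ℕ, ∀ x : K, i x ∈ (I ^ (k + c₁) • ⊤ : Submodule A F) → x ∈ (I ^ k • ⊤ : Submodule A K))
    (p : ℕ)
    (hc₂ : ∀ k : ℕ, ∀ e : Ext.{u} (ModuleCat.of A K) (ModuleCat.of A N) p,
      ∃ e' : Ext.{u} (ModuleCat.of A ↥(I ^ (k + c₂) • ⊤ : Submodule A K))
          (ModuleCat.of A ↥(I ^ k • ⊤ : Submodule A N)) p,
        e'.comp (Ext.mk₀ (ModuleCat.ofHom (I ^ k • ⊤ : Submodule A N).subtype)) (add_zero p) =
          (Ext.mk₀ (ModuleCat.ofHom (I ^ (k + c₂) • ⊤ : Submodule A K).subtype)).comp e (zero_add p))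
    (k : ℕ) (e : Ext.{u} (ModuleCat.of A M) (ModuleCat.of A N) (p + 1)) :
      ∃ e' : Ext.{u} (ModuleCat.of A ↥(I ^ (k + (c₁ + c₂)) • ⊤ : Submodule A M))
          (ModuleCat.of A ↥(I ^ k • ⊤ : Submodule A N)) (p + 1),
        e'.comp (Ext.mk₀ (ModuleCat.ofHom (I ^ k • ⊤ : Submodule A N).subtype)) (add_zero (p + 1)) =
          (Ext.mk₀ (ModuleCat.ofHom (I ^ (k + (c₁ + c₂)) • ⊤ : Submodule A M).subtype)).comp e
            (zero_add (p + 1)) := by
  set n := k + (c₁ + c₂) with hn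
  have hmap : ∀ x ∈ (I ^ n • ⊤ : Submodule A F), π x ∈ (I ^ n • ⊤ : Submodule A M) := by
    intro x hx
    have h1 := Submodule.mem_map_of_mem (f := π) hx
    rw [Submodule.map_smul''] at h1
    exact Submodule.smul_mono le_rfl le_top h1
  let π' : (I ^ n • ⊤ : Submodule A F) →ₗ[A] (I ^ n • ⊤ : Submodule A M) := π.restrict hmap
  have hπ' : Function.Surjective π' := by
    rintro ⟨y, hy⟩
    have h1 : y ∈ (I ^ n • ⊤ : Submodule A F).map π := by
      rw [Submodule.map_smul'', Submodule.map_top, LinearMap.range_eq_top.mpr hπ]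
      exact hy
    obtain ⟨x, hx, rfl⟩ := h1
    exact ⟨⟨x, hx⟩, rfl⟩
  -- the kernel of `π'`, as a submodule of `K`
  let K' : Submodule A K := (I ^ n • ⊤ : Submodule A F).comap i
  let i' : K' →ₗ[A] (I ^ n • ⊤ : Submodule A F) := i.restrict fun x hx => hx
  have hi' : Function.Injective i' := by
    intro x y hxy
    exact Subtype.ext (hi (congrArg Subtype.val hxy))
  have hex' : Function.Exact i' π' := by
    intro x
    constructor
    · intro hx
      obtain ⟨y, hy⟩ := (hex x.1).mp (congrArg Subtype.val hx)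
      exact ⟨⟨y, by rw [Submodule.mem_comap, hy]; exact x.2⟩, Subtype.ext hy⟩
    · rintro ⟨y, rfl⟩
      exact Subtype.ext (hex.apply_apply_eq_zero y.1)
  have hτ₁ : K' ≤ (I ^ (k + c₂) • ⊤ : Submodule A K) := by
    intro x hx
    apply hc₁
    have h2 : k + c₂ + c₁ = n := by omega
    rw [h2]
    exact hx
  exact ext_step i π hi hex hπ i' π' hi' hex' hπ' K'.subtype (I ^ n • ⊤ : Submodule A F).subtype
    (I ^ n • ⊤ : Submodule A M).subtype (LinearMap.ext fun x => rfl) (LinearMap.ext fun x => rfl)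
    (Submodule.inclusion hτ₁) (I ^ (k + c₂) • ⊤ : Submodule A K).subtype (LinearMap.ext fun x => rfl)
    (I ^ k • ⊤ : Submodule A N).subtype p (hc₂ k) e

theorem ext_main {A : Type u} [CommRing A] [IsNoetherianRing A] (I : Ideal A)
    (N : Type u) [AddCommGroup N] [Module A N] (p : ℕ) :
    ∀ (M : Type u) [AddCommGroup M] [Module A M] [Module.Finite A M],
    ∃ c : ℕ, ∀ k : ℕ, ∀ e : Ext.{u} (ModuleCat.of A M) (ModuleCat.of A N) p,
      ∃ e' : Ext.{u} (ModuleCat.of A ↥(I ^ (k + c) • ⊤ : Submodule A M))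
          (ModuleCat.of A ↥(I ^ k • ⊤ : Submodule A N)) p,
        e'.comp (Ext.mk₀ (ModuleCat.ofHom (I ^ k • ⊤ : Submodule A N).subtype)) (add_zero p) =
          (Ext.mk₀ (ModuleCat.ofHom (I ^ (k + c) • ⊤ : Submodule A M).subtype)).comp e (zero_add p) := by
  induction p with
  | zero =>
    intro M _ _ _
    refine ⟨0, fun k e => ?_⟩
    obtain ⟨f, rfl⟩ := Ext.homEquiv₀.symm.surjective e
    have hf : ∀ x ∈ (I ^ (k + 0) • ⊤ : Submodule A M), f.hom x ∈ (I ^ k • ⊤ : Submodule A N) := by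
      intro x hx
      have h1 := Submodule.mem_map_of_mem (f := f.hom) hx
      rw [Submodule.map_smul'', add_zero] at h1
      exact Submodule.smul_mono le_rfl le_top h1
    refine ⟨Ext.mk₀ (ModuleCat.ofHom (f.hom.restrict hf)), ?_⟩
    rw [Ext.mk₀_comp_mk₀]
    change _ = (Ext.mk₀ _).comp (Ext.mk₀ f) _
    rw [Ext.mk₀_comp_mk₀]
    rfl
  | succ p ih =>
    intro M _ _ _
    obtain ⟨t, π, hπ⟩ := Module.Finite.exists_fin' A M
    -- a finite module mapping isomorphically onto the kernel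
    obtain ⟨c₁, hc₁⟩ := S7153.artinRees I (LinearMap.ker π)
    obtain ⟨c₂, hc₂⟩ := ih (LinearMap.ker π)
    have hex : Function.Exact (LinearMap.ker π).subtype π := LinearMap.exact_subtype_ker_map π
    refine ⟨c₁ + c₂, fun k e => ?_⟩
    refine ext_step2 I (LinearMap.ker π).subtype π (LinearMap.ker π).injective_subtype hex hπ c₁ c₂
      ?_ p hc₂ k e
    intro k x hx
    have h1 := hc₁ (k + c₁) (by omega) ⟨hx, x.2⟩
    rw [Nat.add_sub_cancel] at h1
    have h3 : (I ^ k • LinearMap.ker π) =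
        (I ^ k • ⊤ : Submodule A (LinearMap.ker π)).map (LinearMap.ker π).subtype := by
      rw [Submodule.map_smul'', Submodule.map_top, Submodule.range_subtype]
    rw [h3] at h1
    obtain ⟨y, hy, hyx⟩ := h1
    have h4 : y = x := Subtype.ext hyx
    rw [← h4]
    exact hy

/-- Let A be a Noetherian ring, I an ideal, M a finite A-module and N any A-module. For every p > 0
there is c ≥ 0 such that for all n ≥ c the map Ext^p_A(M, N) → Ext^p_A(IⁿM, N) factors through
Ext^p_A(IⁿM, I^(n-c)N) → Ext^p_A(IⁿM, N). Here Ext^p(X, Y) is the group of morphisms X → Y[p] in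
D(A). -/
theorem result (A : Type u) [CommRing A] [IsNoetherianRing A] (I : Ideal A)
    (M N : Type u) [AddCommGroup M] [Module A M] [Module.Finite A M] [AddCommGroup N] [Module A N]
    (p : ℕ) (hp : 0 < p) :
    ∃ c : ℕ, ∀ n : ℕ, c ≤ n →
      ∀ e : Dual.inD A M ⟶ (Dual.inD A N)⟦(p : ℤ)⟧,
        ∃ e' : Dual.inD A ↥(I ^ n • ⊤ : Submodule A M) ⟶ (Dual.inD A ↥(I ^ (n - c) • ⊤ : Submodule A N))⟦(p : ℤ)⟧,
          e' ≫ ((DerivedCategory.singleFunctor (ModuleCat.{u} A) 0).map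
                  (ModuleCat.ofHom (I ^ (n - c) • ⊤ : Submodule A N).subtype))⟦(p : ℤ)⟧' =
            (DerivedCategory.singleFunctor (ModuleCat.{u} A) 0).map
                (ModuleCat.ofHom (I ^ n • ⊤ : Submodule A M).subtype) ≫ e := by
  obtain ⟨c, hc⟩ := ext_main I N p M
  refine ⟨c, fun n hn e => ?_⟩
  obtain ⟨k, rfl⟩ := Nat.exists_eq_add_of_le' hn
  rw [Nat.add_sub_cancel]
  obtain ⟨e₀, rfl⟩ := (Ext.homEquiv (X := ModuleCat.of A M) (Y := ModuleCat.of A N) (n := p)).surjective e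
  obtain ⟨e', he'⟩ := hc k e₀
  refine ⟨e'.hom, ?_⟩
  rw [Ext.hom_comp_singleFunctor_map_shift, he']
  exact (Ext.singleFunctor_map_comp_hom _ _).symm

end Groth.Agent.S7148
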