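import Groth.Statements.S7149
import Groth.Agent.S7153
import Groth.Agent.LoccohB.KosP

set_option autoImplicit false
universe u
open CategoryTheory
attribute [local instance] HasDerivedCategory.standard
open CAlg

namespace Groth.Agent.S7149

open LoccohB.KosP

theorem isKProjective {A : Type u} [CommRing A] {F : DRing.Cx A} {b : ℤ} (hb : DRing.VanishesAbove F b)
    (hF : ∀ i, Module.Projective A (F.X i)) : F.IsKProjective := by
  have : F.IsStrictlyLE b := (CochainComplex.isStrictlyLE_iff _ _).2 fun i hi => hb i hi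
  have : ∀ i, Projective (F.X i) := fun i => by
    have := hF i
    exact ModuleCat.projective_of_categoryTheory_projective (F.X i)
  exact CochainComplex.isKProjective_of_projective F b

/-- Let A be a Noetherian ring, I an ideal, K a pseudo-coherent object of D(A) and M a finite A-module.
For each integer p there is c such that for all n ≥ c the image of Ext^p_A(K, IⁿM) → Ext^p_A(K, M)
is contained in I^(n-c)·Ext^p_A(K, M); here Ext^p(K, X) = Hom_{D(A)}(K, X[p]) with its natural
A-module structure. -/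
theorem result (A : Type u) [CommRing A] [IsNoetherianRing A] (I : Ideal A)
    (K : Dual.D A) (hK : DRing.IsPseudoCoherent' A K) (M : Type u) [AddCommGroup M] [Module A M] [Module.Finite A M]
    (p : ℤ) :
    ∃ c : ℕ, ∀ n : ℕ, c ≤ n →
      ∀ e : K ⟶ (Dual.inD A ↥(I ^ n • ⊤ : Submodule A M))⟦p⟧,
        e ≫ ((DerivedCategory.singleFunctor (ModuleCat.{u} A) 0).map
              (ModuleCat.ofHom (I ^ n • ⊤ : Submodule A M).subtype))⟦p⟧' ∈
          (I ^ (n - c) • ⊤ : Submodule A (K ⟶ (Dual.inD A M)⟦p⟧)) := by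
  obtain ⟨E, b, hb, hff, ⟨ε⟩⟩ := hK
  have hfin : ∀ i, Module.Finite A (E.X i) := fun i => (hff i).1
  have hfree : ∀ i, Module.Free A (E.X i) := fun i => (hff i).2
  have hproj : ∀ i, Module.Projective A (E.X i) := fun i => inferInstance
  have hKP : E.IsKProjective := isKProjective hb hproj
  have h : -p + p = 0 := neg_add_cancel p
  have hfin' := hfin (-p)
  have hproj' := hproj (-p)
  have : Module.Finite A (E.X (-p) →ₗ[A] M) := finite_hom
  set Z := cocyc M E (-p) with hZ
  obtain ⟨c, hc⟩ := S7153.artinRees I Z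
  refine ⟨c, fun n hn e => ?_⟩
  have hz : ∀ z : Z, E.d (-p - 1) (-p) ≫ ModuleCat.ofHom z.1 = 0 := by
    intro z
    ext x
    exact LinearMap.congr_fun z.2 x
  -- the class map
  let T : Z → (DRing.toD E ⟶ (Dual.inD A M)⟦p⟧) := fun z => tcl h (ModuleCat.ofHom z.1) (hz z)
  have hTadd : ∀ z z' : Z, T (z + z') = T z + T z' := fun z z' => tcl_add h _ _ (hz z) (hz z')
  have hTsmul : ∀ (a : A) (z : Z), T (a • z) = a • T z := fun a z => tcl_smul h a _ (hz z)
  let Ψ : Z →ₗ[A] (K ⟶ (Dual.inD A M)⟦p⟧) :=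
    { toFun := fun z => ε.inv ≫ T z
      map_add' := fun z z' => by rw [hTadd, Preadditive.comp_add]
      map_smul' := fun a z => by rw [hTsmul, Linear.comp_smul, RingHom.id_apply] }
  obtain ⟨f, hf, hfe⟩ := tcl_surjective (K := E)
    (X := ModuleCat.of A (powSub I M n)) h (ε.hom ≫ e)
  let f' : E.X (-p) →ₗ[A] M := (powSub I M n).subtype ∘ₗ f.hom
  have hf' : f' ∈ Z := by
    rw [hZ, mem_cocyc_iff]
    ext x
    have := congrArg (fun t => (powSub I M n).subtype (t.hom x)) hf
    exact this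
  have hf'' : f' ∈ (I ^ n • ⊤ : Submodule A (E.X (-p) →ₗ[A] M)) :=
    mem_smul_top_of_forall _ _ fun x => (f.hom x).2
  have hmem := hc n hn ⟨hf'', hf'⟩
  have hmem' : (⟨f', hf'⟩ : Z) ∈ (I ^ (n - c) • ⊤ : Submodule A Z) := by
    have h3 : (I ^ (n - c) • Z) = (I ^ (n - c) • ⊤ : Submodule A Z).map Z.subtype := by
      rw [Submodule.map_smul'', Submodule.map_top, Submodule.range_subtype]
    rw [h3] at hmem
    obtain ⟨y, hy, hyx⟩ := hmem
    have h4 : y = ⟨f', hf'⟩ := Subtype.ext hyx
    rw [← h4]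
    exact hy
  have hΨ : Ψ ⟨f', hf'⟩ = e ≫ ((DerivedCategory.singleFunctor (ModuleCat.{u} A) 0).map
              (ModuleCat.ofHom (I ^ n • ⊤ : Submodule A M).subtype))⟦p⟧' := by
    have h6 : T ⟨f', hf'⟩ = (ε.hom ≫ e) ≫ ((DerivedCategory.singleFunctor (ModuleCat.{u} A) 0).map
              (ModuleCat.ofHom (I ^ n • ⊤ : Submodule A M).subtype))⟦p⟧' := by
      refine (tcl_postcomp h f hf (ModuleCat.ofHom (I ^ n • ⊤ : Submodule A M).subtype)).trans ?_
      exact congrArg (fun t => t ≫ ((DerivedCategory.singleFunctor (ModuleCat.{u} A) 0).map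
              (ModuleCat.ofHom (I ^ n • ⊤ : Submodule A M).subtype))⟦p⟧') hfe
    change ε.inv ≫ T ⟨f', hf'⟩ = _
    rw [h6, Category.assoc, ε.inv_hom_id_assoc]
  rw [← hΨ]
  have h7 := Submodule.mem_map_of_mem (f := Ψ) hmem'
  rw [Submodule.map_smul''] at h7
  exact Submodule.smul_mono le_rfl le_top h7

end Groth.Agent.S7149
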