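import Groth.Statements.S7151
import Groth.Agent.EtAlg.K362.SolGoodOf
import Groth.Agent.EtAlg.K362.SolUp

set_option autoImplicit false
universe u
open EtAlg

namespace Groth.Agent.S7151

/-- An algebra generated by separable elements is separable. -/
theorem isSeparable_of_adjoin {F M : Type u} [Field F] [Field M] [Algebra F M] (S : Set M)
    (hS : ∀ x ∈ S, IsSeparable F x) (h : Algebra.adjoin F S = ⊤) : Algebra.IsSeparable F M := by
  refine ⟨fun x => ?_⟩
  have hx : x ∈ Algebra.adjoin F S := by rw [h]; trivial
  rw [← mem_separableClosure_iff]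
  induction hx using Algebra.adjoin_induction with
  | mem y hy => exact mem_separableClosure_iff.mpr (hS y hy)
  | algebraMap r => exact (separableClosure F M).algebraMap_mem r
  | add y z _ _ hy hz => exact add_mem hy hz
  | mul y z _ _ hy hz => exact mul_mem hy hz

/-- A finitely generated algebraic field extension is finite. -/
theorem finite_of_adjoin {K F K' M : Type u} [Field K] [Field F] [Field K'] [Field M] [Algebra K F] [Algebra K K']
    [Algebra K M] [Algebra F M] [Algebra K' M] [IsScalarTower K F M] [IsScalarTower K K' M] [FiniteDimensional K K']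
    (h : Algebra.adjoin F (Set.range (algebraMap K' M)) = ⊤) : FiniteDimensional F M := by
  have h1 : FiniteDimensional F (IntermediateField.adjoin F (Set.range (algebraMap K' M))) :=
    K362.SolUp.finite_stage (K := K)
  have h2 : IntermediateField.adjoin F (Set.range (algebraMap K' M)) = ⊤ := by
    rw [eq_top_iff]
    intro x _
    have hx : x ∈ Algebra.adjoin F (Set.range (algebraMap K' M)) := by rw [h]; trivial
    exact IntermediateField.algebra_adjoin_le_adjoin F _ hx
  rw [h2] at h1
  exact Module.Finite.equiv (IntermediateField.topEquiv (F := F) (E := M)).toLinearEquiv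

/-- Let p be a prime and A → B an injective local homomorphism of discrete valuation rings whose fields
of fractions are K ⊆ L, where K has characteristic p, L is separable (geometrically reduced) over K
and B is a Nagata ring. Let K ⊆ K₁ ⊆ K₂ be finite extensions such that K₂ is a solution for A ⊆ B
and K₂/K₁ is purely inseparable of degree p. Then some finite separable extension K₃/K₁ is also a
solution for A ⊆ B. -/
theorem result (p : ℕ) (hp : p.Prime) (A B K L : Type u)
    [CommRing A] [IsDomain A] [IsDiscreteValuationRing A] [CommRing B] [IsDomain B] [IsDiscreteValuationRing B]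
    [Algebra A B] (hinj : Function.Injective (algebraMap A B)) [IsLocalHom (algebraMap A B)]
    [Field K] [Field L] [Algebra A K] [IsFractionRing A K] [Algebra B L] [IsFractionRing B L]
    [Algebra K L] [Algebra A L] [IsScalarTower A K L] [IsScalarTower A B L] [CharP K p]
    [Algebra.IsGeometricallyReduced K L] (hB : CAlg.IsNagata B)
    (K₁ K₂ : Type u) [Field K₁] [Field K₂] [Algebra K K₁] [Algebra K K₂] [Algebra K₁ K₂] [IsScalarTower K K₁ K₂]
    [FiniteDimensional K K₁] [FiniteDimensional K₁ K₂] (hsol : EtRam.IsSolution B K L K₂)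
    [IsPurelyInseparable K₁ K₂] (hdeg : Module.finrank K₁ K₂ = p) :
    ∃ (K₃ : Type u) (_ : Field K₃) (_ : Algebra K K₃) (_ : Algebra K₁ K₃) (_ : IsScalarTower K K₁ K₃),
      FiniteDimensional K₁ K₃ ∧ Algebra.IsSeparable K₁ K₃ ∧ EtRam.IsSolution B K L K₃ := by
  have hfinK₂ : FiniteDimensional K K₂ := FiniteDimensional.trans K K₁ K₂
  let Ω := AlgebraicClosure L
  obtain ⟨O, hO⟩ := Groth.Agent.Etalg.RamBasic.exists_dominates ((algebraMap L Ω).comp (algebraMap B L))
  let σ : K₂ →ₐ[K] Ω := IsAlgClosed.lift
  have hgood := K362.SolGoodOf.good_of_isSolution (B := B) O hO hsol σ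
  have hE : FiniteDimensional K σ.fieldRange :=
    (AlgEquiv.ofInjectiveField σ).toLinearEquiv.finiteDimensional
  have hdvr : IsDiscreteValuationRing (O.comap (algebraMap K Ω)) := by
    have h1 : EtRam.Dominates A ((algebraMap K Ω).comp (algebraMap A K)) O := by
      have h2 : (algebraMap K Ω).comp (algebraMap A K) =
          ((algebraMap L Ω).comp (algebraMap B L)).comp (algebraMap A B) := by
        ext x
        show algebraMap K Ω (algebraMap A K x) = algebraMap L Ω (algebraMap B L (algebraMap A B x))
        rw [← IsScalarTower.algebraMap_apply A B L, IsScalarTower.algebraMap_apply A K L,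
          ← IsScalarTower.algebraMap_apply K L Ω]
      rw [h2]
      refine ⟨fun a => hO.1 _, fun a ha => hO.2 _ ?_⟩
      exact (((IsLocalRing.local_hom_TFAE (algebraMap A B)).out 0 2 rfl rfl).mp ‹_›) (Ideal.mem_map_of_mem _ ha)
    rw [(Groth.Agent.Etalg.RamBasic.dominates_comp_algebraMap_iff (A := A) (algebraMap K Ω)).mp h1]
    infer_instance
  obtain ⟨K₃', _, _, _, _, hsol'⟩ :=
    Groth.Agent.Etalg2.H529.SolSep.exists_separable_solution hB hO σ.fieldRange hgood
  obtain ⟨K₃, _, _, _, _, _, _, hadj⟩ := Groth.Agent.Etalg.SepSol3.exists_compositum K K₁ K₃'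
  have hfin : FiniteDimensional K₁ K₃ := finite_of_adjoin (K := K) (K' := K₃') hadj
  have hfinK : FiniteDimensional K K₃ := FiniteDimensional.trans K K₁ K₃
  have hfin' : FiniteDimensional K₃' K₃ := Module.Finite.of_restrictScalars_finite K K₃' K₃
  refine ⟨K₃, inferInstance, inferInstance, inferInstance, inferInstance, hfin, ?_, ?_⟩
  · refine isSeparable_of_adjoin _ ?_ hadj
    rintro _ ⟨x, rfl⟩
    have h1 : IsSeparable K x := Algebra.IsSeparable.isSeparable K x
    have h2 : IsSeparable K (algebraMap K₃' K₃ x) := by
      have := h1.map (IsScalarTower.toAlgHom K K₃' K₃) (algebraMap K₃' K₃).injective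
      exact this
    exact h2.tower_top K₁
  · exact K362.SolUp.isSolution_up (A := A) (K₁ := K₃') hsol'

end Groth.Agent.S7151
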