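import Groth.Statements.S7154
import Groth.Agent.S1979
import Groth.Agent.EtAlg.K362.FiniteRes

set_option autoImplicit false
universe u
open EtAlg

namespace Groth.Agent.S7154

/-- Let A → B → C be injective local homomorphisms of discrete valuation rings whose fields of fractions
are K ⊆ L ⊆ M, where A and B are complete, A → B is weakly unramified, M/L is finite, and the
residue field k of A is an algebraically closed field of characteristic p > 0 which, inside the
residue field κ_B of B, is exactly the set of elements admitting a pⁿ-th root for every n. Then some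
finite extension K₁/K is a weak solution for A → C. -/
theorem result (p : ℕ) (hp : p.Prime) (A B C K L M : Type u)
    [CommRing A] [IsDomain A] [IsDiscreteValuationRing A] [CommRing B] [IsDomain B] [IsDiscreteValuationRing B]
    [CommRing C] [IsDomain C] [IsDiscreteValuationRing C]
    [Algebra A B] [Algebra B C] [Algebra A C] [IsScalarTower A B C]
    (hAB : Function.Injective (algebraMap A B)) (hBC : Function.Injective (algebraMap B C))
    [IsLocalHom (algebraMap A B)] [IsLocalHom (algebraMap B C)]
    [Field K] [Field L] [Field M] [Algebra A K] [IsFractionRing A K] [Algebra B L] [IsFractionRing B L]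
    [Algebra C M] [IsFractionRing C M] [Algebra K L] [Algebra L M] [Algebra K M] [IsScalarTower K L M]
    [Algebra A L] [IsScalarTower A K L] [IsScalarTower A B L] [Algebra B M] [IsScalarTower B L M] [IsScalarTower B C M]
    [Algebra A M] [IsScalarTower A K M] [IsScalarTower A C M]
    [IsAlgClosed (IsLocalRing.ResidueField A)] [CharP (IsLocalRing.ResidueField A) p]
    [IsAdicComplete (IsLocalRing.maximalIdeal A) A] [IsAdicComplete (IsLocalRing.maximalIdeal B) B]
    (hw : EtRam.IsWeaklyUnramified A B) [FiniteDimensional L M]
    (hk : ∀ x : IsLocalRing.ResidueField B, (∀ n : ℕ, ∃ y : IsLocalRing.ResidueField B, y ^ (p ^ n) = x) ↔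
      x ∈ Set.range (algebraMap (IsLocalRing.ResidueField A) (IsLocalRing.ResidueField B))) :
    ∃ (K₁ : Type u) (_ : Field K₁) (_ : Algebra K K₁), FiniteDimensional K K₁ ∧ EtRam.IsWeakSolution C K M K₁ := by
  have hloc : IsLocalHom (algebraMap A C) := by
    rw [IsScalarTower.algebraMap_eq A B C]
    exact RingHom.isLocalHom_comp _ _
  have hinj : Function.Injective (algebraMap A C) := by
    rw [IsScalarTower.algebraMap_eq A B C]
    exact hBC.comp hAB
  have hcp0 : CharP (IsLocalRing.ResidueField A) p := inferInstance
  obtain ⟨K₁, i1, i2, i3, h⟩ := Groth.Agent.S1979.result A C K M hinj (by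
    intro q hq hcq x hx
    have hpq : p = q := CharP.eq (IsLocalRing.ResidueField A) hcp0 hcq
    subst hpq
    have hfact : Fact p.Prime := ⟨hp⟩
    have hcp : CharP (IsLocalRing.ResidueField B) p :=
      charP_of_injective_algebraMap
        (algebraMap (IsLocalRing.ResidueField A) (IsLocalRing.ResidueField B)).injective p
    have hfin : Module.Finite (IsLocalRing.ResidueField B) (IsLocalRing.ResidueField C) :=
      K362.FiniteRes.finite_residue B C L M
    have ht : IsScalarTower (IsLocalRing.ResidueField A) (IsLocalRing.ResidueField B)
        (IsLocalRing.ResidueField C) := by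
      apply IsScalarTower.of_algebraMap_eq
      intro z
      obtain ⟨a, rfl⟩ := IsLocalRing.residue_surjective z
      show IsLocalRing.residue C (algebraMap A C a) = IsLocalRing.residue C (algebraMap B C (algebraMap A B a))
      rw [← IsScalarTower.algebraMap_apply]
    have halg : IsAlgebraic (IsLocalRing.ResidueField A) x := by
      refine Groth.Agent.Etalg.PerfHull.isAlgebraic_of_forall_pow (κ := IsLocalRing.ResidueField B) p ?_ x hx
      intro y hy
      obtain ⟨z, rfl⟩ := (hk y).mp hy
      exact isAlgebraic_algebraMap z
    exact PerfectField.separable_of_irreducible (minpoly.irreducible halg.isIntegral))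
  exact ⟨K₁, i1, i2, i3, h⟩

end Groth.Agent.S7154
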