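import Groth.Statements.S7155
import Groth.Agent.EtAlg.K362.ASData
import Groth.Agent.EtAlg.K362.ASExt
import Groth.Agent.EtAlg.K362.ASFierce2
import Groth.Agent.Etalg.EppAlg
import Groth.Agent.S1984

set_option autoImplicit false
universe u
open EtAlg

namespace Groth.Agent.S7155

open IsLocalRing EtRam Groth.Agent.Etalg.RamBasic Finset K362.ASRel

/-- Laurent expansion of an element of the fraction field. -/
theorem laurent {B L : Type u} [CommRing B] [IsDomain B] [IsDiscreteValuationRing B] [Field L] [Algebra B L]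
    [IsFractionRing B L] {π : B} (hπ : Irreducible π) (ξ : L) :
    ∃ n : ℕ, 1 ≤ n ∧ ∀ s : ResidueField B → B, (∀ x, residue B (s x) = x) →
      ∃ (l : ℕ → ResidueField B) (b₀ : B), ξ = ∑ i ∈ Icc 1 n, algebraMap B L (s (l i)) / algebraMap B L π ^ i +
        algebraMap B L b₀ := by
  obtain ⟨a, b, hb, rfl⟩ := IsFractionRing.div_surjective (A := B) ξ
  have hb0 : b ≠ 0 := nonZeroDivisors.ne_zero hb
  obtain ⟨k, v, hk⟩ := IsDiscreteValuationRing.eq_unit_mul_pow_irreducible hb0 hπ
  have hπ0 : algebraMap B L π ≠ 0 := by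
    rw [Ne, map_eq_zero_iff _ (IsFractionRing.injective B L)]; exact hπ.ne_zero
  refine ⟨k + 1, by omega, fun s hs => ?_⟩
  obtain ⟨l, b', hl⟩ := expansion hπ.maximalIdeal_eq hs (a * ((v⁻¹ : Bˣ) : B) * π) (k + 1)
  refine ⟨fun i => l (k + 1 - i), b', ?_⟩
  have h1 : algebraMap B L a / algebraMap B L b =
      algebraMap B L (a * ((v⁻¹ : Bˣ) : B) * π) / algebraMap B L π ^ (k + 1) := by
    have hv : algebraMap B L (v : B) ≠ 0 := (v.isUnit.map (algebraMap B L)).ne_zero
    have hvi : algebraMap B L ((v⁻¹ : Bˣ) : B) = (algebraMap B L v)⁻¹ := by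
      refine eq_inv_of_mul_eq_one_left ?_
      rw [← map_mul, Units.inv_mul, map_one]
    rw [hk, map_mul, map_mul, map_mul, map_pow, hvi]
    field_simp
    ring
  rw [h1, hl, map_add, add_div, map_mul, map_pow, mul_div_assoc, div_self (pow_ne_zero _ hπ0), mul_one, map_sum,
    sum_div]
  congr 1
  refine sum_nbij' (fun j => k + 1 - j) (fun i => k + 1 - i) ?_ ?_ ?_ ?_ ?_
  · intro j hj
    rw [mem_range] at hj
    rw [mem_Icc]
    omega
  · intro i hi
    rw [mem_Icc] at hi
    rw [mem_range]
    omega
  · intro j hj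
    rw [mem_range] at hj
    show k + 1 - (k + 1 - j) = j
    omega
  · intro i hi
    rw [mem_Icc] at hi
    show k + 1 - (k + 1 - i) = i
    omega
  · intro j hj
    rw [mem_range] at hj
    have h2 : k + 1 - (k + 1 - j) = j := by omega
    simp only [h2]
    have h3 : algebraMap B L π ^ (k + 1) = algebraMap B L π ^ j * algebraMap B L π ^ (k + 1 - j) := by
      rw [← pow_add, Nat.add_sub_cancel' (by omega)]
    rw [map_mul, map_pow, h3, mul_comm (algebraMap B L (s (l j))), mul_div_mul_left _ _ (pow_ne_zero _ hπ0)]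

theorem eq_of_mul_pow_eq {p m m' a b : ℕ} (hp : p.Prime) (hm : ¬ p ∣ m) (hm' : ¬ p ∣ m')
    (h : m * p ^ a = m' * p ^ b) : m = m' := by
  have h1 : Nat.Coprime m (p ^ b) := Nat.Coprime.pow_right b ((Nat.Prime.coprime_iff_not_dvd hp).mpr hm).symm
  have h2 : Nat.Coprime m' (p ^ a) := Nat.Coprime.pow_right a ((Nat.Prime.coprime_iff_not_dvd hp).mpr hm').symm
  apply Nat.dvd_antisymm
  · exact h1.dvd_of_dvd_mul_right (h ▸ Dvd.intro _ rfl)
  · exact h2.dvd_of_dvd_mul_right (h ▸ Dvd.intro _ rfl)


/-- Let A → B → C be injective local homomorphisms of discrete valuation rings whose fields of fractions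
are K ⊆ L ⊆ M, where A → B is weakly unramified, K has characteristic p, M/L is Galois of degree p,
and κ_A, inside κ_B, is exactly the set of elements admitting a pⁿ-th root for every n. Then some
finite separable extension K₁/K that is totally ramified with respect to A is a weak solution for A
→ C. (The published statement asks for K₁/K Galois; this row asks only that K₁/K be separable, which
is what the printed construction provides.) -/
theorem result (p : ℕ) (hp : p.Prime) (A B C K L M : Type u)
    [CommRing A] [IsDomain A] [IsDiscreteValuationRing A] [CommRing B] [IsDomain B] [IsDiscreteValuationRing B]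
    [CommRing C] [IsDomain C] [IsDiscreteValuationRing C]
    [Algebra A B] [Algebra B C] [Algebra A C] [IsScalarTower A B C]
    (hAB : Function.Injective (algebraMap A B)) (hBC : Function.Injective (algebraMap B C))
    [IsLocalHom (algebraMap A B)] [IsLocalHom (algebraMap B C)]
    [Field K] [Field L] [Field M] [Algebra A K] [IsFractionRing A K] [Algebra B L] [IsFractionRing B L]
    [Algebra C M] [IsFractionRing C M] [Algebra K L] [Algebra L M] [Algebra K M] [IsScalarTower K L M]
    [Algebra A L] [IsScalarTower A K L] [IsScalarTower A B L] [Algebra B M] [IsScalarTower B L M] [IsScalarTower B C M]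
    [Algebra A M] [IsScalarTower A K M] [IsScalarTower A C M]
    (hw : EtRam.IsWeaklyUnramified A B) [CharP K p] [IsGalois L M] (hdeg : Module.finrank L M = p)
    (hk : ∀ x : IsLocalRing.ResidueField B, (∀ n : ℕ, ∃ y : IsLocalRing.ResidueField B, y ^ (p ^ n) = x) ↔
      x ∈ Set.range (algebraMap (IsLocalRing.ResidueField A) (IsLocalRing.ResidueField B))) :
    ∃ (K₁ : Type u) (_ : Field K₁) (_ : Algebra K K₁), FiniteDimensional K K₁ ∧ Algebra.IsSeparable K K₁ ∧
      EtRam.IsTotallyRamified A ((algebraMap K K₁).comp (algebraMap A K)) ∧ EtRam.IsWeakSolution C K M K₁ := by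
  classical
  have hfact : Fact p.Prime := ⟨hp⟩
  obtain ⟨π, hπA⟩ := IsDiscreteValuationRing.exists_irreducible A
  have hmB : IsLocalRing.maximalIdeal B = Ideal.span {algebraMap A B π} := by
    have h1 : (IsLocalRing.maximalIdeal A).map (algebraMap A B) = IsLocalRing.maximalIdeal B := hw
    rw [← h1, hπA.maximalIdeal_eq, Ideal.map_span, Set.image_singleton]
  have hπB : Irreducible (algebraMap A B π) := (IsDiscreteValuationRing.irreducible_iff_uniformizer _).2 hmB
  have hchL : CharP L p := charP_of_injective_algebraMap (algebraMap K L).injective p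
  have hchB : CharP B p := (algebraMap B L).charP (IsFractionRing.injective B L) p
  have hchA : CharP A p := (algebraMap A K).charP (IsFractionRing.injective A K) p
  have hchκB : CharP (ResidueField B) p := by
    rw [CharP.charP_iff_prime_eq_zero hp, ← map_natCast (residue B), CharP.cast_eq_zero, map_zero]
  have hchκA : CharP (ResidueField A) p := by
    rw [CharP.charP_iff_prime_eq_zero hp, ← map_natCast (residue A), CharP.cast_eq_zero, map_zero]
  have hfin : FiniteDimensional L M := Module.finite_of_finrank_pos (by rw [hdeg]; exact hp.pos)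
  -- the Artin–Schreier generator
  obtain ⟨z, ⟨ξ, hξ⟩, hzL⟩ := Groth.Agent.Etalg.EppAlg.exists_artinSchreier (K := L) (L := M) p hdeg
  have hzint : IsIntegral L z := Algebra.IsIntegral.isIntegral z
  have hzdeg : (minpoly L z).natDegree = p := by
    refine ((Nat.dvd_prime hp).mp (hdeg ▸ minpoly.degree_dvd hzint)).resolve_left fun h1 => hzL ?_
    exact minpoly.natDegree_eq_one_iff.mp h1
  have hzadj := K362.InsepLim.adjoin_eq_top_of_natDegree hp hdeg z hzdeg
  -- expansions
  obtain ⟨n, hn, hlaur⟩ := laurent hπB ξ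
  have hN0 : n * p ^ n ≠ 0 := Nat.mul_ne_zero (by omega) (pow_ne_zero _ hp.ne_zero)
  obtain ⟨s, hs, hsA⟩ := K362.ASData.exists_sec hp (CharP.cast_eq_zero A p) hπA hπB
    (K362.ASData.surjective_pow hk) (n * p ^ n) hN0
  obtain ⟨l, b₀, hl⟩ := hlaur s hs.res
  have hπ0 : algebraMap B L (algebraMap A B π) ≠ 0 := by
    rw [Ne, map_eq_zero_iff _ (IsFractionRing.injective B L)]; exact hπB.ne_zero
  by_cases hall : ∀ m ∈ Mset p n, D p n l m ∈ Set.range (algebraMap (ResidueField A) (ResidueField B))
  · -- the case where all the coefficients are in `κ_A`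
    have hch : ∀ m, ∃ x : ResidueField A, m ∈ Mset p n →
        (algebraMap (ResidueField A) (ResidueField B) x) ^ p ^ n = D p n l m := by
      intro m
      by_cases hm : m ∈ Mset p n
      · obtain ⟨c, ⟨x, rfl⟩, hc⟩ := K362.ASData.exists_root hk _ (hall m hm) n
        exact ⟨x, fun _ => hc⟩
      · exact ⟨0, fun h => absurd h hm⟩
    choose x hx using hch
    choose a ha1 ha2 using hsA
    let T : Finset ℕ := (Mset p n).filter (fun m => x m ≠ 0)
    obtain ⟨K₁, _, _, w, hfin₁, hsep₁, htot, hw₁⟩ := K362.ASExt.exists_ext (K := K) hp hπA T (by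
      intro m hm
      have h1 := mem_Mset.mp (mem_filter.mp hm).1
      exact ⟨h1.1.1, h1.2⟩) (fun m => a (x m)) (by
      intro m hm
      have h1 := (mem_filter.mp hm).2
      by_contra hcon
      apply h1
      rw [← ha1 (x m), residue_eq_zero_iff]
      exact (mem_maximalIdeal _).mpr hcon)
    refine ⟨K₁, inferInstance, inferInstance, hfin₁, hsep₁, htot, ?_⟩
    obtain ⟨-, hsB⟩ := Groth.Agent.S1984.result A B K L hAB hw K₁ htot
    -- the relation over `L`
    let S : ValuationSubring L := vsub B L
    have hdomS := dominates_vsub B L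
    have hπS : algebraMap B L (algebraMap A B π) ∈ S := ⟨_, rfl⟩
    have hrel := rel_main (p := p) (S := S) (r := 0) (π := algebraMap A B π) (algebraMap B L) hdomS.1
      (algebraMap B L (algebraMap A B π)) hs
      (by
        rw [pow_zero, mul_one, div_self (pow_ne_zero _ hπ0)]
        exact S.one_mem) hπS hπ0 (by
        intro i _
        rw [pow_zero, mul_one, sub_self]
        exact S.zero_mem) l (fun m => algebraMap (ResidueField A) (ResidueField B) (x m)) (fun _ => n)
        (fun m _ => by omega) hx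
    simp only [add_zero, Nat.sub_self, pow_zero, mul_one] at hrel
    have hdivS : ∀ (y : B) (m : ℕ), m ∈ Mset p n → algebraMap A B π ^ (n * p ^ n) ∣ y →
        algebraMap B L y / algebraMap B L (algebraMap A B π) ^ m ∈ S := by
      intro y m hm hy
      refine div_mem (q := 1) (algebraMap B L) hdomS.1 (algebraMap B L (algebraMap A B π)) ?_ hπS hπ0 hy ?_
      · rw [mul_one, div_self (pow_ne_zero _ hπ0)]
        exact S.one_mem
      · have h1 := (mem_Mset.mp hm).1.2
        have h2 : 1 ≤ p ^ n := Nat.one_le_pow _ _ hp.pos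
        rw [mul_one]
        calc m ≤ n * 1 := by omega
          _ ≤ n * p ^ n := Nat.mul_le_mul_left _ h2
    have hsum : ∑ m ∈ Mset p n, algebraMap B L (s (algebraMap (ResidueField A) (ResidueField B) (x m))) /
        algebraMap B L (algebraMap A B π) ^ m -
        algebraMap K L (∑ m ∈ T, algebraMap A K (a (x m)) / algebraMap A K π ^ m) ∈ S := by
      have h1 : algebraMap K L (∑ m ∈ T, algebraMap A K (a (x m)) / algebraMap A K π ^ m) =
          ∑ m ∈ Mset p n, if x m ≠ 0 then algebraMap B L (algebraMap A B (a (x m))) /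
            algebraMap B L (algebraMap A B π) ^ m else 0 := by
        rw [map_sum, ← sum_filter]
        refine sum_congr rfl fun m _ => ?_
        rw [map_div₀, map_pow, ← IsScalarTower.algebraMap_apply, ← IsScalarTower.algebraMap_apply,
          ← IsScalarTower.algebraMap_apply, ← IsScalarTower.algebraMap_apply]
      rw [h1, ← sum_sub_distrib]
      refine sum_mem fun m hm => ?_
      split_ifs with h2
      · rw [← sub_div, ← map_sub]
        exact hdivS _ m hm (ha2 (x m))
      · rw [sub_zero]
        push Not at h2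
        refine hdivS _ m hm ?_
        rw [h2, map_zero]
        exact hs.zero
    obtain ⟨s', hs', η, hη⟩ := (mem_H p S).mp hrel
    have htotal : ∃ t : B, ξ - algebraMap K L (∑ m ∈ T, algebraMap A K (a (x m)) / algebraMap A K π ^ m) =
        algebraMap B L t + (η ^ p - η) := by
      have h1 := add_mem (add_mem hs' hsum) (⟨b₀, rfl⟩ : algebraMap B L b₀ ∈ S)
      obtain ⟨t, ht⟩ := h1
      refine ⟨t, ?_⟩
      rw [ht]
      conv_lhs => rw [hl]
      linear_combination hη
    obtain ⟨t, ht⟩ := htotal
    exact K362.ASFierce.case_unr (K := K) hp z hzadj ξ hξ.symm w _ hw₁ t η ht hsB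
  · -- the fierce case
    push Not at hall
    obtain ⟨m', hm', hDm'⟩ := hall
    have hch : ∀ m, ∃ (e : ℕ) (μ : ResidueField B),
        D p n l m ∉ Set.range (algebraMap (ResidueField A) (ResidueField B)) →
          μ ^ p ^ e = D p n l m ∧ ∀ y, y ^ p ≠ μ := by
      intro m
      by_cases hm : D p n l m ∈ Set.range (algebraMap (ResidueField A) (ResidueField B))
      · exact ⟨0, 0, fun h => absurd hm h⟩
      · obtain ⟨e, μ, h⟩ := K362.ASData.exists_max_root hk _ hm
        exact ⟨e, μ, fun _ => h⟩
    choose e μ hμ using hch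
    let r : ℕ := (Mset p n).sup e + 1
    have her : ∀ m ∈ Mset p n, e m < r := fun m hm => Nat.lt_succ_of_le (le_sup (f := e) hm)
    have hch2 : ∀ m, ∃ (c : ResidueField B) (f : ℕ), m ∈ Mset p n → f ≤ n + r ∧ c ^ p ^ f = D p n l m ∧
        (D p n l m ∉ Set.range (algebraMap (ResidueField A) (ResidueField B)) → f = e m ∧ ∀ y, y ^ p ≠ c) ∧
        (D p n l m ∈ Set.range (algebraMap (ResidueField A) (ResidueField B)) → f = n + r) := by
      intro m
      by_cases hm : m ∈ Mset p n
      swap
      · exact ⟨0, 0, fun h => absurd h hm⟩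
      by_cases hD : D p n l m ∈ Set.range (algebraMap (ResidueField A) (ResidueField B))
      · obtain ⟨c, -, hc⟩ := K362.ASData.exists_root hk _ hD (n + r)
        exact ⟨c, n + r, fun _ => ⟨le_rfl, hc, fun h => absurd hD h, fun _ => rfl⟩⟩
      · obtain ⟨h1, h2⟩ := hμ m hD
        refine ⟨μ m, e m, fun _ => ⟨?_, h1, fun _ => ⟨rfl, h2⟩, fun h => absurd h hD⟩⟩
        have := her m hm
        omega
    choose c f hcf using hch2
    let J : Finset ℕ := (Mset p n).filter
      (fun m => D p n l m ∉ Set.range (algebraMap (ResidueField A) (ResidueField B)))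
    have hJ : J.Nonempty := ⟨m', mem_filter.mpr ⟨hm', hDm'⟩⟩
    obtain ⟨m₀, hm₀J, hmaxJ⟩ := exists_max_image J (fun m => m * p ^ (n + r - f m)) hJ
    obtain ⟨hm₀, hDm₀⟩ := mem_filter.mp hm₀J
    obtain ⟨-, -, h3, -⟩ := hcf m₀ hm₀
    obtain ⟨hfm₀, hcm₀⟩ := h3 hDm₀
    have hem₀ := her m₀ hm₀
    have hmax : ∀ m ∈ Mset p n, m ≠ m₀ → m * p ^ (n + r - f m) < m₀ * p ^ (n + r - f m₀) := by
      intro m hm hne
      by_cases hD : D p n l m ∈ Set.range (algebraMap (ResidueField A) (ResidueField B))
      · rw [(hcf m hm).2.2.2 hD, Nat.sub_self, pow_zero, mul_one]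
        have h1 := (mem_Mset.mp hm).1.2
        have h2 := (mem_Mset.mp hm₀).1.1
        have h4 : n < p ^ n := Nat.lt_pow_self hp.one_lt
        have h5 : p ^ n ≤ p ^ (n + r - f m₀) := Nat.pow_le_pow_right hp.pos (by omega)
        calc m ≤ n := h1
          _ < p ^ n := h4
          _ ≤ 1 * p ^ (n + r - f m₀) := by rw [one_mul]; exact h5
          _ ≤ m₀ * p ^ (n + r - f m₀) := Nat.mul_le_mul_right _ h2
      · refine lt_of_le_of_ne (hmaxJ m (mem_filter.mpr ⟨hm, hD⟩)) fun heq => hne ?_
        exact eq_of_mul_pow_eq hp (mem_Mset.mp hm).2 (mem_Mset.mp hm₀).2 heq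
    obtain ⟨K₁, _, _, _, _, hdeg₁, hsep, htot, ϖ, b₁, b₂, hϖint, hb₁, hb₂, h1, h2⟩ :=
      K362.NiceExt.exists_ext p hp A K π hπA (2 * n) (by omega) r
    rw [IsScalarTower.algebraMap_eq A K K₁] at htot
    have hfin₁ : FiniteDimensional K K₁ := Module.finite_of_finrank_pos (by
      rw [hdeg₁]; exact pow_pos hp.pos _)
    obtain ⟨-, hsB⟩ := Groth.Agent.S1984.result A B K L hAB hw K₁ htot
    refine ⟨K₁, inferInstance, inferInstance, hfin₁, hsep, htot, ?_⟩
    refine K362.ASFierce.case_fierce (A := A) (B := B) (L := L) hπB z hzadj ξ hξ.symm s hs l b₀ hl c f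
      (fun m hm => (hcf m hm).1) (fun m hm => (hcf m hm).2.1) m₀ hm₀ (by omega) hcm₀ hmax hdeg₁ ϖ ?_ hsB
    intro V hV
    have hint : ∀ x : K₁, IsIntegral A x → V.valuation x ≤ 1 := by
      intro x hx
      rw [V.valuation_le_one_iff]
      refine Groth.Agent.Etalg.DVRExt.mem_of_isIntegralElem V _ hV.1 ?_
      rw [← IsScalarTower.algebraMap_eq]
      exact hx
    have hπ1 : V.valuation (algebraMap K K₁ (algebraMap A K π)) < 1 :=
      K362.TotRam.valuation_uniformizer_lt hπA hV
    have hπ0 : 0 < V.valuation (algebraMap K K₁ (algebraMap A K π)) :=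
      K362.TotRam.valuation_uniformizer_pos hπA V
    rw [IsScalarTower.algebraMap_apply A K K₁] at h1 h2
    constructor
    · rw [← map_pow, h1]
      apply Valuation.map_add_eq_of_lt_left
      rw [map_mul, map_pow]
      calc _ ≤ V.valuation (algebraMap K K₁ (algebraMap A K π)) ^ (2 * n) * 1 := mul_le_mul_right (hint _ hb₁) _
        _ = V.valuation (algebraMap K K₁ (algebraMap A K π)) ^ (2 * n) := mul_one _
        _ < V.valuation (algebraMap K K₁ (algebraMap A K π)) ^ 1 :=
          pow_lt_pow_right_of_lt_one₀ hπ0 hπ1 (by omega)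
        _ = _ := pow_one _
    · rw [h2, add_sub_cancel_left, map_mul, map_pow]
      calc _ ≤ V.valuation ϖ ^ (2 * n * p ^ r) * 1 := mul_le_mul_right (hint _ hb₂) _
        _ = _ := mul_one _

end Groth.Agent.S7155
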