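import Groth.Statements.S7156
import Groth.Agent.EtAlg.K362.InsepFierce
import Groth.Agent.EtAlg.K362.NiceExt
import Groth.Agent.S1984

set_option autoImplicit false
universe u
open EtAlg

namespace Groth.Agent.S7156

open IsLocalRing EtRam Groth.Agent.Etalg.RamBasic in
theorem expansion {B : Type u} [CommRing B] [IsDomain B] [IsDiscreteValuationRing B] {p : ℕ} {π : B}
    (hπ : Irreducible π) (u : B)
    (h : ∀ (m : ℕ) (bs : ℕ → B) (b : B), u = ∑ i ∈ Finset.range m, bs i ^ p * π ^ i + b * π ^ m →
      ∃ r : B, ¬ IsUnit (b - r ^ p)) (m : ℕ) :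
    ∃ (bs : ℕ → B) (b : B), u = ∑ i ∈ Finset.range m, bs i ^ p * π ^ i + b * π ^ m := by
  induction m with
  | zero => exact ⟨fun _ => 0, u, by simp⟩
  | succ m ih =>
    obtain ⟨bs, b, hb⟩ := ih
    obtain ⟨r, hr⟩ := h m bs b hb
    have h1 : b - r ^ p ∈ maximalIdeal B := (mem_maximalIdeal _).mpr hr
    rw [hπ.maximalIdeal_eq, Ideal.mem_span_singleton] at h1
    obtain ⟨b', hb'⟩ := h1
    refine ⟨Function.update bs m r, b', ?_⟩
    rw [Finset.sum_range_succ, Function.update_self]
    have h2 : ∑ i ∈ Finset.range m, Function.update bs m r i ^ p * π ^ i = ∑ i ∈ Finset.range m, bs i ^ p * π ^ i := by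
      refine Finset.sum_congr rfl fun i hi => ?_
      rw [Function.update_of_ne (Finset.mem_range.mp hi).ne]
    rw [h2, hb, show b = r ^ p + π * b' by rw [← hb']; ring]
    ring


open TensorProduct in
/-- Let A → B → C be injective local homomorphisms of discrete valuation rings whose fields of fractions
are K ⊆ L ⊆ M, and let π be a uniformizer of A; suppose B is a Nagata ring, A → B is weakly
unramified, and M/L is purely inseparable of prime degree p. Then one of the following holds: the
extension A → C is itself weakly unramified; or else C = B[π^(1/p)]; or else there is a separable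
degree-p extension K₁/K, totally ramified with respect to A, for which L ⊗_K K₁ and M ⊗_K K₁ are
fields and the integral closures A₁ → B₁ → C₁ are weakly unramified extensions, i.e. K₁ is a weak
solution for A ⊆ B and for A ⊆ C. -/
theorem result (p : ℕ) (hp : p.Prime) (A B C K L M : Type u)
    [CommRing A] [IsDomain A] [IsDiscreteValuationRing A] [CommRing B] [IsDomain B] [IsDiscreteValuationRing B]
    [CommRing C] [IsDomain C] [IsDiscreteValuationRing C]
    [Algebra A B] [Algebra B C] [Algebra A C] [IsScalarTower A B C]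
    (hAB : Function.Injective (algebraMap A B)) (hBC : Function.Injective (algebraMap B C))
    [IsLocalHom (algebraMap A B)] [IsLocalHom (algebraMap B C)]
    [Field K] [Field L] [Field M] [Algebra A K] [IsFractionRing A K] [Algebra B L] [IsFractionRing B L]
    [Algebra C M] [IsFractionRing C M] [Algebra K L] [Algebra L M] [Algebra K M] [IsScalarTower K L M]
    [Algebra A L] [IsScalarTower A K L] [IsScalarTower A B L] [Algebra B M] [IsScalarTower B L M] [IsScalarTower B C M]
    [Algebra A M] [IsScalarTower A K M] [IsScalarTower A C M]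
    (π : A) (hπ : IsLocalRing.maximalIdeal A = Ideal.span {π}) (hB : CAlg.IsNagata B)
    (hw : EtRam.IsWeaklyUnramified A B) [IsPurelyInseparable L M] (hdeg : Module.finrank L M = p) :
    EtRam.IsWeaklyUnramified A C ∨
      (∃ c : C, c ^ p = algebraMap A C π ∧ Algebra.adjoin B {c} = ⊤) ∨
      ∃ (K₁ : Type u) (_ : Field K₁) (_ : Algebra K K₁),
        Module.finrank K K₁ = p ∧ Algebra.IsSeparable K K₁ ∧
          EtRam.IsTotallyRamified A ((algebraMap K K₁).comp (algebraMap A K)) ∧
          IsField (L ⊗[K] K₁) ∧ IsField (M ⊗[K] K₁) ∧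
          EtRam.IsWeakSolution B K L K₁ ∧ EtRam.IsWeakSolution C K M K₁ := by
  classical
  have hπA : Irreducible π := (IsDiscreteValuationRing.irreducible_iff_uniformizer π).2 hπ
  have hmB : IsLocalRing.maximalIdeal B = Ideal.span {algebraMap A B π} := by
    have h1 : (IsLocalRing.maximalIdeal A).map (algebraMap A B) = IsLocalRing.maximalIdeal B := hw
    rw [← h1, hπ, Ideal.map_span, Set.image_singleton]
  have hπB : Irreducible (algebraMap A B π) := (IsDiscreteValuationRing.irreducible_iff_uniformizer _).2 hmB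
  have hchL : CharP L p := K362.Insep.charP_of_insep (M := M) hp hdeg
  have hchK : CharP K p := (algebraMap K L).charP (algebraMap K L).injective p
  have hchB : CharP B p := (algebraMap B L).charP (IsFractionRing.injective B L) p
  have hchA : CharP A p := (algebraMap A K).charP (IsFractionRing.injective A K) p
  have hfin : FiniteDimensional L M := Module.finite_of_finrank_pos (by rw [hdeg]; exact hp.pos)
  have hpow : ∀ x : M, ∃ y : L, algebraMap L M y = x ^ p := fun x => K362.Insep.exists_pow hp hdeg x
  rcases K362.Insep.dichotomy (C := C) (L := L) (M := M) hp hpow hπB with hC | ⟨c, u, hc, hcu⟩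
  · left
    show (IsLocalRing.maximalIdeal A).map (algebraMap A C) = IsLocalRing.maximalIdeal C
    rw [hC.maximalIdeal_eq, hπ, Ideal.map_span, Set.image_singleton, ← IsScalarTower.algebraMap_apply]
  right
  by_cases hex : ∃ (m : ℕ) (bs : ℕ → B) (b : B),
      (u : B) = ∑ i ∈ Finset.range m, bs i ^ p * algebraMap A B π ^ i + b * algebraMap A B π ^ m ∧
        ∀ r : B, IsUnit (b - r ^ p)
  swap
  · left
    push Not at hex
    have hexp := expansion hπB (u : B) hex
    obtain ⟨c', hc'⟩ := K362.InsepLim.exists_root (L := L) (M := M) hp hB hdeg hπB c u u.isUnit hcu hexp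
    refine ⟨c', by rw [hc', ← IsScalarTower.algebraMap_apply], ?_⟩
    exact K362.InsepLim.adjoin_eq_top (L := L) (M := M) hp.ne_zero hdeg.le hπB c' hc'
  right
  obtain ⟨m, bs, b, hexp, hb⟩ := hex
  have hchκ : CharP (IsLocalRing.ResidueField A) p := by
    rw [CharP.charP_iff_prime_eq_zero hp]
    have h1 : (p : A) = 0 := CharP.cast_eq_zero A p
    have h2 := congrArg (IsLocalRing.residue A) h1
    rwa [map_natCast, map_zero] at h2
  obtain ⟨K₁, _, _, _, _, hdeg₁, hsep, htot, ϖ, b₁, b₂, hϖint, hb₁, hb₂, h1, h2⟩ :=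
    K362.NiceExt.exists_ext p hp A K π hπA (m + 2) (by omega) 1
  rw [pow_one] at hdeg₁ h1 h2
  rw [IsScalarTower.algebraMap_eq A K K₁] at htot
  have hfin₁ : FiniteDimensional K K₁ := Module.finite_of_finrank_pos (by rw [hdeg₁]; exact hp.pos)
  obtain ⟨hfL, hsB⟩ := Groth.Agent.S1984.result A B K L hAB hw K₁ htot
  refine ⟨K₁, inferInstance, inferInstance, hdeg₁, hsep, htot, hfL,
    K362.Insep.isField_tensor (K := K) hp hpow hfL, hsB, ?_⟩
  refine K362.InsepFierce.isWeakSolution (A := A) (B := B) (L := L) hp hπB hdeg c u u.isUnit hcu m bs b hexp hb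
    hdeg₁ ϖ ?_ hsB
  intro V hV
  have hint : ∀ x : K₁, IsIntegral A x → V.valuation x ≤ 1 := by
    intro x hx
    rw [V.valuation_le_one_iff]
    refine Groth.Agent.Etalg.DVRExt.mem_of_isIntegralElem V _ hV.1 ?_
    rw [← IsScalarTower.algebraMap_eq]
    exact hx
  have hπ1 : V.valuation (algebraMap K K₁ (algebraMap A K π)) < 1 := K362.TotRam.valuation_uniformizer_lt hπA hV
  have hπ0 : 0 < V.valuation (algebraMap K K₁ (algebraMap A K π)) :=
    K362.TotRam.valuation_uniformizer_pos hπA V
  rw [IsScalarTower.algebraMap_apply A K K₁] at h1 h2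
  constructor
  · rw [← map_pow, h1]
    apply Valuation.map_add_eq_of_lt_left
    rw [map_mul, map_pow]
    calc _ ≤ V.valuation (algebraMap K K₁ (algebraMap A K π)) ^ (m + 2) * 1 := mul_le_mul_right (hint _ hb₁) _
      _ = V.valuation (algebraMap K K₁ (algebraMap A K π)) ^ (m + 2) := mul_one _
      _ < V.valuation (algebraMap K K₁ (algebraMap A K π)) ^ 1 :=
        pow_lt_pow_right_of_lt_one₀ hπ0 hπ1 (by omega)
      _ = _ := pow_one _
  · rw [h2, add_sub_cancel_left, map_mul, map_pow]
    calc _ ≤ V.valuation ϖ ^ ((m + 2) * p) * 1 := mul_le_mul_right (hint _ hb₂) _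
      _ = _ := mul_one _

end Groth.Agent.S7156
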