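import Groth.Statements.S7158
import Groth.Agent.EtAlg.K363.ASDeg

set_option autoImplicit false
universe u
open EtAlg

namespace Groth.Agent.S7158

/-- Let A be a discrete valuation ring whose fraction field K has characteristic p > 0, let ξ be an
element of K and let L = K(z) be obtained by adjoining a root z of z^p - z = ξ. Then L/K is a Galois
extension, and it falls under one of four cases: (1) L = K; (2) L/K has degree p and is unramified
with respect to A; (3) L/K has degree p and is totally ramified with respect to A (ramification
index p); (4) exactly one valuation ring of L dominates A (so B, the integral closure of A in L, is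
itself a discrete valuation ring), the extension A → B is weakly unramified, and its residue field
extension is purely inseparable of degree p. Moreover, with π a uniformizer of A: (A) if ξ lies in
A, case (1) or (2) holds; (B) if ξ = π⁻ⁿa with n > 0 prime to p and a a unit of A, case (3) holds;
(C) if ξ = π⁻ⁿa with n > 0 divisible by p and the residue class of a not a p-th power, case (4)
holds. -/
theorem result (p : ℕ) (hp : p.Prime) (A K L : Type u) [CommRing A] [IsDomain A]
    [IsDiscreteValuationRing A] [Field K] [Algebra A K] [IsFractionRing A K] [Field L] [Algebra K L] [Algebra A L]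
    [IsScalarTower A K L] [CharP K p] (π : A) (hπ : IsLocalRing.maximalIdeal A = Ideal.span {π})
    (ξ : K) (z : L) (hz : z ^ p - z = algebraMap K L ξ) (hgen : IntermediateField.adjoin K {z} = ⊤) :
    let g : A →+* L := algebraMap A L
    let case1 : Prop := Module.finrank K L = 1
    let case2 : Prop := EtRam.IsUnramifiedExt A g ∧ Module.finrank K L = p
    let case3 : Prop := EtRam.IsTotallyRamified A g ∧ Module.finrank K L = p
    let case4 : Prop := (∃ V : ValuationSubring L, EtRam.Dominates A g V) ∧
      (∀ V V' : ValuationSubring L, EtRam.Dominates A g V → EtRam.Dominates A g V' → V = V') ∧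
      ∀ (V : ValuationSubring L) (h : EtRam.Dominates A g V),
        letI : Algebra A V := (RingHom.codRestrict g V h.1).toAlgebra
        ∀ [IsLocalHom (algebraMap A V)],
          EtRam.IsWeaklyUnramified A V ∧
            IsPurelyInseparable (IsLocalRing.ResidueField A) (IsLocalRing.ResidueField V) ∧
            Module.finrank (IsLocalRing.ResidueField A) (IsLocalRing.ResidueField V) = p
    IsGalois K L ∧ (case1 ∨ case2 ∨ case3 ∨ case4) ∧
      ((∃ a : A, algebraMap A K a = ξ) → case1 ∨ case2) ∧
      (∀ (n : ℕ) (a : Aˣ), 0 < n → ¬ p ∣ n → ξ * algebraMap A K π ^ n = algebraMap A K a → case3) ∧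
      (∀ (n : ℕ) (a : A), 0 < n → p ∣ n → (∀ r : A, IsLocalRing.residue A a ≠ IsLocalRing.residue A r ^ p) →
          ξ * algebraMap A K π ^ n = algebraMap A K a → case4) := by
  haveI : Fact p.Prime := ⟨hp⟩
  haveI : CharP A p := RingHom.charP (algebraMap A K) (IsFractionRing.injective A K) p
  haveI : CharP L p := charP_of_injective_algebraMap (algebraMap K L).injective p
  haveI : CharP (IsLocalRing.ResidueField A) p := by
    have h1 : (p : IsLocalRing.ResidueField A) = 0 := by
      rw [← map_natCast (IsLocalRing.residue A), CharP.cast_eq_zero, map_zero]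
    exact (CharP.charP_iff_prime_eq_zero hp).2 h1
  have hAS : K363.RamCases.IsAS p (Polynomial.X ^ p - Polynomial.X : Polynomial A) :=
    ⟨fun _ => 0, fun _ => Ideal.zero_mem _, by simp⟩
  have hev : ∀ x : L, Polynomial.aeval x (Polynomial.X ^ p - Polynomial.X : Polynomial A) = x ^ p - x := by
    intro x; simp
  obtain ⟨hfd, hgal, hdeg⟩ := K363.RamCases.as_degree hp z ξ hz hgen
  have hfin' : Module.finrank K L ≤ p := by
    rcases hdeg with h | h
    · rw [h]; exact hp.one_le
    · exact h.le
  have hzP : Polynomial.aeval z (Polynomial.X ^ p - Polynomial.X : Polynomial A) = algebraMap K L ξ := by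
    rw [hev, hz]
  refine ⟨hgal, ?_, ?_, ?_, ?_⟩
  · obtain ⟨N, hN⟩ := K363.RamCases.exists_pow_val_le_one hπ ξ
    refine K363.RamCases.trichotomy hp hAS 0 ?_ ?_ hdeg hπ N z ξ hzP hgen ?_ hN
    · rw [zero_pow hp.ne_zero, Polynomial.C_0]; simp
    · intro x y
      rw [hev, hev, hev, map_zero, zero_mul, zero_mul, add_zero, zero_pow hp.ne_zero, map_zero, zero_mul,
        zero_mul, add_zero, add_pow_char]
      ring
    · rw [map_zero, zero_pow hp.ne_zero, zero_mul, map_zero]
      exact zero_lt_one
  · rintro ⟨a, rfl⟩
    have h1 : EtRam.IsUnramifiedExt A (algebraMap A L) := by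
      refine K363.RamCases.caseA (K := K) hp.two_le hAS a z ?_ hgen
      rw [hzP, ← IsScalarTower.algebraMap_apply]
    rcases hdeg with h | h
    · exact Or.inl h
    · exact Or.inr ⟨h1, h⟩
  · intro n a hn hpn ha
    refine K363.RamCases.caseB (K := K) hp hAS hfin' hπ n hn hpn a z ?_
    rw [hzP, IsScalarTower.algebraMap_apply A K L (a : A), ← ha, map_mul, map_pow,
      ← IsScalarTower.algebraMap_apply]
  · intro n a hn hpn hres ha
    refine K363.RamCases.caseC (K := K) hp hAS hfin' hπ n hn hpn a hres z ?_
    rw [hzP, IsScalarTower.algebraMap_apply A K L a, ← ha, map_mul, map_pow,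
      ← IsScalarTower.algebraMap_apply]

end Groth.Agent.S7158
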