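import Groth.Statements.S7159
import Groth.Agent.EtAlg.K363.KumMain

set_option autoImplicit false
universe u
open EtAlg

namespace Groth.Agent.S7159

open Polynomial IsLocalRing K363.RamCases in
theorem data (p : ℕ) (hp : p.Prime) (A K : Type u) [CommRing A] [IsDomain A]
    [IsDiscreteValuationRing A] [Field K] [Algebra A K] [IsFractionRing A K]
    [CharZero K] [CharP (IsLocalRing.ResidueField A) p] (ζ : A)
    (hζ : aeval ζ (cyclotomic p ℤ) = 0) (P : A[X])
    (hP : C ((1 - ζ) ^ p) * P = (1 + C (1 - ζ) * X) ^ p - 1) :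
    (1 - ζ) ≠ 0 ∧ IsAS p P ∧ IsPrimitiveRoot (algebraMap A K ζ) p ∧
      ∀ (S : Type u) [CommRing S] [Algebra A S] (z₁ z₂ : S),
        aeval (z₁ + z₂ + algebraMap A S (1 - ζ) * z₁ * z₂) P =
          aeval z₁ P + aeval z₂ P + algebraMap A S ((1 - ζ) ^ p) * aeval z₁ P * aeval z₂ P := by
  haveI : Fact p.Prime := ⟨hp⟩
  have hrootA : (cyclotomic p A).IsRoot ζ := by
    rw [IsRoot.def, ← map_cyclotomic_int p A, eval_map, ← hζ, aeval_def]
    rfl
  have hrootK : (cyclotomic p K).IsRoot (algebraMap A K ζ) := by
    have h1 := congrArg (algebraMap A K) hrootA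
    rw [map_zero] at h1
    rw [IsRoot.def, ← map_cyclotomic p (algebraMap A K), eval_map, eval₂_at_apply]
    exact h1
  have hpK : NeZero (p : K) := ⟨Nat.cast_ne_zero.2 hp.ne_zero⟩
  have hprim : IsPrimitiveRoot (algebraMap A K ζ) p := isRoot_cyclotomic_iff.1 hrootK
  have hw0 : (1 - ζ) ≠ 0 := by
    intro h
    have h1 : ζ = 1 := by rw [sub_eq_zero] at h; exact h.symm
    rw [h1, map_one] at hprim
    exact hp.one_lt.ne (hprim.unique IsPrimitiveRoot.one).symm
  have hw : (1 - ζ) ∈ maximalIdeal A := by
    have h1 : (residue A ζ) ^ p = 1 := by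
      have h2 : ζ ^ p = 1 := by
        apply IsFractionRing.injective A K
        rw [map_pow, hprim.pow_eq_one, map_one]
      rw [← map_pow, h2, map_one]
    have h3 : (1 - residue A ζ) ^ p = 0 := by
      rw [sub_pow_char, h1, one_pow, sub_self]
    rw [← residue_eq_zero_iff, map_sub, map_one]
    exact (pow_eq_zero_iff hp.ne_zero).1 h3
  obtain ⟨P', hP', ⟨a, ha, hPa⟩, hgl⟩ := K361.KummerAS.main p hp A ζ hζ
  have hPP : P = P' := by
    apply mul_left_cancel₀ (a := (C ((1 - ζ) ^ p) : A[X])) (by
      rw [Ne, C_eq_zero]; exact pow_ne_zero _ hw0)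
    rw [hP, hP']
  subst hPP
  refine ⟨hw0, ⟨a, fun i => ?_, hPa⟩, hprim, hgl⟩
  exact (Ideal.span_singleton_le_iff_mem _).2 hw (ha i)

open Polynomial in
/-- Let A be a discrete valuation ring whose fraction field K has characteristic 0 and whose residue
field has characteristic p, and suppose A contains an element ζ with 1 + ζ + ... + ζ^(p-1) = 0 (a
primitive p-th root of unity); set w = 1 - ζ and let P in A[t] be the polynomial with w^p·P(t) = (1
+ wt)^p - 1. Let ξ be an element of K and let L = K(z) be obtained by adjoining a root z of P(z) =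
ξ. Then L/K is a Galois extension, and it falls under one of four cases: (1) L = K; (2) L/K has
degree p and is unramified with respect to A; (3) L/K has degree p and is totally ramified with
respect to A (ramification index p); (4) exactly one valuation ring of L dominates A (so B, the
integral closure of A in L, is itself a discrete valuation ring), the extension A → B is weakly
unramified, and its residue field extension is purely inseparable of degree p. Moreover, with π a
uniformizer of A: (A) if ξ lies in A, case (1) or (2) holds; (B) if ξ = π⁻ⁿa with n > 0 prime to p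
and a a unit of A, case (3) holds; (C) if ξ = π⁻ⁿa with n > 0 divisible by p and the residue class
of a not a p-th power, case (4) holds. -/
theorem result (p : ℕ) (hp : p.Prime) (A K L : Type u) [CommRing A] [IsDomain A]
    [IsDiscreteValuationRing A] [Field K] [Algebra A K] [IsFractionRing A K] [Field L] [Algebra K L] [Algebra A L]
    [IsScalarTower A K L] [CharZero K] [CharP (IsLocalRing.ResidueField A) p] (ζ : A)
    (hζ : aeval ζ (cyclotomic p ℤ) = 0) (P : A[X]) (hP : C ((1 - ζ) ^ p) * P = (1 + C (1 - ζ) * X) ^ p - 1) (π : A) (hπ : IsLocalRing.maximalIdeal A = Ideal.span {π})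
    (ξ : K) (z : L) (hz : aeval z P = algebraMap K L ξ) (hgen : IntermediateField.adjoin K {z} = ⊤) :
    let g : A →+* L := algebraMap A L
    let case1 : Prop := Module.finrank K L = 1
    let case2 : Prop := EtRam.IsUnramifiedExt A g ∧ Module.finrank K L = p
    let case3 : Prop := EtRam.IsTotallyRamified A g ∧ Module.finrank K L = p
    let case4 : Prop := (∃ V : ValuationSubring L, EtRam.Dominates A g V) ∧
      (∀ V V' : ValuationSubring L, EtRam.Dominates A g V → EtRam.Dominates A g V' → V = V') ∧
      ∀ (V : ValuationSubring L) (h : EtRam.Dominates A g V),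
        letI : Algebra A V := (RingHom.codRestrict g V h.1).toAlgebra
        ∀ [IsLocalHom (algebraMap A V)],
          EtRam.IsWeaklyUnramified A V ∧
            IsPurelyInseparable (IsLocalRing.ResidueField A) (IsLocalRing.ResidueField V) ∧
            Module.finrank (IsLocalRing.ResidueField A) (IsLocalRing.ResidueField V) = p
    IsGalois K L ∧ (case1 ∨ case2 ∨ case3 ∨ case4) ∧
      ((∃ a : A, algebraMap A K a = ξ) → case1 ∨ case2) ∧
      (∀ (n : ℕ) (a : Aˣ), 0 < n → ¬ p ∣ n → ξ * algebraMap A K π ^ n = algebraMap A K a → case3) ∧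
      (∀ (n : ℕ) (a : A), 0 < n → p ∣ n → (∀ r : A, IsLocalRing.residue A a ≠ IsLocalRing.residue A r ^ p) →
          ξ * algebraMap A K π ^ n = algebraMap A K a → case4) := by
  obtain ⟨hw0, hAS, hprim, hgl⟩ := data p hp A K ζ hζ P hP
  obtain ⟨w, hw⟩ : ∃ w : A, w = 1 - ζ := ⟨_, rfl⟩
  simp only [← hw] at hw0 hgl hP
  have hwK : algebraMap A K w ≠ 0 := by
    rwa [Ne, map_eq_zero_iff _ (IsFractionRing.injective A K)]
  have hwL : algebraMap K L (algebraMap A K w) ≠ 0 := by rwa [Ne, map_eq_zero]
  -- the Kummer generator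
  obtain ⟨y, hy⟩ : ∃ y : L, y = 1 + algebraMap K L (algebraMap A K w) * z := ⟨_, rfl⟩
  obtain ⟨θ, hθ⟩ : ∃ θ : K, θ = 1 + algebraMap A K w ^ p * ξ := ⟨_, rfl⟩
  have hyp : y ^ p = algebraMap K L θ := by
    have h1 := congrArg (aeval z) hP
    simp only [map_mul, map_sub, map_pow, map_add, map_one, aeval_X, aeval_C] at h1
    rw [hy, hθ, map_add, map_one, map_mul, map_pow, ← hz, ← IsScalarTower.algebraMap_apply, h1]
    ring
  have hzy : z = (y - 1) * (algebraMap K L (algebraMap A K w))⁻¹ := by
    rw [hy]; field_simp; ring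
  have hgeny : IntermediateField.adjoin K {y} = ⊤ := by
    refine K363.RamCases.adjoin_eq_top_of hgen ?_
    rw [hzy]
    exact mul_mem (sub_mem (IntermediateField.subset_adjoin K _ rfl) (one_mem _))
      (inv_mem (IntermediateField.algebraMap_mem _ _))
  obtain ⟨hfd, hgal, hdeg⟩ := K363.RamCases.kummer_degree hp hprim y θ hyp hgeny
  have hfin' : Module.finrank K L ≤ p := by
    rcases hdeg with h | h
    · rw [h]; exact hp.one_le
    · exact h.le
  refine ⟨hgal, ?_, ?_, ?_, ?_⟩
  · exact K363.RamCases.kummer_four hp hAS w hw0 hP (hgl L) hdeg hπ y θ hyp hgeny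
  · rintro ⟨a, rfl⟩
    have h1 : EtRam.IsUnramifiedExt A (algebraMap A L) := by
      refine K363.RamCases.caseA (K := K) hp.two_le hAS a z ?_ hgen
      rw [hz, ← IsScalarTower.algebraMap_apply]
    rcases hdeg with h | h
    · exact Or.inl h
    · exact Or.inr ⟨h1, h⟩
  · intro n a hn hpn ha
    refine K363.RamCases.caseB (K := K) hp hAS hfin' hπ n hn hpn a z ?_
    rw [hz, IsScalarTower.algebraMap_apply A K L (a : A), ← ha, map_mul, map_pow,
      ← IsScalarTower.algebraMap_apply]
  · intro n a hn hpn hres ha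
    refine K363.RamCases.caseC (K := K) hp hAS hfin' hπ n hn hpn a hres z ?_
    rw [hz, IsScalarTower.algebraMap_apply A K L a, ← ha, map_mul, map_pow,
      ← IsScalarTower.algebraMap_apply]

end Groth.Agent.S7159
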