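import Groth.Statements.S7161
import Groth.Agent.CycA.TorBasic
import Mathlib.RingTheory.Noetherian.Basic
import Mathlib.LinearAlgebra.Quotient.Basic
import Mathlib.RingTheory.Ideal.Operations

set_option autoImplicit false
universe u
open CategoryTheory
open CAlg

namespace Groth.Agent.S7161

open CycA.TorBasic

variable {A : Type u} [CommRing A] [IsNoetherianRing A]

/-- For one element `f` killing `N`: some `f^c M → M` induces zero on all `Tor_p(-, N)`. -/
theorem one_element (f : A) (M N : Type u) [AddCommGroup M] [Module A M] [Module.Finite A M]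
    [AddCommGroup N] [Module A N] (hN : ∀ y : N, f • y = 0) :
    ∃ c : ℕ, ∀ p : ℕ, mapL (LinearMap.range (f ^ c • (LinearMap.id : M →ₗ[A] M))).subtype p N = 0 := by
  let K : ℕ →o Submodule A M :=
    { toFun := fun n => LinearMap.ker (f ^ n • (LinearMap.id : M →ₗ[A] M))
      monotone' := by
        intro a b hab x hx
        rw [LinearMap.mem_ker, LinearMap.smul_apply, LinearMap.id_apply] at hx ⊢
        obtain ⟨c, rfl⟩ := Nat.exists_eq_add_of_le hab
        rw [pow_add, mul_comm, mul_smul, hx, smul_zero] }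
  obtain ⟨c, hc⟩ := monotone_stabilizes_iff_noetherian.mpr (inferInstance : IsNoetherian A M) K
  have hK : ∀ m : M, f ^ (c + 1) • m = 0 → f ^ c • m = 0 := by
    intro m hm
    have h1 : m ∈ K (c + 1) := hm
    rw [← hc (c + 1) (Nat.le_succ c)] at h1
    exact h1
  refine ⟨c + 1, fun p => ?_⟩
  set P := LinearMap.range (f ^ c • (LinearMap.id : M →ₗ[A] M)) with hP
  set Q := LinearMap.range (f ^ (c + 1) • (LinearMap.id : M →ₗ[A] M)) with hQ
  have hQP : Q ≤ P := by
    rintro _ ⟨m, rfl⟩
    exact ⟨f • m, by simp only [LinearMap.smul_apply, LinearMap.id_apply, ← mul_smul, pow_succ]⟩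
  -- multiplication by `f` is an isomorphism `P ≃ Q`
  let φ : P →ₗ[A] Q :=
    { toFun := fun x => ⟨f • x.1, by
        obtain ⟨_, m, rfl⟩ := x
        exact ⟨m, by simp only [LinearMap.smul_apply, LinearMap.id_apply, ← mul_smul, pow_succ']⟩⟩
      map_add' := fun x y => Subtype.ext (smul_add _ _ _)
      map_smul' := fun a x => Subtype.ext (smul_comm _ _ _) }
  have hφ : Function.Bijective φ := by
    constructor
    · rw [← LinearMap.ker_eq_bot, LinearMap.ker_eq_bot']
      rintro ⟨_, m, rfl⟩ h
      apply Subtype.ext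
      have h1 : f • (f ^ c • m) = 0 := congrArg Subtype.val h
      rw [← mul_smul, ← pow_succ'] at h1
      exact hK m h1
    · rintro ⟨_, m, rfl⟩
      refine ⟨⟨_, m, rfl⟩, Subtype.ext ?_⟩
      change f • (f ^ c • m) = f ^ (c + 1) • m
      rw [← mul_smul, ← pow_succ']
  let e : P ≃ₗ[A] Q := LinearEquiv.ofBijective φ hφ
  -- the inclusion `Q → P` is zero on Tor
  have h1 : (Submodule.inclusion hQP) ∘ₗ φ = f • (LinearMap.id : P →ₗ[A] P) := by
    apply LinearMap.ext
    intro x
    rfl
  have h2 : mapL (Submodule.inclusion hQP) p N ∘ₗ mapL φ p N = 0 := by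
    rw [← mapL_comp, h1, mapL_smul_id]
    apply LinearMap.ext
    intro x
    exact smul_eq_zero_of_right f p _ N hN x
  have h3 : mapL φ p N ∘ₗ mapL e.symm.toLinearMap p N = LinearMap.id := by
    rw [← mapL_comp, ← mapL_id]
    congr 1
    apply LinearMap.ext
    intro x
    exact e.apply_symm_apply x
  have h4 : mapL (Submodule.inclusion hQP) p N = 0 := by
    calc mapL (Submodule.inclusion hQP) p N =
        mapL (Submodule.inclusion hQP) p N ∘ₗ (mapL φ p N ∘ₗ mapL e.symm.toLinearMap p N) := by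
          rw [h3, LinearMap.comp_id]
      _ = 0 := by rw [← LinearMap.comp_assoc, h2, LinearMap.zero_comp]
  have h5 : Q.subtype = P.subtype ∘ₗ Submodule.inclusion hQP := by
    rw [Submodule.subtype_comp_inclusion]
  rw [h5, mapL_comp, h4, LinearMap.comp_zero]

theorem main (N : Type u) [AddCommGroup N] [Module A N] (l : List A) :
    (∀ f ∈ l, ∀ y : N, f • y = 0) → ∀ (M : Type u) [AddCommGroup M] [Module A M] [Module.Finite A M],
      ∃ n : ℕ, 0 < n ∧ ∀ p : ℕ,
        mapL (Ideal.span {x | x ∈ l} ^ n • ⊤ : Submodule A M).subtype p N = 0 := by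
  induction l with
  | nil =>
    intro _ M _ _ _
    refine ⟨1, Nat.one_pos, fun p => ?_⟩
    have h1 : (Ideal.span {x : A | x ∈ ([] : List A)} ^ 1 • ⊤ : Submodule A M) = ⊥ := by
      have : {x : A | x ∈ ([] : List A)} = ∅ := by ext; simp
      rw [this, Ideal.span_empty, pow_one, Submodule.bot_smul]
    rw [h1]
    have h2 : (⊥ : Submodule A M).subtype = 0 := by
      apply LinearMap.ext
      intro x
      exact (Submodule.mem_bot A).mp x.2
    rw [h2, mapL_zero]
  | cons f l ih =>
    intro hl M _ _ _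
    obtain ⟨c, hc⟩ := one_element f M N (hl f (by simp))
    set Q := LinearMap.range (f ^ c • (LinearMap.id : M →ₗ[A] M)) with hQ
    obtain ⟨n', hn', hn⟩ := ih (fun g hg => hl g (List.mem_cons_of_mem _ hg)) (M ⧸ Q)
    set I' := Ideal.span {x : A | x ∈ l} with hI'
    set I := Ideal.span {x : A | x ∈ f :: l} with hI
    have hIle : I ≤ Ideal.span {f} ⊔ I' := by
      rw [hI, Ideal.span_le]
      intro x hx
      rcases List.mem_cons.mp hx with rfl | h
      · exact Ideal.mem_sup_left (Ideal.mem_span_singleton_self _)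
      · exact Ideal.mem_sup_right (Ideal.subset_span h)
    have hpow : I ^ (c + n') ≤ Ideal.span {f ^ c} ⊔ I' ^ n' := by
      refine (Ideal.pow_right_mono hIle _).trans ?_
      rw [← Ideal.span_singleton_pow]
      exact Ideal.sup_pow_add_le_pow_sup_pow
    have hmap : ∀ x ∈ (I ^ (c + n') • ⊤ : Submodule A M),
        Q.mkQ x ∈ (I' ^ n' • ⊤ : Submodule A (M ⧸ Q)) := by
      intro x hx
      have h1 := Submodule.mem_map_of_mem (f := Q.mkQ) (Submodule.smul_mono_left hpow hx)
      rw [Submodule.map_smul'', Submodule.sup_smul] at h1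
      have h2 : (Ideal.span {f ^ c} • Submodule.map Q.mkQ ⊤ : Submodule A (M ⧸ Q)) = ⊥ := by
        rw [eq_bot_iff, Submodule.smul_le]
        intro a ha y _
        obtain ⟨b, rfl⟩ := Ideal.mem_span_singleton'.mp ha
        obtain ⟨m, rfl⟩ := Submodule.mkQ_surjective _ y
        rw [mul_smul, ← map_smul, Submodule.mem_bot]
        have : Q.mkQ (f ^ c • m) = 0 := by
          rw [Submodule.mkQ_apply, Submodule.Quotient.mk_eq_zero]
          exact ⟨m, rfl⟩
        rw [this, smul_zero]
      rw [h2, bot_sup_eq] at h1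
      exact Submodule.smul_mono le_rfl le_top h1
    refine ⟨c + n', by omega, fun p => ?_⟩
    let φ : (I ^ (c + n') • ⊤ : Submodule A M) →ₗ[A] (I' ^ n' • ⊤ : Submodule A (M ⧸ Q)) :=
      Q.mkQ.restrict hmap
    have hφ : Q.mkQ ∘ₗ (I ^ (c + n') • ⊤ : Submodule A M).subtype =
        (I' ^ n' • ⊤ : Submodule A (M ⧸ Q)).subtype ∘ₗ φ := by
      apply LinearMap.ext
      intro x
      rfl
    obtain ⟨δ, hex, -, -⟩ := exists_les Q.subtype Q.mkQ Q.injective_subtype
      (LinearMap.exact_subtype_mkQ Q) (Submodule.mkQ_surjective Q) N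
    apply LinearMap.ext
    intro z
    have h3 : mapL Q.mkQ p N (mapL (I ^ (c + n') • ⊤ : Submodule A M).subtype p N z) = 0 := by
      rw [← LinearMap.comp_apply, ← mapL_comp, hφ, mapL_comp, hn, LinearMap.zero_comp]
      rfl
    obtain ⟨w, hw⟩ := (hex p _).mp h3
    rw [← hw, hc p]
    rfl

/-- Let A be a Noetherian ring, I an ideal, M a finite A-module and N an A-module annihilated by I. Then
there is an integer n > 0 such that the maps Tor_p^A(IⁿM, N) → Tor_p^A(M, N) induced by IⁿM ⊆ M are
zero for all p ≥ 0. -/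
theorem result (A : Type u) [CommRing A] [IsNoetherianRing A] (I : Ideal A)
    (M N : Type u) [AddCommGroup M] [Module A M] [Module.Finite A M] [AddCommGroup N] [Module A N]
    (hN : ∀ a ∈ I, ∀ y : N, a • y = 0) :
    ∃ n : ℕ, 0 < n ∧ ∀ p : ℕ,
      ((CategoryTheory.Tor (ModuleCat.{u} A) p).map (ModuleCat.ofHom (I ^ n • ⊤ : Submodule A M).subtype)).app
        (ModuleCat.of A N) = 0 := by
  obtain ⟨s, rfl⟩ := (inferInstance : IsNoetherianRing A).noetherian I
  obtain ⟨n, hn, h⟩ := main N s.toList (fun f hf y => hN f (Ideal.subset_span (by simpa using hf)) y) M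
  have hs : {x : A | x ∈ s.toList} = (s : Set A) := by ext; simp
  rw [hs] at h
  refine ⟨n, hn, fun p => ?_⟩
  apply ModuleCat.hom_ext
  exact h p

end Groth.Agent.S7161
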