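import Groth.Statements.S7163
import Groth.Agent.CAlg.K66.FiberForms
import Mathlib.LinearAlgebra.LinearIndependent.Lemmas
import Mathlib.LinearAlgebra.Dimension.Constructions
import Mathlib.LinearAlgebra.FiniteDimensional.Basic
import Mathlib.RingTheory.Finiteness.Quotient

set_option autoImplicit false
universe u
open CAlg

namespace Groth.Agent.S7163

open K66.FiberForms

section

variable {R : Type u} [CommRing R] {M : Type u} [AddCommGroup M] [Module R M]

/-- `s_1, …, s_h` are independent in `V(x)`. -/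
abbrev LI (x : MaximalSpectrum R) {h : ℕ} (s : Fin h → M) : Prop :=
  LinearIndependent (R ⧸ x.asIdeal) (fun i => img x.asIdeal (s i))

theorem isClosed_Z {h : ℕ} (s : Fin h → M) : IsClosed {x : MaximalSpectrum R | ¬ LI x s} := by
  have : {x : MaximalSpectrum R | ¬ LI x s} = MaximalSpectrum.toPrimeSpectrum ⁻¹'
      (PrimeSpectrum.zeroLocus (Set.range fun φ : Fin h → (M →ₗ[R] R) =>
        (Matrix.of fun i j => φ i (s j)).det)) := by
    ext x
    have := x.isMaximal
    rw [Set.mem_ofPred_eq, LI, linearIndependent_iff_exists_det, Set.mem_preimage,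
      PrimeSpectrum.mem_zeroLocus, Set.range_subset_iff]
    push Not
    rfl
  rw [this]
  exact (PrimeSpectrum.isClosed_zeroLocus _).preimage MaximalSpectrum.toPrimeSpectrum_continuous

theorem LI_snoc_iff (x : MaximalSpectrum R) {h : ℕ} (s : Fin h → M) (t : M) :
    LI x (Fin.snoc s t : Fin (h + 1) → M) ↔
      LI x s ∧ img x.asIdeal t ∉ Submodule.span (R ⧸ x.asIdeal) (Set.range fun i => img x.asIdeal (s i)) := by
  have := x.isMaximal
  let _ := Ideal.Quotient.field x.asIdeal
  have h1 : (fun i => img x.asIdeal ((Fin.snoc s t : Fin (h + 1) → M) i)) =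
      (Fin.snoc (fun i => img x.asIdeal (s i)) (img x.asIdeal t) : Fin (h + 1) → _) := by
    ext i
    refine Fin.lastCases ?_ (fun j => ?_) i
    · simp only [Fin.snoc_last]
    · simp only [Fin.snoc_castSucc]
  rw [LI, h1]
  exact linearIndependent_finSnoc

theorem exists_extend (x : MaximalSpectrum R) {h : ℕ} (s : Fin h → M) (hs : LI x s)
    (hdim : h + 1 ≤ Module.finrank (R ⧸ x.asIdeal)
      ((M ⧸ (x.asIdeal • ⊤ : Submodule R M)) ⧸ Bq M x.asIdeal)) (t₁ : M) :
    ∃ w : M, LI x (Fin.snoc s (t₁ + w) : Fin (h + 1) → M) := by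
  have := x.isMaximal
  let _ := Ideal.Quotient.field x.asIdeal
  have hne : Submodule.span (R ⧸ x.asIdeal) (Set.range fun i => img x.asIdeal (s i)) ≠ ⊤ := by
    intro htop
    have h1 := finrank_range_le_card (R := R ⧸ x.asIdeal) (fun i => img x.asIdeal (s i))
    rw [Set.finrank, htop, finrank_top, Fintype.card_fin] at h1
    omega
  obtain ⟨u, -, hu⟩ := SetLike.exists_of_lt (lt_top_iff_ne_top.mpr hne)
  obtain ⟨m, rfl⟩ := img_surjective x.asIdeal u
  exact ⟨m - t₁, (LI_snoc_iff x s _).mpr ⟨hs, by rwa [add_sub_cancel]⟩⟩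

theorem LI_snoc_add (x : MaximalSpectrum R) {h : ℕ} (s : Fin h → M) (t₁ t₂ : M) (f : R)
    (hs : LI x (Fin.snoc (Fin.snoc s t₁ : Fin (h + 1) → M) t₂ : Fin (h + 1 + 1) → M)) :
    LI x (Fin.snoc s (t₁ + f • t₂) : Fin (h + 1) → M) := by
  have := x.isMaximal
  let _ := Ideal.Quotient.field x.asIdeal
  rw [LI_snoc_iff, LI_snoc_iff] at hs
  obtain ⟨⟨hs, h1⟩, h2⟩ := hs
  rw [LI_snoc_iff]
  refine ⟨hs, fun hmem => ?_⟩
  rw [img_add, img_smul] at hmem
  set W := Submodule.span (R ⧸ x.asIdeal) (Set.range fun i => img x.asIdeal (s i)) with hW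
  set W' := Submodule.span (R ⧸ x.asIdeal)
    (Set.range fun i => img x.asIdeal ((Fin.snoc s t₁ : Fin (h + 1) → M) i)) with hW'
  have hWW : W ≤ W' := by
    refine Submodule.span_mono ?_
    rintro _ ⟨i, rfl⟩
    exact ⟨i.castSucc, by simp only [Fin.snoc_castSucc]⟩
  have ht₁ : img x.asIdeal t₁ ∈ W' := Submodule.subset_span ⟨Fin.last h, by simp only [Fin.snoc_last]⟩
  by_cases hf : Ideal.Quotient.mk x.asIdeal f = 0
  · rw [hf, zero_smul, add_zero] at hmem
    exact h1 hmem
  · have h3 : (Ideal.Quotient.mk x.asIdeal f) • img x.asIdeal t₂ ∈ W' := by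
      have := W'.sub_mem (hWW hmem) ht₁
      rwa [add_sub_cancel_left] at this
    exact h2 ((Submodule.smul_mem_iff _ hf).mp h3)

/-- Chinese remainders: `1` at the points of `Y`, `0` at the points of `W`. -/
theorem exists_separating (Y W : Finset (MaximalSpectrum R)) (hYW : ∀ x ∈ Y, x ∉ W) :
    ∃ f : R, (∀ x ∈ Y, Ideal.Quotient.mk x.asIdeal f = 1) ∧ (∀ x ∈ W, Ideal.Quotient.mk x.asIdeal f = 0) := by
  classical
  let I : ↥(Y ∪ W) → Ideal R := fun x => x.1.asIdeal
  have hI : Pairwise (Function.onFun IsCoprime I) := by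
    intro x y hxy
    have hx := x.1.isMaximal
    have hy := y.1.isMaximal
    refine Ideal.isCoprime_iff_sup_eq.mpr (hx.coprime_of_ne hy fun h => hxy ?_)
    exact Subtype.ext (MaximalSpectrum.ext h)
  obtain ⟨f, hf⟩ := Ideal.exists_forall_sub_mem_ideal hI (fun x => if x.1 ∈ Y then 1 else 0)
  refine ⟨f, fun x hx => ?_, fun x hx => ?_⟩
  · have h1 := hf ⟨x, Finset.mem_union_left _ hx⟩
    simp only [hx, if_true] at h1
    rw [← sub_eq_zero, ← map_one (Ideal.Quotient.mk x.asIdeal), ← map_sub, Ideal.Quotient.eq_zero_iff_mem]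
    exact h1
  · have h1 := hf ⟨x, Finset.mem_union_right _ hx⟩
    have h2 : x ∉ Y := fun h => hYW x h hx
    simp only [h2, if_false, sub_zero] at h1
    rw [Ideal.Quotient.eq_zero_iff_mem]
    exact h1

theorem exists_interpolate (xs : Finset (MaximalSpectrum R)) (v : MaximalSpectrum R → M) :
    ∃ t : M, ∀ x ∈ xs, img x.asIdeal t = img x.asIdeal (v x) := by
  classical
  have h1 : ∀ x : MaximalSpectrum R, ∃ f : R, Ideal.Quotient.mk x.asIdeal f = 1 ∧
      ∀ y ∈ xs, y ≠ x → Ideal.Quotient.mk y.asIdeal f = 0 := by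
    intro x
    obtain ⟨f, hf1, hf2⟩ := exists_separating {x} (xs.erase x) (by
      intro y hy
      rw [Finset.mem_singleton] at hy
      simp [hy])
    exact ⟨f, hf1 x (by simp), fun y hy hyx => hf2 y (Finset.mem_erase.mpr ⟨hyx, hy⟩)⟩
  choose f hf1 hf2 using h1
  refine ⟨∑ x ∈ xs, f x • v x, fun x hx => ?_⟩
  rw [img_sum, Finset.sum_eq_single x]
  · rw [img_smul, hf1, one_smul]
  · intro y _ hyx
    rw [img_smul, hf2 y x hx (Ne.symm hyx), zero_smul]
  · intro h
    exact absurd hx h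

end

theorem exists_points {X : Type u} (S : Set (Set X)) (hS : S.Finite) (F : Set X) :
    ∃ Y : Finset X, (∀ y ∈ Y, y ∉ F ∧ ∃ C ∈ S, y ∈ C) ∧ ∀ C ∈ S, ¬ C ⊆ F → ∃ y ∈ Y, y ∈ C := by
  classical
  have h : ∀ C : {C // C ∈ S ∧ ¬ C ⊆ F}, ∃ y : X, y ∈ C.1 ∧ y ∉ F := by
    rintro ⟨C, -, hC⟩
    exact Set.not_subset.mp hC
  choose y hy using h
  have hfin : Finite {C // C ∈ S ∧ ¬ C ⊆ F} := (hS.subset fun C hC => hC.1).to_subtype
  have := Fintype.ofFinite {C // C ∈ S ∧ ¬ C ⊆ F}
  refine ⟨Finset.univ.image y, ?_, ?_⟩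
  · intro z hz
    obtain ⟨C, -, rfl⟩ := Finset.mem_image.mp hz
    exact ⟨(hy C).2, C.1, C.2.1, (hy C).1⟩
  · intro C hC hCF
    exact ⟨y ⟨C, hC, hCF⟩, Finset.mem_image_of_mem _ (Finset.mem_univ _), (hy ⟨C, hC, hCF⟩).1⟩

theorem main {R : Type u} [CommRing R] [TopologicalSpace.NoetherianSpace (MaximalSpectrum R)]
    {M : Type u} [AddCommGroup M] [Module R M] (k : ℕ) :
    ∀ (h : ℕ) (s : Fin h → M) (F : Set (MaximalSpectrum R)), IsClosed F →
      ∀ (xs : Finset (MaximalSpectrum R)), (∀ x ∈ xs, x ∈ F) → ∀ (v : MaximalSpectrum R → M),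
      (∀ x : MaximalSpectrum R, h + k ≤ Module.finrank (R ⧸ x.asIdeal)
        ((M ⧸ (x.asIdeal • ⊤ : Submodule R M)) ⧸ Bq M x.asIdeal)) →
      (∀ x : MaximalSpectrum R, ¬ LI x s → x ∈ F) →
      ∃ (t : M) (F' : Set (MaximalSpectrum R)), IsClosed F' ∧
        (∀ x ∈ xs, img x.asIdeal t = img x.asIdeal (v x)) ∧
        (∀ x : MaximalSpectrum R, ¬ LI x (Fin.snoc s t : Fin (h + 1) → M) → x ∈ F ∪ F') ∧
        ∀ Z : TopologicalSpace.IrreducibleCloseds (MaximalSpectrum R),
          (Z : Set (MaximalSpectrum R)) ⊆ F' → (k : ℕ∞) ≤ Order.coheight Z := by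
  classical
  induction k with
  | zero =>
    intro h s F _ xs _ v _ _
    obtain ⟨t, ht⟩ := exists_interpolate xs v
    exact ⟨t, Set.univ, isClosed_univ, ht, fun x _ => Or.inr trivial, fun Z _ => by simp⟩
  | succ k ih =>
    intro h s F hF xs hxs v hdim hsF
    obtain ⟨t₁, F₁, hF₁, ht₁, hb₁, hc₁⟩ := ih h s F hF xs hxs v
      (fun x => le_trans (by omega) (hdim x)) hsF
    -- the irreducible pieces of `F₁` not contained in `F`
    obtain ⟨S₁, hS₁fin, hS₁cl, hS₁irr, hS₁⟩ :=
      TopologicalSpace.NoetherianSpace.exists_finite_set_isClosed_irreducible hF₁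
    obtain ⟨Y, hY, hYC⟩ := exists_points S₁ hS₁fin F
    have hYF : ∀ y ∈ Y, y ∉ F := fun y hy => (hY y hy).1
    have hYF₁ : ∀ y ∈ Y, y ∈ F₁ := fun y hy => by
      obtain ⟨C, hC, hyC⟩ := (hY y hy).2
      rw [hS₁]
      exact Set.mem_sUnion_of_mem hyC hC
    have hw : ∀ y : MaximalSpectrum R, ∃ w : M, y ∉ F → LI y (Fin.snoc s (t₁ + w) : Fin (h + 1) → M) := by
      intro y
      by_cases hyF : y ∈ F
      · exact ⟨0, fun h => absurd hyF h⟩
      · have hys : LI y s := by
          by_contra hcon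
          exact hyF (hsF y hcon)
        obtain ⟨w, hw⟩ := exists_extend y s hys (le_trans (by omega) (hdim y)) t₁
        exact ⟨w, fun _ => hw⟩
    choose w hw using hw
    obtain ⟨t₂, F₂, hF₂, ht₂, hb₂, hc₂⟩ := ih (h + 1) (Fin.snoc s t₁) (F ∪ F₁) (hF.union hF₁) Y
      (fun y hy => Or.inr (hYF₁ y hy)) w (fun x => le_trans (by omega) (hdim x)) hb₁
    obtain ⟨S₂, hS₂fin, hS₂cl, hS₂irr, hS₂⟩ :=
      TopologicalSpace.NoetherianSpace.exists_finite_set_isClosed_irreducible hF₂
    obtain ⟨W, hW, hWD⟩ := exists_points S₂ hS₂fin (F ∪ F₁)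
    have hWF : ∀ z ∈ W, z ∉ F ∪ F₁ := fun z hz => (hW z hz).1
    obtain ⟨f, hf1, hf0⟩ := exists_separating Y (xs ∪ W) (by
      intro y hy hmem
      rcases Finset.mem_union.mp hmem with h | h
      · exact hYF y hy (hxs y h)
      · exact hWF y h (Or.inr (hYF₁ y hy)))
    -- the section
    set t : M := t₁ + f • t₂ with ht
    have hcongr : ∀ (x : MaximalSpectrum R) (a b : M), img x.asIdeal a = img x.asIdeal b →
        (LI x (Fin.snoc s a : Fin (h + 1) → M) ↔ LI x (Fin.snoc s b : Fin (h + 1) → M)) := by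
      intro x a b hab
      rw [LI_snoc_iff, LI_snoc_iff, hab]
    have htY : ∀ y ∈ Y, LI y (Fin.snoc s t : Fin (h + 1) → M) := by
      intro y hy
      refine (hcongr y _ _ ?_).mp (hw y (hYF y hy))
      rw [ht, img_add, img_add, img_smul, hf1 y hy, one_smul, ht₂ y hy]
    have htW : ∀ z ∈ W, LI z (Fin.snoc s t : Fin (h + 1) → M) := by
      intro z hz
      have h1 : LI z (Fin.snoc s t₁ : Fin (h + 1) → M) := by
        by_contra hcon
        exact hWF z hz (hb₁ z hcon)
      refine (hcongr z _ _ ?_).mp h1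
      rw [ht, img_add, img_smul, hf0 z (Finset.mem_union_right _ hz), zero_smul, add_zero]
    let S : Finset (Set (MaximalSpectrum R)) :=
      (hS₁fin.toFinset.filter fun C => ¬ C ⊆ F) ∪ (hS₂fin.toFinset.filter fun D => ¬ D ⊆ F ∪ F₁)
    have hS : ∀ C, C ∈ S ↔ (C ∈ S₁ ∧ ¬ C ⊆ F) ∨ (C ∈ S₂ ∧ ¬ C ⊆ F ∪ F₁) := by
      intro C
      simp only [S, Finset.mem_union, Finset.mem_filter, Set.Finite.mem_toFinset]
    have hScl : ∀ C ∈ S, IsClosed C := by
      intro C hC
      rcases (hS C).mp hC with h | h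
      · exact hS₁cl C h.1
      · exact hS₂cl C h.1
    have hSirr : ∀ C ∈ S, IsIrreducible C := by
      intro C hC
      rcases (hS C).mp hC with h | h
      · exact hS₁irr C h.1
      · exact hS₂irr C h.1
    have hSpt : ∀ C ∈ S, ∃ y ∈ C, LI y (Fin.snoc s t : Fin (h + 1) → M) := by
      intro C hC
      rcases (hS C).mp hC with h | h
      · obtain ⟨y, hy, hyC⟩ := hYC C h.1 h.2
        exact ⟨y, hyC, htY y hy⟩
      · obtain ⟨y, hy, hyC⟩ := hWD C h.1 h.2
        exact ⟨y, hyC, htW y hy⟩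
    have hScod : ∀ C : TopologicalSpace.IrreducibleCloseds (MaximalSpectrum R),
        (C : Set (MaximalSpectrum R)) ∈ S → (k : ℕ∞) ≤ Order.coheight C := by
      intro C hC
      rcases (hS C).mp hC with h | h
      · refine hc₁ C ?_
        rw [hS₁]
        exact Set.subset_sUnion_of_mem h.1
      · refine hc₂ C ?_
        rw [hS₂]
        exact Set.subset_sUnion_of_mem h.1
    refine ⟨t, {x | ¬ LI x (Fin.snoc s t : Fin (h + 1) → M)} ∩ ⋃₀ (S : Set (Set (MaximalSpectrum R))),
      (isClosed_Z _).inter ?_, ?_, ?_, ?_⟩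
    · rw [Set.sUnion_eq_biUnion]
      exact S.finite_toSet.isClosed_biUnion fun C hC => hScl C hC
    · intro x hx
      rw [ht, img_add, img_smul, hf0 x (Finset.mem_union_left _ hx), zero_smul, add_zero]
      exact ht₁ x hx
    · intro x hx
      by_cases hxF : x ∈ F
      · exact Or.inl hxF
      refine Or.inr ⟨hx, ?_⟩
      by_cases hxF₁ : x ∈ F₁
      · rw [hS₁] at hxF₁
        obtain ⟨C, hC, hxC⟩ := hxF₁
        exact ⟨C, (hS C).mpr (Or.inl ⟨hC, fun h => hxF (h hxC)⟩), hxC⟩
      by_cases hxF₂ : x ∈ F₂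
      · rw [hS₂] at hxF₂
        obtain ⟨C, hC, hxC⟩ := hxF₂
        refine ⟨C, (hS C).mpr (Or.inr ⟨hC, fun h => ?_⟩), hxC⟩
        exact (h hxC).elim hxF hxF₁
      · exfalso
        apply hx
        apply LI_snoc_add
        by_contra hcon
        rcases hb₂ x hcon with (h | h) | h
        · exact hxF h
        · exact hxF₁ h
        · exact hxF₂ h
    · intro Z hZ
      obtain ⟨C, hC, hZC⟩ := isIrreducible_iff_sUnion_isClosed.mp Z.isIrreducible S hScl
        (hZ.trans Set.inter_subset_right)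
      let C' : TopologicalSpace.IrreducibleCloseds (MaximalSpectrum R) := ⟨C, hSirr C hC, hScl C hC⟩
      have hlt : Z < C' := by
        refine lt_of_le_of_ne hZC ?_
        rintro rfl
        obtain ⟨y, hyC, hy⟩ := hSpt C hC
        exact (hZ hyC).1 hy
      have h1 := Order.coheight_add_one_le hlt
      have h2 := hScod C' hC
      push_cast
      exact (add_le_add h2 le_rfl).trans h1

/-- Let R be a ring whose set Ω of closed points of Spec R is a Noetherian topological space and M a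
finitely presented R-module; for x in Ω write M(x) = M/xM, B(x) for the classes of elements m with
φ(m) in x for every linear form φ, and V(x) = M(x)/B(x). Let s_1, ..., s_h be elements of M, F ⊆ Ω a
closed subset containing the set Z(s_1, ..., s_h) of points where the images of the s_i in V(x) are
linearly dependent, x_1, ..., x_n pairwise distinct points of F, v_i elements of M(x_i), and k ≥ 0
an integer with h + k ≤ dim V(x) for all x in Ω. Then there are s in M and a closed F' ⊆ Ω such that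
(a) s(x_i) and v_i have the same image in V(x_i), (b) Z(s_1, ..., s_h, s) ⊆ F ∪ F', and (c) each
irreducible component of F′ is of codimension at least k in Ω (equivalently, so is each irreducible
closed subset of Ω lying in F′). -/
theorem result (R : Type u) [CommRing R] [TopologicalSpace.NoetherianSpace (MaximalSpectrum R)]
    (M : Type u) [AddCommGroup M] [Module R M] [Module.FinitePresentation R M]
    (h : ℕ) (s : Fin h → M) (F : Set (MaximalSpectrum R)) (hF : IsClosed F)
    (n : ℕ) (xs : Fin n → MaximalSpectrum R) (hxs : Function.Injective xs) (hxF : ∀ i, xs i ∈ F)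
    (v : ∀ i : Fin n, M ⧸ ((xs i).asIdeal • ⊤ : Submodule R M)) (k : ℕ) :
    let Bq : ∀ x : MaximalSpectrum R, Submodule (R ⧸ x.asIdeal) (M ⧸ (x.asIdeal • ⊤ : Submodule R M)) :=
      fun x => Submodule.span (R ⧸ x.asIdeal)
        ((x.asIdeal • ⊤ : Submodule R M).mkQ '' {m : M | ∀ φ : M →ₗ[R] R, φ m ∈ x.asIdeal})
    let img : ∀ x : MaximalSpectrum R, M → (M ⧸ (x.asIdeal • ⊤ : Submodule R M)) ⧸ Bq x :=
      fun x m => (Bq x).mkQ ((x.asIdeal • ⊤ : Submodule R M).mkQ m)
    (∀ x : MaximalSpectrum R, h + k ≤ Module.finrank (R ⧸ x.asIdeal) ((M ⧸ (x.asIdeal • ⊤ : Submodule R M)) ⧸ Bq x)) →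
    (∀ x : MaximalSpectrum R, ¬ LinearIndependent (R ⧸ x.asIdeal) (fun i => img x (s i)) → x ∈ F) →
    ∃ (t : M) (F' : Set (MaximalSpectrum R)), IsClosed F' ∧
      (∀ i : Fin n, img (xs i) t = (Bq (xs i)).mkQ (v i)) ∧
      (∀ x : MaximalSpectrum R,
        ¬ LinearIndependent (R ⧸ x.asIdeal) (Fin.snoc (fun i => img x (s i)) (img x t)) → x ∈ F ∪ F') ∧
      ∀ Z : TopologicalSpace.IrreducibleCloseds (MaximalSpectrum R), (Z : Set (MaximalSpectrum R)) ⊆ F' →
        (k : ℕ∞) ≤ Order.coheight Z := by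
  classical
  intro Bq' img' hdim hsF
  -- lift the prescribed values to `M`
  choose v' hv' using fun i => Submodule.mkQ_surjective _ (v i)
  let vv : MaximalSpectrum R → M := fun x => if hx : ∃ i, xs i = x then v' hx.choose else 0
  have hvv : ∀ i, vv (xs i) = v' i := by
    intro i
    have hx : ∃ j, xs j = xs i := ⟨i, rfl⟩
    have h1 : hx.choose = i := hxs hx.choose_spec
    simp only [vv, dif_pos hx]
    rw [h1]
  obtain ⟨t, F', hF', ht, hb, hc⟩ := main k h s F hF (Finset.univ.image xs) (by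
    intro x hx
    obtain ⟨i, -, rfl⟩ := Finset.mem_image.mp hx
    exact hxF i) vv hdim hsF
  refine ⟨t, F', hF', fun i => ?_, fun x hx => ?_, hc⟩
  · have h1 := ht (xs i) (Finset.mem_image_of_mem _ (Finset.mem_univ i))
    rw [hvv] at h1
    refine h1.trans ?_
    rw [← hv']
  · refine hb x fun hcon => hx ?_
    have h1 : (fun i => K66.FiberForms.img x.asIdeal ((Fin.snoc s t : Fin (h + 1) → M) i)) =
        (Fin.snoc (fun i => img' x (s i)) (img' x t) : Fin (h + 1) → _) := by
      ext i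
      refine Fin.lastCases ?_ (fun j => ?_) i
      · simp only [Fin.snoc_last]; rfl
      · simp only [Fin.snoc_castSucc]; rfl
    rw [← h1]
    exact hcon

end Groth.Agent.S7163
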