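import Groth.Statements.S7164
import Groth.Agent.CAlg.K855.ExtAR

set_option autoImplicit false
universe u
open CategoryTheory
attribute [local instance] HasDerivedCategory.standard
open CAlg

namespace Groth.Agent.S7164

open K855.ExtAR CategoryTheory.Limits

/-- the short exact sequence of a submodule -/
noncomputable def sc {A : Type u} [CommRing A] {M : Type u} [AddCommGroup M] [Module A M] (N : Submodule A M) :
    ShortComplex (ModuleCat.{u} A) :=
  ShortComplex.mk (ModuleCat.ofHom N.subtype) (ModuleCat.ofHom N.mkQ) (by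
    ext x
    exact (Submodule.Quotient.mk_eq_zero _).2 x.2)

theorem sc_shortExact {A : Type u} [CommRing A] {M : Type u} [AddCommGroup M] [Module A M] (N : Submodule A M) :
    (sc N).ShortExact where
  exact := by
    rw [ShortComplex.moduleCat_exact_iff]
    intro x hx
    exact ⟨⟨x, (Submodule.Quotient.mk_eq_zero _).1 hx⟩, rfl⟩
  mono_f := (ModuleCat.mono_iff_injective _).2 N.injective_subtype
  epi_g := (ModuleCat.epi_iff_surjective _).2 N.mkQ_surjective

/-- Let A be a Noetherian ring, I an ideal, K a pseudo-coherent object of D(A) and a an integer. Assume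
that for every finite A-module M and every i ≥ a the module Ext^i_A(K, M) is I-power torsion. Then
for i ≥ a and M finite the inverse system (Ext^i_A(K, M/IⁿM))_n is essentially constant with value
Ext^i_A(K, M) (so that Ext^i_A(K, M) = lim Ext^i_A(K, M/IⁿM)): concretely, some comparison map
Ext^i(K, M) → Ext^i(K, M/I^mM) is injective and for every n there is m' ≥ n such that the image of
the transition map Ext^i(K, M/I^(m')M) → Ext^i(K, M/IⁿM) is contained in the image of Ext^i(K, M).
Here Ext^i(K, X) = Hom_{D(A)}(K, X[i]). -/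
theorem result (A : Type u) [CommRing A] [IsNoetherianRing A]
    (I : Ideal A) (K : Dual.D A) (hK : DRing.IsPseudoCoherent' A K) (a : ℤ)
    (htors : ∀ (M : Type u) [AddCommGroup M] [Module A M], Module.Finite A M → ∀ i : ℤ, a ≤ i →
      ∀ e : K ⟶ (Dual.inD A M)⟦i⟧, ∃ n : ℕ, ∀ x ∈ I ^ n, x • e = 0)
    (M : Type u) [AddCommGroup M] [Module A M] [Module.Finite A M] (i : ℤ) (hi : a ≤ i) :
    let Mq : ℕ → Submodule A M := fun n => I ^ n • ⊤
    let c : ∀ n : ℕ, (K ⟶ (Dual.inD A M)⟦i⟧) → (K ⟶ (Dual.inD A (M ⧸ Mq n))⟦i⟧) :=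
      fun n e => e ≫ ((DerivedCategory.singleFunctor (ModuleCat.{u} A) 0).map (ModuleCat.ofHom (Mq n).mkQ))⟦i⟧'
    let t : ∀ n m : ℕ, n ≤ m → (K ⟶ (Dual.inD A (M ⧸ Mq m))⟦i⟧) → (K ⟶ (Dual.inD A (M ⧸ Mq n))⟦i⟧) :=
      fun n m hnm e => e ≫ ((DerivedCategory.singleFunctor (ModuleCat.{u} A) 0).map (ModuleCat.ofHom
        (Submodule.mapQ (Mq m) (Mq n) (LinearMap.id : M →ₗ[A] M) (Submodule.smul_mono_left (Ideal.pow_le_pow_right hnm)))))⟦i⟧'
    (∃ m : ℕ, Function.Injective (c m)) ∧
      ∀ n : ℕ, ∃ (m' : ℕ) (hnm : n ≤ m'), Set.range (t n m' hnm) ⊆ Set.range (c n) := by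
  intro Mq c t
  constructor
  · obtain ⟨m, hm⟩ := exists_zero' I K hK M i (htors M inferInstance i hi)
    refine ⟨m, fun e e' hee' => ?_⟩
    rw [← sub_eq_zero]
    have h1 : (e - e') ≫ (sm (sc (Mq m)).g)⟦i⟧' = 0 := by
      rw [Preadditive.sub_comp]
      exact sub_eq_zero.2 hee'
    obtain ⟨e'', he''⟩ := exists_of_comp_eq_zero (sc_shortExact (Mq m)) K i (e - e') h1
    rw [← he'']
    exact hm e''
  · intro n
    obtain ⟨k, hk⟩ := exists_zero' I K hK (Mq n) (i + 1)
      (htors (Mq n) inferInstance (i + 1) (by omega))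
    refine ⟨n + k, Nat.le_add_right _ _, ?_⟩
    have hle : Mq (n + k) ≤ Mq n := Submodule.smul_mono_left (Ideal.pow_le_pow_right (Nat.le_add_right _ _))
    -- the inclusion of `I ^ (n + k) M` in `I ^ n M` factors through `I ^ k (I ^ n M)`
    have hmem : ∀ x : Mq (n + k), Submodule.inclusion hle x ∈ (I ^ k • ⊤ : Submodule A (Mq n)) := by
      intro x
      have h1 : (Mq n).map (LinearMap.id : M →ₗ[A] M) = Mq n := Submodule.map_id _
      have h2 : Mq (n + k) = Submodule.map (Mq n).subtype (I ^ k • ⊤ : Submodule A (Mq n)) := by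
        rw [Submodule.map_smul'', Submodule.map_subtype_top]
        change I ^ (n + k) • (⊤ : Submodule A M) = I ^ k • (I ^ n • (⊤ : Submodule A M))
        rw [← Submodule.mul_smul, ← pow_add, add_comm]
      have h3 := h2.le x.2
      obtain ⟨y, hy, hyx⟩ := h3
      have h4 : Submodule.inclusion hle x = y := Subtype.ext hyx.symm
      rw [h4]
      exact hy
    let j : ModuleCat.of A (Mq (n + k)) ⟶ ModuleCat.of A (Mq n) := ModuleCat.ofHom (Submodule.inclusion hle)
    have hj : ∀ e : K ⟶ (sf (ModuleCat.of A (Mq (n + k))))⟦i + 1⟧, e ≫ (sm j)⟦i + 1⟧' = 0 := by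
      intro e
      let j' : ModuleCat.of A (Mq (n + k)) ⟶ ModuleCat.of A (Groth.Agent.LoccohB.KosP.powSub I (Mq n) k) :=
        ModuleCat.ofHom ((Submodule.inclusion hle).codRestrict _ hmem)
      have h1 : j = j' ≫ incl I (Mq n) k := rfl
      have h2 := hk (e ≫ (sm j')⟦i + 1⟧')
      rw [Category.assoc, ← Functor.map_comp, ← Functor.map_comp, ← h1] at h2
      exact h2
    rintro _ ⟨e, rfl⟩
    -- the map of short exact sequences
    let φ : sc (Mq (n + k)) ⟶ sc (Mq n) :=
      { τ₁ := j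
        τ₂ := 𝟙 _
        τ₃ := ModuleCat.ofHom (Submodule.mapQ (Mq (n + k)) (Mq n) (LinearMap.id : M →ₗ[A] M) hle)
        comm₁₂ := rfl
        comm₂₃ := rfl }
    exact exists_of_map (sc_shortExact (Mq (n + k))) (sc_shortExact (Mq n)) φ K i hj e

end Groth.Agent.S7164
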