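import Groth.Statements.S7165
import Groth.Agent.EtAlg.K363.IntClosNoeth
import Mathlib.RingTheory.EssentialFiniteness
import Mathlib.RingTheory.TensorProduct.Basic

set_option autoImplicit false
universe u
open EtAlg

namespace Groth.Agent.S7165

open TensorProduct in
/-- Let A → B be an injective local homomorphism of discrete valuation rings whose fields of fractions
are K ⊆ L, the A-algebra B being essentially of finite type. Let K' ⊇ K be an algebraic extension
field for which A', the integral closure of A in K', is a Noetherian ring, and let L' = (L ⊗_K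
K')_red. Then B', the integral closure of B in L', is a Noetherian ring. (The published statement
also asserts that Spec B' → Spec A' is surjective and that the residue field extensions are finitely
generated; this row states only that B' is Noetherian.) -/
theorem result (A B K L : Type u) [CommRing A] [IsDomain A]
    [IsDiscreteValuationRing A] [CommRing B] [IsDomain B] [IsDiscreteValuationRing B] [Algebra A B]
    (hinj : Function.Injective (algebraMap A B)) [IsLocalHom (algebraMap A B)] [Algebra.EssFiniteType A B]
    [Field K] [Field L] [Algebra A K] [IsFractionRing A K] [Algebra B L] [IsFractionRing B L]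
    [Algebra K L] [Algebra A L] [IsScalarTower A K L] [IsScalarTower A B L]
    (K' : Type u) [Field K'] [Algebra K K'] [Algebra A K'] [IsScalarTower A K K'] [Algebra.IsAlgebraic K K']
    (hA' : IsNoetherianRing (integralClosure A K'))
    (L' : Type u) [CommRing L'] [IsReduced L'] [Algebra K L'] [Algebra L L'] [Algebra K' L'] [Algebra B L']
    [IsScalarTower K L L'] [IsScalarTower K K' L'] [IsScalarTower B L L']
    (q : L ⊗[K] K' →ₐ[K] L') (hq : Function.Surjective q) (hker : RingHom.ker q.toRingHom = nilradical (L ⊗[K] K'))
    (hqL : ∀ y : L, q (y ⊗ₜ 1) = algebraMap L L' y) (hqK : ∀ z : K', q (1 ⊗ₜ z) = algebraMap K' L' z) :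
    IsNoetherianRing (integralClosure B L') := by
  let _ : Algebra A L' := ((algebraMap K L').comp (algebraMap A K)).toAlgebra
  have hAKL' : IsScalarTower A K L' := IsScalarTower.of_algebraMap_eq' rfl
  have hABL' : IsScalarTower A B L' := IsScalarTower.of_algebraMap_eq fun a => by
    rw [IsScalarTower.algebraMap_apply A K L', IsScalarTower.algebraMap_apply K L L',
      ← IsScalarTower.algebraMap_apply A K L, IsScalarTower.algebraMap_apply A B L,
      ← IsScalarTower.algebraMap_apply B L L']
  have hAK'L' : IsScalarTower A K' L' := IsScalarTower.of_algebraMap_eq fun a => by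
    rw [IsScalarTower.algebraMap_apply A K K', ← IsScalarTower.algebraMap_apply K K' L',
      ← IsScalarTower.algebraMap_apply A K L']
  -- `L'` is integral over `L`
  let qL : L ⊗[K] K' →ₐ[L] L' := { q.toRingHom with commutes' := hqL }
  have hqLsurj : Function.Surjective qL := hq
  have hint : Algebra.IsIntegral L L' := by
    have h1 : Algebra.IsIntegral L (L ⊗[K] K') := inferInstance
    exact Algebra.IsIntegral.of_surjective qL hqLsurj
  -- `A'`
  let A' := integralClosure A K'
  have hN1 : IsNoetherianRing (A' ⊗[A] B) := by
    have h1 : Algebra.EssFiniteType A' (A' ⊗[A] B) := inferInstance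
    exact Algebra.EssFiniteType.isNoetherianRing A' _
  have hN2 : IsNoetherianRing (B ⊗[A] A') :=
    isNoetherianRing_of_ringEquiv _ (Algebra.TensorProduct.comm A A' B).toRingEquiv
  let j : A' →ₐ[A] L' := (IsScalarTower.toAlgHom A K' L').comp A'.val
  let ψ : B ⊗[A] A' →ₐ[B] L' := Algebra.TensorProduct.lift (Algebra.ofId B L') j fun _ _ => Commute.all _ _
  have hψ : ∀ b a, ψ (b ⊗ₜ a) = algebraMap B L' b * algebraMap K' L' a := fun b a => by
    rw [Algebra.TensorProduct.lift_tmul]
    rfl
  have hψsurj : Function.Surjective ψ.rangeRestrict := ψ.rangeRestrict_surjective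
  have hN3 : IsNoetherianRing ψ.range := isNoetherianRing_of_surjective _ _ ψ.rangeRestrict.toRingHom hψsurj
  have hint3 : Algebra.IsIntegral B ψ.range := by
    have h1 : Algebra.IsIntegral B (B ⊗[A] A') := inferInstance
    exact Algebra.IsIntegral.of_surjective ψ.rangeRestrict hψsurj
  refine K363.IntClosNoeth.isNoetherianRing_integralClosure (L := L) (IsFractionRing.injective B L)
    ψ.range ?_
  intro x
  obtain ⟨t, rfl⟩ := hq x
  induction t using TensorProduct.induction_on with
  | zero => exact ⟨1, one_ne_zero, by rw [map_zero, mul_zero]; exact Subalgebra.zero_mem _⟩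
  | tmul y z =>
    obtain ⟨b₁, b₂, hb₂, rfl⟩ := IsFractionRing.div_surjective (A := B) y
    have hz : IsAlgebraic A z := by
      rw [IsFractionRing.isAlgebraic_iff A K K']
      exact Algebra.IsAlgebraic.isAlgebraic z
    obtain ⟨a, ha, haz⟩ := hz.exists_integral_multiple
    have hb₂0 : b₂ ≠ 0 := nonZeroDivisors.ne_zero hb₂
    refine ⟨b₂ * algebraMap A B a, mul_ne_zero hb₂0 ?_, ⟨b₁ ⊗ₜ (⟨a • z, haz⟩ : A'), ?_⟩⟩
    · intro h0
      exact ha (hinj (h0.trans (map_zero _).symm))
    · have h1 : q ((algebraMap B L b₁ / algebraMap B L b₂) ⊗ₜ z) =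
          algebraMap L L' (algebraMap B L b₁ / algebraMap B L b₂) * algebraMap K' L' z := by
        rw [← hqL, ← hqK, ← map_mul, Algebra.TensorProduct.tmul_mul_tmul, mul_one, one_mul]
      have h2 : algebraMap B L' b₂ * algebraMap L L' (algebraMap B L b₁ / algebraMap B L b₂) =
          algebraMap B L' b₁ := by
        rw [IsScalarTower.algebraMap_apply B L L' b₂, ← map_mul, mul_div_cancel₀,
          ← IsScalarTower.algebraMap_apply]
        rw [Ne, map_eq_zero_iff _ (IsFractionRing.injective B L)]
        exact hb₂0
      change ψ (b₁ ⊗ₜ (⟨a • z, haz⟩ : A')) = _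
      rw [hψ, h1, map_mul, ← IsScalarTower.algebraMap_apply A B L']
      change algebraMap B L' b₁ * algebraMap K' L' (a • z) = _
      rw [Algebra.smul_def, map_mul, ← IsScalarTower.algebraMap_apply A K' L', ← h2]
      ring
  | add t t' ih ih' =>
    obtain ⟨b, hb, h⟩ := ih
    obtain ⟨b', hb', h'⟩ := ih'
    refine ⟨b * b', mul_ne_zero hb hb', ?_⟩
    rw [map_add, map_mul]
    have h1 : algebraMap B L' b * algebraMap B L' b' * (q t + q t') =
        algebraMap B L' b' * (algebraMap B L' b * q t) + algebraMap B L' b * (algebraMap B L' b' * q t') := by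
      ring
    rw [h1]
    exact add_mem (mul_mem (Subalgebra.algebraMap_mem _ _) h) (mul_mem (Subalgebra.algebraMap_mem _ _) h')

end Groth.Agent.S7165
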