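import Groth.Statements.S7170
import Groth.Agent.FlatMor.K250.FinitePC

set_option autoImplicit false
universe u
attribute [local instance] HasDerivedCategory.standard
open FlatMor

namespace Groth.Agent.S7170

open AlgebraicGeometry CategoryTheory Limits in
/-- For a finite morphism f : X → S, pseudo-coherence of f is equivalent to pseudo-coherence of the
O_S-module f_* O_X; as f is affine, the latter means that O_X(f⁻¹ V) is a pseudo-coherent
O_S(V)-module for every affine open V of S, the form used here. -/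
theorem result {X S : Scheme.{u}} (f : X ⟶ S) [IsFinite f] :
    MoreMor.IsPseudoCoherentMor f ↔ ∀ (V : S.Opens), IsAffineOpen V →
      (letI := (f.app V).hom.toAlgebra
       DRing.IsPseudoCoherentModule' Γ(S, V) Γ(X, f ⁻¹ᵁ V)) := by
  have key : ∀ (V : S.Opens), IsAffineOpen V →
      ((letI := (f.app V).hom.toAlgebra
       DRing.IsPseudoCoherentModule' Γ(S, V) Γ(X, f ⁻¹ᵁ V)) ↔
        Groth.Agent.Flat2H.PCRing (f.appLE V (f ⁻¹ᵁ V) le_rfl).hom) := by
    intro V hV
    have hfin : (f.app V).hom.Finite := f.finite_app V hV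
    rw [← Scheme.Hom.app_eq_appLE]
    letI := (f.app V).hom.toAlgebra
    have : Module.Finite Γ(S, V) Γ(X, f ⁻¹ᵁ V) := hfin
    exact (Groth.Agent.Flat2H.PCBridge.isPseudoCoherentModule'_iff (A := Γ(S, V)) Γ(X, f ⁻¹ᵁ V)).trans
      K250.FinitePC.pcHom_iff_fpInf_of_finite.symm
  rw [Groth.Agent.Flat2H.isPseudoCoherentMor_iff]
  constructor
  · intro h V hV
    rw [key V hV]
    exact h (f ⁻¹ᵁ V) V (hV.preimage f) hV le_rfl
  · intro h
    rw [K249.PCCancel.pcMor_iff_exists]
    intro x
    obtain ⟨V, hV, hxV, -⟩ := exists_isAffineOpen_mem_and_subset (X := S) (x := f x) (U := ⊤) trivial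
    exact ⟨f ⁻¹ᵁ V, V, le_rfl, hV.preimage f, hV, hxV, (key V hV).1 (h V hV)⟩

end Groth.Agent.S7170
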