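import Groth.Statements.S7172
import Groth.Agent.Flat2H.PerfMor
import Groth.Agent.Flat2H.FlatPC2

set_option autoImplicit false
universe u
attribute [local instance] HasDerivedCategory.standard
open FlatMor

namespace Groth.Agent.S7172

open AlgebraicGeometry CategoryTheory Limits in
/-- A flat morphism locally of finite presentation is perfect. -/
theorem result {X S : Scheme.{u}} (f : X ⟶ S) [Flat f] [LocallyOfFinitePresentation f] :
    MoreMor.IsPerfectMor f := by
  intro U V hU hV hUV
  have h1 : (f.appLE V U hUV).hom.Flat := HasRingHomProperty.appLE (P := @Flat) f ‹_› ⟨V, hV⟩ ⟨U, hU⟩ hUV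
  have h2 : (f.appLE V U hUV).hom.FinitePresentation :=
    HasRingHomProperty.appLE (P := @LocallyOfFinitePresentation) f ‹_› ⟨V, hV⟩ ⟨U, hU⟩ hUV
  refine (Groth.Agent.Flat2H.PerfMor.perfRing_iff _).1 ⟨?_, Groth.Agent.Flat2H.TorDimHom.FTD.of_flat h1⟩
  algebraize [(f.appLE V U hUV).hom]
  exact Groth.Agent.Flat2H.PCHom.of_flat Γ(S, V) Γ(X, U)

end Groth.Agent.S7172
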