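import Groth.Statements.S7173
import Groth.Agent.FlatMor.K250.TorLocal
import Groth.Agent.FlatMor.K250.RegSection
import Groth.Agent.Flat2H.FlatPC
import Groth.Agent.Flat2H.PerfMor

set_option autoImplicit false
universe u
attribute [local instance] HasDerivedCategory.standard
open FlatMor

namespace Groth.Agent.S7173

open AlgebraicGeometry CategoryTheory Limits in
/-- A morphism locally of finite type to a regular scheme S (locally Noetherian with all local rings
regular) whose affine opens have finite Krull dimension is perfect. (The published statement carries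
no dimension hypothesis; its proof is the ring statement for a finite type algebra over a regular
ring of finite dimension, so finite Krull dimension of the affine opens of S is assumed here.) -/
theorem result {X S : Scheme.{u}} (f : X ⟶ S) [LocallyOfFiniteType f] [IsLocallyNoetherian S]
    (hreg : ∀ s : S, IsRegularLocalRing (S.presheaf.stalk s))
    (hdim : ∀ V : S.Opens, IsAffineOpen V → ringKrullDim Γ(S, V) < ⊤) :
    MoreMor.IsPerfectMor f := by
  intro U V hU hV hUV
  have h1 : (f.appLE V U hUV).hom.FiniteType :=
    HasRingHomProperty.appLE (P := @LocallyOfFiniteType) f ‹_› ⟨V, hV⟩ ⟨U, hU⟩ hUV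
  have hN : IsNoetherianRing Γ(S, V) := IsLocallyNoetherian.component_noetherian ⟨V, hV⟩
  have hR : IsRegularRing Γ(S, V) := K250.RegSection.isRegularRing_of_stalks hV fun x _ => hreg x
  rw [isRegularRing_iff] at hR
  letI := (f.appLE V U hUV).hom.toAlgebra
  have : Algebra.FiniteType Γ(S, V) Γ(X, U) := h1
  exact ⟨Groth.Agent.Flat2H.isPseudoCoherentHom_iff.2 Groth.Agent.Flat2H.PCHom.of_isNoetherianRing,
    K250.TorLocal.hasFiniteTorDim_of_regular hR (hdim V hV) _⟩

end Groth.Agent.S7173
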