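import Groth.Statements.S7174
import Groth.Agent.FlatMor.K250.TorOpen
import Groth.Agent.S7171

set_option autoImplicit false
set_option linter.style.haveILetI false
universe u
attribute [local instance] HasDerivedCategory.standard
open FlatMor

namespace Groth.Agent.S7174

open AlgebraicGeometry CategoryTheory Limits in
theorem tower {X S : Scheme.{u}} (f : X ⟶ S) (x : X) (U : X.Opens) (V : S.Opens) (hUV : U ≤ f ⁻¹ᵁ V)
    (hxU : x ∈ U) (hxV : f x ∈ V) :
    letI := (f.appLE V U hUV).hom.toAlgebra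
    letI := X.presheaf.algebra_section_stalk ⟨x, hxU⟩
    letI := S.presheaf.algebra_section_stalk ⟨f x, hxV⟩
    letI : Algebra Γ(S, V) (X.presheaf.stalk x) :=
      ((f.stalkMap x).hom.comp (algebraMap Γ(S, V) (S.presheaf.stalk (f x)))).toAlgebra
    IsScalarTower Γ(S, V) Γ(X, U) (X.presheaf.stalk x) := by
  letI := (f.appLE V U hUV).hom.toAlgebra
  letI := X.presheaf.algebra_section_stalk ⟨x, hxU⟩
  letI := S.presheaf.algebra_section_stalk ⟨f x, hxV⟩
  letI : Algebra Γ(S, V) (X.presheaf.stalk x) :=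
    ((f.stalkMap x).hom.comp (algebraMap Γ(S, V) (S.presheaf.stalk (f x)))).toAlgebra
  refine IsScalarTower.of_algebraMap_eq' ?_
  have h := Scheme.Hom.germ_stalkMap f V x hxV
  have h2 : X.presheaf.germ (f ⁻¹ᵁ V) x hxV = X.presheaf.map (homOfLE hUV).op ≫ X.presheaf.germ U x hxU :=
    (X.presheaf.germ_res (homOfLE hUV) x hxU).symm
  rw [h2, ← Category.assoc] at h
  exact congr(($h).hom)

open AlgebraicGeometry CategoryTheory Limits in
/-- (1) ⇔ (3): for a pseudo-coherent f : X → S, f is perfect exactly when, at every point x of X, the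
stalk O_{X,x}, viewed as a module over O_{S,f(x)} through the stalk map, is of finite tor dimension.
(The intermediate condition on the structure sheaf as a sheaf of f⁻¹O_S-modules is not restated.) -/
theorem result {X S : Scheme.{u}} (f : X ⟶ S) (hf : MoreMor.IsPseudoCoherentMor f) :
    MoreMor.IsPerfectMor f ↔ ∀ x : X,
      (letI := (f.stalkMap x).hom.toAlgebra
       DRing.HasFiniteTorDim ↑(S.presheaf.stalk (f x)) ↑(X.presheaf.stalk x)) := by
  constructor
  · intro h x
    obtain ⟨V, hV, hxV, -⟩ := exists_isAffineOpen_mem_and_subset (X := S) (x := f x) (U := ⊤) trivial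
    obtain ⟨U, hU, hxU, hUV⟩ := exists_isAffineOpen_mem_and_subset (X := X) (x := x) (U := f ⁻¹ᵁ V) hxV
    obtain ⟨-, n, hn⟩ := h U V hU hV hUV
    refine ⟨n, ?_⟩
    let _ := (f.appLE V U hUV).hom.toAlgebra
    let _ := (f.stalkMap x).hom.toAlgebra
    let _ := X.presheaf.algebra_section_stalk ⟨x, hxU⟩
    let _ := S.presheaf.algebra_section_stalk ⟨f x, hxV⟩
    let _ : Algebra Γ(S, V) (X.presheaf.stalk x) :=
      ((f.stalkMap x).hom.comp (algebraMap Γ(S, V) (S.presheaf.stalk (f x)))).toAlgebra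
    have : IsScalarTower Γ(S, V) (S.presheaf.stalk (f x)) (X.presheaf.stalk x) :=
      IsScalarTower.of_algebraMap_eq' rfl
    have : IsScalarTower Γ(S, V) Γ(X, U) (X.presheaf.stalk x) := tower f x U V hUV hxU hxV
    have := hV.isLocalization_stalk ⟨f x, hxV⟩
    have := hU.isLocalization_stalk ⟨x, hxU⟩
    exact K250.TorOpen.hasTorDimLE_stalk (A := Γ(S, V)) (B := Γ(X, U)) (O := S.presheaf.stalk (f x))
      (O' := X.presheaf.stalk x) (hV.primeIdealOf ⟨f x, hxV⟩).asIdeal.primeCompl
      (hU.primeIdealOf ⟨x, hxU⟩).asIdeal hn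
  · intro h
    rw [Groth.Agent.S7171.result]
    intro x
    obtain ⟨V, hV, hxV, -⟩ := exists_isAffineOpen_mem_and_subset (X := S) (x := f x) (U := ⊤) trivial
    obtain ⟨U, hU, hxU, hUV⟩ := exists_isAffineOpen_mem_and_subset (X := X) (x := x) (U := f ⁻¹ᵁ V) hxV
    obtain ⟨n, hn⟩ := h x
    let _ := (f.appLE V U hUV).hom.toAlgebra
    let _ := (f.stalkMap x).hom.toAlgebra
    let _ := X.presheaf.algebra_section_stalk ⟨x, hxU⟩
    let _ := S.presheaf.algebra_section_stalk ⟨f x, hxV⟩
    let _ : Algebra Γ(S, V) (X.presheaf.stalk x) :=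
      ((f.stalkMap x).hom.comp (algebraMap Γ(S, V) (S.presheaf.stalk (f x)))).toAlgebra
    have : IsScalarTower Γ(S, V) (S.presheaf.stalk (f x)) (X.presheaf.stalk x) :=
      IsScalarTower.of_algebraMap_eq' rfl
    have : IsScalarTower Γ(S, V) Γ(X, U) (X.presheaf.stalk x) := tower f x U V hUV hxU hxV
    have := hV.isLocalization_stalk ⟨f x, hxV⟩
    have := hU.isLocalization_stalk ⟨x, hxU⟩
    obtain ⟨b, hb, h1⟩ := K250.TorOpen.exists_away_of_stalk (A := Γ(S, V)) (B := Γ(X, U))
      (O := S.presheaf.stalk (f x)) (O' := X.presheaf.stalk x)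
      (hV.primeIdealOf ⟨f x, hxV⟩).asIdeal.primeCompl
      (Groth.Agent.Flat2H.isPseudoCoherentHom_iff.1 (hf U V hU hV hUV))
      (hU.primeIdealOf ⟨x, hxU⟩).asIdeal hn
    have hbU : X.basicOpen b ≤ U := X.basicOpen_le b
    refine ⟨X.basicOpen b, V, hbU.trans hUV, hU.basicOpen b, hV, ?_, hf _ V (hU.basicOpen b) hV _, n, ?_⟩
    · rw [Scheme.mem_basicOpen X b x hxU]
      exact (IsLocalization.AtPrime.isUnit_to_map_iff (X.presheaf.stalk x)
        (hU.primeIdealOf ⟨x, hxU⟩).asIdeal b).2 hb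
    · have := hU.isLocalization_basicOpen b
      let _ := (f.appLE V (X.basicOpen b) (hbU.trans hUV)).hom.toAlgebra
      have : IsScalarTower Γ(S, V) Γ(X, U) Γ(X, X.basicOpen b) := IsScalarTower.of_algebraMap_eq' (by
        have h3 := Scheme.Hom.appLE_map f hUV (homOfLE hbU).op
        exact congr(($h3).hom).symm)
      exact Groth.Agent.Flat2H.TorDim.HasTorDimLE.of_linearEquiv
        ((IsLocalization.algEquiv (Submonoid.powers b) (Localization.Away b)
          Γ(X, X.basicOpen b)).toLinearEquiv.restrictScalars Γ(S, V)) h1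

end Groth.Agent.S7174
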