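import Groth.Statements.S7175
import Groth.Agent.Krr.H447.ClosedPerf
import Groth.Agent.PerfB.StructFlat

set_option autoImplicit false
universe u
attribute [local instance] HasDerivedCategory.standard
open FlatMor

namespace Groth.Agent.S7175

open AlgebraicGeometry CategoryTheory Limits in
/-- For a perfect closed immersion i : Z → X, the O_X-module i_* O_Z is a perfect object of D(O_X). -/
theorem result {Z X : Scheme.{u}} (i : Z ⟶ X) [IsClosedImmersion i]
    (hi : MoreMor.IsPerfectMor i) :
    DCoh.IsPerfect (DCoh.inD X ((Coh.push i).obj (Coh.structureModule Z))) := by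
  have hR : DCoh.HasRpush i := Groth.Agent.Dcoh.DerSch.hasRpush i
  have hO : DCoh.IsPerfect (DCoh.inD Z (Coh.structureModule Z)) :=
    Groth.Agent.PerfB.StructFlat.isPerfect_inD_structure
  exact Groth.Agent.PerfC.PerfLocal.perf_of_iso (Groth.Agent.Cohder.RelPCGraph.rpushInD i _)
    (Groth.Agent.Krr.H447.ClosedPerf.isPerfect_rpush i hi _ hO)

end Groth.Agent.S7175
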