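import Groth.Statements.S7176
import Groth.Agent.FlatMor.K250.FactorLocal
import Groth.Agent.S7174

set_option autoImplicit false
universe u
attribute [local instance] HasDerivedCategory.standard
open FlatMor

namespace Groth.Agent.S7176

open AlgebraicGeometry CategoryTheory Limits in
/-- Let i : Z → Y and j : Y → X be immersions with X locally Noetherian, j ∘ i a regular immersion and i
perfect. Then i is a regular immersion and j is a regular immersion at every point i(z), z in Z.
(The published statement concludes that j is a regular immersion outright; its proof works in the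
local rings of X at points of Z, and for Z empty the hypotheses hold for every immersion j, so the
conclusion on j is stated at the points of i(Z) only.) Over a locally Noetherian scheme the four
kinds of regular immersion agree; the kind is a parameter here. -/
theorem result {Z Y X : Scheme.{u}} (i : Z ⟶ Y) (j : Y ⟶ X) [IsImmersion i] [IsImmersion j]
    [IsLocallyNoetherian X] (k : RegImm.Kind) (h : RegImm.IsRegularImmersion k (i ≫ j)) (hi : MoreMor.IsPerfectMor i) :
    RegImm.IsRegularImmersion k i ∧ ∀ z : Z, RegImm.IsRegularImmersionAt k j (i z) := by
  have hY : IsLocallyNoetherian Y := LocallyOfFiniteType.isLocallyNoetherian j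
  have key : ∀ z : Z, K250.RegStalk.RegKer (j.stalkMap (i z)).hom ∧ K250.RegStalk.RegKer (i.stalkMap z).hom := by
    intro z
    have h1 : K250.RegStalk.RegKer ((i ≫ j).stalkMap z).hom :=
      K250.RegStalk.regKer_of_isRegularImmersionAt (i ≫ j) z k (h.2 z)
    have h2 : (i ≫ j).stalkMap z = j.stalkMap (i z) ≫ i.stalkMap z := Scheme.Hom.stalkMap_comp i j z
    have h3 := (Groth.Agent.S7174.result i (fun U V hU hV hUV => (hi U V hU hV hUV).1)).1 hi z
    have hN : IsNoetherianRing (X.presheaf.stalk (j (i z))) := inferInstance
    refine K250.FactorLocal.regKer_of_comp (j.stalkMap (i z)).hom (i.stalkMap z).hom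
      (j.stalkMap_surjective (i z)) (i.stalkMap_surjective z) ?_ h3
    rw [h2] at h1
    exact h1
  exact ⟨⟨inferInstance, fun z => K250.RegStalk.isRegularImmersionAt_of_regKer i z (key z).2 k⟩,
    fun z => K250.RegStalk.isRegularImmersionAt_of_regKer j (i z) (key z).1 k⟩

end Groth.Agent.S7176
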