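import Groth.Statements.S7177
import Groth.Agent.FlatMor.K250.DiagFlat
import Groth.Agent.EtAlg.K361.FlatMul

set_option autoImplicit false
universe u
open FlatMor

namespace Groth.Agent.S7177

open AlgebraicGeometry CategoryTheory Limits in
/-- Let f : X → Y have flat diagonal and let F be an O_X-module flat over Y. Then F is flat as an
O_X-module. -/
theorem result {X Y : Scheme.{u}} (f : X ⟶ Y) [Flat (pullback.diagonal f)] (F : X.Modules)
    (hF : FlatMod.IsFlatOver f F) : FlatMod.IsFlat F := by
  intro x
  have h1 := K250.DiagFlat.flat_lmul'_stalk f inferInstance x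
  have h2 : FlatMod.IsFlatOverAt f F x := hF x
  let _ := (f.stalkMap x).hom.toAlgebra
  let _ : Module (Y.presheaf.stalk (f x)) (F.presheaf.stalk x) := FlatMod.moduleStalkOver f F x
  have : IsScalarTower (Y.presheaf.stalk (f x)) (X.presheaf.stalk x) (F.presheaf.stalk x) :=
    ⟨fun a b p => by
      change (a • b) • p = (f.stalkMap x).hom a • (b • p)
      rw [← mul_smul]
      rfl⟩
  have h3 : Module.Flat (Y.presheaf.stalk (f x)) (F.presheaf.stalk x) := h2
  exact K361.FlatMul.flat_of_flat (A := Y.presheaf.stalk (f x)) (B := X.presheaf.stalk x)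
    (N := F.presheaf.stalk x) h1

end Groth.Agent.S7177
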