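import Groth.Statements.S7179
import Groth.Agent.FlatMor.K250.WEAffine
import Groth.Agent.S7128

set_option autoImplicit false
universe u
open FlatMor

namespace Groth.Agent.S7179

open AlgebraicGeometry CategoryTheory Limits in
/-- The source of a weakly étale morphism with reduced target is reduced. -/
theorem result {X Y : Scheme.{u}} (f : X ⟶ Y) [WeaklyEtale f] [IsReduced Y] : IsReduced X := by
  have h (x : X) : _root_.IsReduced (X.presheaf.stalk x) := by
    have h1 := (Groth.Agent.Flat2F.WeaklyEtaleLocal.weaklyEtale_iff_stalkMap f).1 inferInstance x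
    rw [K250.WEAffine.we_iff] at h1
    let _ := (f.stalkMap x).hom.toAlgebra
    exact Groth.Agent.S7128.result (Y.presheaf.stalk (f x)) (X.presheaf.stalk x)
  exact isReduced_of_isReduced_stalk X

end Groth.Agent.S7179
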