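import Groth.Statements.S7180
import Groth.Agent.S1467
import Groth.Agent.S2748

set_option autoImplicit false
universe u
open FlatMor

namespace Groth.Agent.S7180

open AlgebraicGeometry CategoryTheory Limits in
/-- The source of a weakly étale morphism with normal target (all local rings integrally closed domains)
is normal. -/
theorem result {X Y : Scheme.{u}} (f : X ⟶ Y) [WeaklyEtale f] (hY : Pi1.IsNormalScheme Y) :
    Pi1.IsNormalScheme X := by
  intro x
  obtain ⟨R, _, _, _, _, hR, -⟩ := Groth.Agent.Hensel.Exist.exists_isStrictHenselization (X.presheaf.stalk x)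
  have h1 := (Groth.Agent.S1467.result f).1 inferInstance x R
  let _ : Algebra (Y.presheaf.stalk (f x)) R :=
    ((algebraMap (X.presheaf.stalk x) R).comp (f.stalkMap x).hom).toAlgebra
  obtain ⟨_, h2⟩ := h1
  exact (Groth.Agent.S2748.result (X.presheaf.stalk x) R).1
    ((Groth.Agent.S2748.result (Y.presheaf.stalk (f x)) R).2 (hY (f x)))

end Groth.Agent.S7180
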