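import Groth.Statements.S7181
import Groth.Agent.FlatMor.K263.PushChar

set_option autoImplicit false
universe u
open FlatMor

namespace Groth.Agent.S7181


open AlgebraicGeometry CategoryTheory Limits in
/-- The map `X ×_S X ⟶ P ×_S P` induced by `a : X ⟶ P`. -/
noncomputable abbrev dmap {X P S : Scheme.{u}} (a : X ⟶ P) (r : P ⟶ S) :
    pullback (a ≫ r) (a ≫ r) ⟶ pullback r r :=
  pullback.map (a ≫ r) (a ≫ r) r r a a (𝟙 S) (by simp) (by simp)

open AlgebraicGeometry CategoryTheory Limits in
theorem diag_map {X P S : Scheme.{u}} (a : X ⟶ P) (r : P ⟶ S) :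
    pullback.diagonal (a ≫ r) ≫ dmap a r = a ≫ pullback.diagonal r := by
  apply pullback.hom_ext
  · rw [Category.assoc, Category.assoc, pullback.diagonal_fst, Category.comp_id, pullback.lift_fst,
      pullback.diagonal_fst_assoc]
  · rw [Category.assoc, Category.assoc, pullback.diagonal_snd, Category.comp_id, pullback.lift_snd,
      pullback.diagonal_snd_assoc]

open AlgebraicGeometry CategoryTheory Limits in
theorem main {X Y P S : Scheme.{u}} (a : X ⟶ P) (b : Y ⟶ P) [IsIntegralHom a] [IsIntegralHom b]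
    (hs : ∀ w : P, (∃ x, a x = w) ∨ ∃ y, b y = w) (r : P ⟶ S) :
    ((IsSeparated (a ≫ r) ∧ IsSeparated (b ≫ r)) → IsSeparated r) ∧
      ((QuasiSeparated (a ≫ r) ∧ QuasiSeparated (b ≫ r)) → QuasiSeparated r) := by
  have hma : IsIntegralHom (dmap a r) :=
    MorphismProperty.pullbackMap (P := @IsIntegralHom) ‹IsIntegralHom a› ‹IsIntegralHom a› rfl rfl
  have hmb : IsIntegralHom (dmap b r) :=
    MorphismProperty.pullbackMap (P := @IsIntegralHom) ‹IsIntegralHom b› ‹IsIntegralHom b› rfl rfl
  refine ⟨fun ⟨h1, h2⟩ => ⟨?_⟩, fun ⟨h1, h2⟩ => ⟨⟨?_⟩⟩⟩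
  · refine .of_isPreimmersion _ ?_
    have h3 : Set.range (pullback.diagonal r) =
        Set.range (pullback.diagonal (a ≫ r) ≫ dmap a r) ∪ Set.range (pullback.diagonal (b ≫ r) ≫ dmap b r) := by
      rw [diag_map, diag_map]
      ext w
      constructor
      · rintro ⟨v, rfl⟩
        rcases hs v with ⟨x, rfl⟩ | ⟨y, rfl⟩
        · exact Or.inl ⟨x, by rw [Scheme.Hom.comp_apply]⟩
        · exact Or.inr ⟨y, by rw [Scheme.Hom.comp_apply]⟩
      · rintro (⟨x, rfl⟩ | ⟨y, rfl⟩)
        · exact ⟨a x, by rw [Scheme.Hom.comp_apply]⟩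
        · exact ⟨b y, by rw [Scheme.Hom.comp_apply]⟩
    rw [h3]
    exact (pullback.diagonal (a ≫ r) ≫ dmap a r).isClosedMap.isClosed_range.union
      (pullback.diagonal (b ≫ r) ≫ dmap b r).isClosedMap.isClosed_range
  · intro U hU hUc
    have h3 : (pullback.diagonal r).base ⁻¹' U =
        a.base '' ((pullback.diagonal (a ≫ r) ≫ dmap a r).base ⁻¹' U) ∪
        b.base '' ((pullback.diagonal (b ≫ r) ≫ dmap b r).base ⁻¹' U) := by
      rw [diag_map, diag_map]
      ext w
      constructor
      · intro hw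
        rcases hs w with ⟨x, rfl⟩ | ⟨y, rfl⟩
        · refine Or.inl ⟨x, ?_, rfl⟩
          change (a ≫ pullback.diagonal r) x ∈ U
          rw [Scheme.Hom.comp_apply]
          exact hw
        · refine Or.inr ⟨y, ?_, rfl⟩
          change (b ≫ pullback.diagonal r) y ∈ U
          rw [Scheme.Hom.comp_apply]
          exact hw
      · rintro (⟨x, hx, rfl⟩ | ⟨y, hy, rfl⟩)
        · change (a ≫ pullback.diagonal r) x ∈ U at hx
          rw [Scheme.Hom.comp_apply] at hx
          exact hx
        · change (b ≫ pullback.diagonal r) y ∈ U at hy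
          rw [Scheme.Hom.comp_apply] at hy
          exact hy
    rw [h3]
    have h4 : QuasiCompact (pullback.diagonal (a ≫ r) ≫ dmap a r) := inferInstance
    have h5 : QuasiCompact (pullback.diagonal (b ≫ r) ≫ dmap b r) := inferInstance
    exact ((h4.isCompact_preimage U hU hUc).image a.continuous).union
      ((h5.isCompact_preimage U hU hUc).image b.continuous)

open AlgebraicGeometry CategoryTheory Limits in
/-- In the pushout P = Y ⨿_Z X of a closed immersion i : Z → X and an integral morphism j : Z → Y over a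
base S (each fibre of j contained in the preimage of an affine open of X), if X and Y are separated
(resp. quasi-separated) over S then so is P. -/
theorem result {X Y Z P S : Scheme.{u}} (i : Z ⟶ X) (j : Z ⟶ Y) [IsClosedImmersion i] [IsIntegralHom j]
    (haff : ∀ y : Y, ∃ U : X.Opens, IsAffineOpen U ∧ j ⁻¹' {y} ⊆ (i ⁻¹ᵁ U : Set ↑Z))
    (a : X ⟶ P) (b : Y ⟶ P) (hP : IsPushout i j a b) (p : X ⟶ S) (q : Y ⟶ S) (r : P ⟶ S)
    (hp : a ≫ r = p) (hq : b ≫ r = q) :
    ((IsSeparated p ∧ IsSeparated q) → IsSeparated r) ∧ ((QuasiSeparated p ∧ QuasiSeparated q) → QuasiSeparated r) := by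
  subst hp hq
  have hgl := K263.PushChar.isGlued_of_isPushout (Groth.Agent.S1442.result i j haff) hP
  have h1 := hgl.isIntegralHom_a ‹_›
  have h2 := hgl.isClosedImmersion_b
  exact main a b hgl.surj r

end Groth.Agent.S7181
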