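import Groth.Statements.S7182
import Groth.Agent.FlatMor.K263.PushChar

set_option autoImplicit false
universe u
open FlatMor

namespace Groth.Agent.S7182


/-- Artin-Tate for a ring `A` embedded in `B × C`, both integral over `A`, of finite type over `R`. -/
theorem ring_main {R A B C : Type u} [CommRing R] [CommRing A] [CommRing B] [CommRing C] [IsNoetherianRing R]
    (φ : R →+* A) (f : A →+* B) (g : A →+* C) (hf : f.IsIntegral) (hg : g.IsIntegral)
    (hfi : (f.comp φ).FiniteType) (hgi : (g.comp φ).FiniteType)
    (hinj : ∀ x y, f x = f y → g x = g y → x = y) : φ.FiniteType := by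
  algebraize [φ, f, g, f.comp φ, g.comp φ]
  have hB : Module.Finite A B := by
    have : Algebra.FiniteType A B := Algebra.FiniteType.of_restrictScalars_finiteType R A B
    have : Algebra.IsIntegral A B := ⟨hf⟩
    exact Algebra.finite_iff_isIntegral_and_finiteType.mpr ⟨inferInstance, inferInstance⟩
  have hC : Module.Finite A C := by
    have : Algebra.FiniteType A C := Algebra.FiniteType.of_restrictScalars_finiteType R A C
    have : Algebra.IsIntegral A C := ⟨hg⟩
    exact Algebra.finite_iff_isIntegral_and_finiteType.mpr ⟨inferInstance, inferInstance⟩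
  have h1 : Algebra.FiniteType R (B × C) := inferInstance
  have h2 : Module.Finite A (B × C) := inferInstance
  have h3 : IsScalarTower R A (B × C) := IsScalarTower.of_algebraMap_eq (fun x => rfl)
  exact ⟨fg_of_fg_of_fg R A (B × C) h1.out h2.fg_top
    (fun x y hxy => hinj x y (congrArg Prod.fst hxy) (congrArg Prod.snd hxy))⟩

open AlgebraicGeometry CategoryTheory Limits in
/-- In the pushout P = Y ⨿_Z X of a closed immersion i : Z → X and an integral morphism j : Z → Y over a
locally Noetherian base S (each fibre of j inside the preimage of an affine open of X), when X, Y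
and Z are each locally of finite type over S, the pushout P is locally of finite type over S as
well. -/
theorem result {X Y Z P S : Scheme.{u}} (i : Z ⟶ X) (j : Z ⟶ Y) [IsClosedImmersion i] [IsIntegralHom j]
    (haff : ∀ y : Y, ∃ U : X.Opens, IsAffineOpen U ∧ j ⁻¹' {y} ⊆ (i ⁻¹ᵁ U : Set ↑Z))
    (a : X ⟶ P) (b : Y ⟶ P) (hP : IsPushout i j a b) (p : X ⟶ S) (q : Y ⟶ S) (r : P ⟶ S)
    (hp : a ≫ r = p) (hq : b ≫ r = q) [IsLocallyNoetherian S]
    [LocallyOfFiniteType p] [LocallyOfFiniteType q] [LocallyOfFiniteType (j ≫ q)] : LocallyOfFiniteType r := by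
  subst hp hq
  have hgl := K263.PushChar.isGlued_of_isPushout (Groth.Agent.S1442.result i j haff) hP
  have ha := hgl.isIntegralHom_a ‹_›
  have hb := hgl.isClosedImmersion_b
  rw [HasRingHomProperty.iff_appLE (P := @LocallyOfFiniteType)]
  intro U V e
  have hN : IsNoetherianRing Γ(S, U) := IsLocallyNoetherian.component_noetherian U
  have hfa : (a.app V).hom.comp (r.appLE U V e).hom = ((a ≫ r).appLE U (a ⁻¹ᵁ V)
      ((TopologicalSpace.Opens.map a.base).monotone e)).hom := by
    rw [← CommRingCat.hom_comp, ← Scheme.Hom.appLE_eq_app, Scheme.Hom.appLE_comp_appLE]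
  have hfb : (b.app V).hom.comp (r.appLE U V e).hom = ((b ≫ r).appLE U (b ⁻¹ᵁ V)
      ((TopologicalSpace.Opens.map b.base).monotone e)).hom := by
    rw [← CommRingCat.hom_comp, ← Scheme.Hom.appLE_eq_app, Scheme.Hom.appLE_comp_appLE]
  refine ring_main (r.appLE U V e).hom (a.app V).hom (b.app V).hom (ha.isIntegral_app V V.2)
    ((inferInstance : IsIntegralHom b).isIntegral_app V V.2) ?_ ?_ (fun x y h1 h2 => (hgl.mil V).2 x y h1 h2)
  · rw [hfa]
    exact HasRingHomProperty.appLE (P := @LocallyOfFiniteType) (a ≫ r) inferInstance U ⟨_, V.2.preimage a⟩ _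
  · rw [hfb]
    exact HasRingHomProperty.appLE (P := @LocallyOfFiniteType) (b ≫ r) inferInstance U ⟨_, V.2.preimage b⟩ _

end Groth.Agent.S7182
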