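import Groth.Statements.S7185
import Groth.Agent.Flat2F.FibreIntegral

set_option autoImplicit false
universe u
open FlatMor

namespace Groth.Agent.S7185

open AlgebraicGeometry CategoryTheory Limits in
/-- The restriction of a weighting of a locally quasi-finite morphism f : X → Y (locally of finite type
with discrete fibres) to an open subscheme X' of X is a weighting of X' → Y. -/
theorem result {X Y : Scheme.{u}} (f : X ⟶ Y) [LocallyQuasiFinite f] [LocallyOfFiniteType f] (w : X → ℤ)
    (hw : MoreMor.IsWeighting f w) (X' : X.Opens) : MoreMor.IsWeighting (X'.ι ≫ f) (fun x => w (X'.ι x)) := by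
  intro V g _ U hU
  let m : pullback (X'.ι ≫ f) g ⟶ pullback f g :=
    pullback.lift (pullback.fst _ _ ≫ X'.ι) (pullback.snd _ _)
      (by rw [Category.assoc]; exact pullback.condition)
  have hm1 : m ≫ pullback.fst f g = pullback.fst _ _ ≫ X'.ι := pullback.lift_fst _ _ _
  have hm2 : m ≫ pullback.snd f g = pullback.snd (X'.ι ≫ f) g := pullback.lift_snd _ _ _
  have hsq : IsPullback (pullback.fst (X'.ι ≫ f) g) m X'.ι (pullback.fst f g) := by
    have h1 : IsPullback (pullback.fst f g) (pullback.snd f g) f g := IsPullback.of_hasPullback f g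
    have h2 : IsPullback (pullback.fst (X'.ι ≫ f) g) (pullback.snd (X'.ι ≫ f) g) (X'.ι ≫ f) g :=
      IsPullback.of_hasPullback _ _
    rw [← hm2] at h2
    exact IsPullback.of_bot h2 hm1.symm h1
  have hmo : IsOpenImmersion m := MorphismProperty.of_isPullback (P := @IsOpenImmersion) hsq inferInstance
  let U' : (pullback f g).Opens := m ''ᵁ U
  let e : (U : Scheme.{u}) ≅ (U' : Scheme.{u}) := m.isoImage U
  have he : e.hom ≫ U'.ι = U.ι ≫ m := m.isoImage_hom_ι U
  have h1 : e.hom ≫ (U'.ι ≫ pullback.snd f g) = U.ι ≫ pullback.snd (X'.ι ≫ f) g := by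
    rw [← Category.assoc, he, Category.assoc, hm2]
  have hfin : IsFinite (U'.ι ≫ pullback.snd f g) := by
    have h8 : U'.ι ≫ pullback.snd f g = e.inv ≫ U.ι ≫ pullback.snd (X'.ι ≫ f) g := by
      rw [← h1, e.inv_hom_id_assoc]
    rw [h8]
    infer_instance
  have h2 := hw V g U' hfin
  have hpb : IsPullback e.hom (U.ι ≫ pullback.snd (X'.ι ≫ f) g) (U'.ι ≫ pullback.snd f g) (𝟙 V) :=
    IsPullback.of_horiz_isIso ⟨by rw [h1, Category.comp_id]⟩
  have h3 : MoreMor.fibreIntegral (U.ι ≫ pullback.snd (X'.ι ≫ f) g)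
      (fun u => w (X'.ι (pullback.fst (X'.ι ≫ f) g (U.ι u)))) =
      MoreMor.fibreIntegral (U'.ι ≫ pullback.snd f g) (fun u => w (pullback.fst f g (U'.ι u))) := by
    funext v
    have h4 := Groth.Agent.Flat2F.FibreIntegral.fibreIntegral_baseChange (U'.ι ≫ pullback.snd f g)
      (U.ι ≫ pullback.snd (X'.ι ≫ f) g) e.hom (𝟙 V) hpb (fun u => w (pullback.fst f g (U'.ι u))) v
    have h5 : (fun u => w (X'.ι (pullback.fst (X'.ι ≫ f) g (U.ι u)))) =
        (fun u => w (pullback.fst f g (U'.ι u))) ∘ e.hom := by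
      funext u
      have h6 : U'.ι (e.hom u) = m (U.ι u) := by
        rw [← Scheme.Hom.comp_apply, he, Scheme.Hom.comp_apply]
      have h7 : pullback.fst f g (m (U.ι u)) = X'.ι (pullback.fst (X'.ι ≫ f) g (U.ι u)) := by
        rw [← Scheme.Hom.comp_apply, hm1, Scheme.Hom.comp_apply]
      change _ = w (pullback.fst f g (U'.ι (e.hom u)))
      rw [h6, h7]
    rw [h5]
    exact h4
  rw [h3]
  exact h2

end Groth.Agent.S7185
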