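import Groth.Statements.S7186
import Groth.Agent.S1431
import Groth.Agent.PicF.K248.Basic
import Groth.Agent.Dcoh.LocalFree

set_option autoImplicit false
universe u
open FlatMor

namespace Groth.Agent.S7186

open AlgebraicGeometry CategoryTheory Limits in
/-- Let f : X → S be flat, proper and of finite presentation such that O_T → (f_T)_* O_{X_T} is an
isomorphism for every base change T → S. Suppose E is an O_X-module that is finite locally free and
whose restriction to each fibre X_s is free, and let S be reduced. Then E is isomorphic to the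
pullback of a finite locally free O_S-module. -/
theorem result {X S : Scheme.{u}} (f : X ⟶ S) [Flat f] [IsProper f] [LocallyOfFinitePresentation f]
    (hO : ∀ (T : Scheme.{u}) (g : T ⟶ S) (U : T.Opens), IsIso ((pullback.snd f g).app U))
    (E : X.Modules) (hE : FlatMod.IsFinLocFree E)
    (hfib : ∀ s : S, ∃ r : ℕ, Nonempty ((Scheme.Modules.pullback (f.fiberι s)).obj E ≅ FlatMod.freeMod (f.fiber s) r))
    [IsReduced S] :
    ∃ N : S.Modules, FlatMod.IsFinLocFree N ∧ Nonempty ((Scheme.Modules.pullback f).obj N ≅ E) := by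
  obtain ⟨Z, j, hj1, hj2, hj⟩ := Groth.Agent.S1431.result f hO E hE
  have hsurj : Function.Surjective j := by
    intro s
    change s ∈ Set.range j
    rw [K248.Basic.mem_range_iff, hj]
    obtain ⟨r, ⟨e⟩⟩ := hfib s
    refine ⟨FlatMod.freeMod _ r, ?_, ⟨Groth.Agent.PerfB.FlatPull.pullbackFreeMod
      (pullback.snd f (S.fromSpecResidueField s)) r ≪≫ e.symm⟩⟩
    exact Groth.Agent.Dcoh.LocalFree.isFinLocFree_freeMod r
  have : IsClosedImmersion j := .of_isPreimmersion j (by
    rw [hsurj.range_eq]
    exact isClosed_univ)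
  have : Surjective j := ⟨hsurj⟩
  have : IsIso j := isIso_of_isClosedImmersion_of_surjective j
  obtain ⟨N, hN, ⟨e⟩⟩ := (hj S (𝟙 S)).mp ⟨inv j, IsIso.inv_hom_id j⟩
  let l : X ⟶ pullback f (𝟙 S) := pullback.lift (𝟙 X) f (by simp)
  have h1 : l ≫ pullback.fst f (𝟙 S) = 𝟙 X := pullback.lift_fst _ _ _
  have h2 : l ≫ pullback.snd f (𝟙 S) = f := pullback.lift_snd _ _ _
  refine ⟨N, hN, ⟨(Scheme.Modules.pullbackCongr h2.symm).app N ≪≫
    ((Scheme.Modules.pullbackComp l _).symm.app N) ≪≫ (Scheme.Modules.pullback l).mapIso e ≪≫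
    (Scheme.Modules.pullbackComp l _).app E ≪≫ (Scheme.Modules.pullbackCongr h1).app E ≪≫
    (Scheme.Modules.pullbackId X).app E⟩⟩

end Groth.Agent.S7186
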