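import Groth.Statements.S7188
import Groth.Agent.Grpsch.CubeClosed
import Groth.Agent.PicF.K248.Basic

set_option autoImplicit false
universe u
open FlatMor

namespace Groth.Agent.S7188

open AlgebraicGeometry CategoryTheory Limits Groth.Agent Groth.Agent.Grpsch Groth.Agent.Grpsch.CubeData in
/-- Let f : X → S be flat, proper and of finite presentation with O_T → (f_T)_* O_{X_T} an isomorphism
for every base change, let E be an invertible O_X-module, and let j : Z → S be the immersion of
finite presentation representing the locus of those T → S over which the pullback of E comes from a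
finite locally free O_T-module. If every geometric fibre of f is an integral scheme, j is a closed
immersion (the locus is a closed subscheme of S). -/
theorem result {X S Z : Scheme.{u}} (f : X ⟶ S) [Flat f] [IsProper f] [LocallyOfFinitePresentation f]
    (hO : ∀ (T : Scheme.{u}) (g : T ⟶ S) (U : T.Opens), IsIso ((pullback.snd f g).app U))
    (E : X.Modules) (hE : PicF.IsInvertible E)
    (j : Z ⟶ S) [IsImmersion j] [LocallyOfFinitePresentation j]
    (hZ : ∀ (T : Scheme.{u}) (g : T ⟶ S), (∃ g' : T ⟶ Z, g' ≫ j = g) ↔
        ∃ N : T.Modules, FlatMod.IsFinLocFree N ∧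
          Nonempty ((Scheme.Modules.pullback (pullback.snd f g)).obj N ≅ (Scheme.Modules.pullback (pullback.fst f g)).obj E))
    (hgeo : ∀ (K : Type u) [Field K] (x : Spec (CommRingCat.of K) ⟶ S), IsIntegral (pullback f x)) :
    IsClosedImmersion j := by
  have hGI : GeometricallyIntegral f := K248.Basic.geometricallyIntegral_of_forall f hgeo
  have key : ∀ (T : Scheme.{u}) (u : T ⟶ S), (∃ u' : T ⟶ Z, u' ≫ j = u) ↔
      ∃ M : T.Modules, FlatMod.IsFinLocFreeOfRank 1 M ∧
            Nonempty ((Scheme.Modules.pullback (pullback.fst f u)).obj E ≅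
              (Scheme.Modules.pullback (pullback.snd f u)).obj M) := by
    intro T u
    rw [hZ]
    constructor
    · rintro ⟨N, hN, ⟨e⟩⟩
      refine ⟨N, K248.Basic.rankOne_of_pullback (pullback.snd f u) hN ?_, ⟨e.symm⟩⟩
      rw [Ega2.QCohLocal.isFinLocFreeOfRank_one_iff]
      exact K248.Basic.isInvertible_of_iso e.symm (Fdesc.LocGen.isInvertible_pullback _ hE)
    · rintro ⟨M, hM, ⟨e⟩⟩
      exact ⟨M, Ega2.QCohLocal.isFinLocFree_of_rank hM, ⟨e.symm⟩⟩
  have hrange : Set.range j = {z : S | Nonempty
      ((Scheme.Modules.pullback (f.fiberι z)).obj E ≅ Coh.structureModule (f.fiber z))} := by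
    ext z
    rw [K248.Basic.mem_range_iff, key]
    constructor
    · rintro ⟨M, hM, ⟨e⟩⟩
      have := K248.Basic.triv_of_specField (S.residueField z)
        (pullback.snd f (S.fromSpecResidueField z))
        (Ega2.QCohLocal.isFinLocFreeOfRank_one_iff.1 hM)
      exact Triv.of_iso e this
    · rintro ⟨e⟩
      refine ⟨Coh.structureModule _,
        Ega2.QCohLocal.isFinLocFreeOfRank_one_iff.2 Fdesc.LocGen.isInvertible_structureModule, ?_⟩
      obtain ⟨i⟩ : Triv ((Scheme.Modules.pullback (pullback.snd f (S.fromSpecResidueField z))).obj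
          (Coh.structureModule _)) := Triv.pullback _ ⟨Iso.refl _⟩
      exact ⟨e ≪≫ i.symm⟩
  have hclosed : IsClosed (Set.range j) := by
    rw [hrange]
    exact CubeClosed.isClosed_trivialLocus f E hE
  exact IsClosedImmersion.of_isPreimmersion j hclosed

end Groth.Agent.S7188
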