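import Groth.Statements.S7189
import Groth.Agent.FlatMor.K251.CubeO

set_option autoImplicit false
universe u
open FlatMor

namespace Groth.Agent.S7189

open AlgebraicGeometry CategoryTheory Limits in
/-- Let f : X → S and g : Y → S be flat, proper, of finite presentation, each with O_T → (·_T)_* O an
isomorphism after every base change, with sections σ and τ; let s be a point of S and L an
invertible module on X ×_S Y. If L pulls back to a trivial module along X → X ×_S Y, x ↦ (x,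
τ(f(x))) and along Y → X ×_S Y, y ↦ (σ(g(y)), y), and L is trivial on the fibre of X ×_S Y over s,
then there is an open neighbourhood U of s over whose preimage L is trivial. -/
theorem result {X Y S : Scheme.{u}} (f : X ⟶ S) (g : Y ⟶ S)
    [Flat f] [IsProper f] [LocallyOfFinitePresentation f] [Flat g] [IsProper g] [LocallyOfFinitePresentation g]
    (hOf : ∀ (T : Scheme.{u}) (t : T ⟶ S) (U : T.Opens), IsIso ((pullback.snd f t).app U))
    (hOg : ∀ (T : Scheme.{u}) (t : T ⟶ S) (U : T.Opens), IsIso ((pullback.snd g t).app U))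
    (σ : S ⟶ X) (hσ : σ ≫ f = 𝟙 S) (τ : S ⟶ Y) (hτ : τ ≫ g = 𝟙 S) (s : S)
    (L : (pullback f g).Modules) (hL : PicF.IsInvertible L)
    (u : X ⟶ pullback f g) (hu1 : u ≫ pullback.fst f g = 𝟙 X) (hu2 : u ≫ pullback.snd f g = f ≫ τ)
    (v : Y ⟶ pullback f g) (hv1 : v ≫ pullback.fst f g = g ≫ σ) (hv2 : v ≫ pullback.snd f g = 𝟙 Y)
    (h1 : Nonempty ((Scheme.Modules.pullback u).obj L ≅ Coh.structureModule X))
    (h2 : Nonempty ((Scheme.Modules.pullback v).obj L ≅ Coh.structureModule Y))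
    (h3 : Nonempty ((Scheme.Modules.pullback ((pullback.fst f g ≫ f).fiberι s)).obj L ≅ Coh.structureModule ((pullback.fst f g ≫ f).fiber s))) :
    ∃ U : S.Opens, s ∈ U ∧ Nonempty (L.restrict ((pullback.fst f g ≫ f) ⁻¹ᵁ U).ι ≅ Coh.structureModule ((pullback.fst f g ≫ f) ⁻¹ᵁ U).toScheme) := by
  let D : Groth.Agent.Grpsch.CubeData.Data S :=
    { X := X, Y := Y, P := pullback f g, q₁ := pullback.fst f g, q₂ := pullback.snd f g
      pX := f, pY := g, H := .of_hasPullback f g, x := σ, y := τ, hx := hσ, hy := hτ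
      s := v, s' := u, hs₁ := hv1, hs₂ := hv2, hs'₁ := hu1, hs'₂ := hu2 }
  have hD : Groth.Agent.FlatMor.K251.CubeO.GoodO D :=
    ⟨‹_›, ‹_›, ‹_›, hOf, ‹_›, ‹_›, ‹_›, hOg⟩
  obtain ⟨U, hU, hT⟩ := hD.exists_open L hL h2 h1 s h3
  refine ⟨U, hU, ?_⟩
  have hT' := Groth.Agent.Grpsch.CubeData.Triv.pullback
    (pullbackRestrictIsoRestrict (pullback.fst f g ≫ f) U).inv hT
  rw [← Groth.Agent.Grpsch.CubeData.triv_comp] at hT'
  have hT'' := (Groth.Agent.Grpsch.CubeData.triv_congr
    (pullbackRestrictIsoRestrict_inv_fst (pullback.fst f g ≫ f) U) L).mp hT'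
  obtain ⟨e⟩ := hT''
  exact ⟨(Scheme.Modules.restrictFunctorIsoPullback _).app L ≪≫ e⟩

end Groth.Agent.S7189
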