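import Groth.Statements.S7191
import Groth.Agent.S1440
import Groth.Agent.S0591
import Groth.Agent.S2589
import Groth.Agent.S4787
import Groth.Agent.Smoothlim.LimBase
import Groth.Agent.EGA43.K891.FieldPoints
import Groth.Agent.RadPt.K284.Radicial
import Groth.Agent.Ega4fib.H121.ProConsBasic

set_option autoImplicit false
universe u
open CategoryTheory AlgebraicGeometry
open FlatMor

namespace Groth.Agent.S7191

open Limits Groth.Agent.Smoothlim.LimBase K891.FieldPoints

/-- The residue field point of `y` lifts to `X0`. -/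
def Lifts {X0 Y0 Y : Scheme.{u}} (f0 : X0 ⟶ Y0) (p : Y ⟶ Y0) (y : Y) : Prop :=
  ∃ r : Spec (Y.residueField y) ⟶ X0, r ≫ f0 = Y.fromSpecResidueField y ≫ p

theorem Lifts.comp {X0 Y0 Y Y' : Scheme.{u}} {f0 : X0 ⟶ Y0} {p : Y ⟶ Y0} {p' : Y' ⟶ Y0}
    (g : Y' ⟶ Y) (hg : g ≫ p = p') {y' : Y'} (h : Lifts f0 p (g y')) : Lifts f0 p' y' := by
  obtain ⟨r, hr⟩ := h
  refine ⟨Spec.map (g.residueFieldMap y') ≫ r, ?_⟩
  rw [Category.assoc, hr, Scheme.Hom.SpecMap_residueFieldMap_fromSpecResidueField_assoc, hg]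

/-- a point with trivial residue field extension gives a section over the residue field -/
theorem exists_section {X Y : Scheme.{u}} (f : X ⟶ Y) (x : X)
    (hb : Function.Bijective (f.residueFieldMap x).hom) :
    ∃ τ : Spec (Y.residueField (f x)) ⟶ X, τ ≫ f = Y.fromSpecResidueField (f x) := by
  have : IsIso (f.residueFieldMap x) := by
    rw [ConcreteCategory.isIso_iff_bijective]
    exact hb
  refine ⟨inv (Spec.map (f.residueFieldMap x)) ≫ X.fromSpecResidueField x, ?_⟩
  rw [Category.assoc, ← Scheme.Hom.SpecMap_residueFieldMap_fromSpecResidueField,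
    IsIso.inv_hom_id_assoc]

theorem lifts_iff {X0 Y0 X Y : Scheme.{u}} {f0 : X0 ⟶ Y0} {p : Y ⟶ Y0} {f : X ⟶ Y} {pX : X ⟶ X0}
    (hc : IsPullback pX f f0 p) (y : Y) :
    Lifts f0 p y ↔ ∃ x : X, f x = y ∧ Function.Bijective (f.residueFieldMap x) := by
  constructor
  · rintro ⟨r, hr⟩
    let ℓ : Spec (Y.residueField y) ⟶ X := hc.lift r (Y.fromSpecResidueField y) hr
    have hℓ : ℓ ≫ f = Y.fromSpecResidueField y := hc.lift_snd _ _ _
    let K : Type u := Y.residueField y
    have hx : f (ℓ (IsLocalRing.closedPoint K)) = y := by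
      rw [← Scheme.Hom.comp_apply, hℓ]
      exact Scheme.fromSpecResidueField_apply _ _
    refine ⟨ℓ (IsLocalRing.closedPoint K), hx, ?_⟩
    exact bijective_of_point (K' := K) f (ℓ (IsLocalRing.closedPoint K)) ℓ rfl
      (Y.residueFieldCongr hx).hom
      (ConcreteCategory.bijective_of_isIso (Y.residueFieldCongr hx).hom).2
      (by rw [hℓ, Scheme.residueFieldCongr_fromSpecResidueField])
  · rintro ⟨x, hx, hb⟩
    subst hx
    obtain ⟨σ, hσ⟩ := exists_section f x hb
    refine ⟨σ ≫ pX, ?_⟩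
    rw [Category.assoc, hc.w, ← Category.assoc, hσ]

/-- points in the image of an immersion which lifts. -/
theorem Lifts.of_immersion {X0 Y0 Y Z : Scheme.{u}} {f0 : X0 ⟶ Y0} {p : Y ⟶ Y0} (z : Z ⟶ Y)
    [IsImmersion z] (t : Z ⟶ X0) (ht : t ≫ f0 = z ≫ p) (w : Z) : Lifts f0 p (z w) := by
  have hb : Function.Bijective (z.residueFieldMap w).hom :=
    K284.Radicial.bijective_residueFieldMap z w
  obtain ⟨σ, hσ⟩ := exists_section z w hb
  refine ⟨σ ≫ t, ?_⟩
  rw [Category.assoc, ht, ← Category.assoc, hσ]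

/-- the set of points which lift is ind-constructible. -/
theorem isIndConstructible {X0 Y0 Y : Scheme.{u}} (f0 : X0 ⟶ Y0) [LocallyOfFinitePresentation f0]
    (p : Y ⟶ Y0) [QuasiSeparatedSpace Y] :
    ProCons.IsIndConstructible {y : Y | Lifts f0 p y} := by
  have : {y : Y | Lifts f0 p y} =
      ⋃₀ {C : Set Y | Topology.IsLocallyConstructible C ∧ C ⊆ {y : Y | Lifts f0 p y}} := by
    refine subset_antisymm ?_ (Set.sUnion_subset fun C hC => hC.2)
    intro y hy
    obtain ⟨Z, z, -, ⟨w, hw⟩, hz1, hz2, hz3, hz4, s, hs⟩ := Groth.Agent.S1440.local_step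
      (pullback.snd f0 p) y ((lifts_iff (IsPullback.of_hasPullback f0 p) y).1 hy)
    refine ⟨Set.range z, ⟨?_, ?_⟩, ⟨w, hw⟩⟩
    · rw [← Set.image_univ]
      exact z.isLocallyConstructible_image (Topology.IsLocallyConstructible.univ)
    · rintro _ ⟨w, rfl⟩
      refine Lifts.of_immersion z (s ≫ pullback.fst _ _ ≫ pullback.fst f0 p) ?_ w
      rw [Category.assoc, Category.assoc, pullback.condition, pullback.condition_assoc,
        reassoc_of% hs]
  rw [this]
  exact Ega4fib.H121.ProConsBasic.isIndConstructible_sUnion fun C hC => hC.1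

set_option backward.isDefEq.respectTransparency false in
theorem isAffineHom_pbDiag_map {I : Type u} [SmallCategory I] (D : I ⥤ Scheme.{u})
    [∀ (i j : I) (a : i ⟶ j), IsAffineHom (D.map a)] (i0 : I) {Y : Scheme.{u}} (g : Y ⟶ D.obj i0)
    (φ ψ : Over i0) (a : φ ⟶ ψ) : IsAffineHom ((pbDiag D i0 g).map a) := by
  have h1 : IsPullback (pullback.fst g (D.map ψ.hom)) (pullback.snd g (D.map ψ.hom)) g
      (D.map ψ.hom) := IsPullback.of_hasPullback _ _
  have h2 : IsPullback (pullback.fst g (D.map φ.hom)) (pullback.snd g (D.map φ.hom)) g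
      (D.map φ.hom) := IsPullback.of_hasPullback _ _
  have h3 : IsPullback ((pbDiag D i0 g).map a) (pullback.snd g (D.map φ.hom))
      (pullback.snd g (D.map ψ.hom)) (D.map a.left) := by
    refine IsPullback.of_right (h₁₂ := pullback.fst g (D.map ψ.hom)) (v₁₃ := g)
      (h₂₂ := D.map ψ.hom) ?_ ?_ h1
    · have e1 : D.map a.left ≫ D.map ψ.hom = D.map φ.hom := by rw [← D.map_comp, Over.w a]
      have e2 : (pbDiag D i0 g).map a ≫ pullback.fst g (D.map ψ.hom) =
          pullback.fst g (D.map φ.hom) := (pullback.lift_fst _ _ _).trans (Category.comp_id _)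
      rw [e1, e2]
      exact h2
    · exact pullback.lift_snd _ _ _
  exact MorphismProperty.of_isPullback h3.flip inferInstance

set_option backward.isDefEq.respectTransparency false in
theorem exists_stage_lift {J : Type u} [SmallCategory J] [IsCofiltered J] (D : J ⥤ Scheme.{u})
    (c : Cone D) (hc : IsLimit c) [∀ (i j : J) (f : i ⟶ j), IsAffineHom (D.map f)]
    [∀ i, CompactSpace (D.obj i)] [∀ i, QuasiSeparatedSpace (D.obj i)]
    {X0 Y0 : Scheme.{u}} (f0 : X0 ⟶ Y0) [LocallyOfFinitePresentation f0]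
    (t : D ⟶ (Functor.const J).obj Y0) (p : c.pt ⟶ Y0) (hp : ∀ j, c.π.app j ≫ t.app j = p)
    {Z : Scheme.{u}} (z : Z ⟶ c.pt) [IsImmersion z] [LocallyOfFinitePresentation z]
    [QuasiCompact z] [QuasiSeparated z] (r : Z ⟶ X0) (hr : r ≫ f0 = z ≫ p) (w : Z) :
    ∃ j, Lifts f0 (t.app j) (c.π.app j (z w)) := by
  obtain ⟨i, Xi, fi, g, h1, h2, h3, hpb⟩ := Groth.Agent.S0591.result D c hc Z z
  have : LocallyOfFinitePresentation (fi ≫ 𝟙 _) := by rw [Category.comp_id]; exact h1
  have : QuasiCompact (fi ≫ 𝟙 _) := by rw [Category.comp_id]; exact h2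
  have : QuasiSeparated (fi ≫ 𝟙 _) := by rw [Category.comp_id]; exact h3
  obtain ⟨k, φ, Zk, Yk, fk, gk, pY, pX, k1, k2, k3⟩ := Groth.Agent.S2589.result D c hc i fi
    (𝟙 (D.obj i)) z (𝟙 c.pt) (c.π.app i) g (IsPullback.of_vert_isIso ⟨by simp⟩) hpb
  have hgk : IsIso gk := k1.isIso_snd_of_isIso
  let zk : Zk ⟶ D.obj k := fk ≫ gk
  have k4 : IsPullback pX zk fi (D.map φ) := by
    have := k2.paste_vert k1
    simpa [zk] using this
  have hzk : IsImmersion zk := by dsimp only [zk]; infer_instance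
  have hzk1 : QuasiCompact zk := MorphismProperty.of_isPullback k4 h2
  have hzk2 : QuasiSeparated zk := MorphismProperty.of_isPullback k4 h3
  let q : Z ⟶ Zk := k4.lift g (z ≫ c.π.app k) (by rw [Category.assoc, c.w, hpb.w])
  have hq : IsPullback q z zk (c.π.app k) := by
    refine IsPullback.of_right (h₁₂ := pX) (v₁₃ := fi) (h₂₂ := D.map φ) ?_ ?_ k4
    · rw [c.w, k4.lift_fst]; exact hpb
    · exact k4.lift_snd _ _ _
  have hlim := isLimitPbCone k zk c hc q z hq
  have : ∀ i j (f : i ⟶ j), IsAffineHom ((pbDiag D k zk).map f) :=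
    fun i j f => isAffineHom_pbDiag_map D k zk i j f
  have : ∀ i, CompactSpace ((pbDiag D k zk).obj i) := fun i => by
    have : QuasiCompact (pullback.snd zk (D.map i.hom)) :=
      MorphismProperty.pullback_snd _ _ hzk1
    exact QuasiCompact.compactSpace_of_compactSpace (pullback.snd zk (D.map i.hom))
  have : ∀ i, QuasiSeparatedSpace ((pbDiag D k zk).obj i) := fun i => by
    have : QuasiSeparated (pullback.snd zk (D.map i.hom)) :=
      MorphismProperty.pullback_snd _ _ hzk2
    exact quasiSeparatedSpace_of_quasiSeparated (pullback.snd zk (D.map i.hom))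
  let t' : pbDiag D k zk ⟶ (Functor.const (Over k)).obj Y0 :=
    pbDiagSnd D k zk ≫ { app := fun ψ => t.app ψ.left
                         naturality := fun ψ ψ' a => t.naturality a.left }
  obtain ⟨ψ, g', hg1, hg2⟩ := Scheme.exists_π_app_comp_eq_of_locallyOfFinitePresentation
    (D := pbDiag D k zk) (t := t') (f := f0) (c := pbCone k zk c q z hq.toCommSq) hlim r (by
      ext ψ
      have e0 : c.π.app ψ.left ≫ t.app ψ.left = p := hp ψ.left
      have e1 : (pbCone k zk c q z hq.toCommSq).π.app ψ ≫ pullback.snd zk (D.map ψ.hom) =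
        z ≫ c.π.app ψ.left := pullback.lift_snd _ _ _
      have e2 : (pbCone k zk c q z hq.toCommSq).π.app ψ ≫
          pullback.snd zk (D.map ψ.hom) ≫ t.app ψ.left = r ≫ f0 := by
        rw [← Category.assoc, e1, Category.assoc, e0, hr]
      exact e2)
  refine ⟨ψ.left, ?_⟩
  let w' : ↥(pullback zk (D.map ψ.hom)) := (pbCone k zk c q z hq.toCommSq).π.app ψ w
  have hw' : pullback.snd zk (D.map ψ.hom) w' = c.π.app ψ.left (z w) := by
    have e1 : (pbCone k zk c q z hq.toCommSq).π.app ψ ≫ pullback.snd zk (D.map ψ.hom) =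
        z ≫ c.π.app ψ.left := pullback.lift_snd _ _ _
    have e2 := congrArg (fun m : Z ⟶ D.obj ψ.left => m w) e1
    exact e2
  rw [← hw']
  have himm : IsImmersion (pullback.snd zk (D.map ψ.hom)) :=
    MorphismProperty.pullback_snd _ _ hzk
  exact Lifts.of_immersion (pullback.snd zk (D.map ψ.hom)) g' hg2 w'

set_option backward.isDefEq.respectTransparency false in
/-- Let S = lim S_i be a cofiltered limit of schemes with affine transition morphisms, f₀ : X₀ → Y₀ a
morphism over some S_{i₀} with Y₀ quasi-compact and quasi-separated and f₀ locally of finite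
presentation, and f : X → Y its base change to S. If f is completely decomposed (every point of Y is
the image of a point of X with the same residue field), then some base change f_i : X_i → Y_i of f₀
to an S_i, i → i₀, is completely decomposed. -/
theorem result {I : Type u} [SmallCategory I] [IsCofiltered I]
    (D : I ⥤ Scheme.{u}) (c : Limits.Cone D) (hc : Limits.IsLimit c)
    [∀ (i j : I) (a : i ⟶ j), IsAffineHom (D.map a)]
    (i0 : I) {X0 Y0 X Y : Scheme.{u}} (f0 : X0 ⟶ Y0) (q0 : Y0 ⟶ D.obj i0) [CompactSpace ↥Y0] [QuasiSeparatedSpace ↥Y0]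
    [LocallyOfFinitePresentation f0]
    (f : X ⟶ Y) (q : Y ⟶ c.pt) (pY : Y ⟶ Y0) (pX : X ⟶ X0)
    (hY : IsPullback pY q q0 (c.π.app i0)) (hX : IsPullback pX f f0 pY)
    (hcd : ∀ y : Y, ∃ x : X, f x = y ∧ Function.Bijective (f.residueFieldMap x)) :
    ∃ (i : I) (a : i ⟶ i0) (Xi Yi : Scheme.{u}) (fi : Xi ⟶ Yi) (qi : Yi ⟶ D.obj i) (pYi : Yi ⟶ Y0) (pXi : Xi ⟶ X0),
      IsPullback pYi qi q0 (D.map a) ∧ IsPullback pXi fi f0 pYi ∧
      ∀ y : Yi, ∃ x : Xi, fi x = y ∧ Function.Bijective (fi.residueFieldMap x) := by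
  let D' := pbDiag D i0 q0
  let c' : Cone D' := pbCone i0 q0 c pY q hY.toCommSq
  have hc' : IsLimit c' := isLimitPbCone i0 q0 c hc pY q hY
  have h1 : ∀ i j (a : i ⟶ j), IsAffineHom (D'.map a) :=
    fun i j a => isAffineHom_pbDiag_map D i0 q0 i j a
  have h0 : ∀ i : Over i0, IsAffineHom (pullback.fst q0 (D.map i.hom)) := fun i =>
    MorphismProperty.pullback_fst _ _ (inferInstanceAs (IsAffineHom (D.map (show i.left ⟶ i0 from i.hom))))
  have h2 : ∀ i, CompactSpace (D'.obj i) := fun i =>
    have := h0 i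
    QuasiCompact.compactSpace_of_compactSpace (pullback.fst q0 (D.map i.hom))
  have h3 : ∀ i, QuasiSeparatedSpace (D'.obj i) := fun i =>
    have := h0 i
    quasiSeparatedSpace_of_quasiSeparated (pullback.fst q0 (D.map i.hom))
  let t : D' ⟶ (Functor.const (Over i0)).obj Y0 := pbDiagFst D i0 q0
  have ht : ∀ j, c'.π.app j ≫ t.app j = pY := fun j => pullback.lift_fst _ _ _
  let F : ∀ i : Over i0, Set (D'.obj i) := fun i => {y | Lifts f0 (t.app i) y}
  have hF : ∀ i, ProCons.IsIndConstructible (F i) := fun i => isIndConstructible f0 (t.app i)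
  have key := (Groth.Agent.S4787.result D' c' hc' (Over.mk (𝟙 i0)) (fun _ => Set.univ) F
    (fun i => Ega4fib.H121.ProConsBasic.isProConstructible_of_isLocallyConstructible
      Topology.IsLocallyConstructible.univ) hF
    (fun i j φ => by simp) (fun i j φ y hy => by
      refine Lifts.comp (p := t.app j) (D'.map φ) ?_ hy
      have := t.naturality φ
      exact this.trans (Category.comp_id _))).1 (by
    intro y _
    have hy : ∃ x : X, f x = y ∧ Function.Bijective (f.residueFieldMap x) := hcd y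
    have hpY : IsAffineHom pY := by
      have : ∀ i j (a : i ⟶ j), IsAffineHom (D.map a) := inferInstance
      have h5 : IsAffineHom (c.π.app i0) := isAffineHom_π_app D c hc i0
      exact MorphismProperty.of_isPullback hY.flip h5
    have hYqs : QuasiSeparatedSpace Y := quasiSeparatedSpace_of_quasiSeparated pY
    have hf : LocallyOfFinitePresentation f := MorphismProperty.of_isPullback hX inferInstance
    obtain ⟨Z, z, -, ⟨w, hw⟩, hz1, hz2, hz3, hz4, s, hs⟩ := Groth.Agent.S1440.local_step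
      f y hy
    obtain ⟨j, hj⟩ := exists_stage_lift D' c' hc' f0 t pY ht (z : Z ⟶ c'.pt)
      (s ≫ pullback.fst f z ≫ pX) (by
        rw [Category.assoc, Category.assoc, hX.w, pullback.condition_assoc, reassoc_of% hs]) w
    refine Set.mem_iUnion.2 ⟨j, ?_⟩
    have : c'.π.app j (z w) = c'.π.app j y := congrArg (c'.π.app j) hw
    have hj' : Lifts f0 (t.app j) (c'.π.app j y) := this ▸ hj
    exact hj')
  obtain ⟨i, -, hi⟩ := key
  have hi' : ∀ y : ↥(pullback q0 (D.map i.hom)), Lifts f0 (pullback.fst q0 (D.map i.hom)) y :=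
    fun y => hi i (𝟙 i) (Set.mem_univ y)
  refine ⟨i.left, i.hom, pullback f0 (pullback.fst q0 (D.map i.hom)), pullback q0 (D.map i.hom),
    pullback.snd _ _, pullback.snd _ _, pullback.fst _ _, pullback.fst _ _,
    IsPullback.of_hasPullback _ _, IsPullback.of_hasPullback _ _, fun y => ?_⟩
  exact (lifts_iff (IsPullback.of_hasPullback _ _) y).1 (hi' y)

end Groth.Agent.S7191
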