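import Groth.Statements.S7192
import Groth.Agent.FlatMor.K115.WeightStage

set_option autoImplicit false
universe u
open CategoryTheory AlgebraicGeometry
open FlatMor

namespace Groth.Agent.S7192

open Groth.Agent.CalgA.LimFP Limits Topology in

/-- Let Y = lim Y_i be a cofiltered limit of affine schemes and f₀ : X₀ → Y_{i₀} a quasi-finite morphism
of finite presentation between affine schemes, with base changes f : X → Y and f_i : X_i → Y_i. If w
is a weighting of f, then for some i → i₀ there is a weighting w_i of f_i which pulls back to w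
along X → X_i. -/
theorem result {I : Type u} [SmallCategory I] [IsCofiltered I]
    (D : I ⥤ Scheme.{u}) (c : Limits.Cone D) (hc : Limits.IsLimit c) [∀ i, IsAffine (D.obj i)]
    (i0 : I) {X0 X : Scheme.{u}} [IsAffine X0] (f0 : X0 ⟶ D.obj i0) [LocallyQuasiFinite f0] [LocallyOfFinitePresentation f0] [QuasiCompact f0]
    (f : X ⟶ c.pt) (pX : X ⟶ X0) (hX : IsPullback pX f f0 (c.π.app i0))
    (w : X → ℤ) (hw : MoreMor.IsWeighting f w) :
    ∃ (i : I) (a : i ⟶ i0) (Xi : Scheme.{u}) (fi : Xi ⟶ D.obj i) (pXi : Xi ⟶ X0) (g : X ⟶ Xi) (wi : Xi → ℤ),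
      IsPullback pXi fi f0 (D.map a) ∧ g ≫ fi = f ≫ c.π.app i ∧ g ≫ pXi = pX ∧
      MoreMor.IsWeighting fi wi ∧ ∀ x : X, wi (g x) = w x := by
  have ha : ∀ (i j : I) (φ : i ⟶ j), IsAffineHom (D.map φ) := fun i j φ => inferInstance
  have hpt : IsAffine c.pt := Scheme.isAffine_of_isLimit _ hc
  have hqs : QuasiSeparated f0 := inferInstance
  let M₀ : Mdl f i0 := ⟨X0, f0, pX, hX, inferInstance, inferInstance, inferInstance⟩
  have h1 : LocallyOfFinitePresentation f := MorphismProperty.of_isPullback hX inferInstance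
  have h2 : QuasiCompact f := MorphismProperty.of_isPullback hX inferInstance
  have h3 : QuasiSeparated f := MorphismProperty.of_isPullback hX inferInstance
  have h4 : LocallyQuasiFinite f := MorphismProperty.of_isPullback hX inferInstance
  have : CompactSpace X := QuasiCompact.compactSpace_of_compactSpace f
  have : QuasiSeparatedSpace X := quasiSeparatedSpace_of_quasiSeparated f
  have hcf : K115.FibreConstr.IsCF w := fun n =>
    (Groth.Agent.Old.H20.WeightLevel.isLocallyConstructible f w hw n).isConstructible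
  obtain ⟨k, a, w', hw', hww'⟩ := K115.WeightStage.exists_isCF hc M₀ w hcf
  have h5 : LocallyQuasiFinite (M₀.bc a).f := MorphismProperty.pullback_snd _ _ (inferInstanceAs (LocallyQuasiFinite f0))
  obtain ⟨j, b, hb⟩ := K115.WeightDesc.exists_weighting hc (M₀.bc a) w' hw' (by
    have : (fun x => w' ((M₀.bc a).p x)) = w := funext hww'
    rwa [this])
  refine ⟨j, b ≫ a, ((M₀.bc a).bc b).A, ((M₀.bc a).bc b).f,
    pullback.fst (M₀.bc a).f (D.map b) ≫ pullback.fst M₀.f (D.map a), ((M₀.bc a).bc b).p, _, ?_,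
    ((M₀.bc a).bc b).h.w, ?_, hb, ?_⟩
  · rw [D.map_comp]
    exact (IsPullback.of_hasPullback (M₀.bc a).f (D.map b)).paste_horiz (IsPullback.of_hasPullback M₀.f (D.map a))
  · exact (K115.WeightStage.bc_p_fst_assoc (M₀.bc a) b _).trans (K115.WeightStage.bc_p_fst M₀ a)
  · intro x
    have e : ((M₀.bc a).bc b).p ≫ pullback.fst (M₀.bc a).f (D.map b) = (M₀.bc a).p :=
      K115.WeightStage.bc_p_fst (M₀.bc a) b
    have e2 := congr($(e) x)
    rw [Scheme.Hom.comp_apply] at e2
    exact (congrArg w' e2).trans (hww' x)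

end Groth.Agent.S7192
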