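import Groth.Statements.S7194
import Groth.Agent.FlatMor.K251.MorSMain

set_option autoImplicit false
universe u
open CategoryTheory AlgebraicGeometry
open FlatMor

namespace Groth.Agent.S7194

/-- For a finite locally free morphism Z → S and an affine morphism X → S, the functor on S-schemes
sending T to the set of S-morphisms T ×_S Z → X is represented by an S-scheme W whose structure
morphism W → S is affine. -/
theorem result {Z X S : Scheme.{u}} (g : Z ⟶ S) (f : X ⟶ S) (hg : Mor2.IsFinLocFree g) [IsAffineHom f] :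
    ∃ W : Over S, IsAffineHom W.hom ∧ Nonempty ((Flatn.morS g f).RepresentableBy W) := by
  -- points of `T ×_S Z` above `V` are mapped above `V`
  have key : ∀ (V : S.Opens) (T : Over S) (x : (Flatn.morS g f).obj (Opposite.op T)) (t : T.left),
      T.hom t ∈ V → ∀ z, Limits.pullback.fst T.hom g z = t → K251.MorS.lf x z ∈ f ⁻¹ᵁ V := by
    intro V T x t ht z hz
    change f (K251.MorS.lf x z) ∈ V
    rw [← Scheme.Hom.comp_apply, K251.MorS.lf_w, ← Limits.pullback.condition,
      Scheme.Hom.comp_apply, hz]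
    exact ht
  obtain ⟨H, Z₀, P, j, huniv, hP, hj, hjr⟩ := K251.MorS.exists_rep (f := f) hg
    (fun V : {V : S.Opens // IsAffineOpen V} => V.1) (fun V => f ⁻¹ᵁ V.1) (fun V => V.2)
    (fun V => V.2.preimage f) (fun V => le_rfl) (fun T x t => by
      obtain ⟨V, hV, ht, -⟩ := exists_isAffineOpen_mem_and_subset (X := S) (x := T.hom t) (U := ⊤) trivial
      exact ⟨⟨V, hV⟩, ht, key V T x t ht⟩)
  refine ⟨H, ?_, K251.MorS.representableBy_of_universal huniv⟩
  apply isAffineHom_of_forall_exists_isAffineOpen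
  intro s
  obtain ⟨V, hV, hs, -⟩ := exists_isAffineOpen_mem_and_subset (X := S) (x := s) (U := ⊤) trivial
  refine ⟨V, hs, hV, ?_⟩
  have hj' := hj ⟨V, hV⟩
  have h1 : H.hom ⁻¹ᵁ V = (j ⟨V, hV⟩).left.opensRange := by
    ext h
    constructor
    · intro hh
      exact (hjr ⟨V, hV⟩ h).2 ⟨hh, key V H Z₀ h hh⟩
    · intro hh
      exact ((hjr ⟨V, hV⟩ h).1 hh).1
  rw [h1]
  have := hP ⟨V, hV⟩
  exact isAffineOpen_opensRange _

end Groth.Agent.S7194
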