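import Groth.Statements.S7195
import Groth.Agent.FlatMor.K251.MorSMain
import Groth.Agent.Grpsch.DimOneAff

set_option autoImplicit false
universe u
open CategoryTheory AlgebraicGeometry
open FlatMor

namespace Groth.Agent.S7195

/-- Let Z → S be finite locally free and X → S such that any finitely many points of X lying over a
common point of S are contained in some affine open of X. Then Mor_S(Z, X) is representable by a
scheme. -/
theorem result {Z X S : Scheme.{u}} (g : Z ⟶ S) (f : X ⟶ S) (hg : Mor2.IsFinLocFree g)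
    (hAF : ∀ (s : S) (d : ℕ) (x : Fin d → ↥X), (∀ k, f (x k) = s) → ∃ U : X.Opens, IsAffineOpen U ∧ ∀ k, x k ∈ U) :
    (Flatn.morS g f).IsRepresentable := by
  have hgfin := hg.1
  let ι := {p : S.Opens × X.Opens // IsAffineOpen p.1 ∧ IsAffineOpen p.2 ∧ p.2 ≤ f ⁻¹ᵁ p.1}
  obtain ⟨H, Z₀, P, j, huniv, -⟩ := K251.MorS.exists_rep (f := f) hg
    (fun p : ι => p.1.1) (fun p => p.1.2) (fun p => p.2.1)
    (fun p => p.2.2.1) (fun p => p.2.2.2) (fun T x t => by
      obtain ⟨V, hV, ht, -⟩ := exists_isAffineOpen_mem_and_subset (X := S) (x := T.hom t) (U := ⊤) trivial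
      -- the points of the fibre
      have hfin : (K251.MorS.lf x '' (Limits.pullback.fst T.hom g ⁻¹' {t})).Finite :=
        ((Limits.pullback.fst T.hom g).finite_preimage_singleton t).image _
      have hf : ∀ y ∈ K251.MorS.lf x '' (Limits.pullback.fst T.hom g ⁻¹' {t}), f y = T.hom t := by
        rintro _ ⟨z, hz, rfl⟩
        have hz' : Limits.pullback.fst T.hom g z = t := hz
        rw [← Scheme.Hom.comp_apply, K251.MorS.lf_w, ← Limits.pullback.condition,
          Scheme.Hom.comp_apply, hz']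
      obtain ⟨U₀, hU₀, hmem⟩ : ∃ U₀ : X.Opens, IsAffineOpen U₀ ∧
          K251.MorS.lf x '' (Limits.pullback.fst T.hom g ⁻¹' {t}) ⊆ U₀ := by
        have hfin' := hfin.to_subtype
        obtain ⟨d, ⟨e⟩⟩ := Finite.exists_equiv_fin
          (K251.MorS.lf x '' (Limits.pullback.fst T.hom g ⁻¹' {t}))
        obtain ⟨U₀, hU₀, h⟩ := hAF (T.hom t) d (fun k => (e.symm k).1) (fun k => hf _ (e.symm k).2)
        refine ⟨U₀, hU₀, fun y hy => ?_⟩
        have := h (e ⟨y, hy⟩)
        simpa using this
      obtain ⟨a, ha1, ha2⟩ := Groth.Agent.Grpsch.DimOneAff.exists_avoid hU₀ ((f ⁻¹ᵁ V : Set X)ᶜ)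
        ((f ⁻¹ᵁ V).isOpen.isClosed_compl) _ hfin hmem (fun y hy hy' => hy' (by
          change f y ∈ V
          rw [hf y hy]
          exact ht))
      refine ⟨⟨(V, X.basicOpen a), hV, hU₀.basicOpen a, fun y hy => ?_⟩, ht, fun z hz => ha1 ⟨z, hz, rfl⟩⟩
      have := ha2 y hy
      simpa using this)
  obtain ⟨e⟩ := K251.MorS.representableBy_of_universal huniv
  exact e.isRepresentable

end Groth.Agent.S7195
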