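import Groth.Statements.S7199
import Groth.Agent.FlatMor.K251.SpecInd

set_option autoImplicit false
universe u
open FlatMor

namespace Groth.Agent.S7199

/-- Take a field k, an integral domain A that is a finitely generated k-algebra, n ≥ 2 and g_1, …, g_n ∈
A, and suppose some irreducible component of the common zero locus of g_1 and g_2 in Spec A has
dimension dim A − 2. Then for suitable c_1, …, c_n ∈ k the n + 2 elements x_1, …, x_n, Σ g_i x_i, Σ
c_i g_i of the rational function field Frac(A)(x_1, …, x_n) form an algebraically independent family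
over k. -/
theorem result {k A : Type u} [Field k] [CommRing A] [IsDomain A] [Algebra k A]
    [Algebra.FiniteType k A] (m : ℕ) (g : Fin (m + 2) → A)
    (p : Ideal A) (hp : p ∈ (Ideal.span {g 0, g 1}).minimalPrimes) (hdim : ringKrullDim (A ⧸ p) + 2 = ringKrullDim A) :
    ∃ c : Fin (m + 2) → k,
      AlgebraicIndependent k
        (Sum.elim
          (fun i : Fin (m + 2) => algebraMap (MvPolynomial (Fin (m + 2)) (FractionRing A)) (FractionRing (MvPolynomial (Fin (m + 2)) (FractionRing A))) (MvPolynomial.X i))
          ![∑ i, algebraMap A (FractionRing (MvPolynomial (Fin (m + 2)) (FractionRing A))) (g i) *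
              algebraMap (MvPolynomial (Fin (m + 2)) (FractionRing A)) (FractionRing (MvPolynomial (Fin (m + 2)) (FractionRing A))) (MvPolynomial.X i),
            algebraMap A (FractionRing (MvPolynomial (Fin (m + 2)) (FractionRing A))) (∑ i, c i • g i)]) := by
  classical
  have h01 := Groth.Agent.FlatMor.K251.SpecInd.pair_of_minimalPrimes (k := k) (g 0) (g 1) p hp hdim
  let F := FractionRing A
  let R := MvPolynomial (Fin (m + 2)) F
  have hF : AlgebraicIndependent k ![algebraMap A F (g 0), algebraMap A F (g 1)] := by
    have := h01.map' (f := (IsScalarTower.toAlgHom k A F)) (IsFractionRing.injective A F)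
    convert this using 1
    ext i
    fin_cases i <;> rfl
  let ξ : R := ∑ i, MvPolynomial.C (algebraMap A F (g i)) * MvPolynomial.X i
  let η : R := MvPolynomial.C (algebraMap A F (g 1))
  have h2 := Groth.Agent.FlatMor.K251.SpecInd.sumElim_mvPolynomial (k := k) (B := F)
    (n := m + 2) ![ξ, η] (Pi.single 0 1) (by
      convert hF using 1
      ext i
      fin_cases i
      · simp [ξ, Pi.single_apply]
      · simp [η])
  refine ⟨Pi.single 1 1, ?_⟩
  have hA : ∀ a : A, algebraMap A (FractionRing R) a =
      algebraMap R (FractionRing R) (MvPolynomial.C (algebraMap A F a)) := fun a =>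
    (IsScalarTower.algebraMap_apply A R (FractionRing R) a).trans
      (congrArg _ (IsScalarTower.algebraMap_apply A F R a))
  have h3 := h2.map' (f := IsScalarTower.toAlgHom k R (FractionRing R))
    (IsFractionRing.injective R (FractionRing R))
  refine (algebraicIndependent_equiv' (Equiv.sumComm _ _) ?_).mp h3
  ext1 (i | i)
  · fin_cases i
    · simp only [ξ, Fin.zero_eta, Function.comp_apply, Equiv.sumComm_apply, Sum.swap_inl,
        Sum.elim_inr, Sum.elim_inl, Matrix.cons_val_zero, map_sum, map_mul]
      refine Finset.sum_congr rfl fun i _ => ?_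
      rw [hA]
      rfl
    · change algebraMap A (FractionRing R) (∑ i, (Pi.single 1 1 : Fin (m + 2) → k) i • g i) =
        algebraMap R (FractionRing R) (MvPolynomial.C (algebraMap A F (g 1)))
      have e : ∑ i, (Pi.single 1 1 : Fin (m + 2) → k) i • g i = g 1 := by
        simp [Pi.single_apply]
      rw [e, hA]
  · rfl

end Groth.Agent.S7199
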