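import Groth.Statements.S7200
import Groth.Agent.FlatMor.K251.SepCl2
import Groth.Agent.Fdesc.GeomConnPoint

set_option autoImplicit false
universe u
open FlatMor

namespace Groth.Agent.S7200


open AlgebraicGeometry CategoryTheory CategoryTheory.Limits TensorProduct in
/-- A geometrically irreducible field extension has no separable elements outside the base. -/
theorem sepClosed_of_geometricallyIrreducible (k F : Type u) [Field k] [Field F] [Algebra k F]
    (h : GeometricallyIrreducible (Spec.map (CommRingCat.ofHom (algebraMap k F)))) (a : F)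
    (ha : IsSeparable k a) : a ∈ (algebraMap k F).range := by
  let L := IntermediateField.adjoin k {a}
  have h1 : IrreducibleSpace ↥(pullback (Spec.map (CommRingCat.ofHom (algebraMap k F)))
      (Spec.map (CommRingCat.ofHom (algebraMap k L)))) :=
    h.geometrically_irreducibleSpace _ _ _ (IsPullback.of_hasPullback _ _)
  have h2 : IrreducibleSpace (PrimeSpectrum (F ⊗[k] L)) :=
    (pullbackSpecIso k F L).hom.homeomorph.irreducibleSpace_iff.1 h1
  exact Groth.Agent.VarietyA.GeomIrr.mem_range_of_isPrime_nilradical k _ a ha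
    (PrimeSpectrum.irreducibleSpace_iff_isPrime_nilradical.1 h2)

section Alg

variable {k K : Type u} [Field k] [Field K] [Algebra k K] (m : ℕ)

open MvPolynomial

/-- The rational function field. -/
abbrev Om (K : Type u) [Field K] (m : ℕ) : Type u := FractionRing (MvPolynomial (Fin (m + 1)) K)

/-- The variables. -/
noncomputable abbrev xv (K : Type u) [Field K] (m : ℕ) (i : Fin (m + 1)) : Om K m :=
  algebraMap (MvPolynomial (Fin (m + 1)) K) (Om K m) (MvPolynomial.X i)

theorem algInd_xv : AlgebraicIndependent K (xv K m) :=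
  (MvPolynomial.algebraicIndependent_X (Fin (m + 1)) K).map'
    (f := IsScalarTower.toAlgHom K (MvPolynomial (Fin (m + 1)) K) (Om K m))
    (IsFractionRing.injective _ _)

theorem aeval_xv (p : MvPolynomial (Fin (m + 1)) K) :
    aeval (xv K m) p = algebraMap (MvPolynomial (Fin (m + 1)) K) (Om K m) p := by
  have : aeval (xv K m) = IsScalarTower.toAlgHom K (MvPolynomial (Fin (m + 1)) K) (Om K m) := by
    ext i
    simp
  exact congr($this p)

theorem adjoin_xv : IntermediateField.adjoin K (Set.range (xv K m)) = ⊤ := by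
  rw [eq_top_iff]
  intro β _
  obtain ⟨r, s, -, rfl⟩ := IsFractionRing.div_surjective (A := MvPolynomial (Fin (m + 1)) K) β
  rw [IntermediateField.mem_adjoin_range_iff]
  exact ⟨r, s, by rw [aeval_xv, aeval_xv]⟩

end Alg

section Auto

variable {k K : Type u} [Field k] [Field K] [Algebra k K] (m : ℕ) (c : Fin (m + 1) → k)
  (i j : Fin (m + 1))

open MvPolynomial

/-- The linear form `c i x j - c j x i`. -/
noncomputable def lin : MvPolynomial (Fin (m + 1)) K :=
  C (algebraMap k K (c i)) * X j - C (algebraMap k K (c j)) * X i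

/-- The substitution `x ↦ x + e l ^ r c`. -/
noncomputable def sub (e : K) (r : ℕ) (t : Fin (m + 1)) : MvPolynomial (Fin (m + 1)) K :=
  X t + C e * lin m c i j ^ r * C (algebraMap k K (c t))

theorem aeval_sub_lin (e : K) (r : ℕ) :
    aeval (sub m c i j e r) (lin (K := K) m c i j) = lin (K := K) m c i j := by
  simp only [lin, sub, map_sub, map_mul, aeval_X, algHom_C, MvPolynomial.algebraMap_eq]
  ring

theorem aeval_sub_comp (e : K) (r : ℕ) (p : MvPolynomial (Fin (m + 1)) K) :
    aeval (sub m c i j (-e) r) (aeval (sub m c i j e r) p) = p := by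
  have : (aeval (sub m c i j (-e) r)).comp (aeval (sub m c i j e r)) =
      AlgHom.id K (MvPolynomial (Fin (m + 1)) K) := by
    ext1 t
    have h1 := aeval_sub_lin (K := K) m c i j (-e) r
    rw [AlgHom.comp_apply, aeval_X, sub, map_add, map_mul, map_mul, map_pow, h1]
    simp only [aeval_X, algHom_C, sub, AlgHom.id_apply, MvPolynomial.algebraMap_eq, map_neg]
    ring
  exact congr($this p)

theorem lin_ne_zero (hij : j ≠ i) (hc : c i ≠ 0) : lin (K := K) m c i j ≠ 0 := by
  intro h0
  have h1 : eval (Pi.single j (1 : K)) (lin (K := K) m c i j) = 0 := by rw [h0, map_zero]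
  simp [lin, hij.symm] at h1
  exact hc h1

theorem not_isUnit_lin : ¬ IsUnit (lin (K := K) m c i j) := by
  intro h0
  have h1 := h0.map (eval (0 : Fin (m + 1) → K))
  simp [lin] at h1

theorem sig_inj (r : ℕ) : Function.Injective ((IsScalarTower.toAlgHom K
    (MvPolynomial (Fin (m + 1)) K) (Om K m)).comp (aeval (sub m c i j (1 : K) r))) :=
  (IsFractionRing.injective (MvPolynomial (Fin (m + 1)) K) (Om K m)).comp
    (Function.LeftInverse.injective (g := aeval (sub m c i j (-1) r))
      (aeval_sub_comp m c i j 1 r))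

/-- The endomorphism of the rational function field. -/
noncomputable def sig (r : ℕ) : Om K m →ₐ[K] Om K m :=
  IsFractionRing.liftAlgHom (g := (IsScalarTower.toAlgHom K (MvPolynomial (Fin (m + 1)) K)
    (Om K m)).comp (aeval (sub m c i j 1 r))) (sig_inj m c i j r)

theorem sig_algebraMap (r : ℕ) (p : MvPolynomial (Fin (m + 1)) K) :
    sig m c i j r (algebraMap _ (Om K m) p) =
      algebraMap _ (Om K m) (aeval (sub m c i j (1 : K) r) p) :=
  IsFractionRing.lift_algebraMap (sig_inj m c i j r) p

end Auto

open AlgebraicGeometry in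
/-- Suppose K/k is a finitely generated field extension with K geometrically irreducible over k; let n ≥
1 and g_1, …, g_n ∈ K, and suppose some c ∈ kⁿ makes the n + 2 elements x_1, …, x_n, ξ = Σ g_i x_i,
Σ c_i g_i of Ω = K(x_1, …, x_n) algebraically independent over k. Then Ω remains geometrically
irreducible over its subfield generated over k by x_1, …, x_n and ξ. -/
theorem result {k K : Type u} [Field k] [Field K] [Algebra k K]
    (hfg : (⊤ : IntermediateField k K).FG)
    [GeometricallyIrreducible (Spec.map (CommRingCat.ofHom (algebraMap k K)))]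
    (m : ℕ) (g : Fin (m + 1) → K) (c : Fin (m + 1) → k)
    (hind : AlgebraicIndependent k
      (Sum.elim
        (fun i : Fin (m + 1) => algebraMap (MvPolynomial (Fin (m + 1)) K) (FractionRing (MvPolynomial (Fin (m + 1)) K)) (MvPolynomial.X i))
        ![∑ i, algebraMap K (FractionRing (MvPolynomial (Fin (m + 1)) K)) (g i) * algebraMap (MvPolynomial (Fin (m + 1)) K) (FractionRing (MvPolynomial (Fin (m + 1)) K)) (MvPolynomial.X i),
          algebraMap K (FractionRing (MvPolynomial (Fin (m + 1)) K)) (∑ i, c i • g i)])) :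
    GeometricallyIrreducible (Spec.map (CommRingCat.ofHom (algebraMap
      ↥(IntermediateField.adjoin k
        (Set.range (fun i : Fin (m + 1) => algebraMap (MvPolynomial (Fin (m + 1)) K) (FractionRing (MvPolynomial (Fin (m + 1)) K)) (MvPolynomial.X i)) ∪
          {∑ i, algebraMap K (FractionRing (MvPolynomial (Fin (m + 1)) K)) (g i) * algebraMap (MvPolynomial (Fin (m + 1)) K) (FractionRing (MvPolynomial (Fin (m + 1)) K)) (MvPolynomial.X i)}))
      (FractionRing (MvPolynomial (Fin (m + 1)) K))))) := by
  classical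
  let R := MvPolynomial (Fin (m + 1)) K
  let Ω := FractionRing R
  let x : Fin (m + 1) → Ω := xv K m
  let ξ : Ω := ∑ i, algebraMap K Ω (g i) * x i
  let δ : Ω := algebraMap K Ω (∑ i, c i • g i)
  let K₀ : IntermediateField k Ω := IntermediateField.adjoin k (Set.range x)
  have hkK := sepClosed_of_geometricallyIrreducible k K inferInstance
  -- `K₀` is separably closed in `Ω`
  have hK₀ : ∀ β : Ω, IsSeparable K₀ β → β ∈ (algebraMap K₀ Ω).range := by
    intro β hβ
    have h1 := Groth.Agent.FlatMor.K251.SepCl.mem_adjoin_of_isSeparable (F := k) (E := K) (Ω := Ω)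
      hkK x (algInd_xv m) β (by rw [adjoin_xv]; trivial) hβ
    exact ⟨⟨β, h1⟩, rfl⟩
  -- `ξ, δ` are algebraically independent over `K₀`
  have hind0 : AlgebraicIndependent k (Sum.elim ![ξ, δ] x) := by
    refine (algebraicIndependent_equiv' (Equiv.sumComm _ _) ?_).mp hind
    ext1 (i | i) <;> rfl
  have hind1 : AlgebraicIndependent K₀ ![ξ, δ] := by
    have h1 := (AlgebraicIndependent.sumElim_iff.mp hind0).2
    open scoped IntermediateField.algebraAdjoinAdjoin in
    exact (Algebra.IsAlgebraic.algebraicIndependent_iff (Algebra.adjoin k (Set.range x)) K₀).mp h1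
  -- finite generation
  have hKess : Algebra.EssFiniteType k K := IntermediateField.fg_top_iff.mp hfg
  have e1 : Algebra.EssFiniteType R Ω := .of_isLocalization _ (nonZeroDivisors R)
  have e2 : Algebra.EssFiniteType K Ω := .comp K R Ω
  have e3 : Algebra.EssFiniteType k Ω := .comp k K Ω
  have e4 : Algebra.EssFiniteType K₀ Ω := .of_comp k K₀ Ω
  -- two indices
  have hδ : δ ≠ 0 := hind0.ne_zero (Sum.inl 1)
  obtain ⟨i, hi⟩ : ∃ i, c i ≠ 0 := by
    by_contra! h
    apply hδ
    simp [δ, h]
  obtain ⟨j, hj⟩ : ∃ j, j ≠ i := by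
    by_contra! hall
    have h1 : ξ = algebraMap K Ω (g i) * x i :=
      Finset.sum_eq_single i (fun j _ hj => absurd (hall j) hj) (fun h => absurd (Finset.mem_univ _) h)
    have h2 : δ = algebraMap K Ω (c i • g i) := by
      simp only [δ]
      rw [Finset.sum_eq_single i (fun j _ hj => absurd (hall j) hj)
        (fun h => absurd (Finset.mem_univ _) h)]
    let P : MvPolynomial (Fin 2 ⊕ Fin (m + 1)) k :=
      MvPolynomial.X (Sum.inr i) * MvPolynomial.X (Sum.inl 1) -
        MvPolynomial.C (c i) * MvPolynomial.X (Sum.inl 0)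
    have h3 : MvPolynomial.aeval (Sum.elim ![ξ, δ] x) P = 0 := by
      simp only [P, map_sub, map_mul, MvPolynomial.aeval_X, MvPolynomial.algHom_C, Sum.elim_inr,
        Sum.elim_inl, Matrix.cons_val_zero, Matrix.cons_val_one]
      rw [h1, h2, Algebra.smul_def, map_mul, ← IsScalarTower.algebraMap_apply]
      ring
    have h4 := (algebraicIndependent_iff.mp hind0) P h3
    have h5 := congrArg (MvPolynomial.eval (Sum.elim ![1, 0] 0)) h4
    simp [P] at h5
    exact hi h5
  -- the pencil
  let l : R := lin m c i j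
  have hl : algebraMap R Ω l ∈ K₀ := by
    have h1 : algebraMap R Ω l = algebraMap k Ω (c i) * x j - algebraMap k Ω (c j) * x i := by
      simp only [l, lin, map_sub, map_mul]
      rfl
    rw [h1]
    exact sub_mem (mul_mem (K₀.algebraMap_mem _) (IntermediateField.subset_adjoin k _ ⟨j, rfl⟩))
      (mul_mem (K₀.algebraMap_mem _) (IntermediateField.subset_adjoin k _ ⟨i, rfl⟩))
  let a : ℕ → K₀ := fun r => ⟨algebraMap R Ω l, hl⟩ ^ r
  have ha : Function.Injective a := by
    intro r s hrs
    have h1 : (algebraMap R Ω l) ^ r = (algebraMap R Ω l) ^ s := congrArg Subtype.val hrs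
    rw [← map_pow, ← map_pow] at h1
    exact pow_injective_of_not_isUnit (not_isUnit_lin m c i j) (lin_ne_zero m c i j hj hi)
      (IsFractionRing.injective R Ω h1)
  obtain ⟨r, hr⟩ := Groth.Agent.FlatMor.K251.SepCl.exists_pencil hK₀ hind1 a ha
  let s : Ω := ξ + algebraMap K₀ Ω (a r) * δ
  have has : algebraMap K₀ Ω (a r) = algebraMap R Ω (l ^ r) := by
    rw [map_pow, map_pow]
    rfl
  let σ : Ω →ₐ[K] Ω := sig m c i j r
  have hσx : ∀ t, σ (x t) = x t + algebraMap R Ω (l ^ r) * algebraMap k Ω (c t) := by
    intro t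
    change sig m c i j r (algebraMap _ (Om K m) (MvPolynomial.X t)) = _
    rw [sig_algebraMap, MvPolynomial.aeval_X, sub, MvPolynomial.C_1, one_mul, map_add, map_mul]
    rfl
  have hσl : σ (algebraMap R Ω l) = algebraMap R Ω l := by
    change sig m c i j r (algebraMap _ (Om K m) (lin m c i j)) = _
    rw [sig_algebraMap, aeval_sub_lin]
  have hσξ : σ ξ = s := by
    simp only [ξ, s, δ, map_sum, map_mul, has, AlgHom.commutes, hσx, mul_add,
      Finset.sum_add_distrib, Finset.mul_sum]
    congr 1
    refine Finset.sum_congr rfl fun t _ => ?_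
    rw [Algebra.smul_def, map_mul, ← IsScalarTower.algebraMap_apply]
    ring
  let A : IntermediateField k Ω := IntermediateField.adjoin k (Set.range x ∪ {ξ})
  let A' : IntermediateField k Ω := IntermediateField.adjoin k (Set.range x ∪ {s})
  have hlA : ∀ B : IntermediateField k Ω, (∀ t, x t ∈ B) → algebraMap R Ω (l ^ r) ∈ B := by
    intro B hB
    have h1 : K₀ ≤ B := IntermediateField.adjoin_le_iff.mpr (by rintro _ ⟨t, rfl⟩; exact hB t)
    rw [map_pow]
    exact pow_mem (h1 hl) r
  have hmap : A.map (σ.restrictScalars k) = A' := by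
    rw [IntermediateField.adjoin_map]
    apply le_antisymm
    · rw [IntermediateField.adjoin_le_iff]
      have hx' : ∀ t, x t ∈ A' := fun t =>
        IntermediateField.subset_adjoin k _ (Or.inl ⟨t, rfl⟩)
      rintro _ ⟨y, ⟨t, rfl⟩ | rfl, rfl⟩
      · change σ (x t) ∈ A'
        rw [hσx]
        exact add_mem (hx' t) (mul_mem (hlA A' hx') (A'.algebraMap_mem _))
      · change σ ξ ∈ A'
        rw [hσξ]
        exact IntermediateField.subset_adjoin k _ (Or.inr rfl)
    · rw [IntermediateField.adjoin_le_iff]
      let B := IntermediateField.adjoin k (⇑(σ.restrictScalars k) '' (Set.range x ∪ {ξ}))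
      have h1 : ∀ t, σ (x t) ∈ B := fun t =>
        IntermediateField.subset_adjoin k _ ⟨x t, Or.inl ⟨t, rfl⟩, rfl⟩
      have h2 : algebraMap R Ω l ∈ B := by
        have h3 : algebraMap R Ω l = algebraMap k Ω (c i) * x j - algebraMap k Ω (c j) * x i := by
          simp only [l, lin, map_sub, map_mul]
          rfl
        have h4 : algebraMap R Ω l =
            algebraMap k Ω (c i) * σ (x j) - algebraMap k Ω (c j) * σ (x i) := by
          rw [hσx, hσx, h3]
          ring
        rw [h4]
        exact sub_mem (mul_mem (B.algebraMap_mem _) (h1 j)) (mul_mem (B.algebraMap_mem _) (h1 i))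
      have h3 : algebraMap R Ω (l ^ r) ∈ B := by
        rw [map_pow]
        exact pow_mem h2 r
      rintro _ (⟨t, rfl⟩ | rfl)
      · have h4 : x t = σ (x t) - algebraMap R Ω (l ^ r) * algebraMap k Ω (c t) := by
          rw [hσx]
          ring
        change x t ∈ B
        rw [h4]
        exact sub_mem (h1 t) (mul_mem h3 (B.algebraMap_mem _))
      · change s ∈ B
        rw [← hσξ]
        exact IntermediateField.subset_adjoin k _ ⟨ξ, Or.inr rfl, rfl⟩
  have himg : σ.toRingHom '' (A : Set Ω) = (IntermediateField.adjoin K₀ {s} : Set Ω) := by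
    have h1 : (IntermediateField.adjoin K₀ {s}).restrictScalars k = A' :=
      IntermediateField.adjoin_adjoin_left k (Set.range x) {s}
    have h2 : (IntermediateField.adjoin K₀ {s} : Set Ω) = (A' : Set Ω) := by
      rw [← h1]
      rfl
    rw [h2, ← hmap]
    rfl
  refine Groth.Agent.Fdesc.GeomConnPoint.geometricallyIrreducible_spec_of_sepClosed_in A Ω ?_
  intro β hβ
  have h1 : Groth.Agent.FlatMor.K251.SepCl.SepOver (A : Set Ω) β :=
    (Groth.Agent.FlatMor.K251.SepCl.sepOver_coe_iff A β).mp hβ
  have h2 := h1.image σ.toRingHom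
  rw [himg] at h2
  have h3 := hr (σ β) ((Groth.Agent.FlatMor.K251.SepCl.sepOver_coe_iff _ _).mpr h2)
  have h4 : σ β ∈ σ.toRingHom '' (A : Set Ω) := by rw [himg]; exact h3
  obtain ⟨α, hα, h5⟩ := h4
  exact ⟨⟨α, hα⟩, σ.toRingHom.injective h5⟩

end Groth.Agent.S7200
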