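import Groth.Statements.S7204

set_option autoImplicit false
universe w u
open FlatMor

namespace Groth.Agent.S7204


open AlgebraicGeometry CategoryTheory Limits Opposite in
/-- fpqc coverings satisfy descent for morphisms to a scheme. -/
theorem existsUnique_desc {W : Scheme.{u}} {I : Type w} {X : I → Scheme.{u}} (f : ∀ i, X i ⟶ W)
    (hF : Presieve.ofArrows X f ∈ Scheme.fpqcPrecoverage W) (Z : Scheme.{u}) (x : ∀ i, X i ⟶ Z)
    (hx : ∀ i j, pullback.fst (f i) (f j) ≫ x i = pullback.snd (f i) (f j) ≫ x j) :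
    ∃! t : W ⟶ Z, ∀ i, f i ≫ t = x i := by
  have hs : Presieve.IsSheafFor (yoneda.obj Z) (Presieve.ofArrows X f) := by
    rw [Presieve.isSheafFor_iff_generate]
    exact (GrothendieckTopology.Subcanonical.isSheaf_of_isRepresentable
      (J := Scheme.fpqcTopology) (yoneda.obj Z)) _ (Precoverage.generate_mem_toGrothendieck hF)
  rw [Presieve.isSheafFor_arrows_iff] at hs
  exact hs x (by
    intro i j V gi gj hg
    change gi ≫ x i = gj ≫ x j
    have h1 : gi = pullback.lift gi gj hg ≫ pullback.fst (f i) (f j) :=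
      (pullback.lift_fst gi gj hg).symm
    have h2 : gj = pullback.lift gi gj hg ≫ pullback.snd (f i) (f j) :=
      (pullback.lift_snd gi gj hg).symm
    calc gi ≫ x i = (pullback.lift gi gj hg ≫ pullback.fst (f i) (f j)) ≫ x i :=
          congrArg (· ≫ x i) h1
      _ = pullback.lift gi gj hg ≫ pullback.snd (f i) (f j) ≫ x j := by
          rw [Category.assoc, hx]
      _ = gj ≫ x j := by
          rw [← Category.assoc]; exact (congrArg (· ≫ x j) h2).symm)

open AlgebraicGeometry CategoryTheory Limits Opposite in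
theorem fpqc_hom_ext {W : Scheme.{u}} {I : Type w} {X : I → Scheme.{u}} (f : ∀ i, X i ⟶ W)
    (hF : Presieve.ofArrows X f ∈ Scheme.fpqcPrecoverage W) {Z : Scheme.{u}} {s t : W ⟶ Z}
    (h : ∀ i, f i ≫ s = f i ≫ t) : s = t := by
  obtain ⟨r, hr, hr'⟩ := existsUnique_desc f hF Z (fun i => f i ≫ s) (by
    intro i j
    rw [← Category.assoc, pullback.condition, Category.assoc])
  rw [hr' s (fun i => rfl), hr' t (fun i => (h i).symm)]

open AlgebraicGeometry CategoryTheory Limits in
/-- Let (X_i)_{i ∈ I} be a diagram of schemes and (W, X_i → W) a cocone under it. If there is an fpqc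
covering {W_a → W} such that each W_a is the colimit (in schemes) of the base-changed diagram (X_i
×_W W_a), and each W_a ×_W W_b is the colimit of (X_i ×_W W_a ×_W W_b), then W is the colimit of
(X_i) in the category of schemes. -/
theorem result {J : Type u} [SmallCategory J] (D : J ⥤ Scheme.{u}) (c : Cocone D)
    (F : PreZeroHypercover.{w} c.pt) (hF : F.presieve₀ ∈ Scheme.fpqcPrecoverage c.pt)
    (h1 : ∀ a : F.I₀, Nonempty (IsColimit ((Over.forgetCocone (F.X a)).whisker
      (D.toOver c.pt (fun j => c.ι.app j) (fun g => c.w g) ⋙ Over.pullback (F.f a)))))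
    (h2 : ∀ a b : F.I₀, Nonempty (IsColimit ((Over.forgetCocone (pullback (F.f a) (F.f b))).whisker
      (D.toOver c.pt (fun j => c.ι.app j) (fun g => c.w g) ⋙ Over.pullback (pullback.fst (F.f a) (F.f b) ≫ F.f a))))) :
    Nonempty (IsColimit c) := by
  have hF' : Presieve.ofArrows F.X F.f ∈ Scheme.fpqcPrecoverage c.pt := hF
  -- uniqueness over the pieces of the covering
  have key : ∀ (s : Cocone D) (a : F.I₀), ∃ u : F.X a ⟶ s.pt,
      ∀ j, pullback.snd (c.ι.app j) (F.f a) ≫ u = pullback.fst (c.ι.app j) (F.f a) ≫ s.ι.app j := by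
    intro s a
    obtain ⟨ha⟩ := h1 a
    let s' : Cocone ((D.toOver c.pt (fun j => c.ι.app j) (fun g => c.w g) ⋙ Over.pullback (F.f a)) ⋙
        Over.forget (F.X a)) :=
      { pt := s.pt
        ι := { app := fun j => pullback.fst (c.ι.app j) (F.f a) ≫ s.ι.app j
               naturality := by
                intro j j' g
                change pullback.lift (pullback.fst _ _ ≫ D.map g) (pullback.snd _ _) _ ≫
                  pullback.fst _ _ ≫ s.ι.app j' = (pullback.fst _ _ ≫ s.ι.app j) ≫ 𝟙 _
                refine (pullback.lift_fst_assoc _ _ _ _).trans ?_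
                refine (Category.assoc _ _ _).trans (Eq.trans ?_ (Category.comp_id _).symm)
                exact congrArg (pullback.fst (c.ι.app j) (F.f a) ≫ ·) (s.w g) } }
    exact ⟨ha.desc s', fun j => ha.fac s' j⟩
  have uniq : ∀ (Z : Scheme.{u}) (a : F.I₀) (u v : F.X a ⟶ Z),
      (∀ j, pullback.snd (c.ι.app j) (F.f a) ≫ u = pullback.snd (c.ι.app j) (F.f a) ≫ v) → u = v := by
    intro Z a u v h
    obtain ⟨ha⟩ := h1 a
    exact ha.hom_ext (fun j => h j)
  have uniq2 : ∀ (Z : Scheme.{u}) (a b : F.I₀) (u v : pullback (F.f a) (F.f b) ⟶ Z),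
      (∀ j, pullback.snd (c.ι.app j) (pullback.fst (F.f a) (F.f b) ≫ F.f a) ≫ u =
        pullback.snd (c.ι.app j) (pullback.fst (F.f a) (F.f b) ≫ F.f a) ≫ v) → u = v := by
    intro Z a b u v h
    obtain ⟨ha⟩ := h2 a b
    exact ha.hom_ext (fun j => h j)
  choose u hu using key
  have glue : ∀ s : Cocone D, ∃! t : c.pt ⟶ s.pt, ∀ a, F.f a ≫ t = u s a := by
    intro s
    apply existsUnique_desc F.f hF'
    intro a b
    apply uniq2
    intro j
    have e1 : pullback.snd (c.ι.app j) (pullback.fst (F.f a) (F.f b) ≫ F.f a) ≫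
        pullback.fst (F.f a) (F.f b) =
        pullback.lift (pullback.fst (c.ι.app j) (pullback.fst (F.f a) (F.f b) ≫ F.f a))
          (pullback.snd (c.ι.app j) (pullback.fst (F.f a) (F.f b) ≫ F.f a) ≫
            pullback.fst (F.f a) (F.f b)) (by rw [Category.assoc]; exact pullback.condition) ≫
          pullback.snd (c.ι.app j) (F.f a) := (pullback.lift_snd _ _ _).symm
    have e2 : pullback.snd (c.ι.app j) (pullback.fst (F.f a) (F.f b) ≫ F.f a) ≫
        pullback.snd (F.f a) (F.f b) =
        pullback.lift (pullback.fst (c.ι.app j) (pullback.fst (F.f a) (F.f b) ≫ F.f a))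
          (pullback.snd (c.ι.app j) (pullback.fst (F.f a) (F.f b) ≫ F.f a) ≫
            pullback.snd (F.f a) (F.f b)) (by
              rw [Category.assoc, ← pullback.condition]; exact pullback.condition) ≫
          pullback.snd (c.ι.app j) (F.f b) := (pullback.lift_snd _ _ _).symm
    rw [← Category.assoc, e1, Category.assoc, hu, pullback.lift_fst_assoc,
      ← Category.assoc, e2, Category.assoc, hu, pullback.lift_fst_assoc]
  choose t ht ht' using glue
  have fac : ∀ (s : Cocone D) j, c.ι.app j ≫ t s = s.ι.app j := by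
    intro s j
    have hcov : Presieve.ofArrows (fun a => pullback (c.ι.app j) (F.f a))
        (fun a => pullback.fst (c.ι.app j) (F.f a)) ∈ Scheme.fpqcPrecoverage (D.obj j) :=
      Precoverage.mem_coverings_of_isPullback F.f hF' (c.ι.app j) _
        (fun a => pullback.snd (c.ι.app j) (F.f a)) (fun a => IsPullback.of_hasPullback _ _)
    apply fpqc_hom_ext _ hcov
    intro a
    change pullback.fst (c.ι.app j) (F.f a) ≫ c.ι.app j ≫ t s = _
    rw [← Category.assoc, pullback.condition, Category.assoc, ht, hu]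
  refine ⟨{ desc := fun s => t s, fac := fac, uniq := ?_ }⟩
  intro s m hm
  apply ht' s m
  intro a
  apply uniq
  intro j
  rw [hu, ← Category.assoc, ← pullback.condition, Category.assoc, hm]

end Groth.Agent.S7204
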