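import Groth.Statements.S7205
import Groth.Agent.FlatMor.K835.Gen

set_option autoImplicit false
universe u
open FlatMor

namespace Groth.Agent.S7205

open AlgebraicGeometry CategoryTheory Limits in
/-- Let f : X → S be separated and of finite presentation, and η a generic point of an irreducible
component of S with dim X_η ≤ 1. Then there are an open neighbourhood U of η, a finite surjective
universally injective V → U, finitely many finite étale T_i → V, surjective smooth Y_i → T_i, open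
immersions Y_i → Ȳ_i into smooth proper Ȳ_i → T_i with geometrically connected fibres of dimension ≤
1, and a finite surjective ν : ∐ Y_i → X_V over V together with an open W ⊆ X_V dense in every fibre
of X_V → V, such that ν⁻¹(W) ∩ Y_i is dense in every fibre of Y_i → T_i and ν⁻¹(W) → W is a
thickening. -/
theorem result {X S : Scheme.{u}} (f : X ⟶ S) [IsSeparated f] [LocallyOfFinitePresentation f]
    [QuasiCompact f] (η : S) (hη : closure {η} ∈ irreducibleComponents ↥S) (hdim : topologicalKrullDim ↥(f.fiber η) ≤ 1) :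
    ∃ (U : S.Opens) (V : Scheme.{u}) (g : V ⟶ U.toScheme) (n : ℕ) (T Y Yb : Fin n → Scheme.{u})
      (t : ∀ i, T i ⟶ V) (y : ∀ i, Y i ⟶ T i) (yb : ∀ i, Yb i ⟶ T i) (j : ∀ i, Y i ⟶ Yb i)
      (ν : ∀ i, Y i ⟶ pullback (g ≫ U.ι) f) (W : (pullback (g ≫ U.ι) f).Opens),
      η ∈ U ∧ IsFinite g ∧ Surjective g ∧ UniversallyInjective g ∧
      (∀ i, IsFinite (t i) ∧ Etale (t i) ∧ Surjective (y i) ∧ Smooth (y i) ∧
        IsOpenImmersion (j i) ∧ j i ≫ yb i = y i ∧ Smooth (yb i) ∧ IsProper (yb i) ∧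
        (∀ s : T i, MoreMor.nGeomConnComp (yb i) s = 1 ∧ topologicalKrullDim ↥((yb i).fiber s) ≤ 1) ∧
        ν i ≫ pullback.fst (g ≫ U.ι) f = y i ≫ t i ∧
        (∀ s : T i, Dense (((y i).fiberι s) ⁻¹' ((ν i) ⁻¹ᵁ W : Set (Y i))))) ∧
      IsFinite (Sigma.desc ν) ∧ Surjective (Sigma.desc ν) ∧
      (∀ v : V, Dense (((pullback.fst (g ≫ U.ι) f).fiberι v) ⁻¹' (W : Set ↥(pullback (g ≫ U.ι) f)))) ∧
      MoreMor.IsThickening (Sigma.desc ν ∣_ W) := by
  obtain ⟨U, V, g, h1, h2, h3, h4, h5⟩ := K835.CurveModel.exists_goodBC f η hη hdim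
  have hpb := (IsPullback.of_hasPullback (g ≫ U.ι) f).flip
  obtain ⟨d, ⟨-, hW⟩, ⟨-, hT⟩, ht1, ht2, hb1, hb2, hj, hy, hn1, hn2, hn3⟩ :=
    (K835.CurveModel.goodBC_iff hpb).1 h5
  obtain ⟨e, he, hei⟩ : ∃ e : (∐ fun _ : Fin 1 => d.Y) ⟶ d.Y,
      Sigma.desc (fun _ : Fin 1 => d.ν) = e ≫ d.ν ∧ IsIso e := by
    refine ⟨Sigma.desc (fun _ => 𝟙 _), ?_, ⟨Sigma.ι (fun _ : Fin 1 => d.Y) 0, ?_, ?_⟩⟩
    · apply Sigma.hom_ext
      intro i
      simp
    · apply Sigma.hom_ext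
      intro i
      obtain rfl : i = 0 := Subsingleton.elim _ _
      simp
    · simp
  have hnil : MoreMor.IsThickening (Sigma.desc (fun _ : Fin 1 => d.ν) ∣_ d.W) := by
    rw [he, morphismRestrict_comp]
    have g1 : IsClosedImmersion (d.ν ∣_ d.W) := hn3.1
    have g2 : Surjective (d.ν ∣_ d.W) := hn3.2
    have g3 : IsIso (e ∣_ d.ν ⁻¹ᵁ d.W) := inferInstance
    have g4 : IsClosedImmersion (e ∣_ d.ν ⁻¹ᵁ d.W) := inferInstance
    have g5 : Surjective (e ∣_ d.ν ⁻¹ᵁ d.W) := inferInstance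
    exact ⟨MorphismProperty.comp_mem @IsClosedImmersion _ _ g4 g1,
      MorphismProperty.comp_mem @Surjective _ _ g5 g2⟩
  refine ⟨U, V, g, 1, fun _ => d.T, fun _ => d.Y, fun _ => d.B, fun _ => d.t, fun _ => d.j ≫ d.b,
    fun _ => d.b, fun _ => d.j, fun _ => d.ν, d.W, h1, h2, h3, h4, fun _ => ⟨ht1, ht2, hy,
    inferInstance, hj, rfl, hb1, hb2, fun s => ⟨(hT _ s rfl).1, (hT _ s rfl).2.1⟩,
    by rw [d.w, Category.assoc], fun s => (hT _ s rfl).2.2⟩, ?_, ?_, hW, hnil⟩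
  · rw [he]
    infer_instance
  · rw [he]
    infer_instance

end Groth.Agent.S7205
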