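import Groth.Statements.S7206
import Groth.Agent.FlatMor.K260.DerChow
-- import your own Groth.Agent.* helpers here

set_option autoImplicit false
universe u
attribute [local instance] HasDerivedCategory.standard
open FlatMor

namespace Groth.Agent.S7206

open AlgebraicGeometry CategoryTheory Limits in
/-- Let A be a ring, X separated and of finite presentation over Spec A, and x a point of X. Then there
are an open neighbourhood U of x, an n, an open V of P^n_A, a closed subscheme Z of X ×_A P^n_A of
finite presentation with a point z, and a pseudo-coherent object E of D(O_{X ×_A P^n_A}) supported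
on Z (zero on every open disjoint from Z), such that b : Z → X is an isomorphism over U with b(z) =
x, c : Z → P^n_A is a closed immersion over V, b⁻¹(U) = c⁻¹(V), and E restricted to X ×_A V is
isomorphic in the derived category to the restriction of (b, c)_* O_Z. -/
theorem result (A : Type u) [CommRing A] {X : Scheme.{u}} (g : X ⟶ Spec (CommRingCat.of A))
    [IsSeparated g] [LocallyOfFinitePresentation g] [QuasiCompact g] (x : X) :
    ∃ (U : X.Opens) (n : ℕ) (V : (CohB1.ProjSpace n A).Opens) (Z : Scheme.{u}) (i : Z ⟶ (pullback g (CohB1.ProjSpace.toSpec n A))) (z : Z)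
      (F : CochainComplex (pullback g (CohB1.ProjSpace.toSpec n A)).Modules ℤ),
      x ∈ U ∧ IsClosedImmersion i ∧ LocallyOfFinitePresentation i ∧
      (i ≫ pullback.fst g (CohB1.ProjSpace.toSpec n A)) z = x ∧
      IsIso ((i ≫ pullback.fst g (CohB1.ProjSpace.toSpec n A)) ∣_ U) ∧
      IsClosedImmersion ((i ≫ pullback.snd g (CohB1.ProjSpace.toSpec n A)) ∣_ V) ∧
      (i ≫ pullback.fst g (CohB1.ProjSpace.toSpec n A)) ⁻¹ᵁ U = (i ≫ pullback.snd g (CohB1.ProjSpace.toSpec n A)) ⁻¹ᵁ V ∧
      Nonempty (DerivedCategory.Q.obj ((DCoh.restrictCx ((pullback.snd g (CohB1.ProjSpace.toSpec n A)) ⁻¹ᵁ V)).obj F) ≅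
        DerivedCategory.Q.obj ((DCoh.restrictCx ((pullback.snd g (CohB1.ProjSpace.toSpec n A)) ⁻¹ᵁ V)).obj
          ((CochainComplex.singleFunctor (pullback g (CohB1.ProjSpace.toSpec n A)).Modules 0).obj ((Coh.push i).obj (Coh.structureModule Z))))) ∧
      (∀ m : ℤ, DCoh.IsPseudoCoherentD m (DCoh.toD (pullback g (CohB1.ProjSpace.toSpec n A)) F)) ∧
      (∀ W' : (pullback g (CohB1.ProjSpace.toSpec n A)).Opens, Disjoint (W' : Set ↥(pullback g (CohB1.ProjSpace.toSpec n A))) (Set.range i) →
        IsZero (DerivedCategory.Q.obj ((DCoh.restrictCx W').obj F))) := by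
  exact K260.DerChow.main A g x

end Groth.Agent.S7206
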