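import Groth.Statements.S7209
import Groth.Agent.FlatMor.K252.ThickPush

set_option autoImplicit false
universe u
open CategoryTheory CategoryTheory.Limits AlgebraicGeometry Opposite TopologicalSpace
attribute [local instance] HasDerivedCategory.standard
open FlatMor

namespace Groth.Agent.S7209

/-- Let p : X ⟶ S and q : Y ⟶ S be locally of finite type, and let i : X ⟶ Y be a morphism over S (i ≫ q
= p) which is a closed immersion up to nilpotents: there are a thickening t : Z ⟶ X (a surjective
closed immersion) and a closed immersion c : Z ⟶ Y with t ≫ i = c; equivalently, over every affine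
open of Y the ring of X is generated over the ring of Y by finitely many nilpotent elements, and in
particular i maps X homeomorphically onto a closed subset of Y. Fix an integer m and an object E of
D(O_X). Then, provided the derived direct image Ri_* exists, E is m-pseudo-coherent relative to p
exactly when the object Ri_* E is, relative to q, m-pseudo-coherent (relative pseudo-coherence in
chart form). (The published statement assumes only that i is a homeomorphism onto a closed subset of
Y, which is not sufficient: over a discrete valuation ring A take a finite étale A-algebra that is a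
domain with two maximal ideals and let B be its local ring at one of them; Spec B → Spec A is of
finite type and a homeomorphism, the structure sheaf of Spec B placed in degree 0 is pseudo-coherent
relative to Spec A, but its direct image is the A-module B, which is not finitely generated, hence
not 0-pseudo-coherent relative to Spec A. The published argument uses generators of the ring of X
that are nilpotent, which is the hypothesis taken here.) -/
theorem result {X Y S : Scheme.{u}} (p : X ⟶ S)
    (q : Y ⟶ S) [LocallyOfFiniteType p] [LocallyOfFiniteType q] (i : X ⟶ Y) (w : i ≫ q = p)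
    {Z : Scheme.{u}} (t : Z ⟶ X) (ht : MoreMor.IsThickening t) (c : Z ⟶ Y) [IsClosedImmersion c]
    (htc : t ≫ i = c) [DCoh.HasRpush i] (m : ℤ) (E : DCoh.D X) :
    DerSch.IsPseudoCoherentRel p m E ↔ DerSch.IsPseudoCoherentRel q m ((DCoh.Rpush i).obj E) := by
  have := ht.1
  have := ht.2
  subst htc
  have h1 : LocallyOfFiniteType (i ≫ q) := by rw [w]; infer_instance
  have h2 : LocallyOfFiniteType i := locallyOfFiniteType_of_comp i q
  have h3 : K252.TopPush.TopClosed i := K252.NilGeom.topClosed i t
  have h4 : IsFinite i := K252.NilGeom.isFinite i t
  refine (K252.ThickPush.isPseudoCoherentRel_pushE_iff p q i w (fun D hD => ?_) m E).trans ?_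
  · have h5 := IsPullback.of_hasPullback i D.j
    obtain ⟨Z', t', h6, h7, h8⟩ := K252.NilGeom.exists_baseChange i t h5
    have hW : IsAffine D.W := isAffine_of_isAffineHom D.i
    have hW' : IsAffine (pullback i D.j) := isAffine_of_isAffineHom (pullback.snd i D.j)
    obtain ⟨V, c, h, e1, e2, e3, e4, e5, -, e6⟩ :=
      K252.FinGeom.exists_factor (pullback.snd i D.j ≫ D.i)
    have h9 : K252.TopPush.TopClosed h := e6 (by
      intro x
      obtain ⟨y, hy⟩ := K252.NilGeom.nilSurj_appTop (pullback.snd i D.j) t' x
      obtain ⟨z, rfl⟩ := D.i.app_surjective ⊤ (isAffineOpen_top D.P) y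
      refine ⟨z, ?_⟩
      rw [Scheme.Hom.comp_appTop]
      exact hy)
    exact ⟨pullback i D.j, V, pullback.fst i D.j, inferInstance, pullback.snd i D.j, h5, c, e1, h,
      e3, e4, h9, K252.FinGeom.PO_of_finite_flat h, e5⟩
  · have e := (Groth.Agent.PerfC.LpullFlat.rpushIso i).app E
    exact ⟨K240.RelChart.isPseudoCoherentRel_of_iso e.symm,
      K240.RelChart.isPseudoCoherentRel_of_iso e⟩

end Groth.Agent.S7209
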