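import Groth.Statements.S7218
import Groth.Agent.FlatMor.K253.RelPCChart

set_option autoImplicit false
universe u
open CategoryTheory CategoryTheory.Limits AlgebraicGeometry Opposite TopologicalSpace
attribute [local instance] HasDerivedCategory.standard
open FlatMor

namespace Groth.Agent.S7218

/-- Let f : X ⟶ S be a morphism of schemes, V ⊆ S an affine open, r ∈ Γ(S, V) with basic open D(r) ⊆ V,
U ⊆ X an affine open with f(U) ⊆ D(r), g ∈ Γ(X, U) with basic open D(g) ⊆ U (a standard affine open
of U), E an object of D(O_X) and m an integer. Suppose there is a surjection from a polynomial ring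
Γ(S, D(r))[x_1, …, x_n] onto Γ(X, U), compatible with f, along whose closed immersion into affine
space over D(r) the direct image of E|_U is m-pseudo-coherent. Then there is a surjection from a
polynomial ring Γ(S, V)[x_1, …, x_k] onto Γ(X, D(g)), compatible with f, along whose closed
immersion into affine space over V the direct image of E|_{D(g)} is m-pseudo-coherent. (The
published statement allows any affine open of U in place of D(g); this row takes a standard open
D(g), the case its printed proof treats.) -/
theorem result {X S : Scheme.{u}} (f : X ⟶ S) (V : S.affineOpens)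
    (r : Γ(S, (V : S.Opens))) (U : X.affineOpens) (hU : (U : X.Opens) ≤ f ⁻¹ᵁ S.basicOpen r)
    (g : Γ(X, (U : X.Opens))) (h' : X.basicOpen g ≤ f ⁻¹ᵁ (V : S.Opens))
    (m : ℤ) (E : DCoh.D X)
    (hE : ∃ (n : ℕ) (φ : MvPolynomial (Fin n) Γ(S, S.basicOpen r) →+* Γ(X, (U : X.Opens))),
      DerSch.IsChart f (U : X.Opens) (S.basicOpen r) hU φ ∧ DerSch.ChartPC m E (U : X.Opens) (S.basicOpen r) φ) :
    ∃ (k : ℕ) (ψ : MvPolynomial (Fin k) Γ(S, (V : S.Opens)) →+* Γ(X, X.basicOpen g)),
      DerSch.IsChart f (X.basicOpen g) (V : S.Opens) h' ψ ∧ DerSch.ChartPC m E (X.basicOpen g) (V : S.Opens) ψ := by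
  obtain ⟨n, φ, hφ, hφ'⟩ := hE
  have hft : (f.appLE (V : S.Opens) (X.basicOpen g) h').hom.FiniteType := by
    have e : f.appLE (V : S.Opens) (X.basicOpen g) h' =
        S.presheaf.map (homOfLE (S.basicOpen_le r)).op ≫ f.appLE (S.basicOpen r) (U : X.Opens) hU ≫
          X.presheaf.map (homOfLE (X.basicOpen_le g)).op := by
      rw [Scheme.Hom.appLE_map, Scheme.Hom.map_appLE]
    rw [e, CommRingCat.hom_comp, CommRingCat.hom_comp]
    refine ((K253.RelPCChart.finiteType_res U.2 g).comp ?_).comp
      (K253.RelPCChart.finiteType_res V.2 r)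
    rw [← hφ.2]
    exact (RingHom.FiniteType.of_surjective φ hφ.1).comp
      (RingHom.FiniteType.of_finitePresentation (K240.ChartChange.finitePresentation_C n))
  refine K253.RelPCChart.exists_chartPC f (U.2.basicOpen g) V.2 h' hft fun x hx => ?_
  exact K253.RelPCChart.at_of_chartPC f U.2 (V.2.basicOpen r) hU hφ hφ' x (X.basicOpen_le _ hx)

end Groth.Agent.S7218
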