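import Groth.Statements.S7221
import Groth.Agent.FlatMor.K253.CotBC

set_option autoImplicit false
universe u
open CategoryTheory CategoryTheory.Limits TensorProduct
attribute [local instance] HasDerivedCategory.standard
open FlatMor

namespace Groth.Agent.S7221

open K253.CotBC

theorem aux1 {R S R' S' : Type u} [CommRing R] [CommRing S] [CommRing R']
    [CommRing S'] [Algebra R S] [Algebra R' S'] [Algebra R R'] [Algebra S S'] [Algebra R S']
    [IsScalarTower R R' S'] [IsScalarTower R S S'] [Algebra.IsPushout R R' S S']
    {ι : Type u} (G : Algebra.Generators R S ι) (G' : Algebra.Generators R' S' ι)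
    (h : ∀ i, G'.val i = algebraMap S S' (G.val i)) :
    Function.Surjective (NLCx.bcH1Map (NLCx.sameVarsHom G G' h).toExtensionHom) := by
  intro x
  obtain ⟨y, hy⟩ := cotangent_surjective (NLCx.sameVarsHom G G' h).toExtensionHom
    (ker_eq_map G G' h) x.1
  have hy0 : G.toExtension.cotangentComplex.baseChange S' y = 0 := by
    apply (cotangentSpace_bijective G G' h).1
    rw [map_zero]
    have key : G'.toExtension.cotangentComplex ∘ₗ LinearMap.liftBaseChange S'
        (Algebra.Extension.Cotangent.map (NLCx.sameVarsHom G G' h).toExtensionHom) =
        LinearMap.liftBaseChange S' (Algebra.Extension.CotangentSpace.map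
          (NLCx.sameVarsHom G G' h).toExtensionHom) ∘ₗ
            G.toExtension.cotangentComplex.baseChange S' := by
      ext y
      simpa using (Algebra.Extension.CotangentSpace.map_cotangentComplex
        (NLCx.sameVarsHom G G' h).toExtensionHom y).symm
    have h1 := LinearMap.congr_fun key y
    rw [LinearMap.comp_apply, LinearMap.comp_apply, hy] at h1
    rw [← h1]
    exact x.2
  exact ⟨⟨y, hy0⟩, Subtype.ext hy⟩

/-- Let R → S and R → R' be ring homomorphisms and let S' be an algebra over R' and over S making the
square cocartesian, S' = S ⊗_R R'. Let G be a presentation of S over R by a polynomial algebra and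
G' the presentation of S' over R' on the same set of variables, each variable mapping to the image
of the corresponding generator (the base change of G). Then the canonical map H^{-1}(NL(G) ⊗_S S') →
H^{-1}(NL(G')) is surjective. The same holds for the canonical map H^{-1}(NL_{S/R} ⊗_S S') →
H^{-1}(NL_{S'/R'}) between the complexes of the presentations on all elements. (In degree 0 the
corresponding map S' ⊗_S Ω_{S/R} → Ω_{S'/R'} is bijective; that part is not restated.) -/
theorem result (R S R' S' : Type u) [CommRing R] [CommRing S] [CommRing R']
    [CommRing S'] [Algebra R S] [Algebra R' S'] [Algebra R R'] [Algebra S S'] [Algebra R S']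
    [IsScalarTower R R' S'] [IsScalarTower R S S'] [Algebra.IsPushout R R' S S']
    {ι : Type u} (G : Algebra.Generators R S ι) (G' : Algebra.Generators R' S' ι)
    (h : ∀ i, G'.val i = algebraMap S S' (G.val i)) :
    Function.Surjective (NLCx.bcH1Map (NLCx.sameVarsHom G G' h).toExtensionHom) ∧
      Function.Surjective (NLCx.bcH1Map
        ((Algebra.Generators.self R S).defaultHom (Algebra.Generators.self R' S')).toExtensionHom) := by
  refine ⟨aux1 G G' h, ?_⟩
  obtain ⟨G'', h''⟩ := exists_baseChange (R' := R') (S' := S') (Algebra.Generators.self R S)
  have h1 := aux1 (Algebra.Generators.self R S) G'' h''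
  let g : G''.toExtension.Hom (Algebra.Generators.self R' S').toExtension :=
    (G''.defaultHom (Algebra.Generators.self R' S')).toExtensionHom
  let g' : (Algebra.Generators.self R' S').toExtension.Hom G''.toExtension :=
    ((Algebra.Generators.self R' S').defaultHom G'').toExtensionHom
  intro x
  obtain ⟨y, hy⟩ := h1 ((Algebra.Extension.H1Cotangent.equiv g g').symm x)
  refine ⟨y, ?_⟩
  rw [bcH1Map_eq _ (g.comp (NLCx.sameVarsHom _ G'' h'').toExtensionHom), bcH1Map_comp, hy]
  exact (Algebra.Extension.H1Cotangent.equiv g g').apply_symm_apply x

end Groth.Agent.S7221
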