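import Groth.Statements.S7222
import Groth.Agent.FlatMor.K253.NLDer

set_option autoImplicit false
universe u
open CategoryTheory CategoryTheory.Limits TensorProduct
attribute [local instance] HasDerivedCategory.standard
open FlatMor

namespace Groth.Agent.S7222

/-- Let A → B and A → A' be ring homomorphisms and B' an algebra over A' and over B making the square
cocartesian, B' = B ⊗_A A'. If B is flat over A, then the canonical chain map NL_{B/A} ⊗_B B' →
NL_{B'/A'} (for the presentations by the polynomial algebras on all elements) is a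
quasi-isomorphism. If moreover NL_{B/A} has tor-amplitude in [-1, 0], then, the derived base change
functor along B → B' being assumed to exist, NL_{B/A} ⊗^L_B B' is isomorphic to NL_{B'/A'} in D(B')
(existence of an isomorphism only: the derived comparison map is not named here). -/
theorem result (A B A' B' : Type u) [CommRing A] [CommRing B]
    [CommRing A'] [CommRing B'] [Algebra A B] [Algebra A' B'] [Algebra A A'] [Algebra B B'] [Algebra A B']
    [IsScalarTower A A' B'] [IsScalarTower A B B'] [Algebra.IsPushout A A' B B'] [Module.Flat A B] :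
    QuasiIso (NLCx.bcMapSelf A B A' B') ∧
      (DRing.HasTorAmplitudeIn B (-1) 0 (LCI.NL A B) → ∀ [DRing.HasLBaseChange (algebraMap B B')],
        Nonempty ((DRing.LBaseChange (algebraMap B B')).obj (LCI.NL A B) ≅ LCI.NL A' B')) := by
  obtain ⟨G', h'⟩ := K253.CotBC.exists_baseChange (R' := A') (S' := B')
    (Algebra.Generators.self A B)
  have hi : IsIso (NLCx.bcMap (S' := B')
      (NLCx.sameVarsHom (Algebra.Generators.self A B) G' h').toExtensionHom) :=
    K253.NLMaps.isIso_bcMap _ (K253.CotInj.cotangent_bijective_of_flat' _ G' h')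
      (K253.CotBC.cotangentSpace_bijective _ G' h')
  obtain ⟨e, he⟩ := K253.NLMaps.exists_homotopyEquiv_bcMapSelf A B A' B' G' h' hi
  have hq : QuasiIso (NLCx.bcMapSelf A B A' B') := by
    rw [← he]
    infer_instance
  refine ⟨hq, fun hT _ => ?_⟩
  let P := (Algebra.Generators.self A B).toExtension
  have hproj : Projective (ModuleCat.of B P.CotangentSpace) := inferInstance
  have hflat : Module.Flat B P.Cotangent :=
    Groth.Agent.Models.NLFlat.flat_of_hasTorAmplitudeIn (ModuleCat.ofHom P.cotangentComplex) hT
  have hflat' : Module.Flat B P.CotangentSpace := inferInstance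
  have hK : ∀ i : ℤ, Module.Flat B ((NLCx.cx P).X i) := by
    intro i
    by_cases h : i = -1
    · subst h
      exact Module.Flat.of_linearEquiv
        (Groth.Agent.Models.DoubleCx.i₀ (ModuleCat.ofHom P.cotangentComplex)).toLinearEquiv
    · by_cases h' : i = 0
      · subst h'
        exact Module.Flat.of_linearEquiv
          (Groth.Agent.Models.DoubleCx.i₁ (ModuleCat.ofHom P.cotangentComplex)).toLinearEquiv
      · have := (HomologicalComplex.isZero_double_X (ModuleCat.ofHom P.cotangentComplex)
          (show (ComplexShape.up ℤ).Rel (-1) 0 by simp) i h h')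
        have : Subsingleton ((NLCx.cx P).X i) := ModuleCat.subsingleton_of_isZero this
        infer_instance
  have hb : ∀ i : ℤ, 0 < i → IsZero ((NLCx.cx P).X i) := fun i hi =>
    HomologicalComplex.isZero_double_X (ModuleCat.ofHom P.cotangentComplex)
      (show (ComplexShape.up ℤ).Rel (-1) 0 by simp) i (by omega) (by omega)
  obtain ⟨e1⟩ := K253.NLDer.nonempty_lbc_iso (B := B') (NLCx.cx P) 0 hb hK
  obtain ⟨e2⟩ := K253.NLDer.nonempty_ext_dbl (B := B') P.cotangentComplex
  have hiso : IsIso (DerivedCategory.Q.map (NLCx.bcMapSelf A B A' B')) := inferInstance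
  exact ⟨e1 ≪≫ DerivedCategory.Q.mapIso e2 ≪≫
    @asIso _ _ _ _ (DerivedCategory.Q.map (NLCx.bcMapSelf A B A' B')) hiso⟩

end Groth.Agent.S7222
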