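import Groth.Statements.S7223
import Groth.Agent.FlatMor.K253.CotProj
import Groth.Agent.FlatMor.K253.BcH1

set_option autoImplicit false
universe u
open CategoryTheory CategoryTheory.Limits TensorProduct
attribute [local instance] HasDerivedCategory.standard
open FlatMor

namespace Groth.Agent.S7223

/-- Let A → B and A → A' be ring homomorphisms and B' an algebra over A' and over B making the square
cocartesian, B' = B ⊗_A A'. If A → B and A' → B' are both local complete intersection homomorphisms
(of finite type, with Koszul-regular kernel for a polynomial presentation), then the kernel of the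
canonical map H^{-1}(NL_{B/A} ⊗_B B') → H^{-1}(NL_{B'/A'}) (presentations on all elements) is a
finite projective B'-module. -/
theorem result (A B A' B' : Type u) [CommRing A] [CommRing B]
    [CommRing A'] [CommRing B'] [Algebra A B] [Algebra A' B'] [Algebra A A'] [Algebra B B'] [Algebra A B']
    [IsScalarTower A A' B'] [IsScalarTower A B B'] [Algebra.IsPushout A A' B B']
    (hB : LCI.IsLCI A B) (hB' : LCI.IsLCI A' B') :
    Module.Finite B' (LinearMap.ker (NLCx.bcH1Map
        ((Algebra.Generators.self A B).defaultHom (Algebra.Generators.self A' B')).toExtensionHom)) ∧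
      Module.Projective B' (LinearMap.ker (NLCx.bcH1Map
        ((Algebra.Generators.self A B).defaultHom (Algebra.Generators.self A' B')).toExtensionHom)) := by
  have hB_copy := hB
  obtain ⟨-, n, f, hf, -⟩ := hB
  -- a presentation in finitely many variables, and its base change
  let G : Algebra.Generators A B (ULift.{u} (Fin n)) :=
    (Algebra.Generators.ofAlgHom f hf).reindex Equiv.ulift
  obtain ⟨G', h⟩ := K253.CotBC.exists_baseChange (R' := A') (S' := B') G
  obtain ⟨h1, h2⟩ := K253.CotProj.of_isLCI hB_copy G
  obtain ⟨h1', h2'⟩ := K253.CotProj.of_isLCI hB' G'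
  let a := (NLCx.sameVarsHom G G' h).toExtensionHom
  let l : B' ⊗[B] G.toExtension.Cotangent →ₗ[B'] G'.toExtension.Cotangent :=
    LinearMap.liftBaseChange B' (Algebra.Extension.Cotangent.map a)
  have hl : Function.Surjective l := K253.CotBC.cotangent_surjective a (K253.CotBC.ker_eq_map G G' h)
  obtain ⟨s, hs⟩ := Module.projective_lifting_property l LinearMap.id hl
  -- the kernel of `l` is a direct summand
  have hker : Module.Finite B' (LinearMap.ker l) ∧ Module.Projective B' (LinearMap.ker l) := by
    have hs' : ∀ y, l (s y) = y := fun y => LinearMap.congr_fun hs y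
    let r : B' ⊗[B] G.toExtension.Cotangent →ₗ[B'] LinearMap.ker l :=
      (LinearMap.id - s ∘ₗ l).codRestrict (LinearMap.ker l) (fun x => by
        rw [LinearMap.mem_ker, LinearMap.sub_apply, LinearMap.comp_apply, map_sub, hs',
          LinearMap.id_apply, sub_self])
    have hr : r ∘ₗ (LinearMap.ker l).subtype = LinearMap.id := by
      refine LinearMap.ext fun x => Subtype.ext ?_
      change x.1 - s (l x.1) = x.1
      rw [show l x.1 = 0 from x.2, map_zero, sub_zero]
    exact ⟨Module.Finite.of_surjective r (fun x => ⟨x.1, LinearMap.congr_fun hr x⟩),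
      Module.Projective.of_split _ r hr⟩
  -- the kernel of `l` is the kernel of the map on `H^{-1}`
  have e : LinearMap.ker (NLCx.bcH1Map a) ≃ₗ[B'] LinearMap.ker l := by
    refine LinearEquiv.ofBijective
      (((NLCx.bcH1 G.toExtension B').subtype ∘ₗ (LinearMap.ker (NLCx.bcH1Map a)).subtype).codRestrict
        (LinearMap.ker l) (fun x => congrArg Subtype.val x.2)) ⟨?_, ?_⟩
    · intro x y hxy
      refine Subtype.ext (Subtype.ext ?_)
      exact congrArg (fun z : LinearMap.ker l => z.1) hxy
    · rintro ⟨x, hx⟩
      have hx0 : x ∈ NLCx.bcH1 G.toExtension B' := by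
        rw [NLCx.bcH1, LinearMap.mem_ker]
        apply (K253.CotBC.cotangentSpace_bijective G G' h).1
        rw [map_zero]
        have key : G'.toExtension.cotangentComplex ∘ₗ LinearMap.liftBaseChange B'
            (Algebra.Extension.Cotangent.map (NLCx.sameVarsHom G G' h).toExtensionHom) =
            LinearMap.liftBaseChange B' (Algebra.Extension.CotangentSpace.map
              (NLCx.sameVarsHom G G' h).toExtensionHom) ∘ₗ
                G.toExtension.cotangentComplex.baseChange B' := by
          ext y
          simpa using (Algebra.Extension.CotangentSpace.map_cotangentComplex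
            (NLCx.sameVarsHom G G' h).toExtensionHom y).symm
        have h1 := LinearMap.congr_fun key x
        rw [LinearMap.comp_apply, LinearMap.comp_apply] at h1
        rw [← h1]
        change G'.toExtension.cotangentComplex (l x) = 0
        rw [show l x = 0 from hx, map_zero]
      exact ⟨⟨⟨x, hx0⟩, Subtype.ext hx⟩, rfl⟩
  obtain ⟨e2⟩ := K253.BcH1.nonempty_ker_equiv
    (G.defaultHom (Algebra.Generators.self A B)).toExtensionHom
    ((Algebra.Generators.self A B).defaultHom G).toExtensionHom
    (G'.defaultHom (Algebra.Generators.self A' B')).toExtensionHom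
    ((Algebra.Generators.self A' B').defaultHom G').toExtensionHom
    a ((Algebra.Generators.self A B).defaultHom (Algebra.Generators.self A' B')).toExtensionHom
  obtain ⟨h5, h6⟩ := hker
  exact ⟨Module.Finite.equiv (e.symm ≪≫ₗ e2), Module.Projective.of_equiv (e.symm ≪≫ₗ e2)⟩

end Groth.Agent.S7223
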