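import Groth.Statements.S7225
import Groth.Agent.FlatMor.K253.NLMaps
import Mathlib.RingTheory.Localization.BaseChange
import Mathlib.RingTheory.Flat.Localization

set_option autoImplicit false
universe u
open CategoryTheory CategoryTheory.Limits TensorProduct
attribute [local instance] HasDerivedCategory.standard
open FlatMor

namespace Groth.Agent.S7225

/-- Let A be a ring, M a submonoid of A, A' a localization of A at M and B an A'-algebra, viewed also as
an A-algebra. Let G be a presentation of B over A by a polynomial algebra and G' the presentation of
B over A' with the same generators (G'(i) = G(i), written through the identity algebra map of B).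
Then the canonical chain map NL(G) → NL(G') from the naive cotangent complex of the presentation
over A to that of the presentation over A' is an isomorphism of complexes (so that NL_{B/A} →
NL_{B/A'} is a homotopy equivalence). -/
theorem result (A A' B : Type u) [CommRing A] [CommRing A'] [CommRing B]
    [Algebra A A'] (M : Submonoid A) [IsLocalization M A'] [Algebra A' B] [Algebra A B] [IsScalarTower A A' B]
    {ι : Type u} (G : Algebra.Generators A B ι) (G' : Algebra.Generators A' B ι) (h : ∀ i, G'.val i = algebraMap B B (G.val i)) :
    IsIso (NLCx.map (NLCx.sameVarsHom (S' := B) G G' h).toExtensionHom) := by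
  have hpush : Algebra.IsPushout A A' B B := by
    have h1 : IsLocalization (Algebra.algebraMapSubmonoid B M) B := by
      refine IsLocalization.self ?_
      rintro _ ⟨m, hm, rfl⟩
      rw [IsScalarTower.algebraMap_apply A A' B]
      exact (IsLocalization.map_units A' (⟨m, hm⟩ : M)).map (algebraMap A' B)
    exact (Algebra.isPushout_of_isLocalization M A' B B).symm
  have hflat : Module.Flat A A' := IsLocalization.flat A' M
  have h1 := K253.CotInj.cotangent_bijective_of_flat (S' := B) G G' h
  have h2 := K253.CotBC.cotangentSpace_bijective (S' := B) G G' h
  have aux : ∀ {M N : Type u} [AddCommGroup M] [AddCommGroup N] [Module B M] [Module B N]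
      (f : M →ₗ[B] N), Function.Bijective (LinearMap.liftBaseChange B f) →
        Function.Bijective f := by
    intro M N _ _ _ _ f hf
    have : LinearMap.liftBaseChange B f ∘ₗ (TensorProduct.lid B M).symm.toLinearMap = f := by
      ext x
      simp
    rw [← this]
    exact hf.comp (TensorProduct.lid B M).symm.bijective
  exact K253.NLMaps.isIso_map _ (aux _ h1) (aux _ h2)

end Groth.Agent.S7225
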