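import Groth.Statements.S7230
import Groth.Agent.FlatMor.K254.StalkTor
import Groth.Agent.Dual.H323.PcChart
import Groth.Agent.Dual.H323.RelTor

set_option autoImplicit false
universe u
open CategoryTheory CategoryTheory.Limits AlgebraicGeometry Opposite TopologicalSpace
attribute [local instance] HasDerivedCategory.standard
open FlatMor

namespace Groth.Agent.S7230

open MonoidalCategory
open scoped Groth.Agent.Dcoh.MonCat Groth.Agent.Dcoh.ModD

/-- Let A be a ring and X a scheme separated, of finite presentation and flat over A, with structure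
morphism π : X ⟶ Spec A. Let K be a cochain complex of O_X-modules whose class in D(O_X) has
quasi-coherent cohomology sheaves. Assume, the functors Rπ_* and - ⊗^L K being taken to exist, that
for every perfect object E of D(O_X) the object Rπ_*(E ⊗^L K) of D(O_{Spec A}) is perfect. Then K is
perfect relative to Spec A: its class is pseudo-coherent on X in the absolute sense
(m-pseudo-coherent for every m) and, locally on X, every representing complex has finite tor
amplitude stalkwise over the local rings of Spec A. (The published statement asks RΓ(X, E ⊗^L K) to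
be perfect in D(A); on Spec A the two formulations correspond under the equivalence of D(A) with the
quasi-coherent derived category.) -/
theorem result (A : Type u) [CommRing A]
    {X : Scheme.{u}} (π : X ⟶ Spec (CommRingCat.of A)) [IsSeparated π] [QuasiCompact π]
    [LocallyOfFinitePresentation π] [Flat π] [DCoh.HasRpush π] (K : CochainComplex X.Modules ℤ)
    [DCoh.HasLTensorCx K] (hK : DCoh.IsQCohD (DCoh.toD X K))
    (h : ∀ E : DCoh.D X, DCoh.IsPerfect E → DCoh.IsPerfect ((DCoh.Rpush π).obj ((DCoh.LTensorCx K).obj E))) :
    (∀ m : ℤ, DCoh.IsPseudoCoherentD m (DCoh.toD X K)) ∧ DerSch.LocFiniteTorAmplitudeD π (DCoh.toD X K) := by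
  have h1 : CompactSpace X := QuasiCompact.compactSpace_of_compactSpace π
  have h2 : QuasiSeparatedSpace X := quasiSeparatedSpace_of_quasiSeparated π
  have hperf : ∀ E : DCoh.D X, DCoh.IsPerfect E →
      DCoh.IsPerfect ((DCoh.Rpush π).obj (E ⊗ DCoh.toD X K)) := fun E hE =>
    Groth.Agent.PerfC.PerfLocal.perf_of_iso
      ((DCoh.Rpush π).mapIso ((Groth.Agent.Dcoh.ModTens.LTensorCxIso K).app E)) (h E hE)
  have hpc : ∀ m : ℤ, DCoh.IsPseudoCoherentD m (DCoh.toD X K) := fun m =>
    Groth.Agent.Dual.H323.PcChart.pc_of_push π (DCoh.toD X K) hK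
      (fun E hE m => Groth.Agent.PerfC.PerfLocal.pc_of_perf (hperf E hE) m) m
  exact ⟨hpc, K254.StalkTor.locFiniteTorAmplitudeD_of_locHasFiniteRelTorDim π
    (Groth.Agent.Dual.H323.RelTor.locHasFiniteRelTorDim π (DCoh.toD X K) hK hperf hpc)⟩

end Groth.Agent.S7230
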