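import Groth.Statements.S7231
-- import your own Groth.Agent.* helpers here
import Groth.Agent.FlatMor.K254.ThickPC
import Groth.Agent.S6971

set_option autoImplicit false
universe u
open CategoryTheory CategoryTheory.Limits AlgebraicGeometry Opposite TopologicalSpace
attribute [local instance] HasDerivedCategory.standard
open FlatMor

namespace Groth.Agent.S7231

/-- Let i : X ⟶ X' be a finite order thickening (a surjective closed immersion whose ideal sheaf is
nilpotent) and K' an object of D(O_{X'}). If, the derived pullback Li^* being assumed to exist, Li^*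
K' is pseudo-coherent on X (m-pseudo-coherent for every integer m), then K' is pseudo-coherent on
X'. -/
theorem result {X X' : Scheme.{u}} (i : X ⟶ X')
    (hi : MoreMor.IsFiniteOrderThickening i) [DCoh.HasLpull i] (K' : DCoh.D X')
    (hK : ∀ m : ℤ, DCoh.IsPseudoCoherentD m ((DCoh.Lpull i).obj K')) (m : ℤ) :
    DCoh.IsPseudoCoherentD m K' := by
  refine Groth.Agent.PerfC.PcLocal.pc_of_cover K' fun x => ?_
  obtain ⟨A, B, φ, j, j', y, hj, hj', hy, hφ, hn, sq, -⟩ :=
    K254.ThickPC.exists_affine i hi x ⊤ trivial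
  refine ⟨Spec A, j, hj, y, hy, ?_⟩
  have hL : DCoh.HasLpull (Spec.map φ) := Groth.Agent.Dcoh.DerPull.hasLpull _
  have hB : DRing.HasLBaseChange φ.hom := Groth.Agent.LoccohB.LBC.hasLBaseChange _
  have hlim : PreservesFiniteLimits (tilde.functor A) :=
    Groth.Agent.PerfB.TildeExact.preservesFiniteLimits_tilde _
  obtain ⟨M, ⟨e⟩, hM⟩ := K254.ThickPC.exists_module φ hφ hn ((DCoh.restrictD j).obj K')
    (fun m => Groth.Agent.PerfC.PcLocal.pc_of_iso
      ((Groth.Agent.Dcoh.DerPull.lpullRestrictIso (f := i) (f' := Spec.map φ) sq).app K')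
      (Groth.Agent.PerfC.PcLocal.pc_restrict j' (hK m)))
  refine Groth.Agent.PerfC.PcLocal.pc_of_iso e ?_
  exact (Groth.Agent.S1004.result A M m).2 (((Groth.Agent.S2066.result M).1.2
    ((Groth.Agent.S6971.result φ.hom hφ hn M).1 hM)) m)

end Groth.Agent.S7231
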