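import Groth.Statements.S7233
import Groth.Agent.Dual2.K366.FibAt
import Groth.Agent.Dual2.K366.StalkBC

set_option autoImplicit false
universe u
open CategoryTheory CategoryTheory.Limits AlgebraicGeometry Opposite TopologicalSpace
attribute [local instance] HasDerivedCategory.standard
open FlatMor

namespace Groth.Agent.S7233

/-- Let R be a ring and I an ideal of R contained in the Jacobson radical of R. Let f : X ⟶ Spec R be
proper, flat and of finite presentation, and let X₀ = X ×_{Spec R} Spec(R/I) with projections i : X₀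
⟶ X and f₀ : X₀ ⟶ Spec(R/I). Let E be a pseudo-coherent object of D(O_X) (m-pseudo-coherent for
every m) and assume the derived pullback Li^* exists. Suppose Li^* E is perfect relative to
Spec(R/I): it is represented by a cochain complex whose class is pseudo-coherent and which, locally
on X₀, has finite tor amplitude stalkwise over the local rings of Spec(R/I). Then E is perfect
relative to Spec R: locally on X, every cochain complex representing E has finite tor amplitude
stalkwise over the local rings of Spec R. -/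
theorem result (R : Type u) [CommRing R] (I : Ideal R)
    (hI : I ≤ Ideal.jacobson ⊥) {X : Scheme.{u}} (f : X ⟶ Spec (CommRingCat.of R)) [IsProper f] [Flat f]
    [LocallyOfFinitePresentation f]
    [DCoh.HasLpull (pullback.fst f (Spec.map (CommRingCat.ofHom (Ideal.Quotient.mk I))))]
    (E : DCoh.D X) (hpc : ∀ m : ℤ, DCoh.IsPseudoCoherentD m E)
    (h₀ : ∃ F₀ : CochainComplex (pullback f (Spec.map (CommRingCat.ofHom (Ideal.Quotient.mk I)))).Modules ℤ,
      Nonempty (DCoh.toD _ F₀ ≅ (DCoh.Lpull (pullback.fst f (Spec.map (CommRingCat.ofHom (Ideal.Quotient.mk I))))).obj E) ∧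
        (∀ m : ℤ, DCoh.IsPseudoCoherentD m (DCoh.toD _ F₀)) ∧
        DerSch.LocFiniteTorAmplitude (pullback.snd f (Spec.map (CommRingCat.ofHom (Ideal.Quotient.mk I)))) F₀) :
    DerSch.LocFiniteTorAmplitudeD f E := by

  obtain ⟨F₀, ⟨e⟩, -, hF⟩ := h₀
  have hg : IsClosedImmersion (Spec.map (CommRingCat.ofHom (Ideal.Quotient.mk I))) :=
    IsClosedImmersion.spec_of_surjective _ Ideal.Quotient.mk_surjective
  have sq : IsPullback (pullback.fst f (Spec.map (CommRingCat.ofHom (Ideal.Quotient.mk I))))
      (pullback.snd f (Spec.map (CommRingCat.ofHom (Ideal.Quotient.mk I)))) f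
      (Spec.map (CommRingCat.ofHom (Ideal.Quotient.mk I))) := IsPullback.of_hasPullback _ _
  have hc : CompactSpace ↥(pullback f (Spec.map (CommRingCat.ofHom (Ideal.Quotient.mk I)))) := by
    have h1 : QuasiCompact (pullback.snd f (Spec.map (CommRingCat.ofHom (Ideal.Quotient.mk I)))) :=
      inferInstance
    exact (quasiCompact_iff_compactSpace
      (pullback.snd f (Spec.map (CommRingCat.ofHom (Ideal.Quotient.mk I))))).1 h1
  obtain ⟨a, b, hab⟩ := K366.FibAt.exists_uniform _ F₀ hF
  rw [K238.StalkD.locFiniteTorAmplitudeD_iff]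
  intro x
  refine ⟨⊤, a, b, trivial, fun x₁ _ => ?_⟩
  obtain ⟨w, hw⟩ := K366.FibAt.exists_specializes R I hI f x₁
  refine K366.FibAt.torAmp_generize f E hpc hw ?_
  have hl : DRing.HasLBaseChange (K366.StalkBC.phi sq w).hom := Groth.Agent.LoccohB.LBC.hasLBaseChange _
  obtain ⟨e1⟩ := K366.StalkBC.nonempty_iso sq w E
  exact K366.FibAt.torAmp_of_quot f E hpc _ (K366.StalkBC.phi sq w).hom
    (K366.StalkBC.surjective_phiAt _ (K366.StalkBC.w_base sq w))
    (K238.StalkD.torAmp_of_iso ((K238.StalkD.stalkOverD _ w).mapIso e ≪≫ e1) (hab w))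

end Groth.Agent.S7233
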