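import Groth.Statements.S7234
-- import your own Groth.Agent.* helpers here
import Groth.Agent.FlatMor.K254.ChartRing

set_option autoImplicit false
universe u
open CategoryTheory CategoryTheory.Limits AlgebraicGeometry Opposite TopologicalSpace
attribute [local instance] HasDerivedCategory.standard
open FlatMor

namespace Groth.Agent.S7234

/-- (1) ⇔ (3): let f : X ⟶ S be locally of finite type, E an object of D(O_X) all of whose cohomology
sheaves are quasi-coherent, and m an integer. Then E is m-pseudo-coherent relative to f (chart form)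
if and only if for every affine open U of X mapping into an affine open V of S the complex RΓ(U, E),
viewed in D(Γ(X, U)), is m-pseudo-coherent relative to Γ(S, V) in the ring-level sense. Here RΓ(U,
E) is expressed through the equivalence of D(Γ(X, U)) with the quasi-coherent derived category of
the affine scheme U: the condition is asked of every object M of D(Γ(X, U)) whose associated complex
of modules on Spec Γ(X, U) is isomorphic to E|_U carried along U ≅ Spec Γ(X, U) (the functor M ↦ M~
being assumed left exact, which it is). -/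
theorem result {X S : Scheme.{u}} (f : X ⟶ S)
    [LocallyOfFiniteType f] [∀ U : X.affineOpens, PreservesFiniteLimits (tilde.functor (X.presheaf.obj (op (U : X.Opens))))]
    (E : DCoh.D X) (hE : DCoh.IsQCohD E) (m : ℤ) :
    DerSch.IsPseudoCoherentRel f m E ↔
      ∀ (U : X.affineOpens) (V : S.affineOpens) (h : (U : X.Opens) ≤ f ⁻¹ᵁ (V : S.Opens))
        (G : CochainComplex X.Modules ℤ), Nonempty (DCoh.toD X G ≅ E) →
        ∀ M : Dual.D Γ(X, (U : X.Opens)),
          Nonempty ((DCoh.tildeD (X.presheaf.obj (op (U : X.Opens)))).obj M ≅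
            DCoh.toD _ ((DerSch.pushCx U.2.isoSpec.hom).obj ((DCoh.restrictCx (U : X.Opens)).obj G))) →
          letI := (f.appLE (V : S.Opens) (U : X.Opens) h).hom.toAlgebra
          DerCA.IsRelPseudoCoherent Γ(S, (V : S.Opens)) Γ(X, (U : X.Opens)) m M := by
  constructor
  · rintro H U V h G ⟨g⟩ M ⟨e⟩
    obtain ⟨n, φ, hφ⟩ := K240.RelChart.exists_chart f U.2 V.2 h
    letI := (f.appLE (V : S.Opens) (U : X.Opens) h).hom.toAlgebra
    have h1 := K240.RelChart.test_of_isPseudoCoherentRel H
      (K240.RelChart.chartDatum f U.2 V.2 h φ hφ)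
    have h2 := (K254.ChartRing.test_iff f U.2 V.2 h φ hφ m E M
      (e ≪≫ (K254.ChartRing.onSpecQ U.2 G).symm ≪≫
        (K254.ChartRing.onSpec U.2).mapIso g)).1 h1
    exact ⟨n, { φ with commutes' := fun r => congr($(hφ.2) r) }, hφ.1, h2⟩
  · intro H
    refine K240.RelChart.isPseudoCoherentRel_of_data fun x => ?_
    obtain ⟨V, hV, hxV, -⟩ := exists_isAffineOpen_mem_and_subset (x := f x) (U := ⊤) trivial
    obtain ⟨U, hU, hxU, hUV⟩ := exists_isAffineOpen_mem_and_subset (x := x) (U := f ⁻¹ᵁ V) hxV
    have h : U ≤ f ⁻¹ᵁ V := hUV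
    have hlim : PreservesFiniteLimits (tilde.functor (X.presheaf.obj (op U))) :=
      inferInstanceAs (PreservesFiniteLimits (tilde.functor (X.presheaf.obj
        (op ((⟨U, hU⟩ : X.affineOpens) : X.Opens)))))
    obtain ⟨M, ⟨e⟩⟩ := K254.ChartRing.exists_module hU hE
    obtain ⟨G, ⟨g⟩⟩ := Groth.Agent.PerfA.Restrict.exists_rep X E
    letI := (f.appLE V U h).hom.toAlgebra
    obtain ⟨n, α, hα, hpc⟩ := H ⟨U, hU⟩ ⟨V, hV⟩ h G ⟨g⟩ M
      ⟨e ≪≫ (K254.ChartRing.onSpec hU).mapIso g.symm ≪≫ K254.ChartRing.onSpecQ hU G⟩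
    have hφ : DerSch.IsChart f U V h (α : MvPolynomial (Fin n) Γ(S, V) →+* Γ(X, U)) :=
      ⟨hα, by ext r; exact α.commutes r⟩
    exact ⟨K240.RelChart.chartDatum f hU hV h _ hφ, ⟨x, hxU⟩, rfl,
      (K254.ChartRing.test_iff f hU hV h _ hφ m E M e).2 hpc⟩

end Groth.Agent.S7234
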