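import Groth.Statements.S7237
import Groth.Agent.Smoothlim.SymAlg
-- import your own Groth.Agent.* helpers here

set_option autoImplicit false
universe u
open TensorProduct
open FlatMor

namespace Groth.Agent.S7237

open TensorProduct KaehlerDifferential in

/-- Let A be a ring and M a finitely generated A-module, and let C = Sym_A(M) be the symmetric algebra
of M with its canonical A-linear map ι : M → C. Then Ω_{C/A} = M ⊗_A C: the C-linear map C ⊗_A M →
Ω_{C/A} obtained by extending scalars in the A-linear map m ↦ d(ι m), d being the universal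
A-derivation of C, is bijective. (The published lemma also computes the whole naive cotangent
complex of the presentation of C attached to a surjection A^m → M with kernel K, namely as K ⊗_A C →
⊕_j C dy_j; only its consequence for Ω is asserted here.) -/
theorem result (A : Type u) [CommRing A] (M : Type u)
    [AddCommGroup M] [Module A M] [Module.Finite A M] :
    Function.Bijective (LinearMap.liftBaseChange (SymmetricAlgebra A M)
      ((KaehlerDifferential.D A (SymmetricAlgebra A M)).toLinearMap.restrictScalars A ∘ₗ SymmetricAlgebra.ι A M)) := by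
  obtain ⟨d₀, hd₀⟩ := Smoothlim.SymAlg.exists_derivation (A := A) (K := M)
    (M := SymmetricAlgebra A M ⊗[A] M)
    ((TensorProduct.mk A (SymmetricAlgebra A M) M) 1)
  let D := KaehlerDifferential.D A (SymmetricAlgebra A M)
  let F : SymmetricAlgebra A M ⊗[A] M →ₗ[SymmetricAlgebra A M] Ω[SymmetricAlgebra A M⁄A] :=
    LinearMap.liftBaseChange (SymmetricAlgebra A M)
      (D.toLinearMap.restrictScalars A ∘ₗ SymmetricAlgebra.ι A M)
  let G : Ω[SymmetricAlgebra A M⁄A] →ₗ[SymmetricAlgebra A M] SymmetricAlgebra A M ⊗[A] M :=
    d₀.liftKaehlerDifferential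
  have hF : ∀ x : M, F (1 ⊗ₜ x) = D (SymmetricAlgebra.ι A M x) := fun x => by
    simp [F]
  have hG : ∀ c, G (D c) = d₀ c := fun c => Derivation.liftKaehlerDifferential_comp_D d₀ c
  have hGF : G ∘ₗ F = LinearMap.id := by
    apply TensorProduct.AlgebraTensorModule.ext
    intro c x
    have : c ⊗ₜ[A] x = c • ((1 : SymmetricAlgebra A M) ⊗ₜ[A] x) := by
      rw [TensorProduct.smul_tmul', smul_eq_mul, mul_one]
    rw [this, map_smul, map_smul, LinearMap.comp_apply, hF, hG, hd₀]
    rfl
  have hFd : ∀ c, F (d₀ c) = D c := by
    intro c
    induction c using SymmetricAlgebra.induction with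
    | algebraMap r => rw [Derivation.map_algebraMap, Derivation.map_algebraMap, map_zero]
    | ι x => rw [hd₀]; exact hF x
    | mul a b ha hb => rw [Derivation.leibniz, Derivation.leibniz, map_add, map_smul, map_smul, ha, hb]
    | add a b ha hb => rw [map_add, map_add, map_add, ha, hb]
  have hFG : F ∘ₗ G = LinearMap.id := by
    have h1 : (F ∘ₗ G).compDer D = (LinearMap.id : Ω[SymmetricAlgebra A M⁄A] →ₗ[SymmetricAlgebra A M] _).compDer D := by
      ext c
      change F (G (D c)) = D c
      rw [hG, hFd]
    exact Derivation.liftKaehlerDifferential_unique _ _ h1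
  exact ⟨fun x y h => by
      have := congrArg G h
      change (G ∘ₗ F) x = (G ∘ₗ F) y at this
      rwa [hGF] at this,
    fun y => ⟨G y, congr($hFG y)⟩⟩

end Groth.Agent.S7237
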