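import Groth.Statements.S7247
import Groth.Agent.S1013
import Groth.Agent.PerfA.CompactSupp
import Groth.Agent.S1103
import Groth.Agent.S0887
import Groth.Agent.S0889
import Groth.Agent.PerfA.ApproxTower
import Groth.Agent.PerfA.TriFive
import Groth.Agent.PerfA.PCohQCoh

set_option autoImplicit false
universe u
open CategoryTheory CategoryTheory.Limits AlgebraicGeometry
attribute [local instance] HasDerivedCategory.standard
open Perf

namespace Groth.Agent.S7247

/-- Let X be a quasi-compact and quasi-separated scheme, T ⊆ X a closed subset whose complement is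
quasi-compact, and K ∈ D(O_X) supported on T (every cohomology sheaf of K has support contained in
T). Assuming countable direct sums exist in D(O_X) (they do), K is pseudo-coherent if and only if K
is a homotopy colimit of a sequence of perfect objects Kₙ supported on T whose structure maps Kₙ ⟶ K
induce isomorphisms τ_{≥ -n}Kₙ ⟶ τ_{≥ -n}K for every n. -/
theorem result (X : Scheme.{u}) [CompactSpace ↥X] [QuasiSeparatedSpace ↥X]
    [HasColimitsOfShape (Discrete ℕ) (DCoh.D X)] (T : Set ↥X) (hT : IsClosed T) (hTc : IsCompact Tᶜ)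
    (K : DCoh.D X) (hK : ∀ i : ℤ, CohB1.support (DCoh.HD K i) ⊆ T) :
    (∀ m : ℤ, DCoh.IsPseudoCoherentD m K) ↔
    ∃ (E : ℕ → DCoh.D X) (f : ∀ n, E n ⟶ E (n + 1)) (i : ∀ n, E n ⟶ K),
      (∀ n, DCoh.IsPerfect (E n)) ∧ (∀ (n : ℕ) (j : ℤ), CohB1.support (DCoh.HD (E n) j) ⊆ T) ∧
      DerLim.IsHocolim E f K i ∧
      ∀ n : ℕ, IsIso (((DerivedCategory.TStructure.t : CategoryTheory.Triangulated.TStructure (DCoh.D X)).truncGE (-(n : ℤ))).map (i n)) := by
  let U : X.Opens := ⟨Tᶜ, hT.isOpen_compl⟩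
  have hU : (U : Set X)ᶜ = T := compl_compl T
  have hs : ∀ E : DCoh.D X, (∀ i : ℤ, CohB1.support (DCoh.HD E i) ⊆ T) ↔
      IsZero ((DCoh.restrictD U.ι).obj E) := by
    intro E
    rw [← hU]
    exact Groth.Agent.PerfA.CompactSupp.supp_subset_iff U E
  constructor
  · intro hpc
    obtain ⟨r, hr⟩ := Groth.Agent.S1103.result X T hT hTc
    obtain ⟨F, i, hF, hi, hiso⟩ := Groth.Agent.PerfA.ApproxTower.exists_tower
      (A := X.Modules)
      (fun E => DCoh.IsPerfect E ∧ IsZero ((DCoh.restrictD U.ι).obj E))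
      (fun E => (∀ m : ℤ, DCoh.IsPseudoCoherentD m E) ∧ IsZero ((DCoh.restrictD U.ι).obj E))
      (fun T' hT' h1 h3 => ⟨(Groth.Agent.S0887.result T' hT').2.1 h1.1 h3.1,
        Pretriangulated.Triangle.isZero₂_of_isZero₁₃ _ ((DCoh.restrictD U.ι).map_distinguished _ hT') h1.2 h3.2⟩)
      (fun T' hT' h1 h2 => ⟨fun m => (Groth.Agent.S0889.result m T' hT').1
        (Groth.Agent.PerfA.PCohQCoh.isPseudoCoherentD_of_isPerfect h1.1 (m + 1)) (h2.1 m),
        Pretriangulated.Triangle.isZero₃_of_isZero₁₂ _ ((DCoh.restrictD U.ι).map_distinguished _ hT') h1.2 h2.2⟩)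
      (fun m E hE => by
        obtain ⟨P, α, hP, hPT, h1, h2⟩ := hr m E
          (Groth.Agent.PerfA.PCohQCoh.isQCohD_of_isPseudoCoherentD hE.1) (hE.1 (m - r))
          (fun i _ => (hs E).2 hE.2 i)
        exact ⟨P, α, ⟨hP, (hs P).1 hPT⟩, h1, h2⟩) ⟨hpc, (hs K).1 hK⟩
    refine ⟨F.obj, Groth.Agent.PerfA.Hocolim.tr F, i, fun n => (hF n).1,
      fun n => (hs _).2 (hF n).2, ?_, fun n => ?_⟩
    · exact Groth.Agent.PerfA.ApproxTower.isHocolim_of_eventually_isIso F i hi fun m =>
        ⟨(-m).toNat, fun n hn => hiso n m (by lia)⟩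
    · exact (Groth.Agent.PerfA.TriFive.isIso_truncGE_map_iff (i n) _).2 fun m hm => hiso n m hm
  · rintro ⟨E, f, i, hE, -, h1, h2⟩
    exact (Groth.Agent.S1013.result X K).2 ⟨E, f, i, hE, h1, h2⟩

end Groth.Agent.S7247
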