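import Groth.Statements.S7249
import Groth.Agent.Perf.K368.RelPerfOfPerf
import Groth.Agent.Dual.H359.CompFin
import Groth.Agent.S0959
import Groth.Agent.Dcoh.DerPull2

set_option autoImplicit false
universe u
open CategoryTheory CategoryTheory.Limits AlgebraicGeometry
attribute [local instance] HasDerivedCategory.standard
open Perf

namespace Groth.Agent.S7249

/-- Let f : X ⟶ S be flat and locally of finite presentation, K a perfect object of D(O_X), and M a
cochain complex of O_X-modules whose image in D(O_X) is S-perfect (pseudo-coherent, and locally on X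
represented by a bounded complex of O_X-modules flat over S). Assuming the derived functor - ⊗^L M
exists, K ⊗^L_{O_X} M is S-perfect. -/
theorem result {X S : Scheme.{u}} (f : X ⟶ S) [Flat f] [LocallyOfFinitePresentation f]
    (K : DCoh.D X) (hK : DCoh.IsPerfect K) (M : CochainComplex X.Modules ℤ)
    (hMpc : ∀ m : ℤ, DCoh.IsPseudoCoherentD m (DCoh.toD X M)) (hMtor : DCoh.LocHasFiniteRelTorDim f (DCoh.toD X M))
    [DCoh.HasLTensorCx M] :
    (∀ m : ℤ, DCoh.IsPseudoCoherentD m ((DCoh.LTensorCx M).obj K)) ∧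
      DCoh.LocHasFiniteRelTorDim f ((DCoh.LTensorCx M).obj K) := by
  have h1 := K368.RelPerfOfPerf.relPerf_of_isPerfect (𝟙 X) hK
  haveI : DCoh.HasLpull (𝟙 X) := Groth.Agent.S0959.result _
  have e : DCoh.toD X M ≅ (DCoh.Lpull (𝟙 X)).obj (DCoh.toD X M) :=
    ((Groth.Agent.Dcoh.DerPull.lpullOpenIso (𝟙 X) ≪≫
      Groth.Agent.Dcoh.LocalD.restrictIdIso X).app (DCoh.toD X M)).symm
  have h2 := Groth.Agent.Dual.H359.CompFin.relPerf_comp (𝟙 X) f h1.1 h1.2 hMpc hMtor M ⟨e⟩
  rwa [Category.id_comp] at h2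

end Groth.Agent.S7249
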