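import Groth.Statements.S7254
import Groth.Agent.Perf.K368.BddAmp
import Groth.Agent.PerfC.RpushTrunc
import Groth.Agent.PerfA.QCohSerre

set_option autoImplicit false
universe u
open CategoryTheory CategoryTheory.Limits AlgebraicGeometry
attribute [local instance] HasDerivedCategory.standard
open Perf

namespace Groth.Agent.S7254

/-- Let X be a scheme, F an additive functor from O_X-modules to abelian groups and N ≥ 0 an integer
such that F commutes with countable direct products and RᵖF(G) = 0 (right derived functors computed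
with injective resolutions) for every p ≥ N and every quasi-coherent O_X-module G. Assume the total
right derived functor RF : D(O_X) ⥤ D(Ab) exists. If E ∈ D(O_X) has quasi-coherent cohomology
sheaves and Hⁱ(E) = 0 for i ∉ [a, b], then Hⁱ(RF(E)) = 0 for i ∉ [a, b + N - 1]. -/
theorem result {X : Scheme.{u}} (F : X.Modules ⥤ AddCommGrpCat.{u}) [F.Additive]
    [PreservesLimitsOfShape (Discrete ℕ) F] [HasInjectiveResolutions X.Modules] (N : ℕ)
    (hF : ∀ G : X.Modules, Coh.IsQCoh G → ∀ p : ℕ, N ≤ p → IsZero ((F.rightDerived p).obj G))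
    [(F.mapHomotopyCategory (ComplexShape.up ℤ) ⋙ DerivedCategory.Qh).HasRightDerivedFunctor (HomotopyCategory.quasiIso X.Modules (ComplexShape.up ℤ))]
    (E : DCoh.D X) (hE : DCoh.IsQCohD E) (a b : ℤ) (hab : ∀ i : ℤ, i < a ∨ b < i → IsZero (DCoh.HD E i))
    (i : ℤ) (hi : i < a ∨ b + N - 1 < i) :
    IsZero ((DerivedCategory.homologyFunctor AddCommGrpCat.{u} i).obj
      (((F.mapHomotopyCategory (ComplexShape.up ℤ) ⋙ DerivedCategory.Qh).totalRightDerived DerivedCategory.Qh
        (HomotopyCategory.quasiIso X.Modules (ComplexShape.up ℤ))).obj E)) := by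
  haveI := Groth.Agent.PerfC.RpushTrunc.hasKInj X
  haveI := Groth.Agent.PerfC.RpushTrunc.enoughInjectives X
  have e := (DerivedCategory.homologyFunctor AddCommGrpCat.{u} i).mapIso
    ((Groth.Agent.Etrest.RDer3.TRIso F).app E)
  refine IsZero.of_iso ?_ e
  have hGE : E.IsGE a := (DerivedCategory.isGE_iff E a).2 fun i hi => hab i (Or.inl hi)
  have hLE : E.IsLE b := (DerivedCategory.isLE_iff E b).2 fun i hi => hab i (Or.inr hi)
  rcases hi with hi | hi
  · have := Groth.Agent.Etrest.RDer3.TR_isGE F E a
    exact DerivedCategory.isZero_of_isGE _ a i hi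
  · have h0 : ∀ M : X.Modules, Coh.IsQCoh M → ((Groth.Agent.Etrest.RDer3.TR F).obj
        ((DerivedCategory.singleFunctor X.Modules 0).obj M)).IsLE ((N : ℤ) - 1) := by
      intro M hM
      rw [DerivedCategory.isLE_iff]
      intro j hj
      obtain ⟨p, rfl⟩ := Int.eq_ofNat_of_zero_le (show 0 ≤ j by omega)
      exact (hF M hM p (by omega)).of_iso ((Groth.Agent.Etrest.RDer3.HTRsingle F p).app M)
    have h1 := K368.BddAmp.isLE_of_bounded (Groth.Agent.Etrest.RDer3.TR F) (Groth.Agent.PerfA.QCohSerre.qcoh X)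
      ((N : ℤ) - 1) h0 (b - a + 1).toNat a b (by omega) E hGE hLE hE
    exact DerivedCategory.isZero_of_isLE _ (b + ((N : ℤ) - 1)) i (by omega)

end Groth.Agent.S7254
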