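import Groth.Statements.S7257
import Groth.Agent.PerfA.GenPull
import Groth.Agent.LoccohB.RpushTri
import Groth.Agent.PerfB.DQGeom

set_option autoImplicit false
universe u
open CategoryTheory CategoryTheory.Limits AlgebraicGeometry
attribute [local instance] HasDerivedCategory.standard
open Perf

namespace Groth.Agent.S7257

/-- Let f : X ⟶ S be an affine morphism of schemes. Assuming Rf_* exists on the unbounded derived
category, Rf_* restricted to D_QCoh(O_X) reflects isomorphisms: if α : E ⟶ F is a morphism in D(O_X)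
between objects with quasi-coherent cohomology sheaves and Rf_*(α) is an isomorphism, then α is an
isomorphism. -/
theorem result {X S : Scheme.{u}} (f : X ⟶ S) [IsAffineHom f] [DCoh.HasRpush f]
    {E F : DCoh.D X} (hE : DCoh.IsQCohD E) (hF : DCoh.IsQCohD F) (α : E ⟶ F)
    (hα : IsIso ((DCoh.Rpush f).map α)) : IsIso α := by
  obtain ⟨_, _, -⟩ := Groth.Agent.LoccohB.RpushTri.exists_isTriangulated_Rpush f
  obtain ⟨C, b, c, hT⟩ := Pretriangulated.distinguished_cocone_triangle α
  have hC : DCoh.IsQCohD C :=
    (DCoh.IsQCohD (X := X)).ext_of_isTriangulatedClosed₃ _ hT hE hF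
  have h1 : IsZero ((DCoh.Rpush f).obj C) :=
    (Pretriangulated.Triangle.isZero₃_iff_isIso₁ _ ((DCoh.Rpush f).map_distinguished _ hT)).2 hα
  exact (Pretriangulated.Triangle.isZero₃_iff_isIso₁ _ hT).1
    (Groth.Agent.PerfA.GenPull.isZero_of_isZero_Rpush f C hC h1)

end Groth.Agent.S7257
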