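import Groth.Statements.S7258
import Groth.Agent.Perf.K368.ResolLim
import Groth.Agent.S4788
import Groth.Agent.S1110

set_option autoImplicit false
universe u
open CategoryTheory AlgebraicGeometry
open Perf

namespace Groth.Agent.S7258

/-- Let X = lim X_i, where the X_i form a cofiltered diagram of quasi-compact, quasi-separated schemes
and every transition map X_i → X_j is affine. The resolution property (every quasi-coherent
O_X-module of finite type is a quotient of a finite locally free O_X-module) holds for X if and only
if X_i has the resolution property for some index i. -/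
theorem result {I : Type u} [SmallCategory I] [IsCofiltered I]
    (D : I ⥤ Scheme.{u}) (c : Limits.Cone D) (hc : Limits.IsLimit c)
    [∀ (i j : I) (a : i ⟶ j), IsAffineHom (D.map a)] [∀ i, CompactSpace ↥(D.obj i)]
    [∀ i, QuasiSeparatedSpace ↥(D.obj i)] :
    PerfAux.HasResolutionProperty c.pt ↔ ∃ i : I, PerfAux.HasResolutionProperty (D.obj i) := by
  have : ∀ {i j : I} (a : i ⟶ j), IsAffineHom (D.map a) := fun {i j} a => inferInstance
  constructor
  · intro hX
    exact Groth.Agent.Perf.K368.ResolLim.exists_hasResolutionProperty D c hc hX
      fun i₀ F hF hFp => by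
        have : Coh.IsQCoh F := hF
        exact Groth.Agent.S4788.result D c hc i₀ F hFp
  · rintro ⟨i, hi⟩
    have : IsAffineHom (c.π.app i) := isAffineHom_π_app D c hc i
    exact Groth.Agent.S1110.result (c.π.app i) hi

end Groth.Agent.S7258
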