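import Groth.Statements.S7259
import Groth.Agent.Perf.K369.AmpTilde
import Groth.Agent.Sga67.ClosedPush

set_option autoImplicit false
universe u
open CategoryTheory CategoryTheory.Limits AlgebraicGeometry
attribute [local instance] HasDerivedCategory.standard
open Perf

namespace Groth.Agent.S7259

/-- Let R → A be a ring map, f : X = Spec A ⟶ S = Spec R the induced morphism, M an object of D(A), and
F a cochain complex of O_X-modules representing the associated object E = M~ of D(O_X) (tilde
recorded as exact). Then, viewed over f⁻¹O_S, the object E is of tor amplitude [a, b], in the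
stalkwise form (at every x ∈ X the complex of stalks F_x has tor amplitude in [a, b] over the local
ring O_{S, f(x)}), precisely when the R-module complex obtained from M is of tor amplitude [a, b]
(its restriction of scalars is isomorphic in D(R) to a complex of flat R-modules vanishing outside
[a, b]). -/
theorem result {R A : Type u} [CommRing R] [CommRing A] (φ : R →+* A)
    [PreservesFiniteLimits (tilde.functor (CommRingCat.of A))] (M : Dual.D A)
    (F : CochainComplex (Spec (CommRingCat.of A)).Modules ℤ)
    (hF : Nonempty (DCoh.toD (Spec (CommRingCat.of A)) F ≅ (DCoh.tildeD (CommRingCat.of A)).obj M)) (a b : ℤ) :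
    DerSch.HasTorAmplitude (Spec.map (CommRingCat.ofHom φ)) a b F ↔
      DRing.HasTorAmplitudeIn R a b ((DRing.restrictD φ).obj M) := by
  let i1 : Algebra R A := φ.toAlgebra
  let P := MvPolynomial A R
  let π : P →ₐ[R] A := MvPolynomial.aeval id
  have hπ : Function.Surjective π.toRingHom := fun a => ⟨MvPolynomial.X a, by
    change (MvPolynomial.aeval id) (MvPolynomial.X a) = a
    simp⟩
  have hφ : π.toRingHom.comp (algebraMap R P) = φ := by
    ext r
    exact π.commutes r
  let g : CommRingCat.of P ⟶ CommRingCat.of A := CommRingCat.ofHom π.toRingHom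
  have hg : IsClosedImmersion (Spec.map g) := IsClosedImmersion.spec_of_surjective g hπ
  have hfl : Flat (Spec.map (CommRingCat.ofHom (algebraMap R P))) := by
    rw [Flat.SpecMap_iff]
    exact RingHom.flat_algebraMap_iff.2 (inferInstance : Module.Flat R (MvPolynomial A R))
  have hcomp : Spec.map (CommRingCat.ofHom φ) =
      Spec.map g ≫ Spec.map (CommRingCat.ofHom (algebraMap R P)) := by
    rw [← Spec.map_comp]
    congr 1
    rw [← hφ]
    rfl
  have hP : PreservesFiniteLimits (tilde.functor (CommRingCat.of P)) :=
    PerfB.TildeExact.preservesFiniteLimits_tilde _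
  have hpush : PreservesFiniteColimits (Scheme.Modules.pushforward (Spec.map g)) :=
    Sga67.ClosedPush.preservesFiniteColimits_pushforward _
  obtain ⟨e⟩ := K369.AmpTilde.push_tilde_iso g M F hF
  have hRP : Module.Flat R P := (inferInstance : Module.Flat R (MvPolynomial A R))
  rw [hcomp, ← K239.AmpPush.hasTorAmplitude_push_iff, K239.AmpTrunc.hasTorAmplitude_iff]
  have h1 : DCoh.HasRelFlatAmplitudeIn (Spec.map (CommRingCat.ofHom (algebraMap R P))) a b
      (DCoh.toD _ (K239.AmpPush.pushC (Spec.map g) F)) ↔
      DCoh.HasRelFlatAmplitudeIn (Spec.map (CommRingCat.ofHom (algebraMap R P))) a b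
        ((DCoh.tildeD (CommRingCat.of P)).obj ((DRing.restrictD π.toRingHom).obj M)) :=
    ⟨Dual.H352.RelOpc.hasRelFlatAmplitudeIn_of_iso e, Dual.H352.RelOpc.hasRelFlatAmplitudeIn_of_iso e.symm⟩
  rw [h1, K368.TildeAmp.hasRelFlatAmplitudeIn_tildeD_iff]
  obtain ⟨e2⟩ := K369.AmpTilde.restrictD_comp_iso (algebraMap R P) π.toRingHom M
  rw [hφ] at e2
  exact ⟨K239.StalkAmp.hasTorAmplitudeIn_of_iso e2, K239.StalkAmp.hasTorAmplitudeIn_of_iso e2.symm⟩

end Groth.Agent.S7259
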