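import Groth.Statements.S7266
import Groth.Agent.Perf.K369.ApproxB

set_option autoImplicit false
universe u
open CategoryTheory CategoryTheory.Limits AlgebraicGeometry
attribute [local instance] HasDerivedCategory.standard
open Perf

namespace Groth.Agent.S7266

/-- Let X be a scheme written as X = U ∪ V with U, V open, where V is affine and both U and the
intersection U ∩ V are quasi-compact. Suppose approximation by perfect complexes is valid on U; it
is then also valid on X. Here 'approximation by perfect complexes holds on Y' means: for every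
closed T ⊆ Y with retrocompact complement there is an integer r such that for every m ∈ ℤ and every
(m - r)-pseudo-coherent E ∈ D(O_Y) with quasi-coherent cohomology sheaves and Hⁱ(E) supported on T
for i ≥ m - r, there are a perfect P ∈ D(O_Y) supported on T and P ⟶ E inducing isomorphisms on Hⁱ
for i > m and a surjection on Hᵐ. -/
theorem result {X : Scheme.{u}} (U V : X.Opens)
    (hU : IsCompact (U : Set ↥X)) (hV : IsAffineOpen V) (hUV : IsCompact ((U ⊓ V : X.Opens) : Set ↥X)) (hcov : U ⊔ V = ⊤)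
    (hAU : (∀ (T : Set ↥(U : Scheme.{u})), IsClosed T → IsRetrocompact Tᶜ → ∃ r : ℤ, ∀ (m : ℤ) (E : DCoh.D (U : Scheme.{u})), DCoh.IsQCohD E →
        DCoh.IsPseudoCoherentD (m - r) E → (∀ i : ℤ, m - r ≤ i → CohB1.support (DCoh.HD E i) ⊆ T) →
        ∃ (P : DCoh.D (U : Scheme.{u})) (α : P ⟶ E), DCoh.IsPerfect P ∧ (∀ i : ℤ, CohB1.support (DCoh.HD P i) ⊆ T) ∧
          (∀ i : ℤ, m < i → IsIso ((DerivedCategory.homologyFunctor _ i).map α)) ∧
          Epi ((DerivedCategory.homologyFunctor _ m).map α))) :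
    (∀ (T : Set ↥X), IsClosed T → IsRetrocompact Tᶜ → ∃ r : ℤ, ∀ (m : ℤ) (E : DCoh.D X), DCoh.IsQCohD E →
        DCoh.IsPseudoCoherentD (m - r) E → (∀ i : ℤ, m - r ≤ i → CohB1.support (DCoh.HD E i) ⊆ T) →
        ∃ (P : DCoh.D X) (α : P ⟶ E), DCoh.IsPerfect P ∧ (∀ i : ℤ, CohB1.support (DCoh.HD P i) ⊆ T) ∧
          (∀ i : ℤ, m < i → IsIso ((DerivedCategory.homologyFunctor _ i).map α)) ∧
          Epi ((DerivedCategory.homologyFunctor _ m).map α)) := by
  intro T hT hTc
  have hpreU : ∀ (O : X.Opens) (S : Set X), IsCompact ((O : Set X) ∩ S) →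
      IsCompact (O.ι ⁻¹' S) := by
    intro O S hS
    have h1 : O.ι '' (O.ι ⁻¹' S) = (O : Set X) ∩ S := by
      rw [Set.image_preimage_eq_inter_range, Set.inter_comm]
      congr 1
      exact O.range_ι
    exact (O.ι.isOpenEmbedding.isEmbedding.isCompact_iff).2 (h1 ▸ hS)
  have hVT : IsCompact ((V : Set X) ∩ Tᶜ) := by
    rw [Set.inter_comm]
    exact hTc hV.isCompact V.isOpen
  -- `U`
  obtain ⟨rU, hrU⟩ := hAU (U.ι ⁻¹' T) (hT.preimage U.ι.continuous) (by
    intro W hW hWo
    have h1 : U.ι '' ((U.ι ⁻¹' T)ᶜ ∩ W) = Tᶜ ∩ U.ι '' W := by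
      rw [← Set.preimage_compl, Set.inter_comm, Set.image_inter_preimage, Set.inter_comm]
    refine (U.ι.isOpenEmbedding.isEmbedding.isCompact_iff).2 ?_
    rw [h1]
    exact hTc (hW.image U.ι.continuous) (U.ι.isOpenEmbedding.isOpenMap _ hWo))
  -- `V`
  have hVa : IsAffine (V : Scheme.{u}) := hV
  obtain ⟨rV, hrV⟩ := Groth.Agent.PerfC.ApproxAffine2.exists_appR_of_isAffine
    (X := (V : Scheme.{u})) (V.ι ⁻¹' (T ∩ (U : Set X)ᶜ))
    ((hT.inter U.isOpen.isClosed_compl).preimage V.ι.continuous) (by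
      refine hpreU V (T ∩ (U : Set X)ᶜ)ᶜ ?_
      rw [Set.compl_inter, compl_compl, Set.inter_union_distrib_left]
      refine hVT.union ?_
      rw [Set.inter_comm]
      exact hUV)
  have hrU' : Groth.Agent.PerfC.Approx.AppR (U : Scheme.{u}) (U.ι ⁻¹' T) rU :=
    fun m E hQ hpc hs => K369.ApproxA.app_of_out (hrU m E hQ hpc hs)
  refine ⟨max rU 0 + rV, fun m E hQ hpc hs => ?_⟩
  exact (K369.ApproxB.step U V hcov hU hV hUV T hT (hpreU V Tᶜ hVT) (max rU 0) rV
    (le_max_right _ _) (by positivity)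
    (K369.ApproxB.appR_mono (le_max_left _ _) hrU') hrV m E hQ hpc hs).out

end Groth.Agent.S7266
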