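import Groth.Statements.S7272
import Groth.Agent.Perf.K369.LocRoof
import Groth.Agent.S1036
import Groth.Agent.S1037
import Groth.Agent.S1038
import Groth.Agent.PerfB.ResolCone

set_option autoImplicit false
universe u
open CategoryTheory CategoryTheory.Limits AlgebraicGeometry
attribute [local instance] HasDerivedCategory.standard
open Perf

namespace Groth.Agent.S7272

/-- Suppose X is a scheme that is quasi-compact, quasi-separated and has the resolution property; write
A for the additive category of finite locally free O_X-modules and D_perf(O_X) for the full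
subcategory of perfect objects of D(O_X). The obvious functor from bounded complexes in A to
D_perf(O_X) identifies D_perf(O_X) with the localisation of the bounded (homotopy) category of A at
the quasi-isomorphisms: stated here as 'the functor from the full subcategory of bounded complexes
of finite locally free modules to D_perf(O_X), E ↦ E viewed in D(O_X), is a localization functor for
the class of quasi-isomorphisms' (that this functor lands in perfect objects is supplied as the
hypothesis h). -/
theorem result (X : Scheme.{u}) [CompactSpace ↥X] [QuasiSeparatedSpace ↥X]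
    (hX : PerfAux.HasResolutionProperty X)
    (h : ∀ E : ObjectProperty.FullSubcategory (fun E : CochainComplex X.Modules ℤ => DCoh.IsStrictlyPerfect E), DCoh.IsPerfect ((ObjectProperty.ι (fun E : CochainComplex X.Modules ℤ => DCoh.IsStrictlyPerfect E) ⋙ DerivedCategory.Q).obj E)) :
    (ObjectProperty.lift (fun K : DCoh.D X => DCoh.IsPerfect K) (ObjectProperty.ι (fun E : CochainComplex X.Modules ℤ => DCoh.IsStrictlyPerfect E) ⋙ DerivedCategory.Q) h).IsLocalization
      ((HomologicalComplex.quasiIso X.Modules (ComplexShape.up ℤ)).inverseImage (ObjectProperty.ι (fun E : CochainComplex X.Modules ℤ => DCoh.IsStrictlyPerfect E))) := by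
  classical
  let P : ObjectProperty (CochainComplex X.Modules ℤ) := fun E => DCoh.IsStrictlyPerfect E
  let L := ObjectProperty.lift (fun K : DCoh.D X => DCoh.IsPerfect K)
    (P.ι ⋙ DerivedCategory.Q) h
  let W : MorphismProperty P.FullSubcategory :=
    (HomologicalComplex.quasiIso X.Modules (ComplexShape.up ℤ)).inverseImage P.ι
  have hcyl : ∀ K : CochainComplex X.Modules ℤ, DCoh.IsStrictlyPerfect K →
      DCoh.IsStrictlyPerfect (HomologicalComplex.cylinder K) := by
    intro K hK
    refine PerfB.ResolCone.isStrictlyPerfect_mappingCone hK ?_ _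
    obtain ⟨⟨a, b, hab⟩, hK⟩ := hK
    refine ⟨⟨a, b, fun i hi => ?_⟩, fun i => ?_⟩
    · refine IsZero.of_iso ?_ (HomologicalComplex.biprodXIso K K i)
      exact biprod_isZero_iff _ _ |>.2 ⟨hab i hi, hab i hi⟩
    · exact Dcoh.FinLocFree.isFinLocFree_of_iso (HomologicalComplex.biprodXIso K K i).symm
        (Dcoh.FinLocFree.isFinLocFree_biprod (hK i) (hK i))
  have hWiff : ∀ {E F : P.FullSubcategory} (f : E ⟶ F), W f ↔ QuasiIso f.hom := by
    intro E F f
    exact Iff.rfl
  have hhtp : ∀ {E F : P.FullSubcategory} (f g : E ⟶ F), Homotopy f.hom g.hom →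
      W.Q.map f = W.Q.map g := by
    intro E F f g hfg
    let C : P.FullSubcategory := ⟨HomologicalComplex.cylinder E.obj, hcyl _ E.property⟩
    let i₀ : E ⟶ C := ObjectProperty.homMk (HomologicalComplex.cylinder.ι₀ E.obj)
    let i₁ : E ⟶ C := ObjectProperty.homMk (HomologicalComplex.cylinder.ι₁ E.obj)
    let p : C ⟶ E := ObjectProperty.homMk (HomologicalComplex.cylinder.π E.obj)
    let d : C ⟶ F := ObjectProperty.homMk (HomologicalComplex.cylinder.desc f.hom g.hom hfg)
    have h0 : i₀ ≫ p = 𝟙 _ := by
      ext1
      exact HomologicalComplex.cylinder.ι₀_π E.obj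
    have h1 : i₁ ≫ p = 𝟙 _ := by
      ext1
      exact HomologicalComplex.cylinder.ι₁_π E.obj
    have hf : i₀ ≫ d = f := by
      ext1
      exact HomologicalComplex.cylinder.ι₀_desc _ _ hfg
    have hg : i₁ ≫ d = g := by
      ext1
      exact HomologicalComplex.cylinder.ι₁_desc _ _ hfg
    have hp : W p := by
      rw [hWiff]
      let e := HomologicalComplex.cylinder.homotopyEquiv E.obj
        (fun n => ⟨n - 1, by simp⟩)
      exact (inferInstance : QuasiIso e.hom)
    have hiso : IsIso (W.Q.map p) := W.Q_inverts p hp
    have h01 : W.Q.map i₀ = W.Q.map i₁ := by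
      rw [← cancel_mono (W.Q.map p), ← Functor.map_comp, ← Functor.map_comp, h0, h1]
    rw [← hf, ← hg, Functor.map_comp, Functor.map_comp, h01]
  have hroofs : K369.LocRoof.Roofs W L := by
    refine ⟨fun E F f hf => ?_, fun E F α => ?_, fun E F a b hab => ?_⟩
    · have h1 : QuasiIso f.hom := (hWiff f).1 hf
      have h2 : IsIso (DerivedCategory.Q.map f.hom) := by infer_instance
      have h3 : IsIso ((ObjectProperty.ι (fun K : DCoh.D X => DCoh.IsPerfect K)).map (L.map f)) :=
        h2
      exact isIso_of_reflects_iso _ (ObjectProperty.ι (fun K : DCoh.D X => DCoh.IsPerfect K))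
    · obtain ⟨G, g, k, hG, hg, e⟩ := Groth.Agent.S1037.result X hX E.obj F.obj E.property
        F.property α.hom
      refine ⟨⟨G, hG⟩, ObjectProperty.homMk g, ObjectProperty.homMk k, hg, ?_⟩
      ext1
      exact e
    · have hab' : DerivedCategory.Q.map a.hom = DerivedCategory.Q.map b.hom :=
        congrArg (fun t => t.hom) hab
      obtain ⟨G, γ, hG, hγ, ⟨htp⟩⟩ := Groth.Agent.S1038.result X hX E.obj F.obj E.property
        F.property a.hom b.hom hab'
      let G' : P.FullSubcategory := ⟨G, hG⟩
      let γ' : G' ⟶ E := ObjectProperty.homMk γ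
      have hγ' : W γ' := hγ
      have hiso : IsIso (W.Q.map γ') := W.Q_inverts γ' hγ'
      rw [← cancel_epi (W.Q.map γ'), ← Functor.map_comp, ← Functor.map_comp]
      exact hhtp _ _ htp
  have hess : L.EssSurj := ⟨fun K => by
    obtain ⟨E, hE, ⟨e⟩⟩ := Groth.Agent.S1036.result X hX K.obj K.property
    refine ⟨⟨E, hE⟩, ⟨?_⟩⟩
    exact (ObjectProperty.fullyFaithfulι _).preimageIso e⟩
  exact hroofs.isLocalization

end Groth.Agent.S7272
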