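import Groth.Statements.S7273
import Groth.Agent.Perf.K369.RelDualIso

set_option autoImplicit false
universe u
open CategoryTheory CategoryTheory.Limits AlgebraicGeometry
attribute [local instance] HasDerivedCategory.standard
open Perf

namespace Groth.Agent.S7273

/-- Let S be a quasi-compact and quasi-separated scheme, f : X ⟶ S proper, flat and of finite
presentation, E an S-perfect object of D(O_X) (m-pseudo-coherent for every m, and locally on X
represented by a bounded complex of O_X-modules flat over S) and K a pseudo-coherent object of
D(O_X), given through a representing cochain complex. Assuming the derived functors - ⊗^L K, RHom(K,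
-) and Rf_* exist, there is a pseudo-coherent L ∈ D(O_S), given by a cochain complex, such that Rf_*
RHom(K, E) ≅ RHom(L, O_S) in D(O_S) whenever - ⊗^L L and RHom(L, -) exist (existence of L and of an
isomorphism only). (The published statement adds that the same L computes Rf'_* RHom(L(g')^*K,
L(g')^*E) as RHom(Lg^*L, O_{S'}) after any base change g : S' ⟶ S; this row states the formula over
S only.) -/
theorem result {X S : Scheme.{u}} [CompactSpace ↥S]
    [QuasiSeparatedSpace ↥S] (f : X ⟶ S) [IsProper f] [Flat f] [LocallyOfFinitePresentation f] [DCoh.HasRpush f]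
    (E : DCoh.D X) (hEpc : ∀ m : ℤ, DCoh.IsPseudoCoherentD m E) (hEtor : DCoh.LocHasFiniteRelTorDim f E)
    (K : CochainComplex X.Modules ℤ) (hK : ∀ m : ℤ, DCoh.IsPseudoCoherentD m (DCoh.toD X K))
    [DCoh.HasLTensorCx K] [DCoh.HasRSheafHom K] :
    ∃ L : CochainComplex S.Modules ℤ, (∀ m : ℤ, DCoh.IsPseudoCoherentD m (DCoh.toD S L)) ∧
      ∀ [DCoh.HasLTensorCx L] [DCoh.HasRSheafHom L],
        Nonempty ((DCoh.Rpush f).obj ((DCoh.RSheafHom K).obj E) ≅
          (DCoh.RSheafHom L).obj (DCoh.inD S (Coh.structureModule S))) := by
  exact K369.RelDualIso.main f E hEpc hEtor K hK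

end Groth.Agent.S7273
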