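import Groth.Statements.S7274
import Groth.Agent.Perf.K233.SplitLoc
import Groth.Agent.Perf.K233.SteinPush
import Groth.Agent.Perf.K233.DirIm
import Groth.Agent.Perf.K233.GeomPost
import Groth.Agent.Pi1.H381.SpecConn
import Groth.Agent.PicF.K245.GeomCR
import Groth.Agent.S0435
import Mathlib.AlgebraicGeometry.Normalization
import Mathlib.AlgebraicGeometry.Morphisms.Finite
import Mathlib.AlgebraicGeometry.Morphisms.Etale

set_option autoImplicit false
universe u
open CategoryTheory CategoryTheory.Limits AlgebraicGeometry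
attribute [local instance] HasDerivedCategory.standard
open Perf

namespace Groth.Agent.S7274

open Groth.Agent Groth.Agent.Dcoh Groth.Agent.Dcoh.LocalD Groth.Agent.PerfB

/-- The Stein factorisation of a flat proper morphism with geometrically reduced fibres, with
`h_* O = O` universally. -/
theorem stein_data {X S : Scheme.{u}} (f : X ⟶ S) [IsProper f] [Flat f] [LocallyOfFinitePresentation f]
    [GeometricallyReduced f] :
    ∃ (N : Scheme.{u}) (h : X ⟶ N) (p : N ⟶ S), h ≫ p = f ∧ IsFinite p ∧ Etale p ∧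
      (∀ {X' N' : Scheme.{u}} (g' : X' ⟶ X) (h' : X' ⟶ N') (g : N' ⟶ N), IsPullback g' h' h g →
        ∀ U : N'.Opens, IsIso (h'.app U)) := by
  obtain ⟨h1, h2, h3, h4, h5, h6⟩ := Pi1.H381.SpecConn.stein f
  refine ⟨f.normalization, f.toNormalization, f.fromNormalization,
    f.toNormalization_fromNormalization, h1, h2, ?_⟩
  have h0 : f.toNormalization ≫ f.fromNormalization = f := f.toNormalization_fromNormalization
  have hprop : IsProper f.toNormalization := by
    have : IsProper (f.toNormalization ≫ f.fromNormalization) := by rw [h0]; infer_instance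
    exact IsProper.of_comp f.toNormalization f.fromNormalization
  have hred : GeometricallyReduced f.toNormalization := by
    have : GeometricallyReduced (f.toNormalization ≫ f.fromNormalization) := by
      rw [h0]; infer_instance
    exact K233.GeomPost.geometricallyReduced_of_comp f.toNormalization f.fromNormalization
  intro X' N' g' h' g sq U
  have i1 : IsProper h' := MorphismProperty.of_isPullback sq hprop
  have i2 : Flat h' := MorphismProperty.of_isPullback sq h3
  have i3 : LocallyOfFinitePresentation h' := MorphismProperty.of_isPullback sq h4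
  have i4 : GeometricallyConnected h' := MorphismProperty.of_isPullback sq h6
  have i5 : GeometricallyReduced h' := MorphismProperty.of_isPullback sq hred
  exact K245.GeomCR.isIso_app h' U

/-- Let f : X ⟶ S be proper, flat and of finite presentation and let s ∈ S be a point whose fibre X_s is
geometrically reduced over κ(s). Then s has an open neighbourhood V over which, writing f_V : f⁻¹V ⟶
V: the direct-image algebra (f_V)_*O_{f⁻¹V} is a finite étale O_V-algebra (its relative spectrum is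
finite and étale over V), and, assuming R(f_V)_* exists and binary direct sums in D(O_V) are
available, there is a direct sum decomposition R(f_V)_*O_{f⁻¹V} ≅ (f_V)_*O_{f⁻¹V}[0] ⊕ P in D(O_V)
with P perfect of tor amplitude in [1, b] for some b (existence of the decomposition). -/
theorem result {X S : Scheme.{u}} (f : X ⟶ S)
    [IsProper f] [Flat f] [LocallyOfFinitePresentation f] (s : S)
    (hs : GeometricallyReduced (f.fiberToSpecResidueField s)) :
    ∃ V : S.Opens, s ∈ V ∧
      (IsFinite (RelSpec.QCAlg.directImage (f ∣_ V)).π ∧ Etale (RelSpec.QCAlg.directImage (f ∣_ V)).π) ∧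
      ∀ [DCoh.HasRpush (f ∣_ V)] [∀ A B : DCoh.D (V : Scheme.{u}), HasBinaryBiproduct A B],
        ∃ (P : DCoh.D (V : Scheme.{u})) (b : ℤ), DCoh.IsPerfect P ∧ DCoh.HasTorAmplitudeIn 1 b P ∧
          Nonempty ((DCoh.Rpush (f ∣_ V)).obj
              (DCoh.inD (f ⁻¹ᵁ V : Scheme.{u}) (Coh.structureModule (f ⁻¹ᵁ V : Scheme.{u}))) ≅
            DCoh.inD (V : Scheme.{u}) ((Coh.push (f ∣_ V)).obj (Coh.structureModule (f ⁻¹ᵁ V : Scheme.{u}))) ⊞ P) := by
  let V₀ : S.Opens := ⟨{y : S | GeometricallyReduced (f.fiberToSpecResidueField y)}, S0435.result f⟩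
  have hred : ∀ V : S.Opens, V ≤ V₀ → GeometricallyReduced (f ∣_ V) := fun V hV =>
    K233.GeomPost.geometricallyReduced_restrict f V fun y hy => hV hy
  have h0 : GeometricallyReduced (f ∣_ V₀) := hred V₀ le_rfl
  have r0 := DerSch.hasRpush f
  have r1 := DerSch.hasRpush (f ∣_ V₀)
  -- the direct image is finite locally free over `V₀`
  have hfree : FlatMod.IsFinLocFree ((Scheme.Modules.pushforward (f ∣_ V₀)).obj
      (Coh.structureModule (f ⁻¹ᵁ V₀ : Scheme.{u}))) := by
    obtain ⟨N, h, p, hf, h1, h2, h3⟩ := stein_data (f ∣_ V₀)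
    have i1 : Flat p := inferInstance
    have i2 : LocallyOfFinitePresentation p := inferInstance
    exact isFinLocFree_of_iso (K233.SteinPush.pushIso (f ∣_ V₀) h p hf
      (h3 (𝟙 _) h (𝟙 _) IsPullback.of_id_fst)).symm (K233.SteinPush.isFinLocFree_push p)
  have hloc := K233.SplitLoc.locally_splitD (f ∣_ V₀) hfree (fun V Z t => by
    obtain ⟨N, h, p, hf, h1, h2, h3⟩ := stein_data ((f ∣_ V₀) ∣_ V)
    exact K233.SteinPush.nonempty_bc ((f ∣_ V₀) ∣_ V) h p hf h3 t)
  obtain ⟨V', hsV', hV'⟩ := hloc ⟨s, hs⟩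
  obtain ⟨e0⟩ := H0Fibre.nonempty_restrict_Rpush_inD f V₀ (Coh.structureModule X)
  let e1 : (DCoh.restrictD V₀.ι).obj ((DCoh.Rpush f).obj (DCoh.inD X (Coh.structureModule X))) ≅
      (DCoh.Rpush (f ∣_ V₀)).obj (DCoh.inD _ (Coh.structureModule (f ⁻¹ᵁ V₀ : Scheme.{u}))) :=
    e0 ≪≫ (DCoh.Rpush (f ∣_ V₀)).mapIso ((DerivedCategory.singleFunctor _ 0).mapIso
      (structureRestrict (f ⁻¹ᵁ V₀).ι))
  have hV2 : K233.SplitLoc.SplitD (V' : Scheme.{u}) ((DCoh.restrictD (V'.ι ≫ V₀.ι)).obj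
      ((DCoh.Rpush f).obj (DCoh.inD X (Coh.structureModule X)))) :=
    K233.SplitLoc.isStable_splitD.iso
      ((DCoh.restrictD V'.ι).mapIso e1.symm ≪≫ (restrictComp V'.ι V₀.ι).app _) hV'
  let V : S.Opens := (V'.ι ≫ V₀.ι).opensRange
  have hVV₀ : V ≤ V₀ := by
    rintro _ ⟨y, rfl⟩
    exact (V'.ι y).2
  have hsV : s ∈ V := ⟨⟨⟨s, hs⟩, hsV'⟩, rfl⟩
  have hV3 : K233.SplitLoc.SplitD (V : Scheme.{u}) ((DCoh.restrictD V.ι).obj
      ((DCoh.Rpush f).obj (DCoh.inD X (Coh.structureModule X)))) :=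
    K233.SplitLoc.isStable_splitD.of_range_le (V'.ι ≫ V₀.ι) V.ι (by simp [V]) hV2
  have hredV := hred V hVV₀
  refine ⟨V, hsV, ?_, ?_⟩
  · obtain ⟨N, h, p, hf, h1, h2, h3⟩ := stein_data (f ∣_ V)
    exact ⟨K233.DirIm.isFinite_directImage (f ∣_ V) h p hf (h3 (𝟙 _) h (𝟙 _) IsPullback.of_id_fst),
      K233.DirIm.etale_directImage (f ∣_ V) h p hf (h3 (𝟙 _) h (𝟙 _) IsPullback.of_id_fst)⟩
  · intro _ _
    obtain ⟨C, b, N, hC1, hC2, ⟨e2⟩, ⟨e3⟩⟩ := hV3
    obtain ⟨e4⟩ := H0Fibre.nonempty_restrict_Rpush_inD f V (Coh.structureModule X)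
    let e5 : (DCoh.restrictD V.ι).obj ((DCoh.Rpush f).obj (DCoh.inD X (Coh.structureModule X))) ≅
        (DCoh.Rpush (f ∣_ V)).obj (DCoh.inD _ (Coh.structureModule (f ⁻¹ᵁ V : Scheme.{u}))) :=
      e4 ≪≫ (DCoh.Rpush (f ∣_ V)).mapIso ((DerivedCategory.singleFunctor _ 0).mapIso
        (structureRestrict (f ⁻¹ᵁ V).ι))
    let e6 : N ≅ (Coh.push (f ∣_ V)).obj (Coh.structureModule (f ⁻¹ᵁ V : Scheme.{u})) :=
      e2.symm ≪≫ (DerivedCategory.homologyFunctor _ 0).mapIso e5 ≪≫ H0Fibre.HDzero (f ∣_ V) _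
    refine ⟨DerivedCategory.Q.obj C, b, isPerfect_Q ⟨⟨1, b, hC1⟩, hC2⟩, ?_, ?_⟩
    · exact LTMod.torAmplitude_of_flatAmplitude ⟨C, hC1, fun n => Spread.isFlat_of_isFinLocFree (hC2 n),
        ⟨Iso.refl _⟩⟩
    · exact ⟨e5.symm ≪≫ e3 ≪≫ biprod.mapIso ((DerivedCategory.singleFunctor _ 0).mapIso e6) (Iso.refl _)⟩

end Groth.Agent.S7274
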