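import Groth.Statements.S7286
import Groth.Agent.Proet.WCExist
import Groth.Agent.S0177
import Groth.Agent.S0736

set_option autoImplicit false
open CategoryTheory CategoryTheory.Limits AlgebraicGeometry Opposite
universe u
open ProEtS

namespace Groth.Agent.S7286

/-- Transposed to the small pro-etale site: every object U of the small pro-etale site of a scheme X has
a covering family all of whose members are affine schemes whose rings of global functions are
w-contractible. -/
theorem result {X : Scheme.{u}} (U : X.ProEt) :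
    ∃ (ι : Type u) (V : ι → X.ProEt) (g : ∀ i, V i ⟶ U),
      Sieve.generate (Presieve.ofArrows V g) ∈ Scheme.ProEt.topology X U ∧
        ∀ i, IsAffine (V i).left ∧ EtPBC.IsWContractible ↥(Γ((V i).left, ⊤)) := by
  have hwc : Groth.Agent.Proet.WCExist.HasWCCover.{u} := fun A _ => by
    obtain ⟨D, i1, i2, h1, h2, h3⟩ := Groth.Agent.S0177.result A
    exact ⟨D, i1, i2, h1, Groth.Agent.S0736.result A D h2, h3⟩
  have hT' : ∀ i : U.left.affineOpens, IsAffine (Groth.Agent.Proet.WCClopen.openObj U i.1).left :=
    fun i => i.2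
  choose V g hV hg hwcV using fun i : U.left.affineOpens =>
    Groth.Agent.Proet.WCExist.exists_affine_wc_cover hwc (Groth.Agent.Proet.WCClopen.openObj U i.1)
  refine ⟨U.left.affineOpens, V, fun i => g i ≫ Groth.Agent.Proet.WCClopen.openHom U i.1, ?_,
    fun i => ⟨hV i, ?_⟩⟩
  · have h1 : Sieve.generate (Presieve.ofArrows _
        (fun i : U.left.affineOpens => Groth.Agent.Proet.WCClopen.openHom U i.1)) ∈
        Scheme.ProEt.topology X U := by
      refine Groth.Agent.Proet.WCBasic.ofArrows_openImmersion_mem _
        (fun i => inferInstanceAs (IsOpenImmersion i.1.ι)) fun x => ?_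
      obtain ⟨T, hT, hx, -⟩ := U.left.isBasis_affineOpens.exists_subset_of_mem_open
        (Set.mem_univ x) isOpen_univ
      obtain ⟨T', hT', rfl⟩ := hT
      exact ⟨⟨T', hT'⟩, ⟨x, hx⟩, rfl⟩
    refine (Scheme.ProEt.topology X).transitive h1 _ ?_
    rintro Y f ⟨_, k, _, ⟨i⟩, rfl⟩
    rw [Sieve.pullback_comp]
    apply (Scheme.ProEt.topology X).pullback_stable
    refine (Scheme.ProEt.topology X).superset_covering ?_
      (Groth.Agent.Proet.WCBasic.generate_singleton_mem (g i))
    rw [Sieve.generate_le_iff]
    rintro _ _ ⟨⟩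
    exact ⟨_, 𝟙 _, _, Presieve.ofArrows.mk i, by simp⟩
  · exact (Groth.Agent.Proet.WC.isWContractible_iff_isWC (V i)).2 (hwcV i)

end Groth.Agent.S7286
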