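import Groth.Statements.S7284
import Groth.Agent.ProEtS.K166.Points
import Groth.Agent.S7286
import Groth.Agent.Proet.WC

set_option autoImplicit false
open CategoryTheory CategoryTheory.Limits AlgebraicGeometry Opposite
universe u
open ProEtS

namespace Groth.Agent.S7284

/-- For every scheme S the small pro-etale site of S has enough points, that is, it admits a small
conservative family of points (fibre functors valued one universe up, the universe in which
pro-etale sheaves are valued). -/
theorem result (S : Scheme.{u}) :
    GrothendieckTopology.HasEnoughPoints.{u + 1} (Scheme.ProEt.topology S) := by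
  let I : Type (u + 1) := Σ (V : S.ProEt),
    {c : V.left // IsAffine V.left ∧ ProEtS.IsWC V}
  let P : ObjectProperty (GrothendieckTopology.Point.{u + 1} (Scheme.ProEt.topology S)) :=
    ObjectProperty.ofObj (fun i : I =>
      haveI := i.2.2.1
      K166.ProEtPt.pt i.2.2.2 i.2.1)
  refine ⟨P, inferInstance, ObjectProperty.IsConservativeFamilyOfPoints.mk' fun Z R hR => ?_⟩
  obtain ⟨ι, V, g, hcov, hV⟩ := Groth.Agent.S7286.result Z
  refine (Scheme.ProEt.topology S).transitive hcov _ ?_
  rintro Y f ⟨_, k, _, ⟨i⟩, rfl⟩
  rw [Sieve.pullback_comp]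
  apply (Scheme.ProEt.topology S).pullback_stable
  haveI := (hV i).1
  have hwc : ProEtS.IsWC (V i) :=
    (Groth.Agent.Proet.WC.isWContractible_iff_isWC (V i)).1 (hV i).2
  refine K166.ProEtPt.mem_of_pt hwc (g i) R fun c x => ?_
  exact hR ⟨K166.ProEtPt.pt hwc c, ⟨(⟨V i, c, (hV i).1, hwc⟩ : I)⟩⟩ x

end Groth.Agent.S7284
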