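import Groth.Statements.S7290
import Groth.Agent.ConstrTop.K391.Basic

set_option autoImplicit false
open CategoryTheory CategoryTheory.Limits AlgebraicGeometry Opposite
universe u
open ProEtW

namespace Groth.Agent.S7290

open Topology TopologicalSpace in
/-- Membership in a constructible set of `Spec A` is decided by finitely many elements. -/
theorem exists_finset {A : Type u} [CommRing A] {T : Set (PrimeSpectrum A)}
    (hT : IsConstructible T) :
    ∃ E : Finset A, ∀ x y : PrimeSpectrum A, (∀ f ∈ E, f ∈ x.asIdeal ↔ f ∈ y.asIdeal) →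
      (x ∈ T → y ∈ T) := by
  classical
  have key : ∀ U : Set (PrimeSpectrum A), IsOpen U → IsRetrocompact U →
      ∃ E : Finset A, ∀ x y : PrimeSpectrum A, (∀ f ∈ E, f ∈ x.asIdeal ↔ f ∈ y.asIdeal) →
      (x ∈ U ↔ y ∈ U) := by
    intro U hU hUr
    obtain ⟨t, rfl⟩ := PrimeSpectrum.isCompact_isOpen_iff.mp ⟨hUr.isCompact, hU⟩
    refine ⟨t, fun x y h => ?_⟩
    simp only [Set.mem_compl_iff, PrimeSpectrum.mem_zeroLocus, not_iff_not]
    constructor
    · intro hx f hf
      exact (h f hf).mp (hx hf)
    · intro hy f hf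
      exact (h f hf).mpr (hy hf)
  obtain ⟨n, U, V, hU, hV, rfl⟩ := K391.Basic.exists_decomp hT
  choose E hE using fun i => key (U i) (hU i).1 (hU i).2
  choose F hF using fun i => key (V i) (hV i).1 (hV i).2
  refine ⟨Finset.univ.biUnion fun i => E i ∪ F i, fun x y h hx => ?_⟩
  obtain ⟨i, hi⟩ := Set.mem_iUnion.mp hx
  refine Set.mem_iUnion.mpr ⟨i, ?_, ?_⟩
  · refine (hE i x y fun f hf => h f ?_).mp hi.1
    exact Finset.mem_biUnion.mpr ⟨i, Finset.mem_univ _, Finset.mem_union_left _ hf⟩
  · refine fun hy => hi.2 ((hF i x y fun f hf => h f ?_).mpr hy)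
    exact Finset.mem_biUnion.mpr ⟨i, Finset.mem_univ _, Finset.mem_union_right _ hf⟩

/-- Let A be a ring and let Spec A be the disjoint union of finitely many constructible subsets T_i.
Then there is a finite subset E of A such that the stratification of Spec A according to which
elements of E vanish at a point refines the given one: each nonempty stratum, consisting of the
primes whose intersection with E is a prescribed subset, is contained in one of the T_i. -/
theorem result (A : Type u) [CommRing A] {ι : Type u} [Finite ι]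
    (T : ι → Set (PrimeSpectrum A)) (hT : ∀ i, Topology.IsConstructible (T i))
    (hcov : ⋃ i, T i = Set.univ) (hdisj : Pairwise fun i j => Disjoint (T i) (T j)) :
    ∃ E : Finset A, ∀ E'' : Finset A, E'' ⊆ E →
      ∀ x : PrimeSpectrum A, (∀ f ∈ E, f ∈ x.asIdeal ↔ f ∈ E'') →
        ∃ i, {y : PrimeSpectrum A | ∀ f ∈ E, f ∈ y.asIdeal ↔ f ∈ E''} ⊆ T i := by
  classical
  choose E hE using fun i => exists_finset (hT i)
  have := Fintype.ofFinite ι
  refine ⟨Finset.univ.biUnion E, fun E'' _ x hx => ?_⟩
  obtain ⟨i, hi⟩ : ∃ i, x ∈ T i := Set.mem_iUnion.mp (hcov ▸ Set.mem_univ x)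
  refine ⟨i, fun y hy => hE i x y (fun f hf => ?_) hi⟩
  have hf' : f ∈ Finset.univ.biUnion E := Finset.mem_biUnion.mpr ⟨i, Finset.mem_univ _, hf⟩
  exact (hx f hf').trans (hy f hf').symm

end Groth.Agent.S7290
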