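import Groth.Statements.S7304
import Groth.Agent.Resolve.K372.AdmDesc
import Groth.Agent.S0543

set_option autoImplicit false
universe u
open CategoryTheory CategoryTheory.Limits AlgebraicGeometry
open Resolve

namespace Groth.Agent.S7304

/-- Let (A, m) be a Noetherian local ring with m-adic completion A^, and U ⊂ Spec A, U^ ⊂ Spec A^ the
punctured spectra. If c : Y → Spec A^ is a U^-admissible blowing up (a blowing up in a
quasi-coherent ideal of finite type whose support misses U^), then there is a U-admissible blowing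
up b : X → Spec A such that Y is isomorphic, over Spec A^, to the base change of X to Spec A^. -/
theorem result (A : Type u) [CommRing A] [IsLocalRing A] [IsNoetherianRing A]
    (Y : Scheme.{u}) (c : Y ⟶ Spec (CommRingCat.of (Curv2.cpl A)))
    (J : (Spec (CommRingCat.of (Curv2.cpl A))).IdealSheafData)
    (hJ : BlowUp.IsAdmissibleFor (FEt.puncturedSpec (Curv2.cpl A)) J) (hc : BlowUp.IsBlowUp c J) :
    ∃ (I : (Spec (CommRingCat.of A)).IdealSheafData) (X : Scheme.{u}) (b : X ⟶ Spec (CommRingCat.of A)),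
      BlowUp.IsAdmissibleFor (FEt.puncturedSpec A) I ∧ BlowUp.IsBlowUp b I ∧
      ∃ e : Y ≅ Curv2.bcCpl A b, e.hom ≫ Curv2.bcCplSnd A b = c := by
  have : IsNoetherianRing (Curv2.cpl A) := Groth.Agent.S0543.result A _
  obtain ⟨J, rfl⟩ := K372.AdmDesc.exists_eq_idealSheaf J
  obtain ⟨n, hn⟩ := (K372.AdmDesc.isAdmissibleFor_puncturedSpec_iff J).1 hJ
  obtain ⟨I, X, b, h1, -, h3, h4⟩ := K372.AdmDesc.exists_descend A c J n hn hc
  exact ⟨_, X, b, (K372.AdmDesc.isAdmissibleFor_puncturedSpec_iff I).2 ⟨n, h1⟩, h3, h4⟩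

end Groth.Agent.S7304
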