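import Groth.Statements.S7306
import Groth.Agent.Resolve.K372.ResTfae

set_option autoImplicit false
universe u
open CategoryTheory CategoryTheory.Limits AlgebraicGeometry
open Resolve

namespace Groth.Agent.S7306

/-- Let Y be an integral Noetherian scheme of dimension two. Then (1) there is an alteration X → Y with
X regular, if and only if (2) Y has a resolution of singularities, i.e. a proper morphism X → Y from
an integral regular scheme which is an isomorphism over a nonempty open of Y; and (2) holds if and
only if (4) the normalization Y' → Y is finite, Y' has finitely many non-regular points, and at each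
non-regular point of Y' the completion of the local ring is a normal domain. (The published
statement lists a further equivalent condition, resolution by a finite sequence of normalized
blowings up in closed points; this row does not include it, and it is stated separately. The
quasi-compactness and quasi-separatedness binders on Spec K(Y) → Y always hold; they are needed only
to form the normalization.) -/
theorem result (Y : Scheme.{u}) [IsIntegral Y] [IsNoetherian Y]
    (hdim : topologicalKrullDim Y = 2)
    [QuasiCompact (Y.fromSpecStalk (genericPoint Y))] [QuasiSeparated (Y.fromSpecStalk (genericPoint Y))] :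
    ((∃ (X : Scheme.{u}) (g : X ⟶ Y), Curv2.IsAlteration g ∧ ∀ x : X, IsRegularLocalRing (X.presheaf.stalk x)) ↔
      (∃ (X : Scheme.{u}) (g : X ⟶ Y), IsProper g ∧ IsIntegral X ∧
        (∃ V : Y.Opens, (V : Set Y).Nonempty ∧ IsIso (g ∣_ V)) ∧ ∀ x : X, IsRegularLocalRing (X.presheaf.stalk x))) ∧
    ((∃ (X : Scheme.{u}) (g : X ⟶ Y), IsProper g ∧ IsIntegral X ∧
        (∃ V : Y.Opens, (V : Set Y).Nonempty ∧ IsIso (g ∣_ V)) ∧ ∀ x : X, IsRegularLocalRing (X.presheaf.stalk x)) ↔
      (IsFinite (Curv2.normalizationι Y) ∧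
        {y : ↥(Curv2.normalization Y) | ¬ IsRegularLocalRing ((Curv2.normalization Y).presheaf.stalk y)}.Finite ∧
        ∀ y : ↥(Curv2.normalization Y), ¬ IsRegularLocalRing ((Curv2.normalization Y).presheaf.stalk y) →
          IsDomain (Curv2.cpl ((Curv2.normalization Y).presheaf.stalk y)) ∧
          IsIntegrallyClosed (Curv2.cpl ((Curv2.normalization Y).presheaf.stalk y)))) := by
  have hd : ∀ y : Y, ringKrullDim (Y.presheaf.stalk y) ≤ 2 := fun y =>
    (Groth.Agent.CurvesB.DimPts.ringKrullDim_stalk_le y).trans hdim.le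
  have hdom : ∀ (X : Scheme.{u}) (g : X ⟶ Y), IsProper g → IsIntegral X →
      (∃ V : Y.Opens, (V : Set Y).Nonempty ∧ IsIso (g ∣_ V)) → IsDominant g := by
    intro X g h1 h2 h3
    have h4 : Groth.Agent.CurvesC.Modif.IsModif g := ⟨h1, h2, h3⟩
    have := h4.surjective
    infer_instance
  refine ⟨⟨?_, ?_⟩, ⟨?_, ?_⟩⟩
  · rintro ⟨X, g, ⟨hp, hX, -, hd', -⟩, hreg⟩
    obtain ⟨h1, h2, h3⟩ := K372.ResTfae.of_alteration hd g hreg
    obtain ⟨X', g', hg', hreg'⟩ := K372.ResTfae.exists_resolution hd h1 h2 (fun y _ => h3 y)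
    exact ⟨X', g', hg'.proper, hg'.integral, hg'.exists_isIso, hreg'⟩
  · rintro ⟨X, g, hp, hX, hV, hreg⟩
    refine ⟨X, g, ⟨hp, hX, inferInstance, hdom X g hp hX hV, ?_⟩, hreg⟩
    obtain ⟨V, hV, hV'⟩ := hV
    exact ⟨V, hV, inferInstance⟩
  · rintro ⟨X, g, hp, hX, hV, hreg⟩
    have := hdom X g hp hX hV
    obtain ⟨h1, h2, h3⟩ := K372.ResTfae.of_alteration hd g hreg
    exact ⟨h1, h2, fun y _ => h3 y⟩
  · rintro ⟨h1, h2, h3⟩
    obtain ⟨X', g', hg', hreg'⟩ := K372.ResTfae.exists_resolution hd h1 h2 h3
    exact ⟨X', g', hg'.proper, hg'.integral, hg'.exists_isIso, hreg'⟩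

end Groth.Agent.S7306
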