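import Groth.Statements.S7308
import Groth.Agent.Resolve.K372.Contr

set_option autoImplicit false
universe u
open CategoryTheory CategoryTheory.Limits AlgebraicGeometry
open Resolve

namespace Groth.Agent.S7308

/-- Let X be a Noetherian scheme and ι : E → X a closed immersion which is an exceptional curve of the
first kind. A contraction of E, if it exists, is unique up to unique isomorphism: for contractions
b₁ : X → X₁ and b₂ : X → X₂ of E there is a unique isomorphism e : X₁ ≅ X₂ with b₁ ≫ e = b₂. -/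
theorem result {E X X₁ X₂ : Scheme.{u}} [IsNoetherian X] (ι : E ⟶ X) [IsClosedImmersion ι]
    (hE : Models.IsExcCurve ι) (b₁ : X ⟶ X₁) (hb₁ : Models.IsContractionOf ι b₁) (b₂ : X ⟶ X₂) (hb₂ : Models.IsContractionOf ι b₂) :
    ∃! e : X₁ ≅ X₂, b₁ ≫ e.hom = b₂ := by
  have key : ∀ {X₀ : Scheme.{u}} (b : X ⟶ X₀), Models.IsContractionOf ι b → ∀ e e' : E, b (ι e) = b (ι e') := by
    rintro X₀ b ⟨-, -, y, -, hr, -⟩ e e'
    have h1 : (ι ≫ b).base e ∈ Set.range ((ι ≫ b).base : E → X₀) := ⟨e, rfl⟩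
    have h2 : (ι ≫ b).base e' ∈ Set.range ((ι ≫ b).base : E → X₀) := ⟨e', rfl⟩
    rw [hr] at h1 h2
    exact Eq.trans h1 (Eq.symm h2)
  obtain ⟨f, hf, hf'⟩ := K372.Contr.existsUnique_desc ι hE b₁ hb₁ b₂ (key b₂ hb₂)
  obtain ⟨g, hg, hg'⟩ := K372.Contr.existsUnique_desc ι hE b₂ hb₂ b₁ (key b₁ hb₁)
  obtain ⟨p, hp, hp'⟩ := K372.Contr.existsUnique_desc ι hE b₁ hb₁ b₁ (key b₁ hb₁)
  obtain ⟨q, hq, hq'⟩ := K372.Contr.existsUnique_desc ι hE b₂ hb₂ b₂ (key b₂ hb₂)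
  refine ⟨⟨f, g, ?_, ?_⟩, hf, fun e he => Iso.ext (hf' e.hom he)⟩
  · rw [hp' (f ≫ g) (by dsimp only at hf hg ⊢; rw [← Category.assoc, hf, hg]), hp' (𝟙 _) (Category.comp_id _)]
  · rw [hq' (g ≫ f) (by dsimp only at hf hg ⊢; rw [← Category.assoc, hg, hf]), hq' (𝟙 _) (Category.comp_id _)]

end Groth.Agent.S7308
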