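import Groth.Statements.S7309
import Groth.Agent.Resolve.K373.ContrThm

set_option autoImplicit false
universe u
open CategoryTheory CategoryTheory.Limits AlgebraicGeometry
open Resolve

namespace Groth.Agent.S7309

/-- Let X be a Noetherian scheme, ι : E → X a closed immersion which is an exceptional curve of the
first kind, and f : X → Y a proper morphism to a Noetherian scheme which sends all of E to one point
y and whose restriction to the open complement of E is locally quasi-finite. Then E can be
contracted: there is a contraction b : X → X' of E through which f factors as b followed by a finite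
morphism X' → Y, with O_{X'} → b_* O_X an isomorphism (so b is the first factor of the Stein
factorization of f). -/
theorem result {E X Y : Scheme.{u}} [IsNoetherian X] [IsNoetherian Y]
    (ι : E ⟶ X) [IsClosedImmersion ι] (hE : Models.IsExcCurve ι) (f : X ⟶ Y) [IsProper f]
    (y : Y) (hy : Set.range ((ι ≫ f).base : E → Y) = {y})
    (hqf : LocallyQuasiFinite (Scheme.Opens.ι (X := X) ι.ker.support.compl ≫ f)) :
    ∃ (X' : Scheme.{u}) (b : X ⟶ X') (g : X' ⟶ Y), Models.IsContractionOf ι b ∧ b ≫ g = f ∧ IsFinite g ∧
      IsIso (ClSub.unitToPush b) := by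
  have hy' : ∀ e, f (ι e) = y := by
    intro e
    have : (ι ≫ f) e ∈ Set.range ((ι ≫ f).base : E → Y) := ⟨e, rfl⟩
    rw [hy] at this
    rw [← Scheme.Hom.comp_apply]
    exact this
  have hsupp : ∀ x, x ∉ Set.range ι → x ∈ ι.ker.support.compl := by
    intro x hx h
    apply hx
    have h2 : x ∈ (ι.ker.support : Set X) := h
    rw [Scheme.Hom.support_ker] at h2
    exact ι.isClosedEmbedding.isClosed_range.closure_subset h2
  have hqf' : ∀ x, x ∉ Set.range ι → f.QuasiFiniteAt x := by
    intro x hx
    have h1 : (Scheme.Opens.ι (X := X) ι.ker.support.compl ≫ f).QuasiFiniteAt ⟨x, hsupp x hx⟩ :=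
      Scheme.Hom.quasiFiniteAt _ _
    rw [Scheme.Hom.quasiFiniteAt_comp_iff_of_isOpenImmersion] at h1
    exact h1
  obtain ⟨h1, h2, h3⟩ := K373.ContrThm.stein f ι hE y hy' hqf'
  exact ⟨f.normalization, f.toNormalization, f.fromNormalization, h1, f.toNormalization_fromNormalization, h2, h3⟩

end Groth.Agent.S7309
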