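import Groth.Statements.S7310
import Groth.Agent.Resolve.K372.QPContr
import Groth.Agent.S4418
import Groth.Agent.S12416

set_option autoImplicit false
universe u
open CategoryTheory CategoryTheory.Limits AlgebraicGeometry
open Resolve

namespace Groth.Agent.S7310

/-- Let S be a Noetherian scheme, f : X → S a morphism of finite type which is projective, and ι : E → X
a closed immersion which is an exceptional curve of the first kind contained in a fibre of f. Then
there exists a contraction b : X → X' of E, and X' is projective over S (through the unique morphism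
g : X' → S with b ≫ g = f). Projectivity is taken in the relative-Proj form: isomorphic over S to
Proj of a quasi-coherent graded algebra generated in degree one with degree-one part of finite type. -/
theorem result {E X S : Scheme.{u}} [IsNoetherian S] (f : X ⟶ S) [LocallyOfFiniteType f] [QuasiCompact f]
    (hf : RelProj.IsProjective f) (ι : E ⟶ X) [IsClosedImmersion ι] (hE : Models.IsExcCurve ι)
    (s : S) (hs : Set.range ((ι ≫ f).base : E → S) = {s}) :
    ∃ (X' : Scheme.{u}) (b : X ⟶ X') (g : X' ⟶ S), Models.IsContractionOf ι b ∧ b ≫ g = f ∧ RelProj.IsProjective g := by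
  obtain ⟨h1, h2⟩ := Groth.Agent.S4418.result f hf
  obtain ⟨X', b, g, hb, hg, hq⟩ := K372.QPContr.exists_contraction_quasiProjective f h1 ι hE s hs
  refine ⟨X', b, g, hb, hg, ?_⟩
  obtain ⟨hE1, hE2⟩ := K372.Contr.isIntegral_of_isExcCurve hE
  have hne : Nonempty E := hE1.nonempty
  obtain ⟨hN, hprop, y, hy, hrange, hreg, hdim, hbl⟩ := id hb
  have hex : ∃ x, b x = y := by
    have : y ∈ Set.range ((ι ≫ b).base : E → X') := by rw [hrange]; rfl
    obtain ⟨e, he⟩ := this
    exact ⟨ι e, by rw [← Scheme.Hom.comp_apply]; exact he⟩
  have hsurj : Surjective b := Groth.Agent.Models.H69.Contr.surjective (hy := hy) hbl hex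
  obtain ⟨hft, hqc, L, hL⟩ := id hq
  have hsep : IsSeparated g := Groth.Agent.S9691.result g L hL
  have huc : UniversallyClosed g := by
    have h3 : UniversallyClosed (b ≫ g) := by rw [hg]; infer_instance
    exact UniversallyClosed.of_comp_surjective b g
  have hpr : IsProper g := {}
  exact Groth.Agent.S12416.result g hq

end Groth.Agent.S7310
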