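import Groth.Statements.S7321
import Groth.Agent.Resolve.K373.NormFin

set_option autoImplicit false
universe u
open CategoryTheory CategoryTheory.Limits AlgebraicGeometry
open Resolve

namespace Groth.Agent.S7321

/-- Let Y be an integral Noetherian scheme of dimension one. Then (1) there is an alteration X → Y with
X regular, if and only if (2) Y has a resolution of singularities, i.e. a proper morphism X → Y from
an integral regular scheme which is an isomorphism over a nonempty open of Y; and (2) holds if and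
only if (4) the normalization morphism of Y is finite. (A further equivalent condition, a finite
sequence of blowings up in closed points ending in a regular scheme, is stated separately. The
quasi-compactness and quasi-separatedness binders on Spec K(Y) → Y always hold; they are needed only
to form the normalization.) -/
theorem result (Y : Scheme.{u}) [IsIntegral Y] [IsNoetherian Y]
    (hdim : topologicalKrullDim Y = 1)
    [QuasiCompact (Y.fromSpecStalk (genericPoint Y))] [QuasiSeparated (Y.fromSpecStalk (genericPoint Y))] :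
    ((∃ (X : Scheme.{u}) (g : X ⟶ Y), Curv2.IsAlteration g ∧ ∀ x : X, IsRegularLocalRing (X.presheaf.stalk x)) ↔
      (∃ (X : Scheme.{u}) (g : X ⟶ Y), IsProper g ∧ IsIntegral X ∧
        (∃ V : Y.Opens, (V : Set Y).Nonempty ∧ IsIso (g ∣_ V)) ∧ ∀ x : X, IsRegularLocalRing (X.presheaf.stalk x))) ∧
    ((∃ (X : Scheme.{u}) (g : X ⟶ Y), IsProper g ∧ IsIntegral X ∧
        (∃ V : Y.Opens, (V : Set Y).Nonempty ∧ IsIso (g ∣_ V)) ∧ ∀ x : X, IsRegularLocalRing (X.presheaf.stalk x)) ↔
      IsFinite (Curv2.normalizationι Y)) := by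
  have h21 : (∃ (X : Scheme.{u}) (g : X ⟶ Y), IsProper g ∧ IsIntegral X ∧
        (∃ V : Y.Opens, (V : Set Y).Nonempty ∧ IsIso (g ∣_ V)) ∧ ∀ x : X, IsRegularLocalRing (X.presheaf.stalk x)) →
      (∃ (X : Scheme.{u}) (g : X ⟶ Y), Curv2.IsAlteration g ∧ ∀ x : X, IsRegularLocalRing (X.presheaf.stalk x)) := by
    rintro ⟨X, g, hp, hX, ⟨V, hV, hVi⟩, hreg⟩
    refine ⟨X, g, ⟨hp, hX, inferInstance, ⟨?_⟩, V, hV, inferInstance⟩, hreg⟩
    have h1 : (V : Set Y) ⊆ Set.range g := by
      intro y hy
      obtain ⟨x, hx⟩ := (g ∣_ V).surjective ⟨y, hy⟩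
      refine ⟨x.1, ?_⟩
      have h2 := congrArg Subtype.val hx
      rwa [morphismRestrict_base_coe] at h2
    exact (V.2.dense hV).mono h1
  have h14 : (∃ (X : Scheme.{u}) (g : X ⟶ Y), Curv2.IsAlteration g ∧
      ∀ x : X, IsRegularLocalRing (X.presheaf.stalk x)) → IsFinite (Curv2.normalizationι Y) := by
    rintro ⟨X, g, ⟨hp, hX, hY, hdom, V, hV, hfin⟩, hreg⟩
    refine K373.NormFin.isFinite_of_normal Y (fun x => ?_) g
    have := hreg x
    exact ⟨CurvesC.RegNormal.isDomain _, CurvesC.RegNormal.isIntegrallyClosed _⟩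
  have h42 : IsFinite (Curv2.normalizationι Y) →
      (∃ (X : Scheme.{u}) (g : X ⟶ Y), IsProper g ∧ IsIntegral X ∧
        (∃ V : Y.Opens, (V : Set Y).Nonempty ∧ IsIso (g ∣_ V)) ∧
          ∀ x : X, IsRegularLocalRing (X.presheaf.stalk x)) := by
    intro h
    exact ⟨Curv2.normalization Y, Curv2.normalizationι Y, inferInstance,
      Groth.Agent.VarietyB.NormalizationVar.isIntegral_normalization Y,
      K373.NormFin.exists_isIso Y h, K373.NormFin.isRegular_of_dim_le_one Y h hdim.le⟩
  exact ⟨⟨fun h => h42 (h14 h), h21⟩, ⟨fun h => h14 (h21 h), h42⟩⟩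

end Groth.Agent.S7321
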