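import Groth.Statements.S7325
import Groth.Agent.Resolve.K373.PicContr

set_option autoImplicit false
universe u
open CategoryTheory CategoryTheory.Limits AlgebraicGeometry
open Resolve

namespace Groth.Agent.S7325

/-- Let X be a Noetherian scheme, ι : E → X a closed immersion which is an exceptional curve of the
first kind, and b : X → X' a contraction of E. Then pullback along b is injective on isomorphism
classes of invertible modules, and an invertible O_X-module L is the pullback of some invertible
O_{X'}-module if and only if ι^* L ≅ O_E. (The published statement is a split short exact sequence 0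
→ Pic(X') → Pic(X) → Z → 0 whose second map is the degree on E; this row states the injectivity of
the first map and the description of its image, and does not restate the degree map or the
splitting.) -/
theorem result {E X X' : Scheme.{u}} [IsNoetherian X] (ι : E ⟶ X) [IsClosedImmersion ι]
    (hE : Models.IsExcCurve ι) (b : X ⟶ X') (hb : Models.IsContractionOf ι b) :
    (∀ L₁ L₂ : X'.Modules, PicF.IsInvertible L₁ → PicF.IsInvertible L₂ →
      Nonempty ((Scheme.Modules.pullback b).obj L₁ ≅ (Scheme.Modules.pullback b).obj L₂) → Nonempty (L₁ ≅ L₂)) ∧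
    ∀ L : X.Modules, PicF.IsInvertible L →
      ((∃ L' : X'.Modules, PicF.IsInvertible L' ∧ Nonempty ((Scheme.Modules.pullback b).obj L' ≅ L)) ↔
        Nonempty ((Scheme.Modules.pullback ι).obj L ≅ Coh.structureModule E)) := by
  constructor
  · intro L₁ L₂ h₁ h₂ h
    have h1 : Groth.Agent.Grpsch.PicGrp.pull b (Groth.Agent.Grpsch.PicGrp.mk L₁ h₁) =
        Groth.Agent.Grpsch.PicGrp.pull b (Groth.Agent.Grpsch.PicGrp.mk L₂ h₂) :=
      (Groth.Agent.Grpsch.PicGrp.mk_eq_iff _ _).2 h
    have h2 := K373.PicDesc.pull_injective (K373.PicContr.bijective_app ι b hb) h1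
    exact (Groth.Agent.Grpsch.PicGrp.mk_eq_iff _ _).1 h2
  · intro L hL
    constructor
    · rintro ⟨L', hL', ⟨e⟩⟩
      have h1 := K373.PicContr.pull_pull_eq_one ι b hb (Groth.Agent.Grpsch.PicGrp.mk L' hL')
      have h2 : Groth.Agent.Grpsch.PicGrp.pull b (Groth.Agent.Grpsch.PicGrp.mk L' hL') =
          Groth.Agent.Grpsch.PicGrp.mk L hL := Groth.Agent.Grpsch.PicGrp.mk_congr e
      rw [h2, Groth.Agent.Grpsch.PicGrp.pull_mk, Groth.Agent.Grpsch.PicGrp.mk_eq_one_iff] at h1
      exact h1
    · intro h
      refine K373.PicContr.exists_descent ι b hE hb L hL ?_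
      rw [Groth.Agent.Grpsch.PicGrp.pull_mk, Groth.Agent.Grpsch.PicGrp.mk_eq_one_iff]
      exact h

end Groth.Agent.S7325
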