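import Groth.Statements.S7326
import Groth.Agent.S3313
import Groth.Agent.Models.H63.FibreTriv
import Groth.Agent.Sga2.ThickCoh
import Groth.Agent.Sga2.Conv68
import Groth.Agent.Ega3B.PullTensor

set_option autoImplicit false
universe u
open CategoryTheory CategoryTheory.Limits AlgebraicGeometry
open Models

namespace Groth.Agent.S7326

/-- Let R be a discrete valuation ring with fraction field K, C a smooth proper curve over K with H^0(C,
O_C) = K, X a regular proper model of C, Γ_1, …, Γ_n the irreducible components of the closed fibre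
with multiplicities m_i, d = gcd(m_i), and D = Σ (m_i/d) Γ_i the effective Cartier divisor with
ideal sheaf I_D = Π I(Γ_i)^{m_i/d}. Then O_X(D) (any L with L ⊗ I_D ≅ O_X) has order dividing d in
Pic(X), i.e. L^{⊗ d} ≅ O_X, and the conormal sheaf I_D|_D, an invertible O_D-module, has order
dividing d in Pic(D). -/
theorem result (R : Type u) [CommRing R] [IsDomain R] [IsDiscreteValuationRing R]
    (C X : Scheme.{u}) (f : C ⟶ Spec (CommRingCat.of (FractionRing R))) (p : X ⟶ Spec (CommRingCat.of R))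
    (hC : Curve.IsSmoothProperCurve (FractionRing R) C f) (hH0 : IsIso f.appTop)
    (hX : Models.IsRegularProperModel R X p C f)
    {n : ℕ} (Γ : Fin n → ArSurf.VertComp R (Over.mk p)) (hΓ : Models.IsComponentList R (Over.mk p) Γ)
    (L : X.Modules)
    (hL : ClSub.IsInverseOf L (ClSub.idealMod (∏ i, (Γ i).ι.ker ^ (Models.mult R (Over.mk p) (Γ i) / Models.multGcd R (Over.mk p) Γ)))) :
    Nonempty (CohB1.tensorPow L (Models.multGcd R (Over.mk p) Γ) ≅ Coh.structureModule X) ∧
      Nonempty (CohB1.tensorPow ((Scheme.Modules.pullback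
          (∏ i, (Γ i).ι.ker ^ (Models.mult R (Over.mk p) (Γ i) / Models.multGcd R (Over.mk p) Γ)).subschemeι).obj
          (ClSub.idealMod (∏ i, (Γ i).ι.ker ^ (Models.mult R (Over.mk p) (Γ i) / Models.multGcd R (Over.mk p) Γ))))
          (Models.multGcd R (Over.mk p) Γ) ≅
        Coh.structureModule (∏ i, (Γ i).ι.ker ^ (Models.mult R (Over.mk p) (Γ i) / Models.multGcd R (Over.mk p) Γ)).subscheme) := by

  have hflat : Flat (Over.mk p).hom := hX.1.1
  obtain ⟨-, h2⟩ := Groth.Agent.S3313.result R C X f p hC hX.1 hX.2.2 Γ hΓ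
  set d := Models.multGcd R (Over.mk p) Γ with hd
  set D : X.IdealSheafData := ∏ i, (Γ i).ι.ker ^ (Models.mult R (Over.mk p) (Γ i) / d) with hD
  have hpow : D ^ d = Models.specialFibreIdeal R (Over.mk p) := by
    rw [h2, hD, ← Finset.prod_pow]
    refine Finset.prod_congr rfl fun i _ => ?_
    rw [← pow_mul]
    congr 1
    have h : d ∣ Models.mult R (Over.mk p) (Γ i) :=
      Finset.gcd_dvd (f := fun i => Models.mult R (Over.mk p) (Γ i)) (Finset.mem_univ i)
    exact Nat.div_mul_cancel h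
  obtain ⟨e⟩ := Groth.Agent.Models.H63.FibreTriv.idealMod_specialFibreIdeal (X := Over.mk p)
  have hEff : BlowUp.IsEffCartierIdeal D := Groth.Agent.Dix.IdealModCartier.isEffCartierIdeal_of_isInverseOf hL
  obtain ⟨e1⟩ := Groth.Agent.Sga2.ThickCoh.idealMod_pow hEff d
  rw [hpow] at e1
  have e2 : CohB1.tensorPow (ClSub.idealMod D) d ≅ Coh.structureModule X := e1 ≪≫ e.symm
  obtain ⟨l⟩ := hL
  refine ⟨⟨?_⟩, ?_⟩
  · refine (Groth.Agent.Ega2.Tens.runit _).symm ≪≫ Groth.Agent.Ega2.Tens.mapTIso (Iso.refl _) e2.symm ≪≫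
      (Groth.Agent.Ega2.TensPow.powTensor L (ClSub.idealMod D) d).symm ≪≫ ?_
    exact Groth.Agent.Ega2.TensPow.powIso l d ≪≫ Groth.Agent.Sga2.Conv68.powUnit X d
  · obtain ⟨e3⟩ := Groth.Agent.Ega3B.PullTensor.nonempty_pullPowIso D.subschemeι
      (Groth.Agent.Dix.IdealModCartier.isInvertible_idealMod hEff) d
    obtain ⟨e4⟩ := Groth.Agent.Ega3B.PullTensor.nonempty_pullUnitIso D.subschemeι
    exact ⟨e3.symm ≪≫ (Scheme.Modules.pullback D.subschemeι).mapIso e2 ≪≫ e4⟩

end Groth.Agent.S7326
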