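import Groth.Statements.S7328
import Groth.Agent.Resolve.K112.Bound
import Groth.Agent.Resolve.K112.TraceMain

set_option autoImplicit false
universe u
open CategoryTheory CategoryTheory.Limits AlgebraicGeometry
open Resolve

namespace Groth.Agent.S7328

/-- Suppose A and B are two-dimensional local normal Nagata domains and A → B is an injective, finite,
local ring map for which the fraction field of B is separable over that of A. If A admits reduction
to rational singularities (the lengths of the A-modules H^1(X, O_X), over all proper morphisms X →
Spec A from an integral normal scheme which are an isomorphism over a nonempty open, are bounded),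
then B admits it as well (the same lengths for B are bounded). The fraction field of B is given an
algebra structure over that of A compatible with A → B. -/
theorem result (A B : Type u) [CommRing A] [CommRing B] [IsDomain A] [IsDomain B]
    [IsLocalRing A] [IsLocalRing B] [IsNoetherianRing A] [IsNoetherianRing B] [IsIntegrallyClosed A] [IsIntegrallyClosed B]
    (hNA : CAlg.IsNagata A) (hNB : CAlg.IsNagata B) (hdA : ringKrullDim A = 2) (hdB : ringKrullDim B = 2)
    [Algebra A B] [Module.Finite A B] (hinj : Function.Injective (algebraMap A B)) [IsLocalHom (algebraMap A B)]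
    [Algebra (FractionRing A) (FractionRing B)]
    (hcompat : ∀ a : A, algebraMap (FractionRing A) (FractionRing B) (algebraMap A (FractionRing A) a) =
      algebraMap B (FractionRing B) (algebraMap A B a))
    [Algebra.IsSeparable (FractionRing A) (FractionRing B)]
    (hA : (∃ N : ℕ, ∀ (X : Scheme.{u}) [X.Over (Spec (CommRingCat.of A))], IsProper (X ↘ Spec (CommRingCat.of A)) →
        IsIntegral X → Pi1.IsNormalScheme X →
        (∃ U : (Spec (CommRingCat.of A)).Opens, (U : Set (Spec (CommRingCat.of A))).Nonempty ∧ IsIso ((X ↘ Spec (CommRingCat.of A)) ∣_ U)) →
        Module.length A (Coh.HH X (Coh.structureModule X) 1) ≤ (N : ℕ∞))) :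
    (∃ N : ℕ, ∀ (X : Scheme.{u}) [X.Over (Spec (CommRingCat.of B))], IsProper (X ↘ Spec (CommRingCat.of B)) →
        IsIntegral X → Pi1.IsNormalScheme X →
        (∃ U : (Spec (CommRingCat.of B)).Opens, (U : Set (Spec (CommRingCat.of B))).Nonempty ∧ IsIso ((X ↘ Spec (CommRingCat.of B)) ∣_ U)) →
        Module.length B (Coh.HH X (Coh.structureModule X) 1) ≤ (N : ℕ∞)) := by
  have hFS : FaithfulSMul A B := (faithfulSMul_iff_algebraMap_injective A B).2 hinj
  have hT : IsScalarTower A (FractionRing A) (FractionRing B) := IsScalarTower.of_algebraMap_eq fun a => by
    rw [hcompat]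
    exact IsScalarTower.algebraMap_apply A B (FractionRing B) a
  have hI : Algebra.IsIntegral A B := inferInstance
  have hIC : IsIntegralClosure B A (FractionRing B) := IsIntegralClosure.of_isIntegrallyClosed B A (FractionRing B)
  have hFD : FiniteDimensional (FractionRing A) (FractionRing B) := by
    have hloc : IsLocalization (Algebra.algebraMapSubmonoid B (nonZeroDivisors A)) (FractionRing B) :=
      IsIntegralClosure.isLocalization _ (FractionRing A) _ _
    exact .of_isLocalization A B (nonZeroDivisors A)
  have h1 := Groth.Agent.Resolve.K112.Bound.isFiniteLength_of_bounded A (FractionRing A) hNA hA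
  exact Groth.Agent.Resolve.K112.Bound.bounded_of_isFiniteLength B (FractionRing B)
    (Groth.Agent.Resolve.K112.TraceMain.isFiniteLength_of_trace A B (FractionRing A) (FractionRing B) hinj h1
      fun e he => Groth.Agent.Resolve.K112.WM.isFiniteLength_torsionBy B (FractionRing B) hNB hdB e he)

end Groth.Agent.S7328
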