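import Groth.Statements.S7329
import Groth.Agent.Resolve.K112.Bound
import Groth.Agent.Ega4B.UnibFormal
import Groth.Agent.Ega3B.IdemLift
import Groth.Agent.Ega4B.CplFinite
import Groth.Agent.FlatA.DimFin
import Groth.Agent.S0558

set_option autoImplicit false
universe u
open CategoryTheory CategoryTheory.Limits AlgebraicGeometry
open Resolve

namespace Groth.Agent.S7329

/-- Let p be a prime number, A a complete regular local ring of dimension two and characteristic p with
fraction field K, L/K a purely inseparable extension of degree p, and B the integral closure of A in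
L. Then reduction to rational singularities is possible for B: the lengths of the B-modules H^1(Y,
O_Y), over all proper morphisms Y → Spec B from an integral normal scheme which are an isomorphism
over a nonempty open, are bounded. -/
theorem result (p : ℕ) [Fact p.Prime] (A : Type u) [CommRing A] [IsRegularLocalRing A]
    [CharP A p] [IsAdicComplete (IsLocalRing.maximalIdeal A) A] (hdA : ringKrullDim A = 2)
    (L : Type u) [Field L] [Algebra A L] [Algebra (FractionRing A) L] [IsScalarTower A (FractionRing A) L]
    (hdeg : Module.finrank (FractionRing A) L = p) [IsPurelyInseparable (FractionRing A) L] :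
    (∃ N : ℕ, ∀ (X : Scheme.{u}) [X.Over (Spec (CommRingCat.of ↥(integralClosure A L)))], IsProper (X ↘ Spec (CommRingCat.of ↥(integralClosure A L))) →
        IsIntegral X → Pi1.IsNormalScheme X →
        (∃ U : (Spec (CommRingCat.of ↥(integralClosure A L))).Opens, (U : Set (Spec (CommRingCat.of ↥(integralClosure A L)))).Nonempty ∧ IsIso ((X ↘ Spec (CommRingCat.of ↥(integralClosure A L))) ∣_ U)) →
        Module.length ↥(integralClosure A L) (Coh.HH X (Coh.structureModule X) 1) ≤ (N : ℕ∞)) := by
  have hdom : IsDomain A := Groth.Agent.S0558.result A
  have hN : CAlg.IsNagata A := Groth.Agent.Lipman.NagataIn.isNagata_of_complete A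
  have hFD : FiniteDimensional (FractionRing A) L := FiniteDimensional.of_finrank_pos (by
    rw [hdeg]
    exact (Fact.out : p.Prime).pos)
  have hfin : Module.Finite A (integralClosure A L) :=
    Groth.Agent.CalgA.NagataFinite.isN2_finite (Groth.Agent.Lipman.NagataIn.isN2_of_isNagata hN) (FractionRing A) L
  have hinjL : Function.Injective (algebraMap A L) := by
    rw [IsScalarTower.algebraMap_eq A (FractionRing A) L]
    exact (algebraMap (FractionRing A) L).injective.comp (IsFractionRing.injective A (FractionRing A))
  have hinj : Function.Injective (algebraMap A (integralClosure A L)) := fun x y h =>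
    hinjL (congrArg Subtype.val h)
  have hFR : IsFractionRing (integralClosure A L) L :=
    integralClosure.isFractionRing_of_finite_extension (FractionRing A) L
  have hIC : IsIntegrallyClosed (integralClosure A L) :=
    integralClosure.isIntegrallyClosedOfFiniteExtension (FractionRing A)
  have hNB : IsNoetherianRing (integralClosure A L) := IsNoetherianRing.of_finite A _
  have hloc : IsLocalRing (integralClosure A L) :=
    Groth.Agent.Ega4B.UnibFormal.isLocalRing_of_finite_complete A (integralClosure A L)
  have hdB : ringKrullDim (integralClosure A L) = 2 :=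
    (Groth.Agent.FlatA.DimFin.ringKrullDim_eq_of_isIntegral_of_injective A (integralClosure A L) hinj).trans hdA
  have hc : IsAdicComplete (IsLocalRing.maximalIdeal (integralClosure A L)) (integralClosure A L) := by
    have h1 := Groth.Agent.Ega3B.IdemLift.isAdicComplete_map A (integralClosure A L) (IsLocalRing.maximalIdeal A)
    obtain ⟨k, hk⟩ := Groth.Agent.Ega4B.CplFinite.exists_jacobson_pow_le A (integralClosure A L)
    rw [IsLocalRing.jacobson_eq_maximalIdeal ⊥ bot_ne_top] at hk
    refine Groth.Agent.Ega4B.CplFinite.isAdicComplete_of_pow_le (k := k) ?_ hk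
    refine IsLocalRing.le_maximalIdeal fun h => ?_
    have h2 := Groth.Agent.Ega4B.CplFinite.map_maximalIdeal_le_jacobson A (integralClosure A L)
    rw [h, IsLocalRing.jacobson_eq_maximalIdeal ⊥ bot_ne_top, top_le_iff] at h2
    exact (IsLocalRing.maximalIdeal.isMaximal _).ne_top h2
  exact Groth.Agent.Resolve.K112.Bound.bounded_of_isFiniteLength (integralClosure A L) L
    (Groth.Agent.Resolve.K112.WM.isFiniteLength_of_complete (integralClosure A L) L hdB)

end Groth.Agent.S7329
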