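import Groth.Statements.S7330
import Groth.Agent.Resolve.K955.ProjModif
import Groth.Agent.Resolve.K955.TwoCover
import Groth.Agent.Resolve.K955.StalkTriv
import Groth.Agent.Resolve.K955.RpushMod

set_option autoImplicit false
universe u
open CategoryTheory CategoryTheory.Limits AlgebraicGeometry
open Resolve

namespace Groth.Agent.S7330

/-- Let (A, m) be a local normal Nagata domain of dimension two for which reduction to rational
singularities is possible (the lengths of H^1(X, O_X) over all proper morphisms X → Spec A from an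
integral normal scheme which are an isomorphism over a nonempty open are bounded). Then there is
such a normal modification f : X → Spec A, with f projective, such that at each closed point x of X
the stalk O_{X,x} is a rational singularity. (The published statement obtains X by a finite sequence
of normalized blowings up in closed points; this row asserts only the resulting modification.) -/
theorem result (A : Type u) [CommRing A] [IsDomain A] [IsLocalRing A] [IsNoetherianRing A]
    [IsIntegrallyClosed A] (hN : CAlg.IsNagata A) (hdim : ringKrullDim A = 2)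
    (hA : (∃ N : ℕ, ∀ (X : Scheme.{u}) [X.Over (Spec (CommRingCat.of A))], IsProper (X ↘ Spec (CommRingCat.of A)) →
        IsIntegral X → Pi1.IsNormalScheme X →
        (∃ U : (Spec (CommRingCat.of A)).Opens, (U : Set (Spec (CommRingCat.of A))).Nonempty ∧ IsIso ((X ↘ Spec (CommRingCat.of A)) ∣_ U)) →
        Module.length A (Coh.HH X (Coh.structureModule X) 1) ≤ (N : ℕ∞))) :
    ∃ (X : Scheme.{u}) (f : X ⟶ Spec (CommRingCat.of A)), IsProper f ∧ IsIntegral X ∧ Pi1.IsNormalScheme X ∧
      (∃ U : (Spec (CommRingCat.of A)).Opens, (U : Set (Spec (CommRingCat.of A))).Nonempty ∧ IsIso (f ∣_ U)) ∧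
      RelProj.IsProjective f ∧
      ∀ x : X, IsClosed ({x} : Set X) → Curv2.IsRationalSing (X.presheaf.stalk x) := by
  have hW := Groth.Agent.Resolve.K112.Bound.isFiniteLength_of_bounded A (FractionRing A) hN hA
  obtain ⟨X, f, hf, hint, hnorm, hiso, hproj, ⟨L, hL⟩, e, he, hLC⟩ :=
    K955.ProjModif.exists_modif_all A hN (FractionRing A) hW
  refine ⟨X, f, hf, hint, hnorm, hiso, hproj, fun x hx => ?_⟩
  have hS0 : IsNoetherianRing (CommRingCat.of A) := inferInstanceAs (IsNoetherianRing A)
  have hNS : IsNoetherian (Spec (CommRingCat.of A)) := inferInstance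
  have hNX : IsNoetherian X := K955.RpushMod.isNoetherian_of f
  obtain ⟨U, hU, hfU⟩ := hiso
  have hd : ringKrullDim (X.presheaf.stalk x) ≤ 2 := by
    refine (K955.RpushMod.ringKrullDim_stalk_le f U hU hfU x).trans ?_
    rw [← hdim]
    exact K955.RpushMod.ringKrullDim_stalk_spec A _
  have hfib : topologicalKrullDim (f.fiber (IsLocalRing.closedPoint A)) ≤ 1 :=
    CurvesC.ModDim.topologicalKrullDim_fiber_le 1 (by rw [hdim]; rfl) f U hU _ rfl
  have hη : genericPoint X ≠ x := by
    intro h
    have h1 : IsClosed ({f x} : Set (Spec (CommRingCat.of A))) := by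
      have h2 := f.isClosedMap _ hx
      rwa [Set.image_singleton] at h2
    rw [← h, K955.RpushMod.generic f U hU hfU] at h1
    have h3 : (genericPoint (Spec (CommRingCat.of A))) = IsLocalRing.closedPoint A := by
      have h4 : IsLocalRing.closedPoint A ∈ closure ({genericPoint (Spec (CommRingCat.of A))} : Set (Spec (CommRingCat.of A))) := by
        rw [(genericPoint_spec (Spec (CommRingCat.of A))).def]
        trivial
      rw [h1.closure_eq] at h4
      exact h4.symm
    have h5 : ringKrullDim A ≤ 0 := by
      have h6 : ∀ p : PrimeSpectrum A, p = IsLocalRing.closedPoint A := by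
        intro p
        have h7 : p ∈ closure ({genericPoint (Spec (CommRingCat.of A))} : Set (Spec (CommRingCat.of A))) := by
          rw [(genericPoint_spec (Spec (CommRingCat.of A))).def]
          trivial
        rw [h1.closure_eq, h3] at h7
        exact h7
      have h8 : Subsingleton (PrimeSpectrum A) := ⟨fun p q => (h6 p).trans (h6 q).symm⟩
      exact Order.krullDim_nonpos_of_subsingleton
    rw [hdim] at h5
    exact absurd h5 (by decide)
  obtain ⟨U₁, U₂, hU₁, hU₂, hcov, hx₁, hx₂, hy₂⟩ := K955.TwoCover.exists_cover f hL hfib x hx _ hη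
  have htriv := K955.StalkTriv.isTriv_stalk f e he hnorm hLC x hd hU₁ hU₂ hcov hx₁ hx₂ ⟨_, hy₂⟩
  refine CurvesC.Sol.isRationalSing_of_sol _ fun K' _ _ _ => ?_
  let ε₁ : K' ≃ₐ[X.presheaf.stalk x] X.functionField :=
    IsLocalization.algEquiv (nonZeroDivisors (X.presheaf.stalk x)) K' X.functionField
  refine K955.StalkTriv.sol_of_isTriv (ε₁.toRingEquiv.trans e.symm) (K955.StalkTriv.stalkRing e x) (fun b => ?_) htriv
  rw [K955.StalkTriv.mem_stalkRing]
  constructor
  · rintro ⟨s, hs⟩
    refine ⟨s, ?_⟩
    change e.symm (ε₁ (algebraMap _ K' s)) = b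
    rw [AlgEquiv.commutes, hs, RingEquiv.symm_apply_apply]
  · rintro ⟨s, hs⟩
    refine ⟨s, ?_⟩
    change e.symm (ε₁ (algebraMap _ K' s)) = b at hs
    rw [AlgEquiv.commutes] at hs
    rw [← hs, RingEquiv.apply_symm_apply]

end Groth.Agent.S7330
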