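import Groth.Statements.S7335
import Groth.Agent.Resolve.K374.TwistVan
import Groth.Agent.Resolve.K374.GROmega
import Groth.Agent.S1650
import Groth.Agent.CurvesC.RatPow

set_option autoImplicit false
universe u
open CategoryTheory CategoryTheory.Limits AlgebraicGeometry
attribute [local instance] HasDerivedCategory.standard
open Resolve

namespace Groth.Agent.S7335

/-- Let (A, m) be a local normal Nagata domain of dimension two which defines a rational singularity, is
not regular, and has a dualizing module ω_A; let b : X → Spec A be the blowing up in m, with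
exceptional ideal sheaf I = O_X(1), and let ω_X be the dualizing module of X normalized relative to
ω_A (the degree-zero cohomology sheaf of b^!(ω_A~), with b^! the right adjoint of Rb_* on D_QCoh;
these existence statements are carried as hypotheses). Then H^1(X, ω_X(n)) = 0 for all n ≥ 0, where
ω_X(n) = ω_X ⊗ I^{⊗ n}. -/
theorem result (A : Type u) [CommRing A] [IsDomain A] [IsLocalRing A] [IsNoetherianRing A]
    [IsIntegrallyClosed A] (hN : CAlg.IsNagata A) (hdim : ringKrullDim A = 2) (hA : Curv2.IsRationalSing A)
    (hnr : ¬ IsRegularLocalRing A)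
    (X : Scheme.{u}) (f : X ⟶ Spec (CommRingCat.of A)) (hb : BlowUp.IsBlowUp f (Curv2.idealSheaf A (IsLocalRing.maximalIdeal A)))
    (ωA : Type u) [AddCommGroup ωA] [Module A ωA] (hω : Dual.IsDualizing A (Dual.inD A ωA))
    [PreservesFiniteLimits (tilde.functor (CommRingCat.of A))]
    [DCoh.HasRpush f] (h : DCoh.RpushPreservesQCoh f) [DCoh.HasShriek f h]
    (WA : DCoh.DQCoh (Spec (CommRingCat.of A))) (hWA : Nonempty (WA.obj ≅ (DCoh.tildeD (CommRingCat.of A)).obj (Dual.inD A ωA))) (n : ℕ) :
    Subsingleton (Coh.HH X (CohB1.tensorMod (DCoh.dualizingMod f h WA 0)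
      (CohB1.tensorPow (ClSub.idealMod (BlowUp.exceptional f (Curv2.idealSheaf A (IsLocalRing.maximalIdeal A)))) n)) 1) := by
  obtain ⟨eW⟩ := hWA
  have hm0 : IsLocalRing.maximalIdeal A ≠ ⊥ := by
    intro h
    have h1 : IsField A := IsLocalRing.isField_iff_maximalIdeal_eq.mpr h
    have h2 := ringKrullDim_eq_zero_of_isField h1
    rw [hdim] at h2
    exact two_ne_zero h2
  have hXn : Pi1.IsNormalScheme X := Groth.Agent.S1650.result A hN hdim hA X f hb
  have hM := CurvesC.Modif.IsModif.of_isBlowUp (CurvesC.RatPow.idealSheaf_ne_bot hm0)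
    (CurvesC.RatPow.isFiniteTypeIdeal_idealSheaf (IsNoetherian.noetherian _)) hb
  have := hM.proper
  have := hM.integral
  have h1 := K374.GROmega.subsingleton_HH hdim f hXn hM.exists_isIso hω h WA eW
  exact K374.TwistVan.subsingleton_tensorPow hdim f hM.exists_isIso (IsLocalRing.maximalIdeal A)
    (DCoh.dualizingMod f h WA 0) (((DCoh.shriek f h).obj WA).property _) h1 n

end Groth.Agent.S7335
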