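import Groth.Statements.S7336
import Groth.Agent.Resolve.K374.FibreComp

set_option autoImplicit false
universe u
open CategoryTheory CategoryTheory.Limits AlgebraicGeometry
open Resolve

namespace Groth.Agent.S7336

/-- If every non-unit at `x` is a non-unit at a generization `ξ`, then `x = ξ`. -/
theorem exists_unit_at {X : Scheme.{u}} {x ξ : X} (h : ξ ⤳ x) (hne : x ≠ ξ) :
    ∃ g ∈ IsLocalRing.maximalIdeal (X.presheaf.stalk x), IsUnit ((X.presheaf.stalkSpecializes h).hom g) := by
  by_contra hcon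
  push Not at hcon
  apply hne
  have h1 : (Spec.map (X.presheaf.stalkSpecializes h)) (IsLocalRing.closedPoint (X.presheaf.stalk ξ)) =
      IsLocalRing.closedPoint (X.presheaf.stalk x) := by
    have : IsLocalHom (X.presheaf.stalkSpecializes h).hom := by
      constructor
      intro a ha
      by_contra hna
      exact hcon a ((IsLocalRing.mem_maximalIdeal a).mpr hna) ha
    exact IsLocalRing.comap_closedPoint (X.presheaf.stalkSpecializes h).hom
  have h2 : (Spec.map (X.presheaf.stalkSpecializes h) ≫ X.fromSpecStalk x)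
      (IsLocalRing.closedPoint (X.presheaf.stalk ξ)) = x := by
    rw [Scheme.Hom.comp_apply, h1, Scheme.fromSpecStalk_closedPoint]
  rw [Scheme.SpecMap_stalkSpecializes_fromSpecStalk, Scheme.fromSpecStalk_closedPoint] at h2
  exact h2.symm

open Groth.Agent.CurvesC.ValData Groth.Agent.CurvesC.ModDim in
/-- Every nonzero germ divides the germ of some nonzero element of `A`. -/
theorem exists_multiple {A : Type u} [CommRing A] [IsDomain A] {X : Scheme.{u}}
    (f : X ⟶ Spec (CommRingCat.of A)) [IsIntegral X]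
    (hbir : ∃ U : (Spec (CommRingCat.of A)).Opens, (U : Set (Spec (CommRingCat.of A))).Nonempty ∧ IsIso (f ∣_ U))
    (x : X) (g : X.presheaf.stalk x) (hg : g ≠ 0) :
    ∃ b : A, b ≠ 0 ∧ g ∣ (X.presheaf.germ ⊤ x trivial).hom (Coh.toGlobal f b) := by
  letI : Algebra A X.functionField := (toK f).toAlgebra
  have hfrac : IsFractionRing A X.functionField := isFractionRing_toK f hbir
  have hinj : Function.Injective (algebraMap (X.presheaf.stalk x) X.functionField) :=
    IsFractionRing.injective _ _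
  have hcomp : ∀ a : A, algebraMap (X.presheaf.stalk x) X.functionField
      ((X.presheaf.germ ⊤ x trivial).hom (Coh.toGlobal f a)) = algebraMap A X.functionField a := by
    intro a
    have hne : Nonempty (⊤ : X.Opens) := ⟨⟨genericPoint X, trivial⟩⟩
    have h1 : toK f a = X.germToFunctionField ⊤ (Coh.toGlobal f a) :=
      X.presheaf.germ_res_apply (homOfLE (le_top (a := ⊤))) (genericPoint X) trivial _
    exact (Scheme.algebraMap_germ_eq_germToFunctionField (X := X) (U := ⊤) (x := x) trivial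
      (Coh.toGlobal f a)).trans h1.symm
  obtain ⟨b, c, hc, hbc⟩ := IsFractionRing.div_surjective (A := A)
    (algebraMap (X.presheaf.stalk x) X.functionField g)
  have hc0 : c ≠ 0 := nonZeroDivisors.ne_zero hc
  have hc1 : algebraMap A X.functionField c ≠ 0 := by
    rwa [Ne, FaithfulSMul.algebraMap_eq_zero_iff]
  have h1 : algebraMap A X.functionField b =
      algebraMap (X.presheaf.stalk x) X.functionField g * algebraMap A X.functionField c := by
    rw [← hbc, div_mul_cancel₀ _ hc1]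
  refine ⟨b, ?_, (X.presheaf.germ ⊤ x trivial).hom (Coh.toGlobal f c), ?_⟩
  · rintro rfl
    rw [map_zero] at h1
    have h2 := (mul_eq_zero.mp h1.symm).resolve_right hc1
    exact hg (hinj (by rw [h2, map_zero]))
  · apply hinj
    rw [map_mul, hcomp, hcomp, h1]

theorem result (A : Type u) [CommRing A] [IsDomain A] [IsLocalRing A] [IsNoetherianRing A]
    [IsIntegrallyClosed A] (hdim : ringKrullDim A = 2)
    (X : Scheme.{u}) (f : X ⟶ Spec (CommRingCat.of A)) [IsProper f] [IsIntegral X]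
    (hbir : ∃ U : (Spec (CommRingCat.of A)).Opens, (U : Set (Spec (CommRingCat.of A))).Nonempty ∧ IsIso (f ∣_ U)) (hf : ¬ IsIso f) :
    ∃ a : A, a ≠ 0 ∧ a ∈ IsLocalRing.maximalIdeal A ∧
      ∀ C ∈ irreducibleComponents ↥(f.base ⁻¹' {IsLocalRing.closedPoint A}),
        ∃ (x ξ : ↥(f.base ⁻¹' {IsLocalRing.closedPoint A})) (hξx : (ξ : X) ⤳ (x : X)),
          x ∈ C ∧ IsGenericPoint ξ C ∧ IsClosed ({(x : X)} : Set X) ∧
          (∀ C' ∈ irreducibleComponents ↥(f.base ⁻¹' {IsLocalRing.closedPoint A}), C' ≠ C → x ∉ C') ∧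
          ∃ g q : X.presheaf.stalk (x : X), g ∈ IsLocalRing.maximalIdeal (X.presheaf.stalk (x : X)) ∧
            (X.presheaf.germ ⊤ (x : X) trivial).hom (Coh.toGlobal f a) = g * q ∧
            IsUnit ((X.presheaf.stalkSpecializes hξx).hom g) := by
  classical
  have key : ∀ C ∈ irreducibleComponents ↥(f.base ⁻¹' {IsLocalRing.closedPoint A}),
      ∃ (b : A), b ≠ 0 ∧ ∃ (x ξ : ↥(f.base ⁻¹' {IsLocalRing.closedPoint A})) (hξx : (ξ : X) ⤳ (x : X)),
          x ∈ C ∧ IsGenericPoint ξ C ∧ IsClosed ({(x : X)} : Set X) ∧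
          (∀ C' ∈ irreducibleComponents ↥(f.base ⁻¹' {IsLocalRing.closedPoint A}), C' ≠ C → x ∉ C') ∧
          ∃ g : X.presheaf.stalk (x : X), g ∈ IsLocalRing.maximalIdeal (X.presheaf.stalk (x : X)) ∧
            g ∣ (X.presheaf.germ ⊤ (x : X) trivial).hom (Coh.toGlobal f b) ∧
            IsUnit ((X.presheaf.stalkSpecializes hξx).hom g) := by
    intro C hC
    obtain ⟨x, ξ, hξx, hne, hxC, hξ, hcl, hoth⟩ := K374.FibreComp.exists_closed_point f hbir hf C hC
    obtain ⟨g, hg, hgu⟩ := exists_unit_at hξx (fun h => hne (Subtype.ext h))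
    have hg0 : g ≠ 0 := by
      rintro rfl
      rw [map_zero] at hgu
      exact not_isUnit_zero hgu
    obtain ⟨b, hb, hgb⟩ := exists_multiple f hbir _ g hg0
    exact ⟨b, hb, x, ξ, hξx, hxC, hξ, hcl, hoth, g, hg, hgb, hgu⟩
  have hfin : (irreducibleComponents ↥(f.base ⁻¹' {IsLocalRing.closedPoint A})).Finite :=
    K374.FibreComp.finite_components f
  choose! b hb0 hb using key
  obtain ⟨t, ht, ht0⟩ : ∃ t ∈ IsLocalRing.maximalIdeal A, t ≠ 0 := by
    by_contra hcon
    push Not at hcon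
    have h0 : IsLocalRing.maximalIdeal A = ⊥ := (Submodule.eq_bot_iff _).mpr hcon
    have := ringKrullDim_eq_zero_of_isField (IsLocalRing.isField_iff_maximalIdeal_eq.mpr h0)
    rw [hdim] at this
    exact two_ne_zero this
  refine ⟨t * ∏ C ∈ hfin.toFinset, b C, mul_ne_zero ht0 (Finset.prod_ne_zero_iff.mpr fun C hC =>
    hb0 C (hfin.mem_toFinset.mp hC)), Ideal.mul_mem_right _ _ ht, ?_⟩
  intro C hC
  obtain ⟨x, ξ, hξx, hxC, hξ, hcl, hoth, g, hg, hgb, hgu⟩ := hb C hC
  have hdvd : g ∣ (X.presheaf.germ ⊤ (x : X) trivial).hom (Coh.toGlobal f (t * ∏ C ∈ hfin.toFinset, b C)) := by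
    refine hgb.trans ?_
    have h1 : b C ∣ t * ∏ C ∈ hfin.toFinset, b C :=
      (Finset.dvd_prod_of_mem b (hfin.mem_toFinset.mpr hC)).mul_left t
    exact map_dvd ((X.presheaf.germ ⊤ (x : X) trivial).hom) (map_dvd (Coh.toGlobal f) h1)
  obtain ⟨q, hq⟩ := hdvd
  exact ⟨x, ξ, hξx, hxC, hξ, hcl, hoth, g, q, hg, hq, hgu⟩

end Groth.Agent.S7336
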