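import Groth.Statements.S7337
-- import your own Groth.Agent.* helpers here
import Groth.Agent.Resolve.K955.ExcDiv
import Groth.Agent.Resolve.K955.TwistPow
import Groth.Agent.S1650

set_option autoImplicit false
universe u
open CategoryTheory CategoryTheory.Limits AlgebraicGeometry
open Resolve
open Groth.Agent.CurvesC Groth.Agent.CurvesC.Modif

namespace Groth.Agent.S7337

/-- Let (A, m, κ) be a local normal Nagata domain of dimension two defining a rational singularity, let
X → Spec A (the structure morphism of X over Spec A) be the blowing up in m, and let E ⊂ X be the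
exceptional divisor with ideal sheaf I = O_X(1), so that O_E(n) pushed forward to X is I^{⊗ n} ⊗
O_X/I. Then E is Cohen–Macaulay of dimension one; H^1(E, O_E(n)) = 0 for n ≥ 0; and H^0(E, O_E(n)) ≅
m^n/m^{n+1} for n ≥ 0. (The published statement also asserts that E is proper over κ, that O_E(1) is
very ample, and that deg O_E(1) ≥ 1 with equality only for A regular; this row does not restate
those, and states the description of H^0(E, O_E(n)) as an equality of A-lengths.) -/
theorem result (A : Type u) [CommRing A] [IsDomain A] [IsLocalRing A] [IsNoetherianRing A]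
    [IsIntegrallyClosed A] (hN : CAlg.IsNagata A) (hdim : ringKrullDim A = 2) (hA : Curv2.IsRationalSing A)
    (X : Scheme.{u}) [X.Over (Spec (CommRingCat.of A))]
    (hb : BlowUp.IsBlowUp (X ↘ Spec (CommRingCat.of A)) (Curv2.idealSheaf A (IsLocalRing.maximalIdeal A))) (n : ℕ) :
    (∀ e : ↥(BlowUp.exceptional (X ↘ Spec (CommRingCat.of A)) (Curv2.idealSheaf A (IsLocalRing.maximalIdeal A))).subscheme,
        LocCoh.IsCohenMacaulayLocalRing
          ((BlowUp.exceptional (X ↘ Spec (CommRingCat.of A)) (Curv2.idealSheaf A (IsLocalRing.maximalIdeal A))).subscheme.presheaf.stalk e)) ∧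
      topologicalKrullDim ↥(BlowUp.exceptional (X ↘ Spec (CommRingCat.of A)) (Curv2.idealSheaf A (IsLocalRing.maximalIdeal A))).subscheme = 1 ∧
      Subsingleton (Coh.HH X (CohB1.tensorMod
        (CohB1.tensorPow (ClSub.idealMod (BlowUp.exceptional (X ↘ Spec (CommRingCat.of A)) (Curv2.idealSheaf A (IsLocalRing.maximalIdeal A)))) n)
        (ClSub.quotMod (BlowUp.exceptional (X ↘ Spec (CommRingCat.of A)) (Curv2.idealSheaf A (IsLocalRing.maximalIdeal A))))) 1) ∧
      Module.length A (Coh.HH X (CohB1.tensorMod
        (CohB1.tensorPow (ClSub.idealMod (BlowUp.exceptional (X ↘ Spec (CommRingCat.of A)) (Curv2.idealSheaf A (IsLocalRing.maximalIdeal A)))) n)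
        (ClSub.quotMod (BlowUp.exceptional (X ↘ Spec (CommRingCat.of A)) (Curv2.idealSheaf A (IsLocalRing.maximalIdeal A))))) 0) =
        Module.length A (↥(IsLocalRing.maximalIdeal A ^ n) ⧸
          (Submodule.comap (IsLocalRing.maximalIdeal A ^ n).subtype (IsLocalRing.maximalIdeal A ^ (n + 1)))) := by
  have hne : IsLocalRing.maximalIdeal A ≠ ⊥ := by
    intro h
    have h1 : IsField A := IsLocalRing.isField_iff_maximalIdeal_eq.2 h
    have h2 := ringKrullDim_eq_zero_of_isField h1
    rw [hdim] at h2
    exact absurd h2 (by decide)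
  have hf : IsModif (X ↘ Spec (CommRingCat.of A)) :=
    IsModif.of_isBlowUp (RatPow.idealSheaf_ne_bot hne)
      (RatPow.isFiniteTypeIdeal_idealSheaf (IsNoetherian.noetherian _)) hb
  have hE : BlowUp.IsEffCartierIdeal (BlowUp.exceptional (X ↘ Spec (CommRingCat.of A))
      (Curv2.idealSheaf A (IsLocalRing.maximalIdeal A))) := hb.1
  have hnorm : Pi1.IsNormalScheme X := Groth.Agent.S1650.result A hN hdim hA X _ hb
  have hX : Subsingleton (Coh.HH X (Coh.structureModule X) 1) :=
    hA X _ hf.proper hf.integral hnorm hf.exists_isIso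
  have hvan : ∀ M : X.Modules, Coh.IsCoh M → Subsingleton (Coh.HH X M 2) := by
    obtain ⟨U, hU, hfU⟩ := hf.exists_isIso
    have := hf.proper
    have := hf.integral
    exact fun M hM => ModVanish.subsingleton_HH hdim (X ↘ Spec (CommRingCat.of A)) U hU M hM 2 le_rfl
  exact ⟨fun e => K955.ExcDiv.isCM_exc hdim hf hE hnorm e, K955.ExcDiv.dim_eq_one hdim hf hE,
    K955.TwistPow.twist_one hdim hf hvan hX rfl hE n, K955.TwistPow.twist_zero hf hvan hX rfl hE n⟩

end Groth.Agent.S7337
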