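import Groth.Statements.S7338
import Groth.Agent.Resolve.K955.RpushMod
import Groth.Agent.Fdesc.StructMod
import Groth.Agent.CohqA.RelCoh2

set_option autoImplicit false
universe u
open CategoryTheory CategoryTheory.Limits AlgebraicGeometry
open Resolve

namespace Groth.Agent.S7338

/-- Let (A, m) be a Noetherian normal local domain of dimension two, and X, X' integral schemes proper
over Spec A, each an isomorphism over some nonempty open of Spec A (modifications), with X normal,
and g : X' → X a morphism over Spec A. Then R^1 g_* O_{X'} is generated by global sections and its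
support is a finite set of closed points of X, and there is a short exact sequence 0 → H^1(X, O_X) →
H^1(X', O_{X'}) → H^0(X, R^1 g_* O_{X'}) → 0, recorded here as the additivity of A-lengths. (R^1 g_*
is the right derived functor of g_* on O-modules; that O_{X'}-modules have injective resolutions is
carried as an instance hypothesis.) -/
theorem result (A : Type u) [CommRing A] [IsDomain A] [IsLocalRing A] [IsNoetherianRing A]
    [IsIntegrallyClosed A] (hdim : ringKrullDim A = 2)
    (X X' : Scheme.{u}) [X.Over (Spec (CommRingCat.of A))] [X'.Over (Spec (CommRingCat.of A))]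
    [IsProper (X ↘ Spec (CommRingCat.of A))] [IsProper (X' ↘ Spec (CommRingCat.of A))] [IsIntegral X] [IsIntegral X']
    (hX : ∃ U : (Spec (CommRingCat.of A)).Opens, (U : Set (Spec (CommRingCat.of A))).Nonempty ∧ IsIso ((X ↘ Spec (CommRingCat.of A)) ∣_ U))
    (hX' : ∃ U : (Spec (CommRingCat.of A)).Opens, (U : Set (Spec (CommRingCat.of A))).Nonempty ∧ IsIso ((X' ↘ Spec (CommRingCat.of A)) ∣_ U))
    (hXn : Pi1.IsNormalScheme X) (g : X' ⟶ X) (hg : g ≫ (X ↘ Spec (CommRingCat.of A)) = X' ↘ Spec (CommRingCat.of A))
    [HasInjectiveResolutions X'.Modules] :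
    Curv2.IsGloballyGenerated ((Coh.Rpush g 1).obj (Coh.structureModule X')) ∧
      {x : X | Nontrivial (((Coh.Rpush g 1).obj (Coh.structureModule X')).presheaf.stalk x)}.Finite ∧
      (∀ x : X, Nontrivial (((Coh.Rpush g 1).obj (Coh.structureModule X')).presheaf.stalk x) → IsClosed ({x} : Set X)) ∧
      Module.length A (Coh.HH X' (Coh.structureModule X') 1) =
        Module.length A (Coh.HH X (Coh.structureModule X) 1) +
          Module.length A (Coh.HH X ((Coh.Rpush g 1).obj (Coh.structureModule X')) 0) := by
  have hS0 : IsNoetherianRing (CommRingCat.of A) := inferInstanceAs (IsNoetherianRing A)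
  have hNS : IsNoetherian (Spec (CommRingCat.of A)) := inferInstance
  have hNX : IsNoetherian X := K955.RpushMod.isNoetherian_of (X ↘ Spec (CommRingCat.of A))
  have hNX' : IsNoetherian X' := K955.RpushMod.isNoetherian_of (X' ↘ Spec (CommRingCat.of A))
  have hgp : IsProper (g ≫ (X ↘ Spec (CommRingCat.of A))) := hg ▸ inferInstance
  have hgpr : IsProper g := IsProper.of_comp g (X ↘ Spec (CommRingCat.of A))
  have hbir := K955.RpushMod.exists_isIso (X ↘ Spec (CommRingCat.of A)) (X' ↘ Spec (CommRingCat.of A)) g hg hX hX'
  obtain ⟨U, hU, hfU⟩ := hX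
  have hd : ∀ x : X, ringKrullDim (X.presheaf.stalk x) ≤ 2 := fun x => by
    refine (K955.RpushMod.ringKrullDim_stalk_le (X ↘ Spec (CommRingCat.of A)) U hU hfU x).trans ?_
    rw [← hdim]
    exact K955.RpushMod.ringKrullDim_stalk_spec A _
  obtain ⟨hfin, hcl⟩ := K955.BadPts.exists_finite_bad g hbir hXn hd
  have hqc : Coh.IsQCoh (Coh.structureModule X') := Fdesc.StructMod.isQCoh_structureModule X'
  have hL : ∀ V ≤ K955.BadPts.isoLocus g, Subsingleton Γ((Coh.Rpush g 1).obj (Coh.structureModule X'), V) :=
    fun V hV => K955.RpushMod.subsingleton_rpush g (Coh.structureModule X') hqc 1 one_pos V hV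
  have hsub : {x : X | Nontrivial (((Coh.Rpush g 1).obj (Coh.structureModule X')).presheaf.stalk x)} ⊆
      (K955.BadPts.isoLocus g : Set X)ᶜ := by
    intro x hx hxL
    have h1 := K955.RpushMod.subsingleton_stalk _ _ hL x hxL
    exact not_nontrivial_iff_subsingleton.2 h1 hx
  refine ⟨K955.RpushMod.isGloballyGenerated_of_bad _ _ hL
    (CohqA.RelCoh.isQCoh_Rpush g (Coh.structureModule X') hqc 1) hfin hcl, hfin.subset hsub,
    fun x hx => hcl x (hsub hx), ?_⟩
  obtain ⟨V, hV, hgV⟩ := hbir
  have hiso : IsIso (ClSub.unitToPush g) := by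
    refine K931.UnitInv.isIso_unitToPush_of_bijective g fun W => ?_
    have := K936.Birational.isIso_app hXn g V hV hgV W
    exact ConcreteCategory.bijective_of_isIso (g.app W)
  let e : Coh.structureModule X ≅ (Scheme.Modules.pushforward g).obj (Coh.structureModule X') :=
    @asIso _ _ _ _ (ClSub.unitToPush g) hiso
  have h2 : Subsingleton (Coh.HH X ((Scheme.Modules.pushforward g).obj (Coh.structureModule X')) 2) := by
    have h3 : Subsingleton (Coh.HH X (Coh.structureModule X) 2) :=
      CurvesC.ModVanish.subsingleton_HH hdim (X ↘ Spec (CommRingCat.of A)) U hU _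
        (Fdesc.StructMod.isCoh_structureModule X) 2 le_rfl
    exact (VarietyA.EulerLES.equivA A e 2).symm.toEquiv.subsingleton
  obtain ⟨a, b, ha, hab, hb⟩ := K955.LerayLow.exists_low g hg (Coh.structureModule X') h2
  rw [Module.length_eq_add_of_exact a b ha hb hab, (VarietyA.EulerLES.equivA A e 1).length_eq]

end Groth.Agent.S7338
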