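import Groth.Statements.S7339
import Groth.Agent.Dix.C5tw490
import Groth.Agent.Models.H49.ExcIff

set_option autoImplicit false
universe u
open CategoryTheory CategoryTheory.Limits AlgebraicGeometry
open Resolve

namespace Groth.Agent.S7339

/-- Let X be a Noetherian scheme, ι : E → X a closed immersion which is an exceptional curve of the
first kind, with ideal sheaf I and M = O_X(E) an inverse of I for the tensor product, and L an
invertible O_X-module whose pullback to E ≅ P^1_k (for some field k and isomorphism e : P^1_k ≅ E)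
is isomorphic to O(n). If H^1(X, L) = 0 and n ≥ 0, then H^1(X, L(iE)) = 0 for 0 ≤ i ≤ n + 1, where
L(iE) = L ⊗ M^{⊗ i}. (The published statement also asserts, for n ≤ 0, that H^1(X, L) → H^1(X, L(E))
is injective; this row states only the vanishing for n ≥ 0.) -/
theorem result {E X : Scheme.{u}} [IsNoetherian X] (ι : E ⟶ X) [IsClosedImmersion ι]
    (hE : Models.IsExcCurve ι) (M : X.Modules) (hM : ClSub.IsInverseOf M (ClSub.idealMod ι.ker))
    (L : X.Modules) (hL : PicF.IsInvertible L)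
    (k : Type u) [Field k] (e : CohB1.ProjSpace 1 k ≅ E) (n : ℕ)
    (hn : Nonempty ((Scheme.Modules.pullback (e.hom ≫ ι)).obj L ≅ Twist.twistProjSpace 1 k (n : ℤ)))
    (h1 : Subsingleton (Coh.HH X L 1)) (i : ℕ) (hi : i ≤ n + 1) :
    Subsingleton (Coh.HH X (CohB1.tensorMod L (CohB1.tensorPow M i)) 1) := by
  have hker : (e.hom ≫ ι).ker = ι.ker := by
    rw [← Scheme.IdealSheafData.map_ker, Scheme.Hom.ker_eq_bot_of_isIso e.hom,
      Scheme.IdealSheafData.map_bot]
  obtain ⟨-, k', _, e', ⟨h'⟩⟩ := hE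
  have hinvI : PicF.IsInvertible (ClSub.idealMod ι.ker) :=
    (Groth.Agent.Dix.IdealModCartier.isInvertible_of_isInverseOf hM).2
  have hd : ArSurf.curveDeg k (CohB1.ProjSpace 1 k)
      ((Scheme.Modules.pullback (e.hom ≫ ι)).obj (ClSub.idealMod ι.ker)) = 1 := by
    have hc : (e' ≪≫ e.symm).hom ≫ e.hom ≫ ι = e'.hom ≫ ι := by simp
    have h1 : (Scheme.Modules.pullback (e' ≪≫ e.symm).hom).obj
        ((Scheme.Modules.pullback (e.hom ≫ ι)).obj (ClSub.idealMod ι.ker)) ≅ Twist.twistProjSpace 1 k' 1 :=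
      ((Scheme.Modules.pullbackComp (e' ≪≫ e.symm).hom (e.hom ≫ ι)).app _) ≪≫
        (Scheme.Modules.pullbackCongr hc).app _ ≪≫ h'
    have h2 := (Groth.Agent.Models.H49.ExcIff.of_iso k (CohB1.ProjSpace 1 k) k' (e' ≪≫ e.symm)
      ((Scheme.Modules.pullback (e.hom ≫ ι)).obj (ClSub.idealMod ι.ker))
      (Groth.Agent.Fdesc.LocGen.isInvertible_pullback _ hinvI) h1).2
    have hiso : IsIso ((CohB1.ProjSpace 1 k) ↘ Spec (CommRingCat.of k)).appTop := Groth.Agent.S0024.result 1 k
    rw [h2, Groth.Agent.Dix.EtMinF.finrank_H0 k (CohB1.ProjSpace 1 k)]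
    rfl
  have hdL : ArSurf.curveDeg k (CohB1.ProjSpace 1 k) ((Scheme.Modules.pullback (e.hom ≫ ι)).obj L) = n := by
    obtain ⟨φ⟩ := hn
    rw [Groth.Agent.Dix.Cast0.curveDeg_congr k φ, Groth.Agent.Dix.Cast2.wp2_deg]
  refine Groth.Agent.Dix.C5tw490.H1_twist (e.hom ≫ ι) (by rw [hker]; exact hd) M L (by rw [hker]; exact hM) hL h1 i ?_
  rw [hdL]
  exact_mod_cast hi

end Groth.Agent.S7339
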