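import Groth.Statements.S7340
import Mathlib.Algebra.CharP.Frobenius
import Mathlib.Algebra.CharP.Algebra
import Mathlib.Algebra.CharP.Invertible
import Mathlib.Data.Nat.Choose.Dvd
import Mathlib.Tactic.LinearCombination
import Mathlib.Tactic.Module

set_option autoImplicit false
universe u
open Polynomial
open Resolve

namespace Groth.Agent.S7340

section Aux

/-- The Cartier-type identity `(u+v)^(p-1) d(u+v) = u^(p-1) du + v^(p-1) dv + dg`. -/
theorem exists_add (p : ℕ) (hp : p.Prime) {R S M : Type*} [CommRing R] [CommRing S] [Algebra R S]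
    [AddCommGroup M] [Module R M] [Module S M] (D : Derivation R S M) (u v : S) :
    ∃ g : S, (u + v) ^ (p - 1) • D (u + v) = u ^ (p - 1) • D u + v ^ (p - 1) • D v + D g := by
  obtain ⟨n, rfl⟩ : ∃ n, p = n + 1 := ⟨p - 1, by have := hp.pos; omega⟩
  have hc : ∀ m, m < n → ∃ c : ℕ, c * (m + 1) = n.choose m ∧ c * (n - m) = n.choose (m + 1) := by
    intro m hm
    obtain ⟨c, hc⟩ := Nat.Prime.dvd_choose_self hp (Nat.succ_ne_zero m) (Nat.succ_lt_succ hm)
    simp only [Nat.succ_eq_add_one] at hc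
    refine ⟨c, ?_, ?_⟩
    · have h1 := Nat.add_one_mul_choose_eq n m
      rw [hc] at h1
      have h2 : (n + 1) * n.choose m = (n + 1) * (c * (m + 1)) := by rw [h1]; ring
      exact (Nat.eq_of_mul_eq_mul_left (Nat.succ_pos n) h2).symm
    · have h1 := Nat.choose_mul_succ_eq n (m + 1)
      rw [hc] at h1
      have h3 : n + 1 - (m + 1) = n - m := by omega
      rw [h3] at h1
      have h2 : (n + 1) * n.choose (m + 1) = (n + 1) * (c * (n - m)) := by
        rw [mul_comm (n + 1) (n.choose (m + 1)), h1]; ring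
      exact (Nat.eq_of_mul_eq_mul_left (Nat.succ_pos n) h2).symm
  choose! c hc1 hc2 using hc
  refine ⟨∑ m ∈ Finset.range n, c m • (u ^ (m + 1) * v ^ (n - m)), ?_⟩
  have key : D (∑ m ∈ Finset.range n, c m • (u ^ (m + 1) * v ^ (n - m))) =
      (∑ m ∈ Finset.range n, (n.choose m : S) * (u ^ m * v ^ (n - m))) • D u +
      (∑ m ∈ Finset.range n, (n.choose (m + 1) : S) * (u ^ (m + 1) * v ^ (n - (m + 1)))) • D v := by
    rw [map_sum, Finset.sum_smul, Finset.sum_smul, ← Finset.sum_add_distrib]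
    refine Finset.sum_congr rfl fun m hm => ?_
    rw [Finset.mem_range] at hm
    rw [map_nsmul, D.leibniz, D.leibniz_pow, D.leibniz_pow, ← hc1 m hm, ← hc2 m hm]
    rw [show m + 1 - 1 = m by omega, show n - m - 1 = n - (m + 1) by omega]
    simp only [← Nat.cast_smul_eq_nsmul S]
    push_cast
    module
  have e1 : (∑ m ∈ Finset.range n, (n.choose m : S) * (u ^ m * v ^ (n - m))) = (u + v) ^ n - u ^ n := by
    rw [add_pow, Finset.sum_range_succ]
    simp only [Nat.sub_self, pow_zero, Nat.choose_self, Nat.cast_one, mul_one, add_sub_cancel_right]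
    exact Finset.sum_congr rfl fun m _ => by ring
  have e2 : (∑ m ∈ Finset.range n, (n.choose (m + 1) : S) * (u ^ (m + 1) * v ^ (n - (m + 1)))) =
      (u + v) ^ n - v ^ n := by
    rw [add_pow, Finset.sum_range_succ']
    simp only [Nat.sub_zero, pow_zero, Nat.choose_zero_right, Nat.cast_one, mul_one, one_mul,
      add_sub_cancel_right]
    exact Finset.sum_congr rfl fun m _ => by ring
  rw [key, e1, e2, map_add, Nat.add_sub_cancel]
  module

variable {p : ℕ} [hp : Fact p.Prime] {R : Type u} [CommRing R] [CharP R p] {b : R}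
  {S : Type u} [CommRing S] [Algebra R S] {y : S} (hy : y ^ p = algebraMap R S b)

include hy

omit hp [CharP R p] in
theorem pow_mul_add (q r : ℕ) : y ^ (p * q + r) = algebraMap R S (b ^ q) * y ^ r := by
  rw [pow_add, pow_mul, hy, map_pow]

variable (T : Ω[S⁄R] →ₗ[R] Ω[R⁄ℤ])

omit hp [CharP R p] in
theorem T_pow_mul_add (q r : ℕ) (w : Ω[S⁄R]) :
    T (y ^ (p * q + r) • w) = b ^ q • T (y ^ r • w) := by
  rw [pow_mul_add hy, mul_smul, algebraMap_smul, map_smul]

variable (hind : ∀ P : S → Prop, (∀ u v, P u → P v → P (u + v)) → (∀ (r : R) (i : ℕ), P (r • y ^ i)) →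
  ∀ s, P s)
include hind

variable (hT : ∀ i : ℕ, i + 2 ≤ p → T (y ^ i • KaehlerDifferential.D R _ y) = 0)
include hT

theorem T_D (g : S) :
    T (KaehlerDifferential.D R _ g) = 0 := by
  refine hind (fun g => T (KaehlerDifferential.D R _ g) = 0) (fun u v hu hv => ?_) (fun r i => ?_) g
  · rw [map_add, map_add, hu, hv, add_zero]
  · rw [Derivation.map_smul, map_smul, Derivation.leibniz_pow]
    rcases i with _ | i
    · simp
    rw [Nat.add_sub_cancel, map_nsmul]
    have h0 := Nat.div_add_mod i p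
    have h1 : i % p < p := Nat.mod_lt _ hp.out.pos
    by_cases h2 : i % p + 2 ≤ p
    · rw [← h0, T_pow_mul_add hy, hT _ h2, smul_zero, smul_zero, smul_zero]
    · have h3 : i + 1 = p * (i / p + 1) := by
        rw [mul_add, mul_one]; omega
      rw [h3, ← Nat.cast_smul_eq_nsmul R, Nat.cast_mul, CharP.cast_eq_zero, zero_mul, zero_smul,
        smul_zero]

variable (hT' : T (y ^ (p - 1) • KaehlerDifferential.D R _ y) = KaehlerDifferential.D ℤ R b)
include hT'

theorem exists_norm [CharP S p] (f : S) :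
    ∃ c : R, f ^ p = algebraMap R S c ∧
      T (f ^ (p - 1) • KaehlerDifferential.D R _ f) = KaehlerDifferential.D ℤ R c := by
  refine hind (fun f => ∃ c : R, f ^ p = algebraMap R S c ∧
      T (f ^ (p - 1) • KaehlerDifferential.D R _ f) = KaehlerDifferential.D ℤ R c)
    (fun u v hu hv => ?_) (fun r i => ?_) f
  · obtain ⟨c, hc, hc'⟩ := hu
    obtain ⟨d, hd, hd'⟩ := hv
    refine ⟨c + d, ?_, ?_⟩
    · rw [add_pow_char, hc, hd, map_add]
    · obtain ⟨g, hg⟩ := exists_add p hp.out (KaehlerDifferential.D R S) u v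
      rw [hg, map_add, map_add, hc', hd', T_D hy T hind hT, add_zero, map_add]
  · refine ⟨r ^ p * b ^ i, ?_, ?_⟩
    · rw [smul_pow, ← pow_mul, mul_comm, pow_mul, hy, map_mul, map_pow, map_pow, Algebra.smul_def,
        map_pow]
    · have h0 : KaehlerDifferential.D ℤ R (r ^ p * b ^ i) = r ^ p • (i • b ^ (i - 1) • KaehlerDifferential.D ℤ R b) := by
        rw [Derivation.leibniz, Derivation.leibniz_pow, Derivation.leibniz_pow, ← Nat.cast_smul_eq_nsmul R p,
          CharP.cast_eq_zero, zero_smul, smul_zero, add_zero]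
      rw [h0, Derivation.map_smul, Derivation.leibniz_pow]
      rcases i with _ | i
      · simp
      have h1 : (r • y ^ (i + 1)) ^ (p - 1) • r • (i + 1) • y ^ (i + 1 - 1) • KaehlerDifferential.D R S y =
          r ^ p • (i + 1) • (y ^ (p * i + (p - 1)) • KaehlerDifferential.D R S y) := by
        have h2 : y ^ (p * i + (p - 1)) = (y ^ (i + 1)) ^ (p - 1) * y ^ i := by
          rw [← pow_mul, ← pow_add]
          congr 1
          obtain ⟨n, hn⟩ : ∃ n, p = n + 1 := ⟨p - 1, by have := hp.out.pos; omega⟩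
          rw [hn, Nat.add_sub_cancel]
          ring
        have h3 : r ^ p = r ^ (p - 1) * r := by
          rw [← pow_succ, Nat.sub_add_cancel hp.out.one_lt.le]
        rw [h2, h3, Nat.add_sub_cancel, smul_pow]
        simp only [← Nat.cast_smul_eq_nsmul S, Algebra.smul_def r, Algebra.smul_def (r ^ (p - 1)), ← algebraMap_smul S r,
          ← algebraMap_smul S (r ^ (p - 1) * r), map_mul, smul_smul]
        congr 1
        ring
      rw [h1, map_smul, map_nsmul, T_pow_mul_add hy, hT', Nat.add_sub_cancel]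

end Aux

theorem result (p : ℕ) [Fact p.Prime] (R : Type u) [CommRing R] [CharP R p] (a b : R)
    (φ : AdjoinRoot (X ^ p - C a : R[X]) →ₐ[R] AdjoinRoot (X ^ p - C b : R[X]))
    (Tx : Ω[AdjoinRoot (X ^ p - C a : R[X])⁄R] →ₗ[R] Ω[R⁄ℤ])
    (Ty : Ω[AdjoinRoot (X ^ p - C b : R[X])⁄R] →ₗ[R] Ω[R⁄ℤ])
    (hTx : ∀ i : ℕ, i + 2 ≤ p →
      Tx (AdjoinRoot.root (X ^ p - C a) ^ i • KaehlerDifferential.D R _ (AdjoinRoot.root (X ^ p - C a))) = 0)
    (hTx' : Tx (AdjoinRoot.root (X ^ p - C a) ^ (p - 1) • KaehlerDifferential.D R _ (AdjoinRoot.root (X ^ p - C a))) =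
      KaehlerDifferential.D ℤ R a)
    (hTy : ∀ i : ℕ, i + 2 ≤ p →
      Ty (AdjoinRoot.root (X ^ p - C b) ^ i • KaehlerDifferential.D R _ (AdjoinRoot.root (X ^ p - C b))) = 0)
    (hTy' : Ty (AdjoinRoot.root (X ^ p - C b) ^ (p - 1) • KaehlerDifferential.D R _ (AdjoinRoot.root (X ^ p - C b))) =
      KaehlerDifferential.D ℤ R b)
    (s t : AdjoinRoot (X ^ p - C a : R[X])) :
    Tx (s • KaehlerDifferential.D R _ t) = Ty (φ s • KaehlerDifferential.D R _ (φ t)) := by
  have hpow : ∀ c : R, (AdjoinRoot.root (X ^ p - C c : R[X])) ^ p = algebraMap R _ c := by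
    intro c
    have h := AdjoinRoot.eval₂_root (X ^ p - C c : R[X])
    rw [eval₂_sub, eval₂_X_pow, eval₂_C, sub_eq_zero] at h
    exact h
  have hind : ∀ c : R, ∀ P : AdjoinRoot (X ^ p - C c : R[X]) → Prop, (∀ u v, P u → P v → P (u + v)) →
      (∀ (r : R) (i : ℕ), P (r • AdjoinRoot.root (X ^ p - C c : R[X]) ^ i)) → ∀ s, P s := by
    intro c P hadd hmul s
    obtain ⟨f, rfl⟩ := AdjoinRoot.mk_surjective s
    induction f using Polynomial.induction_on' with
    | add f g hf hg => rw [map_add]; exact hadd _ _ hf hg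
    | monomial n r =>
      rw [← C_mul_X_pow_eq_monomial, map_mul, map_pow, AdjoinRoot.mk_X, AdjoinRoot.mk_C]
      have := hmul r n
      rwa [Algebra.smul_def] at this
  have hp := (inferInstance : Fact p.Prime).out
  have hmon : (X ^ p - C b : R[X]).Monic := monic_X_pow_sub_C b hp.ne_zero
  haveI : Nontrivial R := CharP.nontrivial_of_char_ne_one (R := R) hp.one_lt.ne'
  have hinj : Function.Injective (algebraMap R (AdjoinRoot (X ^ p - C b : R[X]))) := by
    rw [injective_iff_map_eq_zero]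
    intro r hr
    by_contra h0
    have h1 : AdjoinRoot.mk (X ^ p - C b : R[X]) (C r) = 0 := hr
    rw [AdjoinRoot.mk_eq_zero] at h1
    refine hmon.not_dvd_of_natDegree_lt (C_ne_zero.mpr h0) ?_ h1
    rw [natDegree_C, natDegree_X_pow_sub_C]
    exact hp.pos
  haveI : CharP (AdjoinRoot (X ^ p - C b : R[X])) p := charP_of_injective_algebraMap hinj p
  set x := AdjoinRoot.root (X ^ p - C a : R[X]) with hx
  set y := AdjoinRoot.root (X ^ p - C b : R[X]) with hy
  obtain ⟨c, hc, hc'⟩ := exists_norm (hpow b) Ty (hind b) hTy hTy' (φ x)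
  have hca : c = a := by
    apply hinj
    rw [← hc, ← map_pow, hx, hpow a, AlgHom.commutes]
  rw [hca] at hc'
  have hfp : (φ x) ^ p = algebraMap R _ a := by rw [hc, hca]
  have key : ∀ n : ℕ, Tx (x ^ n • KaehlerDifferential.D R _ x) = Ty ((φ x) ^ n • KaehlerDifferential.D R _ (φ x)) := by
    intro n
    have h0 := Nat.div_add_mod n p
    have h1 : n % p < p := Nat.mod_lt _ hp.pos
    rw [← h0, T_pow_mul_add (hpow a), T_pow_mul_add hfp]
    congr 1
    by_cases h2 : n % p + 2 ≤ p
    · rw [hTx _ h2]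
      have h3 := T_D (hpow b) Ty (hind b) hTy ((φ x) ^ (n % p + 1))
      rw [Derivation.leibniz_pow, Nat.add_sub_cancel, ← Nat.cast_smul_eq_nsmul R, map_smul] at h3
      have h4 : IsUnit ((n % p + 1 : ℕ) : R) := by
        rw [CharP.isUnit_natCast_iff (R := R) hp]
        intro h5
        have := Nat.le_of_dvd (by omega) h5
        omega
      exact (h4.smul_eq_zero.mp h3).symm
    · have h3 : n % p = p - 1 := by omega
      rw [h3, hTx', hc']
  refine hind a (fun s => Tx (s • KaehlerDifferential.D R _ t) = Ty (φ s • KaehlerDifferential.D R _ (φ t)))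
    (fun u v hu hv => ?_) (fun r i => ?_) s
  · simp only [map_add, add_smul, hu, hv]
  refine hind a (fun t => Tx ((r • x ^ i) • KaehlerDifferential.D R _ t) =
    Ty (φ (r • x ^ i) • KaehlerDifferential.D R _ (φ t))) (fun u v hu hv => ?_) (fun r' j => ?_) t
  · simp only [map_add, smul_add, hu, hv]
  · have h1 : (r • x ^ i) • KaehlerDifferential.D R _ (r' • x ^ j) =
        r • r' • j • (x ^ (i + (j - 1)) • KaehlerDifferential.D R _ x) := by
      rw [Derivation.map_smul, Derivation.leibniz_pow, pow_add, Algebra.smul_def r (x ^ i)]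
      simp only [← Nat.cast_smul_eq_nsmul R]
      module
    have h2 : φ (r • x ^ i) • KaehlerDifferential.D R _ (φ (r' • x ^ j)) =
        r • r' • j • ((φ x) ^ (i + (j - 1)) • KaehlerDifferential.D R _ (φ x)) := by
      rw [map_smul, map_smul, map_pow, map_pow, Derivation.map_smul, Derivation.leibniz_pow, pow_add,
        Algebra.smul_def r ((φ x) ^ i)]
      simp only [← Nat.cast_smul_eq_nsmul R]
      module
    change Tx ((r • x ^ i) • KaehlerDifferential.D R _ (r' • x ^ j)) =
      Ty (φ (r • x ^ i) • KaehlerDifferential.D R _ (φ (r' • x ^ j)))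
    rw [h1, h2]
    simp only [map_smul, map_nsmul, key]

end Groth.Agent.S7340
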