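import Groth.Statements.S7341
import Groth.Agent.Models.K378.Types

set_option autoImplicit false
open Finset
open Models Models.NumericalType

namespace Groth.Agent.S7341

open K378.Gram K378.Dynkin K378.Types

/-- The two non-simple cases, with the double edge between `j` and `k`. -/
theorem dbl {n : ℕ} (T : Models.NumericalType n) (hn : 3 < n) (i j k : Fin n)
    (hij : i ≠ j) (hjk : j ≠ k) (hik : i ≠ k) (hi : T.IsMinusTwo i) (hj : T.IsMinusTwo j)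
    (hk : T.IsMinusTwo k) (h1 : gram T i j = 1) (h2 : gram T j k = √2) :
    ∃ w : ℤ, (T.w i = w ∧ T.w j = w ∧ T.w k = 2 * w ∧ T.a i j = w ∧ T.a j k = 2 * w ∧
          T.m j ≤ 2 * T.m i ∧ T.m i + 2 * T.m k ≤ 2 * T.m j ∧ T.m j ≤ 2 * T.m k) ∨
        (T.w i = 2 * w ∧ T.w j = 2 * w ∧ T.w k = w ∧ T.a i j = 2 * w ∧ T.a j k = 2 * w ∧
          T.m j ≤ 2 * T.m i ∧ T.m i + T.m k ≤ 2 * T.m j ∧ T.m j ≤ T.m k) := by
  obtain ⟨e1, e2, e3⟩ := simple_edge T (by omega) i j hij hi hj h1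
  rcases double_edge T (by omega) j k hjk hj hk h2 with ⟨f1, f2, f3⟩ | ⟨f1, f2, f3⟩
  · refine ⟨T.w k, Or.inr ⟨by omega, by omega, rfl, by omega, by omega, ?_, ?_, ?_⟩⟩
    · have := m_ineq1 T i j hi hij 1 (by omega); omega
    · have := m_ineq2 T j i k hj hij.symm hjk hik 1 1 (by omega) (by omega); omega
    · have := m_ineq1 T k j hk hjk.symm 2 (by omega); omega
  · refine ⟨T.w i, Or.inl ⟨by omega, by omega, by omega, by omega, by omega, ?_, ?_, ?_⟩⟩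
    · have := m_ineq1 T i j hi hij 1 (by omega); omega
    · have := m_ineq2 T j i k hj hij.symm hjk hik 1 2 (by omega) (by omega); omega
    · have := m_ineq1 T k j hk hjk.symm 1 (by omega); omega

/-- Classification of proper subgraphs which are chains of three vertices: let T be a numerical type on
n > 3 indices and i, j, k distinct (-2)-indices with a_ij > 0 and a_jk > 0. Then a_ik = 0 and, up to
reversing the order of i, j, k, one of the following holds for some integer w: (A3) w_i = w_j = w_k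
= w, a_ij = a_jk = w, with 2 m_i ≥ m_j, 2 m_j ≥ m_i + m_k, 2 m_k ≥ m_j; (C3) w_i = w_j = w, w_k =
2w, a_ij = w, a_jk = 2w, with 2 m_i ≥ m_j, 2 m_j ≥ m_i + 2 m_k, 2 m_k ≥ m_j; (B3) w_i = w_j = 2w,
w_k = w, a_ij = a_jk = 2w, with 2 m_i ≥ m_j, 2 m_j ≥ m_i + m_k, m_k ≥ m_j. -/
theorem result {n : ℕ} (T : Models.NumericalType n) (hn : 3 < n) (i j k : Fin n)
    (hij : i ≠ j) (hjk : j ≠ k) (hik : i ≠ k) (hi : T.IsMinusTwo i) (hj : T.IsMinusTwo j) (hk : T.IsMinusTwo k)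
    (h1 : 0 < T.a i j) (h2 : 0 < T.a j k) :
    T.a i k = 0 ∧ ∃ (i' k' : Fin n) (w : ℤ), ((i' = i ∧ k' = k) ∨ (i' = k ∧ k' = i)) ∧
      ((T.w i' = w ∧ T.w j = w ∧ T.w k' = w ∧ T.a i' j = w ∧ T.a j k' = w ∧
          T.m j ≤ 2 * T.m i' ∧ T.m i' + T.m k' ≤ 2 * T.m j ∧ T.m j ≤ 2 * T.m k') ∨
        (T.w i' = w ∧ T.w j = w ∧ T.w k' = 2 * w ∧ T.a i' j = w ∧ T.a j k' = 2 * w ∧
          T.m j ≤ 2 * T.m i' ∧ T.m i' + 2 * T.m k' ≤ 2 * T.m j ∧ T.m j ≤ 2 * T.m k') ∨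
        (T.w i' = 2 * w ∧ T.w j = 2 * w ∧ T.w k' = w ∧ T.a i' j = 2 * w ∧ T.a j k' = 2 * w ∧
          T.m j ≤ 2 * T.m i' ∧ T.m i' + T.m k' ≤ 2 * T.m j ∧ T.m j ≤ T.m k')) := by
  have hs := sys' T (t := 3) (by norm_num) ![i, j, k] (inj3 hij hjk hik) hn (by
    intro l; fin_cases l <;> assumption)
  have h1' : gram T i j ≠ 0 := gram_ne T i j h1.ne'
  have h2' : gram T j k ≠ 0 := gram_ne T j k h2.ne'
  have h3 := hs.tri (i := 0) (j := 1) (k := 2) (by decide) (by decide) (by decide) h1' h2'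
  have h4 := hs.chain3 (i := 0) (j := 1) (k := 2) (by decide) (by decide) (by decide) h1' h2'
  refine ⟨(gram_eq_zero_iff T i k).1 h3, ?_⟩
  rcases h4 with ⟨h4, h5⟩ | ⟨h4, h5⟩ | ⟨h4, h5⟩
  · obtain ⟨e1, e2, e3⟩ := simple_edge T (by omega) i j hij hi hj h4
    obtain ⟨f1, f2, f3⟩ := simple_edge T (by omega) j k hjk hj hk h5
    refine ⟨i, k, T.w i, Or.inl ⟨rfl, rfl⟩, Or.inl ⟨rfl, e3, by omega, e1, by omega, ?_, ?_, ?_⟩⟩
    · have := m_ineq1 T i j hi hij 1 (by omega); omega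
    · have := m_ineq2 T j i k hj hij.symm hjk hik 1 1 (by omega) (by omega); omega
    · have := m_ineq1 T k j hk hjk.symm 1 (by omega); omega
  · obtain ⟨w, h6⟩ := dbl T hn i j k hij hjk hik hi hj hk h4 h5
    exact ⟨i, k, w, Or.inl ⟨rfl, rfl⟩, Or.inr h6⟩
  · obtain ⟨w, h6⟩ := dbl T hn k j i hjk.symm hij.symm hik.symm hk hj hi
      ((gram_symm T k j).trans h5) ((gram_symm T j i).trans h4)
    exact ⟨k, i, w, Or.inr ⟨rfl, rfl⟩, Or.inr h6⟩

end Groth.Agent.S7341
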