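import Groth.Statements.S7342
import Groth.Agent.Models.K378.Types

set_option autoImplicit false
open Finset
open Models Models.NumericalType

namespace Groth.Agent.S7342

open K378.Gram K378.Dynkin K378.Types

/-- Let T be a numerical type on n indices, t ≥ 4 and n > t + 2. Then no t + 2 (-2)-indices of T,
pairwise distinct and numbered i_0, …, i_{t+1}, satisfy: a_{i_j i_{j+1}} > 0 for 1 ≤ j ≤ t - 1,
a_{i_0 i_2} > 0 and a_{i_{t-1} i_{t+1}} > 0. -/
theorem result {n : ℕ} (T : Models.NumericalType n) (t : ℕ) (ht : 4 ≤ t) (hn : t + 2 < n)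
    (v : Fin (t + 2) ↪ Fin n) (hv : ∀ j, T.IsMinusTwo (v j))
    (hchain : ∀ j j' : Fin (t + 2), 1 ≤ j.val → j.val + 1 ≤ t → j'.val = j.val + 1 → 0 < T.a (v j) (v j'))
    (h02 : ∀ j j' : Fin (t + 2), j.val = 0 → j'.val = 2 → 0 < T.a (v j) (v j'))
    (hlast : ∀ j j' : Fin (t + 2), j.val = t - 1 → j'.val = t + 1 → 0 < T.a (v j) (v j')) : False := by
  have hs := sys' T (t := t + 2) (by omega) v v.injective hn hv
  refine fork_fork_fin (t := t) (by omega) _ hs ?_ ?_ ?_
  · intro i j h1 h2 h3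
    exact gram_ne T _ _ (hchain i j h1 h2 h3).ne'
  · intro i j h1 h2
    exact gram_ne T _ _ (h02 i j h1 h2).ne'
  · intro i j h1 h2
    exact gram_ne T _ _ (hlast i j (by omega) h2).ne'

end Groth.Agent.S7342
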