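import Groth.Statements.S7343
import Groth.Agent.Models.K378.Types

set_option autoImplicit false
open Finset
open Models Models.NumericalType

namespace Groth.Agent.S7343

open K378.Gram K378.Dynkin K378.Types

/-- Let T be a numerical type on n > 7 indices. Then no seven (-2)-indices of T, pairwise distinct and
named f, g, h, i, j, k, l, have a_fg, a_gh, a_ij, a_jh, a_kl and a_lh all nonzero (three chains of
length two attached to h). -/
theorem result {n : ℕ} (T : Models.NumericalType n) (hn : 7 < n)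
    (v : Fin 7 ↪ Fin n) (hv : ∀ j, T.IsMinusTwo (v j))
    (h01 : T.a (v 0) (v 1) ≠ 0) (h12 : T.a (v 1) (v 2) ≠ 0) (h34 : T.a (v 3) (v 4) ≠ 0)
    (h42 : T.a (v 4) (v 2) ≠ 0) (h56 : T.a (v 5) (v 6) ≠ 0) (h62 : T.a (v 6) (v 2) ≠ 0) : False := by
  exact E6t_fin _ (sys' T (t := 7) (by norm_num) v v.injective hn hv) (gram_ne T _ _ h01)
    (gram_ne T _ _ h12) (gram_ne T _ _ h34) (gram_ne T _ _ h42) (gram_ne T _ _ h56)
    (gram_ne T _ _ h62)

end Groth.Agent.S7343
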