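import Groth.Statements.S7346
import Groth.Agent.Models.K378.Fork

set_option autoImplicit false
open Finset
open Models Models.NumericalType

namespace Groth.Agent.S7346

open K378.Gram K378.Dynkin K378.Types

/-- Classification of proper subgraphs of type D4 (one vertex joined to three others): let T be a
numerical type on n > 4 indices and i_1, …, i_4 distinct (-2)-indices with a_{12}, a_{13}, a_{14}
nonzero. Then for some integer w all w_{i_j} equal w, these intersection numbers equal w, all other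
a_{i_j i_k} (j ≠ k) vanish, and 2 m_1 ≥ m_2 + m_3 + m_4, 2 m_2 ≥ m_1, 2 m_3 ≥ m_1, 2 m_4 ≥ m_1. -/
theorem result {n : ℕ} (T : Models.NumericalType n) (hn : 4 < n)
    (v : Fin 4 ↪ Fin n) (hv : ∀ j, T.IsMinusTwo (v j)) (h01 : T.a (v 0) (v 1) ≠ 0) (h02 : T.a (v 0) (v 2) ≠ 0) (h03 : T.a (v 0) (v 3) ≠ 0) :
    ∃ w : ℤ, (∀ j : Fin 4, T.w (v j) = w) ∧
      T.a (v 0) (v 1) = w ∧
      T.a (v 0) (v 2) = w ∧
      T.a (v 0) (v 3) = w ∧
      T.a (v 1) (v 2) = 0 ∧
      T.a (v 1) (v 3) = 0 ∧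
      T.a (v 2) (v 3) = 0 ∧
      T.m (v 1) + T.m (v 2) + T.m (v 3) ≤ 2 * T.m (v 0) ∧
      T.m (v 0) ≤ 2 * T.m (v 1) ∧
      T.m (v 0) ≤ 2 * T.m (v 2) ∧
      T.m (v 0) ≤ 2 * T.m (v 3) := by
  have hs := sys' T (t := 4) (by norm_num) v v.injective hn hv
  have vne : ∀ i j : Fin 4, i ≠ j → v i ≠ v j := fun i j hij => v.injective.ne hij
  have g01 : gram T (v 0) (v 1) ≠ 0 := gram_ne T _ _ h01
  have g10 : gram T (v 1) (v 0) ≠ 0 := hs.ne_symm (i := 0) (j := 1) g01
  have g02 : gram T (v 0) (v 2) ≠ 0 := gram_ne T _ _ h02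
  have g20 : gram T (v 2) (v 0) ≠ 0 := hs.ne_symm (i := 0) (j := 2) g02
  have g03 : gram T (v 0) (v 3) ≠ 0 := gram_ne T _ _ h03
  have g30 : gram T (v 3) (v 0) ≠ 0 := hs.ne_symm (i := 0) (j := 3) g03
  have s01 : gram T (v 0) (v 1) = 1 := hs.fork_simple (i := 0) (j := 1) (k := 2) (l := 3) (by decide) (by decide) (by decide) (by decide) (by decide) (by decide) g01 g02 g03
  have s02 : gram T (v 0) (v 2) = 1 := hs.fork_simple (i := 0) (j := 2) (k := 1) (l := 3) (by decide) (by decide) (by decide) (by decide) (by decide) (by decide) g02 g01 g03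
  have s03 : gram T (v 0) (v 3) = 1 := hs.fork_simple (i := 0) (j := 3) (k := 1) (l := 2) (by decide) (by decide) (by decide) (by decide) (by decide) (by decide) g03 g01 g02
  have z12 : T.a (v 1) (v 2) = 0 := (gram_eq_zero_iff T _ _).1 (hs.tri (i := 1) (j := 0) (k := 2) (by decide) (by decide) (by decide) g10 g02)
  have z13 : T.a (v 1) (v 3) = 0 := (gram_eq_zero_iff T _ _).1 (hs.tri (i := 1) (j := 0) (k := 3) (by decide) (by decide) (by decide) g10 g03)
  have z23 : T.a (v 2) (v 3) = 0 := (gram_eq_zero_iff T _ _).1 (hs.tri (i := 2) (j := 0) (k := 3) (by decide) (by decide) (by decide) g20 g03)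
  obtain ⟨a01, a10, w01⟩ := simple_edge T (by omega) (v 0) (v 1) (vne 0 1 (by decide)) (hv 0) (hv 1) s01
  obtain ⟨a02, a20, w02⟩ := simple_edge T (by omega) (v 0) (v 2) (vne 0 2 (by decide)) (hv 0) (hv 2) s02
  obtain ⟨a03, a30, w03⟩ := simple_edge T (by omega) (v 0) (v 3) (vne 0 3 (by decide)) (hv 0) (hv 3) s03
  have m0 := m_ineq3 T (v 0) (v 1) (v 2) (v 3) (hv 0) (vne 0 1 (by decide)) (vne 0 2 (by decide)) (vne 0 3 (by decide)) (vne 1 2 (by decide)) (vne 1 3 (by decide)) (vne 2 3 (by decide)) 1 1 1 (by omega) (by omega) (by omega)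
  have m1 := m_ineq1 T (v 1) (v 0) (hv 1) (vne 1 0 (by decide)) 1 (by omega)
  have m2 := m_ineq1 T (v 2) (v 0) (hv 2) (vne 2 0 (by decide)) 1 (by omega)
  have m3 := m_ineq1 T (v 3) (v 0) (hv 3) (vne 3 0 (by decide)) 1 (by omega)
  refine ⟨T.w (v 0), ?_, ?_, ?_, ?_, ?_, ?_, ?_, ?_, ?_, ?_, ?_⟩
  · intro j; fin_cases j
    · change T.w (v 0) = T.w (v 0); omega
    · change T.w (v 1) = T.w (v 0); omega
    · change T.w (v 2) = T.w (v 0); omega
    · change T.w (v 3) = T.w (v 0); omega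
  all_goals omega

end Groth.Agent.S7346
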