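import Groth.Statements.S7347
import Groth.Agent.Models.K378.Fork

set_option autoImplicit false
open Finset
open Models Models.NumericalType

namespace Groth.Agent.S7347

open K378.Gram K378.Dynkin K378.Types

/-- Classification of proper subgraphs of type D5 (a chain i_1 i_2 i_3 with i_4 and i_5 both joined to
i_3): let T be a numerical type on n > 5 indices and i_1, …, i_5 distinct (-2)-indices with a_{12},
a_{23}, a_{34}, a_{35} nonzero. Then for some integer w all w_{i_j} equal w, these intersection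
numbers equal w, all other a_{i_j i_k} (j ≠ k) vanish, and 2 m_1 ≥ m_2, 2 m_2 ≥ m_1 + m_3, 2 m_3 ≥
m_2 + m_4 + m_5, 2 m_4 ≥ m_3, 2 m_5 ≥ m_3. -/
theorem result {n : ℕ} (T : Models.NumericalType n) (hn : 5 < n)
    (v : Fin 5 ↪ Fin n) (hv : ∀ j, T.IsMinusTwo (v j)) (h01 : T.a (v 0) (v 1) ≠ 0) (h12 : T.a (v 1) (v 2) ≠ 0) (h23 : T.a (v 2) (v 3) ≠ 0) (h24 : T.a (v 2) (v 4) ≠ 0) :
    ∃ w : ℤ, (∀ j : Fin 5, T.w (v j) = w) ∧
      T.a (v 0) (v 1) = w ∧
      T.a (v 1) (v 2) = w ∧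
      T.a (v 2) (v 3) = w ∧
      T.a (v 2) (v 4) = w ∧
      T.a (v 0) (v 2) = 0 ∧
      T.a (v 0) (v 3) = 0 ∧
      T.a (v 0) (v 4) = 0 ∧
      T.a (v 1) (v 3) = 0 ∧
      T.a (v 1) (v 4) = 0 ∧
      T.a (v 3) (v 4) = 0 ∧
      T.m (v 1) ≤ 2 * T.m (v 0) ∧
      T.m (v 0) + T.m (v 2) ≤ 2 * T.m (v 1) ∧
      T.m (v 1) + T.m (v 3) + T.m (v 4) ≤ 2 * T.m (v 2) ∧
      T.m (v 2) ≤ 2 * T.m (v 3) ∧
      T.m (v 2) ≤ 2 * T.m (v 4) := by
  have hs := sys' T (t := 5) (by norm_num) v v.injective hn hv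
  have vne : ∀ i j : Fin 5, i ≠ j → v i ≠ v j := fun i j hij => v.injective.ne hij
  have g01 : gram T (v 0) (v 1) ≠ 0 := gram_ne T _ _ h01
  have g10 : gram T (v 1) (v 0) ≠ 0 := hs.ne_symm (i := 0) (j := 1) g01
  have g12 : gram T (v 1) (v 2) ≠ 0 := gram_ne T _ _ h12
  have g21 : gram T (v 2) (v 1) ≠ 0 := hs.ne_symm (i := 1) (j := 2) g12
  have g23 : gram T (v 2) (v 3) ≠ 0 := gram_ne T _ _ h23
  have g32 : gram T (v 3) (v 2) ≠ 0 := hs.ne_symm (i := 2) (j := 3) g23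
  have g24 : gram T (v 2) (v 4) ≠ 0 := gram_ne T _ _ h24
  have g42 : gram T (v 4) (v 2) ≠ 0 := hs.ne_symm (i := 2) (j := 4) g24
  have s10 : gram T (v 1) (v 0) = 1 := hs.fork_next (i := 1) (j := 2) (k := 3) (l := 4) (m := 0) (by decide) (by decide) (by decide) (by decide) (by decide) (by decide) (by decide) (by decide) (by decide) (by decide) g23 g24 g21 g10
  have s21 : gram T (v 2) (v 1) = 1 := hs.fork_simple (i := 2) (j := 1) (k := 3) (l := 4) (by decide) (by decide) (by decide) (by decide) (by decide) (by decide) g21 g23 g24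
  have s23 : gram T (v 2) (v 3) = 1 := hs.fork_simple (i := 2) (j := 3) (k := 1) (l := 4) (by decide) (by decide) (by decide) (by decide) (by decide) (by decide) g23 g21 g24
  have s24 : gram T (v 2) (v 4) = 1 := hs.fork_simple (i := 2) (j := 4) (k := 1) (l := 3) (by decide) (by decide) (by decide) (by decide) (by decide) (by decide) g24 g21 g23
  have z02 : T.a (v 0) (v 2) = 0 := (gram_eq_zero_iff T _ _).1 (hs.tri (i := 0) (j := 1) (k := 2) (by decide) (by decide) (by decide) g01 g12)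
  have z03 : T.a (v 0) (v 3) = 0 := by
    by_contra hne
    exact cycle4_fin _ (hs.comp ![0, 1, 2, 3] (by decide)) g01 g12 g23 (gram_ne T _ _ hne)
  have z04 : T.a (v 0) (v 4) = 0 := by
    by_contra hne
    exact cycle4_fin _ (hs.comp ![0, 1, 2, 4] (by decide)) g01 g12 g24 (gram_ne T _ _ hne)
  have z13 : T.a (v 1) (v 3) = 0 := (gram_eq_zero_iff T _ _).1 (hs.tri (i := 1) (j := 2) (k := 3) (by decide) (by decide) (by decide) g12 g23)
  have z14 : T.a (v 1) (v 4) = 0 := (gram_eq_zero_iff T _ _).1 (hs.tri (i := 1) (j := 2) (k := 4) (by decide) (by decide) (by decide) g12 g24)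
  have z34 : T.a (v 3) (v 4) = 0 := (gram_eq_zero_iff T _ _).1 (hs.tri (i := 3) (j := 2) (k := 4) (by decide) (by decide) (by decide) g32 g24)
  obtain ⟨a10, a01, w10⟩ := simple_edge T (by omega) (v 1) (v 0) (vne 1 0 (by decide)) (hv 1) (hv 0) s10
  obtain ⟨a21, a12, w21⟩ := simple_edge T (by omega) (v 2) (v 1) (vne 2 1 (by decide)) (hv 2) (hv 1) s21
  obtain ⟨a23, a32, w23⟩ := simple_edge T (by omega) (v 2) (v 3) (vne 2 3 (by decide)) (hv 2) (hv 3) s23
  obtain ⟨a24, a42, w24⟩ := simple_edge T (by omega) (v 2) (v 4) (vne 2 4 (by decide)) (hv 2) (hv 4) s24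
  have m0 := m_ineq1 T (v 0) (v 1) (hv 0) (vne 0 1 (by decide)) 1 (by omega)
  have m1 := m_ineq2 T (v 1) (v 0) (v 2) (hv 1) (vne 1 0 (by decide)) (vne 1 2 (by decide)) (vne 0 2 (by decide)) 1 1 (by omega) (by omega)
  have m2 := m_ineq3 T (v 2) (v 1) (v 3) (v 4) (hv 2) (vne 2 1 (by decide)) (vne 2 3 (by decide)) (vne 2 4 (by decide)) (vne 1 3 (by decide)) (vne 1 4 (by decide)) (vne 3 4 (by decide)) 1 1 1 (by omega) (by omega) (by omega)
  have m3 := m_ineq1 T (v 3) (v 2) (hv 3) (vne 3 2 (by decide)) 1 (by omega)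
  have m4 := m_ineq1 T (v 4) (v 2) (hv 4) (vne 4 2 (by decide)) 1 (by omega)
  refine ⟨T.w (v 0), ?_, ?_, ?_, ?_, ?_, ?_, ?_, ?_, ?_, ?_, ?_, ?_, ?_, ?_, ?_, ?_⟩
  · intro j; fin_cases j
    · change T.w (v 0) = T.w (v 0); omega
    · change T.w (v 1) = T.w (v 0); omega
    · change T.w (v 2) = T.w (v 0); omega
    · change T.w (v 3) = T.w (v 0); omega
    · change T.w (v 4) = T.w (v 0); omega
  all_goals omega

end Groth.Agent.S7347
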