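import Groth.Statements.S7348
import Groth.Agent.Models.K378.Fork

set_option autoImplicit false
open Finset
open Models Models.NumericalType

namespace Groth.Agent.S7348

open K378.Gram K378.Dynkin K378.Types

/-- Classification of proper subgraphs of type E6 (a chain i_1 … i_5 with i_6 joined to i_3): let T be a
numerical type on n > 6 indices and i_1, …, i_6 distinct (-2)-indices with a_{12}, a_{23}, a_{34},
a_{45}, a_{36} nonzero. Then for some integer w all w_{i_j} equal w, these intersection numbers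
equal w, all other a_{i_j i_k} (j ≠ k) vanish, and 2 m_1 ≥ m_2, 2 m_2 ≥ m_1 + m_3, 2 m_3 ≥ m_2 + m_4
+ m_6, 2 m_4 ≥ m_3 + m_5, 2 m_5 ≥ m_4, 2 m_6 ≥ m_3. (The published list of inequalities has 2 m_5 ≥
m_3 where the intersection matrix gives 2 m_5 ≥ m_4; the former fails for the extended E8
configuration of multiplicities 4, 5, 6, 4, 2 with 3 attached to the third vertex, so 2 m_5 ≥ m_4 is
stated.) -/
theorem result {n : ℕ} (T : Models.NumericalType n) (hn : 6 < n)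
    (v : Fin 6 ↪ Fin n) (hv : ∀ j, T.IsMinusTwo (v j)) (h01 : T.a (v 0) (v 1) ≠ 0) (h12 : T.a (v 1) (v 2) ≠ 0) (h23 : T.a (v 2) (v 3) ≠ 0) (h34 : T.a (v 3) (v 4) ≠ 0) (h25 : T.a (v 2) (v 5) ≠ 0) :
    ∃ w : ℤ, (∀ j : Fin 6, T.w (v j) = w) ∧
      T.a (v 0) (v 1) = w ∧
      T.a (v 1) (v 2) = w ∧
      T.a (v 2) (v 3) = w ∧
      T.a (v 3) (v 4) = w ∧
      T.a (v 2) (v 5) = w ∧
      T.a (v 0) (v 2) = 0 ∧
      T.a (v 0) (v 3) = 0 ∧
      T.a (v 0) (v 4) = 0 ∧
      T.a (v 0) (v 5) = 0 ∧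
      T.a (v 1) (v 3) = 0 ∧
      T.a (v 1) (v 4) = 0 ∧
      T.a (v 1) (v 5) = 0 ∧
      T.a (v 2) (v 4) = 0 ∧
      T.a (v 3) (v 5) = 0 ∧
      T.a (v 4) (v 5) = 0 ∧
      T.m (v 1) ≤ 2 * T.m (v 0) ∧
      T.m (v 0) + T.m (v 2) ≤ 2 * T.m (v 1) ∧
      T.m (v 1) + T.m (v 3) + T.m (v 5) ≤ 2 * T.m (v 2) ∧
      T.m (v 2) + T.m (v 4) ≤ 2 * T.m (v 3) ∧
      T.m (v 3) ≤ 2 * T.m (v 4) ∧
      T.m (v 2) ≤ 2 * T.m (v 5) := by
  have hs := sys' T (t := 6) (by norm_num) v v.injective hn hv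
  have vne : ∀ i j : Fin 6, i ≠ j → v i ≠ v j := fun i j hij => v.injective.ne hij
  have g01 : gram T (v 0) (v 1) ≠ 0 := gram_ne T _ _ h01
  have g10 : gram T (v 1) (v 0) ≠ 0 := hs.ne_symm (i := 0) (j := 1) g01
  have g12 : gram T (v 1) (v 2) ≠ 0 := gram_ne T _ _ h12
  have g21 : gram T (v 2) (v 1) ≠ 0 := hs.ne_symm (i := 1) (j := 2) g12
  have g23 : gram T (v 2) (v 3) ≠ 0 := gram_ne T _ _ h23
  have g32 : gram T (v 3) (v 2) ≠ 0 := hs.ne_symm (i := 2) (j := 3) g23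
  have g34 : gram T (v 3) (v 4) ≠ 0 := gram_ne T _ _ h34
  have g43 : gram T (v 4) (v 3) ≠ 0 := hs.ne_symm (i := 3) (j := 4) g34
  have g25 : gram T (v 2) (v 5) ≠ 0 := gram_ne T _ _ h25
  have g52 : gram T (v 5) (v 2) ≠ 0 := hs.ne_symm (i := 2) (j := 5) g25
  have s10 : gram T (v 1) (v 0) = 1 := hs.fork_next (i := 1) (j := 2) (k := 3) (l := 5) (m := 0) (by decide) (by decide) (by decide) (by decide) (by decide) (by decide) (by decide) (by decide) (by decide) (by decide) g23 g25 g21 g10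
  have s21 : gram T (v 2) (v 1) = 1 := hs.fork_simple (i := 2) (j := 1) (k := 3) (l := 5) (by decide) (by decide) (by decide) (by decide) (by decide) (by decide) g21 g23 g25
  have s23 : gram T (v 2) (v 3) = 1 := hs.fork_simple (i := 2) (j := 3) (k := 1) (l := 5) (by decide) (by decide) (by decide) (by decide) (by decide) (by decide) g23 g21 g25
  have s34 : gram T (v 3) (v 4) = 1 := hs.fork_next (i := 3) (j := 2) (k := 1) (l := 5) (m := 4) (by decide) (by decide) (by decide) (by decide) (by decide) (by decide) (by decide) (by decide) (by decide) (by decide) g21 g25 g23 g34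
  have s25 : gram T (v 2) (v 5) = 1 := hs.fork_simple (i := 2) (j := 5) (k := 1) (l := 3) (by decide) (by decide) (by decide) (by decide) (by decide) (by decide) g25 g21 g23
  have z02 : T.a (v 0) (v 2) = 0 := (gram_eq_zero_iff T _ _).1 (hs.tri (i := 0) (j := 1) (k := 2) (by decide) (by decide) (by decide) g01 g12)
  have z03 : T.a (v 0) (v 3) = 0 := by
    by_contra hne
    exact cycle4_fin _ (hs.comp ![0, 1, 2, 3] (by decide)) g01 g12 g23 (gram_ne T _ _ hne)
  have z04 : T.a (v 0) (v 4) = 0 := by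
    by_contra hne
    exact cycle5_fin _ (hs.comp ![0, 1, 2, 3, 4] (by decide)) g01 g12 g23 g34 (gram_ne T _ _ hne)
  have z05 : T.a (v 0) (v 5) = 0 := by
    by_contra hne
    exact cycle4_fin _ (hs.comp ![0, 1, 2, 5] (by decide)) g01 g12 g25 (gram_ne T _ _ hne)
  have z13 : T.a (v 1) (v 3) = 0 := (gram_eq_zero_iff T _ _).1 (hs.tri (i := 1) (j := 2) (k := 3) (by decide) (by decide) (by decide) g12 g23)
  have z14 : T.a (v 1) (v 4) = 0 := by
    by_contra hne
    exact cycle4_fin _ (hs.comp ![1, 2, 3, 4] (by decide)) g12 g23 g34 (gram_ne T _ _ hne)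
  have z15 : T.a (v 1) (v 5) = 0 := (gram_eq_zero_iff T _ _).1 (hs.tri (i := 1) (j := 2) (k := 5) (by decide) (by decide) (by decide) g12 g25)
  have z24 : T.a (v 2) (v 4) = 0 := (gram_eq_zero_iff T _ _).1 (hs.tri (i := 2) (j := 3) (k := 4) (by decide) (by decide) (by decide) g23 g34)
  have z35 : T.a (v 3) (v 5) = 0 := (gram_eq_zero_iff T _ _).1 (hs.tri (i := 3) (j := 2) (k := 5) (by decide) (by decide) (by decide) g32 g25)
  have z45 : T.a (v 4) (v 5) = 0 := by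
    by_contra hne
    exact cycle4_fin _ (hs.comp ![4, 3, 2, 5] (by decide)) g43 g32 g25 (gram_ne T _ _ hne)
  obtain ⟨a10, a01, w10⟩ := simple_edge T (by omega) (v 1) (v 0) (vne 1 0 (by decide)) (hv 1) (hv 0) s10
  obtain ⟨a21, a12, w21⟩ := simple_edge T (by omega) (v 2) (v 1) (vne 2 1 (by decide)) (hv 2) (hv 1) s21
  obtain ⟨a23, a32, w23⟩ := simple_edge T (by omega) (v 2) (v 3) (vne 2 3 (by decide)) (hv 2) (hv 3) s23
  obtain ⟨a34, a43, w34⟩ := simple_edge T (by omega) (v 3) (v 4) (vne 3 4 (by decide)) (hv 3) (hv 4) s34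
  obtain ⟨a25, a52, w25⟩ := simple_edge T (by omega) (v 2) (v 5) (vne 2 5 (by decide)) (hv 2) (hv 5) s25
  have m0 := m_ineq1 T (v 0) (v 1) (hv 0) (vne 0 1 (by decide)) 1 (by omega)
  have m1 := m_ineq2 T (v 1) (v 0) (v 2) (hv 1) (vne 1 0 (by decide)) (vne 1 2 (by decide)) (vne 0 2 (by decide)) 1 1 (by omega) (by omega)
  have m2 := m_ineq3 T (v 2) (v 1) (v 3) (v 5) (hv 2) (vne 2 1 (by decide)) (vne 2 3 (by decide)) (vne 2 5 (by decide)) (vne 1 3 (by decide)) (vne 1 5 (by decide)) (vne 3 5 (by decide)) 1 1 1 (by omega) (by omega) (by omega)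
  have m3 := m_ineq2 T (v 3) (v 2) (v 4) (hv 3) (vne 3 2 (by decide)) (vne 3 4 (by decide)) (vne 2 4 (by decide)) 1 1 (by omega) (by omega)
  have m4 := m_ineq1 T (v 4) (v 3) (hv 4) (vne 4 3 (by decide)) 1 (by omega)
  have m5 := m_ineq1 T (v 5) (v 2) (hv 5) (vne 5 2 (by decide)) 1 (by omega)
  refine ⟨T.w (v 0), ?_, ?_, ?_, ?_, ?_, ?_, ?_, ?_, ?_, ?_, ?_, ?_, ?_, ?_, ?_, ?_, ?_, ?_, ?_, ?_, ?_, ?_⟩
  · intro j; fin_cases j
    · change T.w (v 0) = T.w (v 0); omega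
    · change T.w (v 1) = T.w (v 0); omega
    · change T.w (v 2) = T.w (v 0); omega
    · change T.w (v 3) = T.w (v 0); omega
    · change T.w (v 4) = T.w (v 0); omega
    · change T.w (v 5) = T.w (v 0); omega
  all_goals omega

end Groth.Agent.S7348
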