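import Groth.Statements.S7350
import Groth.Agent.Models.K378.Fork

set_option autoImplicit false
open Finset
open Models Models.NumericalType

namespace Groth.Agent.S7350

open K378.Gram K378.Dynkin K378.Types

/-- Classification of proper subgraphs of type E8 (a chain i_1 … i_7 with i_8 joined to i_5): let T be a
numerical type on n > 8 indices and i_1, …, i_8 distinct (-2)-indices with a_{12}, a_{23}, a_{34},
a_{45}, a_{56}, a_{67}, a_{58} nonzero. Then for some integer w all w_{i_j} equal w, these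
intersection numbers equal w, all other a_{i_j i_k} (j ≠ k) vanish, and 2 m_1 ≥ m_2, 2 m_2 ≥ m_1 +
m_3, 2 m_3 ≥ m_2 + m_4, 2 m_4 ≥ m_3 + m_5, 2 m_5 ≥ m_4 + m_6 + m_8, 2 m_6 ≥ m_5 + m_7, 2 m_7 ≥ m_6,
2 m_8 ≥ m_5. (The published statement lists a_{65} and a_{57} among the nonzero entries, which
contradicts its own conclusion a_{57} = 0; this row uses the edges of the E8 graph, a_{67} and
a_{58}, as the pictured graph and the matrix give them.) -/
theorem result {n : ℕ} (T : Models.NumericalType n) (hn : 8 < n)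
    (v : Fin 8 ↪ Fin n) (hv : ∀ j, T.IsMinusTwo (v j)) (h01 : T.a (v 0) (v 1) ≠ 0) (h12 : T.a (v 1) (v 2) ≠ 0) (h23 : T.a (v 2) (v 3) ≠ 0) (h34 : T.a (v 3) (v 4) ≠ 0) (h45 : T.a (v 4) (v 5) ≠ 0) (h56 : T.a (v 5) (v 6) ≠ 0) (h47 : T.a (v 4) (v 7) ≠ 0) :
    ∃ w : ℤ, (∀ j : Fin 8, T.w (v j) = w) ∧
      T.a (v 0) (v 1) = w ∧
      T.a (v 1) (v 2) = w ∧
      T.a (v 2) (v 3) = w ∧
      T.a (v 3) (v 4) = w ∧
      T.a (v 4) (v 5) = w ∧
      T.a (v 5) (v 6) = w ∧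
      T.a (v 4) (v 7) = w ∧
      T.a (v 0) (v 2) = 0 ∧
      T.a (v 0) (v 3) = 0 ∧
      T.a (v 0) (v 4) = 0 ∧
      T.a (v 0) (v 5) = 0 ∧
      T.a (v 0) (v 6) = 0 ∧
      T.a (v 0) (v 7) = 0 ∧
      T.a (v 1) (v 3) = 0 ∧
      T.a (v 1) (v 4) = 0 ∧
      T.a (v 1) (v 5) = 0 ∧
      T.a (v 1) (v 6) = 0 ∧
      T.a (v 1) (v 7) = 0 ∧
      T.a (v 2) (v 4) = 0 ∧
      T.a (v 2) (v 5) = 0 ∧
      T.a (v 2) (v 6) = 0 ∧
      T.a (v 2) (v 7) = 0 ∧
      T.a (v 3) (v 5) = 0 ∧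
      T.a (v 3) (v 6) = 0 ∧
      T.a (v 3) (v 7) = 0 ∧
      T.a (v 4) (v 6) = 0 ∧
      T.a (v 5) (v 7) = 0 ∧
      T.a (v 6) (v 7) = 0 ∧
      T.m (v 1) ≤ 2 * T.m (v 0) ∧
      T.m (v 0) + T.m (v 2) ≤ 2 * T.m (v 1) ∧
      T.m (v 1) + T.m (v 3) ≤ 2 * T.m (v 2) ∧
      T.m (v 2) + T.m (v 4) ≤ 2 * T.m (v 3) ∧
      T.m (v 3) + T.m (v 5) + T.m (v 7) ≤ 2 * T.m (v 4) ∧
      T.m (v 4) + T.m (v 6) ≤ 2 * T.m (v 5) ∧
      T.m (v 5) ≤ 2 * T.m (v 6) ∧
      T.m (v 4) ≤ 2 * T.m (v 7) := by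
  have hs := sys' T (t := 8) (by norm_num) v v.injective hn hv
  have vne : ∀ i j : Fin 8, i ≠ j → v i ≠ v j := fun i j hij => v.injective.ne hij
  have g01 : gram T (v 0) (v 1) ≠ 0 := gram_ne T _ _ h01
  have g10 : gram T (v 1) (v 0) ≠ 0 := hs.ne_symm (i := 0) (j := 1) g01
  have g12 : gram T (v 1) (v 2) ≠ 0 := gram_ne T _ _ h12
  have g21 : gram T (v 2) (v 1) ≠ 0 := hs.ne_symm (i := 1) (j := 2) g12
  have g23 : gram T (v 2) (v 3) ≠ 0 := gram_ne T _ _ h23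
  have g32 : gram T (v 3) (v 2) ≠ 0 := hs.ne_symm (i := 2) (j := 3) g23
  have g34 : gram T (v 3) (v 4) ≠ 0 := gram_ne T _ _ h34
  have g43 : gram T (v 4) (v 3) ≠ 0 := hs.ne_symm (i := 3) (j := 4) g34
  have g45 : gram T (v 4) (v 5) ≠ 0 := gram_ne T _ _ h45
  have g54 : gram T (v 5) (v 4) ≠ 0 := hs.ne_symm (i := 4) (j := 5) g45
  have g56 : gram T (v 5) (v 6) ≠ 0 := gram_ne T _ _ h56
  have g65 : gram T (v 6) (v 5) ≠ 0 := hs.ne_symm (i := 5) (j := 6) g56
  have g47 : gram T (v 4) (v 7) ≠ 0 := gram_ne T _ _ h47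
  have g74 : gram T (v 7) (v 4) ≠ 0 := hs.ne_symm (i := 4) (j := 7) g47
  have s10 : gram T (v 1) (v 0) = 1 := by
    rcases hs.one_or (i := 0) (j := 1) (k := 2) (by decide) (by decide) (by decide) g01 g12 with h | h
    · exact (gram_symm T _ _).trans h
    · exact absurd (fork6_fin _ (hs.comp ![5, 7, 4, 3, 2, 1, 0] (by decide)) g54 g74 g43 g32 g21 ((gram_symm T _ _).trans h)) id
  have s21 : gram T (v 2) (v 1) = 1 := by
    rcases hs.one_or (i := 1) (j := 2) (k := 3) (by decide) (by decide) (by decide) g12 g23 with h | h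
    · exact (gram_symm T _ _).trans h
    · exact absurd (fork5_fin _ (hs.comp ![5, 7, 4, 3, 2, 1] (by decide)) g54 g74 g43 g32 ((gram_symm T _ _).trans h)) id
  have s32 : gram T (v 3) (v 2) = 1 := hs.fork_next (i := 3) (j := 4) (k := 5) (l := 7) (m := 2) (by decide) (by decide) (by decide) (by decide) (by decide) (by decide) (by decide) (by decide) (by decide) (by decide) g45 g47 g43 g32
  have s43 : gram T (v 4) (v 3) = 1 := hs.fork_simple (i := 4) (j := 3) (k := 5) (l := 7) (by decide) (by decide) (by decide) (by decide) (by decide) (by decide) g43 g45 g47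
  have s45 : gram T (v 4) (v 5) = 1 := hs.fork_simple (i := 4) (j := 5) (k := 3) (l := 7) (by decide) (by decide) (by decide) (by decide) (by decide) (by decide) g45 g43 g47
  have s56 : gram T (v 5) (v 6) = 1 := hs.fork_next (i := 5) (j := 4) (k := 3) (l := 7) (m := 6) (by decide) (by decide) (by decide) (by decide) (by decide) (by decide) (by decide) (by decide) (by decide) (by decide) g43 g47 g45 g56
  have s47 : gram T (v 4) (v 7) = 1 := hs.fork_simple (i := 4) (j := 7) (k := 3) (l := 5) (by decide) (by decide) (by decide) (by decide) (by decide) (by decide) g47 g43 g45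
  have z02 : T.a (v 0) (v 2) = 0 := (gram_eq_zero_iff T _ _).1 (hs.tri (i := 0) (j := 1) (k := 2) (by decide) (by decide) (by decide) g01 g12)
  have z03 : T.a (v 0) (v 3) = 0 := by
    by_contra hne
    exact cycle4_fin _ (hs.comp ![0, 1, 2, 3] (by decide)) g01 g12 g23 (gram_ne T _ _ hne)
  have z04 : T.a (v 0) (v 4) = 0 := by
    by_contra hne
    exact cycle5_fin _ (hs.comp ![0, 1, 2, 3, 4] (by decide)) g01 g12 g23 g34 (gram_ne T _ _ hne)
  have z05 : T.a (v 0) (v 5) = 0 := by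
    by_contra hne
    exact cycle6_fin _ (hs.comp ![0, 1, 2, 3, 4, 5] (by decide)) g01 g12 g23 g34 g45 (gram_ne T _ _ hne)
  have z06 : T.a (v 0) (v 6) = 0 := by
    by_contra hne
    exact cycle7_fin _ (hs.comp ![0, 1, 2, 3, 4, 5, 6] (by decide)) g01 g12 g23 g34 g45 g56 (gram_ne T _ _ hne)
  have z07 : T.a (v 0) (v 7) = 0 := by
    by_contra hne
    exact cycle6_fin _ (hs.comp ![0, 1, 2, 3, 4, 7] (by decide)) g01 g12 g23 g34 g47 (gram_ne T _ _ hne)
  have z13 : T.a (v 1) (v 3) = 0 := (gram_eq_zero_iff T _ _).1 (hs.tri (i := 1) (j := 2) (k := 3) (by decide) (by decide) (by decide) g12 g23)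
  have z14 : T.a (v 1) (v 4) = 0 := by
    by_contra hne
    exact cycle4_fin _ (hs.comp ![1, 2, 3, 4] (by decide)) g12 g23 g34 (gram_ne T _ _ hne)
  have z15 : T.a (v 1) (v 5) = 0 := by
    by_contra hne
    exact cycle5_fin _ (hs.comp ![1, 2, 3, 4, 5] (by decide)) g12 g23 g34 g45 (gram_ne T _ _ hne)
  have z16 : T.a (v 1) (v 6) = 0 := by
    by_contra hne
    exact cycle6_fin _ (hs.comp ![1, 2, 3, 4, 5, 6] (by decide)) g12 g23 g34 g45 g56 (gram_ne T _ _ hne)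
  have z17 : T.a (v 1) (v 7) = 0 := by
    by_contra hne
    exact cycle5_fin _ (hs.comp ![1, 2, 3, 4, 7] (by decide)) g12 g23 g34 g47 (gram_ne T _ _ hne)
  have z24 : T.a (v 2) (v 4) = 0 := (gram_eq_zero_iff T _ _).1 (hs.tri (i := 2) (j := 3) (k := 4) (by decide) (by decide) (by decide) g23 g34)
  have z25 : T.a (v 2) (v 5) = 0 := by
    by_contra hne
    exact cycle4_fin _ (hs.comp ![2, 3, 4, 5] (by decide)) g23 g34 g45 (gram_ne T _ _ hne)
  have z26 : T.a (v 2) (v 6) = 0 := by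
    by_contra hne
    exact cycle5_fin _ (hs.comp ![2, 3, 4, 5, 6] (by decide)) g23 g34 g45 g56 (gram_ne T _ _ hne)
  have z27 : T.a (v 2) (v 7) = 0 := by
    by_contra hne
    exact cycle4_fin _ (hs.comp ![2, 3, 4, 7] (by decide)) g23 g34 g47 (gram_ne T _ _ hne)
  have z35 : T.a (v 3) (v 5) = 0 := (gram_eq_zero_iff T _ _).1 (hs.tri (i := 3) (j := 4) (k := 5) (by decide) (by decide) (by decide) g34 g45)
  have z36 : T.a (v 3) (v 6) = 0 := by
    by_contra hne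
    exact cycle4_fin _ (hs.comp ![3, 4, 5, 6] (by decide)) g34 g45 g56 (gram_ne T _ _ hne)
  have z37 : T.a (v 3) (v 7) = 0 := (gram_eq_zero_iff T _ _).1 (hs.tri (i := 3) (j := 4) (k := 7) (by decide) (by decide) (by decide) g34 g47)
  have z46 : T.a (v 4) (v 6) = 0 := (gram_eq_zero_iff T _ _).1 (hs.tri (i := 4) (j := 5) (k := 6) (by decide) (by decide) (by decide) g45 g56)
  have z57 : T.a (v 5) (v 7) = 0 := (gram_eq_zero_iff T _ _).1 (hs.tri (i := 5) (j := 4) (k := 7) (by decide) (by decide) (by decide) g54 g47)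
  have z67 : T.a (v 6) (v 7) = 0 := by
    by_contra hne
    exact cycle4_fin _ (hs.comp ![6, 5, 4, 7] (by decide)) g65 g54 g47 (gram_ne T _ _ hne)
  obtain ⟨a10, a01, w10⟩ := simple_edge T (by omega) (v 1) (v 0) (vne 1 0 (by decide)) (hv 1) (hv 0) s10
  obtain ⟨a21, a12, w21⟩ := simple_edge T (by omega) (v 2) (v 1) (vne 2 1 (by decide)) (hv 2) (hv 1) s21
  obtain ⟨a32, a23, w32⟩ := simple_edge T (by omega) (v 3) (v 2) (vne 3 2 (by decide)) (hv 3) (hv 2) s32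
  obtain ⟨a43, a34, w43⟩ := simple_edge T (by omega) (v 4) (v 3) (vne 4 3 (by decide)) (hv 4) (hv 3) s43
  obtain ⟨a45, a54, w45⟩ := simple_edge T (by omega) (v 4) (v 5) (vne 4 5 (by decide)) (hv 4) (hv 5) s45
  obtain ⟨a56, a65, w56⟩ := simple_edge T (by omega) (v 5) (v 6) (vne 5 6 (by decide)) (hv 5) (hv 6) s56
  obtain ⟨a47, a74, w47⟩ := simple_edge T (by omega) (v 4) (v 7) (vne 4 7 (by decide)) (hv 4) (hv 7) s47
  have m0 := m_ineq1 T (v 0) (v 1) (hv 0) (vne 0 1 (by decide)) 1 (by omega)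
  have m1 := m_ineq2 T (v 1) (v 0) (v 2) (hv 1) (vne 1 0 (by decide)) (vne 1 2 (by decide)) (vne 0 2 (by decide)) 1 1 (by omega) (by omega)
  have m2 := m_ineq2 T (v 2) (v 1) (v 3) (hv 2) (vne 2 1 (by decide)) (vne 2 3 (by decide)) (vne 1 3 (by decide)) 1 1 (by omega) (by omega)
  have m3 := m_ineq2 T (v 3) (v 2) (v 4) (hv 3) (vne 3 2 (by decide)) (vne 3 4 (by decide)) (vne 2 4 (by decide)) 1 1 (by omega) (by omega)
  have m4 := m_ineq3 T (v 4) (v 3) (v 5) (v 7) (hv 4) (vne 4 3 (by decide)) (vne 4 5 (by decide)) (vne 4 7 (by decide)) (vne 3 5 (by decide)) (vne 3 7 (by decide)) (vne 5 7 (by decide)) 1 1 1 (by omega) (by omega) (by omega)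
  have m5 := m_ineq2 T (v 5) (v 4) (v 6) (hv 5) (vne 5 4 (by decide)) (vne 5 6 (by decide)) (vne 4 6 (by decide)) 1 1 (by omega) (by omega)
  have m6 := m_ineq1 T (v 6) (v 5) (hv 6) (vne 6 5 (by decide)) 1 (by omega)
  have m7 := m_ineq1 T (v 7) (v 4) (hv 7) (vne 7 4 (by decide)) 1 (by omega)
  refine ⟨T.w (v 0), ?_, ?_, ?_, ?_, ?_, ?_, ?_, ?_, ?_, ?_, ?_, ?_, ?_, ?_, ?_, ?_, ?_, ?_, ?_, ?_, ?_, ?_, ?_, ?_, ?_, ?_, ?_, ?_, ?_, ?_, ?_, ?_, ?_, ?_, ?_, ?_, ?_⟩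
  · intro j; fin_cases j
    · change T.w (v 0) = T.w (v 0); omega
    · change T.w (v 1) = T.w (v 0); omega
    · change T.w (v 2) = T.w (v 0); omega
    · change T.w (v 3) = T.w (v 0); omega
    · change T.w (v 4) = T.w (v 0); omega
    · change T.w (v 5) = T.w (v 0); omega
    · change T.w (v 6) = T.w (v 0); omega
    · change T.w (v 7) = T.w (v 0); omega
  all_goals omega

end Groth.Agent.S7350
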