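import Groth.Statements.S7352
import Groth.Agent.Models.K378.Long

set_option autoImplicit false
open Finset
open Models Models.NumericalType

namespace Groth.Agent.S7352

open K378.Gram K378.Dynkin K378.Types
open Groth.Agent.Models.NumBasic

theorem simp_case {n : ℕ} (T : Models.NumericalType n) (u : Fin 4 → Fin n)
    (hu : Function.Injective u) (hv : ∀ j, T.IsMinusTwo (u j)) (w : ℤ)
    (h1 : ∀ j : Fin 4, T.w (u j) = w)
    (h2 : ∀ j j' : Fin 4, j'.val = j.val + 1 → T.a (u j) (u j') = w) :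
    (T.w (u 0) = w ∧ T.w (u 1) = w ∧ T.w (u 2) = w ∧ T.w (u 3) = w ∧ T.a (u 0) (u 1) = w ∧ T.a (u 1) (u 2) = w ∧ T.a (u 2) (u 3) = w ∧ T.m (u 1) ≤ 2 * T.m (u 0) ∧ T.m (u 0) + T.m (u 2) ≤ 2 * T.m (u 1) ∧ T.m (u 1) + T.m (u 3) ≤ 2 * T.m (u 2) ∧ T.m (u 2) ≤ 2 * T.m (u 3)) := by
  have ne : ∀ i j : Fin 4, i ≠ j → u i ≠ u j := fun i j hij => hu.ne hij
  have w0 := h1 0
  have w1 := h1 1
  have w2 := h1 2
  have w3 := h1 3
  have a01 := h2 0 1 rfl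
  have a12 := h2 1 2 rfl
  have a23 := h2 2 3 rfl
  have a10 := (a_symm T (u 1) (u 0)).trans a01
  have a21 := (a_symm T (u 2) (u 1)).trans a12
  have a32 := (a_symm T (u 3) (u 2)).trans a23
  have m0 := m_ineq1 T (u 0) (u 1) (hv 0) (ne 0 1 (by decide)) 1 (by omega)
  have m1 := m_ineq2 T (u 1) (u 0) (u 2) (hv 1) (ne 1 0 (by decide)) (ne 1 2 (by decide))
    (ne 0 2 (by decide)) 1 1 (by omega) (by omega)
  have m2 := m_ineq2 T (u 2) (u 1) (u 3) (hv 2) (ne 2 1 (by decide)) (ne 2 3 (by decide))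
    (ne 1 3 (by decide)) 1 1 (by omega) (by omega)
  have m3 := m_ineq1 T (u 3) (u 2) (hv 3) (ne 3 2 (by decide)) 1 (by omega)
  refine ⟨w0, w1, w2, w3, a01, a12, a23, ?_, ?_, ?_, ?_⟩ <;> omega

theorem last_case {n : ℕ} (T : Models.NumericalType n) (u : Fin 4 → Fin n)
    (hu : Function.Injective u) (hv : ∀ j, T.IsMinusTwo (u j)) (w : ℤ)
    (h : ((∀ j : Fin 4, j.val + 1 < 4 → T.w (u j) = w) ∧
          (∀ j : Fin 4, j.val + 1 = 4 → T.w (u j) = 2 * w) ∧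
          (∀ j j' : Fin 4, j'.val = j.val + 1 → j'.val + 1 < 4 → T.a (u j) (u j') = w) ∧
          (∀ j j' : Fin 4, j'.val = j.val + 1 → j'.val + 1 = 4 → T.a (u j) (u j') = 2 * w)) ∨
        ((∀ j : Fin 4, j.val + 1 < 4 → T.w (u j) = 2 * w) ∧
          (∀ j : Fin 4, j.val + 1 = 4 → T.w (u j) = w) ∧
          (∀ j j' : Fin 4, j'.val = j.val + 1 → T.a (u j) (u j') = 2 * w))) :
      (T.w (u 0) = w ∧ T.w (u 1) = w ∧ T.w (u 2) = w ∧ T.w (u 3) = 2 * w ∧ T.a (u 0) (u 1) = w ∧ T.a (u 1) (u 2) = w ∧ T.a (u 2) (u 3) = 2 * w ∧ T.m (u 1) ≤ 2 * T.m (u 0) ∧ T.m (u 0) + T.m (u 2) ≤ 2 * T.m (u 1) ∧ T.m (u 1) + 2 * T.m (u 3) ≤ 2 * T.m (u 2) ∧ T.m (u 2) ≤ 2 * T.m (u 3)) ∨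
      (T.w (u 0) = 2 * w ∧ T.w (u 1) = 2 * w ∧ T.w (u 2) = 2 * w ∧ T.w (u 3) = w ∧ T.a (u 0) (u 1) = 2 * w ∧ T.a (u 1) (u 2) = 2 * w ∧ T.a (u 2) (u 3) = 2 * w ∧ T.m (u 1) ≤ 2 * T.m (u 0) ∧ T.m (u 0) + T.m (u 2) ≤ 2 * T.m (u 1) ∧ T.m (u 1) + T.m (u 3) ≤ 2 * T.m (u 2) ∧ T.m (u 2) ≤ T.m (u 3)) := by
  have ne : ∀ i j : Fin 4, i ≠ j → u i ≠ u j := fun i j hij => hu.ne hij
  rcases h with ⟨h1, h2, h3, h4⟩ | ⟨h1, h2, h3⟩
  · left
    have w0 := h1 0 (by decide)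
    have w1 := h1 1 (by decide)
    have w2 := h1 2 (by decide)
    have w3 := h2 3 rfl
    have a01 := h3 0 1 rfl (by decide)
    have a12 := h3 1 2 rfl (by decide)
    have a23 := h4 2 3 rfl rfl
    have a10 := (a_symm T (u 1) (u 0)).trans a01
    have a21 := (a_symm T (u 2) (u 1)).trans a12
    have a32 := (a_symm T (u 3) (u 2)).trans a23
    have m0 := m_ineq1 T (u 0) (u 1) (hv 0) (ne 0 1 (by decide)) 1 (by omega)
    have m1 := m_ineq2 T (u 1) (u 0) (u 2) (hv 1) (ne 1 0 (by decide)) (ne 1 2 (by decide))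
      (ne 0 2 (by decide)) 1 1 (by omega) (by omega)
    have m2 := m_ineq2 T (u 2) (u 1) (u 3) (hv 2) (ne 2 1 (by decide)) (ne 2 3 (by decide))
      (ne 1 3 (by decide)) 1 2 (by omega) (by omega)
    have m3 := m_ineq1 T (u 3) (u 2) (hv 3) (ne 3 2 (by decide)) 1 (by omega)
    refine ⟨w0, w1, w2, w3, a01, a12, a23, ?_, ?_, ?_, ?_⟩ <;> omega
  · right
    have w0 := h1 0 (by decide)
    have w1 := h1 1 (by decide)
    have w2 := h1 2 (by decide)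
    have w3 := h2 3 rfl
    have a01 := h3 0 1 rfl
    have a12 := h3 1 2 rfl
    have a23 := h3 2 3 rfl
    have a10 := (a_symm T (u 1) (u 0)).trans a01
    have a21 := (a_symm T (u 2) (u 1)).trans a12
    have a32 := (a_symm T (u 3) (u 2)).trans a23
    have m0 := m_ineq1 T (u 0) (u 1) (hv 0) (ne 0 1 (by decide)) 1 (by omega)
    have m1 := m_ineq2 T (u 1) (u 0) (u 2) (hv 1) (ne 1 0 (by decide)) (ne 1 2 (by decide))
      (ne 0 2 (by decide)) 1 1 (by omega) (by omega)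
    have m2 := m_ineq2 T (u 2) (u 1) (u 3) (hv 2) (ne 2 1 (by decide)) (ne 2 3 (by decide))
      (ne 1 3 (by decide)) 1 1 (by omega) (by omega)
    have m3 := m_ineq1 T (u 3) (u 2) (hv 3) (ne 3 2 (by decide)) 2 (by omega)
    refine ⟨w0, w1, w2, w3, a01, a12, a23, ?_, ?_, ?_, ?_⟩ <;> omega

theorem mid_case {n : ℕ} (T : Models.NumericalType n) (hn : 2 < n) (u : Fin 4 → Fin n)
    (hu : Function.Injective u) (hv : ∀ j, T.IsMinusTwo (u j))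
    (h01 : gram T (u 0) (u 1) = 1) (h12 : T.a (u 1) (u 2) = 2 * T.w (u 1) ∧
      T.w (u 2) = 2 * T.w (u 1)) (h23 : gram T (u 2) (u 3) = 1) :
      ∃ w, (T.w (u 0) = w ∧ T.w (u 1) = w ∧ T.w (u 2) = 2 * w ∧ T.w (u 3) = 2 * w ∧ T.a (u 0) (u 1) = w ∧ T.a (u 1) (u 2) = 2 * w ∧ T.a (u 2) (u 3) = 2 * w ∧ T.m (u 1) ≤ 2 * T.m (u 0) ∧ T.m (u 0) + 2 * T.m (u 2) ≤ 2 * T.m (u 1) ∧ T.m (u 1) + T.m (u 3) ≤ 2 * T.m (u 2) ∧ T.m (u 2) ≤ 2 * T.m (u 3)) := by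
  have ne : ∀ i j : Fin 4, i ≠ j → u i ≠ u j := fun i j hij => hu.ne hij
  obtain ⟨e1, e2, e3⟩ := simple_edge T hn (u 0) (u 1) (ne 0 1 (by decide)) (hv 0) (hv 1) h01
  obtain ⟨f1, f2⟩ := h12
  have f3 := (a_symm T (u 2) (u 1)).trans f1
  obtain ⟨g1, g2, g3⟩ := simple_edge T hn (u 2) (u 3) (ne 2 3 (by decide)) (hv 2) (hv 3) h23
  have m0 := m_ineq1 T (u 0) (u 1) (hv 0) (ne 0 1 (by decide)) 1 (by omega)
  have m1 := m_ineq2 T (u 1) (u 0) (u 2) (hv 1) (ne 1 0 (by decide)) (ne 1 2 (by decide))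
    (ne 0 2 (by decide)) 1 2 (by omega) (by omega)
  have m2 := m_ineq2 T (u 2) (u 1) (u 3) (hv 2) (ne 2 1 (by decide)) (ne 2 3 (by decide))
    (ne 1 3 (by decide)) 1 1 (by omega) (by omega)
  have m3 := m_ineq1 T (u 3) (u 2) (hv 3) (ne 3 2 (by decide)) 1 (by omega)
  refine ⟨T.w (u 0), rfl, ?_, ?_, ?_, ?_, ?_, ?_, ?_, ?_, ?_, ?_⟩ <;> omega

/-- Classification of proper subgraphs which are chains of four vertices: let T be a numerical type on n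
> 4 indices and i_1, …, i_4 distinct (-2)-indices with a_{i_j i_{j+1}} nonzero for j < 4. Then
a_{i_j i_l} = 0 for |j - l| ≥ 2 and, after possibly reversing the order of the indices, for some
integer w one of the following holds: (A4) w = (w, w, w, w), consecutive a = (w, w, w), with 2m_1 ≥
m_2, 2m_2 ≥ m_1 + m_3, 2m_3 ≥ m_2 + m_4, 2m_4 ≥ m_3; (C4) w = (w, w, w, 2w), consecutive a = (w, w,
2w), with 2m_1 ≥ m_2, 2m_2 ≥ m_1 + m_3, 2m_3 ≥ m_2 + 2m_4, 2m_4 ≥ m_3; (B4) w = (2w, 2w, 2w, w),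
consecutive a = (2w, 2w, 2w), with 2m_1 ≥ m_2, 2m_2 ≥ m_1 + m_3, 2m_3 ≥ m_2 + m_4, m_4 ≥ m_3; (F4) w
= (w, w, 2w, 2w), consecutive a = (w, 2w, 2w), with 2m_1 ≥ m_2, 2m_2 ≥ m_1 + 2m_3, 2m_3 ≥ m_2 + m_4,
2m_4 ≥ m_3. -/
theorem result {n : ℕ} (T : Models.NumericalType n) (hn : 4 < n)
    (v : Fin 4 ↪ Fin n) (hv : ∀ j, T.IsMinusTwo (v j)) (h01 : T.a (v 0) (v 1) ≠ 0) (h12 : T.a (v 1) (v 2) ≠ 0) (h23 : T.a (v 2) (v 3) ≠ 0) :
    (T.a (v 0) (v 2) = 0 ∧ T.a (v 0) (v 3) = 0 ∧ T.a (v 1) (v 3) = 0) ∧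
    ∃ (u : Fin 4 → Fin n) (w : ℤ), ((∀ j, u j = v j) ∨ (∀ j, u j = v (Fin.rev j))) ∧
      ((T.w (u 0) = w ∧ T.w (u 1) = w ∧ T.w (u 2) = w ∧ T.w (u 3) = w ∧ T.a (u 0) (u 1) = w ∧ T.a (u 1) (u 2) = w ∧ T.a (u 2) (u 3) = w ∧ T.m (u 1) ≤ 2 * T.m (u 0) ∧ T.m (u 0) + T.m (u 2) ≤ 2 * T.m (u 1) ∧ T.m (u 1) + T.m (u 3) ≤ 2 * T.m (u 2) ∧ T.m (u 2) ≤ 2 * T.m (u 3)) ∨
      (T.w (u 0) = w ∧ T.w (u 1) = w ∧ T.w (u 2) = w ∧ T.w (u 3) = 2 * w ∧ T.a (u 0) (u 1) = w ∧ T.a (u 1) (u 2) = w ∧ T.a (u 2) (u 3) = 2 * w ∧ T.m (u 1) ≤ 2 * T.m (u 0) ∧ T.m (u 0) + T.m (u 2) ≤ 2 * T.m (u 1) ∧ T.m (u 1) + 2 * T.m (u 3) ≤ 2 * T.m (u 2) ∧ T.m (u 2) ≤ 2 * T.m (u 3)) ∨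
      (T.w (u 0) = 2 * w ∧ T.w (u 1) = 2 * w ∧ T.w (u 2) = 2 * w ∧ T.w (u 3) = w ∧ T.a (u 0) (u 1) = 2 * w ∧ T.a (u 1) (u 2) = 2 * w ∧ T.a (u 2) (u 3) = 2 * w ∧ T.m (u 1) ≤ 2 * T.m (u 0) ∧ T.m (u 0) + T.m (u 2) ≤ 2 * T.m (u 1) ∧ T.m (u 1) + T.m (u 3) ≤ 2 * T.m (u 2) ∧ T.m (u 2) ≤ T.m (u 3)) ∨
      (T.w (u 0) = w ∧ T.w (u 1) = w ∧ T.w (u 2) = 2 * w ∧ T.w (u 3) = 2 * w ∧ T.a (u 0) (u 1) = w ∧ T.a (u 1) (u 2) = 2 * w ∧ T.a (u 2) (u 3) = 2 * w ∧ T.m (u 1) ≤ 2 * T.m (u 0) ∧ T.m (u 0) + 2 * T.m (u 2) ≤ 2 * T.m (u 1) ∧ T.m (u 1) + T.m (u 3) ≤ 2 * T.m (u 2) ∧ T.m (u 2) ≤ 2 * T.m (u 3))) := by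
  have hs := sys' T (t := 4) (by norm_num) v v.injective hn hv
  have hc : ∀ i j : Fin 4, j.val = i.val + 1 → gram T (v i) (v j) ≠ 0 := by
    intro i j hij
    apply gram_ne
    fin_cases i <;> fin_cases j <;> simp at hij ⊢ <;> assumption
  have hz : ∀ i j : Fin 4, i.val + 1 < j.val → T.a (v i) (v j) = 0 :=
    fun i j hij => (gram_eq_zero_iff T _ _).1 (chain_zero hs hc i j hij)
  refine ⟨⟨hz 0 2 (by decide), hz 0 3 (by decide), hz 1 3 (by decide)⟩, ?_⟩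
  have ne : ∀ i j : Fin 4, i ≠ j → v i ≠ v j := fun i j hij => v.injective.ne hij
  have hrinj : Function.Injective (fun j : Fin 4 => v (Fin.rev j)) :=
    v.injective.comp Fin.rev_injective
  have o := fun (i j : Fin 4) (hij : j.val = i.val + 1) => chain_one_or (by norm_num) hs hc i j hij
  have d := fun (i i' k k' : Fin 4) (h1 : i'.val = i.val + 1) (h2 : k'.val = k.val + 1)
    (h3 : i.val < k.val) (h4 : gram T (v i) (v i') = √2) (h5 : gram T (v k) (v k') = √2) =>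
    chain_two_double hs hc i i' k k' h1 h2 h3 h4 h5
  rcases o 1 2 rfl with b | b
  · rcases o 0 1 rfl with a | a
    · rcases o 2 3 rfl with e | e
      · -- all simple
        obtain ⟨w, h1, h2⟩ := long_simple T (by omega) (by omega) v v.injective hv (by
          intro i j hij
          fin_cases i <;> fin_cases j <;> simp at hij ⊢ <;> assumption)
        exact ⟨v, w, Or.inl fun _ => rfl, Or.inl (simp_case T v v.injective hv w h1 h2)⟩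
      · obtain ⟨w, h1⟩ := long_last T (by omega) (by omega) v v.injective hv (by
          intro i j hij hj
          fin_cases i <;> fin_cases j <;> simp at hij hj ⊢ <;> assumption) (by
          intro i j hij hj
          fin_cases i <;> fin_cases j <;> simp at hij hj ⊢ <;> assumption)
        refine ⟨v, w, Or.inl fun _ => rfl, ?_⟩
        rcases last_case T v v.injective hv w h1 with h | h
        · exact Or.inr (Or.inl h)
        · exact Or.inr (Or.inr (Or.inl h))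
    · have e : gram T (v 2) (v 3) = 1 := (o 2 3 rfl).resolve_right fun e =>
        d 0 1 2 3 rfl rfl (by decide) a e
      have b' := (gram_symm T (v 2) (v 1)).trans b
      have a' := (gram_symm T (v 1) (v 0)).trans a
      have e' := (gram_symm T (v 3) (v 2)).trans e
      obtain ⟨w, h1⟩ := long_last T (by omega) (by omega) (fun j => v (Fin.rev j)) hrinj
        (fun j => hv _) (by
          intro i j hij hj
          fin_cases i <;> fin_cases j <;> simp at hij hj ⊢ <;> assumption) (by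
          intro i j hij hj
          fin_cases i <;> fin_cases j <;> simp at hij hj ⊢ <;> assumption)
      refine ⟨fun j => v (Fin.rev j), w, Or.inr fun _ => rfl, ?_⟩
      rcases last_case T _ hrinj (fun j => hv _) w h1 with h | h
      · exact Or.inr (Or.inl h)
      · exact Or.inr (Or.inr (Or.inl h))
  · have a : gram T (v 0) (v 1) = 1 := (o 0 1 rfl).resolve_right fun e =>
      d 0 1 1 2 rfl rfl (by decide) e b
    have e : gram T (v 2) (v 3) = 1 := (o 2 3 rfl).resolve_right fun e =>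
      d 1 2 2 3 rfl rfl (by decide) b e
    have a' := (gram_symm T (v 1) (v 0)).trans a
    have e' := (gram_symm T (v 3) (v 2)).trans e
    rcases double_edge T (by omega) (v 1) (v 2) (ne 1 2 (by decide)) (hv 1) (hv 2) b with
      ⟨h1, h2, h3⟩ | ⟨h1, h2, h3⟩
    · obtain ⟨w, h4⟩ := mid_case T (by omega) (fun j => v (Fin.rev j)) hrinj (fun j => hv _)
        e' ⟨h2, h3⟩ a'
      exact ⟨fun j => v (Fin.rev j), w, Or.inr fun _ => rfl, Or.inr (Or.inr (Or.inr h4))⟩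
    · obtain ⟨w, h4⟩ := mid_case T (by omega) v v.injective hv a ⟨h1, h3⟩ e
      exact ⟨v, w, Or.inl fun _ => rfl, Or.inr (Or.inr (Or.inr h4))⟩

end Groth.Agent.S7352
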