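import Groth.Statements.S7353
import Groth.Agent.Models.K378.Long

set_option autoImplicit false
open Finset
open Models Models.NumericalType

namespace Groth.Agent.S7353

open K378.Gram K378.Dynkin K378.Types
open Groth.Agent.Models.NumBasic

theorem simp_case {n : ℕ} (T : Models.NumericalType n) (u : Fin 5 → Fin n)
    (hu : Function.Injective u) (hv : ∀ j, T.IsMinusTwo (u j)) (w : ℤ)
    (h1 : ∀ j : Fin 5, T.w (u j) = w)
    (h2 : ∀ j j' : Fin 5, j'.val = j.val + 1 → T.a (u j) (u j') = w) :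
    (T.w (u 0) = w ∧ T.w (u 1) = w ∧ T.w (u 2) = w ∧ T.w (u 3) = w ∧ T.w (u 4) = w ∧ T.a (u 0) (u 1) = w ∧ T.a (u 1) (u 2) = w ∧ T.a (u 2) (u 3) = w ∧ T.a (u 3) (u 4) = w ∧ T.m (u 1) ≤ 2 * T.m (u 0) ∧ T.m (u 0) + T.m (u 2) ≤ 2 * T.m (u 1) ∧ T.m (u 1) + T.m (u 3) ≤ 2 * T.m (u 2) ∧ T.m (u 2) + T.m (u 4) ≤ 2 * T.m (u 3) ∧ T.m (u 3) ≤ 2 * T.m (u 4)) := by
  have ne : ∀ i j : Fin 5, i ≠ j → u i ≠ u j := fun i j hij => hu.ne hij
  have w0 := h1 0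
  have w1 := h1 1
  have w2 := h1 2
  have w3 := h1 3
  have w4 := h1 4
  have a01 := h2 0 1 rfl
  have a12 := h2 1 2 rfl
  have a23 := h2 2 3 rfl
  have a34 := h2 3 4 rfl
  have a10 := (a_symm T (u 1) (u 0)).trans a01
  have a21 := (a_symm T (u 2) (u 1)).trans a12
  have a32 := (a_symm T (u 3) (u 2)).trans a23
  have a43 := (a_symm T (u 4) (u 3)).trans a34
  have m0 := m_ineq1 T (u 0) (u 1) (hv 0) (ne 0 1 (by decide)) 1 (by omega)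
  have m1 := m_ineq2 T (u 1) (u 0) (u 2) (hv 1) (ne 1 0 (by decide)) (ne 1 2 (by decide))
    (ne 0 2 (by decide)) 1 1 (by omega) (by omega)
  have m2 := m_ineq2 T (u 2) (u 1) (u 3) (hv 2) (ne 2 1 (by decide)) (ne 2 3 (by decide))
    (ne 1 3 (by decide)) 1 1 (by omega) (by omega)
  have m3 := m_ineq2 T (u 3) (u 2) (u 4) (hv 3) (ne 3 2 (by decide)) (ne 3 4 (by decide))
    (ne 2 4 (by decide)) 1 1 (by omega) (by omega)
  have m4 := m_ineq1 T (u 4) (u 3) (hv 4) (ne 4 3 (by decide)) 1 (by omega)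
  refine ⟨w0, w1, w2, w3, w4, a01, a12, a23, a34, ?_, ?_, ?_, ?_, ?_⟩ <;> omega

theorem last_case {n : ℕ} (T : Models.NumericalType n) (u : Fin 5 → Fin n)
    (hu : Function.Injective u) (hv : ∀ j, T.IsMinusTwo (u j)) (w : ℤ)
    (h : ((∀ j : Fin 5, j.val + 1 < 5 → T.w (u j) = w) ∧
          (∀ j : Fin 5, j.val + 1 = 5 → T.w (u j) = 2 * w) ∧
          (∀ j j' : Fin 5, j'.val = j.val + 1 → j'.val + 1 < 5 → T.a (u j) (u j') = w) ∧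
          (∀ j j' : Fin 5, j'.val = j.val + 1 → j'.val + 1 = 5 → T.a (u j) (u j') = 2 * w)) ∨
        ((∀ j : Fin 5, j.val + 1 < 5 → T.w (u j) = 2 * w) ∧
          (∀ j : Fin 5, j.val + 1 = 5 → T.w (u j) = w) ∧
          (∀ j j' : Fin 5, j'.val = j.val + 1 → T.a (u j) (u j') = 2 * w))) :
      (T.w (u 0) = w ∧ T.w (u 1) = w ∧ T.w (u 2) = w ∧ T.w (u 3) = w ∧ T.w (u 4) = 2 * w ∧ T.a (u 0) (u 1) = w ∧ T.a (u 1) (u 2) = w ∧ T.a (u 2) (u 3) = w ∧ T.a (u 3) (u 4) = 2 * w ∧ T.m (u 1) ≤ 2 * T.m (u 0) ∧ T.m (u 0) + T.m (u 2) ≤ 2 * T.m (u 1) ∧ T.m (u 1) + T.m (u 3) ≤ 2 * T.m (u 2) ∧ T.m (u 2) + 2 * T.m (u 4) ≤ 2 * T.m (u 3) ∧ T.m (u 3) ≤ 2 * T.m (u 4)) ∨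
      (T.w (u 0) = 2 * w ∧ T.w (u 1) = 2 * w ∧ T.w (u 2) = 2 * w ∧ T.w (u 3) = 2 * w ∧ T.w (u 4) = w ∧ T.a (u 0) (u 1) = 2 * w ∧ T.a (u 1) (u 2) = 2 * w ∧ T.a (u 2) (u 3) = 2 * w ∧ T.a (u 3) (u 4) = 2 * w ∧ T.m (u 1) ≤ 2 * T.m (u 0) ∧ T.m (u 0) + T.m (u 2) ≤ 2 * T.m (u 1) ∧ T.m (u 1) + T.m (u 3) ≤ 2 * T.m (u 2) ∧ T.m (u 2) + T.m (u 4) ≤ 2 * T.m (u 3) ∧ T.m (u 3) ≤ T.m (u 4)) := by
  have ne : ∀ i j : Fin 5, i ≠ j → u i ≠ u j := fun i j hij => hu.ne hij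
  rcases h with ⟨h1, h2, h3, h4⟩ | ⟨h1, h2, h3⟩
  · left
    have w0 := h1 0 (by decide)
    have w1 := h1 1 (by decide)
    have w2 := h1 2 (by decide)
    have w3 := h1 3 (by decide)
    have w4 := h2 4 rfl
    have a01 := h3 0 1 rfl (by decide)
    have a12 := h3 1 2 rfl (by decide)
    have a23 := h3 2 3 rfl (by decide)
    have a34 := h4 3 4 rfl rfl
    have a10 := (a_symm T (u 1) (u 0)).trans a01
    have a21 := (a_symm T (u 2) (u 1)).trans a12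
    have a32 := (a_symm T (u 3) (u 2)).trans a23
    have a43 := (a_symm T (u 4) (u 3)).trans a34
    have m0 := m_ineq1 T (u 0) (u 1) (hv 0) (ne 0 1 (by decide)) 1 (by omega)
    have m1 := m_ineq2 T (u 1) (u 0) (u 2) (hv 1) (ne 1 0 (by decide)) (ne 1 2 (by decide))
      (ne 0 2 (by decide)) 1 1 (by omega) (by omega)
    have m2 := m_ineq2 T (u 2) (u 1) (u 3) (hv 2) (ne 2 1 (by decide)) (ne 2 3 (by decide))
      (ne 1 3 (by decide)) 1 1 (by omega) (by omega)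
    have m3 := m_ineq2 T (u 3) (u 2) (u 4) (hv 3) (ne 3 2 (by decide)) (ne 3 4 (by decide))
      (ne 2 4 (by decide)) 1 2 (by omega) (by omega)
    have m4 := m_ineq1 T (u 4) (u 3) (hv 4) (ne 4 3 (by decide)) 1 (by omega)
    refine ⟨w0, w1, w2, w3, w4, a01, a12, a23, a34, ?_, ?_, ?_, ?_, ?_⟩ <;> omega
  · right
    have w0 := h1 0 (by decide)
    have w1 := h1 1 (by decide)
    have w2 := h1 2 (by decide)
    have w3 := h1 3 (by decide)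
    have w4 := h2 4 rfl
    have a01 := h3 0 1 rfl
    have a12 := h3 1 2 rfl
    have a23 := h3 2 3 rfl
    have a34 := h3 3 4 rfl
    have a10 := (a_symm T (u 1) (u 0)).trans a01
    have a21 := (a_symm T (u 2) (u 1)).trans a12
    have a32 := (a_symm T (u 3) (u 2)).trans a23
    have a43 := (a_symm T (u 4) (u 3)).trans a34
    have m0 := m_ineq1 T (u 0) (u 1) (hv 0) (ne 0 1 (by decide)) 1 (by omega)
    have m1 := m_ineq2 T (u 1) (u 0) (u 2) (hv 1) (ne 1 0 (by decide)) (ne 1 2 (by decide))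
      (ne 0 2 (by decide)) 1 1 (by omega) (by omega)
    have m2 := m_ineq2 T (u 2) (u 1) (u 3) (hv 2) (ne 2 1 (by decide)) (ne 2 3 (by decide))
      (ne 1 3 (by decide)) 1 1 (by omega) (by omega)
    have m3 := m_ineq2 T (u 3) (u 2) (u 4) (hv 3) (ne 3 2 (by decide)) (ne 3 4 (by decide))
      (ne 2 4 (by decide)) 1 1 (by omega) (by omega)
    have m4 := m_ineq1 T (u 4) (u 3) (hv 4) (ne 4 3 (by decide)) 2 (by omega)
    refine ⟨w0, w1, w2, w3, w4, a01, a12, a23, a34, ?_, ?_, ?_, ?_, ?_⟩ <;> omega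

/-- Classification of proper subgraphs which are chains of five vertices: let T be a numerical type on n
> 5 indices and i_1, …, i_5 distinct (-2)-indices with a_{i_j i_{j+1}} nonzero for j < 5. Then
a_{i_j i_l} = 0 for |j - l| ≥ 2 and, after possibly reversing the order of the indices, for some
integer w one of the following holds: (A5) w = (w, w, w, w, w), consecutive a = (w, w, w, w), with
2m_1 ≥ m_2, 2m_2 ≥ m_1 + m_3, 2m_3 ≥ m_2 + m_4, 2m_4 ≥ m_3 + m_5, 2m_5 ≥ m_4; (C5) w = (w, w, w, w,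
2w), consecutive a = (w, w, w, 2w), with 2m_1 ≥ m_2, 2m_2 ≥ m_1 + m_3, 2m_3 ≥ m_2 + m_4, 2m_4 ≥ m_3
+ 2m_5, 2m_5 ≥ m_4; (B5) w = (2w, 2w, 2w, 2w, w), consecutive a = (2w, 2w, 2w, 2w), with 2m_1 ≥ m_2,
2m_2 ≥ m_1 + m_3, 2m_3 ≥ m_2 + m_4, 2m_4 ≥ m_3 + m_5, m_5 ≥ m_4. (The inequalities are those given
by the rows Σ_l a_{kl} m_l = 0 of the displayed matrices; the published text has 2m_3 ≥ m_2 + 2m_4
and 2m_4 ≥ m_3 + m_5 in case C5 and m_4 ≥ m_3 in case B5, of which the first does not follow — for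
the numerical type with six indices, weights (1,1,1,1,2,1), chain intersection numbers (1,1,1,2)
plus a_{16} = 1, a_{66} = -1 and multiplicities (2,2,2,2,1,2) one has 2m_3 = 4 < m_2 + 2m_4 = 6 — so
the matrix inequalities are stated.) -/
theorem result {n : ℕ} (T : Models.NumericalType n) (hn : 5 < n)
    (v : Fin 5 ↪ Fin n) (hv : ∀ j, T.IsMinusTwo (v j)) (h01 : T.a (v 0) (v 1) ≠ 0) (h12 : T.a (v 1) (v 2) ≠ 0) (h23 : T.a (v 2) (v 3) ≠ 0) (h34 : T.a (v 3) (v 4) ≠ 0) :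
    (T.a (v 0) (v 2) = 0 ∧ T.a (v 0) (v 3) = 0 ∧ T.a (v 0) (v 4) = 0 ∧ T.a (v 1) (v 3) = 0 ∧ T.a (v 1) (v 4) = 0 ∧ T.a (v 2) (v 4) = 0) ∧
    ∃ (u : Fin 5 → Fin n) (w : ℤ), ((∀ j, u j = v j) ∨ (∀ j, u j = v (Fin.rev j))) ∧
      ((T.w (u 0) = w ∧ T.w (u 1) = w ∧ T.w (u 2) = w ∧ T.w (u 3) = w ∧ T.w (u 4) = w ∧ T.a (u 0) (u 1) = w ∧ T.a (u 1) (u 2) = w ∧ T.a (u 2) (u 3) = w ∧ T.a (u 3) (u 4) = w ∧ T.m (u 1) ≤ 2 * T.m (u 0) ∧ T.m (u 0) + T.m (u 2) ≤ 2 * T.m (u 1) ∧ T.m (u 1) + T.m (u 3) ≤ 2 * T.m (u 2) ∧ T.m (u 2) + T.m (u 4) ≤ 2 * T.m (u 3) ∧ T.m (u 3) ≤ 2 * T.m (u 4)) ∨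
      (T.w (u 0) = w ∧ T.w (u 1) = w ∧ T.w (u 2) = w ∧ T.w (u 3) = w ∧ T.w (u 4) = 2 * w ∧ T.a (u 0) (u 1) = w ∧ T.a (u 1) (u 2) = w ∧ T.a (u 2) (u 3) = w ∧ T.a (u 3) (u 4) = 2 * w ∧ T.m (u 1) ≤ 2 * T.m (u 0) ∧ T.m (u 0) + T.m (u 2) ≤ 2 * T.m (u 1) ∧ T.m (u 1) + T.m (u 3) ≤ 2 * T.m (u 2) ∧ T.m (u 2) + 2 * T.m (u 4) ≤ 2 * T.m (u 3) ∧ T.m (u 3) ≤ 2 * T.m (u 4)) ∨
      (T.w (u 0) = 2 * w ∧ T.w (u 1) = 2 * w ∧ T.w (u 2) = 2 * w ∧ T.w (u 3) = 2 * w ∧ T.w (u 4) = w ∧ T.a (u 0) (u 1) = 2 * w ∧ T.a (u 1) (u 2) = 2 * w ∧ T.a (u 2) (u 3) = 2 * w ∧ T.a (u 3) (u 4) = 2 * w ∧ T.m (u 1) ≤ 2 * T.m (u 0) ∧ T.m (u 0) + T.m (u 2) ≤ 2 * T.m (u 1) ∧ T.m (u 1) + T.m (u 3) ≤ 2 * T.m (u 2) ∧ T.m (u 2) + T.m (u 4) ≤ 2 * T.m (u 3) ∧ T.m (u 3) ≤ T.m (u 4))) := by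
  have hs := sys' T (t := 5) (by norm_num) v v.injective hn hv
  have hc : ∀ i j : Fin 5, j.val = i.val + 1 → gram T (v i) (v j) ≠ 0 := by
    intro i j hij
    apply gram_ne
    fin_cases i <;> fin_cases j <;> simp at hij ⊢ <;> assumption
  have hz : ∀ i j : Fin 5, i.val + 1 < j.val → T.a (v i) (v j) = 0 :=
    fun i j hij => (gram_eq_zero_iff T _ _).1 (chain_zero hs hc i j hij)
  refine ⟨⟨hz 0 2 (by decide), hz 0 3 (by decide), hz 0 4 (by decide), hz 1 3 (by decide),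
    hz 1 4 (by decide), hz 2 4 (by decide)⟩, ?_⟩
  rcases chain_shape (by omega) hs hc with h | ⟨h, h'⟩ | ⟨h, h'⟩
  · obtain ⟨w, h1, h2⟩ := long_simple T (by omega) (by omega) v v.injective hv h
    exact ⟨v, w, Or.inl fun _ => rfl, Or.inl (simp_case T v v.injective hv w h1 h2)⟩
  · obtain ⟨w, h1⟩ := long_last T (by omega) (by omega) v v.injective hv h h'
    exact ⟨v, w, Or.inl fun _ => rfl, Or.inr (last_case T v v.injective hv w h1)⟩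
  · have hrinj : Function.Injective (fun j : Fin 5 => v (Fin.rev j)) :=
      v.injective.comp Fin.rev_injective
    have rv : ∀ j : Fin 5, (Fin.rev j).val = 5 - (j.val + 1) := fun j => Fin.val_rev j
    obtain ⟨w, h1⟩ := long_last T (by omega) (by omega) (fun j => v (Fin.rev j)) hrinj
      (fun j => hv _)
      (fun i j hij hj => (gram_symm T _ _).trans (h _ _
        (by rw [rv, rv]; have := i.isLt; have := j.isLt; omega)
        (by rw [rv]; omega)))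
      (fun i j hij hj => (gram_symm T _ _).trans (h' _ _
        (by rw [rv, rv]; have := i.isLt; have := j.isLt; omega)
        (by rw [rv]; omega)))
    exact ⟨fun j => v (Fin.rev j), w, Or.inr fun _ => rfl,
      Or.inr (last_case T _ hrinj (fun j => hv _) w h1)⟩

end Groth.Agent.S7353
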