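import Groth.Statements.S7354
import Groth.Agent.Models.K378.Long

set_option autoImplicit false
open Finset
open Models Models.NumericalType

namespace Groth.Agent.S7354

open K378.Gram K378.Dynkin K378.Types

/-- Let T be a numerical type on n indices, t > 5 with n > t, and i_1, …, i_t distinct (-2)-indices with
a_{i_j i_{j+1}} nonzero for j = 1, …, t - 1. Then, after possibly reversing the order of the
indices, for some integer w either (A) w_{i_1} = … = w_{i_t} = w and a_{i_j i_{j+1}} = w for all j;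
or (C) w_{i_1} = … = w_{i_{t-1}} = w, w_{i_t} = 2w, a_{i_j i_{j+1}} = w for j < t - 1 and a_{i_{t-1}
i_t} = 2w; or (B) w_{i_1} = … = w_{i_{t-1}} = 2w, w_{i_t} = w and a_{i_j i_{j+1}} = 2w for all j;
and in every case a_{i_j i_k} = 0 whenever k > j + 1. -/
theorem result {n : ℕ} (T : Models.NumericalType n) (t : ℕ) (ht : 5 < t) (hn : t < n)
    (v : Fin t ↪ Fin n) (hv : ∀ j, T.IsMinusTwo (v j))
    (hchain : ∀ j j' : Fin t, j'.val = j.val + 1 → T.a (v j) (v j') ≠ 0) :
    ∃ (u : Fin t → Fin n) (w : ℤ), ((∀ j, u j = v j) ∨ (∀ j, u j = v (Fin.rev j))) ∧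
      (∀ j k : Fin t, j.val + 1 < k.val → T.a (u j) (u k) = 0) ∧
      ((∀ j : Fin t, T.w (u j) = w) ∧ (∀ j j' : Fin t, j'.val = j.val + 1 → T.a (u j) (u j') = w) ∨
        ((∀ j : Fin t, j.val + 1 < t → T.w (u j) = w) ∧ (∀ j : Fin t, j.val + 1 = t → T.w (u j) = 2 * w) ∧
          (∀ j j' : Fin t, j'.val = j.val + 1 → j'.val + 1 < t → T.a (u j) (u j') = w) ∧
          (∀ j j' : Fin t, j'.val = j.val + 1 → j'.val + 1 = t → T.a (u j) (u j') = 2 * w)) ∨
        ((∀ j : Fin t, j.val + 1 < t → T.w (u j) = 2 * w) ∧ (∀ j : Fin t, j.val + 1 = t → T.w (u j) = w) ∧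
          (∀ j j' : Fin t, j'.val = j.val + 1 → T.a (u j) (u j') = 2 * w))) := by
  have hs := sys' T (t := t) (by omega) v v.injective hn hv
  have hc : ∀ i j : Fin t, j.val = i.val + 1 → gram T (v i) (v j) ≠ 0 :=
    fun i j hij => gram_ne T _ _ (hchain i j hij)
  have hz : ∀ i j : Fin t, i.val + 1 < j.val → T.a (v i) (v j) = 0 :=
    fun i j hij => (gram_eq_zero_iff T _ _).1 (chain_zero hs hc i j hij)
  rcases chain_shape (by omega) hs hc with h | ⟨h, h'⟩ | ⟨h, h'⟩
  · obtain ⟨w, h1, h2⟩ := long_simple T (by omega) (by omega) v v.injective hv h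
    exact ⟨v, w, Or.inl fun _ => rfl, hz, Or.inl ⟨h1, h2⟩⟩
  · obtain ⟨w, h1⟩ := long_last T (by omega) (by omega) v v.injective hv h h'
    exact ⟨v, w, Or.inl fun _ => rfl, hz, Or.inr h1⟩
  · have hrinj : Function.Injective (fun j : Fin t => v (Fin.rev j)) :=
      v.injective.comp Fin.rev_injective
    have rv : ∀ j : Fin t, (Fin.rev j).val = t - (j.val + 1) := fun j => Fin.val_rev j
    obtain ⟨w, h1⟩ := long_last T (by omega) (by omega) (fun j => v (Fin.rev j)) hrinj
      (fun j => hv _)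
      (fun i j hij hj => (gram_symm T _ _).trans (h _ _
        (by rw [rv, rv]; have := i.isLt; have := j.isLt; omega)
        (by rw [rv]; omega)))
      (fun i j hij hj => (gram_symm T _ _).trans (h' _ _
        (by rw [rv, rv]; have := i.isLt; have := j.isLt; omega)
        (by rw [rv]; omega)))
    refine ⟨fun j => v (Fin.rev j), w, Or.inr fun _ => rfl, fun i j hij => ?_, Or.inr h1⟩
    rw [Groth.Agent.Models.NumBasic.a_symm]
    exact hz _ _ (by rw [rv, rv]; have := i.isLt; have := j.isLt; omega)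

end Groth.Agent.S7354
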