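import Groth.Statements.S7355
import Groth.Agent.Models.K379.AffFork

set_option autoImplicit false
open Finset
open Models Models.NumericalType

namespace Groth.Agent.S7355

open K379.Affine Groth.Agent.Models.NumBasic

variable {n : ℕ} {T : Models.NumericalType n}

theorem no_b {u : ℕ → Fin n} {k : ℕ} (h2 : ∀ i ≤ k, T.a (u i) (u i) = -2 * T.w (u i))
    (hp : IsPath T u k) (hk : 2 ≤ k) (hkn : k + 2 < n) (x : Fin n)
    (h2x : T.a x x = -2 * T.w x) (hx : ∀ i ≤ k, u i ≠ x) (hax : Adj T (u (k - 1)) x) :
    N T (u 0) (u 1) = 1 ∧ N T (u 1) (u 0) = 1 := by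
  have a1 := hp.one_le (i := 0) (j := 1) (by omega) (by omega)
  have a2 := hp.one_le' (i := 0) (j := 1) (by omega) (by omega)
  constructor
  · by_contra h
    have := (b2 h2 hp hk x h2x hx hax (by omega)).1
    omega
  · by_contra h
    have := (b1 h2 hp hk x h2x hx hax (by omega)).1
    omega

theorem no_cyc {u : ℕ → Fin n} {k : ℕ} (h2 : ∀ i ≤ k, T.a (u i) (u i) = -2 * T.w (u i))
    (hp : IsPath T u k) (hk : 2 ≤ k) (hkn : k + 1 < n) : N T (u k) (u 0) = 0 := by
  by_contra h
  have := (cyc h2 hp hk ⟨hp.ne (by omega) (by omega) (by omega), h⟩).1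
  omega

/-- Classification of proper subgraphs of type D: let T be a numerical type on n indices, t > 4 with n >
t + 1, and i_1, …, i_{t+1} distinct (-2)-indices such that a_{i_j i_{j+1}} is nonzero for j = 1, …,
t - 1 and a_{i_{t-1} i_{t+1}} is nonzero. Then for some integer w one has w_{i_1} = … = w_{i_{t+1}}
= w, a_{i_j i_{j+1}} = w for j < t, a_{i_{t-1} i_{t+1}} = w, and a_{i_j i_k} = 0 for all other pairs
j ≠ k. -/
theorem result {n : ℕ} (T : Models.NumericalType n) (t : ℕ) (ht : 4 < t) (hn : t + 1 < n)
    (v : Fin (t + 1) ↪ Fin n) (hv : ∀ j, T.IsMinusTwo (v j))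
    (hchain : ∀ j j' : Fin (t + 1), j'.val = j.val + 1 → j'.val < t → T.a (v j) (v j') ≠ 0)
    (hbranch : ∀ j j' : Fin (t + 1), j.val + 2 = t → j'.val = t → T.a (v j) (v j') ≠ 0) :
    ∃ w : ℤ, (∀ j : Fin (t + 1), T.w (v j) = w) ∧
      (∀ j j' : Fin (t + 1), j'.val = j.val + 1 → j'.val < t → T.a (v j) (v j') = w) ∧
      (∀ j j' : Fin (t + 1), j.val + 2 = t → j'.val = t → T.a (v j) (v j') = w) ∧
      (∀ j k : Fin (t + 1), j.val < k.val → ¬ (k.val = j.val + 1 ∧ k.val < t) → ¬ (j.val + 2 = t ∧ k.val = t) →
        T.a (v j) (v k) = 0) := by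
  classical
  obtain ⟨k, rfl⟩ : ∃ k, t = k + 1 := ⟨t - 1, by omega⟩
  set u : ℕ → Fin n := fun i => if h : i < k + 1 + 1 then v ⟨i, h⟩ else v 0 with hu
  have uv : ∀ (i : ℕ) (h : i < k + 1 + 1), u i = v ⟨i, h⟩ := fun i h => dif_pos h
  set x : Fin n := v ⟨k + 1, by omega⟩ with hx
  have h2 : ∀ i ≤ k, T.a (u i) (u i) = -2 * T.w (u i) := fun i hi => by
    rw [uv i (by omega)]; exact (hv _).2
  have h2x : T.a x x = -2 * T.w x := (hv _).2
  have hp : IsPath T u k := by
    refine ⟨fun i hi j hj h => ?_, fun i hi => ⟨fun h => ?_, fun h => ?_⟩⟩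
    · rw [uv i (by omega), uv j (by omega)] at h
      have := congrArg Fin.val (v.injective h)
      exact this
    · rw [uv i (by omega), uv (i + 1) (by omega)] at h
      have := congrArg Fin.val (v.injective h)
      simp at this
    · rw [N_eq_zero_iff, uv i (by omega), uv (i + 1) (by omega)] at h
      exact hchain ⟨i, by omega⟩ ⟨i + 1, by omega⟩ rfl (by show i + 1 < k + 1; omega) h
  have hxu : ∀ i ≤ k, u i ≠ x := by
    intro i hi h
    rw [uv i (by omega), hx] at h
    have := congrArg Fin.val (v.injective h)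
    simp at this
    omega
  have hax : Adj T (u (k - 1)) x := by
    refine ⟨hxu _ (by omega), fun h => ?_⟩
    rw [N_eq_zero_iff, uv (k - 1) (by omega), hx] at h
    exact hbranch ⟨k - 1, by omega⟩ ⟨k + 1, by omega⟩ (by show k - 1 + 2 = k + 1; omega) rfl h
  have h2' : ∀ z : Fin n, (z = x ∨ ∃ i ≤ k, z = u i) → T.a z z = -2 * T.w z := by
    rintro z (rfl | ⟨i, hi, rfl⟩)
    · exact h2x
    · exact h2 i hi
  -- the edges of the path are simple
  have hN : ∀ i < k, N T (u i) (u (i + 1)) = 1 ∧ N T (u (i + 1)) (u i) = 1 := by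
    intro i hi
    by_cases hik : i < k - 1
    · exact no_b (u := fun j => u (i + j)) (k := k - i) (fun j hj => h2 _ (by omega))
        (hp.sub i (k - i) (by omega)) (by omega) (by omega) x h2x (fun j hj => hxu _ (by omega)) (by
          beta_reduce
          have e1 : i + (k - i - 1) = k - 1 := by omega
          rw [e1]
          exact hax)
    · have hi' : i = k - 1 := by omega
      have h := no_b (u := fun j => u (k - 2 + (2 - j))) (k := 2) (fun j hj => h2 _ (by omega))
        (hp.sub (k - 2) 2 (by omega)).reverse (by omega) (by omega) x h2x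
        (fun j hj => hxu _ (by omega)) (by
          beta_reduce
          have e1 : k - 2 + (2 - (2 - 1)) = k - 1 := by omega
          rw [e1]
          exact hax)
      beta_reduce at h
      have e1 : k - 2 + (2 - 0) = i + 1 := by omega
      have e2 : k - 2 + (2 - 1) = i := by omega
      rw [e1, e2] at h
      exact ⟨h.2, h.1⟩
  -- the edge to x is simple
  have hNx : N T (u (k - 1)) x = 1 ∧ N T x (u (k - 1)) = 1 := by
    have hp2 : IsPath T (fun i => if i ≤ 1 then u (k - 2 + i) else x) 2 :=
      (hp.sub (k - 2) 1 (by omega)).snoc (x := x) (fun i hi => hxu _ (by omega)) (by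
        beta_reduce
        have e1 : k - 2 + 1 = k - 1 := by omega
        rw [e1]
        exact hax)
    have h := no_b (u := fun i => (if 2 - i ≤ 1 then u (k - 2 + (2 - i)) else x)) (k := 2)
      (fun j hj => by
        beta_reduce
        split_ifs
        · exact h2 _ (by omega)
        · exact h2x) hp2.reverse (by omega) (by omega) (u k) (h2 k le_rfl)
      (fun j hj => by
        beta_reduce
        split_ifs
        · exact hp.ne (by omega) (by omega) (by omega)
        · exact (hxu k le_rfl).symm) (by
        beta_reduce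
        rw [if_pos (by omega)]
        exact hp.adj' (by omega) (by omega))
    beta_reduce at h
    have e1 : k - 2 + (2 - 1) = k - 1 := by omega
    rw [if_neg (by omega), if_pos (by omega), e1] at h
    exact ⟨h.2, h.1⟩
  -- no chords
  have hz : ∀ i j, i + 1 < j → j ≤ k → N T (u i) (u j) = 0 := by
    intro i j hij hj
    have h := no_cyc (u := fun l => u (i + l)) (k := j - i) (fun l hl => h2 _ (by omega))
      (hp.sub i (j - i) (by omega)) (by omega) (by omega)
    beta_reduce at h
    have e1 : i + (j - i) = j := by omega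
    rw [e1, Nat.add_zero] at h
    rw [N_eq_zero_comm]
    exact h
  -- x is attached only once
  have hxz : ∀ i ≤ k, i ≠ k - 1 → N T (u i) x = 0 := by
    intro i hi hik
    by_cases h3 : i < k - 1
    · have h := no_cyc (u := fun l => if l ≤ k - 1 - i then u (i + l) else x) (k := k - 1 - i + 1)
        (fun l hl => by
          beta_reduce
          split_ifs
          · exact h2 _ (by omega)
          · exact h2x)
        ((hp.sub i (k - 1 - i) (by omega)).snoc (x := x) (fun l hl => hxu _ (by omega)) (by
          beta_reduce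
          have e1 : i + (k - 1 - i) = k - 1 := by omega
          rw [e1]
          exact hax)) (by omega) (by omega)
      beta_reduce at h
      rw [if_neg (by omega), if_pos (by omega), Nat.add_zero, N_eq_zero_comm] at h
      exact h
    · have hik' : i = k := by omega
      subst hik'
      have h := no_cyc (u := fun l => if l ≤ 1 then u (i - 1 + (1 - l)) else x) (k := 2)
        (fun l hl => by
          beta_reduce
          split_ifs
          · exact h2 _ (by omega)
          · exact h2x)
        ((hp.sub (i - 1) 1 (by omega)).reverse.snoc (x := x) (fun l hl => hxu _ (by omega)) (by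
          beta_reduce
          have e1 : i - 1 + (1 - 1) = i - 1 := by omega
          rw [e1]
          exact hax)) (by omega) (by omega)
      beta_reduce at h
      have e1 : i - 1 + (1 - 0) = i := by omega
      rw [if_neg (by omega), if_pos (by omega), e1, N_eq_zero_comm] at h
      exact h
  have hw : ∀ i ≤ k, T.w (u i) = T.w (u 0) := fun i hi =>
    w_const (a := 0) (b := k) (fun i _ hik => hN i hik) i (by omega) hi
  have hwx : T.w x = T.w (u 0) := by
    rw [← hw (k - 1) (by omega)]
    exact w_eq_of_N_one hNx.2 hNx.1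
  have key : ∀ j : Fin (k + 1 + 1), (j.val ≤ k ∧ v j = u j.val) ∨ (j.val = k + 1 ∧ v j = x) := by
    intro j
    by_cases hj : j.val ≤ k
    · exact Or.inl ⟨hj, (uv j.val j.2).symm⟩
    · have hj' : j.val = k + 1 := by have := j.2; omega
      refine Or.inr ⟨hj', ?_⟩
      rw [hx]
      congr 1
      exact Fin.ext hj'
  refine ⟨T.w (u 0), ?_, ?_, ?_, ?_⟩
  · intro j
    rcases key j with ⟨hj, e⟩ | ⟨hj, e⟩
    · rw [e, hw _ hj]
    · rw [e, hwx]
  · intro j j' h1 h3
    rcases key j with ⟨hj, e⟩ | ⟨hj, e⟩
    · rcases key j' with ⟨hj', e'⟩ | ⟨hj', e'⟩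
      · rw [e, e', h1, a_eq, hw _ hj, (hN j.val (by omega)).1, mul_one]
      · omega
    · omega
  · intro j j' h1 h3
    rcases key j with ⟨hj, e⟩ | ⟨hj, e⟩
    · rcases key j' with ⟨hj', e'⟩ | ⟨hj', e'⟩
      · omega
      · have h4 : j.val = k - 1 := by omega
        rw [e, e', h4, a_eq, hw _ (by omega), hNx.1, mul_one]
    · omega
  · intro j j' hlt h1 h3
    rcases key j with ⟨hj, e⟩ | ⟨hj, e⟩
    · rcases key j' with ⟨hj', e'⟩ | ⟨hj', e'⟩
      · rw [e, e', ← N_eq_zero_iff]
        exact hz _ _ (by omega) hj'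
      · rw [e, e', ← N_eq_zero_iff]
        exact hxz _ hj (by omega)
    · have := j'.2
      omega

end Groth.Agent.S7355
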