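import Groth.Statements.S7359
import Groth.Agent.Resolve.K375.NagSch

set_option autoImplicit false
universe u
open CategoryTheory CategoryTheory.Limits AlgebraicGeometry
open Resolve

namespace Groth.Agent.S7359

/-- Let X be an integral locally Noetherian Nagata scheme (every affine open has a Nagata coordinate
ring), x ∈ X a closed point, b : X' → X the blowing up of X at x (in the reduced point; X' is again
integral) and X'' → X' the normalization of X'. Then the normalized blowing up X'' is a normal
scheme, is Nagata, and X'' → X is proper. (The quasi-compactness and quasi-separatedness binders on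
Spec K(X') → X' always hold; they are needed only to form the normalization.) -/
theorem result (X : Scheme.{u}) [IsIntegral X] [IsLocallyNoetherian X]
    (hN : ∀ U : X.affineOpens, CAlg.IsNagata Γ(X, U.1)) (x : X) (hx : IsClosed ({x} : Set X))
    (X' : Scheme.{u}) (b : X' ⟶ X) (hb : BlowUp.IsBlowUp b (Scheme.IdealSheafData.vanishingIdeal ⟨{x}, hx⟩)) [IsIntegral X']
    [QuasiCompact (X'.fromSpecStalk (genericPoint X'))] [QuasiSeparated (X'.fromSpecStalk (genericPoint X'))] :
    Pi1.IsNormalScheme (Curv2.normalization X') ∧
      (∀ U : (Curv2.normalization X').affineOpens, CAlg.IsNagata Γ(Curv2.normalization X', U.1)) ∧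
      IsProper (Curv2.normalizationι X' ≫ b) := by
  have hft : BlowUp.IsFiniteTypeIdeal (Scheme.IdealSheafData.vanishingIdeal ⟨{x}, hx⟩) := fun U => by
    have := (hN U).1
    exact Ideal.fg_of_isNoetherianRing _
  have hb1 : IsProper b := Groth.Agent.Flat2C.BlowProper.isProper_of_isBlowUp hb hft
  have h1 : K375.NagSch.IsNag X' := K375.NagSch.isNag_of_locallyOfFiniteType b hN
  have h2 := K375.NagSch.isFinite_normalizationι X' h1
  obtain ⟨-, h3, -, -⟩ := Groth.Agent.S2351.result X'
  exact ⟨h3, K375.NagSch.isNag_of_locallyOfFiniteType (Curv2.normalizationι X') h1, inferInstance⟩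

end Groth.Agent.S7359
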