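import Groth.Statements.S7360
import Groth.Agent.Resolve.K112.ColenM

set_option autoImplicit false
universe u
open CategoryTheory CategoryTheory.Limits AlgebraicGeometry
open Resolve

namespace Groth.Agent.S7360

open Groth.Agent.Resolve.K112 Groth.Agent.Resolve.K112.ColenM


/-- Let (A, m) be a regular local ring of dimension two, X → Spec A (the structure morphism) the blowing
up in m with exceptional divisor E and its ideal I_E, and I an ideal of A with m^n ⊆ I ⊆ m for some
n. Let d be the largest integer with I O_X ⊆ O_X(-dE) = I_E^d and I' ⊆ O_X the ideal with I O_X = I'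
· I_E^d (so I' = I O_X(dE)). Then d > 0, O_X/I' is supported in finitely many closed points x_1, …,
x_r, and length_A(A/I) > length_A Γ(X, O_X/I') ≥ Σ_i length_{O_{X,x_i}}(O_{X,x_i}/I'_{x_i}), the sum
written as a finite sum over the points of the subscheme defined by I'. -/
theorem result (A : Type u) [CommRing A] [IsRegularLocalRing A] (hA : ringKrullDim A = 2)
    (X : Scheme.{u}) [X.Over (Spec (CommRingCat.of A))]
    (hb : BlowUp.IsBlowUp (X ↘ Spec (CommRingCat.of A)) (Curv2.idealSheaf A (IsLocalRing.maximalIdeal A)))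
    (I : Ideal A) (n : ℕ) (hIn : IsLocalRing.maximalIdeal A ^ n ≤ I) (hIm : I ≤ IsLocalRing.maximalIdeal A)
    (d : ℕ) (I' : X.IdealSheafData)
    (hd : (Curv2.idealSheaf A I).comap (X ↘ Spec (CommRingCat.of A)) =
      I' * BlowUp.exceptional (X ↘ Spec (CommRingCat.of A)) (Curv2.idealSheaf A (IsLocalRing.maximalIdeal A)) ^ d)
    (hmax : ¬ (Curv2.idealSheaf A I).comap (X ↘ Spec (CommRingCat.of A)) ≤
      BlowUp.exceptional (X ↘ Spec (CommRingCat.of A)) (Curv2.idealSheaf A (IsLocalRing.maximalIdeal A)) ^ (d + 1)) :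
    0 < d ∧ (I'.support : Set X).Finite ∧ (∀ x ∈ (I'.support : Set X), IsClosed ({x} : Set X)) ∧
      Module.length A (Coh.HH X (ClSub.quotMod I') 0) < Module.length A (A ⧸ I) ∧
      ∑ᶠ x : ↥I'.subscheme, Module.length (I'.subscheme.presheaf.stalk x) (I'.subscheme.presheaf.stalk x) ≤
        Module.length A (Coh.HH X (ClSub.quotMod I') 0) := by
  obtain ⟨hdom, hnorm, hint, hprop, hbir⟩ := modif hA hb
  obtain ⟨hfin, hcl⟩ := support_props hA hb hIn hIm hd hmax
  have hdpos : 0 < d := by
    rw [Nat.pos_iff_ne_zero]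
    rintro rfl
    apply hmax
    rw [zero_add, pow_one]
    exact comap_mono _ hIm
  -- the closed subscheme
  have hX : IsNoetherian X := K374.ModBasic.isNoetherian (X ↘ Spec (CommRingCat.of A))
  have hZfin : Finite I'.subscheme := by
    have h1 : Set.Finite (Set.range I'.subschemeι) := by
      rw [Scheme.IdealSheafData.range_subschemeι]
      exact hfin
    have h2 : Function.Injective I'.subschemeι := I'.subschemeι.isEmbedding.injective
    have h3 : (Set.univ : Set I'.subscheme).Finite := by
      refine Set.Finite.of_finite_image (f := I'.subschemeι) ?_ h2.injOn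
      rwa [Set.image_univ]
    exact Set.finite_univ_iff.1 h3
  have hZT1 : T1Space I'.subscheme := ⟨fun z => by
    have h1 : I'.subschemeι z ∈ (I'.support : Set X) := by
      rw [← Scheme.IdealSheafData.range_subschemeι]
      exact ⟨z, rfl⟩
    have h2 := (hcl _ h1).preimage I'.subschemeι.continuous
    have h3 : I'.subschemeι ⁻¹' {I'.subschemeι z} = {z} := by
      ext y
      simp only [Set.mem_preimage, Set.mem_singleton_iff]
      exact I'.subschemeι.isEmbedding.injective.eq_iff
    rwa [h3] at h2⟩
  have hZd : DiscreteTopology I'.subscheme := inferInstance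
  have hZaff : IsAffine I'.subscheme := inferInstance
  have hZn : IsNoetherian I'.subscheme := by
    have : IsLocallyNoetherian I'.subscheme := LocallyOfFiniteType.isLocallyNoetherian I'.subschemeι
    exact {}
  have hZart : IsArtinianScheme I'.subscheme :=
    IsArtinianScheme.iff_isNoetherian_and_discreteTopology.2 ⟨hZn, hZd⟩
  refine ⟨hdpos, hfin, hcl, ?_, ColenC.finsum_length_le A X I'⟩
  -- the length of `A/I`
  have hlen : Module.length A (A ⧸ I) ≠ ⊤ := by
    rw [Module.length_ne_top_iff]
    refine isFiniteLength_quotient I fun q hq hIq => ?_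
    refine le_antisymm (IsLocalRing.le_maximalIdeal hq.ne_top) ?_
    exact hq.le_of_pow_le (hIn.trans hIq)
  have hgl : Function.Surjective (CurvesB.HZero.gl A X) := by
    have h1 := K374.ModBasic.isIso_appTop hA (X ↘ Spec (CommRingCat.of A)) hbir
    have h2 := ((ConcreteCategory.isIso_iff_bijective _).1 h1).2
    have h3 := (ConcreteCategory.bijective_of_isIso (Scheme.ΓSpecIso (CommRingCat.of A)).inv).2
    exact h2.comp h3
  have hq : Coh.IsQCoh (ClSub.idealMod ((Curv2.idealSheaf A I).comap (X ↘ Spec (CommRingCat.of A)))) :=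
    CohqA.IdealMod.isQCoh_idealMod _
  have hH1 := Groth.Agent.S1624.result A hA X (X ↘ Spec (CommRingCat.of A)) hb _ hq
    (ColenD.isGloballyGenerated_comap _ I hq)
  have h4 := ColenD.length_quotMod_comap_le I hgl hH1
  have h5 : Module.length A (Coh.HH X (ClSub.quotMod
      ((Curv2.idealSheaf A I).comap (X ↘ Spec (CommRingCat.of A)))) 0) ≠ ⊤ := ne_top_of_le_ne_top hlen h4
  refine lt_of_lt_of_le ?_ h4
  refine ColenE.length_quotMod_lt A (K := (BlowUp.exceptional (X ↘ Spec (CommRingCat.of A))
    (Curv2.idealSheaf A (IsLocalRing.maximalIdeal A))) ^ d) (Groth.Agent.Divis.EffCartier.isEff_pow hb.1 d) ?_ hd h5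
  intro htop
  have h6 : (BlowUp.exceptional (X ↘ Spec (CommRingCat.of A))
    (Curv2.idealSheaf A (IsLocalRing.maximalIdeal A))) ^ d ≤ (BlowUp.exceptional (X ↘ Spec (CommRingCat.of A))
    (Curv2.idealSheaf A (IsLocalRing.maximalIdeal A))) := by
    obtain ⟨e, rfl⟩ : ∃ e, d = e + 1 := ⟨d - 1, by omega⟩
    rw [pow_succ]
    exact mul_le_of_le_one_left' (by rw [Scheme.IdealSheafData.one_eq_top]; exact le_top)
  rw [htop, top_le_iff] at h6
  obtain ⟨h7, -, -⟩ := exc_props hA hb
  have h8 : Nonempty ((Curv2.idealSheaf A (IsLocalRing.maximalIdeal A)).comap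
    (X ↘ Spec (CommRingCat.of A))).subscheme := inferInstance
  obtain ⟨z⟩ := h8
  have h9 : (((Curv2.idealSheaf A (IsLocalRing.maximalIdeal A)).comap
    (X ↘ Spec (CommRingCat.of A))).support : Set X).Nonempty := by
    rw [← Scheme.IdealSheafData.range_subschemeι]
    exact ⟨_, z, rfl⟩
  rw [show (Curv2.idealSheaf A (IsLocalRing.maximalIdeal A)).comap
    (X ↘ Spec (CommRingCat.of A)) = ⊤ from h6, Scheme.IdealSheafData.support_top] at h9
  exact Set.not_nonempty_empty h9

end Groth.Agent.S7360
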