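import Groth.Statements.S7362
import Groth.Agent.Models.K379.AffFin

set_option autoImplicit false
open Finset
open Models Models.NumericalType

namespace Groth.Agent.S7362

open K379.Affine Groth.Agent.Models.NumBasic

/-- Genus one classification: case n = 2: let T be a minimal numerical type of genus 1 on two indices.
Then for some ordering i, j of the indices and some integers m, w, either m_i = m_j = m, a_ii = a_jj
= -2w, a_ij = 2w, w_i = w_j = w, g_i = g_j = 0; or m_i = 2m, m_j = m, a_ii = -2w, a_ij = 4w, a_jj =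
-8w, w_i = w, w_j = 4w, g_i = g_j = 0. Only the classification direction is stated. -/
theorem result (T : Models.NumericalType 2) (hmin : T.IsMinimal) (hg : T.genus = 1) :
    ∃ (i j : Fin 2) (m w : ℤ), i ≠ j ∧ T.g i = 0 ∧ T.g j = 0 ∧
      ((T.m i = m ∧ T.m j = m ∧ T.a i i = -2 * w ∧ T.a i j = 2 * w ∧ T.a j j = -2 * w ∧ T.w i = w ∧ T.w j = w) ∨
        (T.m i = 2 * m ∧ T.m j = m ∧ T.a i i = -2 * w ∧ T.a i j = 4 * w ∧ T.a j j = -8 * w ∧ T.w i = w ∧ T.w j = 4 * w)) := by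
  have hi := fun i => isMinusTwo_of_genus_one (by decide) hmin hg i
  have hd0 : N T 0 0 = -2 := N_diag (hi 0).2
  have hd1 : N T 1 1 = -2 := N_diag (hi 1).2
  have r0 := row_sum T 0
  have r1 := row_sum T 1
  rw [Fin.sum_univ_two] at r0 r1
  have s0 : N T 0 1 * T.m 1 = 2 * T.m 0 := by
    have h1 : T.w 0 * (N T 0 1 * T.m 1 - 2 * T.m 0) = 0 := by
      have e0 := a_eq T 0 0
      have e1 := a_eq T 0 1
      rw [hd0] at e0
      rw [e0, e1] at r0
      linarith
    rcases mul_eq_zero.1 h1 with h | h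
    · exact absurd h (T.w_pos 0).ne'
    · linarith
  have s1 : N T 1 0 * T.m 0 = 2 * T.m 1 := by
    have h1 : T.w 1 * (N T 1 0 * T.m 0 - 2 * T.m 1) = 0 := by
      have e0 := a_eq T 1 0
      have e1 := a_eq T 1 1
      rw [hd1] at e1
      rw [e0, e1] at r1
      linarith
    rcases mul_eq_zero.1 h1 with h | h
    · exact absurd h (T.w_pos 1).ne'
    · linarith
  have m0 := T.m_pos 0
  have m1 := T.m_pos 1
  have hprod : N T 0 1 * N T 1 0 = 4 := by
    have h1 : (N T 0 1 * N T 1 0 - 4) * T.m 0 = 0 := by linear_combination N T 0 1 * s1 + 2 * s0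
    rcases mul_eq_zero.1 h1 with h | h
    · linarith
    · exact absurd h m0.ne'
  have p0 : 0 ≤ N T 0 1 := N_nonneg T (by decide)
  have p1 : 0 ≤ N T 1 0 := N_nonneg T (by decide)
  have hN01 : N T 0 1 ≤ 4 := by
    rcases p1.eq_or_lt with h | h
    · rw [← h] at hprod; norm_num at hprod
    · nlinarith
  have hw := w_mul_N T 0 1
  have a01 := a_eq T 0 1
  have a10 := a_eq T 1 0
  have hcases : (N T 0 1 = 1 ∧ N T 1 0 = 4) ∨ (N T 0 1 = 2 ∧ N T 1 0 = 2) ∨
      (N T 0 1 = 4 ∧ N T 1 0 = 1) := by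
    have h5 : N T 0 1 = 0 ∨ N T 0 1 = 1 ∨ N T 0 1 = 2 ∨ N T 0 1 = 3 ∨ N T 0 1 = 4 := by omega
    rcases h5 with h | h | h | h | h <;> rw [h] at hprod <;> omega
  rcases hcases with ⟨h1, h2⟩ | ⟨h1, h2⟩ | ⟨h1, h2⟩
  · rw [h1, h2] at hw
    rw [h1] at s0
    rw [h2] at a10
    have hw' : T.w 0 = 4 * T.w 1 := by linarith
    refine ⟨1, 0, T.m 0, T.w 1, by decide, (hi 1).1, (hi 0).1, Or.inr ⟨?_, rfl, (hi 1).2, ?_, ?_,
      rfl, hw'⟩⟩
    · linarith
    · linarith
    · have := (hi 0).2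
      linarith
  · rw [h1, h2] at hw
    rw [h1] at s0 a01
    have hw' : T.w 1 = T.w 0 := by linarith
    refine ⟨0, 1, T.m 0, T.w 0, by decide, (hi 0).1, (hi 1).1, Or.inl ⟨rfl, ?_, (hi 0).2, ?_, ?_,
      rfl, hw'⟩⟩
    · linarith
    · linarith
    · have := (hi 1).2
      linarith
  · rw [h1, h2] at hw
    rw [h1] at s0 a01
    have hw' : T.w 1 = 4 * T.w 0 := by linarith
    refine ⟨0, 1, T.m 1, T.w 0, by decide, (hi 0).1, (hi 1).1, Or.inr ⟨?_, rfl, (hi 0).2, ?_, ?_,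
      rfl, hw'⟩⟩
    · linarith
    · linarith
    · have := (hi 1).2
      linarith

end Groth.Agent.S7362
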