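import Groth.Statements.S7363
import Groth.Agent.Models.K379.AffFin

set_option autoImplicit false
open Finset
open Models Models.NumericalType

namespace Groth.Agent.S7363

open K379.Affine Groth.Agent.Models.NumBasic

/-- Genus one classification: case n = 3: let T be a minimal numerical type of genus 1 on three indices.
Then all g = 0 and, for some ordering i, j, k of the indices and some integers m, w, the data (m; a;
w) is one of: (m,m,m; a_ii = a_jj = a_kk = -2w, a_ij = a_ik = a_jk = w; w,w,w); (m,2m,m; a_ii = -2w,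
a_ij = w, a_ik = 0, a_jj = -2w, a_jk = 3w, a_kk = -6w; w,w,3w); (m,2m,3m; a_ii = -6w, a_ij = 3w,
a_ik = 0, a_jj = -6w, a_jk = 3w, a_kk = -2w; 3w,3w,w); (2m,2m,m; a_ii = -2w, a_ij = 2w, a_ik = 0,
a_jj = -4w, a_jk = 4w, a_kk = -8w; w,2w,4w); (m,m,m; a_ii = -2w, a_ij = 2w, a_ik = 0, a_jj = -4w,
a_jk = 2w, a_kk = -2w; w,2w,w); (m,2m,m; a_ii = -4w, a_ij = 2w, a_ik = 0, a_jj = -2w, a_jk = 2w,
a_kk = -4w; 2w,w,2w). Only the classification direction is stated. -/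
theorem result (T : Models.NumericalType 3) (hmin : T.IsMinimal) (hg : T.genus = 1) :
    ∃ (i j k : Fin 3) (m w : ℤ), i ≠ j ∧ j ≠ k ∧ i ≠ k ∧ T.g i = 0 ∧ T.g j = 0 ∧ T.g k = 0 ∧
      ((T.m i = m ∧ T.m j = m ∧ T.m k = m ∧ T.a i i = -2 * w ∧ T.a j j = -2 * w ∧ T.a k k = -2 * w ∧
          T.a i j = w ∧ T.a i k = w ∧ T.a j k = w ∧ T.w i = w ∧ T.w j = w ∧ T.w k = w) ∨
        (T.m i = m ∧ T.m j = 2 * m ∧ T.m k = m ∧ T.a i i = -2 * w ∧ T.a i j = w ∧ T.a i k = 0 ∧ T.a j j = -2 * w ∧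
          T.a j k = 3 * w ∧ T.a k k = -6 * w ∧ T.w i = w ∧ T.w j = w ∧ T.w k = 3 * w) ∨
        (T.m i = m ∧ T.m j = 2 * m ∧ T.m k = 3 * m ∧ T.a i i = -6 * w ∧ T.a i j = 3 * w ∧ T.a i k = 0 ∧ T.a j j = -6 * w ∧
          T.a j k = 3 * w ∧ T.a k k = -2 * w ∧ T.w i = 3 * w ∧ T.w j = 3 * w ∧ T.w k = w) ∨
        (T.m i = 2 * m ∧ T.m j = 2 * m ∧ T.m k = m ∧ T.a i i = -2 * w ∧ T.a i j = 2 * w ∧ T.a i k = 0 ∧ T.a j j = -4 * w ∧
          T.a j k = 4 * w ∧ T.a k k = -8 * w ∧ T.w i = w ∧ T.w j = 2 * w ∧ T.w k = 4 * w) ∨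
        (T.m i = m ∧ T.m j = m ∧ T.m k = m ∧ T.a i i = -2 * w ∧ T.a i j = 2 * w ∧ T.a i k = 0 ∧ T.a j j = -4 * w ∧
          T.a j k = 2 * w ∧ T.a k k = -2 * w ∧ T.w i = w ∧ T.w j = 2 * w ∧ T.w k = w) ∨
        (T.m i = m ∧ T.m j = 2 * m ∧ T.m k = m ∧ T.a i i = -4 * w ∧ T.a i j = 2 * w ∧ T.a i k = 0 ∧ T.a j j = -2 * w ∧
          T.a j k = 2 * w ∧ T.a k k = -4 * w ∧ T.w i = 2 * w ∧ T.w j = w ∧ T.w k = 2 * w)) := by
  have hi := fun i => isMinusTwo_of_genus_one (by decide) hmin hg i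
  obtain ⟨u, m, w, h⟩ := main (T := T) (fun i => (hi i).2) (by decide)
  rcases h with h | h | h | h | ⟨hn, h⟩ | ⟨hn, h⟩ | ⟨hn, h⟩ | ⟨hn, h⟩ | ⟨hn, h⟩ | ⟨hn, h⟩ |
    ⟨hn, h⟩ | ⟨hn, h⟩ | ⟨hn, h⟩ | ⟨hn, h⟩
  · obtain ⟨σ, hm, hw, ha⟩ := h.exists_perm
    have hw0 : T.w (σ 0) = w := by simpa [lv] using hw 0
    have hw1 : T.w (σ 1) = w := by simpa [lv] using hw 1
    have hw2 : T.w (σ 2) = w := by simpa [lv] using hw 2
    have hm0 : T.m (σ 0) = m := by simpa [lv] using hm 0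
    have hm1 : T.m (σ 1) = m := by simpa [lv] using hm 1
    have hm2 : T.m (σ 2) = m := by simpa [lv] using hm 2
    have ha00 : T.a (σ 0) (σ 0) = -2 * w := by linarith [(hi (σ 0)).2, hw0]
    have ha11 : T.a (σ 1) (σ 1) = -2 * w := by linarith [(hi (σ 1)).2, hw1]
    have ha22 : T.a (σ 2) (σ 2) = -2 * w := by linarith [(hi (σ 2)).2, hw2]
    have ha01 : T.a (σ 0) (σ 1) = w := by simpa [lv] using ha 0 1 (by decide)
    have ha02 : T.a (σ 0) (σ 2) = w := by simpa [lv] using ha 0 2 (by decide)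
    have ha12 : T.a (σ 1) (σ 2) = w := by simpa [lv] using ha 1 2 (by decide)
    have h01 : σ 0 ≠ σ 1 := fun h => absurd (σ.injective h) (by decide)
    have h12 : σ 1 ≠ σ 2 := fun h => absurd (σ.injective h) (by decide)
    have h02 : σ 0 ≠ σ 2 := fun h => absurd (σ.injective h) (by decide)
    exact ⟨σ 0, σ 1, σ 2, m, w, h01, h12, h02, (hi _).1, (hi _).1, (hi _).1,
      Or.inl ⟨hm0, hm1, hm2, ha00, ha11, ha22, ha01, ha02, ha12, hw0, hw1, hw2⟩⟩
  · obtain ⟨σ, hm, hw, ha⟩ := h.exists_perm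
    have hw0 : T.w (σ 0) = w := by simpa [lv] using hw 0
    have hw1 : T.w (σ 1) = 2 * w := by simpa [lv] using hw 1
    have hw2 : T.w (σ 2) = 4 * w := by simpa [lv] using hw 2
    have hm0 : T.m (σ 0) = 2 * m := by simpa [lv] using hm 0
    have hm1 : T.m (σ 1) = 2 * m := by simpa [lv] using hm 1
    have hm2 : T.m (σ 2) = m := by simpa [lv] using hm 2
    have ha00 : T.a (σ 0) (σ 0) = -2 * w := by linarith [(hi (σ 0)).2, hw0]
    have ha01 : T.a (σ 0) (σ 1) = 2 * w := by simpa [lv] using ha 0 1 (by decide)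
    have ha02 : T.a (σ 0) (σ 2) = 0 := by simpa [lv] using ha 0 2 (by decide)
    have ha11 : T.a (σ 1) (σ 1) = -4 * w := by linarith [(hi (σ 1)).2, hw1]
    have ha12 : T.a (σ 1) (σ 2) = 4 * w := by simpa [lv] using ha 1 2 (by decide)
    have ha22 : T.a (σ 2) (σ 2) = -8 * w := by linarith [(hi (σ 2)).2, hw2]
    have h01 : σ 0 ≠ σ 1 := fun h => absurd (σ.injective h) (by decide)
    have h12 : σ 1 ≠ σ 2 := fun h => absurd (σ.injective h) (by decide)
    have h02 : σ 0 ≠ σ 2 := fun h => absurd (σ.injective h) (by decide)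
    exact ⟨σ 0, σ 1, σ 2, m, w, h01, h12, h02, (hi _).1, (hi _).1, (hi _).1,
      Or.inr (Or.inr (Or.inr (Or.inl ⟨hm0, hm1, hm2, ha00, ha01, ha02, ha11, ha12, ha22, hw0, hw1, hw2⟩)))⟩
  · obtain ⟨σ, hm, hw, ha⟩ := h.exists_perm
    have hw0 : T.w (σ 0) = w := by simpa [lv] using hw 0
    have hw1 : T.w (σ 1) = 2 * w := by simpa [lv] using hw 1
    have hw2 : T.w (σ 2) = w := by simpa [lv] using hw 2
    have hm0 : T.m (σ 0) = m := by simpa [lv] using hm 0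
    have hm1 : T.m (σ 1) = m := by simpa [lv] using hm 1
    have hm2 : T.m (σ 2) = m := by simpa [lv] using hm 2
    have ha00 : T.a (σ 0) (σ 0) = -2 * w := by linarith [(hi (σ 0)).2, hw0]
    have ha01 : T.a (σ 0) (σ 1) = 2 * w := by simpa [lv] using ha 0 1 (by decide)
    have ha02 : T.a (σ 0) (σ 2) = 0 := by simpa [lv] using ha 0 2 (by decide)
    have ha11 : T.a (σ 1) (σ 1) = -4 * w := by linarith [(hi (σ 1)).2, hw1]
    have ha12 : T.a (σ 1) (σ 2) = 2 * w := by simpa [lv] using ha 1 2 (by decide)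
    have ha22 : T.a (σ 2) (σ 2) = -2 * w := by linarith [(hi (σ 2)).2, hw2]
    have h01 : σ 0 ≠ σ 1 := fun h => absurd (σ.injective h) (by decide)
    have h12 : σ 1 ≠ σ 2 := fun h => absurd (σ.injective h) (by decide)
    have h02 : σ 0 ≠ σ 2 := fun h => absurd (σ.injective h) (by decide)
    exact ⟨σ 0, σ 1, σ 2, m, w, h01, h12, h02, (hi _).1, (hi _).1, (hi _).1,
      Or.inr (Or.inr (Or.inr (Or.inr (Or.inl ⟨hm0, hm1, hm2, ha00, ha01, ha02, ha11, ha12, ha22, hw0, hw1, hw2⟩))))⟩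
  · obtain ⟨σ, hm, hw, ha⟩ := h.exists_perm
    have hw0 : T.w (σ 0) = 2 * w := by simpa [lv] using hw 0
    have hw1 : T.w (σ 1) = w := by simpa [lv] using hw 1
    have hw2 : T.w (σ 2) = 2 * w := by simpa [lv] using hw 2
    have hm0 : T.m (σ 0) = m := by simpa [lv] using hm 0
    have hm1 : T.m (σ 1) = 2 * m := by simpa [lv] using hm 1
    have hm2 : T.m (σ 2) = m := by simpa [lv] using hm 2
    have ha00 : T.a (σ 0) (σ 0) = -4 * w := by linarith [(hi (σ 0)).2, hw0]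
    have ha01 : T.a (σ 0) (σ 1) = 2 * w := by simpa [lv] using ha 0 1 (by decide)
    have ha02 : T.a (σ 0) (σ 2) = 0 := by simpa [lv] using ha 0 2 (by decide)
    have ha11 : T.a (σ 1) (σ 1) = -2 * w := by linarith [(hi (σ 1)).2, hw1]
    have ha12 : T.a (σ 1) (σ 2) = 2 * w := by simpa [lv] using ha 1 2 (by decide)
    have ha22 : T.a (σ 2) (σ 2) = -4 * w := by linarith [(hi (σ 2)).2, hw2]
    have h01 : σ 0 ≠ σ 1 := fun h => absurd (σ.injective h) (by decide)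
    have h12 : σ 1 ≠ σ 2 := fun h => absurd (σ.injective h) (by decide)
    have h02 : σ 0 ≠ σ 2 := fun h => absurd (σ.injective h) (by decide)
    exact ⟨σ 0, σ 1, σ 2, m, w, h01, h12, h02, (hi _).1, (hi _).1, (hi _).1,
      Or.inr (Or.inr (Or.inr (Or.inr (Or.inr (⟨hm0, hm1, hm2, ha00, ha01, ha02, ha11, ha12, ha22, hw0, hw1, hw2⟩)))))⟩
  · exact absurd hn (by decide)
  · exact absurd hn (by decide)
  · exact absurd hn (by decide)
  · exact absurd hn (by decide)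
  · exact absurd hn (by decide)
  · exact absurd hn (by decide)
  · exact absurd hn (by decide)
  · exact absurd hn (by decide)
  · obtain ⟨σ, hm, hw, ha⟩ := h.exists_perm
    have hw0 : T.w (σ 0) = w := by simpa [lv] using hw 0
    have hw1 : T.w (σ 1) = w := by simpa [lv] using hw 1
    have hw2 : T.w (σ 2) = 3 * w := by simpa [lv] using hw 2
    have hm0 : T.m (σ 0) = m := by simpa [lv] using hm 0
    have hm1 : T.m (σ 1) = 2 * m := by simpa [lv] using hm 1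
    have hm2 : T.m (σ 2) = m := by simpa [lv] using hm 2
    have ha00 : T.a (σ 0) (σ 0) = -2 * w := by linarith [(hi (σ 0)).2, hw0]
    have ha01 : T.a (σ 0) (σ 1) = w := by simpa [lv] using ha 0 1 (by decide)
    have ha02 : T.a (σ 0) (σ 2) = 0 := by simpa [lv] using ha 0 2 (by decide)
    have ha11 : T.a (σ 1) (σ 1) = -2 * w := by linarith [(hi (σ 1)).2, hw1]
    have ha12 : T.a (σ 1) (σ 2) = 3 * w := by simpa [lv] using ha 1 2 (by decide)
    have ha22 : T.a (σ 2) (σ 2) = -6 * w := by linarith [(hi (σ 2)).2, hw2]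
    have h01 : σ 0 ≠ σ 1 := fun h => absurd (σ.injective h) (by decide)
    have h12 : σ 1 ≠ σ 2 := fun h => absurd (σ.injective h) (by decide)
    have h02 : σ 0 ≠ σ 2 := fun h => absurd (σ.injective h) (by decide)
    exact ⟨σ 0, σ 1, σ 2, m, w, h01, h12, h02, (hi _).1, (hi _).1, (hi _).1,
      Or.inr (Or.inl ⟨hm0, hm1, hm2, ha00, ha01, ha02, ha11, ha12, ha22, hw0, hw1, hw2⟩)⟩
  · obtain ⟨σ, hm, hw, ha⟩ := h.exists_perm
    have hw0 : T.w (σ 0) = 3 * w := by simpa [lv] using hw 0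
    have hw1 : T.w (σ 1) = 3 * w := by simpa [lv] using hw 1
    have hw2 : T.w (σ 2) = w := by simpa [lv] using hw 2
    have hm0 : T.m (σ 0) = m := by simpa [lv] using hm 0
    have hm1 : T.m (σ 1) = 2 * m := by simpa [lv] using hm 1
    have hm2 : T.m (σ 2) = 3 * m := by simpa [lv] using hm 2
    have ha00 : T.a (σ 0) (σ 0) = -6 * w := by linarith [(hi (σ 0)).2, hw0]
    have ha01 : T.a (σ 0) (σ 1) = 3 * w := by simpa [lv] using ha 0 1 (by decide)
    have ha02 : T.a (σ 0) (σ 2) = 0 := by simpa [lv] using ha 0 2 (by decide)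
    have ha11 : T.a (σ 1) (σ 1) = -6 * w := by linarith [(hi (σ 1)).2, hw1]
    have ha12 : T.a (σ 1) (σ 2) = 3 * w := by simpa [lv] using ha 1 2 (by decide)
    have ha22 : T.a (σ 2) (σ 2) = -2 * w := by linarith [(hi (σ 2)).2, hw2]
    have h01 : σ 0 ≠ σ 1 := fun h => absurd (σ.injective h) (by decide)
    have h12 : σ 1 ≠ σ 2 := fun h => absurd (σ.injective h) (by decide)
    have h02 : σ 0 ≠ σ 2 := fun h => absurd (σ.injective h) (by decide)
    exact ⟨σ 0, σ 1, σ 2, m, w, h01, h12, h02, (hi _).1, (hi _).1, (hi _).1,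
      Or.inr (Or.inr (Or.inl ⟨hm0, hm1, hm2, ha00, ha01, ha02, ha11, ha12, ha22, hw0, hw1, hw2⟩))⟩

end Groth.Agent.S7363
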