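import Groth.Statements.S7368
import Groth.Agent.Models.K379.AffFin

set_option autoImplicit false
open Finset
open Models Models.NumericalType

namespace Groth.Agent.S7368

open K379.Affine Groth.Agent.Models.NumBasic

set_option maxHeartbeats 4000000 in
/-- Genus one classification: case n = 7: let T be a minimal numerical type of genus 1 on 7 indices.
Then all g_i = 0 and, for some permutation σ of the indices and some integers m, w, the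
multiplicities, weights and intersection matrix (m_{σ(i)}, w_{σ(i)}, a_{σ(i)σ(j)}) are those of one
of the following 8 types: [cycle] m = (m, m, m, m, m, m, m), w = (w, w, w, w, w, w, w), a = (-2 * w
w 0 0 0 0 w / w -2 * w w 0 0 0 0 / 0 w -2 * w w 0 0 0 / 0 0 w -2 * w w 0 0 / 0 0 0 w -2 * w w 0 / 0
0 0 0 w -2 * w w / w 0 0 0 0 w -2 * w); [up chain equal up] m = (2 * m, 2 * m, 2 * m, 2 * m, 2 * m,
2 * m, m), w = (w, 2 * w, 2 * w, 2 * w, 2 * w, 2 * w, 4 * w), a = (-2 * w 2 * w 0 0 0 0 0 / 2 * w -4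
* w 2 * w 0 0 0 0 / 0 2 * w -4 * w 2 * w 0 0 0 / 0 0 2 * w -4 * w 2 * w 0 0 / 0 0 0 2 * w -4 * w 2 *
w 0 / 0 0 0 0 2 * w -4 * w 4 * w / 0 0 0 0 0 4 * w -8 * w); [up chain equal down] m = (m, m, m, m,
m, m, m), w = (w, 2 * w, 2 * w, 2 * w, 2 * w, 2 * w, w), a = (-2 * w 2 * w 0 0 0 0 0 / 2 * w -4 * w
2 * w 0 0 0 0 / 0 2 * w -4 * w 2 * w 0 0 0 / 0 0 2 * w -4 * w 2 * w 0 0 / 0 0 0 2 * w -4 * w 2 * w 0
/ 0 0 0 0 2 * w -4 * w 2 * w / 0 0 0 0 0 2 * w -2 * w); [down chain equal up] m = (m, 2 * m, 2 * m,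
2 * m, 2 * m, 2 * m, m), w = (2 * w, w, w, w, w, w, 2 * w), a = (-4 * w 2 * w 0 0 0 0 0 / 2 * w -2 *
w w 0 0 0 0 / 0 w -2 * w w 0 0 0 / 0 0 w -2 * w w 0 0 / 0 0 0 w -2 * w w 0 / 0 0 0 0 w -2 * w 2 * w
/ 0 0 0 0 0 2 * w -4 * w); [D extended up] m = (m, 2 * m, 2 * m, 2 * m, 2 * m, m, m), w = (2 * w, w,
w, w, w, w, w), a = (-4 * w 2 * w 0 0 0 0 0 / 2 * w -2 * w w 0 0 0 0 / 0 w -2 * w w 0 0 0 / 0 0 w -2
* w w 0 0 / 0 0 0 w -2 * w w w / 0 0 0 0 w -2 * w 0 / 0 0 0 0 w 0 -2 * w); [D extended down] m = (2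
* m, 2 * m, 2 * m, 2 * m, 2 * m, m, m), w = (w, 2 * w, 2 * w, 2 * w, 2 * w, 2 * w, 2 * w), a = (-2 *
w 2 * w 0 0 0 0 0 / 2 * w -4 * w 2 * w 0 0 0 0 / 0 2 * w -4 * w 2 * w 0 0 0 / 0 0 2 * w -4 * w 2 * w
0 0 / 0 0 0 2 * w -4 * w 2 * w 2 * w / 0 0 0 0 2 * w -4 * w 0 / 0 0 0 0 2 * w 0 -4 * w); [double
triple] m = (m, m, 2 * m, 2 * m, 2 * m, m, m), w = (w, w, w, w, w, w, w), a = (-2 * w 0 w 0 0 0 0 /
0 -2 * w w 0 0 0 0 / w w -2 * w w 0 0 0 / 0 0 w -2 * w w 0 0 / 0 0 0 w -2 * w w w / 0 0 0 0 w -2 * w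
0 / 0 0 0 0 w 0 -2 * w); [E6 completed] m = (m, 2 * m, 3 * m, m, 2 * m, m, 2 * m), w = (w, w, w, w,
w, w, w), a = (-2 * w w 0 0 0 0 0 / w -2 * w w 0 0 0 0 / 0 w -2 * w 0 w 0 w / 0 0 0 -2 * w w 0 0 / 0
0 w w -2 * w 0 0 / 0 0 0 0 0 -2 * w w / 0 0 w 0 0 w -2 * w). Only the classification direction is
stated. (In the family with weights (w, 2w, …, 2w, w) the consecutive intersection numbers are 2w,
as divisibility by the weights forces; the published list prints w there, and omits m_{n-2} = 2m in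
the two D-type families.) -/
theorem result (T : Models.NumericalType 7) (hmin : T.IsMinimal) (hg : T.genus = 1) :
    (∀ i, T.g i = 0) ∧ ∃ (σ : Equiv.Perm (Fin 7)) (m w : ℤ),
      ((T.m (σ 0) = m ∧ T.m (σ 1) = m ∧ T.m (σ 2) = m ∧ T.m (σ 3) = m ∧ T.m (σ 4) = m ∧ T.m (σ 5) = m ∧ T.m (σ 6) = m ∧ T.w (σ 0) = w ∧ T.w (σ 1) = w ∧ T.w (σ 2) = w ∧ T.w (σ 3) = w ∧ T.w (σ 4) = w ∧ T.w (σ 5) = w ∧ T.w (σ 6) = w ∧ T.a (σ 0) (σ 0) = -2 * w ∧ T.a (σ 0) (σ 1) = w ∧ T.a (σ 0) (σ 2) = 0 ∧ T.a (σ 0) (σ 3) = 0 ∧ T.a (σ 0) (σ 4) = 0 ∧ T.a (σ 0) (σ 5) = 0 ∧ T.a (σ 0) (σ 6) = w ∧ T.a (σ 1) (σ 1) = -2 * w ∧ T.a (σ 1) (σ 2) = w ∧ T.a (σ 1) (σ 3) = 0 ∧ T.a (σ 1) (σ 4) = 0 ∧ T.a (σ 1) (σ 5) = 0 ∧ T.a (σ 1) (σ 6) = 0 ∧ T.a (σ 2) (σ 2) = -2 * w ∧ T.a (σ 2) (σ 3) = w ∧ T.a (σ 2) (σ 4) = 0 ∧ T.a (σ 2) (σ 5) = 0 ∧ T.a (σ 2) (σ 6) = 0 ∧ T.a (σ 3) (σ 3)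 = -2 * w ∧ T.a (σ 3) (σ 4) = w ∧ T.a (σ 3) (σ 5) = 0 ∧ T.a (σ 3) (σ 6) = 0 ∧ T.a (σ 4) (σ 4) = -2 * w ∧ T.a (σ 4) (σ 5) = w ∧ T.a (σ 4) (σ 6) = 0 ∧ T.a (σ 5) (σ 5) = -2 * w ∧ T.a (σ 5) (σ 6) = w ∧ T.a (σ 6) (σ 6) = -2 * w) ∨
      (T.m (σ 0) = 2 * m ∧ T.m (σ 1) = 2 * m ∧ T.m (σ 2) = 2 * m ∧ T.m (σ 3) = 2 * m ∧ T.m (σ 4) = 2 * m ∧ T.m (σ 5) = 2 * m ∧ T.m (σ 6) = m ∧ T.w (σ 0) = w ∧ T.w (σ 1) = 2 * w ∧ T.w (σ 2) = 2 * w ∧ T.w (σ 3) = 2 * w ∧ T.w (σ 4) = 2 * w ∧ T.w (σ 5) = 2 * w ∧ T.w (σ 6) = 4 * w ∧ T.a (σ 0) (σ 0) = -2 * w ∧ T.a (σ 0) (σ 1) = 2 * w ∧ T.a (σ 0) (σ 2) = 0 ∧ T.a (σ 0) (σ 3) = 0 ∧ T.a (σ 0) (σ 4) = 0 ∧ T.a (σ 0) (σ 5) = 0 ∧ T.a (σ 0) (σ 6) = 0 ∧ T.a (σ 1) (σ 1) = -4 * w ∧ T.a (σ 1) (σ 2) = 2 * w ∧ T.a (σ 1) (σ 3) = 0 ∧ T.a (σ 1) (σ 4) = 0 ∧ T.a (σ 1) (σ 5) = 0 ∧ T.a (σ 1) (σ 6) = 0 ∧ T.a (σ 2) (σ 2) = -4 * w ∧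 T.a (σ 2) (σ 3) = 2 * w ∧ T.a (σ 2) (σ 4) = 0 ∧ T.a (σ 2) (σ 5) = 0 ∧ T.a (σ 2) (σ 6) = 0 ∧ T.a (σ 3) (σ 3) = -4 * w ∧ T.a (σ 3) (σ 4) = 2 * w ∧ T.a (σ 3) (σ 5) = 0 ∧ T.a (σ 3) (σ 6) = 0 ∧ T.a (σ 4) (σ 4) = -4 * w ∧ T.a (σ 4) (σ 5) = 2 * w ∧ T.a (σ 4) (σ 6) = 0 ∧ T.a (σ 5) (σ 5) = -4 * w ∧ T.a (σ 5) (σ 6) = 4 * w ∧ T.a (σ 6) (σ 6) = -8 * w) ∨
      (T.m (σ 0) = m ∧ T.m (σ 1) = m ∧ T.m (σ 2) = m ∧ T.m (σ 3) = m ∧ T.m (σ 4) = m ∧ T.m (σ 5) = m ∧ T.m (σ 6) = m ∧ T.w (σ 0) = w ∧ T.w (σ 1) = 2 * w ∧ T.w (σ 2) = 2 * w ∧ T.w (σ 3) = 2 * w ∧ T.w (σ 4) = 2 * w ∧ T.w (σ 5) = 2 * w ∧ T.w (σ 6) = w ∧ T.a (σ 0) (σ 0) = -2 * w ∧ T.a (σ 0) (σ 1) = 2 * w ∧ T.a (σ 0) (σ 2) = 0 ∧ T.a (σ 0) (σ 3) = 0 ∧ T.a (σ 0) (σ 4) = 0 ∧ T.a (σ 0) (σ 5) = 0 ∧ T.a (σ 0) (σ 6) = 0 ∧ T.a (σ 1) (σ 1) = -4 * w ∧ T.a (σ 1) (σ 2) = 2 * w ∧ T.a (σ 1) (σ 3) = 0 ∧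 T.a (σ 1) (σ 4) = 0 ∧ T.a (σ 1) (σ 5) = 0 ∧ T.a (σ 1) (σ 6) = 0 ∧ T.a (σ 2) (σ 2) = -4 * w ∧ T.a (σ 2) (σ 3) = 2 * w ∧ T.a (σ 2) (σ 4) = 0 ∧ T.a (σ 2) (σ 5) = 0 ∧ T.a (σ 2) (σ 6) = 0 ∧ T.a (σ 3) (σ 3) = -4 * w ∧ T.a (σ 3) (σ 4) = 2 * w ∧ T.a (σ 3) (σ 5) = 0 ∧ T.a (σ 3) (σ 6) = 0 ∧ T.a (σ 4) (σ 4) = -4 * w ∧ T.a (σ 4) (σ 5) = 2 * w ∧ T.a (σ 4) (σ 6) = 0 ∧ T.a (σ 5) (σ 5) = -4 * w ∧ T.a (σ 5) (σ 6) = 2 * w ∧ T.a (σ 6) (σ 6) = -2 * w) ∨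
      (T.m (σ 0) = m ∧ T.m (σ 1) = 2 * m ∧ T.m (σ 2) = 2 * m ∧ T.m (σ 3) = 2 * m ∧ T.m (σ 4) = 2 * m ∧ T.m (σ 5) = 2 * m ∧ T.m (σ 6) = m ∧ T.w (σ 0) = 2 * w ∧ T.w (σ 1) = w ∧ T.w (σ 2) = w ∧ T.w (σ 3) = w ∧ T.w (σ 4) = w ∧ T.w (σ 5) = w ∧ T.w (σ 6) = 2 * w ∧ T.a (σ 0) (σ 0) = -4 * w ∧ T.a (σ 0) (σ 1) = 2 * w ∧ T.a (σ 0) (σ 2) = 0 ∧ T.a (σ 0) (σ 3) = 0 ∧ T.a (σ 0) (σ 4) = 0 ∧ T.a (σ 0) (σ 5) = 0 ∧ T.a (σ 0) (σ 6) = 0 ∧ T.a (σ 1) (σ 1) = -2 * w ∧ T.a (σ 1) (σ 2) = w ∧ T.a (σ 1) (σ 3) = 0 ∧ T.a (σ 1) (σ 4) = 0 ∧ T.a (σ 1) (σ 5) = 0 ∧ T.a (σ 1) (σ 6) = 0 ∧ T.a (σ 2) (σ 2) = -2 * w ∧ T.a (σ 2) (σ 3) = w ∧ T.a (σ 2) (σ 4) = 0 ∧ T.a (σ 2) (σ 5) = 0 ∧ T.a (σ 2) (σ 6) = 0 ∧ T.a (σ 3) (σ 3) = -2 * w ∧ T.a (σ 3) (σ 4) = w ∧ T.a (σ 3) (σ 5) = 0 ∧ T.a (σ 3) (σ 6) = 0 ∧ T.a (σ 4) (σ 4) = -2 * w ∧ T.a (σ 4) (σ 5) = w ∧ T.a (σ 4) (σ 6) =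 0 ∧ T.a (σ 5) (σ 5) = -2 * w ∧ T.a (σ 5) (σ 6) = 2 * w ∧ T.a (σ 6) (σ 6) = -4 * w) ∨
      (T.m (σ 0) = m ∧ T.m (σ 1) = 2 * m ∧ T.m (σ 2) = 2 * m ∧ T.m (σ 3) = 2 * m ∧ T.m (σ 4) = 2 * m ∧ T.m (σ 5) = m ∧ T.m (σ 6) = m ∧ T.w (σ 0) = 2 * w ∧ T.w (σ 1) = w ∧ T.w (σ 2) = w ∧ T.w (σ 3) = w ∧ T.w (σ 4) = w ∧ T.w (σ 5) = w ∧ T.w (σ 6) = w ∧ T.a (σ 0) (σ 0) = -4 * w ∧ T.a (σ 0) (σ 1) = 2 * w ∧ T.a (σ 0) (σ 2) = 0 ∧ T.a (σ 0) (σ 3) = 0 ∧ T.a (σ 0) (σ 4) = 0 ∧ T.a (σ 0) (σ 5) = 0 ∧ T.a (σ 0) (σ 6) = 0 ∧ T.a (σ 1) (σ 1) = -2 * w ∧ T.a (σ 1) (σ 2) = w ∧ T.a (σ 1) (σ 3) = 0 ∧ T.a (σ 1) (σ 4) = 0 ∧ T.a (σ 1) (σ 5) = 0 ∧ T.a (σ 1) (σ 6) = 0 ∧ T.a (σ 2) (σ 2) = -2 * w ∧ T.a (σ 2) (σ 3) = w ∧ T.a (σ 2) (σ 4) = 0 ∧ T.a (σ 2) (σ 5) = 0 ∧ T.a (σ 2) (σ 6) = 0 ∧ T.a (σ 3) (σ 3) = -2 * w ∧ T.a (σ 3) (σ 4) = w ∧ T.a (σ 3) (σ 5) = 0 ∧ T.a (σ 3) (σ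 6) = 0 ∧ T.a (σ 4) (σ 4) = -2 * w ∧ T.a (σ 4) (σ 5) = w ∧ T.a (σ 4) (σ 6) = w ∧ T.a (σ 5) (σ 5) = -2 * w ∧ T.a (σ 5) (σ 6) = 0 ∧ T.a (σ 6) (σ 6) = -2 * w) ∨
      (T.m (σ 0) = 2 * m ∧ T.m (σ 1) = 2 * m ∧ T.m (σ 2) = 2 * m ∧ T.m (σ 3) = 2 * m ∧ T.m (σ 4) = 2 * m ∧ T.m (σ 5) = m ∧ T.m (σ 6) = m ∧ T.w (σ 0) = w ∧ T.w (σ 1) = 2 * w ∧ T.w (σ 2) = 2 * w ∧ T.w (σ 3) = 2 * w ∧ T.w (σ 4) = 2 * w ∧ T.w (σ 5) = 2 * w ∧ T.w (σ 6) = 2 * w ∧ T.a (σ 0) (σ 0) = -2 * w ∧ T.a (σ 0) (σ 1) = 2 * w ∧ T.a (σ 0) (σ 2) = 0 ∧ T.a (σ 0) (σ 3) = 0 ∧ T.a (σ 0) (σ 4) = 0 ∧ T.a (σ 0) (σ 5) = 0 ∧ T.a (σ 0) (σ 6) = 0 ∧ T.a (σ 1) (σ 1) = -4 * w ∧ T.a (σ 1) (σ 2) = 2 * w ∧ T.a (σ 1) (σ 3) = 0 ∧ T.a (σ 1) (σ 4) = 0 ∧ T.a (σ 1) (σ 5) = 0 ∧ T.a (σ 1) (σ 6) = 0 ∧ T.a (σ 2) (σ 2) = -4 * w ∧ T.a (σ 2) (σ 3) = 2 * w ∧ T.a (σ 2) (σ 4) = 0 ∧ T.a (σ 2) (σ 5) = 0 ∧ T.a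 (σ 2) (σ 6) = 0 ∧ T.a (σ 3) (σ 3) = -4 * w ∧ T.a (σ 3) (σ 4) = 2 * w ∧ T.a (σ 3) (σ 5) = 0 ∧ T.a (σ 3) (σ 6) = 0 ∧ T.a (σ 4) (σ 4) = -4 * w ∧ T.a (σ 4) (σ 5) = 2 * w ∧ T.a (σ 4) (σ 6) = 2 * w ∧ T.a (σ 5) (σ 5) = -4 * w ∧ T.a (σ 5) (σ 6) = 0 ∧ T.a (σ 6) (σ 6) = -4 * w) ∨
      (T.m (σ 0) = m ∧ T.m (σ 1) = m ∧ T.m (σ 2) = 2 * m ∧ T.m (σ 3) = 2 * m ∧ T.m (σ 4) = 2 * m ∧ T.m (σ 5) = m ∧ T.m (σ 6) = m ∧ T.w (σ 0) = w ∧ T.w (σ 1) = w ∧ T.w (σ 2) = w ∧ T.w (σ 3) = w ∧ T.w (σ 4) = w ∧ T.w (σ 5) = w ∧ T.w (σ 6) = w ∧ T.a (σ 0) (σ 0) = -2 * w ∧ T.a (σ 0) (σ 1) = 0 ∧ T.a (σ 0) (σ 2) = w ∧ T.a (σ 0) (σ 3) = 0 ∧ T.a (σ 0) (σ 4) = 0 ∧ T.a (σ 0) (σ 5) = 0 ∧ T.a (σ 0) (σ 6) = 0 ∧ T.a (σ 1) (σ 1) = -2 * w ∧ T.a (σ 1) (σ 2) = w ∧ T.a (σ 1) (σ 3) = 0 ∧ T.a (σ 1) (σ 4) = 0 ∧ T.a (σ 1) (σ 5) = 0 ∧ T.a (σ 1) (σ 6) = 0 ∧ T.a (σ 2) (σ 2) = -2 * w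 ∧ T.a (σ 2) (σ 3) = w ∧ T.a (σ 2) (σ 4) = 0 ∧ T.a (σ 2) (σ 5) = 0 ∧ T.a (σ 2) (σ 6) = 0 ∧ T.a (σ 3) (σ 3) = -2 * w ∧ T.a (σ 3) (σ 4) = w ∧ T.a (σ 3) (σ 5) = 0 ∧ T.a (σ 3) (σ 6) = 0 ∧ T.a (σ 4) (σ 4) = -2 * w ∧ T.a (σ 4) (σ 5) = w ∧ T.a (σ 4) (σ 6) = w ∧ T.a (σ 5) (σ 5) = -2 * w ∧ T.a (σ 5) (σ 6) = 0 ∧ T.a (σ 6) (σ 6) = -2 * w) ∨
      (T.m (σ 0) = m ∧ T.m (σ 1) = 2 * m ∧ T.m (σ 2) = 3 * m ∧ T.m (σ 3) = m ∧ T.m (σ 4) = 2 * m ∧ T.m (σ 5) = m ∧ T.m (σ 6) = 2 * m ∧ T.w (σ 0) = w ∧ T.w (σ 1) = w ∧ T.w (σ 2) = w ∧ T.w (σ 3) = w ∧ T.w (σ 4) = w ∧ T.w (σ 5) = w ∧ T.w (σ 6) = w ∧ T.a (σ 0) (σ 0) = -2 * w ∧ T.a (σ 0) (σ 1) = w ∧ T.a (σ 0) (σ 2) = 0 ∧ T.a (σ 0) (σ 3) = 0 ∧ T.a (σ 0) (σ 4) = 0 ∧ T.a (σ 0) (σ 5) = 0 ∧ T.a (σ 0) (σ 6) = 0 ∧ T.a (σ 1) (σ 1) = -2 * w ∧ T.a (σ 1) (σ 2) = w ∧ T.a (σ 1) (σ 3) = 0 ∧ T.a (σ 1) (σ 4) = 0 ∧ T.a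 (σ 1) (σ 5) = 0 ∧ T.a (σ 1) (σ 6) = 0 ∧ T.a (σ 2) (σ 2) = -2 * w ∧ T.a (σ 2) (σ 3) = 0 ∧ T.a (σ 2) (σ 4) = w ∧ T.a (σ 2) (σ 5) = 0 ∧ T.a (σ 2) (σ 6) = w ∧ T.a (σ 3) (σ 3) = -2 * w ∧ T.a (σ 3) (σ 4) = w ∧ T.a (σ 3) (σ 5) = 0 ∧ T.a (σ 3) (σ 6) = 0 ∧ T.a (σ 4) (σ 4) = -2 * w ∧ T.a (σ 4) (σ 5) = 0 ∧ T.a (σ 4) (σ 6) = 0 ∧ T.a (σ 5) (σ 5) = -2 * w ∧ T.a (σ 5) (σ 6) = w ∧ T.a (σ 6) (σ 6) = -2 * w)) := by
  have hi := fun i => isMinusTwo_of_genus_one (by decide) hmin hg i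
  obtain ⟨u, m, w, h⟩ := main (T := T) (fun i => (hi i).2) (by decide)
  rcases h with h | h | h | h | ⟨hn, h⟩ | ⟨hn, h⟩ | ⟨hn, h⟩ | ⟨hn, h⟩ | ⟨hn, h⟩ | ⟨hn, h⟩ | ⟨hn, h⟩ | ⟨hn, h⟩ | ⟨hn, h⟩ | ⟨hn, h⟩
  · obtain ⟨σ, hm, hw, ha⟩ := h.exists_perm
    have hw0 : T.w (σ 0) = w := by simpa [lv] using hw 0
    have hw1 : T.w (σ 1) = w := by simpa [lv] using hw 1
    have hw2 : T.w (σ 2) = w := by simpa [lv] using hw 2
    have hw3 : T.w (σ 3) = w := by simpa [lv] using hw 3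
    have hw4 : T.w (σ 4) = w := by simpa [lv] using hw 4
    have hw5 : T.w (σ 5) = w := by simpa [lv] using hw 5
    have hw6 : T.w (σ 6) = w := by simpa [lv] using hw 6
    have hm0 : T.m (σ 0) = m := by simpa [lv] using hm 0
    have hm1 : T.m (σ 1) = m := by simpa [lv] using hm 1
    have hm2 : T.m (σ 2) = m := by simpa [lv] using hm 2
    have hm3 : T.m (σ 3) = m := by simpa [lv] using hm 3
    have hm4 : T.m (σ 4) = m := by simpa [lv] using hm 4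
    have hm5 : T.m (σ 5) = m := by simpa [lv] using hm 5
    have hm6 : T.m (σ 6) = m := by simpa [lv] using hm 6
    have ha0_0 : T.a (σ 0) (σ 0) = -2 * w := by linarith [(hi (σ 0)).2, hw0]
    have ha0_1 : T.a (σ 0) (σ 1) = w := by simpa [lv] using ha 0 1 (by decide)
    have ha0_2 : T.a (σ 0) (σ 2) = 0 := by simpa [lv] using ha 0 2 (by decide)
    have ha0_3 : T.a (σ 0) (σ 3) = 0 := by simpa [lv] using ha 0 3 (by decide)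
    have ha0_4 : T.a (σ 0) (σ 4) = 0 := by simpa [lv] using ha 0 4 (by decide)
    have ha0_5 : T.a (σ 0) (σ 5) = 0 := by simpa [lv] using ha 0 5 (by decide)
    have ha0_6 : T.a (σ 0) (σ 6) = w := by simpa [lv] using ha 0 6 (by decide)
    have ha1_1 : T.a (σ 1) (σ 1) = -2 * w := by linarith [(hi (σ 1)).2, hw1]
    have ha1_2 : T.a (σ 1) (σ 2) = w := by simpa [lv] using ha 1 2 (by decide)
    have ha1_3 : T.a (σ 1) (σ 3) = 0 := by simpa [lv] using ha 1 3 (by decide)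
    have ha1_4 : T.a (σ 1) (σ 4) = 0 := by simpa [lv] using ha 1 4 (by decide)
    have ha1_5 : T.a (σ 1) (σ 5) = 0 := by simpa [lv] using ha 1 5 (by decide)
    have ha1_6 : T.a (σ 1) (σ 6) = 0 := by simpa [lv] using ha 1 6 (by decide)
    have ha2_2 : T.a (σ 2) (σ 2) = -2 * w := by linarith [(hi (σ 2)).2, hw2]
    have ha2_3 : T.a (σ 2) (σ 3) = w := by simpa [lv] using ha 2 3 (by decide)
    have ha2_4 : T.a (σ 2) (σ 4) = 0 := by simpa [lv] using ha 2 4 (by decide)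
    have ha2_5 : T.a (σ 2) (σ 5) = 0 := by simpa [lv] using ha 2 5 (by decide)
    have ha2_6 : T.a (σ 2) (σ 6) = 0 := by simpa [lv] using ha 2 6 (by decide)
    have ha3_3 : T.a (σ 3) (σ 3) = -2 * w := by linarith [(hi (σ 3)).2, hw3]
    have ha3_4 : T.a (σ 3) (σ 4) = w := by simpa [lv] using ha 3 4 (by decide)
    have ha3_5 : T.a (σ 3) (σ 5) = 0 := by simpa [lv] using ha 3 5 (by decide)
    have ha3_6 : T.a (σ 3) (σ 6) = 0 := by simpa [lv] using ha 3 6 (by decide)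
    have ha4_4 : T.a (σ 4) (σ 4) = -2 * w := by linarith [(hi (σ 4)).2, hw4]
    have ha4_5 : T.a (σ 4) (σ 5) = w := by simpa [lv] using ha 4 5 (by decide)
    have ha4_6 : T.a (σ 4) (σ 6) = 0 := by simpa [lv] using ha 4 6 (by decide)
    have ha5_5 : T.a (σ 5) (σ 5) = -2 * w := by linarith [(hi (σ 5)).2, hw5]
    have ha5_6 : T.a (σ 5) (σ 6) = w := by simpa [lv] using ha 5 6 (by decide)
    have ha6_6 : T.a (σ 6) (σ 6) = -2 * w := by linarith [(hi (σ 6)).2, hw6]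
    exact ⟨fun i => (hi i).1, σ, m, w, Or.inl ⟨hm0, hm1, hm2, hm3, hm4, hm5, hm6, hw0, hw1, hw2, hw3, hw4, hw5, hw6, ha0_0, ha0_1, ha0_2, ha0_3, ha0_4, ha0_5, ha0_6, ha1_1, ha1_2, ha1_3, ha1_4, ha1_5, ha1_6, ha2_2, ha2_3, ha2_4, ha2_5, ha2_6, ha3_3, ha3_4, ha3_5, ha3_6, ha4_4, ha4_5, ha4_6, ha5_5, ha5_6, ha6_6⟩⟩
  · obtain ⟨σ, hm, hw, ha⟩ := h.exists_perm
    have hw0 : T.w (σ 0) = w := by simpa [lv] using hw 0
    have hw1 : T.w (σ 1) = 2 * w := by simpa [lv] using hw 1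
    have hw2 : T.w (σ 2) = 2 * w := by simpa [lv] using hw 2
    have hw3 : T.w (σ 3) = 2 * w := by simpa [lv] using hw 3
    have hw4 : T.w (σ 4) = 2 * w := by simpa [lv] using hw 4
    have hw5 : T.w (σ 5) = 2 * w := by simpa [lv] using hw 5
    have hw6 : T.w (σ 6) = 4 * w := by simpa [lv] using hw 6
    have hm0 : T.m (σ 0) = 2 * m := by simpa [lv] using hm 0
    have hm1 : T.m (σ 1) = 2 * m := by simpa [lv] using hm 1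
    have hm2 : T.m (σ 2) = 2 * m := by simpa [lv] using hm 2
    have hm3 : T.m (σ 3) = 2 * m := by simpa [lv] using hm 3
    have hm4 : T.m (σ 4) = 2 * m := by simpa [lv] using hm 4
    have hm5 : T.m (σ 5) = 2 * m := by simpa [lv] using hm 5
    have hm6 : T.m (σ 6) = m := by simpa [lv] using hm 6
    have ha0_0 : T.a (σ 0) (σ 0) = -2 * w := by linarith [(hi (σ 0)).2, hw0]
    have ha0_1 : T.a (σ 0) (σ 1) = 2 * w := by simpa [lv] using ha 0 1 (by decide)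
    have ha0_2 : T.a (σ 0) (σ 2) = 0 := by simpa [lv] using ha 0 2 (by decide)
    have ha0_3 : T.a (σ 0) (σ 3) = 0 := by simpa [lv] using ha 0 3 (by decide)
    have ha0_4 : T.a (σ 0) (σ 4) = 0 := by simpa [lv] using ha 0 4 (by decide)
    have ha0_5 : T.a (σ 0) (σ 5) = 0 := by simpa [lv] using ha 0 5 (by decide)
    have ha0_6 : T.a (σ 0) (σ 6) = 0 := by simpa [lv] using ha 0 6 (by decide)
    have ha1_1 : T.a (σ 1) (σ 1) = -4 * w := by linarith [(hi (σ 1)).2, hw1]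
    have ha1_2 : T.a (σ 1) (σ 2) = 2 * w := by simpa [lv] using ha 1 2 (by decide)
    have ha1_3 : T.a (σ 1) (σ 3) = 0 := by simpa [lv] using ha 1 3 (by decide)
    have ha1_4 : T.a (σ 1) (σ 4) = 0 := by simpa [lv] using ha 1 4 (by decide)
    have ha1_5 : T.a (σ 1) (σ 5) = 0 := by simpa [lv] using ha 1 5 (by decide)
    have ha1_6 : T.a (σ 1) (σ 6) = 0 := by simpa [lv] using ha 1 6 (by decide)
    have ha2_2 : T.a (σ 2) (σ 2) = -4 * w := by linarith [(hi (σ 2)).2, hw2]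
    have ha2_3 : T.a (σ 2) (σ 3) = 2 * w := by simpa [lv] using ha 2 3 (by decide)
    have ha2_4 : T.a (σ 2) (σ 4) = 0 := by simpa [lv] using ha 2 4 (by decide)
    have ha2_5 : T.a (σ 2) (σ 5) = 0 := by simpa [lv] using ha 2 5 (by decide)
    have ha2_6 : T.a (σ 2) (σ 6) = 0 := by simpa [lv] using ha 2 6 (by decide)
    have ha3_3 : T.a (σ 3) (σ 3) = -4 * w := by linarith [(hi (σ 3)).2, hw3]
    have ha3_4 : T.a (σ 3) (σ 4) = 2 * w := by simpa [lv] using ha 3 4 (by decide)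
    have ha3_5 : T.a (σ 3) (σ 5) = 0 := by simpa [lv] using ha 3 5 (by decide)
    have ha3_6 : T.a (σ 3) (σ 6) = 0 := by simpa [lv] using ha 3 6 (by decide)
    have ha4_4 : T.a (σ 4) (σ 4) = -4 * w := by linarith [(hi (σ 4)).2, hw4]
    have ha4_5 : T.a (σ 4) (σ 5) = 2 * w := by simpa [lv] using ha 4 5 (by decide)
    have ha4_6 : T.a (σ 4) (σ 6) = 0 := by simpa [lv] using ha 4 6 (by decide)
    have ha5_5 : T.a (σ 5) (σ 5) = -4 * w := by linarith [(hi (σ 5)).2, hw5]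
    have ha5_6 : T.a (σ 5) (σ 6) = 4 * w := by simpa [lv] using ha 5 6 (by decide)
    have ha6_6 : T.a (σ 6) (σ 6) = -8 * w := by linarith [(hi (σ 6)).2, hw6]
    exact ⟨fun i => (hi i).1, σ, m, w, Or.inr (Or.inl ⟨hm0, hm1, hm2, hm3, hm4, hm5, hm6, hw0, hw1, hw2, hw3, hw4, hw5, hw6, ha0_0, ha0_1, ha0_2, ha0_3, ha0_4, ha0_5, ha0_6, ha1_1, ha1_2, ha1_3, ha1_4, ha1_5, ha1_6, ha2_2, ha2_3, ha2_4, ha2_5, ha2_6, ha3_3, ha3_4, ha3_5, ha3_6, ha4_4, ha4_5, ha4_6, ha5_5, ha5_6, ha6_6⟩)⟩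
  · obtain ⟨σ, hm, hw, ha⟩ := h.exists_perm
    have hw0 : T.w (σ 0) = w := by simpa [lv] using hw 0
    have hw1 : T.w (σ 1) = 2 * w := by simpa [lv] using hw 1
    have hw2 : T.w (σ 2) = 2 * w := by simpa [lv] using hw 2
    have hw3 : T.w (σ 3) = 2 * w := by simpa [lv] using hw 3
    have hw4 : T.w (σ 4) = 2 * w := by simpa [lv] using hw 4
    have hw5 : T.w (σ 5) = 2 * w := by simpa [lv] using hw 5
    have hw6 : T.w (σ 6) = w := by simpa [lv] using hw 6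
    have hm0 : T.m (σ 0) = m := by simpa [lv] using hm 0
    have hm1 : T.m (σ 1) = m := by simpa [lv] using hm 1
    have hm2 : T.m (σ 2) = m := by simpa [lv] using hm 2
    have hm3 : T.m (σ 3) = m := by simpa [lv] using hm 3
    have hm4 : T.m (σ 4) = m := by simpa [lv] using hm 4
    have hm5 : T.m (σ 5) = m := by simpa [lv] using hm 5
    have hm6 : T.m (σ 6) = m := by simpa [lv] using hm 6
    have ha0_0 : T.a (σ 0) (σ 0) = -2 * w := by linarith [(hi (σ 0)).2, hw0]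
    have ha0_1 : T.a (σ 0) (σ 1) = 2 * w := by simpa [lv] using ha 0 1 (by decide)
    have ha0_2 : T.a (σ 0) (σ 2) = 0 := by simpa [lv] using ha 0 2 (by decide)
    have ha0_3 : T.a (σ 0) (σ 3) = 0 := by simpa [lv] using ha 0 3 (by decide)
    have ha0_4 : T.a (σ 0) (σ 4) = 0 := by simpa [lv] using ha 0 4 (by decide)
    have ha0_5 : T.a (σ 0) (σ 5) = 0 := by simpa [lv] using ha 0 5 (by decide)
    have ha0_6 : T.a (σ 0) (σ 6) = 0 := by simpa [lv] using ha 0 6 (by decide)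
    have ha1_1 : T.a (σ 1) (σ 1) = -4 * w := by linarith [(hi (σ 1)).2, hw1]
    have ha1_2 : T.a (σ 1) (σ 2) = 2 * w := by simpa [lv] using ha 1 2 (by decide)
    have ha1_3 : T.a (σ 1) (σ 3) = 0 := by simpa [lv] using ha 1 3 (by decide)
    have ha1_4 : T.a (σ 1) (σ 4) = 0 := by simpa [lv] using ha 1 4 (by decide)
    have ha1_5 : T.a (σ 1) (σ 5) = 0 := by simpa [lv] using ha 1 5 (by decide)
    have ha1_6 : T.a (σ 1) (σ 6) = 0 := by simpa [lv] using ha 1 6 (by decide)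
    have ha2_2 : T.a (σ 2) (σ 2) = -4 * w := by linarith [(hi (σ 2)).2, hw2]
    have ha2_3 : T.a (σ 2) (σ 3) = 2 * w := by simpa [lv] using ha 2 3 (by decide)
    have ha2_4 : T.a (σ 2) (σ 4) = 0 := by simpa [lv] using ha 2 4 (by decide)
    have ha2_5 : T.a (σ 2) (σ 5) = 0 := by simpa [lv] using ha 2 5 (by decide)
    have ha2_6 : T.a (σ 2) (σ 6) = 0 := by simpa [lv] using ha 2 6 (by decide)
    have ha3_3 : T.a (σ 3) (σ 3) = -4 * w := by linarith [(hi (σ 3)).2, hw3]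
    have ha3_4 : T.a (σ 3) (σ 4) = 2 * w := by simpa [lv] using ha 3 4 (by decide)
    have ha3_5 : T.a (σ 3) (σ 5) = 0 := by simpa [lv] using ha 3 5 (by decide)
    have ha3_6 : T.a (σ 3) (σ 6) = 0 := by simpa [lv] using ha 3 6 (by decide)
    have ha4_4 : T.a (σ 4) (σ 4) = -4 * w := by linarith [(hi (σ 4)).2, hw4]
    have ha4_5 : T.a (σ 4) (σ 5) = 2 * w := by simpa [lv] using ha 4 5 (by decide)
    have ha4_6 : T.a (σ 4) (σ 6) = 0 := by simpa [lv] using ha 4 6 (by decide)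
    have ha5_5 : T.a (σ 5) (σ 5) = -4 * w := by linarith [(hi (σ 5)).2, hw5]
    have ha5_6 : T.a (σ 5) (σ 6) = 2 * w := by simpa [lv] using ha 5 6 (by decide)
    have ha6_6 : T.a (σ 6) (σ 6) = -2 * w := by linarith [(hi (σ 6)).2, hw6]
    exact ⟨fun i => (hi i).1, σ, m, w, Or.inr (Or.inr (Or.inl ⟨hm0, hm1, hm2, hm3, hm4, hm5, hm6, hw0, hw1, hw2, hw3, hw4, hw5, hw6, ha0_0, ha0_1, ha0_2, ha0_3, ha0_4, ha0_5, ha0_6, ha1_1, ha1_2, ha1_3, ha1_4, ha1_5, ha1_6, ha2_2, ha2_3, ha2_4, ha2_5, ha2_6, ha3_3, ha3_4, ha3_5, ha3_6, ha4_4, ha4_5, ha4_6, ha5_5, ha5_6, ha6_6⟩))⟩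
  · obtain ⟨σ, hm, hw, ha⟩ := h.exists_perm
    have hw0 : T.w (σ 0) = 2 * w := by simpa [lv] using hw 0
    have hw1 : T.w (σ 1) = w := by simpa [lv] using hw 1
    have hw2 : T.w (σ 2) = w := by simpa [lv] using hw 2
    have hw3 : T.w (σ 3) = w := by simpa [lv] using hw 3
    have hw4 : T.w (σ 4) = w := by simpa [lv] using hw 4
    have hw5 : T.w (σ 5) = w := by simpa [lv] using hw 5
    have hw6 : T.w (σ 6) = 2 * w := by simpa [lv] using hw 6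
    have hm0 : T.m (σ 0) = m := by simpa [lv] using hm 0
    have hm1 : T.m (σ 1) = 2 * m := by simpa [lv] using hm 1
    have hm2 : T.m (σ 2) = 2 * m := by simpa [lv] using hm 2
    have hm3 : T.m (σ 3) = 2 * m := by simpa [lv] using hm 3
    have hm4 : T.m (σ 4) = 2 * m := by simpa [lv] using hm 4
    have hm5 : T.m (σ 5) = 2 * m := by simpa [lv] using hm 5
    have hm6 : T.m (σ 6) = m := by simpa [lv] using hm 6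
    have ha0_0 : T.a (σ 0) (σ 0) = -4 * w := by linarith [(hi (σ 0)).2, hw0]
    have ha0_1 : T.a (σ 0) (σ 1) = 2 * w := by simpa [lv] using ha 0 1 (by decide)
    have ha0_2 : T.a (σ 0) (σ 2) = 0 := by simpa [lv] using ha 0 2 (by decide)
    have ha0_3 : T.a (σ 0) (σ 3) = 0 := by simpa [lv] using ha 0 3 (by decide)
    have ha0_4 : T.a (σ 0) (σ 4) = 0 := by simpa [lv] using ha 0 4 (by decide)
    have ha0_5 : T.a (σ 0) (σ 5) = 0 := by simpa [lv] using ha 0 5 (by decide)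
    have ha0_6 : T.a (σ 0) (σ 6) = 0 := by simpa [lv] using ha 0 6 (by decide)
    have ha1_1 : T.a (σ 1) (σ 1) = -2 * w := by linarith [(hi (σ 1)).2, hw1]
    have ha1_2 : T.a (σ 1) (σ 2) = w := by simpa [lv] using ha 1 2 (by decide)
    have ha1_3 : T.a (σ 1) (σ 3) = 0 := by simpa [lv] using ha 1 3 (by decide)
    have ha1_4 : T.a (σ 1) (σ 4) = 0 := by simpa [lv] using ha 1 4 (by decide)
    have ha1_5 : T.a (σ 1) (σ 5) = 0 := by simpa [lv] using ha 1 5 (by decide)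
    have ha1_6 : T.a (σ 1) (σ 6) = 0 := by simpa [lv] using ha 1 6 (by decide)
    have ha2_2 : T.a (σ 2) (σ 2) = -2 * w := by linarith [(hi (σ 2)).2, hw2]
    have ha2_3 : T.a (σ 2) (σ 3) = w := by simpa [lv] using ha 2 3 (by decide)
    have ha2_4 : T.a (σ 2) (σ 4) = 0 := by simpa [lv] using ha 2 4 (by decide)
    have ha2_5 : T.a (σ 2) (σ 5) = 0 := by simpa [lv] using ha 2 5 (by decide)
    have ha2_6 : T.a (σ 2) (σ 6) = 0 := by simpa [lv] using ha 2 6 (by decide)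
    have ha3_3 : T.a (σ 3) (σ 3) = -2 * w := by linarith [(hi (σ 3)).2, hw3]
    have ha3_4 : T.a (σ 3) (σ 4) = w := by simpa [lv] using ha 3 4 (by decide)
    have ha3_5 : T.a (σ 3) (σ 5) = 0 := by simpa [lv] using ha 3 5 (by decide)
    have ha3_6 : T.a (σ 3) (σ 6) = 0 := by simpa [lv] using ha 3 6 (by decide)
    have ha4_4 : T.a (σ 4) (σ 4) = -2 * w := by linarith [(hi (σ 4)).2, hw4]
    have ha4_5 : T.a (σ 4) (σ 5) = w := by simpa [lv] using ha 4 5 (by decide)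
    have ha4_6 : T.a (σ 4) (σ 6) = 0 := by simpa [lv] using ha 4 6 (by decide)
    have ha5_5 : T.a (σ 5) (σ 5) = -2 * w := by linarith [(hi (σ 5)).2, hw5]
    have ha5_6 : T.a (σ 5) (σ 6) = 2 * w := by simpa [lv] using ha 5 6 (by decide)
    have ha6_6 : T.a (σ 6) (σ 6) = -4 * w := by linarith [(hi (σ 6)).2, hw6]
    exact ⟨fun i => (hi i).1, σ, m, w, Or.inr (Or.inr (Or.inr (Or.inl ⟨hm0, hm1, hm2, hm3, hm4, hm5, hm6, hw0, hw1, hw2, hw3, hw4, hw5, hw6, ha0_0, ha0_1, ha0_2, ha0_3, ha0_4, ha0_5, ha0_6, ha1_1, ha1_2, ha1_3, ha1_4, ha1_5, ha1_6, ha2_2, ha2_3, ha2_4, ha2_5, ha2_6, ha3_3, ha3_4, ha3_5, ha3_6, ha4_4, ha4_5, ha4_6, ha5_5, ha5_6, ha6_6⟩)))⟩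
  · obtain ⟨σ, hm, hw, ha⟩ := h.exists_perm
    have hw0 : T.w (σ 0) = 2 * w := by simpa [lv] using hw 0
    have hw1 : T.w (σ 1) = w := by simpa [lv] using hw 1
    have hw2 : T.w (σ 2) = w := by simpa [lv] using hw 2
    have hw3 : T.w (σ 3) = w := by simpa [lv] using hw 3
    have hw4 : T.w (σ 4) = w := by simpa [lv] using hw 4
    have hw5 : T.w (σ 5) = w := by simpa [lv] using hw 5
    have hw6 : T.w (σ 6) = w := by simpa [lv] using hw 6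
    have hm0 : T.m (σ 0) = m := by simpa [lv] using hm 0
    have hm1 : T.m (σ 1) = 2 * m := by simpa [lv] using hm 1
    have hm2 : T.m (σ 2) = 2 * m := by simpa [lv] using hm 2
    have hm3 : T.m (σ 3) = 2 * m := by simpa [lv] using hm 3
    have hm4 : T.m (σ 4) = 2 * m := by simpa [lv] using hm 4
    have hm5 : T.m (σ 5) = m := by simpa [lv] using hm 5
    have hm6 : T.m (σ 6) = m := by simpa [lv] using hm 6
    have ha0_0 : T.a (σ 0) (σ 0) = -4 * w := by linarith [(hi (σ 0)).2, hw0]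
    have ha0_1 : T.a (σ 0) (σ 1) = 2 * w := by simpa [lv] using ha 0 1 (by decide)
    have ha0_2 : T.a (σ 0) (σ 2) = 0 := by simpa [lv] using ha 0 2 (by decide)
    have ha0_3 : T.a (σ 0) (σ 3) = 0 := by simpa [lv] using ha 0 3 (by decide)
    have ha0_4 : T.a (σ 0) (σ 4) = 0 := by simpa [lv] using ha 0 4 (by decide)
    have ha0_5 : T.a (σ 0) (σ 5) = 0 := by simpa [lv] using ha 0 5 (by decide)
    have ha0_6 : T.a (σ 0) (σ 6) = 0 := by simpa [lv] using ha 0 6 (by decide)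
    have ha1_1 : T.a (σ 1) (σ 1) = -2 * w := by linarith [(hi (σ 1)).2, hw1]
    have ha1_2 : T.a (σ 1) (σ 2) = w := by simpa [lv] using ha 1 2 (by decide)
    have ha1_3 : T.a (σ 1) (σ 3) = 0 := by simpa [lv] using ha 1 3 (by decide)
    have ha1_4 : T.a (σ 1) (σ 4) = 0 := by simpa [lv] using ha 1 4 (by decide)
    have ha1_5 : T.a (σ 1) (σ 5) = 0 := by simpa [lv] using ha 1 5 (by decide)
    have ha1_6 : T.a (σ 1) (σ 6) = 0 := by simpa [lv] using ha 1 6 (by decide)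
    have ha2_2 : T.a (σ 2) (σ 2) = -2 * w := by linarith [(hi (σ 2)).2, hw2]
    have ha2_3 : T.a (σ 2) (σ 3) = w := by simpa [lv] using ha 2 3 (by decide)
    have ha2_4 : T.a (σ 2) (σ 4) = 0 := by simpa [lv] using ha 2 4 (by decide)
    have ha2_5 : T.a (σ 2) (σ 5) = 0 := by simpa [lv] using ha 2 5 (by decide)
    have ha2_6 : T.a (σ 2) (σ 6) = 0 := by simpa [lv] using ha 2 6 (by decide)
    have ha3_3 : T.a (σ 3) (σ 3) = -2 * w := by linarith [(hi (σ 3)).2, hw3]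
    have ha3_4 : T.a (σ 3) (σ 4) = w := by simpa [lv] using ha 3 4 (by decide)
    have ha3_5 : T.a (σ 3) (σ 5) = 0 := by simpa [lv] using ha 3 5 (by decide)
    have ha3_6 : T.a (σ 3) (σ 6) = 0 := by simpa [lv] using ha 3 6 (by decide)
    have ha4_4 : T.a (σ 4) (σ 4) = -2 * w := by linarith [(hi (σ 4)).2, hw4]
    have ha4_5 : T.a (σ 4) (σ 5) = w := by simpa [lv] using ha 4 5 (by decide)
    have ha4_6 : T.a (σ 4) (σ 6) = w := by simpa [lv] using ha 4 6 (by decide)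
    have ha5_5 : T.a (σ 5) (σ 5) = -2 * w := by linarith [(hi (σ 5)).2, hw5]
    have ha5_6 : T.a (σ 5) (σ 6) = 0 := by simpa [lv] using ha 5 6 (by decide)
    have ha6_6 : T.a (σ 6) (σ 6) = -2 * w := by linarith [(hi (σ 6)).2, hw6]
    exact ⟨fun i => (hi i).1, σ, m, w, Or.inr (Or.inr (Or.inr (Or.inr (Or.inl ⟨hm0, hm1, hm2, hm3, hm4, hm5, hm6, hw0, hw1, hw2, hw3, hw4, hw5, hw6, ha0_0, ha0_1, ha0_2, ha0_3, ha0_4, ha0_5, ha0_6, ha1_1, ha1_2, ha1_3, ha1_4, ha1_5, ha1_6, ha2_2, ha2_3, ha2_4, ha2_5, ha2_6, ha3_3, ha3_4, ha3_5, ha3_6, ha4_4, ha4_5, ha4_6, ha5_5, ha5_6, ha6_6⟩))))⟩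
  · obtain ⟨σ, hm, hw, ha⟩ := h.exists_perm
    have hw0 : T.w (σ 0) = w := by simpa [lv] using hw 0
    have hw1 : T.w (σ 1) = 2 * w := by simpa [lv] using hw 1
    have hw2 : T.w (σ 2) = 2 * w := by simpa [lv] using hw 2
    have hw3 : T.w (σ 3) = 2 * w := by simpa [lv] using hw 3
    have hw4 : T.w (σ 4) = 2 * w := by simpa [lv] using hw 4
    have hw5 : T.w (σ 5) = 2 * w := by simpa [lv] using hw 5
    have hw6 : T.w (σ 6) = 2 * w := by simpa [lv] using hw 6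
    have hm0 : T.m (σ 0) = 2 * m := by simpa [lv] using hm 0
    have hm1 : T.m (σ 1) = 2 * m := by simpa [lv] using hm 1
    have hm2 : T.m (σ 2) = 2 * m := by simpa [lv] using hm 2
    have hm3 : T.m (σ 3) = 2 * m := by simpa [lv] using hm 3
    have hm4 : T.m (σ 4) = 2 * m := by simpa [lv] using hm 4
    have hm5 : T.m (σ 5) = m := by simpa [lv] using hm 5
    have hm6 : T.m (σ 6) = m := by simpa [lv] using hm 6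
    have ha0_0 : T.a (σ 0) (σ 0) = -2 * w := by linarith [(hi (σ 0)).2, hw0]
    have ha0_1 : T.a (σ 0) (σ 1) = 2 * w := by simpa [lv] using ha 0 1 (by decide)
    have ha0_2 : T.a (σ 0) (σ 2) = 0 := by simpa [lv] using ha 0 2 (by decide)
    have ha0_3 : T.a (σ 0) (σ 3) = 0 := by simpa [lv] using ha 0 3 (by decide)
    have ha0_4 : T.a (σ 0) (σ 4) = 0 := by simpa [lv] using ha 0 4 (by decide)
    have ha0_5 : T.a (σ 0) (σ 5) = 0 := by simpa [lv] using ha 0 5 (by decide)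
    have ha0_6 : T.a (σ 0) (σ 6) = 0 := by simpa [lv] using ha 0 6 (by decide)
    have ha1_1 : T.a (σ 1) (σ 1) = -4 * w := by linarith [(hi (σ 1)).2, hw1]
    have ha1_2 : T.a (σ 1) (σ 2) = 2 * w := by simpa [lv] using ha 1 2 (by decide)
    have ha1_3 : T.a (σ 1) (σ 3) = 0 := by simpa [lv] using ha 1 3 (by decide)
    have ha1_4 : T.a (σ 1) (σ 4) = 0 := by simpa [lv] using ha 1 4 (by decide)
    have ha1_5 : T.a (σ 1) (σ 5) = 0 := by simpa [lv] using ha 1 5 (by decide)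
    have ha1_6 : T.a (σ 1) (σ 6) = 0 := by simpa [lv] using ha 1 6 (by decide)
    have ha2_2 : T.a (σ 2) (σ 2) = -4 * w := by linarith [(hi (σ 2)).2, hw2]
    have ha2_3 : T.a (σ 2) (σ 3) = 2 * w := by simpa [lv] using ha 2 3 (by decide)
    have ha2_4 : T.a (σ 2) (σ 4) = 0 := by simpa [lv] using ha 2 4 (by decide)
    have ha2_5 : T.a (σ 2) (σ 5) = 0 := by simpa [lv] using ha 2 5 (by decide)
    have ha2_6 : T.a (σ 2) (σ 6) = 0 := by simpa [lv] using ha 2 6 (by decide)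
    have ha3_3 : T.a (σ 3) (σ 3) = -4 * w := by linarith [(hi (σ 3)).2, hw3]
    have ha3_4 : T.a (σ 3) (σ 4) = 2 * w := by simpa [lv] using ha 3 4 (by decide)
    have ha3_5 : T.a (σ 3) (σ 5) = 0 := by simpa [lv] using ha 3 5 (by decide)
    have ha3_6 : T.a (σ 3) (σ 6) = 0 := by simpa [lv] using ha 3 6 (by decide)
    have ha4_4 : T.a (σ 4) (σ 4) = -4 * w := by linarith [(hi (σ 4)).2, hw4]
    have ha4_5 : T.a (σ 4) (σ 5) = 2 * w := by simpa [lv] using ha 4 5 (by decide)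
    have ha4_6 : T.a (σ 4) (σ 6) = 2 * w := by simpa [lv] using ha 4 6 (by decide)
    have ha5_5 : T.a (σ 5) (σ 5) = -4 * w := by linarith [(hi (σ 5)).2, hw5]
    have ha5_6 : T.a (σ 5) (σ 6) = 0 := by simpa [lv] using ha 5 6 (by decide)
    have ha6_6 : T.a (σ 6) (σ 6) = -4 * w := by linarith [(hi (σ 6)).2, hw6]
    exact ⟨fun i => (hi i).1, σ, m, w, Or.inr (Or.inr (Or.inr (Or.inr (Or.inr (Or.inl ⟨hm0, hm1, hm2, hm3, hm4, hm5, hm6, hw0, hw1, hw2, hw3, hw4, hw5, hw6, ha0_0, ha0_1, ha0_2, ha0_3, ha0_4, ha0_5, ha0_6, ha1_1, ha1_2, ha1_3, ha1_4, ha1_5, ha1_6, ha2_2, ha2_3, ha2_4, ha2_5, ha2_6, ha3_3, ha3_4, ha3_5, ha3_6, ha4_4, ha4_5, ha4_6, ha5_5, ha5_6, ha6_6⟩)))))⟩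
  · obtain ⟨σ, hm, hw, ha⟩ := h.exists_perm
    have hw0 : T.w (σ 0) = w := by simpa [lv] using hw 0
    have hw1 : T.w (σ 1) = w := by simpa [lv] using hw 1
    have hw2 : T.w (σ 2) = w := by simpa [lv] using hw 2
    have hw3 : T.w (σ 3) = w := by simpa [lv] using hw 3
    have hw4 : T.w (σ 4) = w := by simpa [lv] using hw 4
    have hw5 : T.w (σ 5) = w := by simpa [lv] using hw 5
    have hw6 : T.w (σ 6) = w := by simpa [lv] using hw 6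
    have hm0 : T.m (σ 0) = m := by simpa [lv] using hm 0
    have hm1 : T.m (σ 1) = m := by simpa [lv] using hm 1
    have hm2 : T.m (σ 2) = 2 * m := by simpa [lv] using hm 2
    have hm3 : T.m (σ 3) = 2 * m := by simpa [lv] using hm 3
    have hm4 : T.m (σ 4) = 2 * m := by simpa [lv] using hm 4
    have hm5 : T.m (σ 5) = m := by simpa [lv] using hm 5
    have hm6 : T.m (σ 6) = m := by simpa [lv] using hm 6
    have ha0_0 : T.a (σ 0) (σ 0) = -2 * w := by linarith [(hi (σ 0)).2, hw0]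
    have ha0_1 : T.a (σ 0) (σ 1) = 0 := by simpa [lv] using ha 0 1 (by decide)
    have ha0_2 : T.a (σ 0) (σ 2) = w := by simpa [lv] using ha 0 2 (by decide)
    have ha0_3 : T.a (σ 0) (σ 3) = 0 := by simpa [lv] using ha 0 3 (by decide)
    have ha0_4 : T.a (σ 0) (σ 4) = 0 := by simpa [lv] using ha 0 4 (by decide)
    have ha0_5 : T.a (σ 0) (σ 5) = 0 := by simpa [lv] using ha 0 5 (by decide)
    have ha0_6 : T.a (σ 0) (σ 6) = 0 := by simpa [lv] using ha 0 6 (by decide)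
    have ha1_1 : T.a (σ 1) (σ 1) = -2 * w := by linarith [(hi (σ 1)).2, hw1]
    have ha1_2 : T.a (σ 1) (σ 2) = w := by simpa [lv] using ha 1 2 (by decide)
    have ha1_3 : T.a (σ 1) (σ 3) = 0 := by simpa [lv] using ha 1 3 (by decide)
    have ha1_4 : T.a (σ 1) (σ 4) = 0 := by simpa [lv] using ha 1 4 (by decide)
    have ha1_5 : T.a (σ 1) (σ 5) = 0 := by simpa [lv] using ha 1 5 (by decide)
    have ha1_6 : T.a (σ 1) (σ 6) = 0 := by simpa [lv] using ha 1 6 (by decide)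
    have ha2_2 : T.a (σ 2) (σ 2) = -2 * w := by linarith [(hi (σ 2)).2, hw2]
    have ha2_3 : T.a (σ 2) (σ 3) = w := by simpa [lv] using ha 2 3 (by decide)
    have ha2_4 : T.a (σ 2) (σ 4) = 0 := by simpa [lv] using ha 2 4 (by decide)
    have ha2_5 : T.a (σ 2) (σ 5) = 0 := by simpa [lv] using ha 2 5 (by decide)
    have ha2_6 : T.a (σ 2) (σ 6) = 0 := by simpa [lv] using ha 2 6 (by decide)
    have ha3_3 : T.a (σ 3) (σ 3) = -2 * w := by linarith [(hi (σ 3)).2, hw3]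
    have ha3_4 : T.a (σ 3) (σ 4) = w := by simpa [lv] using ha 3 4 (by decide)
    have ha3_5 : T.a (σ 3) (σ 5) = 0 := by simpa [lv] using ha 3 5 (by decide)
    have ha3_6 : T.a (σ 3) (σ 6) = 0 := by simpa [lv] using ha 3 6 (by decide)
    have ha4_4 : T.a (σ 4) (σ 4) = -2 * w := by linarith [(hi (σ 4)).2, hw4]
    have ha4_5 : T.a (σ 4) (σ 5) = w := by simpa [lv] using ha 4 5 (by decide)
    have ha4_6 : T.a (σ 4) (σ 6) = w := by simpa [lv] using ha 4 6 (by decide)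
    have ha5_5 : T.a (σ 5) (σ 5) = -2 * w := by linarith [(hi (σ 5)).2, hw5]
    have ha5_6 : T.a (σ 5) (σ 6) = 0 := by simpa [lv] using ha 5 6 (by decide)
    have ha6_6 : T.a (σ 6) (σ 6) = -2 * w := by linarith [(hi (σ 6)).2, hw6]
    exact ⟨fun i => (hi i).1, σ, m, w, Or.inr (Or.inr (Or.inr (Or.inr (Or.inr (Or.inr (Or.inl ⟨hm0, hm1, hm2, hm3, hm4, hm5, hm6, hw0, hw1, hw2, hw3, hw4, hw5, hw6, ha0_0, ha0_1, ha0_2, ha0_3, ha0_4, ha0_5, ha0_6, ha1_1, ha1_2, ha1_3, ha1_4, ha1_5, ha1_6, ha2_2, ha2_3, ha2_4, ha2_5, ha2_6, ha3_3, ha3_4, ha3_5, ha3_6, ha4_4, ha4_5, ha4_6, ha5_5, ha5_6, ha6_6⟩))))))⟩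
  · obtain ⟨σ, hm, hw, ha⟩ := h.exists_perm
    have hw0 : T.w (σ 0) = w := by simpa [lv] using hw 0
    have hw1 : T.w (σ 1) = w := by simpa [lv] using hw 1
    have hw2 : T.w (σ 2) = w := by simpa [lv] using hw 2
    have hw3 : T.w (σ 3) = w := by simpa [lv] using hw 3
    have hw4 : T.w (σ 4) = w := by simpa [lv] using hw 4
    have hw5 : T.w (σ 5) = w := by simpa [lv] using hw 5
    have hw6 : T.w (σ 6) = w := by simpa [lv] using hw 6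
    have hm0 : T.m (σ 0) = m := by simpa [lv] using hm 0
    have hm1 : T.m (σ 1) = 2 * m := by simpa [lv] using hm 1
    have hm2 : T.m (σ 2) = 3 * m := by simpa [lv] using hm 2
    have hm3 : T.m (σ 3) = m := by simpa [lv] using hm 3
    have hm4 : T.m (σ 4) = 2 * m := by simpa [lv] using hm 4
    have hm5 : T.m (σ 5) = m := by simpa [lv] using hm 5
    have hm6 : T.m (σ 6) = 2 * m := by simpa [lv] using hm 6
    have ha0_0 : T.a (σ 0) (σ 0) = -2 * w := by linarith [(hi (σ 0)).2, hw0]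
    have ha0_1 : T.a (σ 0) (σ 1) = w := by simpa [lv] using ha 0 1 (by decide)
    have ha0_2 : T.a (σ 0) (σ 2) = 0 := by simpa [lv] using ha 0 2 (by decide)
    have ha0_3 : T.a (σ 0) (σ 3) = 0 := by simpa [lv] using ha 0 3 (by decide)
    have ha0_4 : T.a (σ 0) (σ 4) = 0 := by simpa [lv] using ha 0 4 (by decide)
    have ha0_5 : T.a (σ 0) (σ 5) = 0 := by simpa [lv] using ha 0 5 (by decide)
    have ha0_6 : T.a (σ 0) (σ 6) = 0 := by simpa [lv] using ha 0 6 (by decide)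
    have ha1_1 : T.a (σ 1) (σ 1) = -2 * w := by linarith [(hi (σ 1)).2, hw1]
    have ha1_2 : T.a (σ 1) (σ 2) = w := by simpa [lv] using ha 1 2 (by decide)
    have ha1_3 : T.a (σ 1) (σ 3) = 0 := by simpa [lv] using ha 1 3 (by decide)
    have ha1_4 : T.a (σ 1) (σ 4) = 0 := by simpa [lv] using ha 1 4 (by decide)
    have ha1_5 : T.a (σ 1) (σ 5) = 0 := by simpa [lv] using ha 1 5 (by decide)
    have ha1_6 : T.a (σ 1) (σ 6) = 0 := by simpa [lv] using ha 1 6 (by decide)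
    have ha2_2 : T.a (σ 2) (σ 2) = -2 * w := by linarith [(hi (σ 2)).2, hw2]
    have ha2_3 : T.a (σ 2) (σ 3) = 0 := by simpa [lv] using ha 2 3 (by decide)
    have ha2_4 : T.a (σ 2) (σ 4) = w := by simpa [lv] using ha 2 4 (by decide)
    have ha2_5 : T.a (σ 2) (σ 5) = 0 := by simpa [lv] using ha 2 5 (by decide)
    have ha2_6 : T.a (σ 2) (σ 6) = w := by simpa [lv] using ha 2 6 (by decide)
    have ha3_3 : T.a (σ 3) (σ 3) = -2 * w := by linarith [(hi (σ 3)).2, hw3]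
    have ha3_4 : T.a (σ 3) (σ 4) = w := by simpa [lv] using ha 3 4 (by decide)
    have ha3_5 : T.a (σ 3) (σ 5) = 0 := by simpa [lv] using ha 3 5 (by decide)
    have ha3_6 : T.a (σ 3) (σ 6) = 0 := by simpa [lv] using ha 3 6 (by decide)
    have ha4_4 : T.a (σ 4) (σ 4) = -2 * w := by linarith [(hi (σ 4)).2, hw4]
    have ha4_5 : T.a (σ 4) (σ 5) = 0 := by simpa [lv] using ha 4 5 (by decide)
    have ha4_6 : T.a (σ 4) (σ 6) = 0 := by simpa [lv] using ha 4 6 (by decide)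
    have ha5_5 : T.a (σ 5) (σ 5) = -2 * w := by linarith [(hi (σ 5)).2, hw5]
    have ha5_6 : T.a (σ 5) (σ 6) = w := by simpa [lv] using ha 5 6 (by decide)
    have ha6_6 : T.a (σ 6) (σ 6) = -2 * w := by linarith [(hi (σ 6)).2, hw6]
    exact ⟨fun i => (hi i).1, σ, m, w, Or.inr (Or.inr (Or.inr (Or.inr (Or.inr (Or.inr (Or.inr (⟨hm0, hm1, hm2, hm3, hm4, hm5, hm6, hw0, hw1, hw2, hw3, hw4, hw5, hw6, ha0_0, ha0_1, ha0_2, ha0_3, ha0_4, ha0_5, ha0_6, ha1_1, ha1_2, ha1_3, ha1_4, ha1_5, ha1_6, ha2_2, ha2_3, ha2_4, ha2_5, ha2_6, ha3_3, ha3_4, ha3_5, ha3_6, ha4_4, ha4_5, ha4_6, ha5_5, ha5_6, ha6_6⟩)))))))⟩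
  · exact absurd hn (by decide)
  · exact absurd hn (by decide)
  · exact absurd hn (by decide)
  · exact absurd hn (by decide)
  · exact absurd hn (by decide)
  · exact absurd hn (by decide)

end Groth.Agent.S7368
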