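import Groth.Statements.S7372
import Groth.Agent.Resolve.K375.PtSeq

set_option autoImplicit false
universe u
open CategoryTheory CategoryTheory.Limits AlgebraicGeometry
open Resolve

namespace Groth.Agent.S7372

/-- Let Y be an integral Noetherian scheme of dimension one. Then Y has a resolution of singularities (a
proper morphism X → Y from an integral scheme with regular local rings which is an isomorphism over
a nonempty open of Y) if and only if there is a finite sequence of blowings up in closed points Y_n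
→ Y_{n-1} → … → Y_1 → Y with Y_n regular (all local rings regular). -/
theorem result (Y : Scheme.{u}) [IsIntegral Y] [IsNoetherian Y]
    (hdim : topologicalKrullDim Y = 1) :
    (∃ (X : Scheme.{u}) (g : X ⟶ Y), IsProper g ∧ IsIntegral X ∧
        (∃ V : Y.Opens, (V : Set Y).Nonempty ∧ IsIso (g ∣_ V)) ∧ ∀ x : X, IsRegularLocalRing (X.presheaf.stalk x)) ↔
      ∃ (Y' : Scheme.{u}) (g : Y' ⟶ Y), Resolve.IsPtBlowupSeq g ∧ ∀ y : Y', IsRegularLocalRing (Y'.presheaf.stalk y) := by
  constructor
  · rintro ⟨X, g, hg, hX, hV, hreg⟩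
    have hm : Groth.Agent.CurvesC.Modif.IsModif g := ⟨hg, hX, hV⟩
    obtain ⟨Y', b, hs, -, hb⟩ := Groth.Agent.Resolve.K375.CurveSeq.exists_seq
      (fun y => (Groth.Agent.Resolve.K375.PtSeq.ringKrullDim_le Y y).trans hdim.le) g hm hreg
    exact ⟨Y', b, Groth.Agent.Resolve.K375.PtSeq.of_seq hs, hb⟩
  · rintro ⟨Y', g, hg, hreg⟩
    have h0 : Nontrivial Y := Groth.Agent.Resolve.K375.PtSeq.nontrivial_of_dim (by rw [hdim]; exact zero_lt_one)
    obtain ⟨hm, -⟩ := Groth.Agent.Resolve.K375.PtSeq.props hg inferInstance inferInstance h0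
    exact ⟨Y', g, hm.proper, hm.integral, hm.exists_isIso, hreg⟩

end Groth.Agent.S7372
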