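import Groth.Statements.S7374
import Groth.Agent.Resolve.K375.FinNorm

set_option autoImplicit false
universe u
open CategoryTheory CategoryTheory.Limits AlgebraicGeometry
open Resolve

namespace Groth.Agent.S7374

open Groth.Agent.Resolve.K375 Groth.Agent.Resolve.K375.Tower Groth.Agent.Resolve.K375.Geo
open Groth.Agent.Resolve.K375.Strict Groth.Agent.Resolve.K375.StrictSep Groth.Agent.CurvesC.Modif

/-- One of two integral closed subschemes of dimension one is not contained in the other. -/
theorem comap_ne_bot {X : Scheme.{u}} [IsNoetherian X] (I J : X.IdealSheafData) [IsIntegral I.subscheme]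
    [IsIntegral J.subscheme] (hI : Cur I.subschemeι) (hJ : Cur J.subschemeι) (hne : I ≠ J) :
    I.comap J.subschemeι ≠ ⊥ := by
  intro h
  -- the subscheme of `J` is contained in that of `I`
  have hle : I ≤ J := by
    have h1 : I ≤ (⊥ : J.subscheme.IdealSheafData).map J.subschemeι := by
      rw [Scheme.IdealSheafData.le_map_iff_comap_le, h]
    rwa [Scheme.IdealSheafData.map_bot, Scheme.IdealSheafData.ker_subschemeι] at h1
  obtain ⟨k, hk⟩ : ∃ k : J.subscheme ⟶ I.subscheme, k ≫ I.subschemeι = J.subschemeι :=
    ⟨Scheme.IdealSheafData.inclusion hle, Scheme.IdealSheafData.inclusion_subschemeι hle⟩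
  have hkc : IsClosedImmersion k := by
    have : IsClosedImmersion (k ≫ I.subschemeι) := by rw [hk]; infer_instance
    exact IsClosedImmersion.of_comp k I.subschemeι
  have := hJ.nontrivial
  by_cases hgen : k (genericPoint J.subscheme) = genericPoint I.subscheme
  · -- then `k` is surjective, hence an isomorphism
    apply hne
    have hdom : IsDominant k := by
      refine ⟨?_⟩
      intro x
      have h2 : genericPoint I.subscheme ∈ closure (Set.range k) := subset_closure ⟨_, hgen⟩
      exact (genericPoint_specializes x).mem_closed isClosed_closure h2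
    have hsurj : Surjective k := inferInstance
    have hiso : IsIso k := isIso_of_isClosedImmersion_of_surjective k
    have h3 : J = J.subschemeι.ker := (Scheme.IdealSheafData.ker_subschemeι _).symm
    rw [h3, ← hk, Scheme.Hom.ker_comp_of_isIso, Scheme.IdealSheafData.ker_subschemeι]
  · have h4 : IsClosed ({k (genericPoint J.subscheme)} : Set I.subscheme) :=
      isClosed_of_dim 1 hI.dim _ (by exact_mod_cast one_le_ringKrullDim hgen)
    have h5 : IsClosed ({genericPoint J.subscheme} : Set J.subscheme) := by
      have := h4.preimage k.continuous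
      rwa [← Set.image_singleton, Set.preimage_image_eq _ k.injective] at this
    exact ne_genericPoint h5 rfl

theorem result (X : Scheme.{u}) [IsNoetherian X] {n : ℕ}
    (I : Fin n → X.IdealSheafData) [∀ i, IsIntegral (I i).subscheme] (hdim : ∀ i, topologicalKrullDim ↥(I i).subscheme = 1)
    [∀ i, QuasiCompact ((I i).subscheme.fromSpecStalk (genericPoint ↥(I i).subscheme))]
    [∀ i, QuasiSeparated ((I i).subscheme.fromSpecStalk (genericPoint ↥(I i).subscheme))]
    (hfin : ∀ i, IsFinite (Curv2.normalizationι (I i).subscheme)) (hdist : Function.Injective I) :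
    ∃ (X' : Scheme.{u}) (g : X' ⟶ X), Resolve.IsPtBlowupSeq g ∧
      ∃ (I' : Fin n → X'.IdealSheafData) (g' : ∀ i, (I' i).subscheme ⟶ (I i).subscheme),
        (∀ i, IsIntegral (I' i).subscheme ∧ g' i ≫ (I i).subschemeι = (I' i).subschemeι ≫ g ∧
          (∃ V : (I i).subscheme.Opens, (V : Set ↥(I i).subscheme).Nonempty ∧ IsIso (g' i ∣_ V)) ∧
          ∀ y : ↥(I' i).subscheme, IsRegularLocalRing ((I' i).subscheme.presheaf.stalk y)) ∧
        ∀ i j, i ≠ j → Disjoint ((I' i).support : Set X') ((I' j).support : Set X') := by
  have hcur : ∀ k, Cur (I k).subschemeι := fun k => FinNorm.cur_of_isFinite (I k) (hdim k) (hfin k)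
  obtain ⟨Z, g, hZ, hg, hY⟩ := StrictSeq.exists_regular (fun k => (I k).subscheme) (fun k => (I k).subschemeι) hcur
    Finset.univ
  choose Y c i hi hiw hc hreg using hY
  have hcl := fun k => (hi k).closed
  have hint := fun k => (hi k).integral
  obtain ⟨Z', g', i', hg', hcl', hw', hdisj⟩ := separate Y (fun k => hreg k (Finset.mem_univ k))
    (fun k => isNoetherian_of_closed (i k)) (fun k l => OrderDual.toDual ((i k).ker.comap (i l))) i hi rfl (by
      intro k l hkl h0
      have h1 := range_subset_of_comap_eq_bot h0
      refine comap_ne_bot (I k) (I l) (hcur k) (hcur l) (hdist.ne hkl) ?_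
      rw [← Scheme.IdealSheafData.support_eq_top_iff]
      ext y
      simp only [TopologicalSpace.Closeds.coe_top, Set.mem_univ, iff_true]
      obtain ⟨w, rfl⟩ := (hc l).surjective.surj y
      obtain ⟨v, hv⟩ := h1 ⟨w, rfl⟩
      have h2 : (I l).subschemeι (c l w) = (I k).subschemeι (c k v) := by
        have e1 : (i l ≫ g) w = (c l ≫ (I l).subschemeι) w := by rw [hiw l]
        have e2 : (i k ≫ g) v = (c k ≫ (I k).subschemeι) v := by rw [hiw k]
        simp only [Scheme.Hom.comp_apply] at e1 e2
        rw [← e1, ← e2, hv]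
      have h3 : (I l).subschemeι (c l w) ∈ (I k).support := by
        rw [h2]
        exact Divis.CartierStalk.subschemeι_mem_support _ _
      rw [Scheme.IdealSheafData.support_comap]
      exact h3)
  have he : ∀ k, ∃ (e : (i' k).ker.subscheme ⟶ Y k), IsIso e ∧ e ≫ i' k = (i' k).ker.subschemeι := fun k =>
    ⟨inv (i' k).toImage, inferInstance, by rw [IsIso.inv_comp_eq]; exact (i' k).toImage_imageι.symm⟩
  choose e he1 he2 using he
  refine ⟨Z', g' ≫ g, PtSeq.of_seq (hg'.comp hg), fun k => (i' k).ker, fun k => e k ≫ c k,
    fun k => ⟨IsIntegral.of_isIso (inv (e k)), ?_, ?_, ?_⟩, ?_⟩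
  · rw [Category.assoc, ← hiw k, ← hw' k, ← he2 k, Category.assoc, Category.assoc]
  · have := (hcur k).integral
    have h1 : IsModif (e k) := StrictSeq.isModif_of_isIso _
    exact (h1.comp (hc k)).exists_isIso
  · exact StrictSeq.isRegularLocalRing_of_isIso (e k) (hreg k (Finset.mem_univ k))
  · intro k l hkl
    have h1 := hdisj k l hkl
    have h2 : ∀ m, ((i' m).ker.support : Set Z') = Set.range (i' m) := fun m => by
      rw [Scheme.Hom.support_ker, (i' m).isClosedEmbedding.isClosed_range.closure_eq]
    rw [h2, h2]
    exact h1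

end Groth.Agent.S7374
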