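import Groth.Statements.S7375
import Groth.Agent.Resolve.K375.DomMain
import Groth.Agent.Resolve.K375.NagNorm
import Groth.Agent.Resolve.K375.PtSeq

set_option autoImplicit false
universe u
open CategoryTheory CategoryTheory.Limits AlgebraicGeometry
open Resolve

namespace Groth.Agent.S7375

/-- Let X be an integral Noetherian Nagata scheme of dimension two and f : Y → X a proper birational
morphism (Y integral, f an isomorphism over a nonempty open). Then there are a finite sequence of
normalized blowings up in closed points g : X_n → … → X_1 → X_0 = X^ν, where X^ν → X is the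
normalization, and a morphism X_n → Y over X. (The quasi-compactness and quasi-separatedness binders
on Spec K(X) → X always hold.) -/
theorem result (X : Scheme.{u}) [IsIntegral X] [IsNoetherian X]
    (hN : ∀ U : X.affineOpens, CAlg.IsNagata Γ(X, U.1)) (hdim : topologicalKrullDim X = 2)
    [QuasiCompact (X.fromSpecStalk (genericPoint X))] [QuasiSeparated (X.fromSpecStalk (genericPoint X))]
    {Y : Scheme.{u}} [IsIntegral Y] (f : Y ⟶ X) [IsProper f]
    (hbir : ∃ U : X.Opens, (U : Set X).Nonempty ∧ IsIso (f ∣_ U)) :
    ∃ (Xn : Scheme.{u}) (g : Xn ⟶ Curv2.normalization X), Resolve.IsNormPtBlowupSeq g ∧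
      ∃ h : Xn ⟶ Y, h ≫ f = g ≫ Curv2.normalizationι X := by
  have hm := Groth.Agent.Resolve.K375.NagNorm.isModif_normalizationι X hN
  have hprop := hm.proper
  obtain ⟨_, hn, -, -⟩ := Groth.Agent.S2351.result X
  have hν : Groth.Agent.Resolve.K375.NormSt.ClN (Curv2.normalizationι X) :=
    ⟨hm, Groth.Agent.Resolve.K375.NormSt.isNoetherian_of_isProper (Curv2.normalizationι X), hn,
      K375.NagSch.isNag_of_locallyOfFiniteType (Curv2.normalizationι X) hN, fun z =>
      (Groth.Agent.Resolve.K375.HomGlue.ringKrullDim_le_of_isModif _ hm z).trans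
        ((Groth.Agent.Resolve.K375.PtSeq.ringKrullDim_le X _).trans hdim.le)⟩
  obtain ⟨V, hVne, hV⟩ := hbir
  obtain ⟨Z, g, hs, -, h, hh⟩ := Groth.Agent.Resolve.K375.DomMain.exists_seq f V hVne hV (Curv2.normalizationι X) hν
  exact ⟨Z, g, Groth.Agent.Resolve.K375.NormSt.of_seq hs, h, hh⟩

end Groth.Agent.S7375
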