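import Groth.Statements.S7380
import Groth.Agent.S2078
import Groth.Agent.Lim.K339.ClosedLim

set_option autoImplicit false
universe u
open CategoryTheory AlgebraicGeometry
open Lim

namespace Groth.Agent.S7380

open Groth.Agent.Smoothlim.ClosedFP in
/-- Let `f : X → S` be locally of finite type with `X` quasi-compact and quasi-separated and `S`
quasi-separated. Then, in the category of schemes over `S`, `X` is the limit of a nonempty directed
inverse system of schemes `X_i → S` of finite presentation (locally of finite presentation,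
quasi-compact and quasi-separated), each `X_i` being a quasi-compact and quasi-separated scheme,
whose transition morphisms are closed immersions. -/
theorem result {X S : Scheme.{u}}
    (f : X ⟶ S) [LocallyOfFiniteType f] [CompactSpace X] [QuasiSeparatedSpace X] [QuasiSeparatedSpace S] :
    ∃ (I : Type u) (_ : Preorder I) (_ : IsDirected I (fun a b => a ≤ b)) (_ : Nonempty I)
      (D : Iᵒᵖ ⥤ Over S) (c : Limits.Cone D) (_ : Limits.IsLimit c),
      (∀ i, LocallyOfFinitePresentation (D.obj i).hom ∧ QuasiCompact (D.obj i).hom ∧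
        QuasiSeparated (D.obj i).hom ∧ CompactSpace (D.obj i).left ∧ QuasiSeparatedSpace (D.obj i).left) ∧
      (∀ (i j : Iᵒᵖ) (a : i ⟶ j), IsClosedImmersion (D.map a).left) ∧
      Nonempty (c.pt ≅ Over.mk f) := by
  obtain ⟨X₁, f₁, j₁, h1, h2, h3, h4, h5⟩ := Groth.Agent.S2078.result f
  obtain ⟨U, j, hU, hj, hjj⟩ := Groth.Agent.S2078.exists_isClosedImmersion_compact_open j₁
  have : CompactSpace U := isCompact_iff_compactSpace.mp hU
  have hX₁ : QuasiSeparatedSpace X₁ := quasiSeparatedSpace_of_quasiSeparated f₁
  have hUq : QuasiSeparatedSpace U := quasiSeparatedSpace_of_quasiSeparated U.ι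
  let f' : (U : Scheme.{u}) ⟶ S := U.ι ≫ f₁
  have hf' : j ≫ f' = f := by rw [reassoc_of% hjj, h5]
  have : LocallyOfFinitePresentation f' := inferInstance
  have : QuasiCompact f' := inferInstance
  refine ⟨Idx j.ker ⊥, inferInstance, inferInstance, ⟨⟨⊥, le_rfl, bot_le, isFiniteTypeIdeal_bot⟩⟩,
    subD f' j.ker ⊥, subC f' j.ker ⊥, isLimitSubC f' j.ker ⊥ isFiniteTypeIdeal_bot bot_le,
    fun K => ?_, fun K L a => inferInstance, ⟨K339.ClosedLim.closedIso f' j f hf' ⊥⟩⟩
  have h6 : CompactSpace ((subD f' j.ker ⊥).obj K).left := inferInstance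
  have h7 : QuasiSeparatedSpace ((subD f' j.ker ⊥).obj K).left := inferInstance
  exact ⟨inferInstance, inferInstance, inferInstance, h6, h7⟩

end Groth.Agent.S7380
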