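import Groth.Statements.S7381
import Groth.Agent.Lim.K339.FiniteClosed

set_option autoImplicit false
universe u
open CategoryTheory AlgebraicGeometry
open Lim

namespace Groth.Agent.S7381

open Groth.Agent.Smoothlim.ClosedFP in
/-- Let `f : X → S` be finite with `S` quasi-compact and quasi-separated. Then, in the category of
schemes over `S`, `X` is the limit of a nonempty directed inverse system of schemes `X_i → S` that
are finite and locally of finite presentation, with closed immersions as transition morphisms. -/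
theorem result {X S : Scheme.{u}} (f : X ⟶ S) [IsFinite f]
    [CompactSpace S] [QuasiSeparatedSpace S] :
    ∃ (I : Type u) (_ : Preorder I) (_ : IsDirected I (fun a b => a ≤ b)) (_ : Nonempty I)
      (D : Iᵒᵖ ⥤ Over S) (c : Limits.Cone D) (_ : Limits.IsLimit c),
      (∀ i, IsFinite (D.obj i).hom ∧ LocallyOfFinitePresentation (D.obj i).hom) ∧
      (∀ (i j : Iᵒᵖ) (a : i ⟶ j), IsClosedImmersion (D.map a).left) ∧
      Nonempty (c.pt ≅ Over.mk f) := by
  obtain ⟨X₁, f₁, j, h1, h2, h3, h4, h5, K₀, hK₀j, hK₀, hfin⟩ := K339.FiniteClosed.exists_embedding f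
  refine ⟨Idx j.ker K₀, inferInstance, inferInstance, ⟨⟨K₀, le_rfl, hK₀j, hK₀⟩⟩,
    subD f₁ j.ker K₀, subC f₁ j.ker K₀, isLimitSubC f₁ j.ker K₀ hK₀ hK₀j,
    fun K => ⟨K339.ClosedLim.isFinite_subscheme_of_le f₁ K.unop.2.1, inferInstance⟩,
    fun K L a => inferInstance, ⟨K339.ClosedLim.closedIso f₁ j f h5 K₀⟩⟩

end Groth.Agent.S7381
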