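import Groth.Statements.S7384
import Groth.Agent.S0590
import Groth.Agent.Lim.K339.ArrowLim

set_option autoImplicit false
universe u
open CategoryTheory AlgebraicGeometry
open Lim

namespace Groth.Agent.S7384

open Limits K339.ArrowLim in
/-- Let `f : X → S` be a morphism of quasi-compact quasi-separated schemes. Then `f` is a limit of
morphisms `f_i : X_i → S_i` indexed by a nonempty directed set: there are inverse systems `X_i`,
`S_i` of quasi-compact schemes locally of finite type over `ℤ` with affine transition morphisms, a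
compatible family of morphisms `f_i`, and limit cones identified with `X` and `S` compatibly with
`f`. -/
theorem result {X S : Scheme.{u}} (f : X ⟶ S) [CompactSpace X]
    [QuasiSeparatedSpace X] [CompactSpace S] [QuasiSeparatedSpace S] :
    ∃ (I : Type u) (_ : Preorder I) (_ : IsDirected I (fun a b => a ≤ b)) (_ : Nonempty I)
      (DX DS : Iᵒᵖ ⥤ Scheme.{u}) (φ : DX ⟶ DS)
      (cX : Limits.Cone DX) (cS : Limits.Cone DS) (_ : Limits.IsLimit cX) (_ : Limits.IsLimit cS)
      (eX : cX.pt ≅ X) (eS : cS.pt ≅ S),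
      (∀ (i j : Iᵒᵖ) (a : i ⟶ j), IsAffineHom (DX.map a) ∧ IsAffineHom (DS.map a)) ∧
      (∀ i, CompactSpace (DX.obj i) ∧ CompactSpace (DS.obj i) ∧
        LocallyOfFiniteType (Limits.IsTerminal.from specULiftZIsTerminal (DX.obj i)) ∧
        LocallyOfFiniteType (Limits.IsTerminal.from specULiftZIsTerminal (DS.obj i))) ∧
      (∀ i, cX.π.app i ≫ φ.app i = eX.hom ≫ f ≫ eS.inv ≫ cS.π.app i) := by
  obtain ⟨A, _, _, _, DA, cA, hcA, hDA, hA, ⟨eX⟩⟩ := Groth.Agent.S0590.result X
  obtain ⟨B, _, _, _, DB, cB, hcB, hDB, hB, ⟨eS⟩⟩ := Groth.Agent.S0590.result S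
  have hZ : IsNoetherianRing (ULift.{u} ℤ) :=
    isNoetherianRing_of_ringEquiv ℤ ULift.ringEquiv.symm
  have hZ' : IsLocallyNoetherian (Spec (CommRingCat.of (ULift.{u} ℤ))) := by
    have : IsNoetherianRing (CommRingCat.of (ULift.{u} ℤ)) := hZ
    infer_instance
  have i1 : ∀ {i j : Aᵒᵖ} (m : i ⟶ j), IsAffineHom (DA.map m) := fun m => hDA _ _ m
  have i2 : ∀ i, CompactSpace (DA.obj i) := fun i => (hA i).1
  have i3 : ∀ i, QuasiSeparatedSpace (DA.obj i) := fun i => by
    have := (hA i).2
    have : IsLocallyNoetherian (DA.obj i) := LocallyOfFiniteType.isLocallyNoetherian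
      (Limits.IsTerminal.from specULiftZIsTerminal (DA.obj i))
    infer_instance
  have i4 : ∀ i, LocallyOfFinitePresentation (specULiftZIsTerminal.from (DB.obj i)) := fun i => by
    have := (hB i).2
    infer_instance
  let F : cA.pt ⟶ cB.pt := eX.hom ≫ f ≫ eS.inv
  have h1 := isDirected DA DB cA cB F hcA specULiftZIsTerminal
  have h2 := nonempty_tri DA DB cA cB F hcA specULiftZIsTerminal
  have h3 := final_a DA DB cA cB F hcA specULiftZIsTerminal
  have h4 := final_b DA DB cA cB F hcA specULiftZIsTerminal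
  refine ⟨Tri DA DB cA cB F, inferInstance, h1, h2, (mono_a DA DB cA cB F).functor.op ⋙ DA,
    (mono_b DA DB cA cB F).functor.op ⋙ DB, trans DA DB cA cB F, cA.whisker _, cB.whisker _,
    (Functor.Initial.isLimitWhiskerEquiv (mono_a DA DB cA cB F).functor.op cA).symm hcA,
    (Functor.Initial.isLimitWhiskerEquiv (mono_b DA DB cA cB F).functor.op cB).symm hcB,
    eX, eS, fun i j a => ⟨hDA _ _ _, hDB _ _ _⟩, fun i => ⟨(hA _).1, (hB _).1, (hA _).2, (hB _).2⟩, ?_⟩
  intro s
  refine s.unop.w.trans ?_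
  simp only [F, Category.assoc]
  rfl

end Groth.Agent.S7384
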