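import Groth.Statements.S7385
import Groth.Agent.Smoothlim.GenFinSch

set_option autoImplicit false
universe u
open CategoryTheory AlgebraicGeometry
open Mor

namespace Groth.Agent.S7385

open Groth.Agent.Smoothlim.GenFinSch in
theorem aux (X : Scheme.{u}) [QuasiSeparatedSpace X] {n : ℕ}
    (η : Fin n → X) (hη : ∀ i, closure ({η i} : Set X) ∈ irreducibleComponents (X : Type u))
    (hinj : Function.Injective η) :
    ∃ U : Fin n → X.Opens, (∀ i, IsAffineOpen (U i) ∧ η i ∈ U i) ∧
      (∀ i j, i ≠ j → Disjoint (U i) (U j)) := by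
  classical
  have hgen : ∀ i, IsGen (η i) := fun i => (isGen_iff _).2 (hη i)
  have hsep : ∀ i j, i ≠ j → ∃ P Q : Set X, IsOpen P ∧ IsOpen Q ∧ η i ∈ P ∧ η j ∈ Q ∧ Disjoint P Q :=
    fun i j hij => exists_separation _ _ (hgen i) (hgen j) fun h => hij (hinj h)
  choose! P Q hP hQ hxP hyQ hPQ using hsep
  have key : ∀ i, ∃ U : X.Opens, IsAffineOpen U ∧ η i ∈ U ∧
      ∀ j, i ≠ j → (U : Set X) ⊆ P i j ∧ (U : Set X) ⊆ Q j i := by
    intro i
    have hopen : IsOpen (⋂ j ∈ ({i}ᶜ : Set (Fin n)), (P i j ∩ Q j i)) :=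
      (Set.toFinite _).isOpen_biInter fun j hj => (hP i j (Ne.symm hj)).inter (hQ j i hj)
    obtain ⟨U, hU, hxU, hU'⟩ := exists_isAffineOpen_mem_and_subset (x := η i)
      (U := ⟨_, hopen⟩) (Set.mem_iInter₂.mpr fun j hj =>
        ⟨hxP i j (Ne.symm hj), hyQ j i hj⟩)
    refine ⟨U, hU, hxU, fun j hij => ⟨fun z hz => ?_, fun z hz => ?_⟩⟩
    · exact (Set.mem_iInter₂.mp (hU' hz) j (Ne.symm hij)).1
    · exact (Set.mem_iInter₂.mp (hU' hz) j (Ne.symm hij)).2
  choose U hU hxU hU' using key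
  refine ⟨U, fun i => ⟨hU i, hxU i⟩, fun i j hij => ?_⟩
  rw [← TopologicalSpace.Opens.coe_disjoint]
  exact (hPQ i j hij).mono (hU' i j hij).1 (hU' j i hij.symm).2

/-- Let `X` be a quasi-separated scheme and `η_1, …, η_n` pairwise distinct points, each the generic
point of an irreducible component of `X`. Then there are affine open neighbourhoods `U_i ∋ η_i`
which are pairwise disjoint, and their union is an affine open containing all the `η_i`. -/
theorem result (X : Scheme.{u}) [QuasiSeparatedSpace X] {n : ℕ}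
    (η : Fin n → X) (hη : ∀ i, closure ({η i} : Set X) ∈ irreducibleComponents (X : Type u))
    (hinj : Function.Injective η) :
    ∃ U : Fin n → X.Opens, (∀ i, IsAffineOpen (U i) ∧ η i ∈ U i) ∧
      (∀ i j, i ≠ j → Disjoint (U i) (U j)) ∧ IsAffineOpen (⨆ i, U i) := by

  obtain ⟨U, hU, hd⟩ := aux X η hη hinj
  exact ⟨U, hU, hd, IsAffineOpen.iSup_of_disjoint (fun i => (hU i).1) fun i j hij => hd i j hij⟩

end Groth.Agent.S7385
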