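import Groth.Statements.S7386
import Groth.Agent.Smoothlim.GenFinSch

set_option autoImplicit false
universe u
open CategoryTheory AlgebraicGeometry
open Mor

namespace Groth.Agent.S7386

open Groth.Agent.Smoothlim.GenFinSch in
/-- a generic point outside of an affine open `V` has an open neighbourhood disjoint from `V`. -/
theorem exists_disjoint (X : Scheme.{u}) [QuasiSeparatedSpace X] (V : X.Opens) (hV : IsAffineOpen V)
    (x : X) (hx : IsGen x) (hxV : x ∉ V) :
    ∃ P : Set X, IsOpen P ∧ x ∈ P ∧ Disjoint P V := by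
  obtain ⟨A, hA, hxA, -⟩ := exists_isAffineOpen_mem_and_subset (U := ⊤) (x := x) trivial
  have hK : IsCompact ((A : Set X) ∩ V) :=
    QuasiSeparatedSpace.inter_isCompact _ _ A.isOpen hA.isCompact V.isOpen hV.isCompact
  obtain ⟨P, hP, hxP, hPK⟩ := exists_disjoint_of_isGen A hA x hxA hx _ hK
    (A.isOpen.inter V.isOpen) Set.inter_subset_left (fun h => hxV h.2)
  refine ⟨P ∩ A, hP.inter A.isOpen, ⟨hxP, hxA⟩, ?_⟩
  rw [Set.disjoint_left] at hPK ⊢
  exact fun z hz hzB => hPK hz.1 ⟨hz.2, hzB⟩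

open Groth.Agent.Smoothlim.GenFinSch in
/-- the generic points in a finite set `E` of an open `W` lie in an affine open of `W`. -/
theorem exists_affine (X : Scheme.{u}) [QuasiSeparatedSpace X] (W : X.Opens) (E : Set X)
    (hE : E.Finite) (hgen : ∀ x ∈ E, IsGen x) (hEW : ∀ x ∈ E, x ∈ W) :
    ∃ U : X.Opens, IsAffineOpen U ∧ E ⊆ U ∧ U ≤ W := by
  obtain ⟨U, hU, hEU⟩ := exists_isAffineOpen_of_separated (X := W.toScheme) (W.ι ⁻¹' E)
    (hE.preimage W.ι.isOpenEmbedding.injective.injOn) (by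
      intro x hx y hy hxy
      obtain ⟨P, Q, hP, hQ, hxP, hyQ, hPQ⟩ := exists_separation (W.ι x) (W.ι y)
        (hgen _ hx) (hgen _ hy) (fun h => hxy (W.ι.isOpenEmbedding.injective h))
      exact ⟨W.ι ⁻¹' P, W.ι ⁻¹' Q, hP.preimage W.ι.continuous, hQ.preimage W.ι.continuous,
        hxP, hyQ, hPQ.preimage _⟩)
  refine ⟨W.ι ''ᵁ U, hU.image_of_isOpenImmersion W.ι, fun x hx => ?_, ?_⟩
  · exact ⟨⟨x, hEW x hx⟩, hEU hx, rfl⟩
  · rintro _ ⟨y, -, rfl⟩
    exact y.2

/-- Let `X` be a quasi-separated scheme, `η_1, …, η_n` generic points of irreducible components of `X`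
and `x` any point of `X`. Then some affine open of `X` contains `x` and all the `η_i`. -/
theorem result (X : Scheme.{u}) [QuasiSeparatedSpace X] {n : ℕ}
    (η : Fin n → X) (hη : ∀ i, closure ({η i} : Set X) ∈ irreducibleComponents (X : Type u)) (x : X) :
    ∃ U : X.Opens, IsAffineOpen U ∧ x ∈ U ∧ ∀ i, η i ∈ U := by

  classical
  have hgen : ∀ i, Groth.Agent.Smoothlim.GenFinSch.IsGen (η i) :=
    fun i => (Groth.Agent.Smoothlim.GenFinSch.isGen_iff _).2 (hη i)
  obtain ⟨V, hV, hxV, -⟩ := exists_isAffineOpen_mem_and_subset (U := ⊤) (x := x) trivial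
  let I : Set (Fin n) := {i | η i ∉ V}
  have hd : ∀ i ∈ I, ∃ P : Set X, IsOpen P ∧ η i ∈ P ∧ Disjoint P V :=
    fun i hi => exists_disjoint X V hV (η i) (hgen i) hi
  choose! P hP hηP hPV using hd
  let W : X.Opens := ⟨⋃ i ∈ I, P i, isOpen_biUnion hP⟩
  have hWV : Disjoint (W : Set X) V := by
    rw [Set.disjoint_left]
    intro z hz hzV
    obtain ⟨i, hi, hzi⟩ := Set.mem_iUnion₂.1 hz
    exact Set.disjoint_left.1 (hPV i hi) hzi hzV
  obtain ⟨U, hU, hEU, hUW⟩ := exists_affine X W (η '' I) ((Set.toFinite I).image η)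
    (by rintro _ ⟨i, -, rfl⟩; exact hgen i)
    (by rintro _ ⟨i, hi, rfl⟩; exact Set.mem_biUnion hi (hηP i hi))
  refine ⟨V ⊔ U, hV.sup_of_disjoint hU ?_, Or.inl hxV, fun i => ?_⟩
  · rw [← TopologicalSpace.Opens.coe_disjoint]
    exact (Set.disjoint_of_subset_left (show (U : Set X) ⊆ W from hUW) hWV).symm
  · by_cases hi : η i ∈ V
    · exact Or.inl hi
    · exact Or.inr (hEU ⟨i, hi, rfl⟩)

end Groth.Agent.S7386
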