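import Groth.Statements.S7387
import Mathlib.AlgebraicGeometry.Morphisms.Separated
import Mathlib.AlgebraicGeometry.Limits

set_option autoImplicit false
universe u
open CategoryTheory AlgebraicGeometry
open Mor

namespace Groth.Agent.S7387

open Limits in
/-- a coproduct of two separated schemes is separated -/
theorem isSeparated_coprod (V W : Scheme.{u}) [V.IsSeparated] [W.IsSeparated] :
    (V ⨿ W : Scheme.{u}).IsSeparated := by
  have h1 : IsSeparated (coprod.map (terminal.from V) (terminal.from W)) :=
    IsZariskiLocalAtTarget.coprodMap _ _ inferInstance inferInstance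
  have h2 : IsSeparated (terminal.from ((⊤_ Scheme.{u}) ⨿ (⊤_ Scheme.{u}) : Scheme.{u})) := inferInstance
  constructor
  have h3 : terminal.from (V ⨿ W) = coprod.map (terminal.from V) (terminal.from W) ≫
    terminal.from _ := Subsingleton.elim _ _
  rw [h3]
  infer_instance

open Limits in
theorem isSeparated_sup {X : Scheme.{u}} (V W : X.Opens) (hV : (V : Scheme.{u}).IsSeparated)
    (hW : (W : Scheme.{u}).IsSeparated) (hd : Disjoint V W) :
    ((V ⊔ W : X.Opens) : Scheme.{u}).IsSeparated := by
  let f := X.homOfLE (le_sup_left : V ≤ V ⊔ W)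
  let g := X.homOfLE (le_sup_right : W ≤ V ⊔ W)
  have hf : Set.range f = (V ⊔ W).ι ⁻¹' V := by
    ext x
    constructor
    · rintro ⟨y, rfl⟩
      show (f ≫ (V ⊔ W).ι) y ∈ V
      simp only [f, Scheme.homOfLE_ι]
      exact y.2
    · intro hx
      refine ⟨⟨x.1, hx⟩, ?_⟩
      apply (V ⊔ W).ι.isOpenEmbedding.injective
      show (f ≫ (V ⊔ W).ι) _ = _
      simp only [f, Scheme.homOfLE_ι]
      rfl
  have hg : Set.range g = (V ⊔ W).ι ⁻¹' W := by
    ext x
    constructor
    · rintro ⟨y, rfl⟩
      show (g ≫ (V ⊔ W).ι) y ∈ W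
      simp only [g, Scheme.homOfLE_ι]
      exact y.2
    · intro hx
      refine ⟨⟨x.1, hx⟩, ?_⟩
      apply (V ⊔ W).ι.isOpenEmbedding.injective
      show (g ≫ (V ⊔ W).ι) _ = _
      simp only [g, Scheme.homOfLE_ι]
      rfl
  have hc : IsCompl f.opensRange g.opensRange := by
    rw [isCompl_iff, disjoint_iff, codisjoint_iff, ← TopologicalSpace.Opens.coe_inj,
      ← TopologicalSpace.Opens.coe_inj]
    constructor
    · ext x
      simp only [TopologicalSpace.Opens.coe_inf, Scheme.Hom.coe_opensRange, hf, hg,
        TopologicalSpace.Opens.coe_bot, Set.mem_empty_iff_false, iff_false]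
      rintro ⟨h1, h2⟩
      exact Set.disjoint_left.1 (TopologicalSpace.Opens.coe_disjoint.2 hd) h1 h2
    · ext x
      simp only [TopologicalSpace.Opens.coe_sup, Scheme.Hom.coe_opensRange, hf, hg,
        TopologicalSpace.Opens.coe_top, Set.mem_univ, iff_true]
      exact x.2
  obtain ⟨h⟩ := nonempty_isColimit_binaryCofanMk_of_isCompl f g hc
  let e : (V : Scheme.{u}) ⨿ (W : Scheme.{u}) ≅ ((V ⊔ W : X.Opens) : Scheme.{u}) :=
    (coprodIsCoprod _ _).coconePointUniqueUpToIso h
  have h1 := isSeparated_coprod (V : Scheme.{u}) (W : Scheme.{u})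
  constructor
  have h2 : terminal.from ((V ⊔ W : X.Opens) : Scheme.{u}) = e.inv ≫ terminal.from _ :=
    Subsingleton.elim _ _
  rw [h2]
  infer_instance

/-- A quasi-compact scheme has a dense open subscheme which is separated. -/
theorem result (X : Scheme.{u}) [CompactSpace X] :
    ∃ V : X.Opens, Dense (V : Set X) ∧ (V : Scheme.{u}).IsSeparated := by

  classical
  obtain ⟨s, hs, hs'⟩ := isCompact_and_isOpen_iff_finite_and_eq_biUnion_affineOpens.mp
    (⟨isCompact_univ, isOpen_univ⟩ : IsCompact (Set.univ : Set X) ∧ IsOpen Set.univ)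
  have key : ∀ s : Finset X.affineOpens, ∃ V : X.Opens, (V : Scheme.{u}).IsSeparated ∧
      ∀ U ∈ s, ((U : X.Opens) : Set X) ⊆ closure (V : Set X) := by
    intro s
    induction s using Finset.induction_on with
    | empty =>
      have : IsAffine ((⊥ : X.Opens) : Scheme.{u}) := isAffineOpen_bot X
      exact ⟨⊥, inferInstance, by simp⟩
    | insert U s hU ih =>
      obtain ⟨V, hV, hs⟩ := ih
      let C : X.Opens := ⟨(closure (V : Set X))ᶜ, isClosed_closure.isOpen_compl⟩
      let W : X.Opens := U.1 ⊓ C
      have hUaff : IsAffine ((U : X.Opens) : Scheme.{u}) := U.2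
      have hW : (W : Scheme.{u}).IsSeparated := by
        constructor
        have : Limits.terminal.from (W : Scheme.{u}) =
          X.homOfLE (inf_le_left : W ≤ U.1) ≫ Limits.terminal.from _ := Subsingleton.elim _ _
        rw [this]
        infer_instance
      have hd : Disjoint V W := by
        rw [← TopologicalSpace.Opens.coe_disjoint, Set.disjoint_left]
        intro x hx hxW
        exact hxW.2 (subset_closure hx)
      refine ⟨V ⊔ W, isSeparated_sup V W hV hW hd, fun U' hU' => ?_⟩
      rcases Finset.mem_insert.1 hU' with rfl | hU'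
      · intro x hx
        by_cases hxV : x ∈ closure (V : Set X)
        · exact closure_mono (fun y hy => Or.inl hy) hxV
        · exact subset_closure (Or.inr ⟨hx, hxV⟩)
      · exact (hs U' hU').trans (closure_mono (fun y hy => Or.inl hy))
  obtain ⟨V, hV, hVs⟩ := key hs.toFinset
  refine ⟨V, fun x => ?_, hV⟩
  obtain ⟨U, hU, hxU⟩ := Set.mem_iUnion₂.mp (hs'.le (Set.mem_univ x))
  exact hVs U (by simpa using hU) hxU

end Groth.Agent.S7387
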