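import Groth.Statements.S7391
import Groth.Agent.Mor.K383.ProjCover

set_option autoImplicit false
universe u
open CategoryTheory AlgebraicGeometry
open Opposite
open Mor

namespace Groth.Agent.S7391

/-- Let `F` be a quasi-coherent `O_X`-module on a scheme `X`. Then `F(U)` is a projective
`O_X(U)`-module for every affine open `U` (that is, `F` is locally projective) if and only if `X`
has a covering by affine opens `U_i` with `F(U_i)` projective over `O_X(U_i)`. -/
theorem result (X : Scheme.{u}) (F : X.Modules) [Coh.IsQCoh F] :
    (∀ U : X.Opens, IsAffineOpen U → Module.Projective (X.ringCatSheaf.obj.obj (op U)) (F.val.obj (op U))) ↔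
      ∃ (I : Type u) (U : I → X.Opens), (⨆ i, U i) = ⊤ ∧ ∀ i, IsAffineOpen (U i) ∧
        Module.Projective (X.ringCatSheaf.obj.obj (op (U i))) (F.val.obj (op (U i))) := by
  constructor
  · intro h
    refine ⟨X.affineOpens, fun V => V.1, ?_, fun V => ⟨V.2, h V.1 V.2⟩⟩
    exact iSup_affineOpens_eq_top X
  · rintro ⟨I, U, hU, h⟩ V hV
    exact K383.ProjCover.projective_sections ‹_› U (fun i => (h i).1) hU (fun i => (h i).2) V hV

end Groth.Agent.S7391
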