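import Groth.Statements.S7392
import Groth.Agent.Mor.K383.ProjCover

set_option autoImplicit false
universe u
open CategoryTheory AlgebraicGeometry
open Opposite
open Mor

namespace Groth.Agent.S7392

theorem projective_of_ringEquiv {R S M : Type*} [CommRing R] [CommRing S] [AddCommGroup M]
    [Module R M] [Module S M] (e : R ≃+* S) (h : ∀ (r : R) (x : M), r • x = e r • x)
    [Module.Projective R M] : Module.Projective S M :=
  have _ := RingHomInvPair.of_ringEquiv e
  have _ := RingHomInvPair.of_ringEquiv e.symm
  let f : M ≃ₛₗ[(e : R →+* S)] M :=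
    { toFun := fun x => x, invFun := fun x => x, map_add' := fun _ _ => rfl, map_smul' := h,
      left_inv := fun _ => rfl, right_inv := fun _ => rfl }
  Module.Projective.of_equiv f

/-- projectivity over `A` and over `Γ(Spec A, ⊤)`. -/
theorem projective_top_iff (A : CommRingCat.{u}) (N : (Spec A).Modules) :
    Module.Projective Γ(Spec A, ⊤) Γ(N, ⊤) ↔ Module.Projective A Γ(N, ⊤) := by
  let e₁ : A ≃+* Γ(Spec A, ⊤) := (Scheme.ΓSpecIso A).symm.commRingCatIsoToRingEquiv
  have hsmul : ∀ (r : A) (x : Γ(N, ⊤)), r • x = e₁ r • x := by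
    intro r x
    rw [Scheme.Modules.smul_Spec_def]
    congr 1
  have hsmul' : ∀ (r : Γ(Spec A, ⊤)) (x : Γ(N, ⊤)), r • x = e₁.symm r • x := by
    intro r x
    rw [hsmul, RingEquiv.apply_symm_apply]
  exact ⟨fun _ => projective_of_ringEquiv e₁.symm hsmul', fun _ => projective_of_ringEquiv e₁ hsmul⟩

/-- For a ring `A` and an `A`-module `M`, the module `M~` on `Spec A` is locally projective (projective
sections over every affine open) if and only if `M` is a projective `A`-module. -/
theorem result (A : CommRingCat.{u}) (M : ModuleCat.{u} A) :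
    (∀ U : (Spec A).Opens, IsAffineOpen U →
      Module.Projective ((Spec A).ringCatSheaf.obj.obj (op U)) ((tilde M).val.obj (op U))) ↔
      Module.Projective A M := by

  have key : Module.Projective Γ(Spec A, ⊤) Γ(tilde M, ⊤) ↔ Module.Projective A M := by
    rw [projective_top_iff]
    let e : M ≃ₗ[A] Γ(tilde M, ⊤) := (tilde.isoTop M).toLinearEquiv
    exact ⟨fun h => Module.Projective.of_equiv e.symm, fun h => Module.Projective.of_equiv e⟩
  constructor
  · intro h
    exact key.1 (h ⊤ (isAffineOpen_top _))
  · intro h U hU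
    have hq : Coh.IsQCoh (tilde M) := inferInstanceAs ((tilde M).IsQuasicoherent)
    exact K383.ProjCover.projective_sections hq (fun _ : Unit => ⊤) (fun _ => isAffineOpen_top _)
      (by simp) (fun _ => key.2 h) U hU

end Groth.Agent.S7392
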