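import Groth.Statements.S7393
import Groth.Agent.Mor.K383.GSch

set_option autoImplicit false
universe u
open CategoryTheory AlgebraicGeometry
open Mor

namespace Groth.Agent.S7393

/-- A scheme `X` is a G-scheme (every point has an affine open neighbourhood whose coordinate ring is a
G-ring) if and only if `X` is locally Noetherian and, for every closed point `x`, the completion map
of the local ring `O_{X,x} → O_{X,x}^∧` is a regular ring map. -/
theorem result (X : Scheme.{u}) :
    (∀ x : X, ∃ U : X.Opens, x ∈ U ∧ IsAffineOpen U ∧ CAlg.IsGRing Γ(X, U)) ↔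
      IsLocallyNoetherian X ∧ ∀ x : X, IsClosed ({x} : Set X) →
        CAlg.IsRegularHom (X.presheaf.stalk x)
          (AdicCompletion (IsLocalRing.maximalIdeal (X.presheaf.stalk x)) (X.presheaf.stalk x)) := by
  constructor
  · intro h
    have hN := Groth.Agent.Mor.K383.GSch.isLocallyNoetherian_of_gScheme h
    refine ⟨hN, fun x _ ↦ ?_⟩
    obtain ⟨V, hxV, hV, hG⟩ := h x
    exact Groth.Agent.Mor.K383.GSch.regAt_of_isGRing hV hG ⟨x, hxV⟩
  · rintro ⟨hN, h⟩ x
    obtain ⟨_, ⟨W, hW, rfl⟩, hyW, -⟩ :=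
      X.isBasis_affineOpens.exists_subset_of_mem_open (Set.mem_univ x) isOpen_univ
    refine ⟨W, hyW, hW, Groth.Agent.Mor.K383.GSch.isGRing_of_regAt hW
      (IsLocallyNoetherian.component_noetherian ⟨W, hW⟩) fun y _ ↦ ?_⟩
    obtain ⟨z, hyz, hz⟩ := Groth.Agent.Mor.K383.GSch.exists_specializes_isClosed y
    exact Groth.Agent.Mor.K383.GSch.RegAt.of_specializes hyz (h z hz)

end Groth.Agent.S7393
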