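import Groth.Statements.S7394
import Groth.Agent.Lim.K339.CommonExt
import Mathlib.AlgebraicGeometry.ResidueField

set_option autoImplicit false
universe u
open CategoryTheory AlgebraicGeometry
open Lim

namespace Groth.Agent.S7394

/-- The residue field of a point over `s` as an extension of the residue field at `s`. -/
theorem exists_map {T S : Scheme.{u}} (f : T ⟶ S) {s : S} {t : T} (h : f t = s) :
    ∃ φ : S.residueField s ⟶ T.residueField t,
      Spec.map φ ≫ S.fromSpecResidueField s = T.fromSpecResidueField t ≫ f := by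
  subst h
  exact ⟨f.residueFieldMap t, f.SpecMap_residueFieldMap_fromSpecResidueField t⟩

/-- Let `S` be a scheme and `T_i → S`, `i ∈ I`, surjective affine morphisms. Then any product of the
`T_i` in the category of schemes over `S` maps surjectively onto `S`. -/
theorem result {S : Scheme.{u}} {I : Type u} (T : I → Over S)
    (hT : ∀ i, IsAffineHom (T i).hom ∧ Surjective (T i).hom) (c : Limits.Fan T) (hc : Limits.IsLimit c) :
    Surjective c.pt.hom := by
  refine ⟨fun s => ?_⟩
  have hS : ∀ i, ∃ t : (T i).left, (T i).hom t = s := fun i => (hT i).2.surj s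
  choose t ht using hS
  choose φ hφ using fun i => exists_map (T i).hom (ht i)
  let k := S.residueField s
  let K : I → Type u := fun i => (T i).left.residueField (t i)
  let _ : ∀ i, Algebra k (K i) := fun i => (φ i).hom.toAlgebra
  obtain ⟨Ω, _, _, _, hΩ⟩ := K339.CommonExt.exists_common k K
  let σ : ∀ i, K i →ₐ[k] Ω := fun i => (hΩ i).some
  let ψ : k ⟶ CommRingCat.of Ω := CommRingCat.ofHom (algebraMap k Ω)
  let τ : ∀ i, (T i).left.residueField (t i) ⟶ CommRingCat.of Ω := fun i => CommRingCat.ofHom (σ i).toRingHom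
  have hψ : ∀ i, φ i ≫ τ i = ψ := fun i => by
    ext x
    exact (σ i).commutes x
  let P : Over S := Over.mk (Spec.map ψ ≫ S.fromSpecResidueField s)
  let g : ∀ i, P ⟶ T i := fun i => Over.homMk
    (Spec.map (τ i) ≫ (T i).left.fromSpecResidueField (t i)) (by
      have : P.hom = Spec.map ψ ≫ S.fromSpecResidueField s := rfl
      rw [Category.assoc, ← hφ i, ← Spec.map_comp_assoc, hψ i, this])
  let l : P ⟶ c.pt := hc.lift (Limits.Fan.mk P g)
  obtain ⟨x⟩ : Nonempty (Spec (CommRingCat.of Ω)) := inferInstance
  refine ⟨l.left x, ?_⟩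
  have h1 : l.left ≫ c.pt.hom = P.hom := Over.w l
  have h2 : c.pt.hom (l.left x) = P.hom x := by
    rw [← h1]
    rfl
  rw [h2]
  change (Spec.map ψ ≫ S.fromSpecResidueField s) x = s
  rw [Scheme.Hom.comp_apply]
  exact Scheme.fromSpecResidueField_apply s _

end Groth.Agent.S7394
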