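import Groth.Statements.S7396
import Groth.Agent.Lim.K339.FiniteClosed

set_option autoImplicit false
universe u
open CategoryTheory AlgebraicGeometry
open Lim

namespace Groth.Agent.S7396

open Groth.Agent.Smoothlim.ClosedFP in
/-- Let `f : X → S` be finite with `S` quasi-compact and quasi-separated. Then there are a morphism `f'
: X' → S` which is finite and of finite presentation and a closed immersion `X → X'` over `S`. -/
theorem result {X S : Scheme.{u}} (f : X ⟶ S) [IsFinite f]
    [CompactSpace S] [QuasiSeparatedSpace S] :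
    ∃ (X' : Scheme.{u}) (f' : X' ⟶ S) (j : X ⟶ X'), IsFinite f' ∧ LocallyOfFinitePresentation f' ∧
      IsClosedImmersion j ∧ j ≫ f' = f := by
  obtain ⟨X₁, f₁, j, h1, h2, h3, h4, h5, K₀, hK₀j, hK₀, hfin⟩ := K339.FiniteClosed.exists_embedding f
  have := locallyOfFinitePresentation_subschemeι K₀ hK₀
  refine ⟨K₀.subscheme, K₀.subschemeι ≫ f₁, j.toImage ≫ Scheme.IdealSheafData.inclusion hK₀j, hfin,
    inferInstance, inferInstance, ?_⟩
  rw [Category.assoc, Scheme.IdealSheafData.inclusion_subschemeι_assoc]
  exact K339.ClosedLim.toImage_comp f₁ j f h5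

end Groth.Agent.S7396
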