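import Groth.Statements.S7405
import Groth.Agent.Mor.K383.UHColim

set_option autoImplicit false
universe u
open CategoryTheory AlgebraicGeometry
open Mor

namespace Groth.Agent.S7405

theorem dict (A : CommRingCat.{u}) {J : Type u} [SmallCategory J]
    [IsFiltered J] (F : J ⥤ Under A) (c : Limits.Cocone F) (hc : Limits.IsColimit c) :
    (∀ j, ((c.ι.app j).right.hom.comp (F.obj j).hom.hom : A →+* c.pt.right) = c.pt.hom.hom) ∧
    (∀ b : c.pt.right, ∃ j, ∃ x : (F.obj j).right, (c.ι.app j).right.hom x = b) ∧
    (∀ j, ∀ x : (F.obj j).right, (c.ι.app j).right.hom x = 0 →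
      ∃ j' : J, ∃ f : (F.obj j).right →+* (F.obj j').right, f x = 0 ∧
        f.comp (F.obj j).hom.hom = (F.obj j').hom.hom) := by
  have hc' : Limits.IsColimit ((Under.forget A).mapCocone c) := Limits.isColimitOfPreserves _ hc
  refine ⟨fun j => ?_, fun b => ?_, fun j x hx => ?_⟩
  · have := Under.w (c.ι.app j)
    exact congrArg CommRingCat.Hom.hom this
  · obtain ⟨j, x, hx⟩ := Limits.Concrete.isColimit_exists_rep _ hc' b
    exact ⟨j, x, hx⟩
  · obtain ⟨j', f, g, hfg⟩ := Limits.Concrete.isColimit_exists_of_rep_eq _ hc' x (0 : (F.obj j).right)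
      (by
        show (c.ι.app j).right.hom x = (c.ι.app j).right.hom 0
        rw [hx, map_zero])
    refine ⟨j', (F.map f).right.hom, ?_, ?_⟩
    · have h1 : (F.map f).right.hom x = (F.map g).right.hom 0 := hfg
      rw [h1, map_zero]
    · have := Under.w (F.map f)
      exact congrArg CommRingCat.Hom.hom this

/-- Let `A` be a ring and `B` the colimit of a filtered diagram `j ↦ B_j` of `A`-algebras. Each of the
following properties, when it holds for every `Spec B_j → Spec A`, holds for `Spec B → Spec A`:
being a universal homeomorphism; being a universal homeomorphism with trivial residue field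
extensions; being universally closed; being both universally closed and universally injective. -/
theorem result (A : CommRingCat.{u}) {J : Type u} [SmallCategory J]
    [IsFiltered J] (F : J ⥤ Under A) (c : Limits.Cocone F) (hc : Limits.IsColimit c) :
    ((∀ j, FlatMor.IsUnivHomeo (Spec.map (F.obj j).hom)) → FlatMor.IsUnivHomeo (Spec.map c.pt.hom)) ∧
    ((∀ j, FlatMor.IsUnivHomeo (Spec.map (F.obj j).hom) ∧
        ∀ x : Spec (F.obj j).right, Function.Surjective ((Spec.map (F.obj j).hom).residueFieldMap x)) →
      FlatMor.IsUnivHomeo (Spec.map c.pt.hom) ∧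
        ∀ x : Spec c.pt.right, Function.Surjective ((Spec.map c.pt.hom).residueFieldMap x)) ∧
    ((∀ j, UniversallyClosed (Spec.map (F.obj j).hom)) → UniversallyClosed (Spec.map c.pt.hom)) ∧
    ((∀ j, UniversallyClosed (Spec.map (F.obj j).hom) ∧ UniversallyInjective (Spec.map (F.obj j).hom)) →
      UniversallyClosed (Spec.map c.pt.hom) ∧ UniversallyInjective (Spec.map c.pt.hom)) := by

  obtain ⟨hcomp, hsurj, hker⟩ := dict A F c hc
  have hne : Nonempty J := IsFiltered.nonempty
  have hU : (∀ j, FlatMor.IsUnivHomeo (Spec.map (F.obj j).hom)) →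
      FlatMor.IsUnivHomeo (Spec.map c.pt.hom) := by
    intro h
    have h' := fun j => (K383.UH.isUnivHomeo_iff (F.obj j).hom.hom).1 (h j)
    refine (K383.UH.isUnivHomeo_iff c.pt.hom.hom).2 ⟨?_, ?_, ?_⟩
    · exact K383.UH.isIntegral_colim c.pt.hom.hom (fun j => (F.obj j).right)
        (fun j => (F.obj j).hom.hom) (fun j => (c.ι.app j).right.hom) hcomp hsurj (fun j => (h' j).1)
    · exact K383.UH.ker_colim c.pt.hom.hom (fun j => (F.obj j).right)
        (fun j => (F.obj j).hom.hom) (fun j => (c.ι.app j).right.hom) hcomp hsurj hker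
        (fun j => (h' j).2.1)
    · exact K383.UH.kinj_colim c.pt.hom.hom (fun j => (F.obj j).right)
        (fun j => (F.obj j).hom.hom) (fun j => (c.ι.app j).right.hom) hcomp hsurj (fun j => (h' j).2.2)
  have hC : (∀ j, UniversallyClosed (Spec.map (F.obj j).hom)) →
      UniversallyClosed (Spec.map c.pt.hom) := by
    intro h
    refine (K383.UH.universallyClosed_iff c.pt.hom.hom).2 ?_
    exact K383.UH.isIntegral_colim c.pt.hom.hom (fun j => (F.obj j).right)
        (fun j => (F.obj j).hom.hom) (fun j => (c.ι.app j).right.hom) hcomp hsurj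
        (fun j => (K383.UH.universallyClosed_iff _).1 (h j))
  refine ⟨hU, fun h => ⟨hU fun j => (h j).1, ?_⟩, hC, fun h => ⟨hC fun j => (h j).1, ?_⟩⟩
  · refine (K383.UH.residue_iff c.pt.hom.hom).2 ?_
    exact fun Q _ b => K383.UH.residue_colim c.pt.hom.hom (fun j => (F.obj j).right)
        (fun j => (F.obj j).hom.hom) (fun j => (c.ι.app j).right.hom) hcomp hsurj
        (fun j => (K383.UH.residue_iff _).1 (h j).2) Q b
  · refine (K383.UH.universallyInjective_iff c.pt.hom.hom).2 ?_
    exact K383.UH.kinj_colim c.pt.hom.hom (fun j => (F.obj j).right)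
        (fun j => (F.obj j).hom.hom) (fun j => (c.ι.app j).right.hom) hcomp hsurj
        (fun j => (K383.UH.universallyInjective_iff _).1 (h j).2)

end Groth.Agent.S7405
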