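import Groth.Statements.S7408
import Groth.Agent.Desc.K388.EtaleFib
import Groth.Agent.S1146

set_option autoImplicit false
universe u
open CategoryTheory AlgebraicGeometry
open Desc

namespace Groth.Agent.S7408

/-- The local dimension of the fibre at a point is étale local on the source-and-target: for a
commutative square with horizontal maps `h' : U' → V'`, `h : U → V`, étale vertical maps `a : U' →
U`, `b : V' → V` and `u' ∈ U'`, the local dimension at `a(u')` of the fibre of `h` equals the local
dimension at `u'` of the fibre of `h'`. -/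
theorem result {U U' V V' : Scheme.{u}} (h : U ⟶ V) (h' : U' ⟶ V') (a : U' ⟶ U)
    (b : V' ⟶ V) [Etale a] [Etale b] (comm : h' ≫ b = a ≫ h) (u' : U') :
    FlatMor.fibreDimAt h (a u') = FlatMor.fibreDimAt h' u' := by
  have hpt : b (h' u') = h (a u') := congrArg (fun φ : U' ⟶ V => φ u') comm
  let φ : h'.fiber (h' u') ⟶ h.fiber (b (h' u')) :=
    Limits.pullback.lift (h'.fiberι (h' u') ≫ a) (h'.fiberToSpecResidueField (h' u') ≫ Spec.map (b.residueFieldMap (h' u')))
      (by
        rw [Category.assoc, ← comm, ← Category.assoc, Scheme.Hom.fiber_fac]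
        simp)
  have hφ1 : φ ≫ h.fiberι (b (h' u')) = h'.fiberι (h' u') ≫ a := Limits.pullback.lift_fst _ _ _
  have hφ2 : φ ≫ h.fiberToSpecResidueField (b (h' u')) =
      h'.fiberToSpecResidueField (h' u') ≫ Spec.map (b.residueFieldMap (h' u')) := Limits.pullback.lift_snd _ _ _
  have hφ : Etale φ := K388.EtaleFib.etale_fiberMap h h' a b comm (h' u') φ hφ1 hφ2
  have key : ∀ {y : V} (hy : y = b (h' u')) (z : h.fiber y), h.fiberι y z = a u' →
      FlatMor.localDim (h.fiber y) z = FlatMor.localDim (h'.fiber (h' u')) (h'.asFiber u') := by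
    rintro _ rfl z hz
    rw [Groth.Agent.S1146.result φ (h'.asFiber u')]
    congr 1
    apply (h.fiberι (b (h' u'))).isEmbedding.injective
    rw [hz]
    have := congrArg (fun ψ : h'.fiber (h' u') ⟶ U => ψ (h'.asFiber u')) hφ1
    refine Eq.trans ?_ this.symm
    show a u' = a (h'.fiberι (h' u') (h'.asFiber u'))
    rw [Scheme.Hom.fiberι_asFiber]
  exact key hpt.symm (h.asFiber (a u')) (h.fiberι_asFiber (a u'))

end Groth.Agent.S7408
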