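import Groth.Statements.S7409
import Groth.Agent.S7395
import Groth.Agent.Lim.K339.SepModel
import Groth.Agent.Lim.K339.ChowStep

set_option autoImplicit false
universe u
open CategoryTheory AlgebraicGeometry
open Lim

namespace Groth.Agent.S7409

/-- Chow's lemma for finite type morphisms over a quasi-compact quasi-separated base: let `S` be
quasi-compact and quasi-separated and `f : X → S` separated of finite type. Then for some `n` there
are a scheme `X'`, a proper surjective `π : X' → X` and an immersion `X' → P^n_S` compatible with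
the maps to `S`. -/
theorem result {X S : Scheme.{u}} (f : X ⟶ S) [CompactSpace S] [QuasiSeparatedSpace S]
    [IsSeparated f] [LocallyOfFiniteType f] [QuasiCompact f] :
    ∃ (n : ℕ) (X' : Scheme.{u}) (π : X' ⟶ X) (j : X' ⟶ CohB1.ProjSpaceOver n S),
      IsImmersion j ∧ j ≫ CohB1.ProjSpaceOver.toBase n S = π ≫ f ∧ IsProper π ∧ Surjective π := by
  obtain ⟨Y, g, i, h1, h2, h3, h4, h5⟩ := Groth.Agent.S7395.result f
  obtain ⟨I, _, _, D, c, hc, e, k, Y₀, g₀, q, sq, h6, h7, h8, hD, hN⟩ := K339.SepModel.exists_model g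
  have hk := hN k
  let p : S ⟶ D.obj k := e.inv ≫ c.π.app k
  have sq' : IsPullback q g g₀ p := by
    refine sq.of_iso (Iso.refl _) (Iso.refl _) e (Iso.refl _) (by simp) (by simp) (by simp) (by simp [p])
  have w : (i ≫ q) ≫ g₀ = f ≫ p := by rw [Category.assoc, sq'.w, reassoc_of% h5]
  have himm : IsImmersion (Limits.pullback.lift (i ≫ q) f w) := by
    have hl : Limits.pullback.lift (i ≫ q) f w = i ≫ sq'.isoPullback.hom := by
      apply Limits.pullback.hom_ext
      · rw [Limits.pullback.lift_fst, Category.assoc, sq'.isoPullback_hom_fst]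
      · rw [Limits.pullback.lift_snd, Category.assoc, sq'.isoPullback_hom_snd, h5]
    rw [hl]
    infer_instance
  obtain ⟨n, X', π, j, a1, a2, a3, a4, -⟩ := K339.ChowStep.chow_step f (i ≫ q) g₀ p w himm
  exact ⟨n, X', π, j, a1, a2, a3, a4⟩

end Groth.Agent.S7409
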