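import Groth.Statements.S7412
import Mathlib.Algebra.Module.CharacterModule
import Mathlib.LinearAlgebra.TensorProduct.Basic

set_option autoImplicit false
universe u
open Desc

namespace Groth.Agent.S7412

/-- Exchange the two arguments of a pairing with values in the character group. -/
private noncomputable def flip {R : Type*} [CommRing R] {A B : Type*} [AddCommGroup A] [Module R A]
    [AddCommGroup B] [Module R B] (φ : A →ₗ[R] CharacterModule B) : B →ₗ[R] CharacterModule A where
  toFun b := AddMonoidHom.mk' (fun a => φ a b) fun a a' => by rw [map_add]; rfl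
  map_add' b b' := by
    ext a
    show φ a (b + b') = φ a b + φ a b'
    exact map_add (φ a) b b'
  map_smul' r b := by
    ext a
    show φ a (r • b) = φ (r • a) b
    rw [φ.map_smul]; rfl

private theorem flip_apply {R : Type*} [CommRing R] {A B : Type*} [AddCommGroup A] [Module R A]
    [AddCommGroup B] [Module R B] (φ : A →ₗ[R] CharacterModule B) (a : A) (b : B) :
    flip φ b a = φ a b := rfl

/-- Let `R` be a ring and `f : M → N` a map of `R`-modules. Then `f` is universally injective (`f ⊗ 1_P`
is injective for every `R`-module `P`; here `P` ranges over modules in the same universe, which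
suffices) if and only if the map of character modules `C(N) → C(M)`, `C(-) = Hom_ℤ(-, ℚ/ℤ)`, is a
split surjection of `R`-modules. -/
theorem result {R : Type u} [CommRing R] {M N : Type u}
    [AddCommGroup M] [Module R M] [AddCommGroup N] [Module R N] (f : M →ₗ[R] N) :
    (∀ (P : Type u) [AddCommGroup P] [Module R P], Function.Injective (f.lTensor P)) ↔
      ∃ g : CharacterModule M →ₗ[R] CharacterModule N, (CharacterModule.dual f).comp g = LinearMap.id := by
  constructor
  · intro h
    have h1 : Function.Injective (f.rTensor (CharacterModule M)) := by
      rw [← LinearMap.lTensor_inj_iff_rTensor_inj]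
      exact h (CharacterModule M)
    rw [rTensor_injective_iff_lcomp_surjective] at h1
    obtain ⟨k, hk⟩ := h1 (flip LinearMap.id)
    refine ⟨flip k, ?_⟩
    ext χ m
    show flip k χ (f m) = χ m
    rw [flip_apply]
    have h2 : k (f m) = flip (LinearMap.id : CharacterModule M →ₗ[R] CharacterModule M) m :=
      DFunLike.congr_fun hk m
    rw [h2]; rfl
  · rintro ⟨g, hg⟩ P _ _
    rw [LinearMap.lTensor_inj_iff_rTensor_inj, rTensor_injective_iff_lcomp_surjective]
    intro φ
    refine ⟨flip (g ∘ₗ flip φ), ?_⟩
    ext m p
    show g (flip φ p) (f m) = φ m p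
    have h2 : (CharacterModule.dual f) (g (flip φ p)) = flip φ p := DFunLike.congr_fun hg _
    have h3 := DFunLike.congr_fun h2 m
    exact h3

end Groth.Agent.S7412
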