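import Groth.Statements.S7413
import Groth.Agent.Mor.K383.ProjCover

set_option autoImplicit false
universe u
open CategoryTheory AlgebraicGeometry
open Opposite
open Mor

namespace Groth.Agent.S7413

open Groth.Agent.VarietyB.PullSec in
theorem projective_pullback {X Y : Scheme.{u}} (f : X ⟶ Y) (G : Y.Modules) (hG : Coh.IsQCoh G)
    {V : Y.Opens} {W : X.Opens} (h : W ≤ f ⁻¹ᵁ V) (hV : IsAffineOpen V) (hW : IsAffineOpen W)
    (hp : Module.Projective Γ(Y, V) Γ(G, V)) :
    Module.Projective Γ(X, W) Γ((Scheme.Modules.pullback f).obj G, W) := by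
  let j1 : Algebra Γ(Y, V) Γ(X, W) := (f.appLE V W h).hom.toAlgebra
  let j2 := secModule f G h
  have j3 : IsScalarTower Γ(Y, V) Γ(X, W) Γ((Scheme.Modules.pullback f).obj G, W) :=
    ⟨fun a b c => by rw [Algebra.smul_def, mul_smul]; rfl⟩
  exact Module.Projective.of_equiv (isBaseChange_secₗ f G h hG hV hW).equiv

/-- Let `f : X → Y` be a morphism of schemes and `G` a quasi-coherent, locally projective `O_Y`-module
(projective sections over every affine open). Then `f^* G` is locally projective on `X`. -/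
theorem result {X Y : Scheme.{u}} (f : X ⟶ Y) (G : Y.Modules) [Coh.IsQCoh G]
    (hG : ∀ V : Y.Opens, IsAffineOpen V → Module.Projective (Y.ringCatSheaf.obj.obj (op V)) (G.val.obj (op V)))
    (U : X.Opens) (hU : IsAffineOpen U) :
    Module.Projective (X.ringCatSheaf.obj.obj (op U)) (((Scheme.Modules.pullback f).obj G).val.obj (op U)) := by

  have hq := Groth.Agent.VarietyB.PullSec.isQCoh_pullback f G ‹_›
  refine K383.ProjCover.projective_sections hq
    (fun p : {p : X.affineOpens × Y.affineOpens // p.1.1 ≤ f ⁻¹ᵁ p.2.1} => p.1.1.1)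
    (fun p => p.1.1.2) ?_ (fun p => projective_pullback f G ‹_› p.2 p.1.2.2 p.1.1.2 (hG _ p.1.2.2)) U hU
  rw [eq_top_iff]
  intro x _
  obtain ⟨V, hV, hxV, -⟩ := exists_isAffineOpen_mem_and_subset (X := Y) (U := ⊤) (x := f x) trivial
  obtain ⟨W, hW, hxW, hWV⟩ := exists_isAffineOpen_mem_and_subset (X := X) (U := f ⁻¹ᵁ V) (x := x) hxV
  rw [TopologicalSpace.Opens.mem_iSup]
  exact ⟨⟨⟨⟨W, hW⟩, ⟨V, hV⟩⟩, hWV⟩, hxW⟩

end Groth.Agent.S7413
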