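import Groth.Statements.S7416

set_option autoImplicit false
universe u
open CategoryTheory AlgebraicGeometry
open Mor

namespace Groth.Agent.S7416

/-- Let `U`, `V` be affine schemes and `W → U`, `W → V` open immersions. Then every `w ∈ W` has an open
neighbourhood `W' ⊆ W` whose images in `U` and in `V` are standard opens `D(f) ⊆ U`, `D(g) ⊆ V` (in
particular `W'` is affine). -/
theorem result {U V W : Scheme.{u}} [IsAffine U]
    [IsAffine V] (i : W ⟶ U) (j : W ⟶ V) [IsOpenImmersion i] [IsOpenImmersion j] (w : W) :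
    ∃ (W' : W.Opens) (f : Γ(U, ⊤)) (g : Γ(V, ⊤)), w ∈ W' ∧ i ''ᵁ W' = U.basicOpen f ∧ j ''ᵁ W' = V.basicOpen g := by
  obtain ⟨f₀, hf₀, hwf₀⟩ := (isAffineOpen_top U).exists_basicOpen_le (V := i.opensRange)
    ⟨i.base w, ⟨w, rfl⟩⟩ trivial
  let W₁ : W.Opens := i ⁻¹ᵁ U.basicOpen f₀
  have hW₁ : i ''ᵁ W₁ = U.basicOpen f₀ := by
    rw [Scheme.Hom.image_preimage_eq_opensRange_inf]
    exact inf_eq_right.mpr hf₀
  obtain ⟨g₀, hg₀, hwg₀⟩ := (isAffineOpen_top V).exists_basicOpen_le (V := j ''ᵁ W₁)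
    ⟨j.base w, ⟨w, hwf₀, rfl⟩⟩ trivial
  let W₂ : W.Opens := j ⁻¹ᵁ V.basicOpen g₀
  have hW₂ : j ''ᵁ W₂ = V.basicOpen g₀ := by
    rw [Scheme.Hom.image_preimage_eq_opensRange_inf]
    exact inf_eq_right.mpr (hg₀.trans (j.image_le_opensRange W₁))
  have hW₂₁ : W₂ ≤ W₁ := by
    have := (j.image_le_image_iff W₂ W₁).mp (hW₂.trans_le hg₀)
    exact this
  let t : Γ(W, W₁) := j.appLE ⊤ W₁ le_top g₀
  have ht : W.basicOpen t = W₂ := by
    exact (Scheme.basicOpen_appLE j W₁ ⊤ le_top g₀).trans (inf_eq_right.mpr hW₂₁)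
  have h1 : i ''ᵁ W₂ = U.basicOpen ((i.appIso W₁).inv t) := by
    rw [← ht, Scheme.image_basicOpen]
  have h2 : U.basicOpen (U.presheaf.map (eqToHom hW₁.symm).op ((i.appIso W₁).inv t)) =
      U.basicOpen ((i.appIso W₁).inv t) := by
    rw [Scheme.basicOpen_res_eq]
  obtain ⟨f, hf⟩ := (isAffineOpen_top U).basicOpen_basicOpen_is_basicOpen f₀
    (U.presheaf.map (eqToHom hW₁.symm).op ((i.appIso W₁).inv t))
  refine ⟨W₂, f, g₀, hwg₀, ?_, hW₂⟩
  rw [h1, hf, h2]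

end Groth.Agent.S7416
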