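import Groth.Statements.S7431
import Mathlib.AlgebraicGeometry.Morphisms.OpenImmersion
import Mathlib.CategoryTheory.Limits.Types.Pullbacks

set_option autoImplicit false
universe u
open CategoryTheory AlgebraicGeometry
open Lim

namespace Groth.Agent.S7431

section algebra

variable {B B' R R' : Type u} [CommRing B] [CommRing B'] [CommRing R] [CommRing R'] (s : B →+* R)
  (t : R' →+* R) (p : B' →+* B) (q : B' →+* R')

/-- Localizing a cartesian square: the map `B'_h → R'_{q(h)}` is bijective if `B_{p(h)} → R_{s(p(h))}` is. -/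
theorem bijective_awayMap (hw : ∀ x, s (p x) = t (q x)) (hinj : ∀ x y, p x = p y → q x = q y → x = y)
    (hsur : ∀ b r, s b = t r → ∃ x, p x = b ∧ q x = r) (h : B')
    (hb : Function.Bijective (Localization.awayMap s (p h))) :
    Function.Bijective (Localization.awayMap q h) := by
  have hmap : ∀ {P Q : Type u} [CommRing P] [CommRing Q] (f : P →+* Q) (r x : P),
      Localization.awayMap f r (algebraMap P _ x) = algebraMap Q _ (f x) := fun f r x =>
    IsLocalization.map_eq _ _
  have hunit : ∀ {P : Type u} [CommRing P] (r : P) (n : ℕ),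
      IsUnit (algebraMap P (Localization.Away r) (r ^ n)) := fun r n =>
    IsLocalization.map_units (Localization.Away r) (⟨r ^ n, n, rfl⟩ : Submonoid.powers r)
  constructor
  · rw [injective_iff_map_eq_zero]
    intro z hz
    obtain ⟨x, ⟨_, n, rfl⟩, rfl⟩ := IsLocalization.exists_mk'_eq (Submonoid.powers h) z
    rw [IsLocalization.mk'_eq_zero_iff]
    have h1 : algebraMap R' (Localization.Away (q h)) (q x) = 0 := by
      have e := IsLocalization.mk'_spec (Localization.Away h) x (⟨h ^ n, n, rfl⟩ : Submonoid.powers h)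
      rw [← hmap q h x, ← e, map_mul, hz, zero_mul]
    rw [IsLocalization.map_eq_zero_iff (Submonoid.powers (q h))] at h1
    obtain ⟨⟨_, m, rfl⟩, hm⟩ := h1
    have hm : q h ^ m * q x = 0 := hm
    have h2 : algebraMap B (Localization.Away (p h)) (p (h ^ m * x)) = 0 := by
      refine hb.1 ?_
      have e3 : s (p (h ^ m * x)) = 0 := by rw [hw, map_mul, map_pow, hm, map_zero]
      rw [hmap, e3, map_zero, map_zero]
    rw [IsLocalization.map_eq_zero_iff (Submonoid.powers (p h))] at h2
    obtain ⟨⟨_, k, rfl⟩, hk⟩ := h2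
    have hk : p h ^ k * p (h ^ m * x) = 0 := hk
    refine ⟨⟨h ^ (k + m), k + m, rfl⟩, ?_⟩
    change h ^ (k + m) * x = 0
    refine hinj _ _ ?_ ?_
    · rw [pow_add, mul_assoc, map_mul, map_pow, hk, map_zero]
    · rw [pow_add, mul_assoc, map_mul, map_mul, map_pow q h m, hm, mul_zero, map_zero]
  · intro z
    obtain ⟨y, ⟨_, n, rfl⟩, rfl⟩ := IsLocalization.exists_mk'_eq (Submonoid.powers (q h)) z
    obtain ⟨b', hb'⟩ := hb.2 (algebraMap R (Localization.Away (s (p h))) (t y))
    obtain ⟨b, ⟨_, m, rfl⟩, rfl⟩ := IsLocalization.exists_mk'_eq (Submonoid.powers (p h)) b'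
    have h1 : algebraMap R (Localization.Away (s (p h))) (s b) =
        algebraMap R (Localization.Away (s (p h))) (s (p h ^ m) * t y) := by
      have e := IsLocalization.mk'_spec (Localization.Away (p h)) b
        (⟨p h ^ m, m, rfl⟩ : Submonoid.powers (p h))
      have e1 : algebraMap R (Localization.Away (s (p h))) (s (p h ^ m) * t y) =
          algebraMap R (Localization.Away (s (p h))) (t y) *
            algebraMap R (Localization.Away (s (p h))) (s (p h ^ m)) := by
        rw [map_mul, mul_comm]
      rw [← hmap s (p h) b, ← e, map_mul, hb', e1, ← hmap s (p h) (p h ^ m)]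
    rw [IsLocalization.eq_iff_exists (Submonoid.powers (s (p h)))] at h1
    obtain ⟨⟨_, k, rfl⟩, hk⟩ := h1
    have hk : s (p h) ^ k * s b = s (p h) ^ k * (s (p h ^ m) * t y) := hk
    obtain ⟨x, hx1, hx2⟩ := hsur (p h ^ k * b) (q h ^ (k + m) * y) (by
      rw [map_mul, map_pow, hk, map_mul, map_pow, map_pow, ← hw, pow_add, mul_assoc])
    obtain ⟨v, hv⟩ := (hunit h (k + m + n)).exists_right_inv
    refine ⟨algebraMap _ _ x * v, ?_⟩
    have e2 : algebraMap R' (Localization.Away (q h)) (q h ^ (k + m + n)) *
        Localization.awayMap q h v = 1 := by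
      rw [← map_pow q, ← hmap q h, ← map_mul, hv, map_one]
    rw [eq_comm, IsLocalization.mk'_eq_iff_eq_mul, map_mul, hmap, hx2]
    change _ = algebraMap _ _ (q h ^ (k + m) * y) * _ * algebraMap _ _ (q h ^ n)
    calc algebraMap R' (Localization.Away (q h)) y
        = algebraMap R' (Localization.Away (q h)) y *
          (algebraMap R' (Localization.Away (q h)) (q h ^ (k + m + n)) * Localization.awayMap q h v) := by
            rw [e2, mul_one]
      _ = _ := by
            rw [pow_add, map_mul, map_mul]
            ring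

end algebra

/-- The main statement, for an arbitrary open subset of the union of the basic opens. -/
theorem main {B B' R R' : Type u} [CommRing B] [CommRing B']
    [CommRing R] [CommRing R'] (s : B →+* R) (t : R' →+* R) (p : B' →+* B) (q : B' →+* R')
    (hsq : IsPullback (CommRingCat.ofHom p) (CommRingCat.ofHom q) (CommRingCat.ofHom s) (CommRingCat.ofHom t))
    {n : ℕ} (f : Fin n → R') (g : Fin n → B) (hfg : ∀ i, t (f i) = s (g i))
    (hiso : ∀ i, Function.Bijective (Localization.awayMap s (g i))) (W : (Spec (CommRingCat.of R')).Opens)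
    (hW : ∀ x ∈ W, ∃ i, x ∈ PrimeSpectrum.basicOpen (f i)) :
    IsOpenImmersion (W.ι ≫ Spec.map (CommRingCat.ofHom q)) := by
  have hsq' := hsq.map (forget CommRingCat)
  have hw : ∀ x, s (p x) = t (q x) := fun x => congr($(hsq.w) x)
  have hinj : ∀ x y, p x = p y → q x = q y → x = y := fun x y h1 h2 =>
    Limits.Types.ext_of_isPullback hsq' h1 h2
  have hsur : ∀ b r, s b = t r → ∃ x, p x = b ∧ q x = r := fun b r h =>
    Limits.Types.exists_of_isPullback hsq' b r h
  choose h hp hq using fun i => hsur (g i) (f i) (hfg i).symm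
  let U : Fin n → (Spec (CommRingCat.of B')).Opens := fun i => PrimeSpectrum.basicOpen (h i)
  refine IsZariskiLocalAtTarget.of_range_subset_iSup (P := @IsOpenImmersion) U ?_ fun i => ?_
  · rintro _ ⟨x, rfl⟩
    obtain ⟨i, hi⟩ := hW x.1 x.2
    refine TopologicalSpace.Opens.mem_iSup.mpr ⟨i, ?_⟩
    have hi' : f i ∉ x.1.asIdeal := hi
    rw [← hq] at hi'
    exact hi'
  · rw [morphismRestrict_comp]
    have h1 : IsIso (Spec.map (CommRingCat.ofHom q) ∣_ U i) := by
      have e := SpecMapRestrictBasicOpenIso (CommRingCat.ofHom q) (h i)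
      refine (MorphismProperty.arrow_mk_iso_iff (.isomorphisms _) e).mpr ?_
      have hb : Function.Bijective (Localization.awayMap q (h i)) :=
        bijective_awayMap s t p q hw hinj hsur (h i) (by rw [hp]; exact hiso i)
      have : IsIso (CommRingCat.ofHom (Localization.awayMap (CommRingCat.ofHom q).hom (h i))) :=
        (ConcreteCategory.isIso_iff_bijective _).mpr hb
      exact (inferInstance :
        IsIso (Spec.map (CommRingCat.ofHom (Localization.awayMap (CommRingCat.ofHom q).hom (h i)))))
    have h2 : IsOpenImmersion (W.ι ∣_ Spec.map (CommRingCat.ofHom q) ⁻¹ᵁ U i) := inferInstance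
    exact MorphismProperty.comp_mem _ _ _ h2 (inferInstance : IsOpenImmersion (Spec.map (CommRingCat.ofHom q) ∣_ U i))

/-- Let `B' = B ×_R R'` be a cartesian square of rings with maps `s : B → R`, `t : R' → R`, and let `W'
= D(f_1) ∪ … ∪ D(f_n) ⊆ Spec R'` with `t(f_i) = s(g_i)` for elements `g_i ∈ B` such that `B_{g_i} →
R_{s(g_i)}` is an isomorphism for each `i`. Then the composite `W' → Spec R' → Spec B'`, the second
map coming from `B' → R'`, is an open immersion. -/
theorem result {B B' R R' : Type u} [CommRing B] [CommRing B']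
    [CommRing R] [CommRing R'] (s : B →+* R) (t : R' →+* R) (p : B' →+* B) (q : B' →+* R')
    (hsq : IsPullback (CommRingCat.ofHom p) (CommRingCat.ofHom q) (CommRingCat.ofHom s) (CommRingCat.ofHom t))
    {n : ℕ} (f : Fin n → R') (g : Fin n → B) (hfg : ∀ i, t (f i) = s (g i))
    (hiso : ∀ i, Function.Bijective (Localization.awayMap s (g i))) :
    IsOpenImmersion (Scheme.Opens.ι (X := Spec (CommRingCat.of R')) (⨆ i, PrimeSpectrum.basicOpen (f i)) ≫
      Spec.map (CommRingCat.ofHom q)) := by
  refine main s t p q hsq f g hfg hiso _ fun x hx => ?_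
  exact TopologicalSpace.Opens.mem_iSup.mp hx

end Groth.Agent.S7431
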