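import Groth.Statements.S7432
import Groth.Agent.Lim.K339.TopFin
import Groth.Agent.S0030

set_option autoImplicit false
universe u
open Lim

namespace Groth.Agent.S7432

open AlgebraicGeometry CategoryTheory in
/-- Assume `f : X → Y` is a proper morphism whose fibres all have dimension no greater than `d`, and
consider an `O_X`-module `F` that is quasi-coherent and of finite type. Then `R^d f_* F` is again an
`O_Y`-module that is quasi-coherent and of finite type. (Being 'quasi-coherent of finite type' is
expressed via the prelude's predicate `Coh.IsCoh`, which on an arbitrary scheme means precisely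
this; `R^d f_*` denotes the right derived functor of `f_*` on `O`-modules, defined under the
instance binder asserting that `O_X`-modules admit injective resolutions.) -/
theorem result {X Y : Scheme.{u}} (f : X ⟶ Y) [IsProper f] (d : ℕ)
    (hd : ∀ y : Y, topologicalKrullDim ↥(f.fiber y) ≤ d) [HasInjectiveResolutions X.Modules] (M : X.Modules)
    (hM : Coh.IsCoh M) : Coh.IsCoh ((Coh.Rpush f d).obj M) := by
  haveI := hM.1
  refine ⟨Groth.Agent.S0030.result f M d, ?_⟩
  haveI hq : Coh.IsQCoh ((Coh.Rpush f d).obj M) := Groth.Agent.S0030.result f M d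
  refine (Groth.Agent.CohqB.FiniteType2.isFT_iff_finite_sections _).mpr ?_
  intro V hV
  apply Groth.Agent.CohqB.RpushFin.finite_sections_Rpush f M hM.1 d hV
  letI : (f ⁻¹ᵁ V).toScheme.Over (Spec (CommRingCat.of Γ(Y, V))) :=
        ⟨(f ∣_ V) ≫ hV.isoSpec.hom⟩
  have hP : IsProper ((f ⁻¹ᵁ V).toScheme ↘ Spec (CommRingCat.of Γ(Y, V))) := by
    change IsProper ((f ∣_ V) ≫ hV.isoSpec.hom)
    infer_instance
  have H : IsPullback (f ⁻¹ᵁ V).ι ((f ∣_ V) ≫ hV.isoSpec.hom) f (hV.isoSpec.inv ≫ V.ι) :=
    IsPullback.of_iso (isPullback_morphismRestrict f V).flip (Iso.refl _) (Iso.refl _) hV.isoSpec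
      (Iso.refl _) (by simp) (by simp) (by simp) (by simp)
  refine K339.TopFin.finite_top Γ(Y, V) (f ⁻¹ᵁ V).toScheme d (fun y => ?_)
    (M.restrict (f ⁻¹ᵁ V).ι) (Groth.Agent.CohqB.LocalQC.isCoh_restrict _ hM)
  change topologicalKrullDim ↥(((f ∣_ V) ≫ hV.isoSpec.hom).fiber y) ≤ d
  rw [Groth.Agent.Flat2G.ProperDim.topologicalKrullDim_fiber_baseChange f _ _ _ H y]
  exact hd _

end Groth.Agent.S7432
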