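import Groth.Statements.S7447
import Groth.Agent.Lim.K340.AQ.Final

set_option autoImplicit false
universe u
open CategoryTheory AlgebraicGeometry
open Opposite
open Lim

namespace Groth.Agent.S7447

/-- Noetherian approximation relative to a quasi-compact open: let `S` be quasi-compact and
quasi-separated, `V ⊆ S` a quasi-compact open, and `V = lim V_i` the limit of an inverse system,
over a nonempty directed set `I`, of schemes of finite type over `ℤ` with affine transition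
morphisms. Then there are a nonempty directed set `J`, an inverse system `(S_j)` of schemes of
finite type over `ℤ` with affine transition morphisms and `S = lim S_j`, an order preserving map `α
: J → I`, opens `V'_j ⊆ S_j` and isomorphisms `V'_j ≅ V_{α(j)}` such that: the transition maps
satisfy `g_{jj'}⁻¹(V'_{j'}) = V'_j`; `V` is the inverse image of each `V'_j` under `S → S_j` (which
identifies `V` with `lim V'_j`); the composite `V → V'_j → V_{α(j)}` is the projection; and the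
squares `V'_j → V_{α(j)} → V_{α(j')}`, `V'_j → V'_{j'} → V_{α(j')}` commute. -/
theorem result (S : Scheme.{u}) [CompactSpace S] [QuasiSeparatedSpace S]
    (V : S.Opens) (hV : IsCompact (V : Set S)) (I : Type u) [Preorder I] [IsDirected I (fun a b => a ≤ b)] [Nonempty I]
    (DV : Iᵒᵖ ⥤ Scheme.{u}) (haff : ∀ (i i' : Iᵒᵖ) (a : i ⟶ i'), IsAffineHom (DV.map a))
    (hft : ∀ i, CompactSpace (DV.obj i) ∧ LocallyOfFiniteType (Limits.IsTerminal.from specULiftZIsTerminal (DV.obj i)))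
    (cV : Limits.Cone DV) (hcV : Limits.IsLimit cV) (eV : cV.pt ≅ (V : Scheme.{u})) :
    ∃ (J : Type u) (_ : Preorder J) (_ : IsDirected J (fun a b => a ≤ b)) (_ : Nonempty J)
      (DS : Jᵒᵖ ⥤ Scheme.{u}) (cS : Limits.Cone DS) (_ : Limits.IsLimit cS) (eS : cS.pt ≅ S)
      (α : J →o I) (V' : ∀ j : J, (DS.obj (op j)).Opens)
      (φ : ∀ j : J, (V' j : Scheme.{u}) ≅ DV.obj (op (α j))),
      (∀ (j j' : Jᵒᵖ) (a : j ⟶ j'), IsAffineHom (DS.map a)) ∧
      (∀ j, CompactSpace (DS.obj j) ∧ LocallyOfFiniteType (Limits.IsTerminal.from specULiftZIsTerminal (DS.obj j))) ∧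
      (∀ (j j' : J) (h : j' ≤ j), (DS.map (homOfLE h).op) ⁻¹ᵁ (V' j') = V' j) ∧
      (∀ j : J, (eS.inv ≫ cS.π.app (op j)) ⁻¹ᵁ (V' j) = V) ∧
      (∀ j : J, ∃ ρ : (V : Scheme.{u}) ⟶ (V' j : Scheme.{u}),
        ρ ≫ (V' j).ι = V.ι ≫ eS.inv ≫ cS.π.app (op j) ∧ ρ ≫ (φ j).hom = eV.inv ≫ cV.π.app (op (α j))) ∧
      (∀ (j j' : J) (h : j' ≤ j), ∃ τ : (V' j : Scheme.{u}) ⟶ (V' j' : Scheme.{u}),
        τ ≫ (V' j').ι = (V' j).ι ≫ DS.map (homOfLE h).op ∧
        (φ j).hom ≫ DV.map (homOfLE (α.mono h)).op = τ ≫ (φ j').hom) := by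
  obtain ⟨T, π, W, hπ, hT, hTft, rfl⟩ := K340.AQ.exists_base S V hV
  have hTN : IsNoetherian T := K340.AQ.isNoetherian_of_lft T
  have hWc : CompactSpace (W : Scheme.{u}) :=
    isCompact_iff_compactSpace.mp (TopologicalSpace.NoetherianSpace.isCompact (W : Set T))
  have hWN : IsNoetherian (W : Scheme.{u}) := ⟨⟩
  have haff' : ∀ {i j : Iᵒᵖ} (f : i ⟶ j), IsAffineHom (DV.map f) := fun f ↦ haff _ _ f
  have hcomp : ∀ i, CompactSpace (DV.obj i) := fun i ↦ (hft i).1
  have hlft : ∀ i, LocallyOfFiniteType (specULiftZIsTerminal.from (DV.obj i)) := fun i ↦ (hft i).2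
  have hnoeth : ∀ i, IsNoetherian (DV.obj i) := fun i ↦ K340.AQ.isNoetherian_of_lft _
  have hqs : ∀ i, QuasiSeparatedSpace (DV.obj i) := fun i ↦ inferInstance
  have hWlft : LocallyOfFiniteType (specULiftZIsTerminal.from (W : Scheme.{u})) := by
    rw [specULiftZIsTerminal.hom_ext (specULiftZIsTerminal.from (W : Scheme.{u}))
      (W.ι ≫ specULiftZIsTerminal.from T)]
    infer_instance
  have hZ : IsNoetherianRing (ULift.{u} ℤ) :=
    isNoetherianRing_of_ringEquiv ℤ ULift.ringEquiv.symm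
  have hWlfp : LocallyOfFinitePresentation (specULiftZIsTerminal.from (W : Scheme.{u})) :=
    LocallyOfFinitePresentation.iff_locallyOfFiniteType.mpr hWlft
  let f : cV.pt ⟶ (W : Scheme.{u}) := eV.hom ≫ (π ∣_ W)
  have hπW : IsAffineHom (π ∣_ W) := IsZariskiLocalAtTarget.restrict hπ W
  have heV : IsAffineHom eV.hom := inferInstance
  have hf : IsAffineHom f := MorphismProperty.comp_mem _ _ _ heV hπW
  let t : DV ⟶ (Functor.const _).obj (Spec (.of (ULift.{u} ℤ))) :=
    { app i := specULiftZIsTerminal.from (DV.obj i)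
      naturality _ _ _ := specULiftZIsTerminal.hom_ext _ _ }
  obtain ⟨i₂, g, hg₁, hg₂⟩ := Scheme.exists_π_app_comp_eq_of_locallyOfFinitePresentation DV t
    (specULiftZIsTerminal.from (W : Scheme.{u})) cV hcV f (by
      ext i : 2
      exact specULiftZIsTerminal.hom_ext _ _)
  obtain ⟨j, fj, hj⟩ := K340.AQ.exists_isAffineHom DV cV hcV g (by rw [hg₁]; exact hf)
  have hew : (cV.π.app j ≫ DV.map fj) ≫ g = eV.hom ≫ (π ∣_ W) := by rw [cV.w, hg₁]
  let 𝔖 : K340.AQ.Sys S T :=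
    { π := π
      aff := hπ
      W := W
      qcW := inferInstance
      I := I
      preI := inferInstance
      dirI := inferInstance
      D := DV
      affD := haff'
      qsD := hqs
      c := cV
      hc := hcV
      v := eV.hom ≫ (π ⁻¹ᵁ W).ι
      imm := inferInstance
      hv := by rw [Scheme.Hom.opensRange_comp_of_isIso, Scheme.Opens.opensRange_ι]
      i₁ := j.unop
      w' := DV.map fj ≫ g
      affw := hj
      lft := fun i hi ↦ by
        have : LocallyOfFiniteType ((DV.map (homOfLE hi).op ≫ (DV.map fj ≫ g) ≫ W.ι) ≫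
            specULiftZIsTerminal.from T) := by
          rw [specULiftZIsTerminal.hom_ext ((DV.map (homOfLE hi).op ≫ (DV.map fj ≫ g) ≫ W.ι) ≫
            specULiftZIsTerminal.from T) (specULiftZIsTerminal.from _)]
          exact hlft _
        exact locallyOfFiniteType_of_comp _ (specULiftZIsTerminal.from T)
      e := by
        have h1 : (eV.hom ≫ (π ⁻¹ᵁ W).ι) ≫ π = ((cV.π.app j ≫ DV.map fj) ≫ g) ≫ W.ι := by
          rw [hew, Category.assoc, Category.assoc, morphismRestrict_ι]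
        rw [h1]
        simp only [Category.assoc] }
  obtain ⟨hlim⟩ := K340.AQ.Sys.nonempty_isLimit 𝔖
  refine ⟨𝔖.Idx, inferInstance, inferInstance, inferInstance, K340.AQ.Sys.diag 𝔖,
    K340.AQ.Sys.cone 𝔖, hlim, Iso.refl _, K340.AQ.Sys.alpha 𝔖,
    fun a ↦ K340.AQ.Sys.pX a ⁻¹ᵁ W, fun a ↦ K340.AQ.Sys.phi a, ?_, ?_, ?_, ?_, ?_, ?_⟩
  · intro a b m
    exact K340.AQ.Sys.isAffineHom_tX m.unop.le
  · intro a
    have h1 : LocallyOfFiniteType (K340.AQ.Sys.pX a.unop) := K340.AQ.Sys.lft_pX a.unop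
    have h0 : IsAffineHom (K340.AQ.Sys.pX a.unop) := inferInstance
    have h2 : LocallyOfFiniteType (K340.AQ.Sys.pX a.unop ≫ specULiftZIsTerminal.from T) :=
      inferInstance
    have h3 : CompactSpace (K340.AQ.Sys.X a.unop) :=
      QuasiCompact.compactSpace_of_compactSpace (K340.AQ.Sys.pX a.unop)
    refine ⟨h3, ?_⟩
    rw [specULiftZIsTerminal.hom_ext (specULiftZIsTerminal.from ((K340.AQ.Sys.diag 𝔖).obj a))
      (K340.AQ.Sys.pX a.unop ≫ specULiftZIsTerminal.from T)]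
    exact h2
  · intro a b h
    change K340.AQ.Sys.tX h ⁻¹ᵁ (K340.AQ.Sys.pX b ⁻¹ᵁ W) = K340.AQ.Sys.pX a ⁻¹ᵁ W
    rw [← Scheme.Hom.comp_preimage, K340.AQ.Sys.tX_pX]
  · intro a
    change (𝟙 S ≫ (K340.AQ.Sys.cone 𝔖).π.app (op a)) ⁻¹ᵁ (K340.AQ.Sys.pX a ⁻¹ᵁ W) = π ⁻¹ᵁ W
    rw [Category.id_comp, ← Scheme.Hom.comp_preimage]
    exact congrArg (fun m ↦ m ⁻¹ᵁ W) (K340.AQ.Sys.cone_pX (𝔖 := 𝔖) (op a))
  · intro a
    refine ⟨eV.inv ≫ cV.π.app (op a.i) ≫ (K340.AQ.Sys.phi a).inv, ?_, ?_⟩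
    · have h1 := K340.AQ.Sys.v_inl a
      have h2 := K340.AQ.Sys.phi_inv a
      simp only [Category.assoc]
      refine (congrArg (fun m ↦ eV.inv ≫ cV.π.app (op a.i) ≫ m) h2).trans ?_
      refine (congrArg (fun m ↦ eV.inv ≫ m) h1.symm).trans ?_
      change eV.inv ≫ (eV.hom ≫ (π ⁻¹ᵁ W).ι) ≫ Limits.coprod.inl ≫ K340.AQ.Sys.qX a = _
      rw [Category.assoc, Iso.inv_hom_id_assoc]
      change _ = (π ⁻¹ᵁ W).ι ≫ 𝟙 S ≫ Limits.coprod.inl ≫ K340.AQ.Sys.qX a
      rw [Category.id_comp]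
    · simp only [Category.assoc]
      refine (congrArg (fun m ↦ eV.inv ≫ cV.π.app (op a.i) ≫ m) (Iso.inv_hom_id _)).trans ?_
      exact congrArg (fun m ↦ eV.inv ≫ m) (Category.comp_id _)
  · intro a b h
    refine ⟨(K340.AQ.Sys.phi a).hom ≫ DV.map (homOfLE h.choose).op ≫ (K340.AQ.Sys.phi b).inv, ?_, ?_⟩
    · have h1 := K340.AQ.Sys.phi_inv b
      have h2 := 𝔖.inr_tr h.choose
      have h3 := K340.AQ.Sys.qX_tX h
      have h4 := K340.AQ.Sys.phi_hom a
      simp only [Category.assoc]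
      refine (congrArg (fun m ↦ (K340.AQ.Sys.phi a).hom ≫ DV.map (homOfLE h.choose).op ≫ m) h1).trans ?_
      have h5 : DV.map (homOfLE h.choose).op ≫ Limits.coprod.inr ≫ K340.AQ.Sys.qX b =
          (Limits.coprod.inr ≫ K340.AQ.Sys.qX a) ≫ K340.AQ.Sys.tX h := by
        rw [Category.assoc, h3, ← Category.assoc, ← Category.assoc, h2]
      refine (congrArg (fun m ↦ (K340.AQ.Sys.phi a).hom ≫ m) h5).trans ?_
      rw [← Category.assoc, h4]
      rfl
    · simp only [Category.assoc]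
      exact congrArg (fun m ↦ (K340.AQ.Sys.phi a).hom ≫ m) ((congrArg (fun m ↦
        DV.map (homOfLE h.choose).op ≫ m) (Iso.inv_hom_id _)).trans (Category.comp_id _)).symm

end Groth.Agent.S7447
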