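import Groth.Statements.S7453
import Groth.Agent.Old.H27.GrpdShear
import Groth.Agent.Grpd.K392.FieldSection

set_option autoImplicit false
universe u
open CategoryTheory CategoryTheory.Limits AlgebraicGeometry
open Grpd

namespace Groth.Agent.S7453

/-- Let (U, R, s, t, c) be a groupoid scheme over S with U the spectrum of a field. Then R is a
separated scheme. (A groupoid scheme carries U, R, s, t, c, e, i over S with the groupoid axioms on
T-points; c is defined on the fibre product of s and t and sends a pair (a, b) with s(a) = t(b) to a
composed with b.) -/
theorem result (S : Scheme.{u}) (G : Grpd.GroupoidScheme S) (k : Type u) [Field k] (eU : G.U ≅ Spec (CommRingCat.of k)) : G.R.IsSeparated := by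
  have he : IsClosedImmersion G.e :=
    K392.FieldSection.isClosedImmersion_of_section eU G.s G.e G.e_s
  have ht : IsSeparated G.t :=
    ⟨MorphismProperty.of_isPullback (P := @IsClosedImmersion)
      (Old.H27.GrpdShear.isPullback_diagonal G).flip he⟩
  have h1 : IsSeparated (G.t ≫ eU.hom) := inferInstance
  have h2 : IsSeparated ((G.t ≫ eU.hom) ≫ terminal.from (Spec (CommRingCat.of k))) := inferInstance
  rw [terminal.comp_from] at h2
  exact ⟨h2⟩

end Groth.Agent.S7453
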