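import Groth.Statements.S7458
import Groth.Agent.Grpsch.OpenSubgroup

set_option autoImplicit false
universe u
open CategoryTheory MonoidalCategory CartesianMonoidalCategory MonObj GrpObj AlgebraicGeometry
open GrpSch

namespace Groth.Agent.S7458

/-- For a group scheme G over a scheme S, a scheme T flat over S and a morphism ψ : T -> G over S, the
map T x_S G -> G sending (t, g) to the product ψ(t)·g is a flat morphism; taking T = G and ψ the
identity, the multiplication G x_S G -> G is flat whenever G is flat over S. -/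
theorem result (S : Scheme.{u}) (G : Over S) [GrpObj G] : (∀ (T : Over S) (ψ : T ⟶ G), Flat T.hom → Flat (ψ ▷ G ≫ μ[G]).left) ∧ (Flat G.hom → Flat μ[G].left) := by
  have h : ∀ (T : Over S) (ψ : T ⟶ G), Flat T.hom → Flat (ψ ▷ G ≫ μ[G]).left := by
    intro T ψ hT
    have h1 : (Groth.Agent.Grpsch.OpenSubgroup.pointShear ψ).hom ≫ snd T G = ψ ▷ G ≫ μ[G] := by
      have h0 : ψ ▷ G = lift (fst T G ≫ ψ) (snd T G) := by ext <;> simp
      rw [h0]
      simp [Groth.Agent.Grpsch.OpenSubgroup.pointShear, Hom.mul_def]
    rw [← h1, Over.comp_left]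
    have h2 : IsIso (Groth.Agent.Grpsch.OpenSubgroup.pointShear ψ).hom.left :=
      inferInstanceAs (IsIso ((Over.forget _).map (Groth.Agent.Grpsch.OpenSubgroup.pointShear ψ).hom))
    have h3 : Flat (Groth.Agent.Grpsch.OpenSubgroup.pointShear ψ).hom.left := inferInstance
    have h4 : Flat (snd T G).left := by
      rw [Over.snd_left]
      infer_instance
    exact MorphismProperty.comp_mem _ _ _ h3 h4
  refine ⟨h, fun hG => ?_⟩
  have := h G (𝟙 G) hG
  rwa [id_whiskerRight, Category.id_comp] at this

end Groth.Agent.S7458
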