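import Groth.Statements.S7459
import Groth.Agent.Grpsch.OpenSubgroup

set_option autoImplicit false
universe u
open CategoryTheory MonoidalCategory CartesianMonoidalCategory MonObj GrpObj AlgebraicGeometry
open GrpSch

namespace Groth.Agent.S7459

/-- Let G be a group scheme over a field k, W an open subscheme of G and f : T -> G a morphism of
schemes (T becomes a k-scheme through f). Then the image of the composition T x_k W -> G x_k G -> G,
the second map being the multiplication, is open. -/
theorem result (K : Type u) [Field K] (G : Over (Spec (CommRingCat.of K))) [GrpObj G] (W : G.left.Opens) (T : Scheme.{u}) (f : T ⟶ G.left) : IsOpen (Set.range ⇑(((Over.homMk f rfl : Over.mk (f ≫ G.hom) ⟶ G) ⊗ₘ (Over.homMk W.ι rfl : Over.mk (W.ι ≫ G.hom) ⟶ G)) ≫ μ[G]).left) := by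
  let T' : Over (Spec (CommRingCat.of K)) := Over.mk (f ≫ G.hom)
  let W' : Over (Spec (CommRingCat.of K)) := Over.mk (W.ι ≫ G.hom)
  let f' : T' ⟶ G := Over.homMk f rfl
  let w' : W' ⟶ G := Over.homMk W.ι rfl
  change IsOpen (Set.range ⇑((f' ⊗ₘ w') ≫ μ[G]).left)
  have h : (f' ⊗ₘ w') ≫ μ[G] = (T' ◁ w') ≫ ((fst T' G ≫ f') * snd T' G) := by
    rw [comp_mul, Hom.mul_def]
    congr 1
    ext <;> simp
  have hu := Groth.Agent.Grpsch.OpenSubgroup.universallyOpen_act G f'
  have hw : UniversallyOpen (T' ◁ w').left := by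
    have hw1 : IsOpenImmersion w'.left := inferInstanceAs (IsOpenImmersion W.ι)
    have : IsOpenImmersion (T' ◁ w').left := by
      rw [Over.whiskerLeft_left]; infer_instance
    infer_instance
  rw [h, Over.comp_left]
  have h2 : UniversallyOpen ((T' ◁ w').left ≫ ((fst T' G ≫ f') * snd T' G).left) :=
    MorphismProperty.comp_mem _ _ _ hw hu
  exact (Scheme.Hom.isOpenMap _).isOpen_range

end Groth.Agent.S7459
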