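import Groth.Statements.S7461
import Groth.Agent.Grpsch.Points

set_option autoImplicit false
universe u
open CategoryTheory CategoryTheory.Limits AlgebraicGeometry
open Grpd

namespace Groth.Agent.S7461

/-- Let (U, R, s, t, c) be a groupoid scheme over S with s and t finite locally free. Then U is a
disjoint union of R-invariant open subschemes U_r, r = 1, 2, 3, ..., such that s and t restricted
over U_r are finite locally free of rank r. Here the decomposition is indexed by all natural numbers
with U_0 empty, R-invariance of U_r means s^{-1}(U_r) = t^{-1}(U_r), and 'finite locally free of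
rank r' means finite, flat, locally of finite presentation with rank function constant equal to r.
(A groupoid scheme carries U, R, s, t, c, e, i over S with the groupoid axioms on T-points; c is
defined on the fibre product of s and t and sends a pair (a, b) with s(a) = t(b) to a composed with
b.) -/
theorem result (S : Scheme.{u}) (G : Grpd.GroupoidScheme S) [IsFinite G.s] [Flat G.s] [LocallyOfFinitePresentation G.s] [IsFinite G.t] [Flat G.t] [LocallyOfFinitePresentation G.t] : ∃ V : ℕ → G.U.Opens, V 0 = ⊥ ∧ (∀ r r', r ≠ r' → Disjoint (V r) (V r')) ∧ (⨆ r, V r) = ⊤ ∧ ∀ r, G.s ⁻¹ᵁ V r = G.t ⁻¹ᵁ V r ∧ Mor2.IsFinLocFreeOfDeg r (G.s ∣_ V r) ∧ Mor2.IsFinLocFreeOfDeg r (G.t ∣_ V r) := by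
  have hinv : ∀ x : G.R, G.s.finrank (G.s x) = G.s.finrank (G.t x) := by
    intro x
    rw [← Scheme.Hom.finrank_of_isPullback _ _ _ _ (Grpsch.Points.isPullback_c_snd G) x,
      ← Scheme.Hom.finrank_of_isPullback _ _ _ _ (Grpsch.Points.isPullback_fst_snd G) x]
  have hst : ∀ u : G.U, G.t.finrank u = G.s.finrank u := fun u =>
    Scheme.Hom.finrank_of_isPullback _ _ _ _ (Grpsch.Points.isPullback_i_t_s G) u
  have hlc : IsLocallyConstant G.s.finrank := G.s.isLocallyConstant_finrank
  let V : ℕ → G.U.Opens := fun r => ⟨G.s.finrank ⁻¹' {r}, hlc {r}⟩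
  have hV : ∀ r (u : G.U), u ∈ V r ↔ G.s.finrank u = r := fun r u => Iff.rfl
  have hpos : 1 ≤ G.s.finrank := (Scheme.Hom.one_le_finrank_iff_surjective G.s).mpr inferInstance
  refine ⟨V, ?_, ?_, ?_, fun r => ⟨?_, ?_, ?_⟩⟩
  · ext u
    simp only [TopologicalSpace.Opens.coe_bot, Set.mem_empty_iff_false, iff_false]
    intro h
    have h1 : G.s.finrank u = 0 := h
    have h2 : 1 ≤ G.s.finrank u := hpos u
    omega
  · intro r r' hr
    rw [disjoint_iff]
    ext u
    simp only [TopologicalSpace.Opens.coe_bot, Set.mem_empty_iff_false, iff_false]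
    rintro ⟨h1, h2⟩
    exact hr (((hV r u).mp h1).symm.trans ((hV r' u).mp h2))
  · ext u
    simp only [TopologicalSpace.Opens.coe_iSup, Set.mem_iUnion, TopologicalSpace.Opens.coe_top,
      Set.mem_univ, iff_true]
    exact ⟨_, rfl⟩
  · ext x
    change G.s.finrank (G.s x) = r ↔ G.s.finrank (G.t x) = r
    rw [hinv]
  · refine ⟨⟨?_, ?_, ?_⟩, fun y => ?_⟩
    · exact MorphismProperty.of_isPullback (P := @IsFinite) (isPullback_morphismRestrict G.s (V r)).flip inferInstance
    · exact MorphismProperty.of_isPullback (P := @Flat) (isPullback_morphismRestrict G.s (V r)).flip inferInstance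
    · exact MorphismProperty.of_isPullback (P := @LocallyOfFinitePresentation) (isPullback_morphismRestrict G.s (V r)).flip inferInstance
    · rw [Scheme.Hom.finrank_of_isPullback _ _ _ _ (isPullback_morphismRestrict G.s (V r)).flip y]
      exact y.2
  · refine ⟨⟨?_, ?_, ?_⟩, fun y => ?_⟩
    · exact MorphismProperty.of_isPullback (P := @IsFinite) (isPullback_morphismRestrict G.t (V r)).flip inferInstance
    · exact MorphismProperty.of_isPullback (P := @Flat) (isPullback_morphismRestrict G.t (V r)).flip inferInstance
    · exact MorphismProperty.of_isPullback (P := @LocallyOfFinitePresentation) (isPullback_morphismRestrict G.t (V r)).flip inferInstance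
    · rw [Scheme.Hom.finrank_of_isPullback _ _ _ _ (isPullback_morphismRestrict G.t (V r)).flip y, hst]
      exact y.2

end Groth.Agent.S7461
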