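import Groth.Statements.S7463
import Groth.Agent.Grpsch.FieldGrpd

set_option autoImplicit false
universe u
open CategoryTheory CategoryTheory.Limits AlgebraicGeometry
open Grpd

namespace Groth.Agent.S7463

/-- Consider a groupoid scheme (U, R, s, t, c) over S in which U is the spectrum of a field, and write Z
for the closure of the image of the morphism j = (t, s) : R -> U x_S U. Then, set-theoretically,
pr_02 carries Z x_(pr_1,U,pr_0) Z into Z: given the morphism pr_02 from (U x_S U) x_(pr_1,U,pr_0) (U
x_S U) to U x_S U, whose components are pr_0 of the first factor and pr_1 of the second, any point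
both of whose projections land in Z is mapped to a point of Z. (A groupoid scheme consists of U, R,
s, t, c, e, i over S satisfying the groupoid axioms on T-points; c is defined on the fibre product
of s and t and takes a pair (a, b) with s(a) = t(b) to the composite of a with b.) -/
theorem result (S : Scheme.{u}) (G : Grpd.GroupoidScheme S) (k : Type u) [Field k] (eU : G.U ≅ Spec (CommRingCat.of k)) (pr02 : pullback (pullback.snd G.pU G.pU) (pullback.fst G.pU G.pU) ⟶ pullback G.pU G.pU) (h0 : pr02 ≫ pullback.fst G.pU G.pU = pullback.fst (pullback.snd G.pU G.pU) (pullback.fst G.pU G.pU) ≫ pullback.fst G.pU G.pU) (h1 : pr02 ≫ pullback.snd G.pU G.pU = pullback.snd (pullback.snd G.pU G.pU) (pullback.fst G.pU G.pU) ≫ pullback.snd G.pU G.pU) (p : ↑(pullback (pullback.snd G.pU G.pU) (pullback.fst G.pU G.pU))) (h₁ : pullback.fst (pullback.snd G.pU G.pU) (pullback.fst G.pU G.pU) p ∈ closure (Set.range ⇑G.j)) (h₂ : pullback.snd (pullback.snd G.pU G.pU) (pullback.fst G.pU G.pU) p ∈ closure (Set.range ⇑G.j)) : pr02 p ∈ closure (Set.range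 ⇑G.j) := by
  have hne : Nonempty G.U := ⟨eU.inv (IsLocalRing.closedPoint k)⟩
  have hred : IsIntegral G.U := isIntegral_of_isOpenImmersion eU.hom
  have hsub : Subsingleton G.U := eU.hom.homeomorph.injective.subsingleton
  refine map_mem_closure pr02.continuous
    (Grpsch.FieldGrpd.mem_closure_of_isPullback (IsPullback.of_hasPullback _ _) h₁ h₂) ?_
  rintro x ⟨hx1, hx2⟩
  have e1 : G.s ≫ 𝟙 G.U = G.j ≫ pullback.snd G.pU G.pU := by simp
  have e2 : G.t ≫ 𝟙 G.U = G.j ≫ pullback.fst G.pU G.pU := by simp
  have hx : x ∈ Set.range (pullback.map G.s G.t (pullback.snd G.pU G.pU) (pullback.fst G.pU G.pU)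
      G.j G.j (𝟙 _) e1 e2) := by
    rw [Scheme.Pullback.range_map]
    exact ⟨hx1, hx2⟩
  obtain ⟨y, rfl⟩ := hx
  refine ⟨G.c y, ?_⟩
  rw [← Scheme.Hom.comp_apply, ← Scheme.Hom.comp_apply]
  have key : G.c ≫ G.j = pullback.map G.s G.t (pullback.snd G.pU G.pU) (pullback.fst G.pU G.pU)
      G.j G.j (𝟙 _) e1 e2 ≫ pr02 := by
    apply pullback.hom_ext
    · refine (Category.assoc _ _ _).trans ?_
      refine (congrArg (fun z => G.c ≫ z) (Grpsch.Points.j_fst G)).trans ?_
      refine (Grpsch.Points.c_t G).trans ?_
      rw [Category.assoc, h0, pullback.lift_fst_assoc, Category.assoc, Grpsch.Points.j_fst]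
    · refine (Category.assoc _ _ _).trans ?_
      refine (congrArg (fun z => G.c ≫ z) (Grpsch.Points.j_snd G)).trans ?_
      refine (Grpsch.Points.c_s G).trans ?_
      rw [Category.assoc, h1, pullback.lift_snd_assoc, Category.assoc, Grpsch.Points.j_snd]
  rw [key]

end Groth.Agent.S7463
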