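import Groth.Statements.S7464
import Groth.Agent.Grpsch.Thicken
import Groth.Agent.Sga3C.DimTop
import Mathlib.AlgebraicGeometry.Morphisms.QuasiFinite

set_option autoImplicit false
universe u
open CategoryTheory CategoryTheory.Limits AlgebraicGeometry
open Grpd

namespace Groth.Agent.S7464

/-- Let (U, R, s, t, c) be a groupoid scheme over S with s and t finite, and let u, u' be distinct
points of U in the same orbit, say u = s(r) and u' = t(r). Then u' does not lie in the closure of u.
(The published statement calls u, u' points of R; this row takes them to be points of U, as the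
orbit condition and the proof require.) (A groupoid scheme carries U, R, s, t, c, e, i over S with
the groupoid axioms on T-points; c is defined on the fibre product of s and t and sends a pair (a,
b) with s(a) = t(b) to a composed with b.) -/
theorem result (S : Scheme.{u}) (G : Grpd.GroupoidScheme S) [IsFinite G.s] [IsFinite G.t] (r : G.R) (hne : G.s r ≠ G.t r) : ¬ (G.s r ⤳ G.t r) := by
  intro hsp
  -- the orbit of `s r` is finite
  let O : Set G.U := G.t '' (G.s ⁻¹' {G.s r})
  have hO : O.Finite := (G.s.finite_preimage_singleton (G.s r)).image _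
  have hmemO : ∀ x : G.R, G.s x ∈ O → G.t x ∈ O := by
    rintro x ⟨y, hy1, hy2⟩
    obtain ⟨z, h1, h2⟩ := Grpsch.Thicken.exists_comp G x y hy2.symm
    exact ⟨z, by rw [Set.mem_preimage, h1]; exact hy1, h2⟩
  have hs0 : G.s r ∈ O := ⟨G.e (G.s r), by
    rw [Set.mem_preimage, Grpsch.Thicken.s_e]; rfl, Grpsch.Thicken.t_e G _⟩
  -- moving along strict specializations
  have step : ∀ x : G.R, G.s x ∈ O → G.s x ⤳ G.t x → G.s x ≠ G.t x →
      ∃ y : G.R, G.s y = G.t x ∧ G.s y ∈ O ∧ G.s y ⤳ G.t y ∧ G.s y ≠ G.t y := by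
    intro x hx h1 h2
    obtain ⟨y, hy1, hy2⟩ := G.s.isClosedMap.specializingMap h1
    refine ⟨y, hy2, by rw [hy2]; exact hmemO x hx, ?_, ?_⟩
    · rw [hy2]
      exact hy1.map G.t.continuous
    · intro h3
      apply h2
      rw [hy2] at h3
      have := Groth.Agent.Sga3C.DimTop.eq_of_specializes_of_isIntegralHom G.t x y hy1 h3
      subst this
      exact hy2
  -- strict chain in a finite set: contradiction
  let P : Set G.U := {u | u ∈ O ∧ ∃ x : G.R, G.s x = u ∧ G.s x ⤳ G.t x ∧ G.s x ≠ G.t x}
  have hP : P.Finite := hO.subset fun _ h => h.1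
  have hPne : P.Nonempty := ⟨G.s r, hs0, r, rfl, hsp, hne⟩
  obtain ⟨m, hm⟩ := hP.exists_minimal hPne
  obtain ⟨⟨hmO, x, rfl, h1, h2⟩, hmin⟩ := hm
  obtain ⟨y, hy1, hy2, hy3, hy4⟩ := step x hmO h1 h2
  have h4 : G.t x ∈ P := ⟨hmemO x hmO, y, hy1, hy3, hy4⟩
  have h5 : G.t x ≤ G.s x := h1
  have h6 : G.s x ≤ G.t x := hmin h4 h5
  exact h2 (h1.antisymm h6).eq

end Groth.Agent.S7464
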