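import Groth.Statements.S7470
import Groth.Agent.HTop.K346.VStable

set_option autoImplicit false
universe w u
open HTop

namespace Groth.Agent.S7470

open CategoryTheory CategoryTheory.Limits AlgebraicGeometry in
/-- Let E be a standard V covering of an affine scheme T and, for every member T_j of E, let F_j be a
standard V covering of T_j. Then the composite family of all T_ji -> T is a standard V covering. -/
theorem result {T : Scheme.{u}} (E : PreZeroHypercover.{w} T) (hE : HTop.IsStandardV E) (F : ∀ j, PreZeroHypercover.{w} (E.X j)) (hF : ∀ j, HTop.IsStandardV (F j)) : HTop.IsStandardV (E.bind F) := by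
  have := hE.finite_index
  have hF' : ∀ j, Finite (F j).I₀ := fun j => (hF j).finite_index
  exact ⟨hE.isAffine, inferInstanceAs (Finite (Σ i : E.I₀, (F i).I₀)), fun j => (hF j.1).isAffine_obj j.2,
    K346.ValLift.HasValLift.bind hE.lift F fun j => (hF j).lift⟩

end Groth.Agent.S7470
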