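import Groth.Statements.S7484
import Groth.Agent.Desc.K388.FinLFEff
import Mathlib.AlgebraicGeometry.AlgClosed.Basic

set_option autoImplicit false
open CategoryTheory CategoryTheory.Limits AlgebraicGeometry
universe u
open Desc

namespace Groth.Agent.S7484

/-- Geometric points lift along quasi-finite morphisms to any point over the given one. -/
theorem exists_geom {A B : Scheme.{u}} (f : A ⟶ B) [LocallyQuasiFinite f] [LocallyOfFiniteType f] {K : Type u}
    [Field K] [IsAlgClosed K] (z : Spec (CommRingCat.of K) ⟶ B) (a : A)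
    (ha : f a = z (IsLocalRing.closedPoint K)) :
    ∃ w : Spec (CommRingCat.of K) ⟶ A, w ≫ f = z ∧ w (IsLocalRing.closedPoint K) = a := by
  obtain ⟨t, ht1, ht2⟩ := Scheme.Pullback.exists_preimage_pullback (f := f) (g := z) a _ ha
  have h1 : LocallyQuasiFinite (pullback.snd f z) := inferInstance
  have h2 : LocallyOfFiniteType (pullback.snd f z) := inferInstance
  have h3 : _root_.IsDiscrete (Set.univ : Set ↑(pullback f z)) := by
    have h4 : _root_.IsDiscrete ((pullback.snd f z) ⁻¹' {IsLocalRing.closedPoint K}) :=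
      Scheme.Hom.isDiscrete_preimage_singleton _ _
    have h5 : (pullback.snd f z) ⁻¹' {IsLocalRing.closedPoint K} = Set.univ :=
      Set.eq_univ_of_forall fun x => Subsingleton.elim _ _
    rwa [h5] at h4
  have h4 : DiscreteTopology ↑(pullback f z) := isDiscrete_univ_iff.1 h3
  refine ⟨pointOfClosedPoint (pullback.snd f z) t (isClosed_discrete _) ≫ pullback.fst f z, ?_, ?_⟩
  · rw [Category.assoc, pullback.condition, pointOfClosedPoint_comp_assoc]
  · have := pointOfClosedPoint_apply (pullback.snd f z) t (isClosed_discrete _) (IsLocalRing.closedPoint K)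
    exact (congrArg (pullback.fst f z) this).trans ht1

open K388.DDGrpd K388.FinLFEff in
/-- The orbits have at most `d` elements. -/
theorem orb_card {X Y : Scheme.{u}} (p : X ⟶ Y) [IsFinite p] (d : ℕ)
    (hfib : ∀ (k : Type u) [Field k] [IsAlgClosed k] (y : Spec (CommRingCat.of k) ⟶ Y),
      Set.encard {x : Spec (CommRingCat.of k) ⟶ X | x ≫ p = y} ≤ d) (D : Desc.SchDD p) (v : D.obj.left) :
    Set.encard {r : R D | src D r = v} ≤ d := by
  have h1 : IsFinite (src D) := src_of D @IsFinite ‹_›
  let K := AlgebraicClosure (D.obj.left.residueField v)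
  let z : Spec (CommRingCat.of K) ⟶ D.obj.left :=
    Spec.map (CommRingCat.ofHom (algebraMap (D.obj.left.residueField v) K)) ≫ D.obj.left.fromSpecResidueField v
  have hz : z (IsLocalRing.closedPoint K) = v := by
    show D.obj.left.fromSpecResidueField v _ = v
    exact Scheme.fromSpecResidueField_apply _ _
  have key : ∀ r : {r : R D | src D r = v}, ∃ w : Spec (CommRingCat.of K) ⟶ R D, w ≫ src D = z ∧
      w (IsLocalRing.closedPoint K) = r.1 := fun r => exists_geom (src D) z r.1 (r.2.trans hz.symm)
  choose w hw1 hw2 using key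
  refine le_trans ?_ (hfib K (z ≫ D.obj.hom ≫ p))
  refine Function.Embedding.encard_le ⟨fun r => ⟨w r ≫ pt D, ?_⟩, ?_⟩
  · show (w r ≫ pt D) ≫ p = _
    rw [← compat, hw1, Category.assoc]
  · intro r r' h
    have h2 : w r ≫ pt D = w r' ≫ pt D := congrArg Subtype.val h
    have h3 : w r = w r' := R_ext D ((hw1 r).trans (hw1 r').symm) h2
    apply Subtype.ext
    rw [← hw2 r, ← hw2 r', h3]

/-- Let p : X -> Y be a surjective finite locally free morphism and d a positive integer such that for
every algebraically closed field k and every k-point of Y there are at most d k-points of X over it.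
Let V be a scheme over X such that any d points of V (not necessarily distinct) lying over one point
of Y are contained in an affine open of V. Then every descent datum on V relative to p is effective.
(Descent data are taken in functor-of-points form.) -/
theorem result {X Y : Scheme.{u}} (p : X ⟶ Y) [Surjective p] [IsFinite p] [Flat p] [LocallyOfFinitePresentation p] (d : ℕ) (hd : 0 < d) (hfib : ∀ (k : Type u) [Field k] [IsAlgClosed k] (y : Spec (CommRingCat.of k) ⟶ Y), Set.encard {x : Spec (CommRingCat.of k) ⟶ X | x ≫ p = y} ≤ d) (D : Desc.SchDD p) (hV : ∀ (y : Y) (v : Fin d → ↑(D.obj.left)), (∀ i, p (D.obj.hom (v i)) = y) → ∃ U : D.obj.left.Opens, IsAffineOpen U ∧ ∀ i, v i ∈ U) : ∃ W : Over Y, Nonempty ((Desc.toDD p).obj W ≅ D) := by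
  classical
  refine K388.FinLFEff.effective_of_orbits D fun v => ?_
  have h1 := orb_card p d hfib D v
  have hne : K388.DDGrpd.one D v ∈ {r : K388.DDGrpd.R D | K388.DDGrpd.src D r = v} := by
    exact congrArg (fun f : D.obj.left ⟶ D.obj.left => f v) (K388.DDGrpd.one_src D)
  have hfin : {r : K388.DDGrpd.R D | K388.DDGrpd.src D r = v}.Finite :=
    K388.FinLFEff.orb_finite D v
  obtain ⟨g, hg⟩ : ∃ g : Fin d → {r : K388.DDGrpd.R D | K388.DDGrpd.src D r = v}, Function.Surjective g := by
    have h2 : Fintype {r : K388.DDGrpd.R D | K388.DDGrpd.src D r = v} := hfin.fintype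
    have h3 : Fintype.card {r : K388.DDGrpd.R D | K388.DDGrpd.src D r = v} ≤ d := by
      rw [Set.encard_eq_coe_toFinset_card, Set.toFinset_card] at h1
      exact_mod_cast h1
    have : Nonempty {r : K388.DDGrpd.R D | K388.DDGrpd.src D r = v} := ⟨⟨_, hne⟩⟩
    obtain ⟨e⟩ := Function.Embedding.nonempty_of_card_le (α := {r : K388.DDGrpd.R D | K388.DDGrpd.src D r = v})
      (β := Fin d) (by rw [Fintype.card_fin]; exact h3)
    exact ⟨Function.invFun e, Function.invFun_surjective e.injective⟩
  obtain ⟨U, hU, h⟩ := hV (p (D.obj.hom v)) (fun i => K388.DDGrpd.tgt D (g i).1) (fun i => by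
    rw [K388.FinLFEff.orb_over]
    exact congrArg (fun z => p (D.obj.hom z)) (g i).2)
  refine ⟨U, hU, (K388.FinLFEff.orbIn_iff _ _ _).2 fun r hr => ?_⟩
  obtain ⟨i, hi⟩ := hg ⟨r, hr⟩
  have := h i
  rw [hi] at this
  exact this

end Groth.Agent.S7484
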