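import Groth.Statements.S7487
import Groth.Agent.Grpd.K392.InvBCFin
import Groth.Agent.Grpsch.QuotPoints

set_option autoImplicit false
universe u
open CategoryTheory CategoryTheory.Limits AlgebraicGeometry
open Grpd

namespace Groth.Agent.S7487

/-- Let (U, R, s, t, c) be a groupoid scheme over S with U = Spec A and R = Spec B affine and s, t
finite locally free; let C be the subring of R-invariant functions of A and C -> C' a ring map. Put
A' = A (x)_C C' and B' = B (x)_C C' (B a C-algebra through s^#) and let C^1 be the subring of A'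
where the two maps s^# (x) 1, t^# (x) 1 : A' -> B' agree; the structure map C' -> A' lands in C^1,
giving φ : C' -> C^1. Then: (a) for every f in C^1 there are n > 0 and a polynomial P over C' whose
image in A'[x] is (x - f)^n; (b) every element of the kernel of φ is nilpotent; (c) if C -> C' is
flat then φ is bijective, that is C' -> A' is injective with image C^1. (The published statement
also asserts that the base change is again a groupoid scheme; this row omits that clause.) (A
groupoid scheme carries U, R, s, t, c, e, i over S with the groupoid axioms on T-points; c is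
defined on the fibre product of s and t and sends a pair (a, b) with s(a) = t(b) to a composed with
b.) -/
theorem result (S : Scheme.{u}) (G : Grpd.GroupoidScheme S) [IsAffine G.U] [IsAffine G.R] [IsFinite G.s] [Flat G.s] [LocallyOfFinitePresentation G.s] [IsFinite G.t] [Flat G.t] [LocallyOfFinitePresentation G.t] (C' : Type u) [CommRing C'] [Algebra G.invariants C'] : letI : Algebra G.invariants Γ(G.R, ⊤) := (G.s.appTop.hom.comp G.invariants.subtype).toAlgebra; ∀ (sT tT : TensorProduct G.invariants Γ(G.U, ⊤) C' →ₐ[G.invariants] TensorProduct G.invariants Γ(G.R, ⊤) C'), (∀ (a : Γ(G.U, ⊤)) (c : C'), sT (a ⊗ₜ c) = G.s.appTop.hom a ⊗ₜ c) → (∀ (a : Γ(G.U, ⊤)) (c : C'), tT (a ⊗ₜ c) = G.t.appTop.hom a ⊗ₜ c) → (∀ f : TensorProduct G.invariants Γ(G.U, ⊤) C', sT f = tT f → ∃ (n : ℕ) (P : Polynomial C'), 0 < n ∧ Polynomial.map (Algebra.TensorProduct.includeRight : C' →ₐ[G.invariants] TensorProduct G.invariants Γ(G.U, ⊤) C').toRingHom P = (Polynomial.X - Polynomial.C f) ^ n) ∧ (∀ c : C', (Algebra.TensorProduct.includeRight : C' →ₐ[G.invariants] TensorProduct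 G.invariants Γ(G.U, ⊤) C') c = 0 → IsNilpotent c) ∧ (Module.Flat G.invariants C' → Function.Injective (Algebra.TensorProduct.includeRight : C' →ₐ[G.invariants] TensorProduct G.invariants Γ(G.U, ⊤) C') ∧ ∀ f : TensorProduct G.invariants Γ(G.U, ⊤) C', sT f = tT f → f ∈ Set.range (Algebra.TensorProduct.includeRight : C' →ₐ[G.invariants] TensorProduct G.invariants Γ(G.U, ⊤) C')) := by
  intro sT tT hs ht
  have H : (Grpsch.AffGrpd.RGrpd.ofScheme G).IsQuot (algebraMap G.invariants Γ(G.U, ⊤)) :=
    Grpsch.AffGrpd.isQuot_ofScheme G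
  obtain ⟨n, ⟨D⟩⟩ := Grpsch.AffGrpd.exists_DB_appTop G.s
  have hint : Algebra.IsIntegral G.invariants Γ(G.U, ⊤) := S1879.result S G
  let iB : Algebra G.invariants Γ(G.R, ⊤) :=
    (G.s.appTop.hom.comp G.invariants.subtype).toAlgebra
  refine ⟨fun f hf => ?_, fun c hc => ?_, fun hflat => ⟨?_, fun f hf => ?_⟩⟩
  · exact K392.InvBCFin.exists_pow (Grpsch.AffGrpd.RGrpd.ofScheme G) H (fun _ => rfl) D sT tT hs ht
      f hf
  · exact K392.InvBCFin.isNilpotent_of_includeRight_eq_zero H.inj c hc
  · exact Algebra.TensorProduct.includeRight_injective H.inj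
  · let sL : Γ(G.U, ⊤) →ₗ[G.invariants] Γ(G.R, ⊤) :=
      { toFun := G.s.appTop.hom
        map_add' := G.s.appTop.hom.map_add
        map_smul' := fun c x => by
          rw [Algebra.smul_def, Algebra.smul_def, map_mul]; rfl }
    let tL : Γ(G.U, ⊤) →ₗ[G.invariants] Γ(G.R, ⊤) :=
      { toFun := G.t.appTop.hom
        map_add' := G.t.appTop.hom.map_add
        map_smul' := fun c x => by
          rw [Algebra.smul_def, Algebra.smul_def, map_mul]
          congr 1
          exact c.2.symm }
    have e1 : ∀ z, sL.rTensor C' z = sT z := by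
      intro z
      induction z using TensorProduct.induction_on with
      | zero => rw [map_zero, map_zero]
      | tmul a c => rw [LinearMap.rTensor_tmul, hs]; rfl
      | add z z' hz hz' => rw [map_add, map_add, hz, hz']
    have e2 : ∀ z, tL.rTensor C' z = tT z := by
      intro z
      induction z using TensorProduct.induction_on with
      | zero => rw [map_zero, map_zero]
      | tmul a c => rw [LinearMap.rTensor_tmul, ht]; rfl
      | add z z' hz hz' => rw [map_add, map_add, hz, hz']
    exact K392.InvBCFin.mem_range_of_flat sL tL (fun c => c.2) (fun a ha => ⟨⟨a, ha⟩, rfl⟩) f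
      ((e1 f).trans (hf.trans (e2 f).symm))

end Groth.Agent.S7487
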