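import Groth.Statements.S7488
import Groth.Agent.S1877
import Groth.Agent.Grpsch.QuotPoints
import Groth.Agent.GrpQ.K185.Cover
import Groth.Agent.GrpQ.K185.Inst
import Mathlib.CategoryTheory.Limits.Constructions.Over.Connected

set_option autoImplicit false
universe u
open CategoryTheory CategoryTheory.Limits AlgebraicGeometry
open Grpd

namespace Groth.Agent.S7488

open scoped K185

/-- A cartesian square of schemes over `S` is cartesian in `Over S`. -/
lemma isKernelPair_over {S : Scheme.{u}} {R U M : Over S} (s t : R ⟶ U) (q : U ⟶ M)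
    (h : IsPullback s.left t.left q.left q.left) : IsKernelPair q s t :=
  IsPullback.of_map (Over.forget S) (by ext; exact h.w) h

lemma isQuotient_of_isPullback {S : Scheme.{u}} {R U M : Over S} (s t : R ⟶ U) (q : U ⟶ M)
    [Flat q.left] [Surjective q.left] [LocallyOfFinitePresentation q.left]
    (h : IsPullback s.left t.left q.left q.left) :
    QuotSh.IsQuotient Scheme.fppfPrecoverage s t q := by
  have hk := isKernelPair_over s t q h
  have h1 : IsEquivalenceRelation s t :=
    (IsKernelPair.equivalenceRelation q s t (pullbackIsPullback t s) hk).isEquivalenceRelation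
  rw [K185.IsQuot.isQuotient_iff]
  exact ⟨hk, K185.Cover.locSurj_of_singleton q (Scheme.Hom.singleton_mem_fppfPrecoverage q.left)⟩

/-- Let (U, R, s, t, c) be a groupoid scheme over S with U and R affine, s and t finite locally free,
and j = (t, s) : R -> U x_S U a monomorphism. Let C be the ring of R-invariant functions on U and M
= Spec C. Then the structure morphism U -> S factors uniquely through U -> M, and for the resulting
structure of scheme over S on M, the morphism U -> M represents the quotient sheaf U/R in the fppf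
topology: it coequalizes s and t and the induced map from the coequalizer of h_R => h_U (sheaves of
sets on the big fppf site of S) to h_M is an isomorphism. (The published statement also asserts that
U -> M is finite locally free and that R = U x_M U; this row states only the quotient-sheaf clause.)
(A groupoid scheme carries U, R, s, t, c, e, i over S with the groupoid axioms on T-points; c is
defined on the fibre product of s and t and sends a pair (a, b) with s(a) = t(b) to a composed with
b.) -/
theorem result (S : Scheme.{u}) (G : Grpd.GroupoidScheme S) [IsAffine G.U] [IsAffine G.R] [IsFinite G.s] [Flat G.s] [LocallyOfFinitePresentation G.s] [IsFinite G.t] [Flat G.t] [LocallyOfFinitePresentation G.t] [Mono G.j] : ∃! m : Spec (CommRingCat.of G.invariants) ⟶ S, ∃ h : G.toQuot ≫ m = G.pU, QuotSh.IsQuotient Scheme.fppfPrecoverage (Over.homMk G.s G.s_over : Over.mk G.pR ⟶ Over.mk G.pU) (Over.homMk G.t G.t_over : Over.mk G.pR ⟶ Over.mk G.pU) (Over.homMk G.toQuot h : Over.mk G.pU ⟶ Over.mk m) := by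
  obtain ⟨⟨h1, h2, h3⟩, φ, hφ1, hφ2⟩ := S1877.result S G
  have hsurj : Surjective G.toQuot := ⟨Grpsch.AffGrpd.toQuot_surjective G⟩
  have hpb : IsPullback G.s G.t G.toQuot G.toQuot := by
    refine IsPullback.flip ?_
    refine (IsPullback.of_hasPullback G.toQuot G.toQuot).of_iso φ.symm (Iso.refl _) (Iso.refl _)
      (Iso.refl _) ?_ ?_ ?_ ?_
    · rw [Iso.refl_hom, Category.comp_id, ← hφ1, Iso.symm_hom, Iso.inv_hom_id_assoc]
    · rw [Iso.refl_hom, Category.comp_id, ← hφ2, Iso.symm_hom, Iso.inv_hom_id_assoc]
    · simp
    · simp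
  have heff : EffectiveEpi G.toQuot := inferInstance
  have hdesc : ∀ {Z : Scheme.{u}} (g₁ g₂ : Z ⟶ G.U), g₁ ≫ G.toQuot = g₂ ≫ G.toQuot →
      g₁ ≫ G.pU = g₂ ≫ G.pU := by
    intro Z g₁ g₂ hg
    have e1 : (hpb.lift g₁ g₂ hg ≫ G.s) ≫ G.pU = (hpb.lift g₁ g₂ hg ≫ G.t) ≫ G.pU := by
      rw [Category.assoc, Category.assoc, G.s_over, G.t_over]
    rwa [hpb.lift_fst, hpb.lift_snd] at e1
  refine ⟨EffectiveEpi.desc G.toQuot G.pU hdesc, ⟨EffectiveEpi.fac _ _ _, ?_⟩, ?_⟩
  · exact @isQuotient_of_isPullback S _ _ _ _ _ _ h2 hsurj h3 hpb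
  · rintro m ⟨hm, -⟩
    rw [← cancel_epi G.toQuot, hm, EffectiveEpi.fac]

end Groth.Agent.S7488
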