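import Groth.Statements.S7489
import Groth.Agent.GrpSch.K267.ProfGrp

set_option autoImplicit false
universe u
open CategoryTheory MonoidalCategory CartesianMonoidalCategory MonObj GrpObj AlgebraicGeometry
open GrpSch

namespace Groth.Agent.S7489

/-- Let k be an algebraically closed field and G a group scheme over k such that the underlying space of
G is Jacobson and every closed point of G is k-rational (the image of a section of G -> Spec k). Let
A be a k-algebra such that every finite subset of A is contained in a k-subalgebra isomorphic to a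
finite product of copies of k (A is a directed colimit of such algebras), and f : Spec A -> G a
morphism over k. Then there is an affine open U of G containing the image of f. -/
theorem result (k : Type u) [Field k] [IsAlgClosed k] (G : Over (Spec (CommRingCat.of k))) [GrpObj G] [JacobsonSpace G.left] (hrat : ∀ g : G.left, IsClosed ({g} : Set G.left) → ∃ x : Spec (CommRingCat.of k) ⟶ G.left, x ≫ G.hom = 𝟙 _ ∧ x (IsLocalRing.closedPoint k) = g) (A : Type u) [CommRing A] [Algebra k A] (hA : ∀ s : Finset A, ∃ (B : Subalgebra k A) (n : ℕ), (↑s : Set A) ⊆ (B : Set A) ∧ Nonempty (B ≃ₐ[k] (Fin n → k))) (f : Spec (CommRingCat.of A) ⟶ G.left) (hf : f ≫ G.hom = Spec.map (CommRingCat.ofHom (algebraMap k A))) : ∃ U : G.left.Opens, IsAffineOpen U ∧ Set.range ⇑f ⊆ (U : Set G.left) := by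
  let T : Over (Spec (CommRingCat.of k)) := Over.mk (Spec.map (CommRingCat.ofHom (algebraMap k A)))
  let x : T ⟶ G := Over.homMk f hf
  have hT : K267.ProfGrp.Prof T := by
    refine ⟨inferInstanceAs (CompactSpace (PrimeSpectrum A)), fun X => ?_, fun t => ?_⟩
    · exact K267.Profinite.isHomeomorph hA (IsPullback.of_hasPullback T.hom X.hom)
    · obtain ⟨s, hs, hst⟩ := K267.Profinite.exists_section hA t
      exact ⟨Over.homMk s hs, hst _⟩
  exact K267.ProfGrp.exists_affine x hT fun g hg => by
    obtain ⟨y, hy, hyg⟩ := hrat g hg
    exact ⟨Over.homMk y hy, hyg⟩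

end Groth.Agent.S7489
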