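import Groth.Statements.S7490
import Mathlib.CategoryTheory.Sites.RegularEpi
import Mathlib.CategoryTheory.Limits.Shapes.KernelPair
import Mathlib.CategoryTheory.Limits.Constructions.Over.Basic

set_option autoImplicit false
open CategoryTheory CategoryTheory.Limits AlgebraicGeometry
universe u
open QuotSh

namespace Groth.Agent.S7490

variable (K : Precoverage Scheme.{u}) (S : Scheme.{u})

/-- The functor sending a scheme over `S` to its sheaf. -/
noncomputable def repF : Over S ⥤ QuotSh.Sh K S :=
  (yoneda ⋙ (Functor.whiskeringRight (Over S)ᵒᵖ (Type u) (Type (u + 1))).obj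
    uliftFunctor.{u + 1, u}) ⋙ presheafToSheaf (QuotSh.J K S) (Type (u + 1))

noncomputable instance : PreservesFiniteLimits (repF K S) := by
  unfold repF
  have h1 : PreservesFiniteLimits (presheafToSheaf (QuotSh.J K S) (Type (u + 1))) := inferInstance
  have h2 : PreservesFiniteLimits (yoneda : Over S ⥤ _) := inferInstance
  have h3 : PreservesFiniteLimits ((Functor.whiskeringRight (Over S)ᵒᵖ (Type u)
    (Type (u + 1))).obj uliftFunctor.{u + 1, u}) := inferInstance
  infer_instance

theorem isPullback_over {S : Scheme.{u}} {U M : Over S} (q : U ⟶ M) :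
    IsPullback (Over.homMk (pullback.fst q.left q.left) :
      Over.mk (pullback.fst q.left q.left ≫ U.hom) ⟶ U)
      (Over.homMk (pullback.snd q.left q.left) (by
        change pullback.snd q.left q.left ≫ U.hom = pullback.fst q.left q.left ≫ U.hom
        rw [← Over.w q, ← Category.assoc, ← Category.assoc, pullback.condition])) q q := by
  refine IsPullback.of_map (Over.forget S) ?_ ?_
  · ext1; exact pullback.condition
  · exact IsPullback.of_hasPullback q.left q.left

/-- Let K be a precoverage on schemes (the topology τ), S a scheme, s, t : R -> U morphisms of schemes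
over S (a pre-relation) and q : U -> M a morphism over S such that (1) q coequalizes s and t, (2)
the induced map of τ-sheaves h_U -> h_M is an epimorphism, and (3) the map h_R -> h_(U x_M U)
induced by (t, s) is an epimorphism of τ-sheaves. Then M, through q, represents the quotient sheaf
U/R: the canonical map from the coequalizer of h_s, h_t to h_M is an isomorphism. (The published
statement takes τ to be the Zariski, étale, fppf, smooth or syntomic topology; this row allows the
topology generated by any precoverage K.) -/
theorem result (K : Precoverage Scheme.{u}) {S : Scheme.{u}} {R U M : Over S} (s t : R ⟶ U) (q : U ⟶ M) (w : s ≫ q = t ≫ q) (w' : t.left ≫ q.left = s.left ≫ q.left) (h₂ : Epi (QuotSh.repMap K q)) (h₃ : Epi (QuotSh.repMap K (Over.homMk (pullback.lift t.left s.left w') (((Category.assoc _ _ _).symm.trans (congrArg (fun k => k ≫ U.hom) (pullback.lift_fst t.left s.left w'))).trans (Over.w t)) : R ⟶ Over.mk (pullback.fst q.left q.left ≫ U.hom)))) : QuotSh.IsQuotient K s t q := by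
  refine ⟨w, ?_⟩
  have hpb := (isPullback_over q).flip.map (repF K S)
  have hepi : Epi ((repF K S).map q) := h₂
  have hreg' : IsRegularEpi ((repF K S).map q) := IsRegularEpiCategory.regularEpiOfEpi _
  have hk : IsKernelPair ((repF K S).map q) _ _ := hpb
  have hc := hk.toCoequalizer'
  let e : R ⟶ Over.mk (pullback.fst q.left q.left ≫ U.hom) :=
    Over.homMk (pullback.lift t.left s.left w') (((Category.assoc _ _ _).symm.trans (congrArg (fun k => k ≫ U.hom) (pullback.lift_fst t.left s.left w'))).trans (Over.w t))
  have hc' := isCoequalizerEpiComp hc (h := (repF K S).map e) (hm := h₃)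
  have hs : (repF K S).map e ≫ (repF K S).map (Over.homMk (pullback.snd q.left q.left) (by
        change pullback.snd q.left q.left ≫ U.hom = pullback.fst q.left q.left ≫ U.hom
        rw [← Over.w q, ← Category.assoc, ← Category.assoc, pullback.condition])) =
      QuotSh.repMap K s := by
    rw [← Functor.map_comp]
    change (repF K S).map _ = (repF K S).map _
    congr 1
    ext1
    exact pullback.lift_snd _ _ _
  have ht : (repF K S).map e ≫ (repF K S).map (Over.homMk (pullback.fst q.left q.left) :
      Over.mk (pullback.fst q.left q.left ≫ U.hom) ⟶ U) = QuotSh.repMap K t := by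
    rw [← Functor.map_comp]
    change (repF K S).map _ = (repF K S).map _
    congr 1
    ext1
    exact pullback.lift_fst _ _ _
  have hiso : ∀ (Z : QuotSh.Sh K S) (f : QuotSh.rep K U ⟶ Z), QuotSh.repMap K s ≫ f = QuotSh.repMap K t ≫ f →
      ∃ g : QuotSh.rep K M ⟶ Z, QuotSh.repMap K q ≫ g = f := by
    intro Z f hf
    have h1 : ((repF K S).map e ≫ (repF K S).map (Over.homMk (pullback.snd q.left q.left) (by
        change pullback.snd q.left q.left ≫ U.hom = pullback.fst q.left q.left ≫ U.hom
        rw [← Over.w q, ← Category.assoc, ← Category.assoc, pullback.condition]))) ≫ f =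
      ((repF K S).map e ≫ (repF K S).map (Over.homMk (pullback.fst q.left q.left) :
      Over.mk (pullback.fst q.left q.left ≫ U.hom) ⟶ U)) ≫ f := by
      rw [hs, ht]; exact hf
    exact ⟨hc'.desc (Cofork.ofπ f h1), hc'.fac (Cofork.ofπ f h1) WalkingParallelPair.one⟩
  obtain ⟨g, hg⟩ := hiso _ (QuotSh.quotπ K s t) (QuotSh.quot_condition K s t)
  have hπ : QuotSh.quotπ K s t ≫ QuotSh.quotDesc K q w = QuotSh.repMap K q :=
    coequalizer.π_desc _ _
  have hπe : Epi (QuotSh.quotπ K s t) := inferInstanceAs (Epi (coequalizer.π _ _))
  refine ⟨g, ?_, ?_⟩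
  · rw [← cancel_epi (QuotSh.quotπ K s t), ← Category.assoc, hπ, hg, Category.comp_id]
  · rw [← cancel_epi (QuotSh.repMap K q), ← Category.assoc, hg, hπ, Category.comp_id]

end Groth.Agent.S7490
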