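import Groth.Statements.S7494
import Groth.Agent.AlgGrp.K395.Act

set_option autoImplicit false
universe u
open CategoryTheory MonoidalCategory CartesianMonoidalCategory MonObj GrpObj AlgebraicGeometry
open AlgGrp K395.Act

namespace Groth.Agent.S7494

/-- Let G be a group scheme over S acting on a scheme X over S by a. The action is free, meaning that
for every scheme T over S and all T-points g of G and x of X with g · x = x one has g = 1, if and
only if the morphism G x_S X -> X x_S X, (g, x) ↦ (a(g, x), x), is a monomorphism of schemes. -/
theorem result {S : Scheme.{u}} (G X : Over S) [GrpObj G] (a : AlgGrp.Action G X) : (∀ (T : Over S) (g : T ⟶ G) (x : T ⟶ X), lift g x ≫ a.act = x → g = toUnit T ≫ η[G]) ↔ Mono (lift a.act (snd G X)).left := by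
  constructor
  · intro h
    suffices hm : Mono (lift a.act (snd G X)) from inferInstanceAs (Mono ((Over.forget S).map (lift a.act (snd G X))))
    constructor
    intro T u v huv
    have e1 : u ≫ a.act = v ≫ a.act := by simpa using congr($huv ≫ fst X X)
    have e2 : u ≫ snd G X = v ≫ snd G X := by simpa using congr($huv ≫ snd X X)
    have hu : u = lift (u ≫ fst G X) (u ≫ snd G X) := by ext1 <;> simp
    have hv : v = lift (v ≫ fst G X) (v ≫ snd G X) := by ext1 <;> simp
    rw [hu, hv, ← e2] at e1
    have e3 := h T ((v ≫ fst G X)⁻¹ * (u ≫ fst G X)) (u ≫ snd G X) (by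
      rw [mul_lift, e1, inv_lift])
    rw [← Hom.one_def, inv_mul_eq_one] at e3
    rw [hu, hv, ← e2, e3]
  · intro h T g x hx
    have hm : Mono (lift a.act (snd G X)) := Over.mono_of_mono_left _
    have h1 : lift g x ≫ lift a.act (snd G X) = lift 1 x ≫ lift a.act (snd G X) := by
      rw [comp_lift, comp_lift, hx, one_lift, lift_snd, lift_snd]
    have h2 := (cancel_mono (lift a.act (snd G X))).1 h1
    have h3 := congr($h2 ≫ fst G X)
    simpa [Hom.one_def] using h3

end Groth.Agent.S7494
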