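import Groth.Statements.S7497
import Groth.Agent.HTop.K345.Fpqc

set_option autoImplicit false
universe u
open CategoryTheory CategoryTheory.Limits AlgebraicGeometry
open HTop

namespace Groth.Agent.S7497

/-- Let {f_i : T_i -> T} be a family of flat morphisms of schemes and {g_j : S_j -> T} an fpqc covering
such that for every j the family of base changes {S_j x_T T_i -> S_j} is an fpqc covering. Then {f_i
: T_i -> T} is an fpqc covering. (fpqc coverings are Mathlib's: flat, jointly surjective, every
affine open of the target covered by images of finitely many quasi-compact opens.) -/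
theorem result {T : Scheme.{u}} (E : PreZeroHypercover.{u} T) (hflat : ∀ i, Flat (E.f i)) (𝒱 : Scheme.Cover Scheme.fpqcPrecoverage T) (hloc : ∀ j, (E.pullback₁ (𝒱.f j)).presieve₀ ∈ Scheme.fpqcPrecoverage (𝒱.X j)) : E.presieve₀ ∈ Scheme.fpqcPrecoverage T := by
  obtain ⟨-, h2⟩ := (K345.Fpqc.mem_fpqc_iff 𝒱.toPreZeroHypercover).1 𝒱.mem₀
  exact (K345.Fpqc.mem_fpqc_iff E).2 ⟨hflat, K345.Fpqc.quasiCompactCover_of_locally E 𝒱.toPreZeroHypercover
    fun j => ((K345.Fpqc.mem_fpqc_iff _).1 (hloc j)).2⟩

end Groth.Agent.S7497
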