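import Groth.Statements.S7498
import Groth.Agent.Grpd.K392.Translate

set_option autoImplicit false
universe u
open CategoryTheory CategoryTheory.Limits AlgebraicGeometry
open Grpd

namespace Groth.Agent.S7498

/-- Let (U, R, s, t, c) be a groupoid scheme over S and r, r' points of R with t(r) = t(r'); put u =
s(r), u' = s(r') and let F_u, F_u' be the scheme-theoretic fibres of s. Then there are a field k
which is a common extension of κ(u) and κ(u') (morphisms a, b : Spec k -> U with images u, u') and
an isomorphism of the base changes (F_u)_k and (F_u')_k over Spec k, which moreover can be chosen to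
send some point lying over r to a point lying over r'. (The published statement also compares the
germs of s at r and at r' when s and t are flat or flat of finite presentation; this row omits
that.) (A groupoid scheme carries U, R, s, t, c, e, i over S with the groupoid axioms on T-points; c
is defined on the fibre product of s and t and sends a pair (a, b) with s(a) = t(b) to a composed
with b.) -/
theorem result (S : Scheme.{u}) (G : Grpd.GroupoidScheme S) (r r' : G.R) (h : G.t r = G.t r') : ∃ (k : Type u) (_ : Field k) (a b : Spec (CommRingCat.of k) ⟶ G.U) (φ : pullback G.s a ≅ pullback G.s b) (p : ↑(pullback G.s a)), a (IsLocalRing.closedPoint k) = G.s r ∧ b (IsLocalRing.closedPoint k) = G.s r' ∧ φ.hom ≫ pullback.snd G.s b = pullback.snd G.s a ∧ pullback.fst G.s a p = r ∧ pullback.fst G.s b (φ.hom p) = r' := by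
  obtain ⟨z, hz1, hz2⟩ := Scheme.Pullback.exists_preimage_pullback r r' h
  let Z := (pullback G.t G.t).fromSpecResidueField z
  let x := Z ≫ pullback.fst G.t G.t
  let y := Z ≫ pullback.snd G.t G.t
  have hxy : x ≫ G.t = y ≫ G.t := by
    rw [Category.assoc, Category.assoc, pullback.condition]
  have hZ : ∀ p, Z p = z := fun p => Scheme.fromSpecResidueField_apply z p
  have hx : ∀ p, x p = r := fun p => by rw [Scheme.Hom.comp_apply, hZ, hz1]
  have hy : ∀ p, y p = r' := fun p => by rw [Scheme.Hom.comp_apply, hZ, hz2]
  refine ⟨(pullback G.t G.t).residueField z, inferInstance, x ≫ G.s, y ≫ G.s,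
    K392.Translate.translIso G x y hxy,
    pullback.lift x (𝟙 _) (Category.id_comp _).symm
      (IsLocalRing.closedPoint ((pullback G.t G.t).residueField z)), ?_, ?_, ?_, ?_, ?_⟩
  · rw [Scheme.Hom.comp_apply, hx]
  · rw [Scheme.Hom.comp_apply, hy]
  · exact K392.Translate.transl_snd G x y hxy
  · rw [← Scheme.Hom.comp_apply, pullback.lift_fst, hx]
  · rw [← Scheme.Hom.comp_apply]
    have h2 := K392.Translate.lift_transl G x y hxy
    change pullback.fst G.s (y ≫ G.s) ((pullback.lift x (𝟙 _) (Category.id_comp _).symm ≫
      K392.Translate.transl G x y hxy) _) = r'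
    rw [h2, ← Scheme.Hom.comp_apply, pullback.lift_fst, hy]

end Groth.Agent.S7498
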