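import Groth.Statements.S7500
import Groth.Agent.Grpsch.Points

set_option autoImplicit false
universe u
open CategoryTheory CategoryTheory.Limits AlgebraicGeometry
open Grpd

namespace Groth.Agent.S7500

open Groth.Agent.Grpsch.Points

/-- Let (U, R, s, t, c) be a groupoid scheme over S and G -> U its stabilizer group scheme (the base
change of j = (t, s) along the diagonal). The action of G on R by composition, base changed to G_0 =
G x_(U, pr_0) (U x_S U), makes R a pseudo G_0-torsor over U x_S U. Concretely: let α : G x_(U, t) R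
-> R x_(s, U, t) R be the morphism with components (γ viewed in R, r) and β : G x_(U, t) R -> R
x_(j, U x_S U, j) R the morphism with components (c ∘ α, r); then β is an isomorphism. (A groupoid
scheme carries U, R, s, t, c, e, i over S with the groupoid axioms on T-points; c is defined on the
fibre product of s and t and sends a pair (a, b) with s(a) = t(b) to a composed with b.) -/
theorem result (S : Scheme.{u}) (G : Grpd.GroupoidScheme S) (α : pullback G.stabilizerToU G.t ⟶ pullback G.s G.t) (hα₁ : α ≫ pullback.fst G.s G.t = pullback.fst G.stabilizerToU G.t ≫ pullback.fst G.j G.diag) (hα₂ : α ≫ pullback.snd G.s G.t = pullback.snd G.stabilizerToU G.t) (β : pullback G.stabilizerToU G.t ⟶ pullback G.j G.j) (hβ₁ : β ≫ pullback.fst G.j G.j = α ≫ G.c) (hβ₂ : β ≫ pullback.snd G.j G.j = pullback.snd G.stabilizerToU G.t) : IsIso β := by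
  have hj := (comp_j_eq_iff G (pullback.fst G.j G.j) (pullback.snd G.j G.j)).mp pullback.condition
  have hm : pullback.fst G.j G.j ≫ G.s = (pullback.snd G.j G.j ≫ G.i) ≫ G.t := by
    rw [inv_t]; exact hj.2
  let γ : pullback G.j G.j ⟶ G.stabilizer :=
    stabLift G (mul G (pullback.fst G.j G.j) (pullback.snd G.j G.j ≫ G.i) hm)
      (pullback.snd G.j G.j ≫ G.t) (by rw [mul_t]; exact hj.1) (by rw [mul_s, inv_s])
  let δ : pullback G.j G.j ⟶ pullback G.stabilizerToU G.t :=
    pullback.lift γ (pullback.snd G.j G.j) (stabLift_stabilizerToU ..)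
  have hcond : (pullback.fst G.stabilizerToU G.t ≫ stabToR G) ≫ G.s =
      pullback.snd G.stabilizerToU G.t ≫ G.t := by
    rw [Category.assoc, stabToR_s]; exact pullback.condition
  have hαc : α ≫ G.c = mul G (pullback.fst G.stabilizerToU G.t ≫ stabToR G)
      (pullback.snd G.stabilizerToU G.t) hcond := by
    rw [comp_c]
    exact mul_congr G _ hα₁ hα₂
  have hγ : γ ≫ stabToR G = mul G (pullback.fst G.j G.j) (pullback.snd G.j G.j ≫ G.i) hm :=
    stabLift_stabToR ..
  have hδ1 : δ ≫ pullback.fst G.stabilizerToU G.t = γ := pullback.lift_fst _ _ _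
  have hδ2 : δ ≫ pullback.snd G.stabilizerToU G.t = pullback.snd G.j G.j := pullback.lift_snd _ _ _
  refine ⟨δ, ?_, ?_⟩
  · apply pullback.hom_ext
    · rw [Category.assoc, hδ1, Category.id_comp]
      apply stab_hom_ext
      rw [Category.assoc, hγ, comp_mul]
      have h1 : β ≫ pullback.fst G.j G.j = mul G (pullback.fst G.stabilizerToU G.t ≫ stabToR G)
        (pullback.snd G.stabilizerToU G.t) hcond := hβ₁.trans hαc
      have h2 : β ≫ pullback.snd G.j G.j ≫ G.i = pullback.snd G.stabilizerToU G.t ≫ G.i := by
        rw [← Category.assoc, hβ₂]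
      rw [mul_congr G _ h1 h2]
      exact mul_inv_cancel_right G _ _ _ _
    · rw [Category.assoc, hδ2, Category.id_comp, hβ₂]
  · apply pullback.hom_ext
    · rw [Category.assoc, hβ₁, hαc, comp_mul, Category.id_comp]
      have h1 : δ ≫ pullback.fst G.stabilizerToU G.t ≫ stabToR G =
          mul G (pullback.fst G.j G.j) (pullback.snd G.j G.j ≫ G.i) hm := by
        rw [← Category.assoc, hδ1, hγ]
      rw [mul_congr G _ h1 hδ2]
      exact inv_mul_cancel_right G _ _ _ _
    · rw [Category.assoc, hβ₂, hδ2, Category.id_comp]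

end Groth.Agent.S7500
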