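import Groth.Statements.S7509
import Groth.Agent.Grpd.K392.RelImage

set_option autoImplicit false
universe u
open CategoryTheory CategoryTheory.Limits AlgebraicGeometry
open Grpd

namespace Groth.Agent.S7509

/-- Let (U, R, s, t, c) be a groupoid scheme over S with U the spectrum of a field and R quasi-compact
(equivalently s, t quasi-compact), and let Z be the scheme-theoretic image of j = (t, s) : R -> U
x_S U. Then (U, Z, pr_0|_Z, pr_1|_Z, pr_02) is a groupoid scheme over S; stated as: there are a
groupoid scheme G' over S and a morphism of groupoid schemes φ : (U, R, s, t, c) -> G' which is an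
isomorphism on object schemes, such that j' : G'.R -> G'.U x_S G'.U is a closed immersion whose
kernel ideal sheaf equals the kernel ideal sheaf of j followed by the induced isomorphism U x_S U ->
G'.U x_S G'.U (so G'.R is the scheme-theoretic image of j, transported). (A groupoid scheme carries
U, R, s, t, c, e, i over S with the groupoid axioms on T-points; c is defined on the fibre product
of s and t and sends a pair (a, b) with s(a) = t(b) to a composed with b.) -/
theorem result (S : Scheme.{u}) (G : Grpd.GroupoidScheme S) (k : Type u) [Field k] (eU : G.U ≅ Spec (CommRingCat.of k)) [CompactSpace G.R] : ∃ (G' : Grpd.GroupoidScheme S) (φ : Grpd.GroupoidScheme.Hom G G'), IsIso φ.fU ∧ IsClosedImmersion G'.j ∧ G'.j.ker = (G.j ≫ pullback.map G.pU G.pU G'.pU G'.pU φ.fU φ.fU (𝟙 S) ((Category.comp_id _).trans φ.fU_over.symm) ((Category.comp_id _).trans φ.fU_over.symm)).ker := by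
  obtain ⟨D, p, hp, hz, hk⟩ := K392.RelImage.exists_data G eU
  refine ⟨D.grpd, D.homOf G p hp, (inferInstance : IsIso (𝟙 G.U)), ?_, ?_⟩
  · rw [D.grpd_j]; exact hz
  · refine (congrArg Scheme.Hom.ker D.grpd_j).trans (hk.trans ?_)
    have h : ∀ (h1 h2), pullback.map G.pU G.pU G.pU G.pU (𝟙 G.U) (𝟙 G.U) (𝟙 S) h1 h2 = 𝟙 _ := by
      intro h1 h2
      apply pullback.hom_ext
      · rw [pullback.lift_fst, Category.comp_id, Category.id_comp]
      · rw [pullback.lift_snd, Category.comp_id, Category.id_comp]
    refine (congrArg Scheme.Hom.ker ?_).symm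
    exact (congrArg (fun g => G.j ≫ g) (h _ _)).trans (Category.comp_id _)

end Groth.Agent.S7509
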