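import Groth.Statements.S7510
import Groth.Agent.Grpd.K393.Slice

set_option autoImplicit false
universe u
open CategoryTheory CategoryTheory.Limits AlgebraicGeometry
open Grpd

namespace Groth.Agent.S7510

/-- Let (U, R, s, t, c, e, i) be a groupoid scheme over S and g : U' -> U a morphism; write h = s ∘ pr_1
: U' x_(g,U,t) R -> U. Let P, Q, R be properties of morphisms of schemes, with P invariant under
composition with isomorphisms, such that (1) R implies Q, (2) Q is stable under base change and
composition, (3) every morphism f : X -> Y with Q has a largest open W(P, f) of X on which the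
restriction of f has P (given here as a function W with these two properties), and (4) for f with Q
and a base change along Y' -> Y with R, the preimage of W(P, f) in X x_Y Y' is W(P, f') for the base
change f'. If s, t have R and g has Q, then there is an open W of U' whose preimage in U' x_(g,U,t)
R equals W(P, h). (The published statement speaks of arbitrary properties of morphisms; this row
asks P to be invariant under composition with isomorphisms, which the proof uses to identify the
largest opens on the two isomorphic fibre products of h with t and with s.) (A groupoid scheme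
carries U, R, s, t, c, e, i over S with the groupoid axioms on T-points; c is defined on the fibre
product of s and t and sends a pair (a, b) with s(a) = t(b) to a composed with b.) -/
theorem result (S : Scheme.{u}) (G : Grpd.GroupoidScheme S) {U' : Scheme.{u}} (g : U' ⟶ G.U) (P Q R : MorphismProperty Scheme.{u}) [P.RespectsIso] (hRQ : R ≤ Q) [Q.IsStableUnderBaseChange] [Q.IsStableUnderComposition] (W : ∀ {X Y : Scheme.{u}} (f : X ⟶ Y), Q f → X.Opens) (hWP : ∀ {X Y : Scheme.{u}} (f : X ⟶ Y) (hf : Q f), P ((W f hf).ι ≫ f)) (hWmax : ∀ {X Y : Scheme.{u}} (f : X ⟶ Y) (hf : Q f) (V : X.Opens), P (V.ι ≫ f) → V ≤ W f hf) (hWbc : ∀ {X Y Y' : Scheme.{u}} (f : X ⟶ Y) (hf : Q f) (b : Y' ⟶ Y), R b → ∀ hf' : Q (pullback.snd f b), pullback.fst f b ⁻¹ᵁ W f hf = W (pullback.snd f b) hf') (hs : R G.s) (ht : R G.t) (hg : Q g) (hh : Q (pullback.snd g G.t ≫ G.s)) : ∃ V : U'.Opens, pullback.fst g G.t ⁻¹ᵁ V = W (pullback.snd g G.t ≫ G.s) hh := by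
  have hiso : ∀ {X X' Y : Scheme.{u}} (φ : X' ⟶ X) [IsIso φ] (f : X ⟶ Y) (hf : Q f)
      (hf' : Q (φ ≫ f)), φ ⁻¹ᵁ W f hf = W (φ ≫ f) hf' := by
    intro X X' Y φ _ f hf hf'
    apply le_antisymm
    · apply hWmax
      have h1 : (φ ⁻¹ᵁ W f hf).ι ≫ φ ≫ f = (φ ∣_ W f hf) ≫ (W f hf).ι ≫ f := by
        rw [← Category.assoc, ← morphismRestrict_ι, Category.assoc]
      rw [h1, P.cancel_left_of_respectsIso]
      exact hWP f hf
    · have h2 : (inv φ) ⁻¹ᵁ W (φ ≫ f) hf' ≤ W f hf := by
        apply hWmax
        have h1 : ((inv φ) ⁻¹ᵁ W (φ ≫ f) hf').ι ≫ f =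
            (inv φ ∣_ W (φ ≫ f) hf') ≫ (W (φ ≫ f) hf').ι ≫ φ ≫ f := by
          rw [← Category.assoc, morphismRestrict_ι, Category.assoc, IsIso.inv_hom_id_assoc]
        rw [h1, P.cancel_left_of_respectsIso]
        exact hWP (φ ≫ f) hf'
      intro x hx
      apply h2
      change (inv φ) (φ x) ∈ W (φ ≫ f) hf'
      rw [← Scheme.Hom.comp_apply, IsIso.hom_inv_id]
      exact hx
  have hsnd : Q (pullback.snd (K393.Slice.src G g) G.t) :=
    Q.of_isPullback (IsPullback.of_hasPullback _ _) hh
  -- along `t`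
  have e1 : pullback.fst (K393.Slice.src G g) G.t ⁻¹ᵁ W (K393.Slice.src G g) hh =
      W (pullback.snd (K393.Slice.src G g) G.t) hsnd := hWbc _ hh G.t ht hsnd
  -- along `s`
  have hP := K393.Slice.isPullback_trans G g
  let φ := hP.isoPullback
  have hφ1 : φ.hom ≫ pullback.fst (K393.Slice.src G g) G.s = K393.Slice.trans G g :=
    hP.isoPullback_hom_fst
  have hφ2 : φ.hom ≫ pullback.snd (K393.Slice.src G g) G.s =
    pullback.snd (K393.Slice.src G g) G.t := hP.isoPullback_hom_snd
  have hsnd' : Q (pullback.snd (K393.Slice.src G g) G.s) :=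
    Q.of_isPullback (IsPullback.of_hasPullback _ _) hh
  have e2 : pullback.fst (K393.Slice.src G g) G.s ⁻¹ᵁ W (K393.Slice.src G g) hh =
      W (pullback.snd (K393.Slice.src G g) G.s) hsnd' := hWbc _ hh G.s hs hsnd'
  have e3 : K393.Slice.trans G g ⁻¹ᵁ W (K393.Slice.src G g) hh =
      W (pullback.snd (K393.Slice.src G g) G.t) hsnd := by
    rw [← hφ1, Scheme.Hom.comp_preimage, e2]
    have h3 := hiso φ.hom (pullback.snd (K393.Slice.src G g) G.s) hsnd' (by rw [hφ2]; exact hsnd)
    rw [h3]
    congr 1
  refine ⟨K393.Slice.sec G g ⁻¹ᵁ W (K393.Slice.src G g) hh, ?_⟩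
  have e4 := e1.trans e3.symm
  ext v
  have h5 : K393.Slice.tau G g v ∈ pullback.fst (K393.Slice.src G g) G.t ⁻¹ᵁ
      W (K393.Slice.src G g) hh ↔ K393.Slice.tau G g v ∈ K393.Slice.trans G g ⁻¹ᵁ
      W (K393.Slice.src G g) hh := by rw [e4]
  change pullback.fst (K393.Slice.src G g) G.t (K393.Slice.tau G g v) ∈
    W (K393.Slice.src G g) hh ↔
    K393.Slice.trans G g (K393.Slice.tau G g v) ∈ W (K393.Slice.src G g) hh at h5
  rw [K393.Slice.fst_tau_apply, K393.Slice.trans_tau_apply] at h5
  exact h5.symm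

end Groth.Agent.S7510
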