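import Groth.Statements.S7513
import Groth.Agent.Grpd.K392.FitFin
import Groth.Agent.Grpsch.Points

set_option autoImplicit false
universe u
open CategoryTheory CategoryTheory.Limits AlgebraicGeometry
open Grpd

namespace Groth.Agent.S7513

open Groth.Agent.Grpsch.Points K392.FitFin

lemma app_injective_of_id {Y : Scheme.{u}} (h : Y ⟶ Y) (hh : h = 𝟙 Y) (V : Y.Opens) :
    Function.Injective (h.app V).hom := by
  subst hh
  intro a b hab
  exact hab

lemma exists_iso_of_eq {R : Scheme.{u}} (J₁ J₂ : R.IdealSheafData) (h : J₁ = J₂) :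
    ∃ e : J₁.subscheme ≅ J₂.subscheme, e.hom ≫ J₂.subschemeι = J₁.subschemeι := by
  subst h
  exact ⟨Iso.refl _, Category.id_comp _⟩

/-- Let (U, R, s, t, c) be a groupoid scheme over S with s and t finite. Then there are closed
subschemes U = Z_0 ⊇ Z_1 ⊇ Z_2 ⊇ ..., each invariant under R, (given by quasi-coherent ideal sheaves
I_0 = 0 ≤ I_1 ≤ I_2 ≤ ...) with empty intersection such that for every r the restriction of s over
the locally closed stratum Z_r minus Z_(r+1) (the open of the subscheme Z_r complementary to the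
support of Z_(r+1)) is finite locally free of rank r + 1. R-invariance of Z_r is expressed as an
isomorphism between the pullbacks of s and of t along Z_r -> U compatible with the maps to R;
'finite locally free of rank n' is finite, flat, locally of finite presentation with constant rank
n. (A groupoid scheme carries U, R, s, t, c, e, i over S with the groupoid axioms on T-points; c is
defined on the fibre product of s and t and sends a pair (a, b) with s(a) = t(b) to a composed with
b.) -/
theorem result (S : Scheme.{u}) (G : Grpd.GroupoidScheme S) [IsFinite G.s] [IsFinite G.t] : ∃ Z : ℕ → G.U.IdealSheafData, Z 0 = ⊥ ∧ Monotone Z ∧ (⋂ r, ((Z r).support : Set G.U)) = ∅ ∧ (∀ r, ∃ φ : pullback G.s (Z r).subschemeι ≅ pullback G.t (Z r).subschemeι, φ.hom ≫ pullback.fst G.t (Z r).subschemeι = pullback.fst G.s (Z r).subschemeι) ∧ ∀ r, Mor2.IsFinLocFreeOfDeg (r + 1) (pullback.snd G.s (((Z r).subschemeι ⁻¹ᵁ (Z (r + 1)).support.compl).ι ≫ (Z r).subschemeι)) := by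
  refine ⟨fit G.s, fit_zero _ fun V => ?_, fit_mono _, ?_, fun r => ?_, isFinLocFreeOfDeg_stratum _⟩
  · have h := app_injective_of_id (G.e ≫ G.s) G.e_s V.1
    rw [Scheme.Hom.comp_app] at h
    intro a b hab
    exact h (congrArg (G.e.app (G.s ⁻¹ᵁ V.1)).hom hab)
  · rw [Set.eq_empty_iff_forall_notMem]
    intro u hu
    obtain ⟨r, hr⟩ := exists_not_mem_support G.s u
    exact hr (Set.mem_iInter.mp hu r)
  · have h1 := fit_comap G.s (isPullback_fst_snd G) r
    have h2 := fit_comap G.s (isPullback_c_snd G) r
    obtain ⟨e, he⟩ := exists_iso_of_eq _ _ (h2.trans h1.symm)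
    refine ⟨((fit G.s r).comapIso G.s).symm ≪≫ e ≪≫ (fit G.s r).comapIso G.t, ?_⟩
    simp [he]

end Groth.Agent.S7513
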