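import Groth.Statements.S7514

set_option autoImplicit false
universe u
open CategoryTheory CategoryTheory.Limits AlgebraicGeometry
open Grpd

namespace Groth.Agent.S7514

/-- Every point is the image of a geometric point. -/
theorem exists_algClosed_point (X : Scheme.{u}) (p : X) :
    ∃ (k : Type u) (_ : Field k) (_ : IsAlgClosed k) (x : Spec (CommRingCat.of k) ⟶ X)
      (y : ↥(Spec (CommRingCat.of k))), x y = p := by
  refine ⟨AlgebraicClosure (X.residueField p), inferInstance, inferInstance,
    Spec.map (CommRingCat.ofHom (algebraMap (X.residueField p)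
      (AlgebraicClosure (X.residueField p)))) ≫ X.fromSpecResidueField p,
    IsLocalRing.closedPoint (AlgebraicClosure (X.residueField p)), ?_⟩
  exact (Scheme.Hom.comp_apply _ _ _).trans (Scheme.fromSpecResidueField_apply p _)

/-- Let S be a scheme, U a scheme over S and j : R -> U x_S U a pre-relation, with t = pr_0 ∘ j and s =
pr_1 ∘ j. Assume (1) s and t are unramified (formally unramified and locally of finite type), (2)
for every algebraically closed field k, the map from k-points of R to pairs of k-points of U is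
injective with image an equivalence relation, and (3) there are morphisms e : U -> R, i : R -> R and
c : R x_(s,U,t) R -> R such that j ∘ e is the diagonal, j ∘ i is j followed by the flip of the two
factors, and j ∘ c is pr_02 ∘ (j x j) (the arrow c(a, b) has target t(a) and source s(b)). Then j is
an equivalence relation: j is a monomorphism and, for every scheme T, the relation 'there is a
T-point r of R with t ∘ r = a and s ∘ r = b' on T-points a, b of U is an equivalence relation. -/
theorem result {S U R : Scheme.{u}} (pU : U ⟶ S) (j : R ⟶ pullback pU pU) [FormallyUnramified (j ≫ pullback.fst pU pU)] [LocallyOfFiniteType (j ≫ pullback.fst pU pU)] [FormallyUnramified (j ≫ pullback.snd pU pU)] [LocallyOfFiniteType (j ≫ pullback.snd pU pU)] (h₂ : ∀ (k : Type u) [Field k] [IsAlgClosed k], Function.Injective (fun r : Spec (CommRingCat.of k) ⟶ R => r ≫ j) ∧ Equivalence (fun a b : Spec (CommRingCat.of k) ⟶ U => ∃ r : Spec (CommRingCat.of k) ⟶ R, r ≫ j ≫ pullback.fst pU pU = a ∧ r ≫ j ≫ pullback.snd pU pU = b)) (e : U ⟶ R) (he : e ≫ j = pullback.lift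 (𝟙 U) (𝟙 U) rfl) (i : R ⟶ R) (hi : i ≫ j = j ≫ (pullbackSymmetry pU pU).hom) (c : pullback (j ≫ pullback.snd pU pU) (j ≫ pullback.fst pU pU) ⟶ R) (hc₁ : c ≫ j ≫ pullback.fst pU pU = pullback.fst (j ≫ pullback.snd pU pU) (j ≫ pullback.fst pU pU) ≫ j ≫ pullback.fst pU pU) (hc₂ : c ≫ j ≫ pullback.snd pU pU = pullback.snd (j ≫ pullback.snd pU pU) (j ≫ pullback.fst pU pU) ≫ j ≫ pullback.snd pU pU) : Mono j ∧ ∀ T : Scheme.{u}, Equivalence (fun a b : T ⟶ U => ∃ r : T ⟶ R, r ≫ j ≫ pullback.fst pU pU = a ∧ r ≫ j ≫ pullback.snd pU pU = b) := by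
  have hju : FormallyUnramified j := FormallyUnramified.of_comp j (pullback.fst pU pU)
  have hjt : LocallyOfFiniteType j := locallyOfFiniteType_of_comp j (pullback.fst pU pU)
  refine ⟨?_, ?_⟩
  · rw [← pullback.isIso_diagonal_iff]
    have h1 : IsOpenImmersion (pullback.diagonal j) := inferInstance
    have h2 : Function.Surjective (pullback.diagonal j) := by
      intro p
      obtain ⟨k, hk, hk', x, y, hx⟩ := exists_algClosed_point _ p
      have h3 : x ≫ pullback.fst j j = x ≫ pullback.snd j j := by
        apply (h₂ k).1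
        change (x ≫ pullback.fst j j) ≫ j = (x ≫ pullback.snd j j) ≫ j
        rw [Category.assoc, Category.assoc, pullback.condition]
      have h4 : x = (x ≫ pullback.fst j j) ≫ pullback.diagonal j := by
        apply pullback.hom_ext
        · rw [Category.assoc, pullback.diagonal_fst, Category.comp_id]
        · rw [Category.assoc, pullback.diagonal_snd, Category.comp_id, h3]
      refine ⟨(x ≫ pullback.fst j j) y, ?_⟩
      rw [← Scheme.Hom.comp_apply, ← h4, hx]
    have h3 : Epi (pullback.diagonal j).base := (TopCat.epi_iff_surjective _).2 h2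
    exact (isIso_iff_isOpenImmersion_and_epi_base _).2 ⟨h1, h3⟩
  · intro T
    have he1 : e ≫ j ≫ pullback.fst pU pU = 𝟙 U := by
      rw [← Category.assoc, he, pullback.lift_fst]
    have he2 : e ≫ j ≫ pullback.snd pU pU = 𝟙 U := by
      rw [← Category.assoc, he, pullback.lift_snd]
    have hi1 : i ≫ j ≫ pullback.fst pU pU = j ≫ pullback.snd pU pU := by
      rw [← Category.assoc, hi, Category.assoc, pullbackSymmetry_hom_comp_fst]
    have hi2 : i ≫ j ≫ pullback.snd pU pU = j ≫ pullback.fst pU pU := by
      rw [← Category.assoc, hi, Category.assoc, pullbackSymmetry_hom_comp_snd]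
    refine ⟨fun a => ⟨a ≫ e, ?_, ?_⟩, ?_, ?_⟩
    · rw [Category.assoc, he1, Category.comp_id]
    · rw [Category.assoc, he2, Category.comp_id]
    · rintro a b ⟨r, h1, h2⟩
      exact ⟨r ≫ i, by rw [Category.assoc, hi1, h2], by rw [Category.assoc, hi2, h1]⟩
    · rintro a b d ⟨r, h1, h2⟩ ⟨r', h1', h2'⟩
      refine ⟨pullback.lift r r' (h2.trans h1'.symm) ≫ c, ?_, ?_⟩
      · rw [Category.assoc, hc₁, pullback.lift_fst_assoc, h1]
      · rw [Category.assoc, hc₂, pullback.lift_snd_assoc, h2']

end Groth.Agent.S7514
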