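import Groth.Statements.S7522
import Mathlib.AlgebraicGeometry.PullbackCarrier
-- import your own Groth.Agent.* helpers here

set_option autoImplicit false
universe u
open CategoryTheory CategoryTheory.Limits AlgebraicGeometry
open Grpd

namespace Groth.Agent.S7522

/-- Let S be a scheme, U a scheme over S and j : R -> U x_S U a pre-equivalence relation, that is a
morphism such that for every scheme T the image of the T-points of R in pairs of T-points of U is an
equivalence relation; write t = pr_0 ∘ j and s = pr_1 ∘ j. Then the relation on the points of U in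
which x ∼ y when some point r of R has t(r) = x and s(r) = y is an equivalence relation. -/
theorem result {S U R : Scheme.{u}} (pU : U ⟶ S) (j : R ⟶ pullback pU pU) (hj : ∀ T : Scheme.{u}, Equivalence (fun a b : T ⟶ U => ∃ r : T ⟶ R, r ≫ j ≫ pullback.fst pU pU = a ∧ r ≫ j ≫ pullback.snd pU pU = b)) : Equivalence (fun x y : ↥U => ∃ r : R, (j ≫ pullback.fst pU pU) r = x ∧ (j ≫ pullback.snd pU pU) r = y) := by
  refine ⟨fun x => ?_, ?_, ?_⟩
  · obtain ⟨r, h1, h2⟩ := (hj U).refl (𝟙 U)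
    refine ⟨r x, ?_, ?_⟩
    · rw [← Scheme.Hom.comp_apply, h1]; rfl
    · rw [← Scheme.Hom.comp_apply, h2]; rfl
  · rintro x y ⟨r, rfl, rfl⟩
    obtain ⟨i, h1, h2⟩ := (hj R).symm (x := j ≫ pullback.fst pU pU) (y := j ≫ pullback.snd pU pU)
      ⟨𝟙 R, Category.id_comp _, Category.id_comp _⟩
    refine ⟨i r, ?_, ?_⟩
    · rw [← Scheme.Hom.comp_apply, h1]
    · rw [← Scheme.Hom.comp_apply, h2]
  · rintro x y z ⟨r₁, rfl, h⟩ ⟨r₂, h', rfl⟩
    obtain ⟨q, hq1, hq2⟩ := Scheme.Pullback.exists_preimage_pullback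
      (f := j ≫ pullback.snd pU pU) (g := j ≫ pullback.fst pU pU) r₁ r₂ (h.trans h'.symm)
    let T := pullback (j ≫ pullback.snd pU pU) (j ≫ pullback.fst pU pU)
    let p₁ : T ⟶ R := pullback.fst _ _
    let p₂ : T ⟶ R := pullback.snd _ _
    have hcond : p₁ ≫ j ≫ pullback.snd pU pU = p₂ ≫ j ≫ pullback.fst pU pU := pullback.condition
    obtain ⟨c, h1, h2⟩ := (hj T).trans
      (x := p₁ ≫ j ≫ pullback.fst pU pU) (y := p₁ ≫ j ≫ pullback.snd pU pU)
      (z := p₂ ≫ j ≫ pullback.snd pU pU) ⟨p₁, rfl, rfl⟩ ⟨p₂, hcond.symm, rfl⟩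
    refine ⟨c q, ?_, ?_⟩
    · rw [← Scheme.Hom.comp_apply, h1, Scheme.Hom.comp_apply]
      exact congrArg _ hq1
    · rw [← Scheme.Hom.comp_apply, h2, Scheme.Hom.comp_apply]
      exact congrArg _ hq2

end Groth.Agent.S7522
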