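import Groth.Statements.S7528
import Groth.Agent.SpecSp.K416.Basic

set_option autoImplicit false
universe u
open SpecSp

namespace Groth.Agent.S7528

/-- For a spectral space X the following are equivalent: (1) X is profinite, i.e. quasi-compact,
Hausdorff and totally disconnected (quasi-compactness being automatic); (2) X is Hausdorff; (3) X is
totally disconnected; (4) every quasi-compact open subset is closed; (5) there are no nontrivial
specializations between points; (6) every point is closed; (7) every point is the generic point of
an irreducible component; (8) the constructible topology coincides with the topology of X. -/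
theorem result (X : Type u) [tX : TopologicalSpace X] [SpectralSpace X] :
    List.TFAE [
      T2Space X ∧ TotallyDisconnectedSpace X,
      T2Space X,
      TotallyDisconnectedSpace X,
      ∀ U : Set X, IsOpen U → IsCompact U → IsClosed U,
      ∀ x y : X, x ⤳ y → x = y,
      ∀ x : X, IsClosed ({x} : Set X),
      ∀ x : X, closure ({x} : Set X) ∈ irreducibleComponents X,
      constructibleTopology X = tX] := by
  tfae_have 1 → 2 := fun h => h.1
  tfae_have 1 → 3 := fun h => h.2
  tfae_have 2 → 1 := fun h => ⟨h, inferInstance⟩
  tfae_have 2 → 4 := fun h U _ hUc => hUc.isClosed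
  tfae_have 3 → 5 := by
    intro h x y hxy
    have h1 : IsPreconnected (closure ({x} : Set X)) := isPreconnected_singleton.closure
    exact h.isTotallyDisconnected_univ _ (Set.subset_univ _) h1
      (subset_closure rfl) (specializes_iff_mem_closure.1 hxy)
  tfae_have 4 → 5 := by
    intro h x y hxy
    by_contra hne
    have h2 : ¬ y ⤳ x := fun h' => hne (hxy.antisymm h').eq
    rw [Proet.Spectral.specializes_iff_forall_CONhd] at h2
    push Not at h2
    obtain ⟨U, hU⟩ := h2
    exact hU (hxy.mem_closed (h U.1 U.2.1.1 U.2.1.2) U.2.2)
  tfae_have 5 → 6 := by
    intro h x
    rw [← closure_eq_iff_isClosed]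
    apply subset_antisymm
    · intro y hy
      exact (h x y (specializes_iff_mem_closure.2 hy)).symm
    · exact subset_closure
  tfae_have 6 → 2 := by
    intro h
    have : T1Space X := ⟨h⟩
    exact Proet.Spectral.t2Space_of_t1Space
  tfae_have 5 → 7 := by
    intro h x
    refine ⟨isIrreducible_singleton.closure, ?_⟩
    intro Z hZ hxZ
    have hZc : IsClosed (closure Z) := isClosed_closure
    have hg := hZ.isGenericPoint_genericPoint_closure
    have h1 : hZ.genericPoint ⤳ x := by
      rw [specializes_iff_mem_closure]
      rw [hg.def]
      exact subset_closure (hxZ (subset_closure rfl))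
    have h2 := h _ _ h1
    rw [h2] at hg
    change Z ⊆ closure {x}
    rw [hg.def]
    exact subset_closure
  tfae_have 7 → 5 := by
    intro h x y hxy
    have h1 := (h y).2 (isIrreducible_singleton (x := x)).closure
      (closure_minimal (Set.singleton_subset_iff.2 (specializes_iff_mem_closure.1 hxy))
        isClosed_closure)
    have h2 : y ⤳ x := specializes_iff_mem_closure.2 (h1 (subset_closure rfl))
    exact (hxy.antisymm h2).eq
  tfae_have 4 → 8 := by
    intro h
    refine (SpecSp.K416.Basic.constructibleTopology_eq_of_le tX inferInstance le_rfl ?_).symm
    exact h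
  tfae_have 8 → 2 := by
    intro h
    have h1 : @T2Space X (constructibleTopology X) := Proet.Spectral.t2Space_constr
    rw [h] at h1
    exact h1
  tfae_finish

end Groth.Agent.S7528
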