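import Groth.Statements.S7529
import Groth.Agent.SpecSp.K416.Basic

set_option autoImplicit false
universe u
open SpecSp

namespace Groth.Agent.S7529

/-- The product X × Y of two spectral spaces X and Y is a spectral space. -/
theorem result (X Y : Type u) [TopologicalSpace X] [TopologicalSpace Y]
    [SpectralSpace X] [SpectralSpace Y] : SpectralSpace (X × Y) := by
  have h1 : @CompactSpace X (constructibleTopology X) := Proet.Spectral.compactSpace_constr
  have h2 : @CompactSpace Y (constructibleTopology Y) := Proet.Spectral.compactSpace_constr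
  refine SpecSp.K416.Basic.spectralSpace_of_basis
    (@instTopologicalSpaceProd X Y (constructibleTopology X) (constructibleTopology Y))
    (@instCompactSpaceProd X Y (constructibleTopology X) (constructibleTopology Y) h1 h2) _
    ((PrespectralSpace.isTopologicalBasis (X := X)).prod
      (PrespectralSpace.isTopologicalBasis (X := Y))) ?_ ?_
  · rintro _ ⟨U, ⟨hU, hUc⟩, V, ⟨hV, hVc⟩, rfl⟩
    exact @IsOpen.prod X Y (constructibleTopology X) (constructibleTopology Y) _ _
      (IsCompact.isOpen_constructibleTopology_of_isOpen hUc hU)
      (IsCompact.isOpen_constructibleTopology_of_isOpen hVc hV)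
  · rintro _ ⟨U, ⟨hU, hUc⟩, V, ⟨hV, hVc⟩, rfl⟩
    exact @IsClosed.prod X Y (constructibleTopology X) (constructibleTopology Y) _ _
      (EtpbcB.Spectral.isClosed_constr_of_isCompact_of_isOpen hUc hU)
      (EtpbcB.Spectral.isClosed_constr_of_isCompact_of_isOpen hVc hV)

end Groth.Agent.S7529
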