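import Groth.Statements.S7530
import Groth.Agent.SpecSp.K416.Basic

set_option autoImplicit false
universe u
open SpecSp

namespace Groth.Agent.S7530

/-- Let f : X → Y be a map of spectral spaces which is spectral and bijective, and assume that
generalizations lift along f or that specializations lift along f. Then f is a homeomorphism. -/
theorem result {X Y : Type u} [TopologicalSpace X] [TopologicalSpace Y]
    [SpectralSpace X] [SpectralSpace Y] (f : X → Y) (hf : IsSpectralMap f) (hb : Function.Bijective f)
    (hlift : GeneralizingMap f ∨ SpecializingMap f) :
    IsHomeomorph f := by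
  rcases hlift with h | h
  · refine ⟨hf.continuous, fun U hU => ?_, hb⟩
    refine EtpbcB.Spectral.isOpen_of_stableUnderGeneralization ?_
      (h.stableUnderGeneralization_image hU.stableUnderGeneralization)
    rw [← @isClosed_compl_iff Y (constructibleTopology Y), ← Set.image_compl_eq hb]
    refine SpecSp.K416.Basic.isClosed_constr_image hf ?_
    exact EtpbcB.Spectral.isClosed_constr_of_isClosed hU.isClosed_compl
  · rw [isHomeomorph_iff_continuous_isClosedMap_bijective]
    refine ⟨hf.continuous, fun Z hZ => ?_, hb⟩
    refine EtpbcB.Spectral.isClosed_of_stableUnderSpecialization ?_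
      (h.stableUnderSpecialization_image hZ.stableUnderSpecialization)
    exact SpecSp.K416.Basic.isClosed_constr_image hf
        (EtpbcB.Spectral.isClosed_constr_of_isClosed hZ)

end Groth.Agent.S7530
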