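import Groth.Statements.S7536
import Groth.Agent.SpecSp.K416.Limits

set_option autoImplicit false
universe u
open CategoryTheory CategoryTheory.Limits
open SpecSp

namespace Groth.Agent.S7536

/-- Let j ↦ X_j be a cofiltered diagram of spectral spaces with spectral transition maps and X its limit
with projections p_j. For every constructible E ⊆ X there are an object i and a constructible E_i ⊆
X_i with p_i⁻¹(E_i) = E; if E is open, resp. closed, then E_i may be chosen open, resp. closed. -/
theorem result {J : Type u} [SmallCategory J] [IsCofiltered J] (F : J ⥤ TopCat.{u})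
    (hF : ∀ j, SpectralSpace (F.obj j))
    (hFm : ∀ {i j : J} (a : i ⟶ j), IsSpectralMap (F.map a : F.obj i → F.obj j))
    (c : Cone F) (hc : IsLimit c)
    (E : Set c.pt) (hE : Topology.IsConstructible E) :
    (∃ (i : J) (Ei : Set (F.obj i)), Topology.IsConstructible Ei ∧ c.π.app i ⁻¹' Ei = E) ∧
    (IsOpen E → ∃ (i : J) (Ei : Set (F.obj i)), Topology.IsConstructible Ei ∧ IsOpen Ei ∧ c.π.app i ⁻¹' Ei = E) ∧
    (IsClosed E → ∃ (i : J) (Ei : Set (F.obj i)), Topology.IsConstructible Ei ∧ IsClosed Ei ∧ c.π.app i ⁻¹' Ei = E) := by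
  have hX : SpectralSpace c.pt := SpecSp.K416.Limits.spectralSpace_limit hF hFm hc
  have hopen : ∀ U : Set c.pt, IsOpen U → IsCompact U →
      ∃ (i : J) (Ui : Set (F.obj i)), Topology.IsConstructible Ui ∧ IsOpen Ui ∧
        c.π.app i ⁻¹' Ui = U := by
    intro U hU hUc
    obtain ⟨i, Ui, h1, h2, h3⟩ :=
      SpecSp.K416.Limits.exists_isCompact_isOpen_preimage_eq hF hFm hc U hU hUc
    have hi := hF i
    exact ⟨i, Ui, h2.isConstructible h1, h1, h3⟩
  have hcomp : ∀ E : Set c.pt, Topology.IsConstructible E → IsCompact E := by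
    intro E hE
    exact Proet.Spectral.IsProCons.isCompact
      (Ega4fib.H121.ProConsBasic.isOpen_isClosed_constructibleTopology hE).2
  refine ⟨?_, ?_, ?_⟩
  · induction hE using Topology.IsConstructible.empty_union_induction with
    | open_retrocompact U hUo hUc =>
      obtain ⟨i, Ui, h1, h2, h3⟩ := hopen U hUo (by
        have := hUc isCompact_univ isOpen_univ
        rwa [Set.inter_univ] at this)
      exact ⟨i, Ui, h1, h3⟩
    | union s hs t ht hs' ht' =>
      obtain ⟨i, S, h1, h2⟩ := hs'
      obtain ⟨j, T, h3, h4⟩ := ht'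
      let k := IsCofiltered.min i j
      let a : k ⟶ i := IsCofiltered.minToLeft i j
      let b : k ⟶ j := IsCofiltered.minToRight i j
      have hpre : ∀ {k i : J} (a : k ⟶ i) {S : Set (F.obj i)}, Topology.IsConstructible S →
          Topology.IsConstructible (F.map a ⁻¹' S) := by
        intro k i a S hS
        have hi := hF i
        have hk := hF k
        refine hS.preimage (hFm a).continuous fun s hso hs => ?_
        refine ((hFm a).isCompact_preimage_of_isOpen hso ?_).isRetrocompact
          (hso.preimage (hFm a).continuous)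
        have := hs isCompact_univ isOpen_univ
        rwa [Set.inter_univ] at this
      refine ⟨k, F.map a ⁻¹' S ∪ F.map b ⁻¹' T, (hpre a h1).union (hpre b h3), ?_⟩
      rw [← h2, ← h4]
      ext x
      simp only [Set.mem_preimage, Set.mem_union, SpecSp.K416.Limits.map_π]
    | compl s hs hs' =>
      obtain ⟨i, S, h1, h2⟩ := hs'
      exact ⟨i, Sᶜ, h1.compl, by rw [Set.preimage_compl, h2]⟩
  · intro hEo
    exact hopen E hEo (hcomp E hE)
  · intro hEc
    obtain ⟨i, Ui, h1, h2, h3⟩ := hopen Eᶜ hEc.isOpen_compl (hcomp _ hE.compl)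
    exact ⟨i, Uiᶜ, h1.compl, h2.isClosed_compl, by rw [Set.preimage_compl, h3, compl_compl]⟩

end Groth.Agent.S7536
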