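import Groth.Statements.S7538
import Groth.Agent.SpecSp.K416.Limits

set_option autoImplicit false
universe u
open CategoryTheory CategoryTheory.Limits
open SpecSp

namespace Groth.Agent.S7538

/-- Let j ↦ X_j be a cofiltered diagram of spectral spaces with spectral transition maps f_a and X its
limit with projections p_j. (1) Any quasi-compact open U ⊆ X is p_i⁻¹(U_i) for some i and some
quasi-compact open U_i ⊆ X_i. (2) If U_i ⊆ X_i and U_j ⊆ X_j are quasi-compact opens with p_i⁻¹(U_i)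
⊆ p_j⁻¹(U_j), there are k and a : k → i, b : k → j with f_a⁻¹(U_i) ⊆ f_b⁻¹(U_j). (3) If U_i and
finitely many U_{l,i} are quasi-compact opens of X_i with p_i⁻¹(U_i) = ⋃_l p_i⁻¹(U_{l,i}), then
f_a⁻¹(U_i) = ⋃_l f_a⁻¹(U_{l,i}) for some a : j → i. (4) The same with intersections. -/
theorem result {J : Type u} [SmallCategory J] [IsCofiltered J] (F : J ⥤ TopCat.{u})
    (hF : ∀ j, SpectralSpace (F.obj j))
    (hFm : ∀ {i j : J} (a : i ⟶ j), IsSpectralMap (F.map a : F.obj i → F.obj j))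
    (c : Cone F) (hc : IsLimit c) :
    (∀ U : Set c.pt, IsOpen U → IsCompact U →
      ∃ (i : J) (Ui : Set (F.obj i)), IsOpen Ui ∧ IsCompact Ui ∧ c.π.app i ⁻¹' Ui = U) ∧
    (∀ (i j : J) (Ui : Set (F.obj i)) (Uj : Set (F.obj j)),
      IsOpen Ui → IsCompact Ui → IsOpen Uj → IsCompact Uj →
      c.π.app i ⁻¹' Ui ⊆ c.π.app j ⁻¹' Uj →
      ∃ (k : J) (a : k ⟶ i) (b : k ⟶ j), F.map a ⁻¹' Ui ⊆ F.map b ⁻¹' Uj) ∧
    (∀ (i : J) (n : ℕ) (Ui : Set (F.obj i)) (V : Fin n → Set (F.obj i)),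
      IsOpen Ui → IsCompact Ui → (∀ l, IsOpen (V l) ∧ IsCompact (V l)) →
      (c.π.app i ⁻¹' Ui = ⋃ l, c.π.app i ⁻¹' V l →
        ∃ (j : J) (a : j ⟶ i), F.map a ⁻¹' Ui = ⋃ l, F.map a ⁻¹' V l) ∧
      (c.π.app i ⁻¹' Ui = ⋂ l, c.π.app i ⁻¹' V l →
        ∃ (j : J) (a : j ⟶ i), F.map a ⁻¹' Ui = ⋂ l, F.map a ⁻¹' V l)) := by
  have hO : ∀ {i : J} {U : Set (F.obj i)}, IsOpen U → IsCompact U →
      @IsOpen _ (constructibleTopology (F.obj i)) U := fun hU hUc =>
    IsCompact.isOpen_constructibleTopology_of_isOpen hUc hU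
  have hC : ∀ {i : J} {U : Set (F.obj i)}, IsOpen U → IsCompact U →
      @IsClosed _ (constructibleTopology (F.obj i)) U := fun hU hUc =>
    EtpbcB.Spectral.isClosed_constr_of_isCompact_of_isOpen hUc hU
  have hpre : ∀ {k i : J} (a : k ⟶ i) {U : Set (F.obj i)}, IsOpen U → IsCompact U →
      IsOpen (F.map a ⁻¹' U) ∧ IsCompact (F.map a ⁻¹' U) := fun a U hU hUc =>
    ⟨hU.preimage (hFm a).continuous, (hFm a).isCompact_preimage_of_isOpen hU hUc⟩
  have key : ∀ (i : J) (E G : Set (F.obj i)),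
      @IsClosed _ (constructibleTopology (F.obj i)) E → @IsOpen _ (constructibleTopology (F.obj i)) E →
      @IsClosed _ (constructibleTopology (F.obj i)) G → @IsOpen _ (constructibleTopology (F.obj i)) G →
      c.π.app i ⁻¹' E = c.π.app i ⁻¹' G → ∃ (j : J) (a : j ⟶ i), F.map a ⁻¹' E = F.map a ⁻¹' G := by
    intro i E G hE hE' hG hG' h
    obtain ⟨j, a, ha⟩ := (SpecSp.K416.Limits.preimage_subset_preimage_iff hF hFm hc i E G hE hG').1
      h.subset
    obtain ⟨k, b, hb⟩ := (SpecSp.K416.Limits.preimage_subset_preimage_iff hF hFm hc i G E hG hE').1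
      h.symm.subset
    obtain ⟨l, p, q, hpq⟩ := IsCofiltered.cospan a b
    refine ⟨l, p ≫ a, ?_⟩
    apply subset_antisymm
    · intro x hx
      rw [Set.mem_preimage, F.map_comp] at hx ⊢
      exact ha hx
    · intro x hx
      rw [hpq, Set.mem_preimage, F.map_comp] at hx ⊢
      exact hb hx
  refine ⟨fun U hU hUc =>
    SpecSp.K416.Limits.exists_isCompact_isOpen_preimage_eq hF hFm hc U hU hUc, ?_, ?_⟩
  · intro i j Ui Uj hUi hUi' hUj hUj' h
    let k := IsCofiltered.min i j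
    let a : k ⟶ i := IsCofiltered.minToLeft i j
    let b : k ⟶ j := IsCofiltered.minToRight i j
    have h' : c.π.app k ⁻¹' (F.map a ⁻¹' Ui) ⊆ c.π.app k ⁻¹' (F.map b ⁻¹' Uj) := by
      intro x hx
      rw [Set.mem_preimage, Set.mem_preimage, SpecSp.K416.Limits.map_π] at hx ⊢
      exact h hx
    obtain ⟨l, p, hl⟩ := (SpecSp.K416.Limits.preimage_subset_preimage_iff hF hFm hc k _ _
      (hC (hpre a hUi hUi').1 (hpre a hUi hUi').2) (hO (hpre b hUj hUj').1 (hpre b hUj hUj').2)).1 h'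
    refine ⟨l, p ≫ a, p ≫ b, ?_⟩
    intro x hx
    rw [Set.mem_preimage, F.map_comp] at hx ⊢
    exact hl hx
  · intro i n Ui V hUi hUi' hV
    have hi := hF i
    constructor
    · intro h
      have h2 : IsOpen (⋃ l, V l) ∧ IsCompact (⋃ l, V l) :=
        ⟨isOpen_iUnion fun l => (hV l).1, isCompact_iUnion fun l => (hV l).2⟩
      obtain ⟨j, a, ha⟩ := key i Ui (⋃ l, V l) (hC hUi hUi') (hO hUi hUi') (hC h2.1 h2.2)
        (hO h2.1 h2.2) (by rw [h, Set.preimage_iUnion])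
      exact ⟨j, a, by rw [ha, Set.preimage_iUnion]⟩
    · intro h
      have h2 : @IsClosed _ (constructibleTopology (F.obj i)) (⋂ l, V l) :=
        @isClosed_iInter _ _ (constructibleTopology (F.obj i)) _ fun l => hC (hV l).1 (hV l).2
      have h3 : @IsOpen _ (constructibleTopology (F.obj i)) (⋂ l, V l) :=
        @isOpen_iInter_of_finite _ _ (constructibleTopology (F.obj i)) _ _
          fun l => hO (hV l).1 (hV l).2
      obtain ⟨j, a, ha⟩ := key i Ui (⋂ l, V l) (hC hUi hUi') (hO hUi hUi') h2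
        h3 (by rw [h, Set.preimage_iInter])
      exact ⟨j, a, by rw [ha, Set.preimage_iInter]⟩

end Groth.Agent.S7538
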