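import Groth.Statements.S7539
import Groth.Agent.SpecSp.K416.Basic

set_option autoImplicit false
universe u
open SpecSp

namespace Groth.Agent.S7539

/-- For a subset W of a spectral space X, these five conditions coincide: (1) W can be written as an
intersection of constructible subsets and is stable under generalization; (2) W is quasi-compact and
stable under generalization; (3) for some quasi-compact E ⊆ X, W consists exactly of the points that
specialize to a point of E; (4) W is the intersection of some family of quasi-compact opens; (5)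
there are a nonempty index set I and quasi-compact opens U_i with W = ⋂ U_i such that for all i, j
some U_k is contained in U_i ∩ U_j. -/
theorem result {X : Type u} [TopologicalSpace X] [SpectralSpace X] (W : Set X) :
    List.TFAE [
      (∃ S : Set (Set X), (∀ s ∈ S, Topology.IsConstructible s) ∧ W = ⋂₀ S) ∧ StableUnderGeneralization W,
      IsCompact W ∧ StableUnderGeneralization W,
      ∃ E : Set X, IsCompact E ∧ W = {x | ∃ e ∈ E, x ⤳ e},
      ∃ S : Set (Set X), (∀ s ∈ S, IsOpen s ∧ IsCompact s) ∧ W = ⋂₀ S,
      ∃ (I : Type u) (_ : Nonempty I) (U : I → Set X), (∀ i, IsOpen (U i) ∧ IsCompact (U i)) ∧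
        W = ⋂ i, U i ∧ ∀ i j, ∃ k, U k ⊆ U i ∩ U j] := by
  classical
  have hcons : ∀ s : Set X, Topology.IsConstructible s → @IsClosed X (constructibleTopology X) s :=
    fun s hs => (Ega4fib.H121.ProConsBasic.isOpen_isClosed_constructibleTopology hs).2
  tfae_have 1 → 2 := by
    rintro ⟨⟨S, hS, rfl⟩, h⟩
    refine ⟨Proet.Spectral.IsProCons.isCompact ?_, h⟩
    exact @isClosed_sInter X (constructibleTopology X) S fun s hs => hcons s (hS s hs)
  tfae_have 2 → 3 := by
    rintro ⟨h1, h2⟩
    refine ⟨W, h1, ?_⟩
    apply subset_antisymm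
    · intro x hx
      exact ⟨x, hx, specializes_rfl⟩
    · rintro x ⟨e, he, hxe⟩
      exact h2 hxe he
  tfae_have 3 → 4 := by
    rintro ⟨E, hE, rfl⟩
    refine ⟨{U | (IsOpen U ∧ IsCompact U) ∧ E ⊆ U}, fun s hs => hs.1, ?_⟩
    rw [Proet.Spectral.generizations_eq_iInter hE, Set.sInter_eq_iInter]
    rfl
  tfae_have 4 → 5 := by
    rintro ⟨S, hS, rfl⟩
    refine ⟨Finset S, ⟨∅⟩, fun t => ⋂ s ∈ t, (s : Set X), ?_, ?_, ?_⟩
    · intro t
      refine ⟨isOpen_biInter_finset fun s _ => (hS s s.2).1, ?_⟩
      induction t using Finset.induction_on with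
      | empty => simpa using isCompact_univ
      | insert a t _ ih =>
        change IsCompact (⋂ s ∈ insert a t, (s : Set X))
        rw [Finset.set_biInter_insert]
        exact QuasiSeparatedSpace.inter_isCompact _ _ (hS a a.2).1 (hS a a.2).2
          (isOpen_biInter_finset fun s _ => (hS s s.2).1) ih
    · apply subset_antisymm
      · intro x hx
        simp only [Set.mem_iInter]
        intro t s _
        exact hx s s.2
      · intro x hx s hs
        have := Set.mem_iInter.1 hx {⟨s, hs⟩}
        simpa using this
    · intro t t'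
      refine ⟨t ∪ t', ?_⟩
      intro x hx
      simp only [Set.mem_iInter, Set.mem_inter_iff, Finset.mem_union] at hx ⊢
      exact ⟨fun s hs => hx s (Or.inl hs), fun s hs => hx s (Or.inr hs)⟩
  tfae_have 5 → 1 := by
    rintro ⟨I, _, U, hU, rfl, -⟩
    refine ⟨⟨Set.range U, ?_, by rw [Set.sInter_range]⟩, ?_⟩
    · rintro _ ⟨i, rfl⟩
      exact (hU i).2.isConstructible (hU i).1
    · intro x y hxy hx
      rw [Set.mem_iInter] at hx ⊢
      exact fun i => hxy.mem_open (hU i).1 (hx i)
  tfae_finish

end Groth.Agent.S7539
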