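import Groth.Statements.S7544

set_option autoImplicit false
universe u
open ConstrTop

namespace Groth.Agent.S7544

/-- Let X be a quasi-compact topological space whose quasi-compact opens form a basis and are closed
under pairwise intersection. Take T ⊆ X to be locally closed, quasi-compact, and with retrocompact
complement. Then T is constructible in X. -/
theorem result {X : Type u} [TopologicalSpace X]
    [CompactSpace X] [PrespectralSpace X] [QuasiSeparatedSpace X]
    (T : Set X) (hT : IsLocallyClosed T) (hTc : IsCompact T) (hTr : IsRetrocompact Tᶜ) :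
    Topology.IsConstructible T := by
  obtain ⟨U, Z, hU, hZ, rfl⟩ := hT
  obtain ⟨W, hWc, hWo, hTW, hWU⟩ :=
    PrespectralSpace.exists_isCompact_and_isOpen_between hTc hU Set.inter_subset_left
  have h1 : U ∩ Z = W ∩ Z := by
    apply Set.Subset.antisymm
    · intro x hx; exact ⟨hTW hx, hx.2⟩
    · intro x hx; exact ⟨hWU hx.1, hx.2⟩
  have h2 : (U ∩ Z)ᶜ ∩ W = Zᶜ ∩ W := by
    rw [h1]; ext x; simp only [Set.mem_inter_iff, Set.mem_compl_iff]; tauto
  have h3 : IsCompact (Zᶜ ∩ W) := h2 ▸ hTr hWc hWo
  have h4 : Topology.IsConstructible (Zᶜ ∩ W) := h3.isConstructible (hZ.isOpen_compl.inter hWo)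
  have h5 : U ∩ Z = W \ (Zᶜ ∩ W) := by
    rw [h1]; ext x; simp only [Set.mem_inter_iff, Set.mem_sdiff, Set.mem_compl_iff]; tauto
  rw [h5]
  exact (hWc.isConstructible hWo).sdiff h4

end Groth.Agent.S7544
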