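import Groth.Statements.S7546

set_option autoImplicit false
universe u
open ConstrTop

namespace Groth.Agent.S7546

/-- Let X be a topological space, Z ⊆ X irreducible and E ⊆ X a finite union of locally closed subsets
(for instance a constructible set). Then E ∩ Z is dense in Z if and only if E ∩ Z contains a subset
of the form U ∩ Z, U open in X, which is dense in Z. If moreover ξ ∈ Z is a generic point of Z,
these conditions are equivalent to ξ ∈ E. -/
theorem result {X : Type u} [TopologicalSpace X] (Z : Set X) (hZ : IsIrreducible Z)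
    {n : ℕ} (L : Fin n → Set X) (hL : ∀ i, IsLocallyClosed (L i)) (E : Set X) (hE : E = ⋃ i, L i) :
    (Z ⊆ closure (E ∩ Z) ↔ ∃ U : Set X, IsOpen U ∧ U ∩ Z ⊆ E ∧ Z ⊆ closure (U ∩ Z)) ∧
    (∀ ξ : X, ξ ∈ Z → Z ⊆ closure {ξ} → (Z ⊆ closure (E ∩ Z) ↔ ξ ∈ E)) := by
  have hcl : ∀ i, ∃ U C : Set X, IsOpen U ∧ IsClosed C ∧ L i = U ∩ C := fun i => hL i
  have key : Z ⊆ closure (E ∩ Z) → ∃ U : Set X, IsOpen U ∧ U ∩ Z ⊆ E ∧ Z ⊆ closure (U ∩ Z) := by
    intro h
    have h1 : closure (E ∩ Z) = ⋃ i, closure (L i ∩ Z) := by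
      rw [hE, Set.iUnion_inter, closure_iUnion_of_finite]
    rw [h1] at h
    obtain ⟨i, hi⟩ : ∃ i, Z ⊆ closure (L i ∩ Z) := by
      have h2 := isIrreducible_iff_sUnion_isClosed.mp hZ
        (Set.finite_range fun i => closure (L i ∩ Z)).toFinset
        (by intro z hz; simp only [Set.Finite.mem_toFinset, Set.mem_range] at hz
            obtain ⟨i, rfl⟩ := hz; exact isClosed_closure)
        (by simpa using h)
      simpa using h2
    obtain ⟨U, C, hU, hC, hUC⟩ := hcl i
    have hZC : Z ⊆ C := hi.trans (closure_minimal (by rw [hUC]; exact fun x hx => hx.1.2) hC)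
    refine ⟨U, hU, ?_, ?_⟩
    · intro x hx
      rw [hE]
      exact Set.mem_iUnion.mpr ⟨i, by rw [hUC]; exact ⟨hx.1, hZC hx.2⟩⟩
    · refine hi.trans (closure_mono ?_)
      rw [hUC]; exact fun x hx => ⟨hx.1.1, hx.2⟩
  refine ⟨⟨key, ?_⟩, ?_⟩
  · rintro ⟨U, hU, hUE, hZU⟩
    exact hZU.trans (closure_mono fun x hx => ⟨hUE hx, hx.2⟩)
  · intro ξ hξ hξc
    constructor
    · intro h
      obtain ⟨U, hU, hUE, hZU⟩ := key h
      have h3 : (closure (U ∩ Z)).Nonempty := hZ.nonempty.mono hZU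
      obtain ⟨y, hyU, hyZ⟩ := closure_nonempty_iff.mp h3
      have h4 : ξ ∈ U := by
        have := mem_closure_iff.mp (hξc hyZ) U hU hyU
        obtain ⟨z, hz, rfl⟩ := this
        exact hz
      exact hUE ⟨h4, hξ⟩
    · intro h
      exact hξc.trans (closure_mono (Set.singleton_subset_iff.mpr ⟨h, hξ⟩))

end Groth.Agent.S7546
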