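import Groth.Statements.S7547
import Mathlib.Topology.Separation.Basic

set_option autoImplicit false
universe u
open PtTop

namespace Groth.Agent.S7547

/-- Let X be a Kolmogorov topological space whose quasi-compact opens form a basis for the topology. If
X is not Jacobson, there is a point x ∈ X which is not closed but such that {x} is locally closed. -/
theorem result {X : Type u} [TopologicalSpace X]
    [T0Space X] [PrespectralSpace X] (hX : ¬ JacobsonSpace X) :
    ∃ x : X, ¬ IsClosed ({x} : Set X) ∧ IsLocallyClosed ({x} : Set X) := by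
  rw [jacobsonSpace_iff_locallyClosed] at hX
  push Not at hX
  obtain ⟨Z, ⟨x, hx⟩, ⟨U, C, hU, hC, rfl⟩, hZ⟩ := hX
  obtain ⟨V, ⟨hVo, hVc⟩, hxV, hVU⟩ :=
    (PrespectralSpace.isTopologicalBasis (X := X)).exists_subset_of_mem_open hx.1 hU
  have hcomp : IsCompact (V ∩ C) := hVc.inter_right hC
  haveI : CompactSpace ↥(V ∩ C) := isCompact_iff_compactSpace.mp hcomp
  obtain ⟨y, -, hy⟩ := (isClosed_univ (X := ↥(V ∩ C))).exists_closed_singleton
    ⟨⟨x, hxV, hx.2⟩, trivial⟩
  refine ⟨y, ?_, ?_⟩
  · intro h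
    have : (y : X) ∈ (U ∩ C) ∩ closedPoints X := ⟨⟨hVU y.2.1, y.2.2⟩, h⟩
    rw [hZ] at this
    exact this
  · have h1 : IsLocallyClosed (V ∩ C) := ⟨V, C, hVo, hC, rfl⟩
    have h2 := hy.isLocallyClosed.image (f := (Subtype.val : ↥(V ∩ C) → X)) Topology.IsInducing.subtypeVal
      (by rw [Subtype.range_coe]; exact h1)
    rwa [Set.image_singleton] at h2

end Groth.Agent.S7547
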