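import Groth.Statements.S7548

set_option autoImplicit false
universe u
open PtTop

namespace Groth.Agent.S7548

/-- Let X be a Jacobson space and let T = ⋃ T_i be a union of subsets T_i ⊆ X each locally closed in X
(open, closed, locally closed and constructible subsets are of this form). Then T is Jacobson and
every point of T closed in T is closed in X. -/
theorem result {X : Type u} [TopologicalSpace X] [JacobsonSpace X]
    {ι : Type u} (T : ι → Set X) (hT : ∀ i, IsLocallyClosed (T i)) :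
    JacobsonSpace ↥(⋃ i, T i) ∧
      closedPoints ↥(⋃ i, T i) ⊆ (Subtype.val : ↥(⋃ i, T i) → X) ⁻¹' closedPoints X := by
  have key : ∀ (i : ι) (Z : Set ↥(⋃ i, T i)), IsLocallyClosed Z →
      IsLocallyClosed (Subtype.val '' Z ∩ T i) := by
    rintro i Z hZ
    obtain ⟨Z', hZ', rfl⟩ := (Topology.IsInducing.subtypeVal.isLocallyClosed_iff).mp hZ
    have : Subtype.val '' ((Subtype.val : ↥(⋃ i, T i) → X) ⁻¹' Z') ∩ T i = Z' ∩ T i := by
      ext x
      simp only [Subtype.image_preimage_coe, Set.mem_inter_iff]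
      constructor
      · rintro ⟨⟨-, h1⟩, h2⟩; exact ⟨h1, h2⟩
      · rintro ⟨h1, h2⟩; exact ⟨⟨Set.mem_iUnion.mpr ⟨i, h2⟩, h1⟩, h2⟩
    rw [this]
    exact hZ'.inter (hT i)
  refine ⟨?_, ?_⟩
  · rw [jacobsonSpace_iff_locallyClosed]
    rintro Z ⟨z, hz⟩ hZ
    obtain ⟨i, hi⟩ := Set.mem_iUnion.mp z.2
    obtain ⟨y, ⟨⟨w, hw, rfl⟩, hwi⟩, hy⟩ := nonempty_inter_closedPoints
      (Z := Subtype.val '' Z ∩ T i) ⟨z, ⟨z, hz, rfl⟩, hi⟩ (key i Z hZ)
    exact ⟨w, hw, preimage_closedPoints_subset Subtype.val_injective continuous_subtype_val hy⟩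
  · intro y hy
    obtain ⟨i, hi⟩ := Set.mem_iUnion.mp y.2
    have h := key i {y} (IsClosed.isLocallyClosed hy)
    rw [Set.image_singleton, Set.inter_eq_left.mpr (by simpa using hi)] at h
    exact isClosed_singleton_of_isLocallyClosed_singleton h

end Groth.Agent.S7548
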