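import Groth.Statements.S7549

set_option autoImplicit false
universe u
open PtTop

namespace Groth.Agent.S7549

variable {X : Type u} [TopologicalSpace X]

/-- Preimage in the set of closed points. -/
abbrev pr (E : Set X) : Set (closedPoints X) := (Subtype.val : closedPoints X → X) ⁻¹' E

lemma subset_of_pr [JacobsonSpace X] {U V : Set X} (hU : IsOpen U) (hV : IsOpen V) (h : pr U ⊆ pr V) :
    U ⊆ V := by
  by_contra hne
  obtain ⟨x, hxU, hxV⟩ := Set.not_subset.mp hne
  obtain ⟨y, ⟨hyU, hyV⟩, hy⟩ := nonempty_inter_closedPoints (Z := U ∩ Vᶜ) ⟨x, hxU, hxV⟩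
    (hU.isLocallyClosed.inter hV.isClosed_compl.isLocallyClosed)
  exact hyV (h (show (⟨y, hy⟩ : closedPoints X) ∈ pr U from hyU))

lemma isCompact_pr_iff [JacobsonSpace X] {U : Set X} (hU : IsOpen U) :
    IsCompact U ↔ IsCompact (pr U) := by
  constructor
  · intro h
    refine isCompact_of_finite_subcover fun {ι} O hO hcov => ?_
    have h1 : ∀ i, ∃ O' : Set X, IsOpen O' ∧ pr O' = O i := fun i => isOpen_induced_iff.mp (hO i)
    choose O' hO' hO'' using h1
    obtain ⟨t, ht⟩ := h.elim_finite_subcover O' hO' (subset_of_pr hU (isOpen_iUnion hO') (by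
      rw [show pr (⋃ i, O' i) = ⋃ i, pr (O' i) from Set.preimage_iUnion]
      simp_rw [hO'']
      exact hcov))
    refine ⟨t, fun x hx => ?_⟩
    obtain ⟨i, hi, hxi⟩ := Set.mem_iUnion₂.mp (ht hx)
    refine Set.mem_iUnion₂.mpr ⟨i, hi, ?_⟩
    rw [← hO'']
    exact hxi
  · intro h
    refine isCompact_of_finite_subcover fun {ι} O hO hcov => ?_
    obtain ⟨t, ht⟩ := h.elim_finite_subcover (fun i => pr (O i))
      (fun i => (hO i).preimage continuous_subtype_val) (by
        intro x hx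
        obtain ⟨i, hi⟩ := Set.mem_iUnion.mp (hcov hx)
        exact Set.mem_iUnion.mpr ⟨i, hi⟩)
    refine ⟨t, subset_of_pr hU (isOpen_biUnion fun i _ => hO i) ?_⟩
    intro x hx
    obtain ⟨i, hi, hxi⟩ := Set.mem_iUnion₂.mp (ht hx)
    exact Set.mem_iUnion₂.mpr ⟨i, hi, hxi⟩

lemma isRetrocompact_pr_iff [JacobsonSpace X] {U : Set X} (hU : IsOpen U) :
    IsRetrocompact U ↔ IsRetrocompact (pr U) := by
  constructor
  · intro h V hV hVo
    obtain ⟨V', hV', rfl⟩ := isOpen_induced_iff.mp hVo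
    have h1 : IsCompact V' := (isCompact_pr_iff hV').mpr hV
    exact (isCompact_pr_iff (hU.inter hV')).mp (h h1 hV')
  · intro h V hV hVo
    rw [isCompact_pr_iff (hU.inter hVo)]
    exact h ((isCompact_pr_iff hVo).mp hV) (hVo.preimage continuous_subtype_val)

lemma exists_lc {E : Set X} (hE : Topology.IsConstructible E) (x : X) :
    ∃ Z : Set X, IsLocallyClosed Z ∧ x ∈ Z ∧ (Z ⊆ E ∨ Z ⊆ Eᶜ) := by
  induction hE using Topology.IsConstructible.empty_union_induction with
  | open_retrocompact U hU hU' =>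
    by_cases hx : x ∈ U
    · exact ⟨U, hU.isLocallyClosed, hx, Or.inl subset_rfl⟩
    · exact ⟨Uᶜ, hU.isClosed_compl.isLocallyClosed, hx, Or.inr subset_rfl⟩
  | union s hs t ht hs' ht' =>
    obtain ⟨Z, hZ, hxZ, h⟩ := hs'
    obtain ⟨Z', hZ', hxZ', h'⟩ := ht'
    refine ⟨Z ∩ Z', hZ.inter hZ', ⟨hxZ, hxZ'⟩, ?_⟩
    rcases h with h | h
    · exact Or.inl (fun y hy => Or.inl (h hy.1))
    · rcases h' with h' | h'
      · exact Or.inl (fun y hy => Or.inr (h' hy.2))
      · right
        rintro y ⟨h1, h2⟩ (h3 | h3)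
        · exact h h1 h3
        · exact h' h2 h3
  | compl s hs hs' =>
    obtain ⟨Z, hZ, hxZ, h⟩ := hs'
    refine ⟨Z, hZ, hxZ, ?_⟩
    rw [compl_compl]
    exact h.symm

/-- Let X be a Jacobson space and X₀ ⊆ X the subspace of closed points. (a) For U ⊆ X open, U is
quasi-compact if and only if U ∩ X₀ is quasi-compact, and U is retrocompact in X if and only if U ∩
X₀ is retrocompact in X₀. (b) The rule E ↦ E ∩ X₀ is an inclusion-preserving and
inclusion-reflecting bijection between the constructible subsets of X and the constructible subsets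
of X₀. -/
theorem result {X : Type u} [TopologicalSpace X] [JacobsonSpace X] :
    (∀ U : Set X, IsOpen U →
      (IsCompact U ↔ IsCompact ((Subtype.val : closedPoints X → X) ⁻¹' U)) ∧
      (IsRetrocompact U ↔ IsRetrocompact ((Subtype.val : closedPoints X → X) ⁻¹' U))) ∧
    (∀ E : Set X, Topology.IsConstructible E →
      Topology.IsConstructible ((Subtype.val : closedPoints X → X) ⁻¹' E)) ∧
    (∀ E E' : Set X, Topology.IsConstructible E → Topology.IsConstructible E' →
      ((Subtype.val : closedPoints X → X) ⁻¹' E ⊆ Subtype.val ⁻¹' E' ↔ E ⊆ E')) ∧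
    (∀ F : Set (closedPoints X), Topology.IsConstructible F →
      ∃ E : Set X, Topology.IsConstructible E ∧ (Subtype.val : closedPoints X → X) ⁻¹' E = F) := by
  refine ⟨fun U hU => ⟨isCompact_pr_iff hU, isRetrocompact_pr_iff hU⟩, ?_, ?_, ?_⟩
  · intro E hE
    exact hE.preimage continuous_subtype_val fun s hs hs' => (isRetrocompact_pr_iff hs).mp hs'
  · intro E E' hE hE'
    refine ⟨fun h => ?_, fun h => Set.preimage_mono h⟩
    by_contra hne
    obtain ⟨x, hxE, hxE'⟩ := Set.not_subset.mp hne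
    obtain ⟨Z, hZ, hxZ, hZE⟩ := exists_lc (hE.inter hE'.compl) x
    have hZ' : Z ⊆ E ∩ E'ᶜ := by
      rcases hZE with h | h
      · exact h
      · exact absurd ⟨hxE, hxE'⟩ (h hxZ)
    obtain ⟨y, hyZ, hy⟩ := nonempty_inter_closedPoints ⟨x, hxZ⟩ hZ
    exact (hZ' hyZ).2 (h (show (⟨y, hy⟩ : closedPoints X) ∈ pr E from (hZ' hyZ).1))
  · intro F hF
    induction hF using Topology.IsConstructible.empty_union_induction with
    | open_retrocompact U hU hU' =>
      obtain ⟨V, hV, rfl⟩ := isOpen_induced_iff.mp hU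
      exact ⟨V, ((isRetrocompact_pr_iff hV).mpr hU').isConstructible hV, rfl⟩
    | union s hs t ht hs' ht' =>
      obtain ⟨E, hE, rfl⟩ := hs'
      obtain ⟨E', hE', rfl⟩ := ht'
      exact ⟨E ∪ E', hE.union hE', rfl⟩
    | compl s hs hs' =>
      obtain ⟨E, hE, rfl⟩ := hs'
      exact ⟨Eᶜ, hE.compl, rfl⟩

end Groth.Agent.S7549
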