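import Groth.Statements.S7550

set_option autoImplicit false
universe u
open PtTop

namespace Groth.Agent.S7550

/-- Let f : X → Y be a continuous and open map of topological spaces, with X Noetherian, every
irreducible closed subset of X having a generic point, and Y Kolmogorov. Then generalizations lift
along f. (Part (1), closed maps are specializing, is a library fact.) -/
theorem result {X Y : Type u} [TopologicalSpace X] [TopologicalSpace Y]
    [TopologicalSpace.NoetherianSpace X] [QuasiSober X] [T0Space Y]
    (f : X → Y) (hf : Continuous f) (hfo : IsOpenMap f) :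
    GeneralizingMap f := by
  intro x y' h
  -- the closed preimage of the closure of `y'`
  set F : Set X := f ⁻¹' closure {y'} with hF
  have hFc : IsClosed F := isClosed_closure.preimage hf
  have hxF : x ∈ F := h.mem_closure
  -- components of `F`
  have : TopologicalSpace.NoetherianSpace F := inferInstance
  set xF : F := ⟨x, hxF⟩
  set Z : Set F := irreducibleComponent xF
  have hZirr : IsIrreducible Z := isIrreducible_irreducibleComponent
  have hZmem : Z ∈ irreducibleComponents F := irreducibleComponent_mem_irreducibleComponents xF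
  -- `Z` contains a nonempty open subset of `F`
  have hfin : (irreducibleComponents F).Finite :=
    TopologicalSpace.NoetherianSpace.finite_irreducibleComponents
  set W : Set F := (⋃₀ (irreducibleComponents F \ {Z}))ᶜ with hW
  have hWo : IsOpen W := by
    rw [hW, isOpen_compl_iff, Set.sUnion_eq_biUnion]
    apply (hfin.subset Set.sdiff_subset).isClosed_biUnion
    intro s hs
    exact isClosed_of_mem_irreducibleComponents s hs.1
  have hWZ : W ⊆ Z := by
    intro w hw
    by_contra hwZ
    apply hw
    refine ⟨irreducibleComponent w, ⟨irreducibleComponent_mem_irreducibleComponents w, ?_⟩,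
      mem_irreducibleComponent⟩
    intro h'
    exact hwZ (h' ▸ mem_irreducibleComponent)
  have hWne : W.Nonempty := by
    by_contra hne
    rw [Set.not_nonempty_iff_eq_empty] at hne
    have hcov : Z ⊆ ⋃₀ (irreducibleComponents F \ {Z}) := by
      rw [hW, Set.compl_empty_iff] at hne
      rw [hne]; exact Set.subset_univ _
    obtain ⟨Z', hZ', hZZ'⟩ := (isIrreducible_iff_sUnion_isClosed.mp hZirr)
      (hfin.subset Set.sdiff_subset).toFinset
      (fun z hz => isClosed_of_mem_irreducibleComponents z (by simpa using ((Set.Finite.mem_toFinset _).mp hz).1))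
      (by simpa using hcov)
    have hZ'2 := (Set.Finite.mem_toFinset _).mp hZ'
    exact hZ'2.2 (subset_antisymm (hZmem.2 hZ'2.1.1 hZZ') hZZ')
  obtain ⟨w, hw⟩ := hWne
  obtain ⟨O, hO, hOW⟩ := isOpen_induced_iff.mp hWo
  -- generic point
  have hZc : IsClosed Z := isClosed_irreducibleComponent
  have hZ'irr : IsIrreducible (Subtype.val '' Z : Set X) :=
    hZirr.image _ continuous_subtype_val.continuousOn
  have hZ'c : IsClosed (Subtype.val '' Z : Set X) := hFc.isClosedEmbedding_subtypeVal.isClosedMap _ hZc
  obtain ⟨z, hz⟩ := QuasiSober.sober hZ'irr hZ'c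
  have hzZ : ∀ a ∈ (Subtype.val '' Z : Set X), z ⤳ a := fun a ha => hz.specializes ha
  refine ⟨z, hzZ x ⟨xF, mem_irreducibleComponent, rfl⟩, ?_⟩
  -- `f '' O` is open, and meets the closure of y', so contains y'
  have hwO : (w : X) ∈ O := by
    have : w ∈ Subtype.val ⁻¹' O := hOW ▸ hw
    exact this
  have hy'O : y' ∈ f '' O := by
    have h1 : IsOpen (f '' O) := hfo O hO
    have h2 : y' ⤳ f w := (specializes_iff_mem_closure).mpr w.2
    exact h2.mem_open h1 ⟨w, hwO, rfl⟩
  obtain ⟨u, huO, huy⟩ := hy'O
  have huF : u ∈ F := by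
    change f u ∈ closure {y'}
    rw [huy]; exact subset_closure rfl
  have huW : (⟨u, huF⟩ : F) ∈ W := by
    rw [← hOW]; exact huO
  have hzu : z ⤳ u := hzZ u ⟨⟨u, huF⟩, hWZ huW, rfl⟩
  have h3 : f z ⤳ y' := huy ▸ hzu.map hf
  have hzF : z ∈ F := by
    have : z ∈ (Subtype.val '' Z : Set X) := hz.mem
    obtain ⟨z', -, rfl⟩ := this
    exact z'.2
  have h4 : y' ⤳ f z := (specializes_iff_mem_closure).mpr hzF
  exact (h3.antisymm h4).eq

end Groth.Agent.S7550
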