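import Groth.Statements.S7551

set_option autoImplicit false
universe u
open PtTop

namespace Groth.Agent.S7551

/-- Let s, t : R → U and π : U → X be continuous maps between topological spaces satisfying: (1) π is an
open map, (2) U is a sober space, (3) s and t have finite fibres, (4) generalizations lift along s
and along t, and (5) the image of (t, s) : R → U × U is an equivalence relation on U and π
identifies X, as a set, with the quotient of U by it. Then X is Kolmogorov. -/
theorem result {R U X : Type u}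
    [TopologicalSpace R] [TopologicalSpace U] [TopologicalSpace X] [QuasiSober U] [T0Space U]
    (s t : R → U) (π : U → X) (hs : Continuous s) (ht : Continuous t) (hπ : Continuous π)
    (hπo : IsOpenMap π) (hsf : ∀ u, (s ⁻¹' {u}).Finite) (htf : ∀ u, (t ⁻¹' {u}).Finite)
    (hsg : GeneralizingMap s) (htg : GeneralizingMap t)
    (hE : Equivalence fun u u' : U => ∃ r, t r = u ∧ s r = u')
    (hπs : Function.Surjective π) (hπq : ∀ u u' : U, π u = π u' ↔ ∃ r, t r = u ∧ s r = u') :
    T0Space X := by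
  have hfin : ∀ x : X, (π ⁻¹' {x}).Finite := by
    intro x
    obtain ⟨u, rfl⟩ := hπs x
    refine ((htf u).image s).subset ?_
    intro v hv
    obtain ⟨r, hr1, hr2⟩ := (hπq u v).mp hv.symm
    exact ⟨r, hr1, hr2⟩
  have key : ∀ x x' : X, x ⤳ x' → ∀ b, π b = x' → ∃ a, π a = x ∧ a ⤳ b := by
    intro x x' hxx' b hb
    set C : Set U := ⋃ a ∈ π ⁻¹' {x}, closure {a} with hC
    have hCc : IsClosed C := (hfin x).isClosed_biUnion fun _ _ => isClosed_closure
    have hmem : ∀ c, c ∈ C ↔ ∃ a, π a = x ∧ a ⤳ c := by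
      intro c
      simp only [hC, Set.mem_iUnion, Set.mem_preimage, Set.mem_singleton_iff, exists_prop,
        specializes_iff_mem_closure]
    have hsat : ∀ c c', c ∈ C → π c = π c' → c' ∈ C := by
      intro c c' hc hcc'
      obtain ⟨a, ha, hac⟩ := (hmem c).mp hc
      obtain ⟨r, hr1, hr2⟩ := (hπq c c').mp hcc'
      rw [← hr1] at hac
      obtain ⟨r', hr', hr'a⟩ := htg hac
      refine (hmem c').mpr ⟨s r', ?_, ?_⟩
      · rw [← ha]; exact ((hπq a (s r')).mpr ⟨r', hr'a, rfl⟩).symm
      · rw [← hr2]; exact hr'.map hs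
    rw [← hmem]
    by_contra hbC
    have h1 : x' ∈ π '' Cᶜ := ⟨b, hbC, hb⟩
    have h2 : x ∈ π '' Cᶜ := hxx'.mem_open (hπo _ hCc.isOpen_compl) h1
    obtain ⟨c, hc, hcx⟩ := h2
    exact hc ((hmem c).mpr ⟨c, hcx, specializes_rfl⟩)
  constructor
  intro x x' hxx'
  letI : PartialOrder U := specializationOrder U
  obtain ⟨a, ha⟩ := (hfin x).exists_maximal (s := π ⁻¹' {x}) (hπs x)
  obtain ⟨b, hb, hba⟩ := key x' x hxx'.symm.specializes a ha.1
  obtain ⟨a', ha', ha'b⟩ := key x x' hxx'.specializes b hb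
  have h1 : a ≤ a' := (ha'b.trans hba)
  have h2 : a' ≤ a := ha.2 ha' h1
  have h3 : a ⤳ b := Specializes.trans (h2 : a ⤳ a') ha'b
  have h4 : a = b := (h3.antisymm hba).eq
  rw [← ha.1, ← hb, h4]

end Groth.Agent.S7551
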