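import Groth.Statements.S7552

set_option autoImplicit false
universe u
open PtTop

namespace Groth.Agent.S7552

open TopologicalSpace

/-- The irreducible closed subset generated by a point. -/
def cl {X : Type u} [TopologicalSpace X] (x : X) : IrreducibleCloseds X :=
  ⟨closure {x}, isIrreducible_singleton.closure, isClosed_closure⟩

lemma cl_lt {X Y : Type u} [TopologicalSpace X] [TopologicalSpace Y] {f : X → Y}
    (hf : Continuous f) {x x' : X} (h : x' ⤳ x) (h' : cl (f x) < cl (f x')) : cl x < cl x' := by
  refine lt_of_le_of_ne ?_ ?_
  · change closure {x} ⊆ closure {x'}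
    rwa [← specializes_iff_closure_subset]
  · intro he
    have h1 : closure {x} = closure {x'} := congrArg (fun Z : IrreducibleCloseds X => (Z : Set X)) he
    have h2 : x ⤳ x' := by
      rw [specializes_iff_closure_subset, h1]
    have h3 : f x ⤳ f x' := h2.map hf
    have h4 : cl (f x') ≤ cl (f x) := by
      change closure {f x'} ⊆ closure {f x}
      rwa [← specializes_iff_closure_subset]
    exact lt_irrefl _ (h'.trans_le h4)

lemma exists_cl {Y : Type u} [TopologicalSpace Y] [QuasiSober Y] (Z : IrreducibleCloseds Y) :
    ∃ y : Y, cl y = Z := by
  obtain ⟨y, hy⟩ := QuasiSober.sober Z.isIrreducible Z.isClosed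
  exact ⟨y, IrreducibleCloseds.ext hy⟩

lemma spec_of_le {Y : Type u} [TopologicalSpace Y] {y y' : Y} (h : cl y ≤ cl y') : y' ⤳ y := by
  rw [specializes_iff_closure_subset]; exact h

/-- Let f : X → Y be a continuous surjective map of topological spaces with Y sober, and assume that
specializations lift along f or that generalizations lift along f. Then dim X ≥ dim Y (Krull
dimensions as suprema of lengths of chains of irreducible closed subsets). -/
theorem result {X Y : Type u}
    [TopologicalSpace X] [TopologicalSpace Y] [QuasiSober Y] [T0Space Y]
    (f : X → Y) (hf : Continuous f) (hsurj : Function.Surjective f)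
    (hlift : SpecializingMap f ∨ GeneralizingMap f) :
    topologicalKrullDim Y ≤ topologicalKrullDim X := by
  have key : ∀ s : LTSeries (IrreducibleCloseds Y), ∃ s' : LTSeries (IrreducibleCloseds X),
      s'.length = s.length := by
    rcases hlift with hl | hl
    · -- specializations lift: build from the last to the head
      have : ∀ s : LTSeries (IrreducibleCloseds Y), ∃ s' : LTSeries (IrreducibleCloseds X),
          s'.length = s.length ∧ ∃ x : X, s'.head = cl x ∧ s.head = cl (f x) := by
        intro s
        induction s using RelSeries.inductionOn with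
        | singleton Z =>
          obtain ⟨y, rfl⟩ := exists_cl Z
          obtain ⟨x, rfl⟩ := hsurj y
          exact ⟨RelSeries.singleton _ (cl x), rfl, x, rfl, rfl⟩
        | cons p Z hZ ih =>
          obtain ⟨s', hs', x, hx, hx'⟩ := ih
          obtain ⟨y, rfl⟩ := exists_cl Z
          have hlt : cl y < cl (f x) := by rw [← hx']; exact hZ
          have hsp : f x ⤳ y := spec_of_le hlt.le
          obtain ⟨x', hx's, rfl⟩ := hl hsp
          refine ⟨s'.cons (cl x') ?_, ?_, x', ?_, ?_⟩
          · change cl x' < s'.head
            rw [hx]
            exact cl_lt hf hx's hlt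
          · simp [hs']
          · simp
          · simp
      intro s
      obtain ⟨s', h, -⟩ := this s
      exact ⟨s', h⟩
    · have : ∀ s : LTSeries (IrreducibleCloseds Y), ∃ s' : LTSeries (IrreducibleCloseds X),
          s'.length = s.length ∧ ∃ x : X, s'.last = cl x ∧ s.last = cl (f x) := by
        intro s
        induction s using RelSeries.inductionOn' with
        | singleton Z =>
          obtain ⟨y, rfl⟩ := exists_cl Z
          obtain ⟨x, rfl⟩ := hsurj y
          exact ⟨RelSeries.singleton _ (cl x), rfl, x, rfl, rfl⟩
        | snoc p Z hZ ih =>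
          obtain ⟨s', hs', x, hx, hx'⟩ := ih
          obtain ⟨y, rfl⟩ := exists_cl Z
          have hlt : cl (f x) < cl y := by rw [← hx']; exact hZ
          have hsp : y ⤳ f x := spec_of_le hlt.le
          obtain ⟨x', hx's, rfl⟩ := hl hsp
          refine ⟨s'.snoc (cl x') ?_, ?_, x', ?_, ?_⟩
          · change s'.last < cl x'
            rw [hx]
            exact cl_lt hf hx's hlt
          · simp [hs']
          · simp
          · simp
      intro s
      obtain ⟨s', h, -⟩ := this s
      exact ⟨s', h⟩
  unfold topologicalKrullDim Order.krullDim
  refine iSup_le fun s => ?_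
  obtain ⟨s', hs'⟩ := key s
  rw [← hs']
  exact le_iSup (fun p : LTSeries (IrreducibleCloseds X) => (p.length : WithBot ℕ∞)) s'

end Groth.Agent.S7552
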