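import Groth.Statements.S7556
import Groth.Agent.S7555
import Mathlib.Topology.ExtremallyDisconnected
import Mathlib.Topology.Compactification.StoneCech

set_option autoImplicit false
universe u
open PtTop

namespace Groth.Agent.S7556

/-- Copy of `X` with the discrete topology. -/
structure Disc (X : Type u) : Type u where
  /-- the underlying point -/
  val : X

instance (X : Type u) : TopologicalSpace (Disc X) := ⊥
instance (X : Type u) : DiscreteTopology (Disc X) := ⟨rfl⟩

/-- Let X be a quasi-compact Hausdorff space. There is a continuous surjection p : X' → X with X'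
quasi-compact, Hausdorff and extremally disconnected such that no proper closed subset of X' maps
onto X; and if q : X'' → X is a second cover with the same properties, there is a homeomorphism X' ≃
X'' compatible with p and q. -/
theorem result (X : Type u) [TopologicalSpace X] [CompactSpace X] [T2Space X] :
    (∃ (X' : Type u) (_ : TopologicalSpace X') (_ : CompactSpace X') (_ : T2Space X') (_ : ExtremallyDisconnected X')
        (p : X' → X), Continuous p ∧ Function.Surjective p ∧
        ∀ E : Set X', IsClosed E → E ≠ Set.univ → p '' E ≠ Set.univ) ∧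
    (∀ (X' X'' : Type u) [TopologicalSpace X'] [CompactSpace X'] [T2Space X'] [ExtremallyDisconnected X']
        [TopologicalSpace X''] [CompactSpace X''] [T2Space X''] [ExtremallyDisconnected X'']
        (p : X' → X) (q : X'' → X),
        Continuous p → Function.Surjective p → (∀ E : Set X', IsClosed E → E ≠ Set.univ → p '' E ≠ Set.univ) →
        Continuous q → Function.Surjective q → (∀ E : Set X'', IsClosed E → E ≠ Set.univ → q '' E ≠ Set.univ) →
        ∃ h : X' ≃ₜ X'', q ∘ h = p) := by
  constructor
  · -- existence
    have hid : Continuous (Disc.val : Disc X → X) := continuous_of_discreteTopology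
    let π : StoneCech (Disc X) → X := stoneCechExtend hid
    have hπ : Continuous π := continuous_stoneCechExtend hid
    have hπs : Function.Surjective π := by
      intro x
      refine ⟨stoneCechUnit (Disc.mk x), ?_⟩
      exact congrFun (stoneCechExtend_extends hid) (Disc.mk x)
    obtain ⟨E, hEc, hEs, hEmin⟩ := exists_compact_surjective_zorn_subset hπ hπs
    let p : E → X := fun e => π e
    have hp : Continuous p := hπ.comp continuous_subtype_val
    have hps : Function.Surjective p := by
      intro x
      obtain ⟨e, he, hex⟩ : x ∈ π '' E := hEs ▸ Set.mem_univ x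
      exact ⟨⟨e, he⟩, hex⟩
    have hpmin : ∀ F : Set E, IsClosed F → F ≠ Set.univ → p '' F ≠ Set.univ :=
      fun F hF hF' => hEmin F hF' hF
    obtain ⟨g, hg, hgπ⟩ := (StoneCech.projective (X := Disc X)) hπ hp hps
    have hret : g ∘ (Subtype.val : E → StoneCech (Disc X)) = id := by
      by_contra hne
      have hcont : Continuous (g ∘ (Subtype.val : E → StoneCech (Disc X))) := hg.comp continuous_subtype_val
      have hpp : ∀ e : E, p (g e) = p e := fun e => congrFun hgπ e
      have hsurj : Function.Surjective (g ∘ (Subtype.val : E → StoneCech (Disc X))) := by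
        rw [← Set.range_eq_univ]
        by_contra hr
        refine hpmin _ (isCompact_range hcont).isClosed hr ?_
        rw [← Set.range_comp, Set.range_eq_univ]
        intro x
        obtain ⟨e, rfl⟩ := hps x
        exact ⟨e, hpp e⟩
      obtain ⟨F, hF, hF', hFF⟩ := Groth.Agent.S7555.result _ hcont hsurj hne
      refine hpmin F hF hF' ?_
      rw [Set.eq_univ_iff_forall]
      intro x
      obtain ⟨e, rfl⟩ := hps x
      have : e ∈ F ∪ (g ∘ (Subtype.val : E → StoneCech (Disc X))) '' F := hFF ▸ Set.mem_univ e
      rcases this with h | ⟨e', he', rfl⟩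
      · exact ⟨e, h, rfl⟩
      · exact ⟨e', he', (hpp e').symm⟩
    have hproj : CompactT2.Projective E := by
      intro Y Z _ _ _ _ _ _ f q hf hq hqs
      obtain ⟨h, hh, hhf⟩ := (StoneCech.projective (X := Disc X)) (hf.comp hg) hq hqs
      refine ⟨h ∘ Subtype.val, hh.comp continuous_subtype_val, ?_⟩
      rw [← Function.comp_assoc, hhf, Function.comp_assoc, hret, Function.comp_id]
    exact ⟨E, inferInstance, hEc, inferInstance, hproj.extremallyDisconnected, p, hp, hps, hpmin⟩
  · -- uniqueness
    intro X' X'' _ _ _ _ _ _ _ _ p q hp hps hpmin hq hqs hqmin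
    obtain ⟨h, hh, hqh⟩ := (CompactT2.ExtremallyDisconnected.projective (A := X')) hp hq hqs
    have hqh' : ∀ x, q (h x) = p x := fun x => congrFun hqh x
    have hsurj : Function.Surjective h := by
      rw [← Set.range_eq_univ]
      by_contra hr
      refine hqmin _ (isCompact_range hh).isClosed hr ?_
      rw [← Set.range_comp, hqh, Set.range_eq_univ]
      exact hps
    have hz : ∀ E₀ : Set X', E₀ ≠ Set.univ → IsClosed E₀ → h '' E₀ ≠ Set.univ := by
      intro E₀ h1 h2 h3
      refine hpmin E₀ h2 h1 ?_
      rw [← hqh, Set.image_comp, h3, Set.image_univ, Set.range_eq_univ]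
      exact hqs
    refine ⟨ExtremallyDisconnected.homeoCompactToT2 hh hsurj hz, ?_⟩
    exact hqh

end Groth.Agent.S7556
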