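import Groth.Statements.S7557
import Mathlib.Topology.Algebra.Ring.Basic
import Mathlib.Algebra.Ring.Subring.Basic

set_option autoImplicit false
universe u
open CategoryTheory CategoryTheory.Limits
open PtTop

namespace Groth.Agent.S7557

variable {J : Type u} [SmallCategory J] (F : J ⥤ TopCommRingCat.{u})

/-- The subring of compatible families. -/
def sec : Subring (∀ j, F.obj j) where
  carrier := {x | ∀ {j j' : J} (f : j ⟶ j'), (F.map f).1 (x j) = x j'}
  mul_mem' := fun {a b} ha hb j j' f => by
    change (F.map f).1 (a j * b j) = a j' * b j'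
    rw [map_mul, ha, hb]
  one_mem' := fun f => map_one _
  add_mem' := fun {a b} ha hb j j' f => by
    change (F.map f).1 (a j + b j) = a j' + b j'
    rw [map_add, ha, hb]
  zero_mem' := fun f => map_zero _
  neg_mem' := fun {a} ha j j' f => by
    change (F.map f).1 (- a j) = - a j'
    rw [map_neg, ha]

/-- The limit cone. -/
def cone : Cone F where
  pt := TopCommRingCat.of (sec F)
  π :=
    { app := fun j => ⟨(Pi.evalRingHom _ j).comp (sec F).subtype,
        (continuous_apply j).comp continuous_subtype_val⟩
      naturality := fun j j' f => by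
        apply Subtype.ext
        apply RingHom.ext
        intro x
        exact (x.2 f).symm }

lemma w_apply (s : Cone F) {j j' : J} (f : j ⟶ j') (x : s.pt) :
    (F.map f).1 ((s.π.app j).1 x) = (s.π.app j').1 x := by
  have := s.w f
  exact congrArg (fun g : s.pt ⟶ F.obj j' => g.1 x) this

/-- The limit cone is a limit cone. -/
def isLimit : IsLimit (cone F) where
  lift s := ⟨RingHom.codRestrict (RingHom.pi fun j => (s.π.app j).1 : s.pt →+* ∀ j, F.obj j) (sec F)
      (fun x {_ _} f => w_apply F s f x), by
        refine Continuous.subtype_mk ?_ _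
        exact continuous_pi fun j => (s.π.app j).2⟩
  fac s j := by
    apply Subtype.ext
    apply RingHom.ext
    intro x
    rfl
  uniq s m hm := by
    apply Subtype.ext
    apply RingHom.ext
    intro x
    apply Subtype.ext
    funext j
    exact congrArg (fun g : s.pt ⟶ F.obj j => g.1 x) (hm j)

/-- The image in topological spaces is a limit cone. -/
def isLimitTop : IsLimit ((forget₂ TopCommRingCat.{u} TopCat.{u}).mapCone (cone F)) where
  lift s := TopCat.ofHom ⟨fun x => (⟨fun j => s.π.app j x, fun {j j'} f => by
      have := congrArg (fun g : s.pt ⟶ (F ⋙ forget₂ TopCommRingCat.{u} TopCat.{u}).obj j' => g x) (s.w f)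
      exact this⟩ : sec F), by
        refine Continuous.subtype_mk ?_ _
        exact continuous_pi fun j => (s.π.app j).hom.2⟩
  fac s j := by
    ext x
    rfl
  uniq s m hm := by
    ext x
    apply Subtype.ext
    funext j
    exact congrArg (fun g : s.pt ⟶ (F ⋙ forget₂ TopCommRingCat.{u} TopCat.{u}).obj j => g x) (hm j)

/-- The image in rings is a limit cone. -/
def isLimitRing : IsLimit ((forget₂ TopCommRingCat.{u} CommRingCat.{u}).mapCone (cone F)) where
  lift s := CommRingCat.ofHom (RingHom.codRestrict (RingHom.pi fun j => (s.π.app j).hom) (sec F)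
      (fun x {j j'} f => by
        have := congrArg (fun g : s.pt ⟶ (F ⋙ forget₂ TopCommRingCat.{u} CommRingCat.{u}).obj j' => g.hom x) (s.w f)
        exact this))
  fac s j := by
    ext x
    rfl
  uniq s m hm := by
    ext x
    apply Subtype.ext
    funext j
    exact congrArg (fun g : s.pt ⟶ (F ⋙ forget₂ TopCommRingCat.{u} CommRingCat.{u}).obj j => g.hom x) (hm j)

/-- The category of topological rings (commutative, with continuous ring homomorphisms) has limits, and
limits commute with the forgetful functors to topological spaces and to rings. -/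
theorem result :
    HasLimits TopCommRingCat.{u} ∧
    PreservesLimits (forget₂ TopCommRingCat.{u} TopCat.{u}) ∧
    PreservesLimits (forget₂ TopCommRingCat.{u} CommRingCat.{u}) := by
  refine ⟨⟨fun J _ => ⟨fun F => ⟨⟨⟨cone F, isLimit F⟩⟩⟩⟩⟩, ⟨fun {J} _ => ⟨fun {F} => ?_⟩⟩,
    ⟨fun {J} _ => ⟨fun {F} => ?_⟩⟩⟩
  · exact preservesLimit_of_preserves_limit_cone (isLimit F) (isLimitTop F)
  · exact preservesLimit_of_preserves_limit_cone (isLimit F) (isLimitRing F)

end Groth.Agent.S7557
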