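import Groth.Statements.S7558
import Mathlib.Topology.Algebra.Ring.Basic
import Mathlib.Algebra.Category.Ring.Colimits

set_option autoImplicit false
universe u
open CategoryTheory CategoryTheory.Limits
open PtTop

namespace Groth.Agent.S7558

/-- The ring topology induced along a ring homomorphism. -/
def inducedRT {R S : Type u} [CommRing R] [CommRing S] [t : TopologicalSpace S] [IsTopologicalRing S]
    (h : R →+* S) : RingTopology R :=
  letI : TopologicalSpace R := TopologicalSpace.induced h t
  haveI : ContinuousMul R := continuousMul_induced h
  haveI : IsTopologicalAddGroup R := topologicalAddGroup_induced h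
  { toTopologicalSpace := TopologicalSpace.induced h t
    toIsTopologicalRing := { } }

variable {J : Type u} [SmallCategory J] (F : J ⥤ TopCommRingCat.{u})

/-- The colimit in rings. -/
noncomputable abbrev colimRing : CommRingCat.{u} :=
  colimit (F ⋙ forget₂ TopCommRingCat.{u} CommRingCat.{u})

/-- The coprojections. -/
noncomputable abbrev iota (j : J) : (F.obj j : Type u) →+* colimRing F :=
  (colimit.ι (F ⋙ forget₂ TopCommRingCat.{u} CommRingCat.{u}) j).hom

/-- The colimit ring topology. -/
noncomputable def colimTop : RingTopology (colimRing F) :=
  ⨆ j, RingTopology.coinduced (t := (F.obj j).isTopologicalSpace) (iota F j)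

/-- The colimit ring topology, as a topology. -/
noncomputable local instance instTop : TopologicalSpace (colimRing F) := (colimTop F).toTopologicalSpace

local instance instTopRing : IsTopologicalRing (colimRing F) := (colimTop F).toIsTopologicalRing

lemma iota_continuous (j : J) : Continuous (iota F j) := by
  have h1 := RingTopology.coinduced_continuous (t := (F.obj j).isTopologicalSpace) (iota F j)
  have h2 : RingTopology.coinduced (t := (F.obj j).isTopologicalSpace) (iota F j) ≤ colimTop F :=
    le_iSup (fun j => RingTopology.coinduced (t := (F.obj j).isTopologicalSpace) (iota F j)) j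
  have h3 : (RingTopology.coinduced (t := (F.obj j).isTopologicalSpace) (iota F j)).toTopologicalSpace ≤
      (colimTop F).toTopologicalSpace := h2
  exact continuous_le_rng h3 h1

lemma desc_continuous {S : Type u} [CommRing S] [t : TopologicalSpace S] [IsTopologicalRing S]
    (h : colimRing F →+* S) (hh : ∀ j, Continuous (h.comp (iota F j))) : Continuous h := by
  rw [continuous_iff_le_induced]
  have : colimTop F ≤ inducedRT h := by
    refine iSup_le fun j => ?_
    refine sInf_le ?_
    change TopologicalSpace.coinduced (iota F j) _ ≤ TopologicalSpace.induced h t
    rw [← continuous_iff_coinduced_le, continuous_induced_rng]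
    exact hh j
  exact this

/-- The colimit cocone. -/
noncomputable def cocone : Cocone F where
  pt := TopCommRingCat.of (colimRing F)
  ι :=
    { app := fun j => ⟨iota F j, iota_continuous F j⟩
      naturality := fun j j' f => by
        apply Subtype.ext
        apply RingHom.ext
        intro x
        exact congrArg (fun g => g.hom x) (colimit.w (F ⋙ forget₂ TopCommRingCat.{u} CommRingCat.{u}) f) }

/-- The descended ring homomorphism. -/
noncomputable def descHom (s : Cocone F) : colimRing F →+* s.pt :=
  (colimit.desc (F ⋙ forget₂ TopCommRingCat.{u} CommRingCat.{u})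
    ((forget₂ TopCommRingCat.{u} CommRingCat.{u}).mapCocone s)).hom

lemma descHom_iota (s : Cocone F) (j : J) : (descHom F s).comp (iota F j) = (s.ι.app j).1 := by
  have := colimit.ι_desc ((forget₂ TopCommRingCat.{u} CommRingCat.{u}).mapCocone s) j
  exact congrArg (fun g => g.hom) this

/-- The colimit cocone is colimiting. -/
noncomputable def isColimit : IsColimit (cocone F) where
  desc s := ⟨descHom F s, desc_continuous F (descHom F s) fun j => by
    rw [descHom_iota]; exact (s.ι.app j).2⟩
  fac s j := by
    apply Subtype.ext
    exact descHom_iota F s j
  uniq s m hm := by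
    apply Subtype.ext
    have : CommRingCat.ofHom m.1 = CommRingCat.ofHom (descHom F s) := by
      refine colimit.hom_ext fun j => ?_
      ext x
      have h1 := congrArg (fun g : F.obj j ⟶ s.pt => g.1 x) (hm j)
      have h2 := congrArg (fun g : (F.obj j : Type u) →+* s.pt => g x) (descHom_iota F s j)
      exact h1.trans h2.symm
    exact congrArg (fun g => g.hom) this

/-- The image in rings is colimiting. -/
noncomputable def isColimitRing :
    IsColimit ((forget₂ TopCommRingCat.{u} CommRingCat.{u}).mapCocone (cocone F)) :=
  IsColimit.ofIsoColimit (colimit.isColimit (F ⋙ forget₂ TopCommRingCat.{u} CommRingCat.{u}))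
    (Cocone.ext (Iso.refl _) (fun j => rfl))

/-- The category of topological rings (commutative, with continuous ring homomorphisms) has colimits,
and colimits commute with the forgetful functor to rings. -/
theorem result :
    HasColimits TopCommRingCat.{u} ∧
    PreservesColimits (forget₂ TopCommRingCat.{u} CommRingCat.{u}) := by
  refine ⟨⟨fun J _ => ⟨fun F => ⟨⟨⟨cocone F, isColimit F⟩⟩⟩⟩⟩, ⟨fun {J} _ => ⟨fun {F} => ?_⟩⟩⟩
  exact preservesColimit_of_preserves_colimit_cocone (isColimit F) (isColimitRing F)

end Groth.Agent.S7558
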