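import Groth.Statements.S7559
import Mathlib.Data.Fintype.Powerset
import Mathlib.Data.Fintype.Sum

set_option autoImplicit false
universe u
open PtTop

namespace Groth.Agent.S7559

/-- Let X be a topological space and X = ∐ P_k a finite partition into locally closed parts. Then there
is a finite stratification of X refining it: a finite partially ordered index set I and pairwise
disjoint locally closed strata S_i covering X with closure(S_j) ⊆ ⋃_{i ≤ j} S_i, such that every
part P_k is a union of strata. -/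
theorem result {X : Type u} [TopologicalSpace X]
    {n : ℕ} (P : Fin n → Set X) (hP : ∀ k, IsLocallyClosed (P k)) (hcov : ⋃ k, P k = Set.univ)
    (hdisj : ∀ k k', k ≠ k' → Disjoint (P k) (P k')) :
    ∃ (I : Type) (_ : Fintype I) (_ : PartialOrder I) (S : I → Set X),
      (∀ i, IsLocallyClosed (S i)) ∧ (⋃ i, S i = Set.univ) ∧ (∀ i j, i ≠ j → Disjoint (S i) (S j)) ∧
      (∀ j, closure (S j) ⊆ ⋃ i ∈ Set.Iic j, S i) ∧
      (∀ i k, (S i ∩ P k).Nonempty → S i ⊆ P k) := by
  classical
  -- the closed sets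
  let Z : Fin n ⊕ Fin n → Set X := Sum.elim (fun k => closure (P k)) (fun k => closure (P k) \ P k)
  have hZ : ∀ a, IsClosed (Z a) := by
    rintro (k | k)
    · exact isClosed_closure
    · have := hP k
      rw [isLocallyClosed_iff_isOpen_coborder, coborder, isOpen_compl_iff] at this
      exact this
  let S : (Finset (Fin n ⊕ Fin n))ᵒᵈ → Set X := fun J => {x | ∀ a, a ∈ OrderDual.ofDual J ↔ x ∈ Z a}
  refine ⟨(Finset (Fin n ⊕ Fin n))ᵒᵈ, inferInstance, inferInstance, S, ?_, ?_, ?_, ?_, ?_⟩
  · intro J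
    have : S J = (⋂ a ∈ {a | a ∉ OrderDual.ofDual J}, (Z a)ᶜ) ∩ (⋂ a ∈ {a | a ∈ OrderDual.ofDual J}, Z a) := by
      ext x
      simp only [S, Set.mem_setOf_eq, Set.mem_inter_iff, Set.mem_iInter, Set.mem_compl_iff]
      constructor
      · intro h
        exact ⟨fun a ha hx => ha ((h a).mpr hx), fun a ha => (h a).mp ha⟩
      · rintro ⟨h1, h2⟩ a
        exact ⟨h2 a, fun hx => by_contra fun ha => h1 a ha hx⟩
    rw [this]
    refine ⟨_, _, ?_, ?_, rfl⟩
    · exact (Set.toFinite _).isOpen_biInter fun a _ => (hZ a).isOpen_compl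
    · exact isClosed_biInter fun a _ => hZ a
  · rw [Set.eq_univ_iff_forall]
    intro x
    rw [Set.mem_iUnion]
    refine ⟨OrderDual.toDual (Finset.univ.filter fun a => x ∈ Z a), ?_⟩
    intro a
    simp
  · intro J J' hJJ'
    rw [Set.disjoint_left]
    intro x hx hx'
    apply hJJ'
    apply OrderDual.ofDual.injective
    ext a
    rw [hx a, hx' a]
  · intro J x hx
    have hx' : ∀ a ∈ OrderDual.ofDual J, x ∈ Z a := by
      intro a ha
      exact closure_minimal (fun y hy => (hy a).mp ha) (hZ a) hx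
    rw [Set.mem_iUnion₂]
    refine ⟨OrderDual.toDual (Finset.univ.filter fun a => x ∈ Z a), ?_, ?_⟩
    · change OrderDual.toDual (Finset.univ.filter fun a => x ∈ Z a) ≤ J
      rw [OrderDual.toDual_le]
      intro a ha
      simp [hx' a ha]
    · intro a
      simp
  · rintro J k ⟨x, hxJ, hxk⟩ y hy
    have h1 : Sum.inl k ∈ OrderDual.ofDual J := (hxJ _).mpr (subset_closure hxk)
    have h2 : Sum.inr k ∉ OrderDual.ofDual J := fun h => ((hxJ _).mp h).2 hxk
    have h3 : y ∈ closure (P k) := (hy _).mp h1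
    by_contra hyk
    exact h2 ((hy _).mpr ⟨h3, hyk⟩)

end Groth.Agent.S7559
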