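import Groth.Statements.S7560
import Groth.Agent.ConstrTop.K391.Basic
import Mathlib.Data.Fintype.Powerset
import Mathlib.Data.Fintype.Sigma

set_option autoImplicit false
universe u
open ConstrTop

namespace Groth.Agent.S7560

open Topology TopologicalSpace in
/-- Membership in a constructible set is decided by finitely many retrocompact opens. -/
theorem exists_opens {X : Type u} [TopologicalSpace X] {T : Set X} (hT : IsConstructible T) :
    ∃ (m : ℕ) (U : Fin m → Set X), (∀ i, IsOpen (U i) ∧ IsConstructible (U i)) ∧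
      ∀ x y, (∀ i, x ∈ U i ↔ y ∈ U i) → (x ∈ T → y ∈ T) := by
  obtain ⟨n, U, V, hU, hV, rfl⟩ := K391.Basic.exists_decomp hT
  refine ⟨n + n, Fin.append U V, ?_, ?_⟩
  · intro i
    refine Fin.addCases (fun i => ?_) (fun i => ?_) i
    · rw [Fin.append_left]; exact ⟨(hU i).1, (hU i).2.isConstructible (hU i).1⟩
    · rw [Fin.append_right]; exact ⟨(hV i).1, (hV i).2.isConstructible (hV i).1⟩
  · intro x y h hx
    obtain ⟨i, hi⟩ := Set.mem_iUnion.mp hx
    refine Set.mem_iUnion.mpr ⟨i, ?_, ?_⟩
    · have := h (Fin.castAdd n i)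
      simp only [Fin.append_left] at this
      exact this.mp hi.1
    · have := h (Fin.natAdd n i)
      simp only [Fin.append_right] at this
      exact fun hy => hi.2 (this.mpr hy)

/-- Let X be a topological space written as a finite union X = T_1 ∪ … ∪ T_n of constructible subsets.
Then there is a finite stratification X = ∐ S_i (pairwise disjoint locally closed strata indexed by
a finite partially ordered set, with closure(S_j) ⊆ ⋃_{i ≤ j} S_i) whose strata are constructible
and such that every T_k is a union of strata. -/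
theorem result {X : Type u} [TopologicalSpace X]
    {n : ℕ} (T : Fin n → Set X) (hT : ∀ k, Topology.IsConstructible (T k)) (hcov : ⋃ k, T k = Set.univ) :
    ∃ (I : Type) (_ : Fintype I) (_ : PartialOrder I) (S : I → Set X),
      (∀ i, IsLocallyClosed (S i) ∧ Topology.IsConstructible (S i)) ∧ (⋃ i, S i = Set.univ) ∧
      (∀ i j, i ≠ j → Disjoint (S i) (S j)) ∧
      (∀ j, closure (S j) ⊆ ⋃ i ∈ Set.Iic j, S i) ∧
      (∀ i k, (S i ∩ T k).Nonempty → S i ⊆ T k) := by
  classical
  choose m U hU hUT using fun k => exists_opens (hT k)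
  let J := Σ k : Fin n, Fin (m k)
  let V : J → Set X := fun j => U j.1 j.2
  let S : Finset J → Set X := fun s => {x | ∀ j, x ∈ V j ↔ j ∈ s}
  have hS : ∀ s, S s = (⋂ j : {j // j ∈ s}, V j) ∩ (⋂ j : {j // j ∉ s}, (V j)ᶜ) := by
    intro s
    ext x
    simp only [S, Set.mem_ofPred_eq, Set.mem_inter_iff, Set.mem_iInter, Set.mem_compl_iff, Subtype.forall]
    constructor
    · intro h
      exact ⟨fun j hj => (h j).mpr hj, fun j hj hx => hj ((h j).mp hx)⟩
    · rintro ⟨h1, h2⟩ j
      exact ⟨fun hx => by_contra fun hj => h2 j hj hx, h1 j⟩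
  have hV : ∀ j, IsOpen (V j) ∧ Topology.IsConstructible (V j) := fun j => hU j.1 j.2
  refine ⟨Finset J, inferInstance, inferInstance, S, ?_, ?_, ?_, ?_, ?_⟩
  · intro s
    rw [hS]
    refine ⟨⟨_, _, isOpen_iInter_of_finite fun j : {j // j ∈ s} => (hV j).1,
      isClosed_iInter fun j : {j // j ∉ s} => (hV j).1.isClosed_compl, rfl⟩, ?_⟩
    exact (Topology.IsConstructible.iInter fun j : {j // j ∈ s} => (hV j).2).inter
      (Topology.IsConstructible.iInter fun j : {j // j ∉ s} => (hV j).2.compl)
  · refine Set.eq_univ_of_forall fun x => Set.mem_iUnion.mpr ⟨Finset.univ.filter fun j => x ∈ V j, ?_⟩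
    intro j
    simp
  · intro s t hst
    rw [Set.disjoint_left]
    intro x hx hy
    exact hst (Finset.ext fun j => (hx j).symm.trans (hy j))
  · intro s x hx
    refine Set.mem_iUnion₂.mpr ⟨Finset.univ.filter fun j => x ∈ V j, ?_, ?_⟩
    · intro j hj
      simp only [Finset.mem_filter, Finset.mem_univ, true_and] at hj
      obtain ⟨y, hyV, hyS⟩ := mem_closure_iff.mp hx _ (hV j).1 hj
      exact (hyS j).mp hyV
    · intro j
      simp
  · rintro s k ⟨x, hxS, hxT⟩ y hy
    exact hUT k x y (fun i => (hxS ⟨k, i⟩).trans (hy ⟨k, i⟩).symm) hxT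

end Groth.Agent.S7560
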