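import Groth.Statements.S7561
import Mathlib.Data.Fintype.Option
import Mathlib.Data.Fintype.Prod
import Mathlib.Data.Fintype.Powerset

set_option autoImplicit false
universe u
open PtTop

namespace Groth.Agent.S7561

/-- A nonempty closed set with a finite colouring with locally closed fibres has a nonempty relatively
open monochromatic subset. -/
lemma exists_open_mono {X : Type u} [TopologicalSpace X] {ι : Type} [Finite ι] (c : X → ι) (Z : Set X)
    (hZ : Z.Nonempty) (hZc : IsClosed Z) (hc : ∀ i, IsLocallyClosed {x | x ∈ Z ∧ c x = i}) :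
    ∃ (V : Set X) (i : ι), IsOpen V ∧ (V ∩ Z).Nonempty ∧ ∀ x ∈ V ∩ Z, c x = i := by
  classical
  cases nonempty_fintype ι
  -- maximal `J` with `⋃_{i ∈ J} closure P_i ≠ Z`
  let P : ι → Set X := fun i => {x | x ∈ Z ∧ c x = i}
  obtain ⟨J, hJ⟩ := (Set.toFinite {J : Finset ι | ¬ Z ⊆ ⋃ i ∈ J, closure (P i)}).exists_maximal
    ⟨∅, by simpa using hZ.ne_empty⟩
  obtain ⟨x, hxZ, hx⟩ := Set.not_subset.mp hJ.1
  set V : Set X := (⋃ i ∈ J, closure (P i))ᶜ with hV
  have hVo : IsOpen V := by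
    rw [hV, isOpen_compl_iff]
    exact isClosed_biUnion_finset fun i _ => isClosed_closure
  have hmax : ∀ i ∉ J, V ∩ Z ⊆ closure (P i) := by
    intro i hi y hy
    by_contra hyi
    have h1 : ¬ Z ⊆ ⋃ j ∈ insert i J, closure (P j) := by
      intro h
      have := h hy.2
      simp only [Finset.mem_insert, Set.iUnion_iUnion_eq_or_left, Set.mem_union] at this
      rcases this with h | h
      · exact hyi h
      · exact hy.1 h
    have h2 := hJ.2 (y := insert i J) h1 (Finset.subset_insert i J)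
    exact hi (h2 (Finset.mem_insert_self i J))
  have hxJ : c x ∉ J := by
    intro h
    apply hx
    exact Set.mem_biUnion h (subset_closure ⟨hxZ, rfl⟩)
  have hlc := hc (c x)
  obtain ⟨O, hO, hPO⟩ := hlc.isOpen_coborder.isLocallyClosed
  have hcob : IsOpen (coborder (P (c x))) := hlc.isOpen_coborder
  refine ⟨V ∩ coborder (P (c x)), c x, hVo.inter hcob, ⟨x, ⟨hx, ?_⟩, hxZ⟩, ?_⟩
  · exact subset_coborder ⟨hxZ, rfl⟩
  · rintro y ⟨⟨hyV, hyc⟩, hyZ⟩
    have h1 : y ∈ closure (P (c x)) := hmax _ hxJ ⟨hyV, hyZ⟩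
    by_contra hne
    exact hyc ⟨h1, fun h => hne h.2⟩

lemma main {X : Type u} [TopologicalSpace X] [TopologicalSpace.NoetherianSpace X] (Z : TopologicalSpace.Closeds X) :
    ∀ {ι : Type} [Finite ι] (c : X → ι) (_ : ∀ i, IsLocallyClosed {x | x ∈ Z ∧ c x = i}),
    ∃ (κ : Type) (_ : Finite κ) (d : X → κ), (∀ i, IsLocallyClosed {x | x ∈ Z ∧ d x = i}) ∧
      (∀ x y, x ∈ Z → y ∈ Z → d x = d y → c x = c y) ∧
      (∀ i j, ({x | x ∈ Z ∧ d x = i} ∩ closure {x | x ∈ Z ∧ d x = j}).Nonempty →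
        {x | x ∈ Z ∧ d x = i} ⊆ closure {x | x ∈ Z ∧ d x = j}) := by
  classical
  induction Z using (wellFounded_lt (α := TopologicalSpace.Closeds X)).induction with
  | _ Z ih =>
  intro ι _ c hc
  rcases Set.eq_empty_or_nonempty (Z : Set X) with hZ | hZ
  · refine ⟨ι, inferInstance, c, hc, fun x y _ _ h => h, ?_⟩
    rintro i j ⟨x, hx, -⟩
    exfalso
    have : x ∈ (Z : Set X) := hx.1
    rw [hZ] at this
    exact this
  obtain ⟨V, i₀, hV, hVne, hVi⟩ := exists_open_mono c (Z : Set X) hZ Z.isClosed hc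
  set U : Set X := V ∩ Z with hU
  let Z' : TopologicalSpace.Closeds X := ⟨Z \ V, Z.isClosed.sdiff hV⟩
  have hlt : Z' < Z := by
    refine lt_of_le_of_ne (fun x hx => hx.1) ?_
    intro h
    obtain ⟨x, hxV, hxZ⟩ := hVne
    have : x ∈ Z' := h ▸ hxZ
    exact this.2 hxV
  obtain ⟨κ, hκ, d, hd1, hd2, hd3⟩ := ih Z' hlt (ι := ι × Prop) (fun x => (c x, x ∈ closure U)) (by
    rintro ⟨i, p⟩
    have h1 : {x | x ∈ Z' ∧ (c x, x ∈ closure U) = (i, p)} =
        {x | x ∈ Z ∧ c x = i} ∩ Vᶜ ∩ {x | (x ∈ closure U) = p} := by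
      ext x
      simp only [Set.mem_setOf_eq, Set.mem_inter_iff, Set.mem_compl_iff, Prod.mk.injEq]
      constructor
      · rintro ⟨⟨h1, h2⟩, h3, h4⟩
        exact ⟨⟨⟨h1, h3⟩, h2⟩, h4⟩
      · rintro ⟨⟨⟨h1, h3⟩, h2⟩, h4⟩
        exact ⟨⟨h1, h2⟩, h3, h4⟩
    rw [h1]
    refine ((hc i).inter hV.isClosed_compl.isLocallyClosed).inter ?_
    by_cases hp : p
    · have : {x | (x ∈ closure U) = p} = closure U := by
        ext x; simp [hp]
      rw [this]
      exact isClosed_closure.isLocallyClosed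
    · have : {x | (x ∈ closure U) = p} = (closure U)ᶜ := by
        ext x; simp [hp]
      rw [this]
      exact isClosed_closure.isOpen_compl.isLocallyClosed)
  let e : X → Option κ := fun x => if x ∈ V then none else some (d x)
  have he : ∀ k : κ, {x | x ∈ Z ∧ e x = some k} = {x | x ∈ Z' ∧ d x = k} := by
    intro k
    ext x
    simp only [Set.mem_setOf_eq, e]
    constructor
    · rintro ⟨h1, h2⟩
      split_ifs at h2 with h3
      exact ⟨⟨h1, h3⟩, by simpa using h2⟩
    · rintro ⟨⟨h1, h3⟩, h2⟩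
      refine ⟨h1, ?_⟩
      rw [if_neg h3, h2]
  have he' : {x | x ∈ Z ∧ e x = none} = U := by
    ext x
    simp only [Set.mem_setOf_eq, e, hU]
    constructor
    · rintro ⟨h1, h2⟩
      split_ifs at h2 with h3
      exact ⟨h3, h1⟩
    · rintro ⟨h1, h2⟩
      exact ⟨h2, by rw [if_pos h1]⟩
  refine ⟨Option κ, inferInstance, e, ?_, ?_, ?_⟩
  · rintro (_ | k)
    · rw [he']
      exact hV.isLocallyClosed.inter Z.isClosed.isLocallyClosed
    · rw [he]; exact hd1 k
  · intro x y hx hy hxy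
    by_cases hxV : x ∈ V
    · by_cases hyV : y ∈ V
      · rw [hVi x ⟨hxV, hx⟩, hVi y ⟨hyV, hy⟩]
      · simp [e, hxV, hyV] at hxy
    · by_cases hyV : y ∈ V
      · simp [e, hxV, hyV] at hxy
      · simp only [e, hxV, hyV, if_false, Option.some.injEq] at hxy
        exact congrArg Prod.fst (hd2 x y ⟨hx, hxV⟩ ⟨hy, hyV⟩ hxy)
  · rintro (_ | i) (_ | j)
    · intro _
      exact subset_closure
    · rintro ⟨x, hx1, hx2⟩
      exfalso
      rw [he'] at hx1
      rw [he] at hx2
      have : x ∈ Z' := closure_minimal (fun y hy => hy.1) Z'.isClosed hx2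
      exact this.2 hx1.1
    · rintro ⟨x, hx1, hx2⟩ y hy
      rw [he'] at hx2 ⊢
      rw [he] at hx1 hy
      have := congrArg Prod.snd (hd2 x y hx1.1 hy.1 (hx1.2.trans hy.2.symm))
      change (x ∈ closure U) = (y ∈ closure U) at this
      exact this ▸ hx2
    · rw [he, he]
      exact hd3 i j

/-- Let X be a Noetherian topological space and X = ∐ P_k a finite partition into locally closed parts.
Then it is refined by a finite good stratification: a finite partition X = ∐ S_i into locally closed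
strata such that S_i ∩ closure(S_j) ≠ ∅ implies S_i ⊆ closure(S_j), with every P_k a union of
strata. -/
theorem result {X : Type u} [TopologicalSpace X]
    [TopologicalSpace.NoetherianSpace X]
    {n : ℕ} (P : Fin n → Set X) (hP : ∀ k, IsLocallyClosed (P k)) (hcov : ⋃ k, P k = Set.univ)
    (hdisj : ∀ k k', k ≠ k' → Disjoint (P k) (P k')) :
    ∃ (m : ℕ) (S : Fin m → Set X),
      (∀ i, IsLocallyClosed (S i)) ∧ (⋃ i, S i = Set.univ) ∧ (∀ i j, i ≠ j → Disjoint (S i) (S j)) ∧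
      (∀ i j, (S i ∩ closure (S j)).Nonempty → S i ⊆ closure (S j)) ∧
      (∀ i k, (S i ∩ P k).Nonempty → S i ⊆ P k) := by
  classical
  have hex : ∀ x : X, ∃ k, x ∈ P k := fun x => Set.mem_iUnion.mp (hcov ▸ Set.mem_univ x)
  choose c hc using hex
  have hcu : ∀ x k, x ∈ P k → c x = k := by
    intro x k hx
    by_contra h
    exact Set.disjoint_left.mp (hdisj _ _ h) (hc x) hx
  have hfib : ∀ k, {x | x ∈ (⊤ : TopologicalSpace.Closeds X) ∧ c x = k} = P k := by
    intro k
    ext x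
    constructor
    · rintro ⟨-, rfl⟩; exact hc x
    · intro hx; exact ⟨trivial, hcu x k hx⟩
  obtain ⟨κ, hκ, d, hd1, hd2, hd3⟩ := main (⊤ : TopologicalSpace.Closeds X) c
    (fun i => by rw [hfib i]; exact hP i)
  obtain ⟨m, ⟨e⟩⟩ := Finite.exists_equiv_fin κ
  refine ⟨m, fun i => {x | x ∈ (⊤ : TopologicalSpace.Closeds X) ∧ d x = e.symm i}, fun i => hd1 _, ?_, ?_,
    fun i j => hd3 _ _, ?_⟩
  · rw [Set.eq_univ_iff_forall]
    intro x
    exact Set.mem_iUnion.mpr ⟨e (d x), trivial, by simp⟩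
  · intro i j hij
    rw [Set.disjoint_left]
    rintro x ⟨-, hx⟩ ⟨-, hx'⟩
    exact hij (e.symm.injective (hx.symm.trans hx'))
  · rintro i k ⟨x, ⟨-, hx⟩, hxk⟩ y ⟨-, hy⟩
    have := hd2 x y trivial trivial (hx.trans hy.symm)
    rw [hcu x k hxk] at this
    rw [this]
    exact hc y

end Groth.Agent.S7561
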