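import Groth.Statements.S7563

set_option autoImplicit false
universe u
open PtTop

namespace Groth.Agent.S7563

/-- Let X be a topological space and X = X_1 ∪ … ∪ X_n with each X_i irreducible and closed and no X_i
contained in the union of the others. Then the irreducible components of X are precisely the sets
X_1, …, X_n. -/
theorem result {X : Type u} [TopologicalSpace X]
    {n : ℕ} (Z : Fin n → Set X) (hZ : ∀ i, IsIrreducible (Z i) ∧ IsClosed (Z i))
    (hcov : ⋃ i, Z i = Set.univ) (hirr : ∀ i, ¬ Z i ⊆ ⋃ j ∈ ({i}ᶜ : Set (Fin n)), Z j) :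
    irreducibleComponents X = Set.range Z := by
  have key : ∀ W : Set X, IsIrreducible W → ∃ i, W ⊆ Z i := by
    intro W hW
    have h1 : W ⊆ ⋃₀ (Set.range Z) := by
      rw [Set.sUnion_range, hcov]; exact Set.subset_univ _
    obtain ⟨S, hS, hWS⟩ := (isIrreducible_iff_sUnion_isClosed.mp hW)
      (Set.finite_range Z).toFinset
      (fun z hz => by
        obtain ⟨i, rfl⟩ := (Set.Finite.mem_toFinset _).mp hz
        exact (hZ i).2)
      (by simpa using h1)
    obtain ⟨i, rfl⟩ := (Set.Finite.mem_toFinset _).mp hS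
    exact ⟨i, hWS⟩
  have hmax : ∀ i, Z i ∈ irreducibleComponents X := by
    intro i
    refine ⟨(hZ i).1, ?_⟩
    intro W hW hle
    obtain ⟨j, hj⟩ := key W hW
    by_cases hij : j = i
    · subst hij; exact hj
    · exfalso
      apply hirr i
      exact (hle.trans hj).trans (Set.subset_biUnion_of_mem (u := fun j => Z j) (show j ∈ ({i}ᶜ : Set (Fin n)) from hij))
  ext W
  constructor
  · intro hW
    obtain ⟨i, hi⟩ := key W hW.1
    exact ⟨i, subset_antisymm (hW.2 (hZ i).1 hi) hi⟩
  · rintro ⟨i, rfl⟩
    exact hmax i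

end Groth.Agent.S7563
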