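import Groth.Statements.S7564

set_option autoImplicit false
universe u
open PtTop

namespace Groth.Agent.S7564

/-- For a continuous surjection f : X → Y, if X has finitely many irreducible components, say n of them,
then Y has at most n irreducible components. -/
theorem result {X Y : Type u} [TopologicalSpace X] [TopologicalSpace Y]
    (f : X → Y) (hf : Continuous f) (hs : Function.Surjective f) (hfin : (irreducibleComponents X).Finite) :
    (irreducibleComponents Y).Finite ∧ (irreducibleComponents Y).ncard ≤ (irreducibleComponents X).ncard := by
  have hsub : irreducibleComponents Y ⊆ (fun Z : Set X => closure (f '' Z)) '' irreducibleComponents X := by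
    intro W hW
    have h1 : W ⊆ ⋃₀ ((fun Z : Set X => closure (f '' Z)) '' irreducibleComponents X) := by
      intro w _
      obtain ⟨x, rfl⟩ := hs w
      exact ⟨_, ⟨irreducibleComponent x, irreducibleComponent_mem_irreducibleComponents x, rfl⟩,
        subset_closure ⟨x, mem_irreducibleComponent, rfl⟩⟩
    obtain ⟨S, hS, hWS⟩ := (isIrreducible_iff_sUnion_isClosed.mp hW.1)
      (hfin.image (fun Z : Set X => closure (f '' Z))).toFinset
      (fun z hz => by
        obtain ⟨Z, -, rfl⟩ := (Set.Finite.mem_toFinset _).mp hz
        exact isClosed_closure)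
      (by simpa using h1)
    obtain ⟨Z, hZ, rfl⟩ := (Set.Finite.mem_toFinset _).mp hS
    exact ⟨Z, hZ, subset_antisymm (hW.2 (hZ.1.image f hf.continuousOn).closure hWS) hWS⟩
  refine ⟨(hfin.image _).subset hsub, ?_⟩
  exact (Set.ncard_le_ncard hsub (hfin.image _)).trans (Set.ncard_image_le hfin)

end Groth.Agent.S7564
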