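import Groth.Statements.S7565

set_option autoImplicit false
universe u
open PtTop

namespace Groth.Agent.S7565

open TopologicalSpace

/-- Let f : X → Y be a continuous open map of topological spaces and assume every point of X has a
Noetherian neighbourhood. Then every point of f(X) (with the induced topology) has a Noetherian
neighbourhood. The published statement also asserts that a continuous image of a Noetherian space is
Noetherian; this row states the part about open maps and locally Noetherian spaces. -/
theorem result {X Y : Type u} [TopologicalSpace X] [TopologicalSpace Y]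
    (f : X → Y) (hf : Continuous f) (hfo : IsOpenMap f)
    (hX : ∀ x : X, ∃ E ∈ nhds x, TopologicalSpace.NoetherianSpace E) :
    ∀ y : Set.range f, ∃ E : Set (Set.range f), E ∈ nhds y ∧ TopologicalSpace.NoetherianSpace E := by
  rintro ⟨_, x, rfl⟩
  obtain ⟨E, hE, hEN⟩ := hX x
  let g : X → Set.range f := fun x => ⟨f x, x, rfl⟩
  have hg : Continuous g := by fun_prop
  have hgo : IsOpenMap g := by
    intro V hV
    rw [isOpen_induced_iff]
    refine ⟨f '' V, hfo V hV, ?_⟩
    ext ⟨_, z, rfl⟩
    simp [g, Subtype.ext_iff]
  refine ⟨g '' E, hgo.image_mem_nhds hE, ?_⟩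
  let g' : E → g '' E := fun e => ⟨g e, e, e.2, rfl⟩
  have hg' : Continuous g' := by fun_prop
  have hg's : Function.Surjective g' := by
    rintro ⟨_, e, he, rfl⟩
    exact ⟨⟨e, he⟩, rfl⟩
  exact noetherianSpace_of_surjective g' hg' hg's

end Groth.Agent.S7565
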