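import Groth.Statements.S7566
import Mathlib.Topology.Connected.Clopen

set_option autoImplicit false
universe u
open PtTop

namespace Groth.Agent.S7566

/-- A quasi-compact set missing the intersection of all clopen neighbourhoods of `x` misses one of them. -/
lemma exists_clopen_disjoint {X : Type u} [TopologicalSpace X] (x : X) (K : Set X) (hK : IsCompact K)
    (h : K ∩ ⋂₀ {Z : Set X | IsClopen Z ∧ x ∈ Z} = ∅) :
    ∃ Z : Set X, IsClopen Z ∧ x ∈ Z ∧ K ∩ Z = ∅ := by
  classical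
  let ι := {Z : Set X // IsClopen Z ∧ x ∈ Z}
  haveI : Nonempty ι := ⟨⟨Set.univ, isClopen_univ, trivial⟩⟩
  obtain ⟨Z, hZ⟩ := hK.elim_directed_family_closed (fun Z : ι => Z.1) (fun Z => Z.2.1.isClosed)
    (by
      rw [← h, Set.sInter_eq_iInter]
      rfl)
    (by
      intro Z Z'
      exact ⟨⟨Z.1 ∩ Z'.1, Z.2.1.inter Z'.2.1, Z.2.2, Z'.2.2⟩, Set.inter_subset_left,
        Set.inter_subset_right⟩)
  exact ⟨Z.1, Z.2.1, Z.2.2, hZ⟩

/-- Let X be a quasi-compact topological space whose quasi-compact opens form a basis, any two of them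
meeting in a quasi-compact set. Then for every x ∈ X the connected component of x equals the
intersection of every clopen subset of X that contains x. -/
theorem result {X : Type u} [TopologicalSpace X]
    [CompactSpace X] [PrespectralSpace X] [QuasiSeparatedSpace X] (x : X) :
    connectedComponent x = ⋂₀ {Z : Set X | IsClopen Z ∧ x ∈ Z} := by
  apply subset_antisymm
  · intro y hy Z hZ
    exact hZ.1.connectedComponent_subset hZ.2 hy
  set S : Set X := ⋂₀ {Z : Set X | IsClopen Z ∧ x ∈ Z} with hS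
  have hxS : x ∈ S := fun Z hZ => hZ.2
  have hSc : IsClosed S := isClosed_sInter fun Z hZ => hZ.1.isClosed
  refine IsPreconnected.subset_connectedComponent ?_ hxS
  rw [isPreconnected_iff_subset_of_disjoint_closed]
  intro B' C' hB' hC' hcov hdisj
  -- replace by disjoint closed sets
  set B := S ∩ B' with hB
  set C := S ∩ C' with hC
  have hBc : IsClosed B := hSc.inter hB'
  have hCc : IsClosed C := hSc.inter hC'
  have hBC : B ∩ C = ∅ := by
    rw [hB, hC, Set.eq_empty_iff_forall_notMem]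
    rintro y ⟨⟨hy1, hy2⟩, -, hy3⟩
    have : y ∈ S ∩ (B' ∩ C') := ⟨hy1, hy2, hy3⟩
    rw [hdisj] at this
    exact this
  have hBCS : S ⊆ B ∪ C := by
    intro y hy
    rcases hcov hy with h | h
    · exact Or.inl ⟨hy, h⟩
    · exact Or.inr ⟨hy, h⟩
  obtain ⟨U, hUc, hUo, hBU, hUC⟩ := PrespectralSpace.exists_isCompact_and_isOpen_between
    hBc.isCompact hCc.isOpen_compl (by
      intro y hy hy'
      have : y ∈ B ∩ C := ⟨hy, hy'⟩
      rw [hBC] at this
      exact this)
  obtain ⟨V, hVc, hVo, hCV, hVB⟩ := PrespectralSpace.exists_isCompact_and_isOpen_between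
    hCc.isCompact hBc.isOpen_compl (by
      intro y hy hy'
      have : y ∈ B ∩ C := ⟨hy', hy⟩
      rw [hBC] at this
      exact this)
  have hUV : IsCompact (U ∩ V) := QuasiSeparatedSpace.inter_isCompact U V hUo hUc hVo hVc
  have hUVS : (U ∩ V) ∩ S = ∅ := by
    rw [Set.eq_empty_iff_forall_notMem]
    rintro y ⟨⟨hyU, hyV⟩, hyS⟩
    rcases hBCS hyS with h | h
    · exact hVB hyV h
    · exact hUC hyU h
  obtain ⟨Z₁, hZ₁, hxZ₁, hZ₁d⟩ := exists_clopen_disjoint x _ hUV hUVS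
  have hUVc : IsCompact (U ∪ V)ᶜ := (hUo.union hVo).isClosed_compl.isCompact
  obtain ⟨Z₂, hZ₂, hxZ₂, hZ₂d⟩ := exists_clopen_disjoint x _ hUVc (by
    rw [Set.eq_empty_iff_forall_notMem]
    rintro y ⟨hy, hyS⟩
    apply hy
    rcases hBCS hyS with h | h
    · exact Or.inl (hBU h)
    · exact Or.inr (hCV h))
  set Z := Z₁ ∩ Z₂ with hZ
  have hZc : IsClopen Z := hZ₁.inter hZ₂
  have hZUV : Z ⊆ U ∪ V := by
    intro y hy
    by_contra h
    have : y ∈ (U ∪ V)ᶜ ∩ Z₂ := ⟨h, hy.2⟩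
    rw [hZ₂d] at this
    exact this
  have hZd : ∀ y ∈ Z, y ∈ U → y ∈ V → False := by
    intro y hy hU hV
    have : y ∈ (U ∩ V) ∩ Z₁ := ⟨⟨hU, hV⟩, hy.1⟩
    rw [hZ₁d] at this
    exact this
  have hZU : IsClopen (Z ∩ U) := by
    refine ⟨?_, hZc.isOpen.inter hUo⟩
    have : Z ∩ U = Z ∩ Vᶜ := by
      ext y
      constructor
      · rintro ⟨h1, h2⟩; exact ⟨h1, fun h3 => hZd y h1 h2 h3⟩
      · rintro ⟨h1, h2⟩; exact ⟨h1, (hZUV h1).resolve_right h2⟩
    rw [this]
    exact hZc.isClosed.inter hVo.isClosed_compl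
  have hZV : IsClopen (Z ∩ V) := by
    refine ⟨?_, hZc.isOpen.inter hVo⟩
    have : Z ∩ V = Z ∩ Uᶜ := by
      ext y
      constructor
      · rintro ⟨h1, h2⟩; exact ⟨h1, fun h3 => hZd y h1 h3 h2⟩
      · rintro ⟨h1, h2⟩; exact ⟨h1, (hZUV h1).resolve_left h2⟩
    rw [this]
    exact hZc.isClosed.inter hUo.isClosed_compl
  have hxZ : x ∈ Z := ⟨hxZ₁, hxZ₂⟩
  rcases hZUV hxZ with hxU | hxV
  · left
    intro y hy
    have hyU : y ∈ U := (hy (Z ∩ U) ⟨hZU, hxZ, hxU⟩).2
    rcases hBCS hy with h | h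
    · exact h.2
    · exact absurd h (hUC hyU)
  · right
    intro y hy
    have hyV : y ∈ V := (hy (Z ∩ V) ⟨hZV, hxZ, hxV⟩).2
    rcases hBCS hy with h | h
    · exact absurd h (hVB hyV)
    · exact h.2

end Groth.Agent.S7566
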