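import Groth.Statements.S7567
import Groth.Agent.S7566

set_option autoImplicit false
universe u
open PtTop

namespace Groth.Agent.S7567

/-- Let X be a quasi-compact topological space whose quasi-compact opens form a basis, any two of them
meeting in a quasi-compact set. For a subset T ⊆ X these two conditions are equivalent: (a) T can be
written as an intersection of clopen subsets of X; (b) T is closed and is a union of connected
components of X. -/
theorem result {X : Type u} [TopologicalSpace X]
    [CompactSpace X] [PrespectralSpace X] [QuasiSeparatedSpace X] (T : Set X) :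
    (∃ S : Set (Set X), (∀ Z ∈ S, IsClopen Z) ∧ T = ⋂₀ S) ↔
      (IsClosed T ∧ ∀ x ∈ T, connectedComponent x ⊆ T) := by
  constructor
  · rintro ⟨S, hS, rfl⟩
    refine ⟨isClosed_sInter fun Z hZ => (hS Z hZ).isClosed, ?_⟩
    intro x hx y hy Z hZ
    exact (hS Z hZ).connectedComponent_subset (hx Z hZ) hy
  · rintro ⟨hT, hcc⟩
    refine ⟨{Z | IsClopen Z ∧ T ⊆ Z}, fun Z hZ => hZ.1, ?_⟩
    apply subset_antisymm
    · intro y hy Z hZ
      exact hZ.2 hy
    · intro x hx
      by_contra hxT
      obtain ⟨Z, hZ, hxZ, hd⟩ := Groth.Agent.S7566.exists_clopen_disjoint x T hT.isCompact (by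
        rw [← Groth.Agent.S7566.result x, Set.eq_empty_iff_forall_notMem]
        rintro y ⟨hyT, hyx⟩
        apply hxT
        refine hcc y hyT ?_
        rw [← connectedComponent_eq hyx]
        exact mem_connectedComponent)
      have : x ∈ Zᶜ := hx Zᶜ ⟨hZ.compl, by
        intro y hy hy'
        have : y ∈ T ∩ Z := ⟨hy, hy'⟩
        rw [hd] at this
        exact this⟩
      exact this hxZ

end Groth.Agent.S7567
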