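import Groth.Statements.S7568
import Mathlib.Topology.ShrinkingLemma
import Mathlib.Topology.Separation.Regular

set_option autoImplicit false
universe u
open PtTop

namespace Groth.Agent.S7568

/-- Let X be a Hausdorff quasi-compact space, X = ⋃ U_i an open covering, p ≥ 0 an integer, and for
every (p+1)-tuple (i_0, …, i_p) an open covering of U_{i_0} ∩ … ∩ U_{i_p} by opens W_{i_0…i_p,k}.
Then there are an open covering X = ⋃_{j ∈ J} V_j and a map α : J → I with closure(V_j) ⊆ U_{α(j)}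
such that each V_{j_0} ∩ … ∩ V_{j_p} is contained in W_{α(j_0)…α(j_p),k} for some k. The published
statement allows a covering of an empty intersection to have no members; this row requires every
covering W_{i_0…i_p} to have at least one member (possibly empty), without which the conclusion
fails. -/
theorem result {X : Type u} [TopologicalSpace X] [CompactSpace X] [T2Space X]
    {ι : Type u} (U : ι → Set X) (hU : ∀ i, IsOpen (U i)) (hcov : ⋃ i, U i = Set.univ) (p : ℕ)
    (W : (Fin (p + 1) → ι) → Set (Set X)) (hWo : ∀ t, ∀ w ∈ W t, IsOpen w)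
    (hWc : ∀ t, ⋃₀ W t = ⋂ l, U (t l)) (hWne : ∀ t, (W t).Nonempty) :
    ∃ (J : Type u) (V : J → Set X) (α : J → ι), (∀ j, IsOpen (V j)) ∧ (⋃ j, V j = Set.univ) ∧
      (∀ j, closure (V j) ⊆ U (α j)) ∧
      (∀ t : Fin (p + 1) → J, ∃ w ∈ W (α ∘ t), (⋂ l, V (t l)) ⊆ w) := by
  classical
  -- finite subcover
  obtain ⟨s, hs⟩ := isCompact_univ.elim_finite_subcover U hU hcov.ge
  have hs' : ⋃ i : s, U i = Set.univ := by
    rw [Set.eq_univ_iff_forall]
    intro x
    obtain ⟨i, hi, hx⟩ := Set.mem_iUnion₂.mp (hs (Set.mem_univ x))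
    exact Set.mem_iUnion.mpr ⟨⟨i, hi⟩, hx⟩
  obtain ⟨v, hv, hvo, hvc⟩ := exists_iUnion_eq_closure_subset (u := fun i : s => U i)
    (fun i => hU i) (fun x => Set.toFinite _) hs'
  -- closed sets
  let K : s → Set X := fun i => closure (v i)
  have hK : ∀ i, IsClosed (K i) := fun i => isClosed_closure
  have hex : ∀ x : X, ∃ i : s, x ∈ v i := fun x => Set.mem_iUnion.mp (hv ▸ Set.mem_univ x)
  choose β hβ using hex
  -- choice of members of the coverings
  have hw : ∀ (t : Fin (p + 1) → s) (x : X), ∃ w ∈ W (fun l => (t l : ι)), (∀ l, x ∈ K (t l)) → x ∈ w := by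
    intro t x
    by_cases hx : ∀ l, x ∈ K (t l)
    · have h1 : x ∈ ⋃₀ W (fun l => (t l : ι)) := by
        rw [hWc]
        exact Set.mem_iInter.mpr fun l => hvc _ (hx l)
      obtain ⟨w, hw, hxw⟩ := h1
      exact ⟨w, hw, fun _ => hxw⟩
    · obtain ⟨w, hw⟩ := hWne (fun l => (t l : ι))
      exact ⟨w, hw, fun h => absurd h hx⟩
  choose w hwW hwx using hw
  let V : X → Set X := fun x => v (β x) ∩ (⋂ t ∈ {t : Fin (p + 1) → s | ∀ l, x ∈ K (t l)}, w t x) ∩
    (⋂ i ∈ {i : s | x ∉ K i}, (K i)ᶜ)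
  have hVo : ∀ x, IsOpen (V x) := by
    intro x
    refine IsOpen.inter (IsOpen.inter (hvo _) ?_) ?_
    · exact (Set.toFinite _).isOpen_biInter fun t _ => hWo _ _ (hwW t x)
    · exact (Set.toFinite _).isOpen_biInter fun i _ => (hK i).isOpen_compl
  have hxV : ∀ x, x ∈ V x := by
    intro x
    refine ⟨⟨hβ x, ?_⟩, ?_⟩
    · exact Set.mem_iInter₂.mpr fun t ht => hwx t x ht
    · exact Set.mem_iInter₂.mpr fun i hi => hi
  refine ⟨X, V, fun x => β x, hVo, ?_, ?_, ?_⟩
  · exact Set.eq_univ_iff_forall.mpr fun x => Set.mem_iUnion.mpr ⟨x, hxV x⟩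
  · intro x
    exact (closure_mono (Set.inter_subset_left.trans Set.inter_subset_left)).trans (hvc _)
  · intro t
    refine ⟨w (fun l => β (t l)) (t 0), hwW _ _, ?_⟩
    intro y hy
    rw [Set.mem_iInter] at hy
    have h1 : ∀ l m, t l ∈ K (β (t m)) := by
      intro l m
      by_contra h
      have h2 : y ∉ K (β (t m)) := Set.mem_iInter₂.mp (hy l).2 (β (t m)) h
      exact h2 (subset_closure (hy m).1.1)
    exact Set.mem_iInter₂.mp (hy 0).1.2 (fun l => β (t l)) (fun l => h1 0 l)

end Groth.Agent.S7568
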