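import Groth.Statements.S7569
import Groth.Agent.PtTop.K417.RelHaus

set_option autoImplicit false
universe u
open PtTop

namespace Groth.Agent.S7569

open K417.RelHaus

/-- Let X be a Hausdorff, locally quasi-compact space and Z ⊆ X a quasi-compact subset. Let p ≥ 0, let
U_i ⊆ X be opens with Z ⊆ ⋃ U_i, and for every (p+1)-tuple (i_0, …, i_p) let W_{i_0…i_p} ⊆ U_{i_0} ∩
… ∩ U_{i_p} be an open with W_{i_0…i_p} ∩ Z = U_{i_0} ∩ … ∩ U_{i_p} ∩ Z. Then there are opens V_i ⊆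
X with Z ⊆ ⋃ V_i, closure(V_i) ⊆ U_i for all i, and V_{i_0} ∩ … ∩ V_{i_p} ⊆ W_{i_0…i_p} for all
(p+1)-tuples. -/
theorem result {X : Type u} [TopologicalSpace X]
    [T2Space X] [LocallyCompactSpace X] (Z : Set X) (hZ : IsCompact Z)
    {ι : Type u} (U : ι → Set X) (hU : ∀ i, IsOpen (U i)) (hcov : Z ⊆ ⋃ i, U i) (p : ℕ)
    (W : (Fin (p + 1) → ι) → Set X) (hWo : ∀ t, IsOpen (W t)) (hWU : ∀ t, W t ⊆ ⋂ l, U (t l))
    (hWZ : ∀ t, W t ∩ Z = (⋂ l, U (t l)) ∩ Z) :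
    ∃ V : ι → Set X, (∀ i, IsOpen (V i)) ∧ (Z ⊆ ⋃ i, V i) ∧ (∀ i, closure (V i) ⊆ U i) ∧
      (∀ t : Fin (p + 1) → ι, (⋂ l, V (t l)) ⊆ W t) := by
  classical
  have hR : RelHausdorff Z := by
    intro z _ z' _ h
    obtain ⟨A, B, hA, hB, h1, h2, h3⟩ := t2_separation h
    exact ⟨A, B, hA, hB, h1, h2, h3⟩
  obtain ⟨s, hs⟩ := hZ.elim_finite_subcover U hU hcov
  obtain ⟨K, hK, hKU, hK'⟩ := hZ.finite_compact_cover s U (fun i _ => hU i) hs
  have hKZ' : ∀ i, IsCompact (K i ∩ Z) := fun i => (hK i).inter hZ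
  obtain ⟨V, hVo, hKV, hVW⟩ := hR.core s (fun i => K i ∩ Z) hKZ' (fun i => Set.inter_subset_right)
    p W hWo (fun t x hx => by
      rw [Set.mem_iInter] at hx
      have : x ∈ (⋂ l, U (t l)) ∩ Z := ⟨Set.mem_iInter.mpr fun l => hKU _ (hx l).1, (hx 0).2⟩
      rw [← hWZ t] at this
      exact this.1)
  have hsep : ∀ i, ∃ A : Set X, IsOpen A ∧ K i ⊆ A ∧ closure A ⊆ U i := fun i => by
    obtain ⟨A, hA, hKA, hAU, -⟩ := exists_open_between_and_isCompact_closure (hK i) (hU i) (hKU i)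
    exact ⟨A, hA, hKA, hAU⟩
  choose A hA hKA hAU using hsep
  refine ⟨fun i => if i ∈ s then V i ∩ A i else ∅, ?_, ?_, ?_, ?_⟩
  · intro i
    dsimp only
    split_ifs
    · exact (hVo i).inter (hA i)
    · exact isOpen_empty
  · intro z hz
    have hz' := hz
    rw [hK'] at hz'
    obtain ⟨i, hi, hzi⟩ := Set.mem_iUnion₂.mp hz'
    refine Set.mem_iUnion.mpr ⟨i, ?_⟩
    rw [if_pos hi]
    exact ⟨hKV i ⟨hzi, hz⟩, hKA i hzi⟩
  · intro i
    dsimp only
    split_ifs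
    · exact (closure_mono Set.inter_subset_right).trans (hAU i)
    · simp
  · intro t x hx
    rw [Set.mem_iInter] at hx
    have ht : ∀ l, t l ∈ s := by
      intro l
      by_contra h
      have := hx l
      dsimp only at this
      rw [if_neg h] at this
      exact this
    refine hVW t ht (Set.mem_iInter.mpr fun l => ?_)
    have := hx l
    dsimp only at this
    rw [if_pos (ht l)] at this
    exact this.1

end Groth.Agent.S7569
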