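import Groth.Statements.S7570
import Groth.Agent.PtTop.K417.RelHaus

set_option autoImplicit false
universe u
open PtTop

namespace Groth.Agent.S7570

open K417.RelHaus

/-- Let X be a topological space and Z ⊆ X a quasi-compact subset such that any two distinct points of Z
have disjoint open neighbourhoods in X. Let p ≥ 0, let U_i ⊆ X be opens with Z ⊆ ⋃ U_i, and for
every (p+1)-tuple let W_{i_0…i_p} ⊆ U_{i_0} ∩ … ∩ U_{i_p} be an open with W_{i_0…i_p} ∩ Z = U_{i_0}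
∩ … ∩ U_{i_p} ∩ Z. Then there are opens V_i with (1) Z ⊆ ⋃ V_i, (2) V_i ⊆ U_i, (3) closure(V_i) ∩ Z
⊆ U_i, and (4) V_{i_0} ∩ … ∩ V_{i_p} ⊆ W_{i_0…i_p} for all (p+1)-tuples. -/
theorem result {X : Type u} [TopologicalSpace X]
    (Z : Set X) (hZ : IsCompact Z)
    (hZsep : ∀ z ∈ Z, ∀ z' ∈ Z, z ≠ z' → ∃ A B : Set X, IsOpen A ∧ IsOpen B ∧ z ∈ A ∧ z' ∈ B ∧ Disjoint A B)
    {ι : Type u} (U : ι → Set X) (hU : ∀ i, IsOpen (U i)) (hcov : Z ⊆ ⋃ i, U i) (p : ℕ)
    (W : (Fin (p + 1) → ι) → Set X) (hWo : ∀ t, IsOpen (W t)) (hWU : ∀ t, W t ⊆ ⋂ l, U (t l))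
    (hWZ : ∀ t, W t ∩ Z = (⋂ l, U (t l)) ∩ Z) :
    ∃ V : ι → Set X, (∀ i, IsOpen (V i)) ∧ (Z ⊆ ⋃ i, V i) ∧ (∀ i, V i ⊆ U i) ∧
      (∀ i, closure (V i) ∩ Z ⊆ U i) ∧ (∀ t : Fin (p + 1) → ι, (⋂ l, V (t l)) ⊆ W t) := by
  classical
  have hR : RelHausdorff Z := hZsep
  haveI := hR.t2Space
  haveI : CompactSpace Z := isCompact_iff_compactSpace.mp hZ
  obtain ⟨s, hs⟩ := hZ.elim_finite_subcover U hU hcov
  obtain ⟨K', hK'c, hK'U, hK'⟩ := (isCompact_univ (X := Z)).finite_compact_cover s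
    (fun i => Subtype.val ⁻¹' U i) (fun i _ => (hU i).preimage continuous_subtype_val)
    (fun z _ => by
      obtain ⟨i, hi, hz⟩ := Set.mem_iUnion₂.mp (hs z.2)
      exact Set.mem_iUnion₂.mpr ⟨i, hi, hz⟩)
  let K : ι → Set X := fun i => Subtype.val '' K' i
  have hK : ∀ i, IsCompact (K i) := fun i => (hK'c i).image continuous_subtype_val
  have hKZ : ∀ i, K i ⊆ Z := by
    rintro i _ ⟨z, -, rfl⟩; exact z.2
  have hKU : ∀ i, K i ⊆ U i := by
    rintro i _ ⟨z, hz, rfl⟩; exact hK'U i hz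
  have hcovK : Z ⊆ ⋃ i ∈ s, K i := by
    intro z hz
    obtain ⟨i, hi, hzi⟩ := Set.mem_iUnion₂.mp (hK' ▸ Set.mem_univ (⟨z, hz⟩ : Z))
    exact Set.mem_iUnion₂.mpr ⟨i, hi, ⟨z, hz⟩, hzi, rfl⟩
  obtain ⟨V, hVo, hKV, hVW⟩ := hR.core s K hK hKZ p W hWo (fun t x hx => by
    rw [Set.mem_iInter] at hx
    have : x ∈ (⋂ l, U (t l)) ∩ Z := ⟨Set.mem_iInter.mpr fun l => hKU _ (hx l), hKZ _ (hx 0)⟩
    rw [← hWZ t] at this
    exact this.1)
  have hsep : ∀ i, ∃ A B : Set X, IsOpen A ∧ IsOpen B ∧ K i ⊆ A ∧ Z \ U i ⊆ B ∧ Disjoint A B := fun i =>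
    hR.separate (hK i) (hZ.diff (hU i)) (hKZ i) Set.sdiff_subset (by
      rw [Set.disjoint_left]
      intro x hx hx'
      exact hx'.2 (hKU i hx))
  choose A B hA hB hKA hZB hAB using hsep
  refine ⟨fun i => if i ∈ s then V i ∩ (A i ∩ U i) else ∅, ?_, ?_, ?_, ?_, ?_⟩
  · intro i
    dsimp only
    split_ifs
    · exact (hVo i).inter ((hA i).inter (hU i))
    · exact isOpen_empty
  · intro z hz
    obtain ⟨i, hi, hzi⟩ := Set.mem_iUnion₂.mp (hcovK hz)
    refine Set.mem_iUnion.mpr ⟨i, ?_⟩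
    rw [if_pos hi]
    exact ⟨hKV i hzi, hKA i hzi, hKU i hzi⟩
  · intro i
    dsimp only
    split_ifs
    · exact Set.inter_subset_right.trans Set.inter_subset_right
    · exact Set.empty_subset _
  · intro i x hx
    by_cases hi : i ∈ s
    · simp only [if_pos hi] at hx
      by_contra hxU
      have h1 : x ∈ closure (A i) := closure_mono (Set.inter_subset_right.trans Set.inter_subset_left) hx.1
      have h2 : x ∈ B i := hZB i ⟨hx.2, hxU⟩
      exact Set.disjoint_left.mp ((hAB i).closure_left (hB i)) h1 h2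
    · simp [hi] at hx
  · intro t x hx
    rw [Set.mem_iInter] at hx
    have ht : ∀ l, t l ∈ s := by
      intro l
      by_contra h
      have := hx l
      dsimp only at this
      rw [if_neg h] at this
      exact this
    refine hVW t ht (Set.mem_iInter.mpr fun l => ?_)
    have := hx l
    dsimp only at this
    rw [if_pos (ht l)] at this
    exact this.1

end Groth.Agent.S7570
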