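import Groth.Statements.S7571
import Mathlib.Topology.Category.TopCat.Limits.Cofiltered

set_option autoImplicit false
universe u
open CategoryTheory CategoryTheory.Limits
open PtTop

namespace Groth.Agent.S7571

/-- Let j ↦ X_j be a diagram of topological spaces over a cofiltered category with limit X and
projections f_j. (1) Every open of X is a union of subsets of the form f_j⁻¹(U_j) with U_j ⊆ X_j
open. (2) Every quasi-compact open of X equals f_i⁻¹(U_i) for some i and some open U_i ⊆ X_i. -/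
theorem result {J : Type u} [SmallCategory J] [IsCofiltered J]
    (F : J ⥤ TopCat.{u}) (c : Cone F) (hc : IsLimit c) :
    (∀ W : Set c.pt, IsOpen W →
      ∃ S : Set (Σ j, Set (F.obj j)), (∀ s ∈ S, IsOpen s.2) ∧ W = ⋃ s ∈ S, c.π.app s.1 ⁻¹' s.2) ∧
    (∀ W : Set c.pt, IsOpen W → IsCompact W →
      ∃ (i : J) (Ui : Set (F.obj i)), IsOpen Ui ∧ W = c.π.app i ⁻¹' Ui) := by
  have hbasis := TopCat.isTopologicalBasis_cofiltered_limit F c hc (fun j => {U | IsOpen U})
    (fun j => TopologicalSpace.isTopologicalBasis_opens) (fun j => isOpen_univ)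
    (fun j U V hU hV => IsOpen.inter hU hV) (fun i j f V hV => IsOpen.preimage (F.map f).hom.continuous hV)
  have key : ∀ W : Set c.pt, IsOpen W → ∀ x ∈ W, ∃ (j : J) (U : Set (F.obj j)), IsOpen U ∧
      x ∈ c.π.app j ⁻¹' U ∧ c.π.app j ⁻¹' U ⊆ W := by
    intro W hW x hx
    obtain ⟨_, ⟨j, U, hU, rfl⟩, hxU, hUW⟩ := hbasis.exists_subset_of_mem_open hx hW
    exact ⟨j, U, hU, hxU, hUW⟩
  refine ⟨?_, ?_⟩
  · intro W hW
    refine ⟨{s | IsOpen s.2 ∧ c.π.app s.1 ⁻¹' s.2 ⊆ W}, fun s hs => hs.1, ?_⟩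
    ext x
    simp only [Set.mem_iUnion]
    constructor
    · intro hx
      obtain ⟨j, U, hU, hxU, hUW⟩ := key W hW x hx
      exact ⟨⟨j, U⟩, ⟨hU, hUW⟩, hxU⟩
    · rintro ⟨s, hs, hx⟩
      exact hs.2 hx
  · intro W hW hWc
    refine hWc.induction_on (p := fun S => ∃ (i : J) (Ui : Set (F.obj i)), IsOpen Ui ∧ S ⊆ c.π.app i ⁻¹' Ui ∧
      c.π.app i ⁻¹' Ui ⊆ W) ?_ ?_ ?_ ?_ |> fun ⟨i, Ui, h1, h2, h3⟩ => ⟨i, Ui, h1, subset_antisymm h2 h3⟩
    · obtain ⟨i⟩ := (IsCofiltered.nonempty : Nonempty J)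
      exact ⟨i, ∅, isOpen_empty, by simp, by simp⟩
    · rintro s t hst ⟨i, Ui, h1, h2, h3⟩
      exact ⟨i, Ui, h1, hst.trans h2, h3⟩
    · rintro s t ⟨i, Ui, h1, h2, h3⟩ ⟨j, Uj, h1', h2', h3'⟩
      have e1 : c.π.app (IsCofiltered.min i j) ⁻¹' (F.map (IsCofiltered.minToLeft i j) ⁻¹' Ui) =
          c.π.app i ⁻¹' Ui := by
        rw [← c.w (IsCofiltered.minToLeft i j)]
        rfl
      have e2 : c.π.app (IsCofiltered.min i j) ⁻¹' (F.map (IsCofiltered.minToRight i j) ⁻¹' Uj) =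
          c.π.app j ⁻¹' Uj := by
        rw [← c.w (IsCofiltered.minToRight i j)]
        rfl
      refine ⟨IsCofiltered.min i j, F.map (IsCofiltered.minToLeft i j) ⁻¹' Ui ∪
        F.map (IsCofiltered.minToRight i j) ⁻¹' Uj, ?_, ?_, ?_⟩
      · exact (h1.preimage (F.map _).hom.continuous).union (h1'.preimage (F.map _).hom.continuous)
      · rw [Set.preimage_union, e1, e2]
        exact Set.union_subset_union h2 h2'
      · rw [Set.preimage_union, e1, e2]
        exact Set.union_subset h3 h3'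
    · intro x hx
      obtain ⟨j, U, hU, hxU, hUW⟩ := key W hW x hx
      refine ⟨c.π.app j ⁻¹' U, mem_nhdsWithin_of_mem_nhds ((hU.preimage (c.π.app j).hom.continuous).mem_nhds hxU),
        j, U, hU, subset_rfl, hUW⟩

end Groth.Agent.S7571
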