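import Groth.Statements.S7573
import Groth.Agent.ShSp.K437.TypeStalk

set_option autoImplicit false
universe u
open CategoryTheory TopologicalSpace
open ShSp

namespace Groth.Agent.S7573

/-- Let i : Z → X be the inclusion of a closed subset (a closed embedding). Then i_* : Sh(Z) → Sh(X) on
sheaves of sets is fully faithful, and its essential image consists exactly of the sheaves G whose
stalk G_x is a one-point set for every x ∈ X not in Z. -/
theorem result {Z X : TopCat.{u}} (i : Z ⟶ X) (hi : Topology.IsClosedEmbedding i) :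
    (TopCat.Sheaf.pushforward (Type u) i).Full ∧ (TopCat.Sheaf.pushforward (Type u) i).Faithful ∧
    ∀ G : X.Sheaf (Type u), (TopCat.Sheaf.pushforward (Type u) i).essImage G ↔
      ∀ x : X, x ∉ Set.range i → Nonempty (Unique (G.presheaf.stalk x)) := by
  have hc : ∀ F, IsIso ((TopCat.Sheaf.pullbackPushforwardAdjunction (Type u) i).counit.app F) :=
    fun F => K437.ShSets.isIso_counit_of_isInducing i hi.isInducing F
  have hc' : IsIso (TopCat.Sheaf.pullbackPushforwardAdjunction (Type u) i).counit :=
    NatIso.isIso_of_isIso_app _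
  refine ⟨(TopCat.Sheaf.pullbackPushforwardAdjunction (Type u) i).fullyFaithfulROfIsIsoCounit.full,
    (TopCat.Sheaf.pullbackPushforwardAdjunction (Type u) i).fullyFaithfulROfIsIsoCounit.faithful, fun G => ⟨?_, ?_⟩⟩
  · rintro ⟨F, ⟨e⟩⟩ x hx
    obtain ⟨h⟩ := K437.ShSets.nonempty_unique_stalk_push i F x
      (by rwa [hi.isClosed_range.closure_eq])
    exact ⟨(((K437.ShSets.stalkF x).mapIso e).toEquiv.symm).unique⟩
  · intro h
    have := K437.ShSets.isIso_unit_of_isClosedEmbedding i hi G h
    exact ⟨(TopCat.Sheaf.pullback (Type u) i).obj G,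
      ⟨(asIso ((TopCat.Sheaf.pullbackPushforwardAdjunction (Type u) i).unit.app G)).symm⟩⟩

end Groth.Agent.S7573
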