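import Groth.Statements.S7576
import Mathlib.CategoryTheory.Limits.Types.Pullbacks
import Mathlib.CategoryTheory.Limits.Shapes.Pullback.IsPullback.Basic
import Mathlib.CategoryTheory.Limits.Preserves.Finite

set_option autoImplicit false
universe u
open CategoryTheory CategoryTheory.Limits
open ShSp

namespace Groth.Agent.S7576

/-- Let (C, F) be a type of algebraic structure, i.e. C is a category with limits and filtered colimits
and F : C → Sets is a faithful functor commuting with both and reflecting isomorphisms. Let f : A →
B and g : C' → B be morphisms of C such that F(g) is injective and the image of F(f) is contained in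
the image of F(g). Then f = g ∘ t for some morphism t : A → C'. -/
theorem result {C : Type (u + 1)} [LargeCategory C]
    [HasLimits C] [HasFilteredColimitsOfSize.{u, u} C]
    (F : C ⥤ Type u) [F.Faithful] [F.ReflectsIsomorphisms] [PreservesLimits F] [PreservesFilteredColimits F]
    {A B C' : C} (f : A ⟶ B) (g : C' ⟶ B) (hg : Function.Injective (F.map g))
    (hfg : Set.range (F.map f) ⊆ Set.range (F.map g)) :
    ∃ t : A ⟶ C', t ≫ g = f := by
  have hp : IsIso (pullback.fst f g) := by
    have : IsIso (F.map (pullback.fst f g)) := by
      have hsq : IsPullback (F.map (pullback.fst f g)) (F.map (pullback.snd f g))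
          (F.map f) (F.map g) := IsPullback.map F (IsPullback.of_hasPullback f g)
      obtain ⟨hw, hinj, hsurj⟩ := (Types.isPullback_iff _ _ _ _).1 hsq
      rw [isIso_iff_bijective]
      constructor
      · intro x y hxy
        refine hinj x y ⟨hxy, hg ?_⟩
        have hx := ConcreteCategory.congr_hom hw x
        have hy := ConcreteCategory.congr_hom hw y
        simp only [ConcreteCategory.comp_apply] at hx hy
        rw [← hx, ← hy, hxy]
      · intro x
        obtain ⟨y, hy⟩ := hfg ⟨x, rfl⟩
        obtain ⟨z, hz, -⟩ := hsurj x y hy.symm
        exact ⟨z, hz⟩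
    exact isIso_of_reflects_iso _ F
  exact ⟨inv (pullback.fst f g) ≫ pullback.snd f g, by
    rw [Category.assoc, ← pullback.condition, IsIso.inv_hom_id_assoc]⟩

end Groth.Agent.S7576
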