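import Groth.Statements.S7577
import Groth.Agent.PtTop.K417.CatOrder

set_option autoImplicit false
universe u
open PtTop

namespace Groth.Agent.S7577

open K417.CatOrder TopologicalSpace

/-- The irreducible closed subset generated by a point. -/
def cl {X : Type u} [TopologicalSpace X] (x : X) : IrreducibleCloseds X :=
  ⟨closure {x}, isIrreducible_singleton.closure, isClosed_closure⟩

lemma exists_cl {Y : Type u} [TopologicalSpace Y] [QuasiSober Y] (Z : IrreducibleCloseds Y) :
    ∃ y : Y, cl y = Z := by
  obtain ⟨y, hy⟩ := QuasiSober.sober Z.isIrreducible Z.isClosed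
  exact ⟨y, IrreducibleCloseds.ext hy⟩

lemma cl_le_iff {Y : Type u} [TopologicalSpace Y] {y y' : Y} : cl y ≤ cl y' ↔ y' ⤳ y := by
  rw [specializes_iff_closure_subset]; exact Iff.rfl

lemma cl_injective {Y : Type u} [TopologicalSpace Y] [T0Space Y] {y y' : Y} (h : cl y = cl y') :
    y = y' :=
  ((cl_le_iff.mp h.ge).antisymm (cl_le_iff.mp h.le)).eq

lemma main {X : Type u} [TopologicalSpace X] [QuasiSober X] [T0Space X]
    (δ : X → ℤ) (hδ : PtTop.IsDimensionFunction δ) :
    ∃ D : IrreducibleCloseds X → ℤ, (∀ x, D (cl x) = δ x) ∧ StrictMono D ∧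
      ∀ a b : IrreducibleCloseds X, a ⋖ b → D b = D a + 1 := by
  have h : ∀ Z : IrreducibleCloseds X, ∃ y : X, cl y = Z := exists_cl
  choose g hg using h
  have hg' : ∀ x, g (cl x) = x := fun x => cl_injective (hg _)
  have hle : ∀ a b : IrreducibleCloseds X, a ≤ b ↔ g b ⤳ g a := by
    intro a b
    rw [← cl_le_iff, hg, hg]
  refine ⟨fun Z => δ (g Z), fun x => by dsimp only; rw [hg'], ?_, ?_⟩
  · intro a b hab
    refine hδ.1 (g b) (g a) ((hle a b).mp hab.le) ?_
    intro h
    apply hab.ne
    rw [← hg a, ← hg b, h]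
  · intro a b hab
    refine hδ.2 (g b) (g a) ⟨(hle a b).mp hab.le, ?_, ?_⟩
    · intro h
      apply hab.lt.ne
      rw [← hg a, ← hg b, h]
    · intro z hz1 hz2
      have h1 : a ≤ cl z := by rw [← hg a, cl_le_iff]; exact hz2
      have h2 : cl z ≤ b := by rw [← hg b, cl_le_iff]; exact hz1
      rcases h1.eq_or_lt with h | h
      · right; rw [h, hg']
      · rcases h2.eq_or_lt with h' | h'
        · left; rw [← h', hg']
        · exact absurd h' (hab.2 h)

/-- Let X be a sober topological space and δ : X → ℤ a dimension function. Then X is catenary, and for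
any specialization x ⤳ y the codimension of the closure of {y} in the closure of {x} equals δ(x) −
δ(y). -/
theorem result {X : Type u} [TopologicalSpace X] [QuasiSober X] [T0Space X]
    (δ : X → ℤ) (hδ : PtTop.IsDimensionFunction δ) :
    PtTop.IsCatenarySpace X ∧
    ∀ x y : X, x ⤳ y →
      PtTop.codim (⟨closure {y}, isIrreducible_singleton.closure, isClosed_closure⟩ : TopologicalSpace.IrreducibleCloseds X)
        (closure {x}) = ((δ x - δ y).toNat : ℕ∞) := by
  obtain ⟨D, hD, hD1, hD2⟩ := main δ hδ
  refine ⟨fun T T' h => (of_dim hD1 hD2 h).1, ?_⟩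
  intro x y hxy
  have := (of_dim hD1 hD2 (cl_le_iff.mpr hxy)).2
  rw [hD, hD] at this
  exact this

end Groth.Agent.S7577
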