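import Groth.Statements.S7578
import Groth.Agent.S7577

set_option autoImplicit false
universe u
open PtTop

namespace Groth.Agent.S7578

open TopologicalSpace

/-- Let X be a topological space which is locally Noetherian (every point has a Noetherian
neighbourhood) and sober, and let δ, δ' be two dimension functions on X. Then δ − δ' is locally
constant. -/
theorem result {X : Type u} [TopologicalSpace X] [QuasiSober X] [T0Space X]
    (hX : ∀ x : X, ∃ E ∈ nhds x, TopologicalSpace.NoetherianSpace E)
    (δ δ' : X → ℤ) (hδ : PtTop.IsDimensionFunction δ) (hδ' : PtTop.IsDimensionFunction δ') :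
    IsLocallyConstant (fun x => δ x - δ' x) := by
  -- specializations
  have hle : ∀ (e : X → ℤ) (_ : PtTop.IsDimensionFunction e) (x y : X), x ⤳ y → e y ≤ e x := by
    intro e he x y hxy
    by_cases h : x = y
    · rw [h]
    · exact (he.1 x y hxy h).le
  have hspec : ∀ x y : X, x ⤳ y → δ x - δ' x = δ y - δ' y := by
    intro x y hxy
    have h1 := (Groth.Agent.S7577.result δ hδ).2 x y hxy
    have h2 := (Groth.Agent.S7577.result δ' hδ').2 x y hxy
    rw [h1] at h2
    have h3 : (δ x - δ y).toNat = (δ' x - δ' y).toNat := by exact_mod_cast h2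
    have h4 := hle δ hδ x y hxy
    have h5 := hle δ' hδ' x y hxy
    omega
  rw [IsLocallyConstant.iff_exists_open]
  intro x
  obtain ⟨E, hE, hEN⟩ := hX x
  obtain ⟨U, hUE, hU, hxU⟩ := mem_nhds_iff.mp hE
  have hUN : NoetherianSpace U := by
    have : NoetherianSpace (Set.univ : Set E) := inferInstance
    exact (Topology.IsInducing.noetherianSpace (i := Set.inclusion hUE)
      (Topology.IsEmbedding.inclusion hUE).isInducing)
  have hfin : (irreducibleComponents U).Finite := NoetherianSpace.finite_irreducibleComponents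
  set S : Set (Set U) := {Z | Z ∈ irreducibleComponents U ∧ (⟨x, hxU⟩ : U) ∉ Z} with hS
  set C : Set U := ⋃ Z ∈ S, Z with hC
  have hCc : IsClosed C := by
    refine Set.Finite.isClosed_biUnion (hfin.subset fun Z hZ => hZ.1) ?_
    intro Z hZ
    exact isClosed_of_mem_irreducibleComponents Z hZ.1
  refine ⟨Subtype.val '' Cᶜ, hU.isOpenMap_subtype_val _ hCc.isOpen_compl, ⟨⟨x, hxU⟩, ?_, rfl⟩, ?_⟩
  · intro hx
    obtain ⟨Z, hZ, hxZ⟩ := Set.mem_iUnion₂.mp hx
    exact hZ.2 hxZ
  · rintro _ ⟨y, hy, rfl⟩
    have h1 : (⟨x, hxU⟩ : U) ∈ irreducibleComponent y := by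
      by_contra h
      exact hy (Set.mem_iUnion₂.mpr ⟨irreducibleComponent y,
        ⟨irreducibleComponent_mem_irreducibleComponents y, h⟩, mem_irreducibleComponent⟩)
    have h2 : IsIrreducible (closure (Subtype.val '' irreducibleComponent y : Set X)) :=
      (isIrreducible_irreducibleComponent.image _ continuous_subtype_val.continuousOn).closure
    obtain ⟨z, hz⟩ := QuasiSober.sober h2 isClosed_closure
    have h3 : z ⤳ x := hz.specializes (subset_closure ⟨_, h1, rfl⟩)
    have h4 : z ⤳ (y : X) := hz.specializes (subset_closure ⟨_, mem_irreducibleComponent, rfl⟩)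
    rw [← hspec z x h3, ← hspec z y h4]

end Groth.Agent.S7578
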