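import Groth.Statements.S7579
import Groth.Agent.SpecSp.K416.Basic
import Mathlib.Topology.Connected.Separation

set_option autoImplicit false
universe u
open SpecSp

namespace Groth.Agent.S7579

/-- Let X be a spectral space. Then X with its constructible topology is Hausdorff and totally
disconnected. The published statement also asserts that the constructible topology is quasi-compact;
this row states the Hausdorff and totally disconnected parts. -/
theorem result (X : Type u) [TopologicalSpace X] [SpectralSpace X] :
    T2Space (WithConstructibleTopology X) ∧ TotallyDisconnectedSpace (WithConstructibleTopology X) := by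
  have h : TotallySeparatedSpace (WithConstructibleTopology X) := by
    rw [totallySeparatedSpace_iff_exists_isClopen]
    intro x y hxy
    have hne : ¬ Inseparable (WithTopology.ofTopology x) (WithTopology.ofTopology y) :=
      fun h => hxy (WithTopology.ofTopology_injective _ h.eq)
    have key : ∃ W : Set X, IsOpen W ∧ IsCompact W ∧
        ¬ (WithTopology.ofTopology x ∈ W ↔ WithTopology.ofTopology y ∈ W) := by
      rw [inseparable_iff_forall_isOpen] at hne
      push Not at hne
      obtain ⟨U, hU, h⟩ := hne
      rcases h with ⟨h1, h2⟩ | ⟨h1, h2⟩
      · obtain ⟨W, hW⟩ := Proet.Spectral.exists_CONhd_subset hU h1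
        exact ⟨W.1, W.2.1.1, W.2.1.2, fun h => h2 (hW (h.1 W.2.2))⟩
      · obtain ⟨W, hW⟩ := Proet.Spectral.exists_CONhd_subset hU h2
        exact ⟨W.1, W.2.1.1, W.2.1.2, fun h => h1 (hW (h.2 W.2.2))⟩
    obtain ⟨W, hW, hWc, h⟩ := key
    have hcl : IsClopen (WithTopology.ofTopology ⁻¹' W : Set (WithConstructibleTopology X)) := by
      constructor
      · rw [WithConstructibleTopology.isClosed_iff]
        exact Proet.Spectral.isProCons_compactOpen hWc hW
      · rw [WithConstructibleTopology.isOpen_iff]
        exact IsCompact.isOpen_constructibleTopology_of_isOpen hWc hW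
    by_cases hx : WithTopology.ofTopology x ∈ W
    · exact ⟨_, hcl, hx, fun hy => h (iff_of_true hx hy)⟩
    · refine ⟨_, hcl.compl, hx, fun hy => h (iff_of_false hx hy)⟩
  exact ⟨inferInstance, inferInstance⟩

end Groth.Agent.S7579
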