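import Groth.Statements.S7584
import Groth.Agent.S7566

set_option autoImplicit false
universe u
open PtTop

namespace Groth.Agent.S7584

/-- Let X be a quasi-compact topological space in which each connected component equals the intersection
of all clopen sets that contain it. Then π₀(X), the set of connected components with the quotient
topology, is Hausdorff. The published statement concludes that π₀(X) is profinite; this row records
the Hausdorff property, quasi-compactness and total disconnectedness of the quotient being
automatic. -/
theorem result (X : Type u) [TopologicalSpace X] [CompactSpace X]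
    (h : ∀ x : X, connectedComponent x = ⋂₀ {Z : Set X | IsClopen Z ∧ x ∈ Z}) :
    T2Space (ConnectedComponents X) := by
  have hpre : ∀ Z : Set X, IsClopen Z →
      (ConnectedComponents.mk : X → ConnectedComponents X) ⁻¹' (ConnectedComponents.mk '' Z) = Z := by
    intro Z hZ
    rw [connectedComponents_preimage_image, hZ.biUnion_connectedComponent_eq]
  have himg : ∀ Z : Set X, IsClopen Z →
      IsOpen ((ConnectedComponents.mk : X → ConnectedComponents X) '' Z) := by
    intro Z hZ
    rw [← ConnectedComponents.isQuotientMap_coe.isOpen_preimage, hpre Z hZ]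
    exact hZ.isOpen
  constructor
  intro a b hab
  obtain ⟨x, rfl⟩ := ConnectedComponents.surjective_coe a
  obtain ⟨y, rfl⟩ := ConnectedComponents.surjective_coe b
  have hne : ∀ z, z ∈ connectedComponent x → z ∈ connectedComponent y → False := by
    intro z hz hz'
    apply hab
    rw [ConnectedComponents.coe_eq_coe', ← connectedComponent_eq_iff_mem, connectedComponent_eq hz,
      connectedComponent_eq hz']
  obtain ⟨Z, hZ, hxZ, hd⟩ := Groth.Agent.S7566.exists_clopen_disjoint x (connectedComponent y)
    isClosed_connectedComponent.isCompact (by
      rw [← h x, Set.eq_empty_iff_forall_notMem]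
      rintro z ⟨hz, hz'⟩
      exact hne z hz' hz)
  have hyZ : y ∈ Zᶜ := fun hy => by
    have : y ∈ connectedComponent y ∩ Z := ⟨mem_connectedComponent, hy⟩
    rw [hd] at this
    exact this
  refine ⟨_, _, himg Z hZ, himg Zᶜ hZ.compl, ⟨x, hxZ, rfl⟩, ⟨y, hyZ, rfl⟩, ?_⟩
  rw [Set.disjoint_left]
  rintro _ ⟨z, hz, rfl⟩ hz'
  have : z ∈ (ConnectedComponents.mk : X → ConnectedComponents X) ⁻¹' (ConnectedComponents.mk '' Zᶜ) := hz'
  rw [hpre _ hZ.compl] at this
  exact this hz

end Groth.Agent.S7584
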