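import Groth.Statements.S7589
import Groth.Agent.Variety.K418.DimBC
import Groth.Agent.VarietyB.DimSch
import Groth.Agent.Flat2D.DimFlat

set_option autoImplicit false
universe u
open CategoryTheory CategoryTheory.Limits AlgebraicGeometry
attribute [local instance] Curv2.stalkAlgebra Curv2.resAlgebra
open Variety

namespace Groth.Agent.S7589

/-- Let X be locally of finite type over a field k, K an extension field of k, y a point of the base
change X_K and x its image in X; write a = trdeg_k κ(x) and a' = trdeg_K κ(y). Then dim O_{X_K, y} +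
a' = dim O_{X, x} + a, and the fibre ring O_{X_K, y} / m_x O_{X_K, y} has Krull dimension a - a' (in
particular a' ≤ a); dimensions in WithBot ℕ∞. -/
theorem result (k : Type u) [Field k] (X : Scheme.{u}) [X.Over (Spec (CommRingCat.of k))] [LocallyOfFiniteType (X ↘ (Spec (CommRingCat.of k)))]
    (K : Type u) [Field K] [Algebra k K] (y : ↥(Curv2.bc k X K)) (a a' : ℕ)
    (ha : Algebra.trdeg k (X.residueField (Curv2.bcFst k X K y)) = a)
    (ha' : letI : (Curv2.bc k X K).Over (Spec (CommRingCat.of K)) := ⟨Curv2.bcSnd k X K⟩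
      Algebra.trdeg K ((Curv2.bc k X K).residueField y) = a') :
    ringKrullDim ((Curv2.bc k X K).presheaf.stalk y) + (a' : WithBot ℕ∞) =
        ringKrullDim (X.presheaf.stalk (Curv2.bcFst k X K y)) + (a : WithBot ℕ∞) ∧
      ringKrullDim (↥((Curv2.bc k X K).presheaf.stalk y) ⧸ Ideal.map ((Curv2.bcFst k X K).stalkMap y).hom (IsLocalRing.maximalIdeal ↥(X.presheaf.stalk (Curv2.bcFst k X K y)))) + (a' : WithBot ℕ∞) =
        (a : WithBot ℕ∞) := by
  have H : IsPullback (Curv2.bcFst k X K) (Curv2.bcSnd k X K) (X ↘ Spec (CommRingCat.of k))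
      (Spec.map (CommRingCat.ofHom (algebraMap k K))) := IsPullback.of_hasPullback _ _
  let _ : (Curv2.bc k X K).Over (Spec (CommRingCat.of K)) := ⟨Curv2.bcSnd k X K⟩
  have hft : LocallyOfFiniteType (Curv2.bc k X K ↘ Spec (CommRingCat.of K)) :=
    MorphismProperty.of_isPullback H inferInstance
  have e1 := VarietyB.DimSch.localDim_eq k (X := X) (Curv2.bcFst k X K y)
  have e2 := VarietyB.DimSch.localDim_eq K (X := Curv2.bc k X K) y
  rw [VarietyB.DimSch.trd_eq_of_trdeg_eq k ha] at e1
  rw [VarietyB.DimSch.trd_eq_of_trdeg_eq K ha'] at e2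
  have e3 := K418.DimBC.localDim_of_isPullback H y
  have e4 : ringKrullDim ((Curv2.bc k X K).presheaf.stalk y) + (a' : WithBot ℕ∞) =
      ringKrullDim (X.presheaf.stalk (Curv2.bcFst k X K y)) + (a : WithBot ℕ∞) := by
    rw [← e1, ← e2, e3]
  refine ⟨e4, ?_⟩
  have hX : IsLocallyNoetherian X :=
    LocallyOfFiniteType.isLocallyNoetherian (X ↘ (Spec (CommRingCat.of k)))
  have hXK : IsLocallyNoetherian (Curv2.bc k X K) :=
    LocallyOfFiniteType.isLocallyNoetherian (Curv2.bc k X K ↘ (Spec (CommRingCat.of K)))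
  have hfl : Flat (Curv2.bcFst k X K) := by
    have : Flat (Spec.map (CommRingCat.ofHom (algebraMap k K))) := by
      rw [Flat.SpecMap_iff]
      exact RingHom.Flat.of_isField (Field.toIsField k) _
    exact MorphismProperty.of_isPullback H.flip this
  have e5 : ringKrullDim ((Curv2.bc k X K).presheaf.stalk y) =
      ringKrullDim (X.presheaf.stalk (Curv2.bcFst k X K y)) +
        ringKrullDim (↥((Curv2.bc k X K).presheaf.stalk y) ⧸
          Ideal.map ((Curv2.bcFst k X K).stalkMap y).hom
            (IsLocalRing.maximalIdeal ↥(X.presheaf.stalk (Curv2.bcFst k X K y)))) := by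
    let _ : Algebra (X.presheaf.stalk (Curv2.bcFst k X K y))
      ((Curv2.bc k X K).presheaf.stalk y) := ((Curv2.bcFst k X K).stalkMap y).hom.toAlgebra
    have h1 : Module.Flat (X.presheaf.stalk (Curv2.bcFst k X K y))
      ((Curv2.bc k X K).presheaf.stalk y) := Flat.stalkMap (Curv2.bcFst k X K) y
    have h2 : IsLocalHom (algebraMap (X.presheaf.stalk (Curv2.bcFst k X K y))
      ((Curv2.bc k X K).presheaf.stalk y)) :=
      inferInstanceAs (IsLocalHom ((Curv2.bcFst k X K).stalkMap y).hom)
    exact Flat2D.DimFlat.ringKrullDim_eq_add_of_flat (X.presheaf.stalk (Curv2.bcFst k X K y))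
      ((Curv2.bc k X K).presheaf.stalk y)
  rw [e5, add_assoc] at e4
  obtain ⟨n, hn⟩ : ∃ n : ℕ, ringKrullDim (X.presheaf.stalk (Curv2.bcFst k X K y)) = n := by
    have h1 := ringKrullDim_ne_top (R := X.presheaf.stalk (Curv2.bcFst k X K y))
    have h2 := ringKrullDim_ne_bot (R := X.presheaf.stalk (Curv2.bcFst k X K y))
    obtain ⟨m, hm⟩ := WithBot.ne_bot_iff_exists.mp h2
    rw [← hm] at h1 ⊢
    obtain ⟨n, rfl⟩ := ENat.ne_top_iff_exists.mp (fun h : m = ⊤ => h1 (by rw [h]; rfl))
    exact ⟨n, rfl⟩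
  rw [hn] at e4
  exact ENat.WithBot.natCast_add_cancel.mp e4


end Groth.Agent.S7589
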