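import Groth.Statements.S7604
import Groth.Agent.Variety.K418.ProdStalk
import Groth.Agent.VarietyA.GeomRed
import Groth.Agent.Fdesc.GeomRed

set_option autoImplicit false
universe u
open CategoryTheory CategoryTheory.Limits AlgebraicGeometry
open Variety

namespace Groth.Agent.S7604

/-- Let X and Y be schemes over a field k with Y reduced, and let x be a point of X at which X is
geometrically reduced. Then each point of X ×_k Y mapping to x has a reduced local ring. -/
theorem result (k : Type u) [Field k] (X : Scheme.{u}) [X.Over (Spec (CommRingCat.of k))] (Y : Scheme.{u}) [Y.Over (Spec (CommRingCat.of k))] [IsReduced Y]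
    (x : ↥X) (hx : Curv2.IsGeomReducedAt k X x) (z : ↥(pullback (X ↘ (Spec (CommRingCat.of k))) (Y ↘ (Spec (CommRingCat.of k)))))
    (hz : pullback.fst (X ↘ (Spec (CommRingCat.of k))) (Y ↘ (Spec (CommRingCat.of k))) z = x) :
    _root_.IsReduced ↥((pullback (X ↘ (Spec (CommRingCat.of k))) (Y ↘ (Spec (CommRingCat.of k)))).presheaf.stalk z) := by
  have h1 := (Groth.Agent.VarietyA.GeomRed.isGeomReducedAt_iff k X x).1 hx
  let _ := Curv2.stalkAlgebra k X x
  let _ := Curv2.stalkAlgebra k Y (pullback.snd (X ↘ (Spec (CommRingCat.of k))) (Y ↘ (Spec (CommRingCat.of k))) z)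
  obtain ⟨q, hq, -, ⟨e⟩⟩ := K418.ProdStalk.exists_stalk_equiv (X ↘ (Spec (CommRingCat.of k)))
    (Y ↘ (Spec (CommRingCat.of k))) x
    (pullback.snd (X ↘ (Spec (CommRingCat.of k))) (Y ↘ (Spec (CommRingCat.of k))) z) rfl rfl z hz rfl
  have h2 := Groth.Agent.Fdesc.GeomRed.isReduced_tensor_of_isGeometricallyReduced (k := k)
    (X.presheaf.stalk x) (Y.presheaf.stalk
      (pullback.snd (X ↘ (Spec (CommRingCat.of k))) (Y ↘ (Spec (CommRingCat.of k))) z))
  have h3 : _root_.IsReduced (TensorProduct k (X.presheaf.stalk x) (Y.presheaf.stalk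
      (pullback.snd (X ↘ (Spec (CommRingCat.of k))) (Y ↘ (Spec (CommRingCat.of k))) z))) :=
    isReduced_of_injective (Algebra.TensorProduct.comm k _ _).toRingEquiv
      (Algebra.TensorProduct.comm k _ _).toRingEquiv.injective
  have h4 : _root_.IsReduced (Localization.AtPrime q) := inferInstance
  exact isReduced_of_injective e e.injective

end Groth.Agent.S7604
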