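import Groth.Statements.S7609
import Groth.Agent.Flat2D.CMBase
import Groth.Agent.VarietyB.ResMap

set_option autoImplicit false
universe u
open CategoryTheory CategoryTheory.Limits AlgebraicGeometry
open Variety

namespace Groth.Agent.S7609

/-- Let X be a scheme locally of finite type over a field k, k' any extension field of k and x' a point
of X_{k'} with image x in X. Then the local ring O_{X, x} is Cohen-Macaulay if and only if
O_{X_{k'}, x'} is Cohen-Macaulay. -/
theorem result (k : Type u) [Field k] (X : Scheme.{u}) [X.Over (Spec (CommRingCat.of k))] [LocallyOfFiniteType (X ↘ (Spec (CommRingCat.of k)))]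
    (k' : Type u) [Field k'] [Algebra k k'] (x' : ↥(Curv2.bc k X k')) :
    LocCoh.IsCohenMacaulayLocalRing ↥(X.presheaf.stalk (Curv2.bcFst k X k' x')) ↔
      LocCoh.IsCohenMacaulayLocalRing ↥((Curv2.bc k X k').presheaf.stalk x') := by
  have H : IsPullback (Curv2.bcFst k X k') (Curv2.bcSnd k X k') (X ↘ Spec (CommRingCat.of k))
      (Spec.map (CommRingCat.ofHom (algebraMap k k'))) := IsPullback.of_hasPullback _ _
  have h : (Flat2D.CMBase.resMap (X ↘ Spec (CommRingCat.of k))
      (Curv2.bcFst k X k' x')).hom.EssFiniteType := by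
    have h1 := VarietyB.ResMap.essFiniteType_resMap (k := k) X (Curv2.bcFst k X k' x')
    have h2 : Flat2D.CMBase.resMap (X ↘ Spec (CommRingCat.of k)) (Curv2.bcFst k X k' x') =
        CommRingCat.ofHom (Curv2.resMap k X (Curv2.bcFst k X k' x')) := by
      apply Spec.map_injective
      rw [Flat2D.CMBase.SpecMap_resMap, VarietyB.ResMap.specMap_resMap]
    rw [h2]
    exact h1
  have : LocallyOfFiniteType (Curv2.bcSnd k X k') :=
    MorphismProperty.of_isPullback H inferInstance
  have : IsLocallyNoetherian X :=
    LocallyOfFiniteType.isLocallyNoetherian (X ↘ Spec (CommRingCat.of k))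
  have : IsLocallyNoetherian (Curv2.bc k X k') :=
    LocallyOfFiniteType.isLocallyNoetherian (Curv2.bcSnd k X k')
  exact (Flat2D.CMBase.cm_stalk_iff_of_field (Field.toIsField k) (Field.toIsField k') H x'
    (Or.inr h)).symm


end Groth.Agent.S7609
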