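import Groth.Statements.S7613
import Groth.Agent.S1540
import Groth.Agent.S2821
import Groth.Agent.VarietyA.RegSmoothSch
import Groth.Agent.Models.H125.GeomRedPt
import Mathlib.AlgebraicGeometry.FunctionField

set_option autoImplicit false
universe u
open CategoryTheory CategoryTheory.Limits AlgebraicGeometry
open Variety

namespace Groth.Agent.S7613

/-- In the fraction field of an integrally closed local `k`-algebra with residue field `k` the elements
integral over `k` are the constants. -/
theorem mem_range_of_isIntegral {k R K : Type*} [Field k] [CommRing R] [IsDomain R] [IsLocalRing R]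
    [IsIntegrallyClosed R] [Field K] [Algebra R K] [IsFractionRing R K] [Algebra k R] [Algebra k K]
    [IsScalarTower k R K]
    (hx : Function.Surjective ((IsLocalRing.residue R).comp (algebraMap k R))) (a : K)
    (ha : IsIntegral k a) : ∃ c : k, algebraMap k K c = a := by
  obtain ⟨b, rfl⟩ := (IsIntegrallyClosed.isIntegral_iff (R := R)).mp (ha.tower_top (A := R))
  have hinj : Function.Injective (algebraMap R K) := IsFractionRing.injective R K
  have hb : IsIntegral k b :=
    (isIntegral_algHom_iff (IsScalarTower.toAlgHom k R K) hinj).mp ha
  obtain ⟨c, hc⟩ := hx (IsLocalRing.residue R b)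
  have h1 : Polynomial.aeval c (minpoly k b) = 0 := by
    have h2 : (IsLocalRing.residue R).comp (algebraMap k R) (Polynomial.eval c (minpoly k b)) = 0 := by
      rw [← Polynomial.eval₂_id, Polynomial.hom_eval₂, RingHom.comp_id, hc, ← Polynomial.hom_eval₂]
      have := minpoly.aeval k b
      rw [Polynomial.aeval_def] at this
      rw [this, map_zero]
    rw [Polynomial.coe_aeval_eq_eval]
    exact (map_eq_zero _).mp h2
  have h3 : (minpoly k b).degree = 1 :=
    Polynomial.degree_eq_one_of_irreducible_of_root (minpoly.irreducible hb) (x := c)
      (by rwa [Polynomial.coe_aeval_eq_eval] at h1)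
  obtain ⟨d, hd⟩ := minpoly.mem_range_of_degree_eq_one k b h3
  exact ⟨d, by rw [IsScalarTower.algebraMap_apply k R K, hd]⟩


/-- Let X be a variety over a field k (integral, separated and of finite type over k) with a k-rational
point x (k → κ(x) onto) such that X → Spec k is smooth at x. Then every base change of X to an
extension field of k is an integral scheme (X is geometrically integral over k). -/
theorem result (k : Type u) [Field k] (X : Scheme.{u}) [X.Over (Spec (CommRingCat.of k))] [IsIntegral X] [IsSeparated (X ↘ (Spec (CommRingCat.of k)))]
    [LocallyOfFiniteType (X ↘ (Spec (CommRingCat.of k)))] [QuasiCompact (X ↘ (Spec (CommRingCat.of k)))]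
    (x : ↥X) (hx : Function.Surjective (Curv2.resMap k X x)) (hsm : x ∈ (X ↘ (Spec (CommRingCat.of k))).smoothLocus) :
    GeometricallyIntegral (X ↘ (Spec (CommRingCat.of k))) := by
  have hred := Groth.Agent.Models.H125.GeomRedPt.geometricallyReduced_of_mem_smoothLocus
    (X ↘ (Spec (CommRingCat.of k))) x hsm
  have hirr : GeometricallyIrreducible (X ↘ (Spec (CommRingCat.of k))) := by
    rw [Groth.Agent.S1540.result k X]
    intro a ha
    have hreg : IsRegularLocalRing (X.presheaf.stalk x) :=
      Groth.Agent.VarietyA.RegSmoothSch.isRegularLocalRing_stalk_of_mem_smoothLocus _ x hsm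
    have hufd := (Groth.Agent.S2821.result (X.presheaf.stalk x)).2
    have hic : IsIntegrallyClosed (X.presheaf.stalk x) := inferInstance
    -- the residue field at the generic point is the function field
    obtain ⟨a, rfl⟩ := IsLocalRing.residue_surjective (R := X.presheaf.stalk (genericPoint X)) a
    have hresinj : Function.Injective (X.residue (genericPoint X)).hom :=
      RingHom.injective (R := X.functionField) _
    let alg1 : Algebra k X.functionField := Curv2.stalkAlgebra k X (genericPoint X)
    let alg2 : Algebra k (X.presheaf.stalk x) := Curv2.stalkAlgebra k X x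
    let alg3 : Algebra k (X.residueField x) := Curv2.resAlgebra k X x
    let alg4 : Algebra k (X.residueField (genericPoint X)) := Curv2.resAlgebra k X (genericPoint X)
    have : Nonempty (⊤ : X.Opens) := ⟨⟨x, trivial⟩⟩
    have htow : IsScalarTower k (X.presheaf.stalk x) X.functionField :=
      IsScalarTower.of_algebraMap_eq fun r => (X.algebraMap_germ_eq_germToFunctionField (U := ⊤)
        (x := x) trivial _).symm
    let φ : X.functionField →ₐ[k] X.residueField (genericPoint X) :=
      { (X.residue (genericPoint X)).hom with
        commutes' := fun r => rfl }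
    have hint : IsIntegral k a := by
      have h1 : IsIntegral k (φ a) := ha.isIntegral
      exact (isIntegral_algHom_iff φ hresinj).mp h1
    obtain ⟨c, hc⟩ := mem_range_of_isIntegral (k := k) (R := X.presheaf.stalk x) (K := X.functionField)
      hx a hint
    exact ⟨c, congrArg φ hc⟩
  exact GeometricallyIntegral.of_geometricallyReduced_of_geometricallyIrreducible _

end Groth.Agent.S7613
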