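import Groth.Statements.S7614
import Groth.Agent.Desc.QAffDesc
import Mathlib.AlgebraicGeometry.QuasiAffine

set_option autoImplicit false
universe u
open CategoryTheory CategoryTheory.Limits AlgebraicGeometry
open Variety

namespace Groth.Agent.S7614

/-- Let X be a scheme over a field k and K an extension field of k. If X_K is quasi-affine, then X is
quasi-affine. -/
theorem result (k : Type u) [Field k] (X : Scheme.{u}) [X.Over (Spec (CommRingCat.of k))] (K : Type u) [Field K] [Algebra k K]
    [(Curv2.bc k X K).IsQuasiAffine] : X.IsQuasiAffine := by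
  have h1 : Mor2.IsQuasiAffine (Curv2.bcSnd k X K) := by
    have hq : QuasiCompact (Curv2.bcSnd k X K) := by
      rw [quasiCompact_iff_compactSpace]
      infer_instance
    refine ⟨hq, fun V hV => ?_⟩
    have : CompactSpace ((Curv2.bcSnd k X K) ⁻¹ᵁ V : Scheme.{u}) :=
      isCompact_iff_compactSpace.1 ((Curv2.bcSnd k X K).isCompact_preimage hV.isCompact)
    exact Scheme.IsQuasiAffine.of_isImmersion ((Curv2.bcSnd k X K) ⁻¹ᵁ V).ι
  haveI := Groth.Agent.Desc.QAffDesc.isQuasiAffine_descendsAlong.{u}
  have hQ : (@Surjective ⊓ @Flat ⊓ @QuasiCompact : MorphismProperty Scheme.{u})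
      (Spec.map (CommRingCat.ofHom (algebraMap k K))) := by
    refine ⟨⟨?_, ?_⟩, ?_⟩
    · infer_instance
    · infer_instance
    · infer_instance
  have h2 : Mor2.IsQuasiAffine (X ↘ (Spec (CommRingCat.of k))) :=
    MorphismProperty.of_isPullback_of_descendsAlong
      (P := (fun _ _ f => Mor2.IsQuasiAffine f : MorphismProperty Scheme.{u}))
      (Q := (@Surjective ⊓ @Flat ⊓ @QuasiCompact : MorphismProperty Scheme.{u}))
      (IsPullback.of_hasPullback (X ↘ (Spec (CommRingCat.of k)))
        (Spec.map (CommRingCat.ofHom (algebraMap k K)))).flip hQ h1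
  have h3 := h2.2 ⊤ (isAffineOpen_top _)
  haveI : CompactSpace X := by
    have := h2.1
    rw [quasiCompact_iff_compactSpace] at this
    exact this
  haveI h4 : ((⊤ : X.Opens) : Scheme.{u}).IsQuasiAffine := h3
  exact Scheme.IsQuasiAffine.of_isImmersion X.topIso.inv

end Groth.Agent.S7614
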