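import Groth.Statements.S7617
import Groth.Agent.S1541
import Groth.Agent.S1562
import Groth.Agent.S1585
import Groth.Agent.S2451
import Groth.Agent.S2344
import Groth.Agent.Models.H125.GeomRedPt
import Groth.Agent.Sga7.H756.NormStalk
import Groth.Agent.UnramB.IdemGeom
import Groth.Agent.VarietyA.SmoothReg
import Groth.Agent.Variety.K419.StalkK

set_option autoImplicit false
universe u
open CategoryTheory CategoryTheory.Limits AlgebraicGeometry
open Variety

namespace Groth.Agent.S7617

/-- A locally quasi-finite morphism does not lower the dimension of local rings. -/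
theorem ringKrullDim_stalk_le_of_locallyQuasiFinite {T X : Scheme.{u}} (f : T ⟶ X) [LocallyQuasiFinite f]
    (t : T) : ringKrullDim (T.presheaf.stalk t) ≤ ringKrullDim (X.presheaf.stalk (f t)) := by
  rw [ringKrullDim_stalk_eq_coheight, ringKrullDim_stalk_eq_coheight]
  have hmono : StrictMono (fun t : T => f t) := by
    intro a b hab
    have h1 : b ⤳ a := hab.1
    refine ⟨h1.map f.continuous, fun h2 => hab.2 ?_⟩
    have h3 : f a ⤳ f b := h2
    have h4 : f a = f b := (h3.antisymm (h1.map f.continuous)).eq
    have h5 := f.isDiscrete_preimage_singleton (f a)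
    have hD : DiscreteTopology (f ⁻¹' {f a}) := h5.to_subtype
    have h6 : (⟨b, h4.symm⟩ : (f ⁻¹' {f a} : Set T)) ⤳ ⟨a, rfl⟩ :=
      Topology.IsInducing.subtypeVal.specializes_iff.1 h1
    have h7 : b = a := congrArg Subtype.val h6.eq
    rw [h7]
  exact_mod_cast Order.coheight_le_coheight_apply_of_strictMono (fun t : T => f t) hmono t


/-- Let X be an integral scheme locally of finite type over a field k, ν : X^ν → X its normalization,
and x a point of X with dim O_{X, x} = 1 such that for every point x' of X^ν over x the residue
field κ(x') is separable over k (Spec κ(x') → Spec k geometrically reduced). Then X is geometrically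
reduced at x, and at every point of X^ν over x the normalization is geometrically regular. (The
published statement covers every scheme locally of finite type over k with reduced local ring at x,
using the normalization of a possibly non-integral scheme; this row takes X integral.) -/
theorem result (k : Type u) [Field k] (X : Scheme.{u}) [X.Over (Spec (CommRingCat.of k))] [IsIntegral X] [LocallyOfFiniteType (X ↘ (Spec (CommRingCat.of k)))]
    [QuasiCompact (X.fromSpecStalk (genericPoint X))] [QuasiSeparated (X.fromSpecStalk (genericPoint X))]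
    (x : ↥X) (hdim : ringKrullDim ↥(X.presheaf.stalk x) = 1)
    (hsep : letI : (Curv2.normalization X).Over (Spec (CommRingCat.of k)) := ⟨Curv2.normalizationι X ≫ (X ↘ (Spec (CommRingCat.of k)))⟩
      ∀ x' : ↥(Curv2.normalization X), Curv2.normalizationι X x' = x →
        GeometricallyReduced (Spec.map (CommRingCat.ofHom (Curv2.resMap k (Curv2.normalization X) x')))) :
    Curv2.IsGeomReducedAt k X x ∧
      letI : (Curv2.normalization X).Over (Spec (CommRingCat.of k)) := ⟨Curv2.normalizationι X ≫ (X ↘ (Spec (CommRingCat.of k)))⟩
      ∀ x' : ↥(Curv2.normalization X), Curv2.normalizationι X x' = x → Curv2.IsGeomRegularAt k (Curv2.normalization X) x' := by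
  let N := Curv2.normalization X
  let ν : N ⟶ X := Curv2.normalizationι X
  let sN : N ⟶ Spec (CommRingCat.of k) := ν ≫ (X ↘ (Spec (CommRingCat.of k)))
  let overN : N.Over (Spec (CommRingCat.of k)) := ⟨sN⟩
  obtain ⟨hfin, hdom, -, hint, hnorm⟩ := Groth.Agent.S1585.result k X
  have hfin' : IsFinite ν := hfin
  have hdom' : IsDominant ν := hdom
  have hint' : IsIntegral N := hint
  have hlft : LocallyOfFiniteType (N ↘ (Spec (CommRingCat.of k))) := by
    change LocallyOfFiniteType (ν ≫ (X ↘ (Spec (CommRingCat.of k))))
    infer_instance
  have hlfp : LocallyOfFinitePresentation (N ↘ (Spec (CommRingCat.of k))) := inferInstance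
  have hln : IsLocallyNoetherian N := LocallyOfFiniteType.isLocallyNoetherian (N ↘ (Spec (CommRingCat.of k)))
  have key : ∀ x' : N, ν x' = x → x' ∈ (N ↘ (Spec (CommRingCat.of k))).smoothLocus := by
    intro x' hx'
    have h1 : IsDomain (N.presheaf.stalk x') := (hnorm x').1
    have h2 : IsIntegrallyClosed (N.presheaf.stalk x') := (hnorm x').2
    have h3 : ringKrullDim (N.presheaf.stalk x') ≤ 1 := by
      refine (ringKrullDim_stalk_le_of_locallyQuasiFinite ν x').trans ?_
      rw [hx', hdim]
    have hreg : IsRegularLocalRing (N.presheaf.stalk x') := Groth.Agent.S2344.isRegular_of_normal _ h3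
    refine Groth.Agent.VarietyA.SmoothReg.mem_smoothLocus_of_isRegularLocalRing k N x' ?_ hreg
    let algR : Algebra k (N.residueField x') := Curv2.resAlgebra k N x'
    have hg : GeometricallyReduced (Spec.map (CommRingCat.ofHom (algebraMap k (N.residueField x')))) :=
      hsep x' hx'
    have hg2 : Algebra.IsGeometricallyReduced k (N.residueField x') := by
      rw [Algebra.isGeometricallyReduced_field_iff]
      exact Groth.Agent.UnramB.IdemGeom.isReduced_tensor k (N.residueField x') (AlgebraicClosure k)
    exact Groth.Agent.S2451.result.mpr hg2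
  refine ⟨?_, fun x' hx' => (Groth.Agent.S1562.result k N x').mpr (key x' hx')⟩
  obtain ⟨x', hx'⟩ : ∃ x' : N, ν x' = x := by
    have : Function.Surjective ν := by
      rw [← Set.range_eq_univ, ← ν.isClosedMap.isClosed_range.closure_eq]
      exact ν.denseRange.closure_range
    exact this x
  subst hx'
  have hgN : GeometricallyReduced (N ↘ (Spec (CommRingCat.of k))) :=
    Groth.Agent.Models.H125.GeomRedPt.geometricallyReduced_of_mem_smoothLocus _ x' (key x' rfl)
  let alg1 : Algebra k (N.presheaf.stalk x') := Curv2.stalkAlgebra k N x'
  let alg2 : Algebra k (X.presheaf.stalk (ν x')) := Curv2.stalkAlgebra k X (ν x')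
  have h4 : Algebra.IsGeometricallyReduced k (N.presheaf.stalk x') :=
    (Groth.Agent.VarietyA.GeomRed.geometricallyReduced_iff_forall_stalk k N).mp hgN x'
  rw [Groth.Agent.S1541.result k X]
  let φ : X.presheaf.stalk (ν x') →ₐ[k] N.presheaf.stalk x' :=
    { (ν.stalkMap x').hom with
      commutes' := fun r => RingHom.congr_fun (K419.StalkK.stalkMap_comp k ν rfl x') r }
  exact Algebra.IsGeometricallyReduced.of_injective φ
    (Groth.Agent.Sga7.H756.NormStalk.stalkMap_injective ν x')

end Groth.Agent.S7617
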