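import Groth.Statements.S7618
import Groth.Agent.VarietyA.GlobalSections

set_option autoImplicit false
universe u
open CategoryTheory CategoryTheory.Limits AlgebraicGeometry
open Variety

namespace Groth.Agent.S7618

/-- Let X be a connected reduced scheme over a field k. Then the global functions on X that are integral
over k form a field. -/
theorem result (k : Type u) [Field k] (X : Scheme.{u}) [X.Over (Spec (CommRingCat.of k))] [ConnectedSpace ↥X] [IsReduced X] :
    letI := ((X ↘ (Spec (CommRingCat.of k))).appTop.hom.comp (Scheme.ΓSpecIso (CommRingCat.of k)).inv.hom : k →+* Γ(X, ⊤)).toAlgebra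
    IsField ↥(integralClosure k ↑Γ(X, ⊤)) := by
  letI alg : Algebra k Γ(X, ⊤) := ((X ↘ (Spec (CommRingCat.of k))).appTop.hom.comp
    (Scheme.ΓSpecIso (CommRingCat.of k)).inv.hom : k →+* Γ(X, ⊤)).toAlgebra
  have : Nonempty (⊤ : X.Opens) := ⟨⟨Classical.arbitrary X, trivial⟩⟩
  have hnt : Nontrivial Γ(X, ⊤) := Scheme.component_nontrivial X ⊤
  have hred : _root_.IsReduced ↥(integralClosure k ↑Γ(X, ⊤)) := by
    refine isReduced_of_injective (integralClosure k ↑Γ(X, ⊤)).val Subtype.val_injective
  have hid : ∀ e : ↥(integralClosure k ↑Γ(X, ⊤)), IsIdempotentElem e → e = 0 ∨ e = 1 := by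
    intro e he
    rcases Groth.Agent.VarietyA.GlobalSections.idem_of_connected X (e : Γ(X, ⊤))
      (congrArg Subtype.val he) with h | h
    · exact Or.inl (Subtype.ext h)
    · exact Or.inr (Subtype.ext h)
  refine ⟨⟨0, 1, zero_ne_one⟩, mul_comm, fun {a} ha => ?_⟩
  rcases Groth.Agent.VarietyA.GlobalSections.field_like (K := k) hid a with h | h
  · exact absurd h ha
  · exact h.exists_right_inv

end Groth.Agent.S7618
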