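import Groth.Statements.S7619
import Groth.Agent.UnramB.SmoothCrit

set_option autoImplicit false
universe u
open CategoryTheory CategoryTheory.Limits AlgebraicGeometry
open scoped TensorProduct
open Variety

namespace Groth.Agent.S7619

/-- Let A → B be a finite type ring map (a finite type morphism of affine schemes), q a prime of B and r
= dim_{κ(q)} Ω_{B/A} ⊗_B κ(q). Then there is an A-algebra homomorphism A[x_1, …, x_r] → B for which
B is unramified over A[x_1, …, x_r] at q. -/
theorem result (A B : Type u) [CommRing A] [CommRing B] [Algebra A B] [Algebra.FiniteType A B]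
    (q : Ideal B) [q.IsPrime] (r : ℕ) (hr : Module.finrank q.ResidueField (q.ResidueField ⊗[B] Ω[B⁄A]) = r) :
    ∃ φ : MvPolynomial (Fin r) A →ₐ[A] B,
      letI := φ.toRingHom.toAlgebra
      Algebra.IsUnramifiedAt (MvPolynomial (Fin r) A) q := by
  subst hr
  obtain ⟨b, hb⟩ := Groth.Agent.UnramB.SmoothCrit.exists_span_eq_top (A := A) q
  refine ⟨MvPolynomial.aeval b, ?_⟩
  letI alg : Algebra (MvPolynomial (Fin (Module.finrank q.ResidueField (q.ResidueField ⊗[B] Ω[B⁄A]))) A) B :=
    (MvPolynomial.aeval b : MvPolynomial _ A →ₐ[A] B).toRingHom.toAlgebra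
  have htow : IsScalarTower A (MvPolynomial (Fin (Module.finrank q.ResidueField (q.ResidueField ⊗[B] Ω[B⁄A]))) A) B :=
    IsScalarTower.of_algebraMap_eq fun a ↦ ((MvPolynomial.aeval b : MvPolynomial _ A →ₐ[A] B).commutes a).symm
  refine Groth.Agent.UnramB.SmoothCrit.isUnramifiedAt_of_span_eq_top (A := A) q (Set.range MvPolynomial.X) ?_
  rw [← hb, ← Set.range_comp]
  congr 2
  ext i
  simp only [Function.comp]
  congr 2
  exact MvPolynomial.aeval_X b i

end Groth.Agent.S7619
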