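import Groth.Statements.S7620
import Groth.Agent.Ega43.FibreDimAlg

set_option autoImplicit false
universe u
open CategoryTheory CategoryTheory.Limits AlgebraicGeometry
open scoped TensorProduct
open Variety

namespace Groth.Agent.S7620

/-- Let A → B be a finite type ring map (a finite type morphism of affine schemes X → S), p a prime of A
and suppose the fibre ring κ(p) ⊗_A B has Krull dimension d. Then there is an A-algebra homomorphism
π : A[t_1, …, t_d] → B such that the induced map of fibres κ(p) ⊗_A A[t_1, …, t_d] → κ(p) ⊗_A B is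
finite. -/
theorem result (A B : Type u) [CommRing A] [CommRing B] [Algebra A B] [Algebra.FiniteType A B]
    (p : Ideal A) [p.IsPrime] (d : ℕ) (hd : ringKrullDim (p.ResidueField ⊗[A] B) = d) :
    ∃ π : MvPolynomial (Fin d) A →ₐ[A] B,
      (Algebra.TensorProduct.map (AlgHom.id p.ResidueField p.ResidueField) π).toRingHom.Finite := by
  have hnt : Nontrivial (p.Fiber B) := by
    by_contra h
    rw [not_nontrivial_iff_subsingleton] at h
    have h1 : ringKrullDim (p.Fiber B) = ⊥ := ringKrullDim_eq_bot_of_subsingleton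
    have h2 : ringKrullDim (p.Fiber B) = d := hd
    rw [h1] at h2
    exact absurd h2 (by simp)
  obtain ⟨g, hg⟩ := Groth.Agent.Ega43.FibreDimAlg.exists_finite_algHom p.ResidueField (p.Fiber B) d hd.le
  obtain ⟨b, hb⟩ := Groth.Agent.Ega43.FibreDimAlg.exists_lift_finite p g hg
  refine ⟨MvPolynomial.aeval b, ?_⟩
  let ψ : MvPolynomial (Fin d) p.ResidueField →ₐ[p.ResidueField] p.ResidueField ⊗[A] MvPolynomial (Fin d) A :=
    MvPolynomial.aeval fun i => 1 ⊗ₜ MvPolynomial.X i
  have h3 : (MvPolynomial.aeval (fun i => 1 ⊗ₜ[A] b i) :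
      MvPolynomial (Fin d) p.ResidueField →ₐ[p.ResidueField] p.Fiber B) =
      (Algebra.TensorProduct.map (AlgHom.id p.ResidueField p.ResidueField) (MvPolynomial.aeval b)).comp ψ := by
    ext i : 1
    simp [ψ]
  rw [h3] at hb
  exact RingHom.Finite.of_comp_finite hb

end Groth.Agent.S7620
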