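import Groth.Statements.S7622
import Groth.Agent.CalgB.RegCompletion
import Groth.Agent.Ega41.SepExt

set_option autoImplicit false
universe u
open CategoryTheory CategoryTheory.Limits AlgebraicGeometry
open Variety

namespace Groth.Agent.S7622

/-- Let A be a Noetherian local algebra over a field k (such as the local ring of a locally Noetherian
k-scheme at a point) whose residue field κ is a separable extension of k, meaning geometrically
reduced over k; κ need not be algebraic over k. Then there are n ≥ 0, an ideal I of κ[[x_1, …, x_n]]
and a k-algebra isomorphism e from κ[[x_1, …, x_n]]/I onto the completion A^∧ of A at its maximal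
ideal which induces the identity on residue fields: for every a in A, the value of e on the constant
power series whose value is the residue class of a is congruent to the image of a modulo the
extended maximal ideal of A^∧. -/
theorem result (k A : Type u) [Field k] [CommRing A] [Algebra k A]
    [IsNoetherianRing A] [IsLocalRing A] [Algebra.IsGeometricallyReduced k (IsLocalRing.ResidueField A)] :
    ∃ (n : ℕ) (I : Ideal (MvPowerSeries (Fin n) (IsLocalRing.ResidueField A)))
      (e : (MvPowerSeries (Fin n) (IsLocalRing.ResidueField A) ⧸ I) ≃ₐ[k]
        AdicCompletion (IsLocalRing.maximalIdeal A) A),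
      ∀ a : A, e (Ideal.Quotient.mk I (MvPowerSeries.C (IsLocalRing.residue A a))) -
          algebraMap A (AdicCompletion (IsLocalRing.maximalIdeal A) A) a ∈
        (IsLocalRing.maximalIdeal A).map (algebraMap A (AdicCompletion (IsLocalRing.maximalIdeal A) A)) := by
  have hFS : Algebra.FormallySmooth k (IsLocalRing.ResidueField A) :=
    (Groth.Agent.Ega41.SepExt.formallySmooth_iff_isGeometricallyReduced _ _).mpr inferInstance
  have := Groth.Agent.CalgB.AdicReg.formallySmooth_residueField_completion k A
  obtain ⟨x, hx, hx', hmin⟩ := Groth.Agent.CalgB.AdicReg.exists_generators_completion (A := A)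
  obtain ⟨Φ, hΦ, hker, hres, hX⟩ := Groth.Agent.CalgB.CohenPres.exists_presentation_of_generators (k₀ := k)
    (B := AdicCompletion (IsLocalRing.maximalIdeal A) A) _ _ hx' hmin
  let r : IsLocalRing.ResidueField A →ₐ[k]
      IsLocalRing.ResidueField (AdicCompletion (IsLocalRing.maximalIdeal A) A) :=
    { IsLocalRing.ResidueField.map (algebraMap A (AdicCompletion (IsLocalRing.maximalIdeal A) A)) with
      commutes' := fun c => rfl }
  let ρ := MvPowerSeries.mapAlgHom (σ := Fin (Module.finrank (IsLocalRing.ResidueField A)
    (IsLocalRing.CotangentSpace A))) r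
  have hρ : Function.Surjective ρ :=
    (Groth.Agent.CalgB.RegCompletion.map_bijective _ (AdicCompletion.residueField_map_bijective A)).2
  have hs : Function.Surjective (Φ.comp ρ) := hΦ.comp hρ
  refine ⟨_, RingHom.ker (Φ.comp ρ), Ideal.quotientKerAlgEquivOfSurjective hs, fun a => ?_⟩
  rw [← AdicCompletion.maximalIdeal_eq_map]
  have h1 : Ideal.quotientKerAlgEquivOfSurjective hs (Ideal.Quotient.mk _
      (MvPowerSeries.C (IsLocalRing.residue A a))) = Φ (ρ (MvPowerSeries.C (IsLocalRing.residue A a))) := rfl
  rw [h1, ← IsLocalRing.residue_eq_zero_iff, map_sub, hres, sub_eq_zero]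
  have h2 : ρ (MvPowerSeries.C (IsLocalRing.residue A a)) = MvPowerSeries.C (r (IsLocalRing.residue A a)) :=
    MvPowerSeries.map_C _ _
  rw [h2, MvPowerSeries.constantCoeff_C]
  rfl

end Groth.Agent.S7622
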