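import Groth.Statements.S7623
import Groth.Agent.S2063
import Groth.Agent.S2141
import Groth.Agent.CurvesB.SmoothCurveAlg
import Groth.Agent.Ega41.SepExt
import Mathlib.FieldTheory.FinTrdeg
import Mathlib.RingTheory.Smooth.Locus

set_option autoImplicit false
universe u
open CategoryTheory CategoryTheory.Limits AlgebraicGeometry
open Variety

namespace Groth.Agent.S7623

open TensorProduct in
theorem rank_eq_of_le {R M : Type*} [CommRing R] [AddCommGroup M] [Module R M] [Module.Finite R M]
    [Module.Projective R M] (p q : Ideal R) [p.IsPrime] [q.IsPrime] (h : p ≤ q) :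
    Module.finrank p.ResidueField (p.ResidueField ⊗[R] M) =
      Module.finrank q.ResidueField (q.ResidueField ⊗[R] M) := by
  have : Module.FinitePresentation R M := Module.finitePresentation_of_projective R M
  have h1 := p.finrank_fiber_eq_rankAtStalk (M := M)
  have h2 := q.finrank_fiber_eq_rankAtStalk (M := M)
  have h3 : Module.rankAtStalk M ⟨p, inferInstance⟩ = Module.rankAtStalk (R := R) M ⟨q, inferInstance⟩ := by
    have hc := (Module.isLocallyConstant_rankAtStalk (R := R) (M := M)).continuous
    have hs : (⟨p, inferInstance⟩ : PrimeSpectrum R) ⤳ ⟨q, inferInstance⟩ :=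
      (PrimeSpectrum.le_iff_specializes _ _).mp h
    exact (hs.map hc).eq
  exact (h1.trans h3).trans h2.symm

open TensorProduct in
theorem finrank_residueField_of_minimal {k A : Type u} [Field k] [PerfectField k] [CommRing A] [Algebra k A]
    [Algebra.FiniteType k A] [_root_.IsReduced A] (p : Ideal A) [hpp : p.IsPrime] (hp : p ∈ minimalPrimes A) :
    Module.finrank p.ResidueField (p.ResidueField ⊗[A] Ω[A⁄k]) = Cardinal.toNat (Algebra.trdeg k p.ResidueField) := by
  have h1 : Subsingleton (PrimeSpectrum (Localization.AtPrime p)) :=
    IsLocalization.subsingleton_primeSpectrum_of_mem_minimalPrimes p hp _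
  have h2 : IsField (Localization.AtPrime p) := PrimeSpectrum.subsingleton_iff_isField_of_isReduced.mp h1
  have hbij : Function.Bijective (IsScalarTower.toAlgHom A (Localization.AtPrime p) p.ResidueField) := by
    refine ⟨?_, IsLocalRing.residue_surjective⟩
    let := h2.toField
    exact RingHom.injective (algebraMap (Localization.AtPrime p) p.ResidueField)
  have hloc : IsLocalization p.primeCompl p.ResidueField :=
    IsLocalization.isLocalization_of_algEquiv p.primeCompl (AlgEquiv.ofBijective _ hbij)
  have hLM : IsLocalizedModule p.primeCompl (KaehlerDifferential.map k k A p.ResidueField) :=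
    KaehlerDifferential.isLocalizedModule_map _ _ _ p.primeCompl
  have hbc := (isLocalizedModule_iff_isBaseChange p.primeCompl p.ResidueField
    (KaehlerDifferential.map k k A p.ResidueField)).mp hLM
  have hess : Algebra.EssFiniteType k p.ResidueField := Algebra.EssFiniteType.comp k A _
  have hfs : Algebra.FormallySmooth k p.ResidueField := Groth.Agent.Ega41.SepExt.formallySmooth_of_perfectField _ _
  rw [hbc.equiv.finrank_eq, Groth.Agent.CurvesB.SmoothCurveAlg.finrank_kaehler_eq_trdeg]

theorem localDim_mono {X : Type*} [TopologicalSpace X] {x y : X} (h : x ⤳ y) :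
    FlatMor.localDim X x ≤ FlatMor.localDim X y := by
  refine le_iInf fun U => ?_
  exact iInf_le_of_le ⟨U.1, h.mem_open U.1.2 U.2⟩ le_rfl


/-- Let k be a perfect field and A a reduced finite type k-algebra such that Ω_{A/k} is a projective
A-module (locally free, as it is finitely presented). Then A is smooth over k. The scheme statement,
X reduced and locally of finite type over k with Ω_{X/k} locally free is smooth over k, is this
assertion on affine opens. -/
theorem result (k A : Type u) [Field k] [PerfectField k] [CommRing A] [Algebra k A]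
    [Algebra.FiniteType k A] [_root_.IsReduced A] [Module.Projective A Ω[A⁄k]] : Algebra.Smooth k A := by
  have hfp : Algebra.FinitePresentation k A := Algebra.FinitePresentation.of_finiteType.mp inferInstance
  have huniv : Algebra.smoothLocus k A = Set.univ := by
    rw [Set.eq_univ_iff_forall]
    intro q
    change Algebra.IsSmoothAt k q.asIdeal
    rw [Groth.Agent.S2063.result q.asIdeal]
    obtain ⟨p, hp, hpq⟩ := Ideal.exists_minimalPrimes_le (I := (⊥ : Ideal A)) (J := q.asIdeal) bot_le
    have hpp : p.IsPrime := hp.1.1
    have hrank := rank_eq_of_le (M := Ω[A⁄k]) p q.asIdeal hpq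
    rw [← hrank]
    refine le_trans ?_ (localDim_mono (x := ⟨p, hpp⟩) (y := q) ((PrimeSpectrum.le_iff_specializes _ _).mp hpq))
    have hess : Algebra.EssFiniteType k p.ResidueField := Algebra.EssFiniteType.comp k A _
    have hlt : Algebra.trdeg k p.ResidueField < Cardinal.aleph0 := trdeg_lt_aleph0 k p.ResidueField
    obtain ⟨r, hr⟩ := Cardinal.lt_aleph0.mp hlt
    rw [Groth.Agent.S2141.result p r hr, finrank_residueField_of_minimal p hp, hr, Cardinal.toNat_natCast]
    have h0 : (0 : WithBot ℕ∞) ≤ ringKrullDim (Localization.AtPrime p) := ringKrullDim_nonneg_of_nontrivial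
    exact le_trans (by simp) (add_le_add_left h0 _)
  exact ⟨(Algebra.smoothLocus_eq_univ_iff (R := k) (A := A)).mp huniv, hfp⟩

end Groth.Agent.S7623
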