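import Groth.Statements.S7624
import Groth.Agent.Variety.K419.FibreChart
import Groth.Agent.S0444

set_option autoImplicit false
universe u
open CategoryTheory CategoryTheory.Limits AlgebraicGeometry
open Variety

namespace Groth.Agent.S7624

open scoped TensorProduct

theorem eq_of_specializes_bot (R : Type u) [CommRing R] [IsDomain R]
    (x : ↥(Spec (CommRingCat.of R)))
    (h : x ⤳ (⟨⊥, Ideal.isPrime_bot⟩ : PrimeSpectrum R)) :
    x = (⟨⊥, Ideal.isPrime_bot⟩ : PrimeSpectrum R) := by
  have h1 := (PrimeSpectrum.le_iff_specializes (R := R) x (⟨⊥, Ideal.isPrime_bot⟩ : PrimeSpectrum R)).2 h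
  exact PrimeSpectrum.ext (le_bot_iff.1 h1)

theorem ringKrullDim_fiber_closed (R S : Type u) [CommRing R] [IsLocalRing R] [CommRing S]
    [Algebra R S] : ringKrullDim ((IsLocalRing.closedPoint R).asIdeal.Fiber S) =
      ringKrullDim (IsLocalRing.ResidueField R ⊗[R] S) := by
  let e : IsLocalRing.ResidueField R ≃ₐ[R] (IsLocalRing.maximalIdeal R).ResidueField :=
    AlgEquiv.ofBijective (IsScalarTower.toAlgHom R (R ⧸ IsLocalRing.maximalIdeal R)
      (IsLocalRing.maximalIdeal R).ResidueField)
      (Ideal.bijective_algebraMap_quotient_residueField _)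
  exact (ringKrullDim_eq_of_ringEquiv
    (Algebra.TensorProduct.congr e (AlgEquiv.refl (R := R) (A₁ := S))).toRingEquiv).symm

theorem ringKrullDim_fiber_generic (R S : Type u) [CommRing R] [IsDomain R] [CommRing S]
    [Algebra R S] : ringKrullDim ((⟨⊥, Ideal.isPrime_bot⟩ : PrimeSpectrum R).asIdeal.Fiber S) =
      ringKrullDim (FractionRing R ⊗[R] S) := by
  let e : FractionRing R ≃ₐ[R] (⊥ : Ideal R).ResidueField := FractionRing.algEquiv R _
  exact (ringKrullDim_eq_of_ringEquiv
    (Algebra.TensorProduct.congr e (AlgEquiv.refl (R := R) (A₁ := S))).toRingEquiv).symm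

theorem exists_chart (R : Type u) [CommRing R] [IsDomain R]
    (X : Scheme.{u}) [IrreducibleSpace ↥X] (f : X ⟶ Spec (CommRingCat.of R))
    [LocallyOfFiniteType f] [Surjective f] (V : X.Opens) (hV : IsAffineOpen V)
    (hne : (V : Set X).Nonempty) :
    ∃ (S : Type u) (_ : CommRing S) (_ : Algebra R S) (g : Spec (CommRingCat.of S) ⟶ X),
      IsDomain S ∧ Algebra.FiniteType R S ∧ Topology.IsEmbedding g ∧ Set.range g = V ∧
      g ≫ f = Spec.map (CommRingCat.ofHom (algebraMap R S)) ∧
      Function.Injective (algebraMap R S) := by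
  let A : Type u := Γ(X, V)
  let i : Spec (CommRingCat.of A) ⟶ X := hV.fromSpec
  let φ : CommRingCat.of R ⟶ CommRingCat.of A := Spec.preimage (i ≫ f)
  have hφ : Spec.map φ = i ≫ f := Spec.map_preimage _
  haveI : LocallyOfFiniteType (Spec.map φ) := by rw [hφ]; infer_instance
  have hφf : φ.hom.FiniteType := (HasRingHomProperty.Spec_iff (P := @LocallyOfFiniteType)).1 this
  let S : Type u := A ⧸ nilradical A
  let q : CommRingCat.of A ⟶ CommRingCat.of S := CommRingCat.ofHom (Ideal.Quotient.mk (nilradical A))
  letI : Algebra R S := (q.hom.comp φ.hom).toAlgebra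
  let g : Spec (CommRingCat.of S) ⟶ X := Spec.map q ≫ i
  have hri : Set.range i = V := hV.range_fromSpec
  haveI : Nonempty (Spec (CommRingCat.of A)) := by
    obtain ⟨x, hx⟩ := hne
    rw [← hri] at hx
    exact ⟨hx.choose⟩
  haveI hirrA : IrreducibleSpace (Spec (CommRingCat.of A)) :=
    i.isOpenEmbedding.irreducibleSpace
  have hprime : (nilradical A).IsPrime :=
    PrimeSpectrum.irreducibleSpace_iff_isPrime_nilradical.1 hirrA
  have hqs : Function.Surjective (Spec.map q) := by
    have h1 := _root_.range_comap_of_surjective S q.hom Ideal.Quotient.mk_surjective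
    have h2 : RingHom.ker q.hom = nilradical A := Ideal.mk_ker
    rw [h2, PrimeSpectrum.zeroLocus_nilradical] at h1
    exact Set.range_eq_univ.1 h1
  have hrange : Set.range g = V := by
    rw [← hri]
    change Set.range (i ∘ Spec.map q) = _
    rw [Set.range_comp, hqs.range_eq, Set.image_univ]
  have hemb : Topology.IsEmbedding g := by
    have h1 : Topology.IsEmbedding (Spec.map q) :=
      (PrimeSpectrum.isClosedEmbedding_comap_of_surjective S q.hom
        Ideal.Quotient.mk_surjective).isEmbedding
    exact i.isEmbedding.comp h1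
  have hgf : g ≫ f = Spec.map (CommRingCat.ofHom (algebraMap R S)) := by
    change (Spec.map q ≫ i) ≫ f = _
    rw [Category.assoc, ← hφ, ← Spec.map_comp]
    rfl
  haveI : IsDomain S := Ideal.Quotient.isDomain _
  refine ⟨S, inferInstance, inferInstance, g, inferInstance, ?_, hemb, hrange, hgf, ?_⟩
  · exact hφf.comp_surjective (g := q.hom) Ideal.Quotient.mk_surjective
  · -- the image of the generic point
    rw [injective_iff_map_eq_zero]
    intro r hr
    let e : ↥(Spec (CommRingCat.of R)) := (⟨⊥, Ideal.isPrime_bot⟩ : PrimeSpectrum R)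
    obtain ⟨x₀, hx₀⟩ := f.surjective e
    let b : ↥(Spec (CommRingCat.of S)) := (⟨⊥, Ideal.isPrime_bot⟩ : PrimeSpectrum S)
    have hb : closure {b} = Set.univ := by
      rw [Set.eq_univ_iff_forall]
      intro y
      have := (PrimeSpectrum.le_iff_specializes (R := S)
        (⟨⊥, Ideal.isPrime_bot⟩ : PrimeSpectrum S) y).1 bot_le
      exact specializes_iff_mem_closure.1 this
    have hd : closure {g b} = Set.univ := by
      have h1 : Dense (V : Set X) := V.2.dense hne
      rw [← h1.closure_eq, ← hrange, ← Set.image_univ, ← hb]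
      apply subset_antisymm
      · apply closure_mono
        rintro _ rfl
        exact ⟨b, subset_closure rfl, rfl⟩
      · apply closure_minimal _ isClosed_closure
        rw [← Set.image_singleton]
        exact image_closure_subset_closure_image g.continuous
    have h2 : g b ⤳ x₀ := by
      rw [specializes_iff_mem_closure, hd]
      trivial
    have h3 : f (g b) ⤳ e := by
      rw [← hx₀]
      exact h2.map f.continuous
    have h4 := eq_of_specializes_bot R _ h3
    have h5 := K419.FibreChart.comp_apply_eq f g hgf b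
    rw [h4] at h5
    have h6 : (⊥ : Ideal R) = (⊥ : Ideal S).comap (algebraMap R S) :=
      congrArg PrimeSpectrum.asIdeal h5
    have h7 : r ∈ (⊥ : Ideal S).comap (algebraMap R S) := hr
    rw [← h6] at h7
    exact h7


/-- Let R be a valuation ring, X an irreducible scheme and f : X → Spec R a surjective morphism locally
of finite type. Then each irreducible component of the fibre of f over the closed point of Spec R
has Krull dimension equal to that of the fibre of f over the generic point. -/
theorem result (R : Type u) [CommRing R] [IsDomain R] [ValuationRing R]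
    (X : Scheme.{u}) [IrreducibleSpace ↥X] (f : X ⟶ Spec (CommRingCat.of R)) [LocallyOfFiniteType f] [Surjective f]
    (Z : Set ↥(f.fiber (IsLocalRing.closedPoint R))) (hZ : Z ∈ irreducibleComponents ↥(f.fiber (IsLocalRing.closedPoint R))) :
    topologicalKrullDim ↥Z = topologicalKrullDim ↥(f.fiber (⟨⊥, Ideal.bot_prime⟩ : PrimeSpectrum R)) := by
  let s : PrimeSpectrum R := IsLocalRing.closedPoint R
  let η : PrimeSpectrum R := ⟨⊥, Ideal.isPrime_bot⟩
  have hlft : ∀ t : ↥(Spec (CommRingCat.of R)), LocallyOfFiniteType (f.fiberToSpecResidueField t) :=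
    fun t => inferInstanceAs (LocallyOfFiniteType (pullback.snd f _))
  letI ov : ∀ t : ↥(Spec (CommRingCat.of R)), (f.fiber t).Over
    (Spec (CommRingCat.of ((Spec (CommRingCat.of R)).residueField t))) :=
    fun t => ⟨f.fiberToSpecResidueField t⟩
  haveI hlft' : ∀ t : ↥(Spec (CommRingCat.of R)), LocallyOfFiniteType ((f.fiber t) ↘
    (Spec (CommRingCat.of ((Spec (CommRingCat.of R)).residueField t)))) := hlft
  let t : ↥(Spec (CommRingCat.of R)) := s
  haveI : IsLocallyNoetherian (f.fiber t) :=
    LocallyOfFiniteType.isLocallyNoetherian (f.fiberToSpecResidueField t)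
  obtain ⟨o, ho, ⟨z, hz⟩, hoZ⟩ :=
    Groth.Agent.Ega43.EquidimFibre.exists_open_subset_irreducibleComponent (X := f.fiber t) hZ
  obtain ⟨V', hV', hoV⟩ := (f.fiberι t).isEmbedding.isInducing.isOpen_iff.1 ho
  have hzV : f.fiberι t z ∈ V' := by
    rw [← hoV] at hz
    exact hz
  obtain ⟨_, ⟨V, hV, rfl⟩, hxV, hVV'⟩ :=
    X.isBasis_affineOpens.exists_subset_of_mem_open hzV hV'
  have hV : IsAffineOpen V := hV
  -- the chart
  obtain ⟨S, instS, algS, g, hdom, hft, hgemb, hgr, hgf, hinj⟩ := exists_chart R X f V hV ⟨_, hxV⟩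
  -- fibres
  have hg1 := K419.FibreChart.dim_fibre_chart f g hgemb hgf s
  have hg2 := K419.FibreChart.dim_fibre_chart f g hgemb hgf η
  have hopen : IsOpen ((f.fiberι t) ⁻¹' (Set.range g)) := by
    rw [hgr]
    exact V.2.preimage (f.fiberι t).continuous
  have hsub : (f.fiberι t) ⁻¹' (Set.range g) ⊆ Z := by
    rw [hgr]
    refine subset_trans ?_ hoZ
    rw [← hoV]
    exact Set.preimage_mono hVV'
  have hne : ((f.fiberι t) ⁻¹' (Set.range g)).Nonempty := ⟨z, by rw [hgr]; exact hxV⟩
  have h1 := K419.FibreChart.dim_open_subset_closure ((Spec (CommRingCat.of R)).residueField t) (f.fiber t) Z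
    (isClosed_of_mem_irreducibleComponents Z hZ) hZ.1 _ hopen hne hsub
  -- the generic fibre
  let e : ↥(Spec (CommRingCat.of R)) := η
  have hgen : f (genericPoint X) = e := by
    obtain ⟨x₀, hx₀⟩ := f.surjective e
    have h2 : f (genericPoint X) ⤳ e := by
      rw [← hx₀]
      exact (genericPoint_specializes x₀).map f.continuous
    exact eq_of_specializes_bot R _ h2
  haveI : IrreducibleSpace (f.fiber e) := by
    rw [← hgen]
    exact Groth.Agent.VarietyB.FibreGeneric.irreducibleSpace_fiber f
  have hopen' : IsOpen ((f.fiberι e) ⁻¹' (Set.range g)) := by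
    rw [hgr]
    exact V.2.preimage (f.fiberι e).continuous
  have h3 := Groth.Agent.S1618.result ((Spec (CommRingCat.of R)).residueField e) (f.fiber e) ⟨_, hopen'⟩ (by
    obtain ⟨w, hw⟩ : ∃ w, f.fiberι e w = genericPoint X := by
      have : genericPoint X ∈ Set.range (f.fiberι e) := by
        rw [f.range_fiberι e]
        exact hgen
      exact this
    refine ⟨w, ?_⟩
    change f.fiberι e w ∈ Set.range g
    rw [hw, hgr]
    exact (genericPoint_spec X).mem_open_set_iff V.2 |>.2 (by
      simpa using ⟨_, hxV⟩))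
  haveI : Nontrivial (IsLocalRing.ResidueField R ⊗[R] S) := by
    have h4 : ringKrullDim (s.asIdeal.Fiber S) ≠ ⊥ := by
      rw [← hg1]
      exact Order.krullDim_ne_bot_iff.2 ⟨⟨closure {(⟨hne.some, hne.some_mem⟩ :
        ((f.fiberι t) ⁻¹' (Set.range g) : Set (f.fiber t)))}, isIrreducible_singleton.closure,
        isClosed_closure⟩⟩
    rw [ringKrullDim_fiber_closed R S] at h4
    by_contra h5
    rw [not_nontrivial_iff_subsingleton] at h5
    exact h4 (ringKrullDim_eq_bot_of_subsingleton)
  have h7 := Groth.Agent.S0444.result (R := R) (S := S) hinj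
  calc topologicalKrullDim ↥Z = ringKrullDim (s.asIdeal.Fiber S) := h1.trans hg1
    _ = ringKrullDim (IsLocalRing.ResidueField R ⊗[R] S) := ringKrullDim_fiber_closed R S
    _ = ringKrullDim (FractionRing R ⊗[R] S) := h7
    _ = ringKrullDim (η.asIdeal.Fiber S) := (ringKrullDim_fiber_generic R S).symm
    _ = _ := hg2.symm.trans h3

end Groth.Agent.S7624
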