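import Groth.Statements.S7625
import Groth.Agent.Dual.H316.FibDim
import Groth.Agent.Flat2D.CMCharts
import Groth.Agent.FlatB.QfAffSpace

set_option autoImplicit false
universe u
open CategoryTheory CategoryTheory.Limits AlgebraicGeometry
open Variety

namespace Groth.Agent.S7625

/-- Let f : X → S be locally of finite type, x a point of X with image s, V an affine open neighbourhood
of s in S, and suppose dim_x(X_s) = d. Then there is an affine open neighbourhood U of x with f(U) ⊆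
V and a factorisation of f|_U as U → 𝔸^d_V → V with U → 𝔸^d_V locally quasi-finite and locally of
finite type (hence quasi-finite, U being affine). -/
theorem result {X S : Scheme.{u}} (f : X ⟶ S) [LocallyOfFiniteType f] (x : ↥X)
    (V : S.Opens) (hV : IsAffineOpen V) (hxV : f x ∈ V) (d : ℕ) (hd : FlatMor.fibreDimAt f x = d) :
    ∃ (U : X.Opens), IsAffineOpen U ∧ x ∈ U ∧
      ∃ (g : (U : Scheme.{u}) ⟶ (V : Scheme.{u})) (π : (U : Scheme.{u}) ⟶ 𝔸(ULift.{u} (Fin d); (V : Scheme.{u}))),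
        g ≫ V.ι = U.ι ≫ f ∧ π ≫ (𝔸(ULift.{u} (Fin d); (V : Scheme.{u})) ↘ (V : Scheme.{u})) = g ∧
          LocallyQuasiFinite π ∧ LocallyOfFiniteType π := by
  let f' : ((f ⁻¹ᵁ V : X.Opens) : Scheme.{u}) ⟶ (V : Scheme.{u}) := f ∣_ V
  let x' : ((f ⁻¹ᵁ V : X.Opens) : Scheme.{u}) := ⟨x, hxV⟩
  have hw : (f ⁻¹ᵁ V).ι ≫ f = f' ≫ V.ι := (morphismRestrict_ι f V).symm
  have hd' : FlatMor.fibreDimAt f' x' = d := by
    rw [Groth.Agent.Dual.H316.FibDim.fibreDimAt_of_square f f' (f ⁻¹ᵁ V).ι V.ι hw x']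
    exact hd
  obtain ⟨V₁, U₁, hV₁, hU₁, e, φ, hxU, hφ, hC⟩ := Groth.Agent.FlatB.QfAffSpace.exists_chart f' x' d hd'
  obtain ⟨g, hg, -, hg2⟩ := Groth.Agent.Flat2D.CMCharts.exists_hom_affineSpace f' hV₁ hU₁ e φ hC
  let i := (f ⁻¹ᵁ V).ι.isoImage U₁
  have hi : i.inv ≫ U₁.ι ≫ (f ⁻¹ᵁ V).ι = ((f ⁻¹ᵁ V).ι ''ᵁ U₁).ι := by
    rw [Iso.inv_comp_eq, Scheme.Hom.isoImage_hom_ι]
  have hlqf : LocallyQuasiFinite g := hg2 hφ
  refine ⟨(f ⁻¹ᵁ V).ι ''ᵁ U₁, hU₁.image_of_isOpenImmersion _, ⟨x', hxU, rfl⟩,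
    i.inv ≫ U₁.ι ≫ f', i.inv ≫ g, ?_, ?_, inferInstance, ?_⟩
  · rw [Category.assoc, Category.assoc, ← hw, ← hi, Category.assoc, Category.assoc]
  · rw [Category.assoc, hg]
  · have h1 : LocallyOfFiniteType ((i.inv ≫ g) ≫ (𝔸(ULift.{u} (Fin d); (V : Scheme.{u})) ↘ (V : Scheme.{u}))) := by
      rw [Category.assoc, hg]
      infer_instance
    exact locallyOfFiniteType_of_comp _ (𝔸(ULift.{u} (Fin d); (V : Scheme.{u})) ↘ (V : Scheme.{u}))

end Groth.Agent.S7625
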