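import Groth.Statements.S7626
import Groth.Agent.Variety.K419.PnRat
import Groth.Agent.Variety.K419.StalkK
import Groth.Agent.Ega3A.PChart
import Groth.Agent.Ega2.H298.ProjRatio

set_option autoImplicit false
universe u
open CategoryTheory CategoryTheory.Limits AlgebraicGeometry
open Variety

namespace Groth.Agent.S7626

open Groth.Agent.Ega3A.PChart Groth.Agent.Ega2.H298 Groth.Agent.Sga7.H132
open Groth.Agent.Sga5.ProjChart

/-- The linear forms vanishing at a field-valued point. -/
def van (n : ℕ) (k : Type u) [Field k] {L : Type u} [Field L] (i : Fin (n + 1))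
    (χ : Chart n k i →+* L) : Submodule k (Fin (n + 1) → k) where
  carrier := {c | ∑ j, χ (chartC n k i (c j)) * χ (coord n k i j) = 0}
  add_mem' := by
    intro a b ha hb
    simp only [Set.mem_ofPred_eq, Pi.add_apply, map_add, add_mul, Finset.sum_add_distrib] at *
    rw [ha, hb, add_zero]
  zero_mem' := by simp
  smul_mem' := by
    intro t a ha
    simp only [Set.mem_ofPred_eq, Pi.smul_apply, smul_eq_mul, map_mul, mul_assoc] at *
    rw [← Finset.mul_sum, ha, mul_zero]

theorem iSup_basicOpen (n : ℕ) (k : Type u) [Field k] :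
    ⨆ i : Fin (n + 1), Proj.basicOpen (CohB1.polyGrading n k) (MvPolynomial.X i) = ⊤ := by
  rw [eq_top_iff]
  intro x _
  obtain ⟨i, hi⟩ := ProjPts.exists_mem_range n k x
  refine TopologicalSpace.Opens.mem_iSup.2 ⟨i, ?_⟩
  rw [← Proj.opensRange_awayι _ _ (X_mem n k i) one_pos]
  exact hi

/-- The generating locus is invariant under isomorphism. -/
theorem genLocus_comp_iso {X : Scheme.{u}} {L L' : X.Modules} (e : L ≅ L')
    (s : Coh.structureModule X ⟶ L) :
    CohB1.genLocus L' (s ≫ e.hom) = CohB1.genLocus L s := by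
  unfold CohB1.genLocus
  congr 1
  ext U
  simp only [Set.mem_ofPred_eq, Functor.map_comp]
  exact ⟨fun h => IsIso.of_isIso_comp_right _ ((Scheme.Modules.restrictFunctor U.ι).map e.hom),
    fun h => inferInstance⟩


/-- Let k be an infinite field, X a scheme of finite type over k, L a very ample invertible O_X-module
on X over k, n ≥ 0, x a k-rational point of X and x_1, …, x_n points of X with x_i ≠ x. Then there
is a global section s of L which vanishes at x (x is not in the open where s generates L) but does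
not vanish at any x_i. -/
theorem result (k : Type u) [Field k] (X : Scheme.{u}) [X.Over (Spec (CommRingCat.of k))] [Infinite k]
    [LocallyOfFiniteType (X ↘ (Spec (CommRingCat.of k)))] [QuasiCompact (X ↘ (Spec (CommRingCat.of k)))]
    (L : X.Modules) (hL : RelAmple.IsRelVeryAmplePn (X ↘ (Spec (CommRingCat.of k))) L)
    (x : ↥X) (hx : Function.Surjective (Curv2.resMap k X x)) (n : ℕ) (pts : Fin n → ↥X) (hne : ∀ i, pts i ≠ x) :
    ∃ s : Coh.structureModule X ⟶ L, x ∉ CohB1.genLocus L s ∧ ∀ i, pts i ∈ CohB1.genLocus L s := by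
  obtain ⟨N, i, hi, hif, ⟨eL⟩⟩ := hL
  have hc : IsIso (chart N (𝟙 (Spec (CommRingCat.of k)))) :=
    (isPullback_chart N (𝟙 (Spec (CommRingCat.of k)))).isIso_fst_of_isIso
  obtain ⟨r, hji⟩ : ∃ r : X ⟶ CohB1.ProjSpace N k,
      r ≫ chart N (𝟙 (Spec (CommRingCat.of k))) = i :=
    ⟨i ≫ inv (chart N (𝟙 (Spec (CommRingCat.of k)))), by simp⟩
  have hrf : r ≫ CohB1.ProjSpace.toSpec N k = X ↘ (Spec (CommRingCat.of k)) := by
    have h1 := chart_toBase N (𝟙 (Spec (CommRingCat.of k)))
    rw [Category.comp_id] at h1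
    rw [← h1, reassoc_of% hji]
    exact hif
  have hrinj : Function.Injective r := by
    have h1 : Function.Injective (i : X → _) := i.isEmbedding.injective
    intro a b hab
    apply h1
    rw [← hji, Scheme.Hom.comp_apply, Scheme.Hom.comp_apply, hab]
  let eL' : L ≅ (Scheme.Modules.pullback r).obj (Twist.twist (CohB1.polyGrading N k) 1) :=
    eL ≪≫ (Scheme.Modules.pullbackCongr hji.symm).app _ ≪≫
    ((Scheme.Modules.pullbackComp r (chart N (𝟙 (Spec (CommRingCat.of k))))).app _).symm ≪≫
    (Scheme.Modules.pullback r).mapIso (chartTwistIso N (𝟙 (Spec (CommRingCat.of k))) 1)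
  -- values
  have hpt : ∀ y : X, ∃ (j : Fin (N + 1)) (χ : Chart N k j →+* X.residueField y),
      (∀ c, χ (chartC N k j c) = Curv2.resMap k X y c) ∧
      ∃ z : Spec (CommRingCat.of (X.residueField y)),
        (Spec.map (CommRingCat.ofHom χ) ≫ ProjPts.chart N k j) z = r y := by
    intro y
    obtain ⟨j, χ, hχ⟩ := ProjPts.exists_chart_pt (K := k) (n := N) (L := X.residueField y)
      (X.fromSpecResidueField y ≫ r)
    refine ⟨j, χ, ?_, IsLocalRing.closedPoint _, ?_⟩
    · have h1 := congrArg (fun t => t ≫ CohB1.ProjSpace.toSpec N k) hχ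
      simp only [Category.assoc, ProjPts.chart_toSpec, hrf, ← Spec.map_comp] at h1
      have h2 : X.fromSpecResidueField y ≫ (X ↘ (Spec (CommRingCat.of k))) =
        Spec.map (CommRingCat.ofHom (Curv2.resMap k X y)) :=
        (Groth.Agent.VarietyA.ResMap.specMap_resMap k X y).symm
      rw [h2] at h1
      exact RingHom.congr_fun (congrArg CommRingCat.Hom.hom (Spec.map_injective h1))
    · rw [hχ]
      exact congrArg r (Scheme.fromSpecResidueField_apply y (IsLocalRing.closedPoint _))
  choose j χ hχ z hz using hpt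
  have hgen : ∀ (y : X) (c : Fin (N + 1) → k),
      y ∈ CohB1.genLocus _ (ProjRatio.pull (CohB1.polyGrading N k) r (K419.PnRat.lin N k c) ≫
        eL'.inv) ↔ c ∉ van N k (j y) (χ y) := by
    intro y c
    have h1 : CohB1.genLocus L (ProjRatio.pull (CohB1.polyGrading N k) r (K419.PnRat.lin N k c) ≫
        eL'.inv) = r ⁻¹ᵁ Proj.basicOpen (CohB1.polyGrading N k) (K419.PnRat.lin N k c).1 :=
      (genLocus_comp_iso eL'.symm
        (ProjRatio.pull (CohB1.polyGrading N k) r (K419.PnRat.lin N k c))).trans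
      (ProjRatio.genLocus_pull (CohB1.polyGrading N k)
        (fun i : Fin (N + 1) => ⟨MvPolynomial.X i, X_mem N k i⟩) (iSup_basicOpen N k) r _)
    have h2 := K419.PnRat.mem_basicOpen_lin_iff N k (j y) (χ y) c (z y)
    rw [hz y] at h2
    exact (Iff.of_eq (congrArg (fun U : X.Opens => y ∈ U) h1)).trans h2
  obtain ⟨c, hc0, hc1⟩ : ∃ c : Fin (N + 1) → k, c ∈ van N k (j x) (χ x) ∧
      ∀ m, c ∉ van N k (j (pts m)) (χ (pts m)) := by
    by_contra hcon
    push Not at hcon
    obtain ⟨m, hm⟩ := Subspace.exists_eq_top_of_iUnion_eq_univ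
      (p := fun m : Fin n => (van N k (j (pts m)) (χ (pts m))).comap (van N k (j x) (χ x)).subtype)
      (Set.eq_univ_of_forall fun c => by
        obtain ⟨m, hm⟩ := hcon c.1 c.2
        exact Set.mem_iUnion.2 ⟨m, hm⟩)
    refine hne m (hrinj ?_)
    rw [← hz x, ← hz (pts m)]
    refine (K419.PnRat.eq_of_forall N (j x) (j (pts m)) (χ x) (χ (pts m)) ?_ ?_ _ _).symm
    · intro l
      obtain ⟨a, ha⟩ := hx l
      exact ⟨a, (hχ x a).trans ha⟩
    · intro c hc
      have : (⟨c, hc⟩ : van N k (j x) (χ x)) ∈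
          (van N k (j (pts m)) (χ (pts m))).comap (van N k (j x) (χ x)).subtype := by
        rw [hm]; trivial
      exact this
  refine ⟨ProjRatio.pull (CohB1.polyGrading N k) r (K419.PnRat.lin N k c) ≫ eL'.inv, ?_, ?_⟩
  · rw [hgen]
    exact fun h => h hc0
  · intro m
    rw [hgen]
    exact hc1 m

end Groth.Agent.S7626
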