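import Groth.Statements.S7627
import Groth.Agent.Variety.K419.StalkLoc
import Groth.Agent.Ega41.DimFlat
import Mathlib.RingTheory.LocalProperties.Reduced
import Mathlib.RingTheory.KrullDimension.Zero

set_option autoImplicit false
universe u
open CategoryTheory CategoryTheory.Limits AlgebraicGeometry
attribute [local instance] Curv2.resAlgebra
open scoped TensorProduct
open Variety

namespace Groth.Agent.S7627

theorem reduced_fibre {k A F K B : Type u} [Field k] [CommRing A] [CommRing F] [CommRing K]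
    [CommRing B] [Algebra k A] [Algebra k F] [Algebra k K] (φ : A →ₐ[k] F)
    (hφ : Function.Surjective φ) (θ : A ⊗[k] K →+* B) {q : Ideal (A ⊗[k] K)} [q.IsPrime]
    (hθ : letI := θ.toAlgebra; IsLocalization.AtPrime B q)
    (hr : _root_.IsReduced (F ⊗[k] K)) :
    _root_.IsReduced (B ⧸ (RingHom.ker φ).map
      (θ.comp Algebra.TensorProduct.includeLeftRingHom)) := by
  letI := θ.toAlgebra
  haveI : IsLocalization q.primeCompl B := hθ
  set I : Ideal (A ⊗[k] K) := (RingHom.ker φ).map
    (Algebra.TensorProduct.includeLeft : A →ₐ[k] A ⊗[k] K) with hI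
  have hk := Algebra.TensorProduct.rTensor_ker (R := k) (C := K) φ hφ
  have h1 : _root_.IsReduced ((A ⊗[k] K) ⧸ I) := by
    rw [← hI] at hk
    rw [← hk]
    exact isReduced_of_injective (RingHom.kerLift
      (Algebra.TensorProduct.map φ (AlgHom.id k K)).toRingHom) (RingHom.kerLift_injective _)
  have h2 : (RingHom.ker φ).map (θ.comp Algebra.TensorProduct.includeLeftRingHom) =
      I.map (algebraMap (A ⊗[k] K) B) := by
    rw [hI, ← Ideal.map_coe (Algebra.TensorProduct.includeLeft : A →ₐ[k] A ⊗[k] K), Ideal.map_map]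
    rfl
  rw [h2]
  exact isReduced_localizationPreserves
    (Algebra.algebraMapSubmonoid ((A ⊗[k] K) ⧸ I) q.primeCompl)
    (B ⧸ I.map (algebraMap (A ⊗[k] K) B)) h1

theorem map_eq_of_reduced (A B : Type u) [CommRing A] [CommRing B] [IsLocalRing A] [IsLocalRing B]
    [IsNoetherianRing A] [IsNoetherianRing B] [Algebra A B] [IsLocalHom (algebraMap A B)]
    (h1 : ringKrullDim A = ringKrullDim B)
    (h2 : ringKrullDim B = ringKrullDim A +
      ringKrullDim (B ⧸ (IsLocalRing.maximalIdeal A).map (algebraMap A B)))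
    (h3 : _root_.IsReduced (B ⧸ (IsLocalRing.maximalIdeal A).map (algebraMap A B))) :
    (IsLocalRing.maximalIdeal A).map (algebraMap A B) = IsLocalRing.maximalIdeal B := by
  have hle : (IsLocalRing.maximalIdeal A).map (algebraMap A B) ≤ IsLocalRing.maximalIdeal B :=
    IsLocalRing.map_maximalIdeal_le _
  have hne : (IsLocalRing.maximalIdeal A).map (algebraMap A B) ≠ ⊤ :=
    (hle.trans_lt (IsLocalRing.maximalIdeal.isMaximal B).ne_top.lt_top).ne
  haveI : Nontrivial (B ⧸ (IsLocalRing.maximalIdeal A).map (algebraMap A B)) :=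
    Ideal.Quotient.nontrivial_iff.mpr hne
  haveI : IsLocalRing (B ⧸ (IsLocalRing.maximalIdeal A).map (algebraMap A B)) :=
    IsLocalRing.of_surjective' (Ideal.Quotient.mk _) Ideal.Quotient.mk_surjective
  obtain ⟨n, hn⟩ : ∃ n : ℕ, ringKrullDim A = n := by
    have h4 : ringKrullDim A ≠ ⊤ := ringKrullDim_lt_top.ne
    have h5 : ringKrullDim A ≠ ⊥ := ringKrullDim_ne_bot
    obtain ⟨m, hm⟩ := WithBot.ne_bot_iff_exists.1 h5
    rw [← hm] at h4 ⊢
    have h6 : m ≠ ⊤ := fun h => h4 (by rw [h]; rfl)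
    obtain ⟨n, rfl⟩ := ENat.ne_top_iff_exists.1 h6
    exact ⟨n, rfl⟩
  have h6 : ringKrullDim (B ⧸ (IsLocalRing.maximalIdeal A).map (algebraMap A B)) = 0 := by
    rw [← h1, hn] at h2
    obtain ⟨m, hm⟩ := WithBot.ne_bot_iff_exists.1 (ringKrullDim_ne_bot
      (R := B ⧸ (IsLocalRing.maximalIdeal A).map (algebraMap A B)))
    rw [← hm] at h2 ⊢
    have h7 : ((n : ℕ∞) : ℕ∞) + 0 = n + m := by
      rw [add_zero]
      exact_mod_cast h2
    have h8 : (0 : ℕ∞) = m := ENat.add_right_injective_of_ne_top (ENat.coe_ne_top n) h7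
    rw [← h8]
    rfl
  haveI : Ring.KrullDimLE 0 (B ⧸ (IsLocalRing.maximalIdeal A).map (algebraMap A B)) :=
    Ring.krullDimLE_iff.2 (by rw [h6]; simp)
  have h7 := Ring.KrullDimLE.isField_of_isReduced
    (R := B ⧸ (IsLocalRing.maximalIdeal A).map (algebraMap A B))
  have h8 := Ideal.Quotient.maximal_of_isField _ h7
  exact IsLocalRing.eq_maximalIdeal h8


/-- Let X be locally of finite type over a field k, K an extension field of k, y a point of X_K with
image x in X. Assume dim O_{X, x} = dim O_{X_K, y} and that κ(x) ⊗_k K is reduced (for instance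
κ(x)/k separable or K/k separable). Then m_x O_{X_K, y} = m_y. -/
theorem result (k : Type u) [Field k] (X : Scheme.{u}) [X.Over (Spec (CommRingCat.of k))] [LocallyOfFiniteType (X ↘ (Spec (CommRingCat.of k)))]
    (K : Type u) [Field K] [Algebra k K] (y : ↥(Curv2.bc k X K))
    (hdim : ringKrullDim ↥(X.presheaf.stalk (Curv2.bcFst k X K y)) = ringKrullDim ↥((Curv2.bc k X K).presheaf.stalk y))
    (hred : _root_.IsReduced (X.residueField (Curv2.bcFst k X K y) ⊗[k] K)) :
    Ideal.map ((Curv2.bcFst k X K).stalkMap y).hom (IsLocalRing.maximalIdeal ↥(X.presheaf.stalk (Curv2.bcFst k X K y))) =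
      IsLocalRing.maximalIdeal ↥((Curv2.bc k X K).presheaf.stalk y) := by
  letI : (Curv2.bc k X K).Over (Spec (CommRingCat.of K)) := ⟨Curv2.bcSnd k X K⟩
  letI : ∀ x : X, Algebra k (X.presheaf.stalk x) := fun x => Curv2.stalkAlgebra k X x
  obtain ⟨θ, hθl, hθr, hθf, hθloc⟩ := K419.StalkLoc.exists_theta k X K y
  haveI : LocallyOfFiniteType (Curv2.bcSnd k X K) := inferInstance
  haveI : IsLocallyNoetherian X := LocallyOfFiniteType.isLocallyNoetherian (X ↘ (Spec (CommRingCat.of k)))
  haveI : IsLocallyNoetherian (Curv2.bc k X K) :=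
    LocallyOfFiniteType.isLocallyNoetherian (Curv2.bcSnd k X K)
  haveI : Flat (Curv2.bcFst k X K) := inferInstance
  letI := ((Curv2.bcFst k X K).stalkMap y).hom.toAlgebra
  haveI : Module.Flat (X.presheaf.stalk (Curv2.bcFst k X K y)) ((Curv2.bc k X K).presheaf.stalk y) :=
    Flat.stalkMap (Curv2.bcFst k X K) y
  haveI : IsLocalHom (algebraMap (X.presheaf.stalk (Curv2.bcFst k X K y))
    ((Curv2.bc k X K).presheaf.stalk y)) :=
    inferInstanceAs (IsLocalHom ((Curv2.bcFst k X K).stalkMap y).hom)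
  -- the fibre is reduced
  have hres : Function.Surjective (X.residue (Curv2.bcFst k X K y)).hom :=
    X.residue_surjective _
  let φ : X.presheaf.stalk (Curv2.bcFst k X K y) →ₐ[k] X.residueField (Curv2.bcFst k X K y) :=
    { (X.residue (Curv2.bcFst k X K y)).hom with commutes' := fun r => rfl }
  have hφ : Function.Surjective φ := hres
  have hker : RingHom.ker φ =
      IsLocalRing.maximalIdeal (X.presheaf.stalk (Curv2.bcFst k X K y)) :=
    IsLocalRing.ker_residue (R := X.presheaf.stalk (Curv2.bcFst k X K y))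
  have hred2 := reduced_fibre φ hφ θ hθloc hred
  rw [hker, hθl] at hred2
  -- dimension
  have hd := Groth.Agent.Ega41.DimFlat.ringKrullDim_eq_add_of_flat
    (A := X.presheaf.stalk (Curv2.bcFst k X K y)) (B := (Curv2.bc k X K).presheaf.stalk y)
  exact map_eq_of_reduced _ _ hdim hd hred2

end Groth.Agent.S7627
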