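import Groth.Statements.S7628
import Groth.Agent.Variety.K419.ChartBC
import Mathlib.RingTheory.FiniteType

set_option autoImplicit false
universe u
open CategoryTheory CategoryTheory.Limits AlgebraicGeometry
open Variety

namespace Groth.Agent.S7628

/-- Let X be a scheme over a field k, A a k-algebra and V ⊆ X_A = X ×_k Spec A a quasi-compact open
subset. Then there are a finitely generated k-subalgebra A' ⊆ A and a quasi-compact open subset V' ⊆
X_{A'} such that V is the inverse image of V' under the transition morphism X_A → X_{A'} (any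
morphism compatible with the projections to X and with Spec A → Spec A'; it is unique). -/
theorem result (k : Type u) [Field k] (X : Scheme.{u}) [X.Over (Spec (CommRingCat.of k))] (A : Type u) [CommRing A] [Algebra k A]
    (V : Set ↥(pullback (X ↘ (Spec (CommRingCat.of k))) (Spec.map (CommRingCat.ofHom (algebraMap k A))))) (hV : IsOpen V) (hVc : IsCompact V) :
    ∃ (A' : Subalgebra k A), A'.FG ∧
      ∃ (V' : Set ↥(pullback (X ↘ (Spec (CommRingCat.of k))) (Spec.map (CommRingCat.ofHom (algebraMap k ↥A'))))), IsOpen V' ∧ IsCompact V' ∧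
        ∀ π : pullback (X ↘ (Spec (CommRingCat.of k))) (Spec.map (CommRingCat.ofHom (algebraMap k A))) ⟶
            pullback (X ↘ (Spec (CommRingCat.of k))) (Spec.map (CommRingCat.ofHom (algebraMap k ↥A'))),
          π ≫ pullback.fst _ _ = pullback.fst _ _ →
          π ≫ pullback.snd _ _ = pullback.snd _ _ ≫ Spec.map (CommRingCat.ofHom A'.val.toRingHom) →
            π.base ⁻¹' V' = V := by
  classical
  obtain ⟨T, hT, hVT⟩ := K419.ChartBC.exists_finite_cover (f := (X ↘ (Spec (CommRingCat.of k)))) A V hV hVc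
  have h1 : ∀ t : Σ c : K419.ChartBC.Ch (X ↘ (Spec (CommRingCat.of k))), TensorProduct k c.S A,
      ∃ F : Finset A, ∀ (B' : Type u) [CommRing B'] [Algebra k B'] (φ : B' →ₐ[k] A),
      (∀ b ∈ F, b ∈ φ.range) →
      t.2 ∈ (Algebra.TensorProduct.map (AlgHom.id k t.1.S) φ).range := fun t =>
    K419.ChartBC.exists_finset_range t.1.S A t.2
  choose F hF using h1
  let G : Finset A := hT.toFinset.biUnion F
  let A' : Subalgebra k A := Algebra.adjoin k (G : Set A)
  have hG : ∀ t ∈ T, t.2 ∈ (Algebra.TensorProduct.map (AlgHom.id k t.1.S) A'.val).range := by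
    intro t ht
    refine hF t A' A'.val fun b hb => ?_
    refine ⟨⟨b, Algebra.subset_adjoin ?_⟩, rfl⟩
    exact Finset.mem_coe.2 (Finset.mem_biUnion.2 ⟨t, hT.mem_toFinset.2 ht, hb⟩)
  choose! g hg using hG
  refine ⟨A', Subalgebra.fg_adjoin_finset G,
    ⋃ t ∈ T, K419.ChartBC.bo t.1 A' (g t), ?_, ?_, fun π h1 h2 => ?_⟩
  · exact isOpen_biUnion fun t _ => K419.ChartBC.isOpen_bo _ _ _
  · exact hT.isCompact_biUnion fun t _ => K419.ChartBC.isCompact_bo _ _ _
  · have h3 : ∀ t ∈ T, π.base ⁻¹' (K419.ChartBC.bo t.1 A' (g t)) = K419.ChartBC.bo t.1 A t.2 := by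
      intro t ht
      have h4 := K419.ChartBC.preimage_bo t.1 A'.val π h1 h2 (g t)
      have h5 : Algebra.TensorProduct.map (AlgHom.id k t.1.S) A'.val (g t) = t.2 := hg t ht
      rw [h5] at h4
      exact h4
    rw [Set.preimage_iUnion₂, hVT]
    exact Set.iUnion₂_congr h3

end Groth.Agent.S7628
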