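import Groth.Statements.S7630
import Groth.Agent.S1555
import Groth.Agent.S0079
import Groth.Agent.Ega2.RelAmp
import Mathlib.AlgebraicGeometry.Morphisms.LocalFlatDescent

set_option autoImplicit false
universe u
open CategoryTheory CategoryTheory.Limits AlgebraicGeometry
open Variety

namespace Groth.Agent.S7630

/-- Let X be a scheme over a field k and K an extension field of k. If X_K → Spec K is quasi-projective
(of finite type and admitting a relatively ample invertible module), then so is X → Spec k. -/
theorem result (k : Type u) [Field k] (X : Scheme.{u}) [X.Over (Spec (CommRingCat.of k))] (K : Type u) [Field K] [Algebra k K]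
    (h : RelProj.IsQuasiProjective (Curv2.bcSnd k X K)) : RelProj.IsQuasiProjective (X ↘ (Spec (CommRingCat.of k))) := by
  obtain ⟨h1, h2, L', hL'⟩ := h
  have hQ : (@Surjective ⊓ @Flat ⊓ @QuasiCompact : MorphismProperty Scheme.{u})
      (Spec.map (CommRingCat.ofHom (algebraMap k K))) := by
    refine ⟨⟨?_, ?_⟩, ?_⟩
    · infer_instance
    · infer_instance
    · infer_instance
  have hp := (IsPullback.of_hasPullback (X ↘ (Spec (CommRingCat.of k)))
        (Spec.map (CommRingCat.ofHom (algebraMap k K)))).flip
  haveI := Groth.Agent.S0079.result.{u}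
  have h3 : LocallyOfFiniteType (X ↘ (Spec (CommRingCat.of k))) :=
    MorphismProperty.of_isPullback_of_descendsAlong (P := @LocallyOfFiniteType)
      (Q := (@Surjective ⊓ @Flat ⊓ @QuasiCompact : MorphismProperty Scheme.{u})) hp hQ h1
  have h4 : QuasiCompact (X ↘ (Spec (CommRingCat.of k))) :=
    MorphismProperty.of_isPullback_of_descendsAlong (P := @QuasiCompact)
      (Q := (@Surjective ⊓ @Flat ⊓ @QuasiCompact : MorphismProperty Scheme.{u})) hp hQ h2
  have h5 : CohB1.IsAmple L' := Groth.Agent.Ega2.RelAmp.isRelAmple_iff_isAmple.1 hL'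
  obtain ⟨L, hL⟩ := Groth.Agent.S1555.result k X K L' h5
  exact ⟨h3, h4, L, Groth.Agent.Ega2.RelAmp.isRelAmple_iff_isAmple.2 hL⟩

end Groth.Agent.S7630
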