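import Groth.Statements.S7631
import Mathlib.AlgebraicGeometry.Morphisms.SchemeTheoreticallyDominant

set_option autoImplicit false
universe u
open CategoryTheory CategoryTheory.Limits AlgebraicGeometry
open Variety

namespace Groth.Agent.S7631

instance dominant_toImage {X Y : Scheme.{u}} (f : X ⟶ Y) [QuasiCompact f] :
    IsSchemeTheoreticallyDominant f.toImage := by
  rw [isSchemeTheoreticallyDominant_iff]
  refine Scheme.IdealSheafData.ext_of_iSup_eq_top
    (fun U : Y.affineOpens => ⟨f.imageι ⁻¹ᵁ U.1, U.2.preimage f.imageι⟩) ?_ ?_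
  · rw [eq_top_iff]
    intro x _
    obtain ⟨_, ⟨V, hV, rfl⟩, hxV, -⟩ :=
      Y.isBasis_affineOpens.exists_subset_of_mem_open (Set.mem_univ (f.imageι x)) isOpen_univ
    exact TopologicalSpace.Opens.mem_iSup.2 ⟨⟨V, hV⟩, hxV⟩
  · intro U
    rw [Scheme.Hom.ker_apply, Scheme.IdealSheafData.ideal_bot]
    exact (RingHom.injective_iff_ker_eq_bot _).1 (f.toImage_app_injective U)

theorem dominant_prod (S : Scheme.{u}) {A B Z W : Scheme.{u}} (a : A ⟶ Z) (b : B ⟶ W)
    [QuasiCompact a] [QuasiCompact b] [IsSchemeTheoreticallyDominant a]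
    [IsSchemeTheoreticallyDominant b] (z : Z ⟶ S) (w : W ⟶ S) (a' : A ⟶ S) (b' : B ⟶ S)
    [Flat z] [Flat w] [Flat a'] [Flat b']
    (ha : a ≫ z = a') (hb : b ≫ w = b') (D : pullback a' b' ⟶ pullback z w)
    (h1 : D ≫ pullback.fst _ _ = pullback.fst _ _ ≫ a)
    (h2 : D ≫ pullback.snd _ _ = pullback.snd _ _ ≫ b) :
    IsSchemeTheoreticallyDominant D := by
  let D1 : pullback a' b' ⟶ pullback z b' :=
    pullback.lift (pullback.fst _ _ ≫ a) (pullback.snd _ _)
      (by rw [Category.assoc, ha]; exact pullback.condition)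
  let D2 : pullback z b' ⟶ pullback z w :=
    pullback.lift (pullback.fst _ _) (pullback.snd _ _ ≫ b)
      (by rw [Category.assoc, hb]; exact pullback.condition)
  have hD : D = D1 ≫ D2 := by
    apply pullback.hom_ext
    · rw [h1, Category.assoc, pullback.lift_fst, pullback.lift_fst]
    · rw [h2, Category.assoc, pullback.lift_snd, pullback.lift_snd_assoc]
  have p1 : IsPullback D1 (pullback.fst a' b') (pullback.fst z b') a := by
    refine IsPullback.of_right (h₁₂ := pullback.snd z b') (h₂₂ := z) (v₁₃ := b') ?_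
      (pullback.lift_fst _ _ _) (IsPullback.of_hasPullback z b').flip
    rw [pullback.lift_snd, ha]
    exact (IsPullback.of_hasPullback a' b').flip
  have p2 : IsPullback D2 (pullback.snd z b') (pullback.snd z w) b := by
    refine IsPullback.of_right (h₁₂ := pullback.fst z w) (h₂₂ := w) (v₁₃ := z) ?_
      (pullback.lift_snd _ _ _) (IsPullback.of_hasPullback z w)
    rw [pullback.lift_fst, hb]
    exact IsPullback.of_hasPullback z b'
  haveI : IsSchemeTheoreticallyDominant D1 := IsSchemeTheoreticallyDominant.of_isPullback p1.flip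
  haveI : IsSchemeTheoreticallyDominant D2 := IsSchemeTheoreticallyDominant.of_isPullback p2.flip
  rw [hD]
  infer_instance


/-- Let f : A → X and g : B → Y be quasi-compact morphisms of schemes over a field k and F = f × g : A
×_k B → X ×_k Y. Then the scheme-theoretic image of F is Z ×_k Z', where Z ⊆ X and Z' ⊆ Y are the
scheme-theoretic images of f and g: in terms of kernel ideal sheaves, ker F is the sum of the
pullback of ker f along the first projection and of ker g along the second. -/
theorem result (k : Type u) [Field k] (X : Scheme.{u}) [X.Over (Spec (CommRingCat.of k))] (Y : Scheme.{u}) [Y.Over (Spec (CommRingCat.of k))]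
    (A B : Scheme.{u}) [A.Over (Spec (CommRingCat.of k))] [B.Over (Spec (CommRingCat.of k))]
    (f : A ⟶ X) [f.IsOver (Spec (CommRingCat.of k))] [QuasiCompact f] (g : B ⟶ Y) [g.IsOver (Spec (CommRingCat.of k))] [QuasiCompact g]
    (F : pullback (A ↘ (Spec (CommRingCat.of k))) (B ↘ (Spec (CommRingCat.of k))) ⟶ pullback (X ↘ (Spec (CommRingCat.of k))) (Y ↘ (Spec (CommRingCat.of k))))
    (hF₁ : F ≫ pullback.fst (X ↘ (Spec (CommRingCat.of k))) (Y ↘ (Spec (CommRingCat.of k))) = pullback.fst (A ↘ (Spec (CommRingCat.of k))) (B ↘ (Spec (CommRingCat.of k))) ≫ f)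
    (hF₂ : F ≫ pullback.snd (X ↘ (Spec (CommRingCat.of k))) (Y ↘ (Spec (CommRingCat.of k))) = pullback.snd (A ↘ (Spec (CommRingCat.of k))) (B ↘ (Spec (CommRingCat.of k))) ≫ g) :
    F.ker = f.ker.comap (pullback.fst (X ↘ (Spec (CommRingCat.of k))) (Y ↘ (Spec (CommRingCat.of k)))) ⊔ g.ker.comap (pullback.snd (X ↘ (Spec (CommRingCat.of k))) (Y ↘ (Spec (CommRingCat.of k)))) := by
  apply le_antisymm
  · -- the factorization through the product of the images
    letI ovZ : f.image.Over (Spec (CommRingCat.of k)) := ⟨f.imageι ≫ (X ↘ (Spec (CommRingCat.of k)))⟩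
    letI ovZ' : g.image.Over (Spec (CommRingCat.of k)) := ⟨g.imageι ≫ (Y ↘ (Spec (CommRingCat.of k)))⟩
    have hfA : f.toImage ≫ (f.image ↘ (Spec (CommRingCat.of k))) = A ↘ (Spec (CommRingCat.of k)) := by
      change f.toImage ≫ f.imageι ≫ (X ↘ (Spec (CommRingCat.of k))) = _
      rw [Scheme.Hom.toImage_imageι_assoc]
      exact comp_over f _
    have hgB : g.toImage ≫ (g.image ↘ (Spec (CommRingCat.of k))) = B ↘ (Spec (CommRingCat.of k)) := by
      change g.toImage ≫ g.imageι ≫ (Y ↘ (Spec (CommRingCat.of k))) = _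
      rw [Scheme.Hom.toImage_imageι_assoc]
      exact comp_over g _
    let G : pullback (f.image ↘ (Spec (CommRingCat.of k))) (g.image ↘ (Spec (CommRingCat.of k))) ⟶
        pullback (X ↘ (Spec (CommRingCat.of k))) (Y ↘ (Spec (CommRingCat.of k))) :=
      pullback.lift (pullback.fst _ _ ≫ f.imageι) (pullback.snd _ _ ≫ g.imageι)
        (by rw [Category.assoc, Category.assoc]; exact pullback.condition)
    let D : pullback (A ↘ (Spec (CommRingCat.of k))) (B ↘ (Spec (CommRingCat.of k))) ⟶
        pullback (f.image ↘ (Spec (CommRingCat.of k))) (g.image ↘ (Spec (CommRingCat.of k))) :=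
      pullback.lift (pullback.fst _ _ ≫ f.toImage) (pullback.snd _ _ ≫ g.toImage)
        (by rw [Category.assoc, Category.assoc, hfA, hgB]; exact pullback.condition)
    haveI : IsSchemeTheoreticallyDominant D := by
      have := dominant_prod (Spec (CommRingCat.of k)) f.toImage g.toImage
        (f.image ↘ (Spec (CommRingCat.of k))) (g.image ↘ (Spec (CommRingCat.of k)))
        (A ↘ (Spec (CommRingCat.of k))) (B ↘ (Spec (CommRingCat.of k))) hfA hgB D
        (pullback.lift_fst _ _ _) (pullback.lift_snd _ _ _)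
      exact this
    have hDG : F = D ≫ G := by
      apply pullback.hom_ext
      · rw [hF₁, Category.assoc, pullback.lift_fst, pullback.lift_fst_assoc, Category.assoc,
          Scheme.Hom.toImage_imageι]
      · rw [hF₂, Category.assoc, pullback.lift_snd, pullback.lift_snd_assoc, Category.assoc,
          Scheme.Hom.toImage_imageι]
    have hkG : F.ker = G.ker := by
      rw [hDG, Scheme.Hom.ker_comp, D.ker_eq_bot, Scheme.IdealSheafData.map_bot]
    rw [hkG]
    set J := f.ker.comap (pullback.fst (X ↘ (Spec (CommRingCat.of k))) (Y ↘ (Spec (CommRingCat.of k)))) ⊔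
      g.ker.comap (pullback.snd (X ↘ (Spec (CommRingCat.of k))) (Y ↘ (Spec (CommRingCat.of k)))) with hJ
    have h1 : f.ker ≤ J.map (pullback.fst _ _) := Scheme.IdealSheafData.le_map_iff_comap_le.2 le_sup_left
    have h2 : g.ker ≤ J.map (pullback.snd _ _) := Scheme.IdealSheafData.le_map_iff_comap_le.2 le_sup_right
    let a : J.subscheme ⟶ f.image := IsClosedImmersion.lift f.imageι (J.subschemeι ≫ pullback.fst _ _)
      (by rw [Scheme.Hom.imageι, Scheme.IdealSheafData.ker_subschemeι]; exact h1)
    let b : J.subscheme ⟶ g.image := IsClosedImmersion.lift g.imageι (J.subschemeι ≫ pullback.snd _ _)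
      (by rw [Scheme.Hom.imageι, Scheme.IdealSheafData.ker_subschemeι]; exact h2)
    have ha : a ≫ f.imageι = J.subschemeι ≫ pullback.fst _ _ := IsClosedImmersion.lift_fac _ _ _
    have hb : b ≫ g.imageι = J.subschemeι ≫ pullback.snd _ _ := IsClosedImmersion.lift_fac _ _ _
    let h : J.subscheme ⟶ pullback (f.image ↘ (Spec (CommRingCat.of k))) (g.image ↘ (Spec (CommRingCat.of k))) :=
      pullback.lift a b (by
        change a ≫ f.imageι ≫ _ = b ≫ g.imageι ≫ _
        rw [reassoc_of% ha, reassoc_of% hb, pullback.condition])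
    have hh : h ≫ G = J.subschemeι := by
      apply pullback.hom_ext
      · rw [Category.assoc, pullback.lift_fst, pullback.lift_fst_assoc, ha]
      · rw [Category.assoc, pullback.lift_snd, pullback.lift_snd_assoc, hb]
    calc G.ker ≤ (h ≫ G).ker := Scheme.Hom.le_ker_comp _ _
      _ = J := by rw [hh, Scheme.IdealSheafData.ker_subschemeι]
  · apply sup_le
    · rw [← Scheme.IdealSheafData.le_map_iff_comap_le, Scheme.IdealSheafData.map_ker, hF₁]
      exact Scheme.Hom.le_ker_comp _ _
    · rw [← Scheme.IdealSheafData.le_map_iff_comap_le, Scheme.IdealSheafData.map_ker, hF₂]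
      exact Scheme.Hom.le_ker_comp _ _

end Groth.Agent.S7631
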