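import Groth.Statements.S7632
import Groth.Agent.Variety.K419.StratInd

set_option autoImplicit false
universe u
open CategoryTheory CategoryTheory.Limits AlgebraicGeometry
open Variety

namespace Groth.Agent.S7632

/-- Let X be a scheme of finite type over a field k. Then one can find a finite purely inseparable field
extension k'/k, some t ≥ 0, and a descending chain Z_0 ⊇ … ⊇ Z_t = ∅ of closed subschemes of X_{k'},
given by an increasing chain of quasi-coherent ideal sheaves I_0 ≤ … ≤ I_t = O on X_{k'}, such that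
Z_0 = (X_{k'})_red (I_0 is the ideal of nilpotents) and the open subscheme Z_i ∖ Z_{i+1} of Z_i is
smooth over k' for every i < t. -/
theorem result (k : Type u) [Field k] (X : Scheme.{u}) [X.Over (Spec (CommRingCat.of k))] [LocallyOfFiniteType (X ↘ (Spec (CommRingCat.of k)))] [QuasiCompact (X ↘ (Spec (CommRingCat.of k)))] :
    ∃ (k' : Type u) (_ : Field k') (_ : Algebra k k') (_ : FiniteDimensional k k') (_ : IsPurelyInseparable k k')
      (t : ℕ) (I : Fin (t + 1) → (Curv2.bc k X k').IdealSheafData),
      Monotone I ∧ I 0 = Scheme.IdealSheafData.vanishingIdeal ⊤ ∧ I (Fin.last t) = ⊤ ∧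
        ∀ i : Fin t,
          Smooth (((I i.castSucc).subschemeι ⁻¹ᵁ (I i.succ).support.compl).ι ≫ (I i.castSucc).subschemeι ≫ Curv2.bcSnd k X k') := by
  obtain ⟨n, hn⟩ := Groth.Agent.EtpbcA.CdFinDim.exists_dim_le (X ↘ (Spec (CommRingCat.of k)))
  have hn' : topologicalKrullDim X < ((n + 1 : ℕ) : WithBot ℕ∞) :=
    lt_of_le_of_lt hn (by exact_mod_cast Nat.lt_succ_self n)
  obtain ⟨k', _, _, h1, h2, h⟩ := K419.StratInd.strat_of_lt (n + 1) k X (X ↘ (Spec (CommRingCat.of k))) hn'
  exact ⟨k', inferInstance, inferInstance, h1, h2, h (Curv2.bc k X k') (Curv2.bcFst k X k')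
    (Curv2.bcSnd k X k') (IsPullback.of_hasPullback _ _)⟩


end Groth.Agent.S7632
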