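import Groth.Statements.S7633
import Groth.Agent.S7627
import Groth.Agent.Variety.K419.StalkLoc
import Groth.Agent.Variety.K419.CplBC
import Groth.Agent.Variety.K419.CoeffBC
import Groth.Agent.Ega4A.CplFlat
import Mathlib.AlgebraicGeometry.Geometrically.Reduced

set_option autoImplicit false
universe u
open CategoryTheory CategoryTheory.Limits AlgebraicGeometry
attribute [local instance] Curv2.stalkAlgebra Curv2.resAlgebra
open Variety

namespace Groth.Agent.S7633

open TensorProduct IsLocalRing in
theorem main (k K A B F F' : Type u) [Field k] [Field K] [CommRing A] [CommRing B] [Field F]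
    [Field F'] [Algebra k K] [Algebra k A] [Algebra k F] [Algebra K B] [Algebra K F']
    [IsLocalRing A] [IsLocalRing B] [IsNoetherianRing A] [IsNoetherianRing B]
    [Algebra A B] [IsLocalHom (algebraMap A B)] [Module.Flat A B]
    (ρ : A →+* F) (hρk : ∀ c, ρ (algebraMap k A c) = algebraMap k F c)
    (hρ : Function.Surjective ρ) (hkρ : RingHom.ker ρ = maximalIdeal A)
    (ρ' : B →+* F') (hρK : ∀ c, ρ' (algebraMap K B c) = algebraMap K F' c)
    (hρ' : Function.Surjective ρ') (hkρ' : RingHom.ker ρ' = maximalIdeal B)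
    (θ : A ⊗[k] K →+* B) (hθl : ∀ a, θ (a ⊗ₜ 1) = algebraMap A B a)
    (hθr : ∀ c, θ (1 ⊗ₜ c) = algebraMap K B c)
    (hθ : letI := θ.toAlgebra; IsLocalization.AtPrime B ((maximalIdeal B).comap θ))
    (hm : (maximalIdeal A).map (algebraMap A B) = maximalIdeal B)
    (ι : F →+* F') (hι : ∀ a, ι (ρ a) = ρ' (algebraMap A B a))
    (n m : ℕ) (g : Fin m → MvPowerSeries (Fin n) F)
    (e : (MvPowerSeries (Fin n) F ⧸ Ideal.span (Set.range g)) ≃ₐ[k] AdicCompletion (maximalIdeal A) A)
    (he : ∀ a : A, e (Ideal.Quotient.mk _ (MvPowerSeries.C (ρ a))) -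
      algebraMap A (AdicCompletion (maximalIdeal A) A) a ∈
        (maximalIdeal A).map (algebraMap A (AdicCompletion (maximalIdeal A) A))) :
    ∃ e' : (MvPowerSeries (Fin n) F' ⧸ Ideal.span (Set.range (fun j =>
        MvPowerSeries.map (σ := Fin n) ι (g j)))) ≃ₐ[K] AdicCompletion (maximalIdeal B) B,
      ∀ b : B, e' (Ideal.Quotient.mk _ (MvPowerSeries.C (ρ' b))) -
          algebraMap B (AdicCompletion (maximalIdeal B) B) b ∈
        (maximalIdeal B).map (algebraMap B (AdicCompletion (maximalIdeal B) B)) := by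
  haveI := Groth.Agent.Ega4A.CplFlat.isNoetherianRing_cpl B
  haveI := Groth.Agent.Ega4A.CplFlat.isLocalHom_cplMap A B
  haveI : IsAdicComplete (maximalIdeal (AdicCompletion (maximalIdeal B) B))
    (AdicCompletion (maximalIdeal B) B) := inferInstance
  let c := Groth.Agent.Ega4A.CplFlat.cplMap A B
  let j : B →+* AdicCompletion (maximalIdeal B) B := algebraMap B _
  haveI : IsLocalHom j := inferInstance
  let ρa : A →ₐ[k] F := { ρ with commutes' := hρk }
  let σ : F →+* AdicCompletion (maximalIdeal B) B :=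
    c.comp ((e.toRingEquiv : _ →+* AdicCompletion (maximalIdeal A) A).comp
      ((Ideal.Quotient.mk (Ideal.span (Set.range g))).comp MvPowerSeries.C))
  have hσ' : ∀ a, σ a = c (e (Ideal.Quotient.mk _ (MvPowerSeries.C a))) := fun a => rfl
  have hlin : Algebra.TensorProduct.includeLeftRingHom = (Algebra.TensorProduct.includeLeftRingHom : A →+* A ⊗[k] K) := rfl
  have hθl' : θ.comp Algebra.TensorProduct.includeLeftRingHom = algebraMap A B :=
    RingHom.ext hθl
  obtain ⟨s, hs1, hs2, hs3⟩ := K419.CoeffBC.exists_extension (k := k) (K := K) ρa hρ hkρ ρ' hρ' hkρ' θ hθ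
    (by rw [hθl', hm]) ι (fun a => by rw [hθl]; exact hι a) j σ (fun a => by
      rw [hθl]
      have h1 := Ideal.mem_map_of_mem c (he a)
      rw [map_sub] at h1
      have h2 : c (algebraMap A _ a) = j (algebraMap A B a) :=
        Groth.Agent.Ega4A.CplFlat.cplMap_algebraMap A B a
      rw [h2, Ideal.map_map] at h1
      have h3 : (maximalIdeal A).map (c.comp (algebraMap A (AdicCompletion (maximalIdeal A) A))) ≤
          maximalIdeal (AdicCompletion (maximalIdeal B) B) := by
        rw [Groth.Agent.Ega4A.CplFlat.cplMap_comp_algebraMap, ← Ideal.map_map, hm]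
        exact AdicCompletion.maximalIdeal_eq_map.ge
      exact h3 h1) (fun r => by
      rw [hθr, hσ']
      have h1 : (Ideal.Quotient.mk (Ideal.span (Set.range g)) (MvPowerSeries.C (algebraMap k F r))) =
        algebraMap k _ r := by
        rw [← MvPowerSeries.algebraMap_apply]
        rfl
      rw [h1, AlgEquiv.commutes]
      have h2 : algebraMap k (AdicCompletion (maximalIdeal A) A) r =
        algebraMap A _ (algebraMap k A r) := rfl
      rw [h2, Groth.Agent.Ega4A.CplFlat.cplMap_algebraMap]
      congr 1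
      rw [← hθl, ← hθr, Algebra.algebraMap_eq_smul_one, Algebra.algebraMap_eq_smul_one,
        TensorProduct.smul_tmul])
  obtain ⟨Φ, hΦ⟩ := K419.CplBC.exists_ringEquiv (F := F) (F' := F') n (Set.range g)
    e.toRingEquiv c (Groth.Agent.Ega4A.CplFlat.flat_cplMap A B)
    (by
      rw [Groth.Agent.Ega4A.CplFlat.map_maximalIdeal_cplMap, hm]
      exact AdicCompletion.maximalIdeal_eq_map.symm) ι s hs1 (fun b => by
      obtain ⟨b₀, hb₀⟩ : ∃ b₀ : B, b - algebraMap B _ b₀ ∈
          maximalIdeal (AdicCompletion (maximalIdeal B) B) := by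
        obtain ⟨b₀, hb₀⟩ := Submodule.Quotient.mk_surjective _ (AdicCompletion.eval (maximalIdeal B) B 1 b)
        refine ⟨b₀, ?_⟩
        have h1 : b - algebraMap B (AdicCompletion (maximalIdeal B) B) b₀ ∈
            LinearMap.ker (AdicCompletion.eval (maximalIdeal B) B 1) := by
          rw [LinearMap.mem_ker, map_sub, sub_eq_zero, ← hb₀]
          rfl
        rw [← AdicCompletion.pow_smul_top_eq_ker_eval (maximalIdeal B).fg_of_isNoetherianRing,
          Ideal.smul_top_eq_map, Submodule.restrictScalars_mem, pow_one] at h1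
        rw [AdicCompletion.maximalIdeal_eq_map]
        exact h1
      refine ⟨ρ' b₀, ?_⟩
      have h1 : b - s (ρ' b₀) = (b - j b₀) - (s (ρ' b₀) - j b₀) := by ring
      rw [h1]
      exact sub_mem hb₀ (hs3 b₀))
  have hrange : MvPowerSeries.map (σ := Fin n) ι '' Set.range g = Set.range (fun j =>
        MvPowerSeries.map (σ := Fin n) ι (g j)) := (Set.range_comp _ _).symm
  revert Φ hΦ
  rw [hrange]
  intro Φ hΦ
  refine ⟨AlgEquiv.ofRingEquiv (f := Φ) (fun r => ?_), fun b => ?_⟩
  · have h1 : (algebraMap K (MvPowerSeries (Fin n) F' ⧸ Ideal.span (Set.range (fun j =>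
        MvPowerSeries.map (σ := Fin n) ι (g j)))) r) =
        Ideal.Quotient.mk _ (MvPowerSeries.C (algebraMap K F' r)) := by
      rw [← MvPowerSeries.algebraMap_apply]
      rfl
    rw [h1, hΦ, ← hρK, ← hθr, hs2, hθr]
    rfl
  · rw [← AdicCompletion.maximalIdeal_eq_map]
    have h1 : Φ (Ideal.Quotient.mk _ (MvPowerSeries.C (ρ' b))) = s (ρ' b) := hΦ _
    change Φ (Ideal.Quotient.mk _ (MvPowerSeries.C (ρ' b))) - _ ∈ _
    rw [h1]
    exact hs3 b

open TensorProduct in
theorem isReduced_tensor (k F K : Type u) [Field k] [Field F] [Field K] [Algebra k F] [Algebra k K]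
    (h : GeometricallyReduced (Spec.map (CommRingCat.ofHom (algebraMap k F)))) :
    _root_.IsReduced (F ⊗[k] K) := by
  have h1 : IsPullback _ _ (Spec.map (CommRingCat.ofHom (algebraMap k F)))
      (Spec.map (CommRingCat.ofHom (algebraMap k K))) :=
    isPullback_SpecMap_of_isPushout _ _ _ _ (CommRingCat.isPushout_tensorProduct k F K)
  have h2 := h.geometrically_isReduced _ _ _ h1
  exact (affine_isReduced_iff _).1 h2


/-- Let X be locally of finite type over a field k, K an extension field of k, y a point of X_K with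
image x in X; assume dim O_{X, x} = dim O_{X_K, y} and that κ(x) is separable over k (Spec κ(x) →
Spec k geometrically reduced). Let e : κ(x)[[x_1, …, x_n]]/(g_1, …, g_m) ≅ O_{X, x}^∧ be a k-algebra
isomorphism onto the completion inducing the identity on residue fields (for every a in O_{X, x}, e
applied to the constant with value the residue class of a is congruent to a modulo the extended
maximal ideal). Then, viewing the g_j over κ(y) through κ(x) → κ(y), there is a K-algebra
isomorphism κ(y)[[x_1, …, x_n]]/(g_1, …, g_m) ≅ O_{X_K, y}^∧ with the same residue property. -/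
theorem result (k : Type u) [Field k] (X : Scheme.{u}) [X.Over (Spec (CommRingCat.of k))] [LocallyOfFiniteType (X ↘ (Spec (CommRingCat.of k)))]
    (K : Type u) [Field K] [Algebra k K] (y : ↥(Curv2.bc k X K))
    (hdim : ringKrullDim ↥(X.presheaf.stalk (Curv2.bcFst k X K y)) = ringKrullDim ↥((Curv2.bc k X K).presheaf.stalk y))
    (hsep : GeometricallyReduced (Spec.map (CommRingCat.ofHom (Curv2.resMap k X (Curv2.bcFst k X K y)))))
    (n m : ℕ) (g : Fin m → MvPowerSeries (Fin n) ↥(X.residueField (Curv2.bcFst k X K y)))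
    (e : (MvPowerSeries (Fin n) ↥(X.residueField (Curv2.bcFst k X K y)) ⧸ Ideal.span (Set.range g)) ≃ₐ[k]
      AdicCompletion (IsLocalRing.maximalIdeal ↥(X.presheaf.stalk (Curv2.bcFst k X K y))) ↥(X.presheaf.stalk (Curv2.bcFst k X K y)))
    (he : ∀ a : ↥(X.presheaf.stalk (Curv2.bcFst k X K y)),
      e (Ideal.Quotient.mk _ (MvPowerSeries.C ((X.residue (Curv2.bcFst k X K y)).hom a))) -
          algebraMap ↥(X.presheaf.stalk (Curv2.bcFst k X K y)) (AdicCompletion (IsLocalRing.maximalIdeal ↥(X.presheaf.stalk (Curv2.bcFst k X K y))) ↥(X.presheaf.stalk (Curv2.bcFst k X K y))) a ∈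
        (IsLocalRing.maximalIdeal ↥(X.presheaf.stalk (Curv2.bcFst k X K y))).map (algebraMap ↥(X.presheaf.stalk (Curv2.bcFst k X K y)) (AdicCompletion (IsLocalRing.maximalIdeal ↥(X.presheaf.stalk (Curv2.bcFst k X K y))) ↥(X.presheaf.stalk (Curv2.bcFst k X K y))))) :
    letI : (Curv2.bc k X K).Over (Spec (CommRingCat.of K)) := ⟨Curv2.bcSnd k X K⟩
    ∃ e' : (MvPowerSeries (Fin n) ↥((Curv2.bc k X K).residueField y) ⧸ Ideal.span (Set.range (fun j =>
        MvPowerSeries.map (σ := Fin n) ((Curv2.bcFst k X K).residueFieldMap y).hom (g j)))) ≃ₐ[K]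
          AdicCompletion (IsLocalRing.maximalIdeal ↥((Curv2.bc k X K).presheaf.stalk y)) ↥((Curv2.bc k X K).presheaf.stalk y),
      ∀ b : ↥((Curv2.bc k X K).presheaf.stalk y),
        e' (Ideal.Quotient.mk _ (MvPowerSeries.C (((Curv2.bc k X K).residue y).hom b))) -
            algebraMap ↥((Curv2.bc k X K).presheaf.stalk y) (AdicCompletion (IsLocalRing.maximalIdeal ↥((Curv2.bc k X K).presheaf.stalk y)) ↥((Curv2.bc k X K).presheaf.stalk y)) b ∈
          (IsLocalRing.maximalIdeal ↥((Curv2.bc k X K).presheaf.stalk y)).map (algebraMap ↥((Curv2.bc k X K).presheaf.stalk y) (AdicCompletion (IsLocalRing.maximalIdeal ↥((Curv2.bc k X K).presheaf.stalk y)) ↥((Curv2.bc k X K).presheaf.stalk y))) := by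
  letI ovK : (Curv2.bc k X K).Over (Spec (CommRingCat.of K)) := ⟨Curv2.bcSnd k X K⟩
  -- reducedness
  have hred : _root_.IsReduced (TensorProduct k (X.residueField (Curv2.bcFst k X K y)) K) :=
    isReduced_tensor k _ K hsep
  have hm := Groth.Agent.S7627.result k X K y hdim hred
  obtain ⟨θ, hθl, hθr, hθf, hθloc⟩ := K419.StalkLoc.exists_theta k X K y
  haveI : IsLocallyNoetherian X := LocallyOfFiniteType.isLocallyNoetherian (X ↘ (Spec (CommRingCat.of k)))
  haveI : LocallyOfFiniteType (Curv2.bcSnd k X K) := inferInstance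
  haveI : IsLocallyNoetherian (Curv2.bc k X K) :=
    LocallyOfFiniteType.isLocallyNoetherian (Curv2.bcSnd k X K)
  haveI : Flat (Curv2.bcFst k X K) := inferInstance
  letI alg : Algebra (X.presheaf.stalk (Curv2.bcFst k X K y)) ((Curv2.bc k X K).presheaf.stalk y) :=
    ((Curv2.bcFst k X K).stalkMap y).hom.toAlgebra
  haveI : Module.Flat (X.presheaf.stalk (Curv2.bcFst k X K y)) ((Curv2.bc k X K).presheaf.stalk y) :=
    Flat.stalkMap (Curv2.bcFst k X K) y
  haveI : IsLocalHom (algebraMap (X.presheaf.stalk (Curv2.bcFst k X K y)) ((Curv2.bc k X K).presheaf.stalk y)) :=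
    inferInstanceAs (IsLocalHom ((Curv2.bcFst k X K).stalkMap y).hom)
  exact main k K (X.presheaf.stalk (Curv2.bcFst k X K y)) ((Curv2.bc k X K).presheaf.stalk y) (X.residueField (Curv2.bcFst k X K y))
    ((Curv2.bc k X K).residueField y)
    (X.residue (Curv2.bcFst k X K y)).hom (fun c => rfl) (X.residue_surjective _)
    (IsLocalRing.ker_residue (R := X.presheaf.stalk (Curv2.bcFst k X K y)))
    ((Curv2.bc k X K).residue y).hom (fun c => rfl) ((Curv2.bc k X K).residue_surjective _)
    (IsLocalRing.ker_residue (R := (Curv2.bc k X K).presheaf.stalk y))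
    θ (RingHom.congr_fun hθl) (RingHom.congr_fun hθr) hθloc hm
    ((Curv2.bcFst k X K).residueFieldMap y).hom
    (fun a => RingHom.congr_fun (congrArg CommRingCat.Hom.hom
      (Scheme.residue_residueFieldMap (Curv2.bcFst k X K) y)) a)
    n m g e he

end Groth.Agent.S7633
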