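import Groth.Statements.S7639
import Groth.Agent.Models.H45.FieldConst
import Groth.Agent.S0002
import Groth.Agent.CurvesB.UnitCoh

set_option autoImplicit false
universe u
open CategoryTheory CategoryTheory.Limits AlgebraicGeometry
attribute [local instance] Curv2.resAlgebra
open Variety

namespace Groth.Agent.S7639

open Groth.Agent.CurvesC Groth.Agent.CurvesC.CurveNum

attribute [local instance] topMod in
theorem finite_top (k : Type u) [Field k] (X : Scheme.{u}) [X.Over (Spec (CommRingCat.of k))]
    [IsProper (X ↘ (Spec (CommRingCat.of k)))] : Module.Finite k (Coh.Γtop X) := by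
  have h := Groth.Agent.S0002.result k X _ (Groth.Agent.CurvesB.UnitCoh.isCoh_structureModule X) 0
  exact Module.Finite.equiv (hZeroTop k X)

/-- Let X be a proper scheme over a field k which is reduced and connected, and let κ = Γ(X, O_X). Then
κ is a field, finite over k, and w = [κ : k] divides (1) the degree of every finite locally free
module of constant rank, (2) the degree [κ(x) : k] of every closed point x, and (3) the degree dim_k
H^0(X, O_D) of every closed subscheme D of dimension zero (or empty). (The published statement uses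
the degree of E, which it defines only for X of dimension at most one; this row states (1) for the
integer χ(E) − n·χ(O_X) with no bound on the dimension of X.) -/
theorem result (k : Type u) [Field k] (X : Scheme.{u}) [X.Over (Spec (CommRingCat.of k))] [IsProper (X ↘ (Spec (CommRingCat.of k)))] [IsReduced X] [ConnectedSpace X] :
    letI : Algebra k Γ(X, ⊤) := ((X ↘ (Spec (CommRingCat.of k))).appTop.hom.comp
      (Scheme.ΓSpecIso (CommRingCat.of k)).inv.hom).toAlgebra
    IsField Γ(X, ⊤) ∧ Module.Finite k Γ(X, ⊤) ∧
      (∀ (n : ℕ) (E : X.Modules), FlatMod.IsFinLocFreeOfRank n E →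
        (Module.finrank k Γ(X, ⊤) : ℤ) ∣ Curv2.deg k X E n) ∧
      (∀ x : X, IsClosed ({x} : Set X) →
        Module.finrank k Γ(X, ⊤) ∣ Module.finrank k (X.residueField x)) ∧
      (∀ D : X.IdealSheafData, topologicalKrullDim D.subscheme ≤ 0 →
        Module.finrank k Γ(X, ⊤) ∣ Module.finrank k (Coh.HH X (ClSub.quotMod D) 0)) := by
  letI : Algebra k Γ(X, ⊤) := ((X ↘ (Spec (CommRingCat.of k))).appTop.hom.comp
      (Scheme.ΓSpecIso (CommRingCat.of k)).inv.hom).toAlgebra
  have hF : IsField Γ(X, ⊤) := Groth.Agent.Models.H45.FieldConst.isField_top k X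
  have hdvd : ∀ (M : X.Modules) (i : ℕ),
      Module.finrank k Γ(X, ⊤) ∣ Module.finrank k (Coh.HH X M i) := fun M i =>
    finrank_dvd (V := Coh.HH X M i) (R := Coh.Γtop X) hF (Coh.toGlobal (X ↘ (Spec (CommRingCat.of k))))
  have heul : ∀ M : X.Modules, (Module.finrank k Γ(X, ⊤) : ℤ) ∣ Curv2.euler k X M := by
    intro M
    unfold Curv2.euler
    refine finsum_induction (fun z => (Module.finrank k Γ(X, ⊤) : ℤ) ∣ z) (dvd_zero _)
      (fun a b ha hb => dvd_add ha hb) fun i => ?_
    exact Dvd.dvd.mul_left (Int.natCast_dvd_natCast.2 (hdvd M i)) _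
  refine ⟨hF, finite_top k X, ?_, ?_, ?_⟩
  · intro n E _
    exact dvd_sub (heul E) (Dvd.dvd.mul_left (heul _) _)
  · intro x _
    -- `κ(x)` is a vector space over the field `Γ(X, ⊤)`
    let φ : Γ(X, ⊤) →+* X.residueField x :=
      (X.residue x).hom.comp (X.presheaf.germ ⊤ x trivial).hom
    letI : Module Γ(X, ⊤) (X.residueField x) := Module.compHom (X.residueField x) φ
    exact finrank_dvd (V := X.residueField x) (R := Γ(X, ⊤)) hF
      (Coh.toGlobal (X ↘ (Spec (CommRingCat.of k))))
  · intro D _
    exact hdvd _ 0

end Groth.Agent.S7639
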