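import Groth.Statements.S7643
import Groth.Agent.S1641
import Groth.Agent.Krr.H478.EpiIso
import Groth.Agent.Krr.H487.KerRank

set_option autoImplicit false
universe u
open CategoryTheory CategoryTheory.Limits AlgebraicGeometry
open Variety

namespace Groth.Agent.S7643

open Groth.Agent.VarietyB

/-- Over a nonempty scheme the rank of a finite locally free module is unique. -/
theorem rank_unique {X : Scheme.{u}} (x : X) {n m : ℕ} {E : X.Modules}
    (h : FlatMod.IsFinLocFreeOfRank n E) (h' : FlatMod.IsFinLocFreeOfRank m E) : n = m := by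
  obtain ⟨b⟩ := Groth.Agent.Krr.H478.EpiIso.exists_basis h x
  obtain ⟨c⟩ := Groth.Agent.Krr.H478.EpiIso.exists_basis h' x
  have := (b.indexEquiv c)
  exact Fin.equiv_iff_eq.mp ⟨this⟩

/-- Let X be proper of dimension at most one over a field k and let 0 → E₁ → E₂ → E₃ → 0 be a short
exact sequence of finite locally free modules of constant ranks n₁, n₂, n₃. Then deg(E₂) = deg(E₁) +
deg(E₃). -/
theorem result (k : Type u) [Field k] (X : Scheme.{u}) [X.Over (Spec (CommRingCat.of k))] [IsProper (X ↘ (Spec (CommRingCat.of k)))]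
    (hdim : topologicalKrullDim X ≤ 1) (S : ShortComplex X.Modules) (hS : S.ShortExact)
    (n₁ n₂ n₃ : ℕ) (h₁ : FlatMod.IsFinLocFreeOfRank n₁ S.X₁) (h₂ : FlatMod.IsFinLocFreeOfRank n₂ S.X₂)
    (h₃ : FlatMod.IsFinLocFreeOfRank n₃ S.X₃) :
    Curv2.deg k X S.X₂ n₂ = Curv2.deg k X S.X₁ n₁ + Curv2.deg k X S.X₃ n₃ := by
  have hN : IsNoetherian X := DegFin.isNoetherian_of_isProper k X
  have c₁ : Coh.IsCoh S.X₁ := DegPhi.isCoh_of_hasBases (TensCoh.HasBases.of_isFinLocFreeOfRank h₁)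
  have c₂ : Coh.IsCoh S.X₂ := DegPhi.isCoh_of_hasBases (TensCoh.HasBases.of_isFinLocFreeOfRank h₂)
  have c₃ : Coh.IsCoh S.X₃ := DegPhi.isCoh_of_hasBases (TensCoh.HasBases.of_isFinLocFreeOfRank h₃)
  rcases isEmpty_or_nonempty X with hX | ⟨⟨x⟩⟩
  · have hemp : IsEmpty (irreducibleComponents (X : Type u)) :=
      ⟨fun C => hX.false C.2.1.genericPoint⟩
    rw [Groth.Agent.S1641.result k X hdim n₁ _ h₁, Groth.Agent.S1641.result k X hdim n₂ _ h₂,
      Groth.Agent.S1641.result k X hdim n₃ _ h₃]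
    rw [finsum_of_isEmpty, finsum_of_isEmpty, finsum_of_isEmpty, add_zero]
  · have hr : n₂ = n₁ + n₃ :=
      rank_unique x h₂ (Groth.Agent.Krr.H487.KerRank.isFinLocFreeOfRank_mid hS h₁ h₃)
    subst hr
    have h := Groth.Agent.S1524.result k X S hS c₁ c₂ c₃
    unfold Curv2.deg
    rw [h]
    push_cast
    ring

end Groth.Agent.S7643
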