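import Groth.Statements.S7644
import Mathlib.AlgebraicGeometry.Morphisms.Proper
import Mathlib.Topology.KrullDimension

set_option autoImplicit false
universe u
open CategoryTheory CategoryTheory.Limits AlgebraicGeometry
open Variety

namespace Groth.Agent.S7644

/-- If X is an irreducible scheme of positive dimension, separated over a field k, and x is a closed
point of X, then the open subscheme obtained by removing x is not proper over k. -/
theorem result (k : Type u) [Field k] (X : Scheme.{u}) [X.Over (Spec (CommRingCat.of k))]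
    [IsSeparated (X ↘ (Spec (CommRingCat.of k)))] [IrreducibleSpace X] (hdim : 0 < topologicalKrullDim X)
    (x : X) (hx : IsClosed ({x} : Set X)) :
    ¬ IsProper (Scheme.Opens.ι (⟨({x} : Set X)ᶜ, hx.isOpen_compl⟩ : X.Opens) ≫ (X ↘ (Spec (CommRingCat.of k)))) := by
  intro hp
  set U : X.Opens := ⟨({x} : Set X)ᶜ, hx.isOpen_compl⟩ with hU
  have h1 : IsProper U.ι := IsProper.of_comp U.ι (X ↘ (Spec (CommRingCat.of k)))
  have h2 : IsClosed (Set.range U.ι) := U.ι.isClosedMap.isClosed_range
  have h3 : Set.range U.ι = ({x} : Set X)ᶜ := Scheme.Opens.range_ι U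
  rw [h3] at h2
  have h4 : IsOpen ({x} : Set X) := by
    have := h2.isOpen_compl
    rwa [compl_compl] at this
  -- `{x}` is clopen and nonempty in a connected space
  have h5 : ({x} : Set X) = Set.univ := IsClopen.eq_univ ⟨hx, h4⟩ ⟨x, rfl⟩
  have h6 : Subsingleton X := by
    refine ⟨fun a b => ?_⟩
    have ha : a ∈ ({x} : Set X) := h5 ▸ Set.mem_univ a
    have hb : b ∈ ({x} : Set X) := h5 ▸ Set.mem_univ b
    rw [Set.mem_singleton_iff.mp ha, Set.mem_singleton_iff.mp hb]
  have h7 : topologicalKrullDim X ≤ 0 := by
    have h8 : Subsingleton (TopologicalSpace.IrreducibleCloseds X) := by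
      refine ⟨fun a b => ?_⟩
      apply TopologicalSpace.IrreducibleCloseds.ext
      rw [a.isIrreducible.nonempty.eq_univ, b.isIrreducible.nonempty.eq_univ]
    exact Order.krullDim_nonpos_of_subsingleton
  exact absurd hdim (not_lt.mpr h7)

end Groth.Agent.S7644
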