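import Groth.Statements.S7648
import Groth.Agent.Variety.K420.IntCoeff
import Groth.Agent.Variety.K420.DimDrop
import Groth.Agent.Grpsch.PicGrp

set_option autoImplicit false
universe u
open CategoryTheory CategoryTheory.Limits AlgebraicGeometry
open Variety

namespace Groth.Agent.S7648

open Groth.Agent.Fga.PicMon

/-- Let X be proper over a field k of dimension e + 1, let D ⊆ X be an effective Cartier divisor and let
L_0, L_1, …, L_e be invertible modules with L_0 ≅ O_X(D), i.e. L_0 ⊗ I_D ≅ O_X. Then (L_0 ⋯ L_e · X)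
= (L_1 ⋯ L_e · D): the coefficient of n_0⋯n_e in the polynomial computing χ(X, ⊗_j L_j^{⊗n_j})
equals the coefficient of n_1⋯n_e in the polynomial computing χ(X, O_D ⊗ L_1^{⊗n_1} ⊗ ⋯ ⊗
L_e^{⊗n_e}). (The published statement has a closed subscheme Z ⊆ X of dimension d with D ⊆ Z and
L_1|_Z ≅ O_Z(D); this row is its case Z = X.) -/
theorem result (k : Type u) [Field k] (X : Scheme.{u}) [X.Over (Spec (CommRingCat.of k))] [IsProper (X ↘ (Spec (CommRingCat.of k)))]
    (e : ℕ) (hX : topologicalKrullDim X = e + 1) (D : X.IdealSheafData) (hD : FGA.IsEffCartier D)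
    (L : Fin (e + 1) → X.Modules) (hL : ∀ j, PicF.IsInvertible (L j))
    (hLD : ClSub.IsInverseOf (L 0) (ClSub.idealMod D))
    (P : MvPolynomial (Fin (e + 1)) ℚ) (Q : MvPolynomial (Fin e) ℚ)
    (hP : ∀ n : Fin (e + 1) → ℕ, (Curv2.euler k X (Curv2.tensorPows (Coh.structureModule X) (e + 1) L n) : ℚ) = MvPolynomial.eval (fun i => (n i : ℚ)) P)
    (hQ : ∀ n : Fin e → ℕ, (Curv2.euler k X (Curv2.tensorPows (ClSub.quotMod D) e (fun j => L j.succ) n) : ℚ) = MvPolynomial.eval (fun i => (n i : ℚ)) Q) :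
    MvPolynomial.coeff (Finsupp.equivFunOnFinite.symm fun _ : Fin (e + 1) => 1) P = MvPolynomial.coeff (Finsupp.equivFunOnFinite.symm fun _ : Fin e => 1) Q := by
  have hN : IsNoetherian X := Fga.SnapperTwist.isNoetherian_of_proper k X
  have hdim : topologicalKrullDim X ≤ ((e + 1 : ℕ) : WithBot ℕ∞) := by
    rw [hX]; push_cast; rfl
  -- inverses
  choose N hN1 hN2 using fun j : Fin e => Grpsch.PicGrp.exists_inverse (hL j.succ)
  have hI : PicF.IsInvertible (ClSub.idealMod D) := by
    obtain ⟨e0⟩ := hLD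
    exact Fga.IntAdd.isInvertible_of_tensor e0
  let M : Fin (e + 1) → X.Modules := Fin.cons (ClSub.idealMod D) N
  have hM : ∀ i, PicF.IsInvertible (M i) := by
    intro i
    refine Fin.cases ?_ (fun j => ?_) i
    · exact hI
    · exact hN1 j
  have hLM : ∀ i, mc (L i) * mc (M i) = 1 := by
    intro i
    refine Fin.cases ?_ (fun j => ?_) i
    · rw [← mc_tensor, ← mc_one]
      exact (mc_eq_iff _ _).2 hLD
    · rw [← mc_tensor, ← mc_one]
      exact (mc_eq_iff _ _).2 (hN2 j)
  have hcO : Coh.IsCoh (Coh.structureModule X) := CurvesB.UnitCoh.isCoh_structureModule X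
  have hcI : Coh.IsCoh (ClSub.idealMod D) := VarietyB.DegCartier.isCoh_idealMod D
  have hcQ : Coh.IsCoh (ClSub.quotMod D) := VarietyB.DegCartier.isCoh_quotMod D
  have h1 := K420.IntCoeff.coeff_eq_intNum' k (e + 1) hdim hcO
    ((topologicalKrullDim_subspace_le X _).trans hdim) hL hM hLM hP
  have h2 := K420.IntCoeff.coeff_eq_intNum' k (e + 1) hdim hcQ
    (K420.DimDrop.dim_support_quotMod X e hdim D hD) (fun j => hL j.succ) (fun j => hN1 j)
    (fun j => hLM j.succ) hQ
  rw [h1, h2]
  have h3 := intNum_cons k X (e + 1) (ClSub.idealMod D) N (Coh.structureModule X)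
  have h4 := intNum_iso k X (e + 1) N (Ega2.Tens.runit (ClSub.idealMod D))
  have h5 := Fga.IntAdd.isAdd_intNum k X (e + 1) hdim N hN1 _
    (VarietyB.DegCartier.idealSeq_shortExact D) hcI hcO hcQ
  have h6 : FGA.intNum k X (e + 1) M (Coh.structureModule X) =
      FGA.intNum k X (e + 1) N (ClSub.quotMod D) := by
    change FGA.intNum k X (e + 1) (Fin.cons (ClSub.idealMod D) N : Fin (e + 1) → X.Modules)
      (Coh.structureModule X) = _
    rw [h3, h4]
    change FGA.intNum k X (e + 1) N (Coh.structureModule X) =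
      FGA.intNum k X (e + 1) N (ClSub.idealMod D) + FGA.intNum k X (e + 1) N (ClSub.quotMod D) at h5
    rw [h5]
    ring
  rw [h6]

end Groth.Agent.S7648
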