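import Groth.Statements.S7650
import Groth.Agent.Variety.K424.PushCoef
import Groth.Agent.CurvesC.DegIso
import Groth.Agent.Fga.HodgePush

set_option autoImplicit false
universe u
open CategoryTheory CategoryTheory.Limits AlgebraicGeometry
open Variety

namespace Groth.Agent.S7650

open Groth.Agent Groth.Agent.Fga.ChiBasic K424.LenSum K424.IntSum K424.IntCoef

variable {X : Scheme.{u}}

/-- The class of functions which are polynomials of degree `< d`. -/
def PolyLt (d r : ℕ) (f : (Fin r → ℕ) → ℤ) : Prop :=
  ∃ P : MvPolynomial (Fin r) ℚ, (∀ m ∈ P.support, (m.sum fun _ e => e) < d) ∧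
    ∀ n : Fin r → ℕ, (f n : ℚ) = MvPolynomial.eval (fun i => (n i : ℚ)) P

theorem polyLt_zero (d r : ℕ) : PolyLt d r 0 := ⟨0, by simp, fun n => by simp⟩

theorem polyLt_add {d r : ℕ} {f g : (Fin r → ℕ) → ℤ} (hf : PolyLt d r f) (hg : PolyLt d r g) :
    PolyLt d r (f + g) := by
  obtain ⟨P, hP, hP'⟩ := hf
  obtain ⟨Q, hQ, hQ'⟩ := hg
  refine ⟨P + Q, fun m hm => ?_, fun n => ?_⟩
  · rcases Finset.mem_union.mp (MvPolynomial.support_add hm) with h | h
    · exact hP m h
    · exact hQ m h
  · rw [Pi.add_apply, Int.cast_add, hP', hQ', map_add]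

theorem polyLt_neg {d r : ℕ} {f : (Fin r → ℕ) → ℤ} (hf : PolyLt d r f) : PolyLt d r (-f) := by
  obtain ⟨P, hP, hP'⟩ := hf
  refine ⟨-P, fun m hm => hP m ?_, fun n => ?_⟩
  · rwa [MvPolynomial.support_neg] at hm
  · rw [Pi.neg_apply, Int.cast_neg, hP', map_neg]

theorem polyLt_sub {d r : ℕ} {f g : (Fin r → ℕ) → ℤ} (hf : PolyLt d r f) (hg : PolyLt d r g) :
    PolyLt d r (f - g) := by
  rw [sub_eq_add_neg]
  exact polyLt_add hf (polyLt_neg hg)

/-- `χ(F ⊗ L^n) - Σ_ξ length(F_ξ) χ(O_{closure ξ} ⊗ L^n)`. -/
noncomputable def dif (χ : X.Modules → ℤ) {r : ℕ} (L : Fin r → X.Modules) (d : ℕ) (F : X.Modules)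
    (n : Fin r → ℕ) : ℤ :=
  χ (Curv2.tensorPows F r L n) -
    lenSum d (fun ξ => χ (Curv2.tensorPows (ClSub.quotMod (vI ξ)) r L n)) F

theorem dif_add [IsNoetherian X] {χ : X.Modules → ℤ} (hχ : IsAdd χ) {r : ℕ} (L : Fin r → X.Modules)
    (hL : ∀ i, PicF.IsInvertible (L i)) (d : ℕ) {T : Set X} (hT : IsClosed T)
    (hd : topologicalKrullDim T ≤ d) (S : ShortComplex X.Modules) (hS : S.ShortExact)
    (h₁ : Coh.IsCoh S.X₁) (h₂ : Coh.IsCoh S.X₂) (h₃ : Coh.IsCoh S.X₃) (hsupp : CohB1.support S.X₂ ⊆ T) :
    dif χ L d S.X₂ = dif χ L d S.X₁ + dif χ L d S.X₃ := by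
  funext n
  have e1 := isAdd_tensorPows hχ L hL n S hS h₁ h₂ h₃
  have e2 := lenSum_add d (fun ξ => χ (Curv2.tensorPows (ClSub.quotMod (vI ξ)) r L n)) hT hd S hS h₁ h₂ h₃ hsupp
  rw [Pi.add_apply]
  unfold dif
  simp only at e1
  rw [e1, e2]
  ring

theorem chi_iso' {χ : X.Modules → ℤ} (hχ : IsAdd χ) {M N : X.Modules} (e : M ≅ N) (hM : Coh.IsCoh M) :
    χ M = χ N := chi_iso hχ e hM

theorem polyLt_dif [IsNoetherian X] {χ : X.Modules → ℤ} (hχ : IsAdd χ) {r : ℕ} (L : Fin r → X.Modules)
    (hL : ∀ i, PicF.IsInvertible (L i)) (d : ℕ) (F : X.Modules) (hF : Coh.IsCoh F)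
    (hd : topologicalKrullDim (CohB1.support F) ≤ d) : PolyLt d r (dif χ L d F) := by
  have hT : IsClosed (CohB1.support F) := Ega3B.Devissage.isClosed_support hF
  refine Ega3B.Devissage.devissage (CohB1.support F) hT (fun M => PolyLt d r (dif χ L d M)) ?_ ?_ ?_ F hF subset_rfl
  · intro M hM
    have he : CohB1.support M = ∅ := CohqB.DevSupport.support_eq_empty_of_isZero hM
    have h0 : dif χ L d M = 0 := by
      funext n
      have h1 : χ (Curv2.tensorPows M r L n) = 0 := chi_isZero (isAdd_tensorPows hχ L hL n) hM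
      unfold dif
      rw [h1]
      unfold lenSum
      rw [finsum_eq_zero_of_forall_eq_zero]
      · simp
      · intro ξ
        exact term_eq_zero_of_notMem d _ M ξ (by rw [he]; exact Set.notMem_empty ξ)
    rw [h0]
    exact polyLt_zero d r
  · intro S hS h1 h2 h3 hsupp
    have e := dif_add hχ L hL d hT hd S hS h1 h2 h3 hsupp
    refine ⟨fun ha hb => ?_, fun ha hb => ?_, fun ha hb => ?_⟩
    · dsimp only at *
      have : dif χ L d S.X₃ = dif χ L d S.X₂ - dif χ L d S.X₁ := by rw [e]; ring
      rw [this]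
      exact polyLt_sub hb ha
    · dsimp only at *
      rw [e]
      exact polyLt_add ha hb
    · dsimp only at *
      have : dif χ L d S.X₁ = dif χ L d S.X₂ - dif χ L d S.X₃ := by rw [e]; ring
      rw [this]
      exact polyLt_sub ha hb
  · intro y hy
    have hyT : closure {y} ⊆ CohB1.support F := closure_minimal (Set.singleton_subset_iff.mpr hy) hT
    let G := ClSub.quotMod (vI y)
    have hG : Coh.IsCoh G := isCoh_quotMod _
    have hGs : CohB1.support G ⊆ closure {y} := support_quotMod_vI y
    refine ⟨G, hG, ?_, hGs, Module.length_eq_one_iff.mp (length_quotMod_vI y)⟩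
    change PolyLt d r (dif χ L d G)
    by_cases hyd : topologicalKrullDim (closure ({y} : Set X)) = (d : WithBot ℕ∞)
    · have h0 : dif χ L d G = 0 := by
        funext n
        unfold dif lenSum
        rw [finsum_eq_single _ y]
        · unfold term
          rw [if_pos hyd, length_quotMod_vI]
          simp [G]
        · intro ξ hξ
          by_cases hξd : topologicalKrullDim (closure ({ξ} : Set X)) = (d : WithBot ℕ∞)
          · refine term_eq_zero_of_notMem d _ G ξ fun hmem => ?_
            have h1 : y ⤳ ξ := specializes_iff_mem_closure.mpr (hGs hmem)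
            exact hξ (eq_of_specializes hT hd hy hξd h1).symm
          · exact term_eq_zero_of_dim d _ G ξ hξd
      rw [h0]
      exact polyLt_zero d r
    · have hylt : topologicalKrullDim (closure ({y} : Set X)) < (d : WithBot ℕ∞) :=
        lt_of_le_of_ne ((Fga.DimLt.topologicalKrullDim_mono hyT).trans hd) hyd
      have h0 : ∀ n, lenSum d (fun ξ => χ (Curv2.tensorPows (ClSub.quotMod (vI ξ)) r L n)) G = 0 := by
        intro n
        unfold lenSum
        rw [finsum_eq_zero_of_forall_eq_zero]
        intro ξ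
        by_cases hξd : topologicalKrullDim (closure ({ξ} : Set X)) = (d : WithBot ℕ∞)
        · refine term_eq_zero_of_notMem d _ G ξ fun hmem => ?_
          have h1 : closure {ξ} ⊆ closure {y} :=
            closure_minimal (Set.singleton_subset_iff.mpr (hGs hmem)) isClosed_closure
          have h2 := Fga.DimLt.topologicalKrullDim_mono h1
          rw [hξd] at h2
          exact absurd hylt (not_lt.mpr h2)
        · exact term_eq_zero_of_dim d _ G ξ hξd
      have hGd : topologicalKrullDim (CohB1.support G) < (d : WithBot ℕ∞) :=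
        lt_of_le_of_lt (Fga.DimLt.topologicalKrullDim_mono hGs) hylt
      rcases Nat.eq_zero_or_pos d with rfl | hpos
      · exfalso
        have : Nonempty (closure ({y} : Set X)) := ⟨⟨y, subset_closure rfl⟩⟩
        have h1 : (0 : WithBot ℕ∞) ≤ topologicalKrullDim (closure ({y} : Set X)) := by
          have : Nonempty (TopologicalSpace.IrreducibleCloseds (closure ({y} : Set X))) :=
            ⟨⟨closure {Classical.arbitrary _}, isIrreducible_singleton.closure, isClosed_closure⟩⟩
          exact Order.krullDim_nonneg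
        exact absurd hylt (not_lt.mpr (by exact_mod_cast h1))
      · obtain ⟨e, rfl⟩ : ∃ e, d = e + 1 := ⟨d - 1, by omega⟩
        have hd' : topologicalKrullDim (CohB1.support G) ≤ (e : ℕ) := by
          rw [Nat.cast_add, Nat.cast_one] at hGd
          exact ENat.WithBot.lt_add_one_iff.mp hGd
        obtain ⟨P, hdeg, hP⟩ := exists_poly hχ L hL G hG e hd'
        refine ⟨P, fun m hm => ?_, fun n => ?_⟩
        · exact Nat.lt_succ_of_le ((MvPolynomial.le_totalDegree hm).trans hdeg)
        · unfold dif
          rw [h0, sub_zero]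
          exact hP n

/-- `χ(Z, (i^*L)^n) = χ(X, O_Z ⊗ L^n)`. -/
theorem euler_sub (k : Type u) [Field k] (X : Scheme.{u}) [X.Over (Spec (CommRingCat.of k))]
    (D : X.IdealSheafData) {r : ℕ} (L : Fin r → X.Modules) (hL : ∀ i, PicF.IsInvertible (L i)) (n : Fin r → ℕ) :
    @Curv2.euler k _ D.subscheme ⟨D.subschemeι ≫ (X ↘ (Spec (CommRingCat.of k)))⟩
      (Curv2.tensorPows (Coh.structureModule D.subscheme) r
        (fun i => (Scheme.Modules.pullback D.subschemeι).obj (L i)) n) =
    Curv2.euler k X (Curv2.tensorPows (ClSub.quotMod D) r L n) := by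
  let _ : D.subscheme.Over (Spec (CommRingCat.of k)) := ⟨D.subschemeι ≫ (X ↘ (Spec (CommRingCat.of k)))⟩
  rw [← CurvesC.DegIso.euler_push k D.subschemeι rfl]
  obtain ⟨e1⟩ := K424.PushCoef.tensorPows_pull_iso D.subschemeι (Coh.structureModule D.subscheme) L hL n
  obtain ⟨e3⟩ := K424.PushCoef.tensorPows_iso_tw (ClSub.quotMod D) L n
  have hb := Fga.HodgePush.hasBases_of_isInvertible (K424.PushCoef.isInvertible_tw L hL n)
  exact CurvesC.DegIso.euler_congr k ((Scheme.Modules.pushforward D.subschemeι).mapIso e1 ≪≫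
    (VarietyB.ProjForm.projIso D.subschemeι hb (Coh.structureModule D.subscheme)).symm ≪≫ e3.symm)

/-- Let X be proper over a field k, F a coherent module with dim Supp(F) = d and L_1, …, L_r invertible
modules. The Euler characteristic of F twisted by L_1^{⊗n_1} ⊗ ⋯ ⊗ L_r^{⊗n_r}, minus the sum over
the d-dimensional irreducible components Z of Supp(F) of the length of F at the generic point of Z
times the Euler characteristic on Z of the restricted twist, agrees with a rational polynomial in
the exponents each of whose monomials has total degree less than d. Here the sum is written over all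
points ξ of X whose closure has dimension d (the term vanishes unless ξ is the generic point of a
d-dimensional component of Supp(F)), and Z_ξ carries its reduced induced structure. (The published
statement lets the exponents range over all integers; this row takes them in ℕ.) -/
theorem result (k : Type u) [Field k] (X : Scheme.{u}) [X.Over (Spec (CommRingCat.of k))] [IsProper (X ↘ (Spec (CommRingCat.of k)))]
    (F : X.Modules) (hF : Coh.IsCoh F) (d : ℕ) (hd : topologicalKrullDim (CohB1.support F) = d)
    (r : ℕ) (L : Fin r → X.Modules) (hL : ∀ i, PicF.IsInvertible (L i)) :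
    ∃ P : MvPolynomial (Fin r) ℚ, (∀ m ∈ P.support, (m.sum fun _ e => e) < d) ∧
      ∀ n : Fin r → ℕ,
        (Curv2.euler k X (Curv2.tensorPows F r L n) : ℚ) -
          ∑ᶠ ξ : X, (if topologicalKrullDim (closure ({ξ} : Set X)) = (d : WithBot ℕ∞) then
            ((Module.length (X.presheaf.stalk ξ) (F.presheaf.stalk ξ)).toNat : ℚ) *
              (@Curv2.euler k _
                (Scheme.IdealSheafData.vanishingIdeal (⟨closure ({ξ} : Set X), isClosed_closure⟩ : TopologicalSpace.Closeds X)).subscheme
                ⟨(Scheme.IdealSheafData.vanishingIdeal (⟨closure ({ξ} : Set X), isClosed_closure⟩ : TopologicalSpace.Closeds X)).subschemeι ≫ (X ↘ (Spec (CommRingCat.of k)))⟩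
                (Curv2.tensorPows
                  (Coh.structureModule (Scheme.IdealSheafData.vanishingIdeal (⟨closure ({ξ} : Set X), isClosed_closure⟩ : TopologicalSpace.Closeds X)).subscheme)
                  r (fun i => (Scheme.Modules.pullback
                    (Scheme.IdealSheafData.vanishingIdeal (⟨closure ({ξ} : Set X), isClosed_closure⟩ : TopologicalSpace.Closeds X)).subschemeι).obj (L i)) n) : ℚ)
            else 0)
          = MvPolynomial.eval (fun i => (n i : ℚ)) P := by
  have hNoe := Fga.SnapperTwist.isNoetherian_of_proper k X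
  obtain ⟨P, hP, hP'⟩ := polyLt_dif (K424.PushCoef.isAdd_euler k X) L hL d F hF hd.le
  refine ⟨P, hP, fun n => ?_⟩
  rw [← hP' n]
  unfold dif lenSum
  rw [Int.cast_sub]
  congr 1
  rw [show ((∑ᶠ ξ : X, term d (fun ξ => Curv2.euler k X (Curv2.tensorPows (ClSub.quotMod (vI ξ)) r L n)) F ξ : ℤ) : ℚ) =
    ∑ᶠ ξ : X, ((term d (fun ξ => Curv2.euler k X (Curv2.tensorPows (ClSub.quotMod (vI ξ)) r L n)) F ξ : ℤ) : ℚ) from
    (Int.castAddHom ℚ).map_finsum_of_injective Int.cast_injective _]
  refine finsum_congr fun ξ => ?_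
  unfold term
  by_cases hξ : topologicalKrullDim (closure ({ξ} : Set X)) = (d : WithBot ℕ∞)
  · rw [if_pos hξ, if_pos hξ, euler_sub k X (vI ξ) L hL n]
    push_cast
    rfl
  · rw [if_neg hξ, if_neg hξ, Int.cast_zero]

end Groth.Agent.S7650
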