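import Groth.Statements.S7651
import Groth.Agent.Variety.K421.DimOne
import Mathlib.Algebra.Group.Pi.Units
import Groth.Agent.CalgB.DepthLite

set_option autoImplicit false
universe u
open CategoryTheory CategoryTheory.Limits AlgebraicGeometry
open Variety

namespace Groth.Agent.S7651

/-- Let (A, m) be a Noetherian local ring of dimension one and f ∈ m. Then (1) m = √(f), (2) f lies in
no minimal prime of A, and (3) A_f ≅ ∏_{p minimal} A_p as A-algebras, are equivalent; such an f
exists; if A has depth one, for instance if A is reduced, they are also equivalent to (4) f is a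
nonzerodivisor and to (5) A → A_f is the localization of A at all its nonzerodivisors; and if A is
reduced they are also equivalent to (6) A_f ≅ ∏_{p minimal} κ(p) as A-algebras. -/
theorem result (A : Type u) [CommRing A] [IsLocalRing A]
    [IsNoetherianRing A] (hdim : ringKrullDim A = 1) :
    (∃ f ∈ IsLocalRing.maximalIdeal A, ∀ p ∈ minimalPrimes A, f ∉ p) ∧
    ∀ f ∈ IsLocalRing.maximalIdeal A,
      ((IsLocalRing.maximalIdeal A = (Ideal.span {f}).radical) ↔ (∀ p ∈ minimalPrimes A, f ∉ p)) ∧
      ((∀ p ∈ minimalPrimes A, f ∉ p) ↔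
        Nonempty (Localization.Away f ≃ₐ[A] (∀ p : {p : PrimeSpectrum A // p.asIdeal ∈ minimalPrimes A}, Localization.AtPrime p.1.asIdeal))) ∧
      ((LocCoh.depth A A = 1 ∨ IsReduced A) →
        ((∀ p ∈ minimalPrimes A, f ∉ p) ↔ f ∈ nonZeroDivisors A) ∧
        ((∀ p ∈ minimalPrimes A, f ∉ p) ↔ IsLocalization (nonZeroDivisors A) (Localization.Away f))) ∧
      (IsReduced A →
        ((∀ p ∈ minimalPrimes A, f ∉ p) ↔
          Nonempty (Localization.Away f ≃ₐ[A] (∀ p : {p : PrimeSpectrum A // p.asIdeal ∈ minimalPrimes A}, p.1.asIdeal.ResidueField)))) := by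
  refine ⟨K421.DimOne.exists_mem_forall_notMem hdim, fun f hfm => ?_⟩
  refine ⟨K421.DimOne.radical_eq_iff hdim hfm, ?_, ?_, ?_⟩
  · constructor
    · exact K421.DimOne.nonempty_algEquiv_pi hdim hfm
    · rintro ⟨e⟩ p hp hfp
      have h1 : IsUnit (algebraMap A (Localization.Away f) f) := IsLocalization.Away.algebraMap_isUnit f
      have h2 := h1.map e
      rw [AlgEquiv.commutes] at h2
      have h3 := Pi.isUnit_iff.mp h2 ⟨⟨p, hp.1.1⟩, hp⟩
      have h4 : IsUnit (algebraMap A (@Localization.AtPrime A _ p hp.1.1) f) := h3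
      have := hp.1.1
      rw [IsLocalization.AtPrime.isUnit_to_map_iff _ p] at h4
      exact h4 hfp
  · intro h
    have hnzd : (∀ p ∈ minimalPrimes A, f ∉ p) → f ∈ nonZeroDivisors A := by
      intro hf
      rcases h with h | h
      · refine K421.DimOne.mem_nonZeroDivisors_of_depth hdim ?_ hf
        exact (Groth.Agent.CalgB.DepthLite.one_le_depth_iff (M := A)).mp h.ge
      · exact K421.DimOne.mem_nonZeroDivisors_of_isReduced hf
    refine ⟨⟨hnzd, K421.DimOne.notMem_of_mem_nonZeroDivisors⟩, ?_, ?_⟩
    · intro hf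
      exact K421.DimOne.isLocalization_of_nonZeroDivisor hdim hfm (hnzd hf) _
    · intro hloc
      exact K421.DimOne.notMem_of_mem_nonZeroDivisors (K421.DimOne.mem_nonZeroDivisors_of_isLocalization (Localization.Away f))
  · intro hred
    constructor
    · intro hf
      obtain ⟨e⟩ := K421.DimOne.nonempty_algEquiv_pi hdim hfm hf
      exact ⟨e.trans (AlgEquiv.piCongrRight fun p =>
        (K421.DimOne.nonempty_residueField_algEquiv p.1.asIdeal p.2).some)⟩
    · rintro ⟨e⟩ p hp hfp
      have h1 : IsUnit (algebraMap A (Localization.Away f) f) := IsLocalization.Away.algebraMap_isUnit f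
      have h2 := h1.map e
      rw [AlgEquiv.commutes] at h2
      have h3 := Pi.isUnit_iff.mp h2 ⟨⟨p, hp.1.1⟩, hp⟩
      have := hp.1.1
      have h4 : IsUnit (algebraMap A p.ResidueField f) := h3
      rw [Ideal.algebraMap_residueField_eq_zero.mpr hfp] at h4
      exact not_isUnit_zero h4

end Groth.Agent.S7651
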