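import Groth.Statements.S7653
import Groth.Agent.Variety.K421.NormCl

set_option autoImplicit false
universe u
open CategoryTheory CategoryTheory.Limits AlgebraicGeometry
open Variety

namespace Groth.Agent.S7653

/-- For a reduced local Nagata ring A of Krull dimension one, the δ-invariant of A is zero exactly when
A is a DVR (in particular a domain). -/
theorem result (A : Type u) [CommRing A] [IsLocalRing A]
    [IsReduced A] (hN : CAlg.IsNagata A) (hdim : ringKrullDim A = 1) :
    Curv2.deltaInv A = 0 ↔ ∃ _ : IsDomain A, IsDiscreteValuationRing A := by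
  have hNoeth : IsNoetherianRing A := hN.1
  rw [K421.NormCl.deltaInv_eq_zero_iff]
  constructor
  · intro hic
    have hdom := K421.NormCl.isDomain_of_isLocalRing A
    refine ⟨hdom, ?_⟩
    have hnf : ¬ IsField A := by
      intro h
      rw [ringKrullDim_eq_zero_of_isField h] at hdim
      exact zero_ne_one hdim
    have h3 : IsIntegrallyClosed A ∧ ∃! P : Ideal A, P ≠ ⊥ ∧ P.IsPrime := by
      refine ⟨hic, IsLocalRing.maximalIdeal A, ⟨?_, inferInstance⟩, fun P hP => ?_⟩
      · intro h
        exact hnf (IsLocalRing.isField_iff_maximalIdeal_eq.mpr h)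
      · have hPp := hP.2
        rcases K421.DimOne.mem_minimalPrimes_or hdim P hP.2 with h | h
        · exact absurd (le_bot_iff.mp (h.2 ⟨Ideal.isPrime_bot, le_rfl⟩ bot_le)) hP.1
        · exact h
    exact ((IsDiscreteValuationRing.TFAE A hnf).out 3 0).mp h3
  · rintro ⟨h, h'⟩
    infer_instance

end Groth.Agent.S7653
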