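import Groth.Statements.S7656
import Groth.Agent.Variety.K421.GeoBranchBC
import Groth.Agent.VarietyA.StalkBC

set_option autoImplicit false
universe u
open CategoryTheory CategoryTheory.Limits AlgebraicGeometry
open Variety

namespace Groth.Agent.S7656

open Groth.Agent.VarietyA.StalkBC TensorProduct in
theorem aux (k : Type u) [Field k] {X : Scheme.{u}} (f : X ⟶ Spec (CommRingCat.of k)) (K : Type u) [Field K] [Algebra k K]
    (x : X) (y : ↥(pullback f (Spec.map (CommRingCat.ofHom (algebraMap k K)))))
    (hy : (pullback.fst f (Spec.map (CommRingCat.ofHom (algebraMap k K)))) y = x) :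
    Brnch.numGeomBranches (X.presheaf.stalk x) =
      Brnch.numGeomBranches ((pullback f (Spec.map (CommRingCat.ofHom (algebraMap k K)))).presheaf.stalk y) := by
  let _ : Algebra k (X.presheaf.stalk x) := (stalkRingHom f x).toAlgebra
  have h : algebraMap k (X.presheaf.stalk x) = stalkRingHom f x := rfl
  obtain ⟨q, rfl, hq2⟩ := exists_specTensorTo_eq f K x h y hy
  rw [K421.GeoBranchBC.numGeomBranches_congr (stalkEquiv f K x h q)]
  exact (K421.GeoBranchBC.numGeomBranches_baseChange k (X.presheaf.stalk x) K q.asIdeal hq2).symm

/-- For X locally of finite type over a field k, a field extension K/k and a point y of X_K over x ∈ X,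
the local rings of X at x and of X_K at y have the same number of geometric branches. -/
theorem result (k : Type u) [Field k] (X : Scheme.{u}) [X.Over (Spec (CommRingCat.of k))]
    [LocallyOfFiniteType (X ↘ (Spec (CommRingCat.of k)))] (K : Type u) [Field K] [Algebra k K]
    (y : ↥(Curv2.bc k X K)) :
    Brnch.numGeomBranchesAt X ((Curv2.bcFst k X K).base y) =
      Brnch.numGeomBranchesAt (Curv2.bc k X K) y := by
  exact aux k (X ↘ (Spec (CommRingCat.of k))) K _ y rfl

end Groth.Agent.S7656
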