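import Groth.Statements.S7661
-- import your own Groth.Agent.* helpers here

set_option autoImplicit false
universe u
open CategoryTheory CategoryTheory.Limits AlgebraicGeometry
open Variety

namespace Groth.Agent.S7661

/-- Coset avoidance: if `I` lies in none of the primes of `s`, every coset of `I` has an element
outside all primes of `s`. -/
theorem coset_avoid {A : Type*} [CommRing A] (I : Ideal A) (n : ℕ) :
    ∀ (s : Finset (Ideal A)) (_ : s.card = n) (_ : ∀ p ∈ s, p.IsPrime) (_ : ∀ p ∈ s, ¬ I ≤ p) (f : A),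
      ∃ g ∈ I, ∀ p ∈ s, f + g ∉ p := by
  classical
  induction n with
  | zero =>
    intro s hc _ _ f
    rw [Finset.card_eq_zero] at hc
    subst hc
    exact ⟨0, I.zero_mem, by simp⟩
  | succ n ih =>
    intro s hc hs hI f
    have hne : s.Nonempty := by
      rw [← Finset.card_pos]; omega
    obtain ⟨p, hp⟩ := s.exists_minimal hne
    obtain ⟨g, hgI, hg⟩ := ih (s.erase p) (by rw [Finset.card_erase_of_mem hp.1]; omega)
      (fun q hq => hs q (Finset.mem_of_mem_erase hq)) (fun q hq => hI q (Finset.mem_of_mem_erase hq)) f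
    by_cases hfp : f + g ∈ p
    · have hpp := hs p hp.1
      have h1 : ¬ I * ∏ q ∈ s.erase p, q ≤ p := by
        intro hle
        rcases hpp.mul_le.mp hle with h | h
        · exact hI p hp.1 h
        · obtain ⟨q, hq, hqp⟩ := (Ideal.IsPrime.prod_le hpp).mp h
          have hqs := Finset.mem_of_mem_erase hq
          exact (Finset.ne_of_mem_erase hq) (le_antisymm hqp (hp.2 hqs hqp))
      obtain ⟨x, hx, hxp⟩ := Set.not_subset.mp h1
      have hx' : x ∈ I * ∏ q ∈ s.erase p, q := hx
      have hxI : x ∈ I := (Ideal.mul_le_left : I * ∏ q ∈ s.erase p, q ≤ I) hx'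
      have hxP : x ∈ ∏ q ∈ s.erase p, q := (Ideal.mul_le_right : I * ∏ q ∈ s.erase p, q ≤ _) hx'
      refine ⟨g + x, I.add_mem hgI hxI, fun q hq => ?_⟩
      by_cases hqp : q = p
      · subst hqp
        intro hmem
        apply hxp
        have := q.sub_mem hmem hfp
        rwa [show f + (g + x) - (f + g) = x by ring] at this
      · have hq' : q ∈ s.erase p := Finset.mem_erase.mpr ⟨hqp, hq⟩
        have hxq : x ∈ q :=
          (Ideal.prod_le_inf.trans (Finset.inf_le hq') : (∏ q ∈ s.erase p, q) ≤ q) hxP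
        intro hmem
        apply hg q hq'
        have := q.sub_mem hmem hxq
        rwa [show f + (g + x) - x = f + g by ring] at this
    · refine ⟨g, hgI, fun q hq => ?_⟩
      by_cases hqp : q = p
      · subst hqp; exact hfp
      · exact hg q (Finset.mem_erase.mpr ⟨hqp, hq⟩)

/-- Let A be a ring, I an ideal, p_1, …, p_r prime ideals with I ⊄ p_i for all i, and let f̄ ∈ A/I. Then
f̄ lifts to an element f ∈ A with f ∉ p_i for all i. -/
theorem result (A : Type u) [CommRing A] (I : Ideal A)
    (s : Finset (Ideal A)) (hs : ∀ p ∈ s, p.IsPrime) (hI : ∀ p ∈ s, ¬ I ≤ p) (fbar : A ⧸ I) :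
    ∃ f : A, Ideal.Quotient.mk I f = fbar ∧ ∀ p ∈ s, f ∉ p := by
  obtain ⟨f, rfl⟩ := Ideal.Quotient.mk_surjective fbar
  obtain ⟨g, hg, hgs⟩ := coset_avoid I s.card s rfl hs hI f
  refine ⟨f + g, ?_, hgs⟩
  rw [map_add, Ideal.Quotient.eq_zero_iff_mem.mpr hg, add_zero]

end Groth.Agent.S7661
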