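import Groth.Statements.S7662
import Groth.Agent.Variety.K422.AffineUnion

set_option autoImplicit false
universe u
open CategoryTheory CategoryTheory.Limits AlgebraicGeometry
open Variety

namespace Groth.Agent.S7662

/-- Let X be a scheme with finitely many irreducible components Z_1, …, Z_t and T ⊆ X a finite set of
points such that, for each i, some affine open of Z_i with its reduced closed subscheme structure
contains the points of T on Z_i. Then some affine open of X contains every point of T. -/
theorem result (X : Scheme.{u})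
    (hX : (irreducibleComponents (X : Type u)).Finite) (T : Finset X)
    (h : ∀ (Z : Set X) (hZ : Z ∈ irreducibleComponents (X : Type u)),
      ∃ V : (Scheme.IdealSheafData.vanishingIdeal
          (⟨Z, isClosed_of_mem_irreducibleComponents Z hZ⟩ : TopologicalSpace.Closeds X)).subscheme.Opens,
        IsAffineOpen V ∧ ∀ t ∈ T, t ∈ Z → t ∈ (Scheme.IdealSheafData.vanishingIdeal
          (⟨Z, isClosed_of_mem_irreducibleComponents Z hZ⟩ : TopologicalSpace.Closeds X)).subschemeι.base '' (V : Set _)) :
    ∃ U : X.Opens, IsAffineOpen U ∧ ∀ t ∈ T, t ∈ U := by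
  apply K422.AffineUnion.exists_affineOpen_of_P_univ (T : Set X)
  rw [← sUnion_irreducibleComponents]
  refine K422.AffineUnion.P_sUnion (T : Set X) T.finite_toSet _ hX
    (fun Z hZ => isClosed_of_mem_irreducibleComponents Z hZ) (fun Z hZ => ?_)
  obtain ⟨V, hV, hTV⟩ := h Z hZ
  have hr : Set.range (Scheme.IdealSheafData.vanishingIdeal
      (⟨Z, isClosed_of_mem_irreducibleComponents Z hZ⟩ : TopologicalSpace.Closeds X)).subschemeι = Z := by
    rw [Scheme.IdealSheafData.range_subschemeι, Scheme.IdealSheafData.coe_support_vanishingIdeal]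
    rfl
  obtain ⟨O, hO⟩ := K422.AffineUnion.exists_open (Scheme.IdealSheafData.vanishingIdeal
      (⟨Z, isClosed_of_mem_irreducibleComponents Z hZ⟩ : TopologicalSpace.Closeds X)).subschemeι Z ⊤
      (by rw [hr]; simp) V
  refine ⟨V, V.ι ≫ (Scheme.IdealSheafData.vanishingIdeal
      (⟨Z, isClosed_of_mem_irreducibleComponents Z hZ⟩ : TopologicalSpace.Closeds X)).subschemeι, O,
      hV, inferInstance, ?_, ?_⟩
  · rw [K422.AffineUnion.range_ι_comp, hO]
  · rintro t ⟨ht, htZ⟩
    have h1 := hTV t ht htZ
    erw [hO] at h1
    exact h1.2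

end Groth.Agent.S7662
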