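import Groth.Statements.S7663
import Groth.Agent.VarietyB.KrullAkizuki
import Groth.Agent.VarietyB.SemilocalDedekind
import Mathlib.RingTheory.Valuation.LocalSubring
import Mathlib.RingTheory.DiscreteValuationRing.TFAE

set_option autoImplicit false
universe u
open CategoryTheory CategoryTheory.Limits AlgebraicGeometry
open Variety

namespace Groth.Agent.S7663

/-- Let K be a field and A, B ⊆ K subrings with fraction field K, with A Noetherian of dimension one.
Then A ⊗ B → K is not surjective (equivalently, the subring generated by A and B is not K) if and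
only if some discrete valuation ring O ⊆ K with fraction field K contains both A and B. -/
theorem result (K : Type u) [Field K]
    (A : Subring K) [IsFractionRing A K] (B : Subring K) [IsFractionRing B K] [IsNoetherianRing A] (hdim : ringKrullDim A = 1) :
    A ⊔ B ≠ ⊤ ↔ ∃ O : ValuationSubring K, IsDiscreteValuationRing O ∧ A ≤ O.toSubring ∧ B ≤ O.toSubring := by
  constructor
  · intro h
    obtain ⟨x, hx⟩ : ∃ x : K, x ∉ A ⊔ B := by
      by_contra hcon
      push Not at hcon
      exact h (top_le_iff.mp fun x _ => hcon x)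
    obtain ⟨a, b, hb, rfl⟩ := IsFractionRing.div_surjective (A := A) x
    have hb0 : b ≠ 0 := nonZeroDivisors.ne_zero hb
    have hbK : (b : K) ≠ 0 := fun h0 => hb0 (Subtype.ext h0)
    have hle : A ≤ A ⊔ B := le_sup_left
    have hI : Ideal.span {(⟨b, hle b.2⟩ : (A ⊔ B : Subring K))} ≠ ⊤ := by
      intro htop
      rw [Ideal.span_singleton_eq_top] at htop
      obtain ⟨t, ht⟩ := htop
      apply hx
      have h1 : ((t⁻¹ : (A ⊔ B : Subring K)ˣ) : (A ⊔ B : Subring K)).1 = (b : K)⁻¹ := by
        apply eq_inv_of_mul_eq_one_right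
        have := congrArg Subtype.val t.mul_inv
        rw [ht] at this
        exact this
      show (a : K) / (b : K) ∈ A ⊔ B
      rw [div_eq_mul_inv, ← h1]
      exact (A ⊔ B).mul_mem (hle a.2) (Subtype.property _)
    obtain ⟨V, hCV, hV⟩ := Ideal.image_subset_nonunits_valuationSubring _ hI
    have hAV : A ≤ V.toSubring := hle.trans hCV
    have hbV : (b : K) ∈ V.nonunits := hV ⟨_, Ideal.mem_span_singleton_self _, rfl⟩
    have hnf : ¬ IsField V := by
      intro hf
      obtain ⟨c, hc⟩ := hf.mul_inv_cancel (a := ⟨b, hAV b.2⟩) (fun h0 => hbK (congrArg Subtype.val h0))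
      have hu : IsUnit (⟨b, hAV b.2⟩ : V) := IsUnit.of_mul_eq_one _ hc
      obtain ⟨hm, hm'⟩ := (ValuationSubring.mem_nonunits_iff_exists_mem_maximalIdeal).mp hbV
      exact (IsLocalRing.mem_maximalIdeal _).mp hm' hu
    have hdim' := Groth.Agent.VarietyB.SemilocalDedekind.krullDimLE_one _ hdim
    let _ : Algebra A V := (Subring.inclusion hAV).toAlgebra
    have : IsScalarTower A V K := IsScalarTower.of_algebraMap_eq fun _ => rfl
    have hN : IsNoetherianRing V :=
      Groth.Agent.VarietyB.KrullAkizuki.krullAkizuki (R := A) (K := K) (L := K) (A := V)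
        Subtype.val_injective
    have hVR : ValuationRing V := inferInstance
    have hdvr : IsDiscreteValuationRing V :=
      ((IsDiscreteValuationRing.TFAE V hnf).out 0 1 : IsDiscreteValuationRing V ↔ ValuationRing V).mpr hVR
    exact ⟨V, hdvr, hAV, le_sup_right.trans hCV⟩
  · rintro ⟨O, hO, hA, hB⟩ htop
    have h1 : (⊤ : Subring K) ≤ O.toSubring := htop ▸ sup_le hA hB
    apply IsDiscreteValuationRing.not_isField O
    refine ⟨⟨0, 1, zero_ne_one⟩, mul_comm, fun {a} ha => ?_⟩
    refine ⟨⟨(a : K)⁻¹, h1 (Subring.mem_top _)⟩, Subtype.ext ?_⟩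
    exact mul_inv_cancel₀ (fun h => ha (Subtype.ext h))

end Groth.Agent.S7663
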