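import Groth.Statements.S7664
import Groth.Agent.Variety.K422.SemilocalGlueSch

set_option autoImplicit false
universe u
open CategoryTheory CategoryTheory.Limits AlgebraicGeometry
open Variety

namespace Groth.Agent.S7664

open Groth.Agent.VarietyB.SemilocalDedekind K422.SemilocalGlue

section transport

variable {K : Type u} [Field K] {A : Fin 2 → Subring K} (D : Datum A)
  [∀ i, IsFractionRing (A i) K] (hdim : ∀ i, Ring.KrullDimLE 1 (A i))
  (S : Subring K) (hS : S = ⨅ i, A i)

include D hdim hS

theorem isOpenImmersion' (i : Fin 2) (h : S ≤ A i) :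
    IsOpenImmersion (Spec.map (CommRingCat.ofHom (Subring.inclusion h))) := by
  subst hS
  exact D.isOpenImmersion hdim i

theorem union_range' (h0 : S ≤ A 0) (h1 : S ≤ A 1) :
    Set.range (Spec.map (CommRingCat.ofHom (Subring.inclusion h0))).base ∪
      Set.range (Spec.map (CommRingCat.ofHom (Subring.inclusion h1))).base = Set.univ := by
  subst hS
  rw [Set.eq_univ_iff_forall]
  intro P
  obtain ⟨i, hi⟩ := D.exists_notMem hdim P.asIdeal P.isPrime
  have := (D.mem_range_iff hdim i P).mpr hi
  fin_cases i
  · exact Or.inl this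
  · exact Or.inr this

theorem isPushout' (h0 : S ≤ A 0) (h1 : S ≤ A 1) :
    IsPushout (CommRingCat.ofHom (Subring.inclusion h0)) (CommRingCat.ofHom (Subring.inclusion h1))
      (CommRingCat.ofHom (A 0).subtype) (CommRingCat.ofHom (A 1).subtype) := by
  subst hS
  exact D.isPushout hdim (i := 0) (j := 1) (by decide)

end transport

theorem iInf_fin_two {K : Type u} [Field K] (A B : Subring K) : A ⊓ B = ⨅ i : Fin 2, ![A, B] i := by
  apply le_antisymm
  · refine le_iInf fun i => ?_
    fin_cases i
    · exact inf_le_left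
    · exact inf_le_right
  · exact le_inf (iInf_le _ (0 : Fin 2)) (iInf_le _ (1 : Fin 2))

/-- Let K be a field, A ⊆ K a Noetherian semi-local domain of dimension one and B ⊆ K a discrete
valuation ring, both with fraction field K, and R = A ∩ B. (a) If some unit of A does not lie in R,
then Spec A and Spec B each map to Spec R by an open immersion, Spec R is the union of the two
images, and the natural map A ⊗_R B → K is an isomorphism. (b) If every unit of A lies in R, then B
dominates the local ring of A at one of its maximal ideals (A ⊆ B and the maximal ideal of B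
contracts to a maximal ideal of A) and A ⊗ B → K is not surjective. -/
theorem result (K : Type u) [Field K]
    (A : Subring K) [IsFractionRing A K] [IsNoetherianRing A] (hdim : ringKrullDim A = 1) (hsl : Finite (MaximalSpectrum A))
    (B : ValuationSubring K) [IsDiscreteValuationRing B] :
    ((∃ u : A, IsUnit u ∧ (u : K) ∉ B) →
      IsOpenImmersion (Spec.map (CommRingCat.ofHom (Subring.inclusion (inf_le_left : A ⊓ B.toSubring ≤ A)))) ∧
      IsOpenImmersion (Spec.map (CommRingCat.ofHom (Subring.inclusion (inf_le_right : A ⊓ B.toSubring ≤ B.toSubring)))) ∧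
      Set.range (Spec.map (CommRingCat.ofHom (Subring.inclusion (inf_le_left : A ⊓ B.toSubring ≤ A)))).base ∪
        Set.range (Spec.map (CommRingCat.ofHom (Subring.inclusion (inf_le_right : A ⊓ B.toSubring ≤ B.toSubring)))).base = Set.univ ∧
      IsPushout (CommRingCat.ofHom (Subring.inclusion (inf_le_left : A ⊓ B.toSubring ≤ A)))
        (CommRingCat.ofHom (Subring.inclusion (inf_le_right : A ⊓ B.toSubring ≤ B.toSubring)))
        (CommRingCat.ofHom A.subtype) (CommRingCat.ofHom B.toSubring.subtype)) ∧
    ((∀ u : A, IsUnit u → (u : K) ∈ B) →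
      (∃ h : A ≤ B.toSubring,
        (Ideal.comap (Subring.inclusion h) (IsLocalRing.maximalIdeal B)).IsMaximal) ∧ A ⊔ B.toSubring ≠ ⊤) := by
  have hdimA := krullDimLE_one _ hdim
  have hfA := not_isField _ hdim
  have hB0 : ¬ IsField B := IsDiscreteValuationRing.not_isField B
  have hBtop : B.toSubring ≠ ⊤ := by
    intro htop
    apply hB0
    refine ⟨⟨0, 1, zero_ne_one⟩, mul_comm, fun {a} ha => ?_⟩
    refine ⟨⟨(a : K)⁻¹, (htop ▸ Subring.mem_top _ : (a : K)⁻¹ ∈ B.toSubring)⟩, Subtype.ext ?_⟩
    exact mul_inv_cancel₀ (fun h => ha (Subtype.ext h))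
  have hdimB : ringKrullDim B.toSubring = 1 := IsDiscreteValuationRing.ringKrullDim_eq_one B
  have hdimB' : Ring.KrullDimLE 1 B.toSubring := krullDimLE_one _ hdimB
  have hfrB : IsFractionRing B.toSubring K := inferInstanceAs (IsFractionRing B K)
  have hNB : IsNoetherianRing B.toSubring := inferInstanceAs (IsNoetherianRing B)
  have hlB : IsLocalRing B.toSubring := inferInstanceAs (IsLocalRing B)
  have hjac : (⊥ : Ideal B.toSubring).jacobson = IsLocalRing.maximalIdeal B.toSubring :=
    IsLocalRing.jacobson_eq_maximalIdeal _ bot_ne_top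
  -- elements whose inverse is not in `B` are in the maximal ideal
  have hval : ∀ x : K, x ∉ B → ∃ h : x⁻¹ ∈ B.toSubring,
      (⟨x⁻¹, h⟩ : B.toSubring) ∈ (⊥ : Ideal B.toSubring).jacobson := by
    intro x hx
    have h1 : x⁻¹ ∈ B := (B.mem_or_inv_mem x).resolve_left hx
    refine ⟨h1, ?_⟩
    rw [hjac, IsLocalRing.mem_maximalIdeal, mem_nonunits_iff]
    rintro ⟨t, ht⟩
    apply hx
    have h2 : ((t⁻¹ : (B.toSubring)ˣ) : B.toSubring).1 = x := by
      have h3 : ((t : B.toSubring) : K) * ((t⁻¹ : (B.toSubring)ˣ) : B.toSubring).1 = 1 :=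
        congrArg Subtype.val t.mul_inv
      rw [ht] at h3
      rw [← inv_inv x]
      exact eq_inv_of_mul_eq_one_right h3
    rw [← h2]
    exact (((t⁻¹ : (B.toSubring)ˣ) : B.toSubring)).2
  refine ⟨?_, ?_⟩
  · rintro ⟨u, hu, huB⟩
    have htop : A ⊔ B.toSubring = ⊤ := by
      rw [eq_top_iff]
      intro y _
      obtain ⟨h1, h2⟩ := hval u huB
      obtain ⟨n, hn⟩ := exists_pow_mul_mem_jacobson (K := K) _ h2 y
      obtain ⟨d, -, hd⟩ := hn n le_rfl
      have hd' : (d : K) = ((u : K)⁻¹) ^ n * y := hd
      have hu0 : (u : K) ≠ 0 := by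
        intro h0
        exact huB (h0 ▸ B.zero_mem)
      have hy : y = (u : K) ^ n * d := by
        rw [hd', ← mul_assoc, ← mul_pow, mul_inv_cancel₀ hu0, one_pow, one_mul]
      rw [hy]
      exact (A ⊔ B.toSubring).mul_mem ((A ⊔ B.toSubring).pow_mem ((le_sup_left : A ≤ _) u.2) n)
        ((le_sup_right : B.toSubring ≤ _) d.2)
    have hN' : ∀ i, IsNoetherianRing (![A, B.toSubring] i) := by
      intro i; fin_cases i
      · exact (inferInstance : IsNoetherianRing A)
      · exact hNB
    have hfr' : ∀ i, IsFractionRing (![A, B.toSubring] i) K := by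
      intro i; fin_cases i
      · exact (inferInstance : IsFractionRing A K)
      · exact hfrB
    have hd' : ∀ i, ringKrullDim (![A, B.toSubring] i) = 1 := by
      intro i; fin_cases i
      · exact hdim
      · exact hdimB
    have hd'' : ∀ i, Ring.KrullDimLE 1 (![A, B.toSubring] i) := fun i => krullDimLE_one _ (hd' i)
    have hsl' : ∀ i, Finite (MaximalSpectrum (![A, B.toSubring] i)) := by
      intro i; fin_cases i
      · exact hsl
      · exact (inferInstance : Finite (MaximalSpectrum B.toSubring))
    have hgen' : ∀ i j, i ≠ j → ![A, B.toSubring] i ⊔ ![A, B.toSubring] j = ⊤ := by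
      intro i j hij
      fin_cases i <;> fin_cases j
      · exact absurd rfl hij
      · exact htop
      · exact (sup_comm _ _).trans htop
      · exact absurd rfl hij
    obtain ⟨D⟩ := exists_datum K 2 ![A, B.toSubring] hd' hsl' hgen'
    exact ⟨isOpenImmersion' D hd'' _ (iInf_fin_two A B.toSubring) 0 inf_le_left,
      isOpenImmersion' D hd'' _ (iInf_fin_two A B.toSubring) 1 inf_le_right,
      union_range' D hd'' _ (iInf_fin_two A B.toSubring) inf_le_left inf_le_right,
      isPushout' D hd'' _ (iInf_fin_two A B.toSubring) inf_le_left inf_le_right⟩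
  · intro hunit
    obtain ⟨y, hy0, hy⟩ := exists_mem_jacobson_ne_zero A hsl hfA
    have hyJ : y ∈ (⊥ : Ideal A).jacobson := by
      rw [Ideal.jacobson, Ideal.mem_sInf]
      rintro M ⟨-, hM⟩
      exact hy ⟨M, hM⟩
    have hyK : (y : K) ≠ 0 := fun h => hy0 (Subtype.ext h)
    have hle : A ≤ B.toSubring := by
      intro a ha
      by_contra haB
      obtain ⟨h1, h2⟩ := hval a haB
      obtain ⟨n, hn⟩ := exists_pow_mul_mem_jacobson (K := K) _ h2 (y : K)⁻¹
      obtain ⟨d, hdJ, hd⟩ := hn n le_rfl
      have hd' : (d : K) = (a⁻¹) ^ n * (y : K)⁻¹ := hd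
      have hu : IsUnit (y * ⟨a, ha⟩ ^ n + 1 : A) :=
        Ideal.mem_jacobson_bot.mp hyJ _
      have h3 : ((y * ⟨a, ha⟩ ^ n + 1 : A) : K) ∈ B := hunit _ hu
      have h4 : (y : K) * a ^ n ∈ B.toSubring := by
        have h5 : (y : K) * a ^ n = ((y * ⟨a, ha⟩ ^ n + 1 : A) : K) - 1 := by
          show _ = ((y : K) * a ^ n + 1) - 1
          ring
        rw [h5]
        exact B.toSubring.sub_mem h3 B.toSubring.one_mem
      have ha0 : a ≠ 0 := by
        rintro rfl
        exact haB B.zero_mem
      have h6 : (⟨(y : K) * a ^ n, h4⟩ : B.toSubring) * d = 1 := by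
        apply Subtype.ext
        show (y : K) * a ^ n * (d : K) = 1
        rw [hd', inv_pow]
        have := pow_ne_zero n ha0
        field_simp
      rw [hjac] at hdJ
      exact (IsLocalRing.mem_maximalIdeal _).mp hdJ (IsUnit.of_mul_eq_one _ (by rw [mul_comm]; exact h6))
    refine ⟨⟨hle, ?_⟩, ?_⟩
    · have hprime : (Ideal.comap (Subring.inclusion hle) (IsLocalRing.maximalIdeal B)).IsPrime :=
        Ideal.comap_isPrime _ _
      refine hprime.isMaximal_of_ne_bot ?_
      intro hbot
      apply hBtop
      rw [eq_top_iff]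
      intro z _
      obtain ⟨a, b, hb, rfl⟩ := IsFractionRing.div_surjective (A := A) z
      have hb0 : b ≠ 0 := nonZeroDivisors.ne_zero hb
      have hbu : IsUnit (Subring.inclusion hle b : B) := by
        by_contra hnu
        apply hb0
        have : b ∈ Ideal.comap (Subring.inclusion hle) (IsLocalRing.maximalIdeal B) := by
          rw [Ideal.mem_comap]
          exact (IsLocalRing.mem_maximalIdeal _).mpr hnu
        rw [hbot] at this
        exact this
      obtain ⟨t, ht⟩ := hbu
      have h2 : ((t⁻¹ : Bˣ) : B).1 = (b : K)⁻¹ := by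
        apply eq_inv_of_mul_eq_one_right
        have := congrArg Subtype.val t.mul_inv
        rw [ht] at this
        exact this
      show (a : K) / (b : K) ∈ B.toSubring
      rw [div_eq_mul_inv, ← h2]
      exact B.toSubring.mul_mem (hle a.2) (((t⁻¹ : Bˣ) : B)).2
    · rw [sup_eq_right.mpr hle]
      exact hBtop

end Groth.Agent.S7664
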