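import Groth.Statements.S7668
-- import your own Groth.Agent.* helpers here

set_option autoImplicit false
universe u
open CategoryTheory CategoryTheory.Limits AlgebraicGeometry
open Variety

namespace Groth.Agent.S7668

/-- Let A be a ring, p_1, …, p_r primes of A and S = A ∖ ⋃ p_i. Then S is a multiplicative subset, S⁻¹A
is semi-local, and contraction to A is a bijection from the maximal ideals of S⁻¹A onto the maximal
elements of {p_1, …, p_r}. -/
theorem result (A : Type u) [CommRing A]
    (r : ℕ) (p : Fin r → PrimeSpectrum A) :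
    Finite (MaximalSpectrum (Localization (⨅ i, (p i).asIdeal.primeCompl))) ∧
      Set.BijOn (fun m : Ideal (Localization (⨅ i, (p i).asIdeal.primeCompl)) =>
          m.comap (algebraMap A (Localization (⨅ i, (p i).asIdeal.primeCompl))))
        {m | m.IsMaximal}
        {q | q ∈ Set.range (fun i => (p i).asIdeal) ∧
          ∀ j, q ≤ (p j).asIdeal → q = (p j).asIdeal} := by
  classical
  set S : Submonoid A := ⨅ i, (p i).asIdeal.primeCompl with hS
  set B := Localization S
  have hmemS : ∀ x : A, x ∈ S ↔ ∀ i, x ∉ (p i).asIdeal := by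
    intro x
    rw [hS, Submonoid.mem_iInf]
    rfl
  -- every prime disjoint from `S` is contained in some `p i`
  have hle : ∀ q : Ideal A, Disjoint (S : Set A) (q : Set A) → ∃ i, q ≤ (p i).asIdeal := by
    intro q hq
    have hsub : (q : Set A) ⊆ ⋃ I ∈ Set.range (fun i => (p i).asIdeal), (id I : Ideal A) := by
      intro x hx
      by_contra hcon
      have hxS : x ∈ S := (hmemS x).mpr fun i hi => hcon (Set.mem_biUnion (Set.mem_range_self i) hi)
      exact Set.disjoint_left.mp hq hxS hx
    obtain ⟨I, ⟨i, rfl⟩, hI⟩ := (Ideal.subset_union_prime_finite (Set.finite_range _) ⊥ ⊥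
      (by rintro _ ⟨i, rfl⟩ _ _; exact (p i).isPrime)).mp hsub
    exact ⟨i, hI⟩
  have hdisj : ∀ i, Disjoint (S : Set A) ((p i).asIdeal : Set A) := fun i =>
    Set.disjoint_left.mpr fun x hx hxi => (hmemS x).mp hx i hxi
  have hmax : ∀ (m : Ideal B), m.IsMaximal → ∀ j, m.comap (algebraMap A B) ≤ (p j).asIdeal →
      m.comap (algebraMap A B) = (p j).asIdeal := by
    intro m hm j hj
    have h1 : m ≤ (p j).asIdeal.map (algebraMap A B) := by
      rw [← IsLocalization.map_under S B m]
      exact Ideal.map_mono hj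
    have h2 : (p j).asIdeal.map (algebraMap A B) ≠ ⊤ :=
      (IsLocalization.map_algebraMap_ne_top_iff_disjoint S B _).mpr (hdisj j)
    have h3 := hm.eq_of_le h2 h1
    rw [h3]
    exact IsLocalization.under_map_of_isPrime_disjoint S B (p j).isPrime (hdisj j)
  have hbij : Set.BijOn (fun m : Ideal B => m.comap (algebraMap A B)) {m | m.IsMaximal}
        {q | q ∈ Set.range (fun i => (p i).asIdeal) ∧ ∀ j, q ≤ (p j).asIdeal → q = (p j).asIdeal} := by
    refine ⟨?_, ?_, ?_⟩
    · intro m hm
      have hm' : m.IsMaximal := hm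
      have hd : Disjoint (S : Set A) ((m.comap (algebraMap A B) : Ideal A) : Set A) :=
        (IsLocalization.disjoint_under_iff S B m).mpr hm'.ne_top
      obtain ⟨i, hi⟩ := hle _ hd
      exact ⟨⟨i, (hmax m hm' i hi).symm⟩, hmax m hm'⟩
    · intro m _ m' _ h
      exact (IsLocalization.orderEmbedding S B).injective h
    · rintro q ⟨⟨i, rfl⟩, hq⟩
      have h2 : (p i).asIdeal.map (algebraMap A B) ≠ ⊤ :=
        (IsLocalization.map_algebraMap_ne_top_iff_disjoint S B _).mpr (hdisj i)
      obtain ⟨m, hm, hle'⟩ := Ideal.exists_le_maximal _ h2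
      have hd : Disjoint (S : Set A) ((m.comap (algebraMap A B) : Ideal A) : Set A) :=
        (IsLocalization.disjoint_under_iff S B m).mpr hm.ne_top
      obtain ⟨j, hj⟩ := hle _ hd
      have h4 : (p i).asIdeal ≤ m.comap (algebraMap A B) := Ideal.map_le_iff_le_comap.mp hle'
      have h5 : (p i).asIdeal = (p j).asIdeal := hq j (h4.trans hj)
      refine ⟨m, hm, ?_⟩
      refine le_antisymm ?_ h4
      show m.comap (algebraMap A B) ≤ (p i).asIdeal
      rw [h5]; exact hj
  refine ⟨?_, hbij⟩
  have hfin : ({m : Ideal B | m.IsMaximal}).Finite := by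
    refine hbij.finite_iff_finite.mpr ?_
    exact (Set.finite_range _).subset fun q hq => hq.1
  have : Finite {m : Ideal B // m.IsMaximal} := hfin.to_subtype
  exact Finite.of_injective (fun m : MaximalSpectrum B => (⟨m.asIdeal, m.isMaximal⟩ : {m : Ideal B // m.IsMaximal}))
    (fun m m' h => MaximalSpectrum.ext (congrArg Subtype.val h))

end Groth.Agent.S7668
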