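import Groth.Statements.S7671
import Groth.Agent.S0232

set_option autoImplicit false
universe u
open CategoryTheory CategoryTheory.Limits AlgebraicGeometry
open Variety

namespace Groth.Agent.S7671

open Groth.Agent.CurvesA.FlatH0 Groth.Agent.Fdesc.LocGen Groth.Agent.VarietyB.PullSec TensorProduct in
/-- The case of a general cartesian square over a faithfully flat morphism of affine schemes. -/
theorem trivial_of_trivial {X X' S S' : Scheme.{u}} {p : X ⟶ S} {q : X' ⟶ S'} {f : S' ⟶ S} {g : X' ⟶ X}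
    (H : IsPullback g q p f) [IsAffine S] [IsAffine S'] [Flat f] [Surjective f] [CompactSpace X]
    [QuasiSeparatedSpace X] (hsl : Finite (MaximalSpectrum Γ(X, ⊤))) (L : X.Modules) (hL : PicF.IsInvertible L)
    (φ : (Scheme.Modules.pullback g).obj L ≅ Coh.structureModule X') :
    Nonempty (L ≅ Coh.structureModule X) := by
  have hgs : Surjective g := MorphismProperty.of_isPullback H.flip ‹Surjective f›
  have hLq : Coh.IsQCoh L := Groth.Agent.Ega2.QCohLocal.isQCoh_of_isInvertible hL
  let t' : Γ((Scheme.Modules.pullback g).obj L, ⊤) := sec φ.inv ⊤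
  have ht' : IsGen t' := (isIso_iff_isGen φ.inv).mp inferInstance
  letI : Algebra Γ(X, ⊤) Γ(X', ⊤) := (g.appLE ⊤ ⊤ (le_pt g ⊤)).hom.toAlgebra
  letI := secModule g L (le_pt g ⊤)
  haveI : IsScalarTower Γ(X, ⊤) Γ(X', ⊤) Γ((Scheme.Modules.pullback g).obj L, ⊤) :=
    ⟨fun a b c => by rw [Algebra.smul_def, mul_smul]; rfl⟩
  have hbc : IsBaseChange Γ(X', ⊤) (secₗ g L (le_pt g ⊤)) :=
    isBaseChange_secₗ_of_qcqs p q f g H L hLq (U := ⊤) isCompact_univ isQuasiSeparated_univ rfl
  haveI : Module.FaithfullyFlat Γ(X, ⊤) Γ(X', ⊤) := faithfullyFlat_appTop p q f g H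
  let e' : Γ(X', ⊤) ≃ₗ[Γ(X', ⊤)] Γ((Scheme.Modules.pullback g).obj L, ⊤) :=
    LinearEquiv.ofBijective (LinearMap.toSpanSingleton _ _ t') ht'.bijective
  obtain ⟨s, hs⟩ := Groth.Agent.CurvesA.FFGen.exists_bijective_smul Γ(X, ⊤) Γ(X', ⊤) Γ(L, ⊤)
    (hbc.equiv.trans e'.symm)
  have hz : ∀ z : Γ(X', ⊤) ⊗[Γ(X, ⊤)] Γ(L, ⊤), ∃ b : Γ(X', ⊤), z = b ⊗ₜ s := by
    intro z
    induction z using TensorProduct.induction_on with
    | zero => exact ⟨0, by simp⟩
    | tmul b m =>
      obtain ⟨a, rfl⟩ := hs.2 m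
      exact ⟨a • b, by simp [TensorProduct.smul_tmul]⟩
    | add x y hx hy =>
      obtain ⟨b, rfl⟩ := hx
      obtain ⟨c, rfl⟩ := hy
      exact ⟨b + c, (TensorProduct.add_tmul _ _ _).symm⟩
  obtain ⟨b, hb⟩ := hz (hbc.equiv.symm t')
  let u : Γ((Scheme.Modules.pullback g).obj L, ⊤) := pullSec g s
  have hb' : t' = b • u := by
    have := congrArg hbc.equiv hb
    rw [LinearEquiv.apply_symm_apply, IsBaseChange.equiv_tmul] at this
    refine this.trans ?_
    congr 1
    change res ((Scheme.Modules.pullback g).obj L) (le_refl ⊤) u = u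
    exact res_refl _ _
  have hgen : IsGen u := by
    obtain ⟨c, hc⟩ := ht'.exists_eq u
    have h1 : (b * c) • t' = (1 : Γ(X', ⊤)) • t' := by
      rw [mul_smul, ← hc, ← hb', one_smul]
    have h2 : b * c = 1 := ht'.ext h1
    rw [hc]
    exact ht'.unit_smul (IsUnit.of_mul_eq_one_right b h2)
  have hgen' : IsGen s := Groth.Agent.S0232.isGen_of_pullSec g hL s hgen
  have : IsIso (homOf s) := by
    rw [isIso_iff_isGen, sec_homOf]
    simpa using hgen'
  exact ⟨(asIso (homOf s)).symm⟩

/-- Let A → B be faithfully flat and X a quasi-compact and quasi-separated scheme over A such that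
H^0(X, O_X) is a semi-local ring. Then Pic(X) → Pic(X_B) is injective: an invertible module on X
which becomes trivial on X_B is trivial. -/
theorem result (A B : Type u) [CommRing A]
    [CommRing B] [Algebra A B] [Module.FaithfullyFlat A B]
    (X : Scheme.{u}) (f : X ⟶ Spec (CommRingCat.of A)) [CompactSpace X] [QuasiSeparatedSpace X]
    (hsl : Finite (MaximalSpectrum Γ(X, ⊤))) (L : X.Modules) (hL : PicF.IsInvertible L)
    (htriv : Nonempty ((Scheme.Modules.pullback
        (pullback.fst f (Spec.map (CommRingCat.ofHom (algebraMap A B))))).obj L ≅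
      Coh.structureModule (pullback f (Spec.map (CommRingCat.ofHom (algebraMap A B)))))) :
    Nonempty (L ≅ Coh.structureModule X) := by
  have hff : Flat (Spec.map (CommRingCat.ofHom (algebraMap A B))) ∧
      Surjective (Spec.map (CommRingCat.ofHom (algebraMap A B))) := by
    refine (flat_and_surjective_SpecMap_iff _).mpr ?_
    rw [CommRingCat.hom_ofHom, RingHom.faithfullyFlat_algebraMap_iff]
    infer_instance
  obtain ⟨hf1, hf2⟩ := hff
  obtain ⟨φ⟩ := htriv
  exact trivial_of_trivial (IsPullback.of_hasPullback f (Spec.map (CommRingCat.ofHom (algebraMap A B)))) hsl L hL φ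

end Groth.Agent.S7671
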