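import Groth.Statements.S7679
import Groth.Agent.Sga2.ESZ
import Groth.Agent.CycB.CohStalk
import Groth.Agent.Ega4C.DepthBasics

set_option autoImplicit false
universe u
open CategoryTheory CategoryTheory.Limits AlgebraicGeometry
open Variety

namespace Groth.Agent.S7679

/-- Let X be proper over a field k, L an ample invertible module and F a coherent module such that
Ass(F) contains no closed point. Then Γ(X, F ⊗ L^{⊗n}) = 0 for n ≪ 0; here negative powers of L are
written as positive powers of an inverse M of L. -/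
theorem result (k : Type u) [Field k] (X : Scheme.{u}) [X.Over (Spec (CommRingCat.of k))] [IsProper (X ↘ (Spec (CommRingCat.of k)))]
    (L : X.Modules) (hL : CohB1.IsAmple L) (M : X.Modules) (hM : ClSub.IsInverseOf L M)
    (F : X.Modules) (hF : Coh.IsCoh F) (hass : ∀ x : X, IsClosed ({x} : Set X) → ¬ Curv2.IsAssPoint F x) :
    ∃ n₀ : ℕ, ∀ n : ℕ, n₀ ≤ n →
      Subsingleton (Coh.HH X (CohB1.tensorMod F (CohB1.tensorPow M n)) 0) := by
  have : IsLocallyNoetherian X := LocallyOfFiniteType.isLocallyNoetherian (X ↘ (Spec (CommRingCat.of k)))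
  obtain ⟨m₀, h⟩ := Groth.Agent.Sga2.ESZ.esz k X hM hL F hF 0 fun x hx => by
    have := Groth.Agent.CycB.CohStalk.finite_stalk F hF x
    have h1 : (1 : ℕ∞) ≤ LocCoh.depth (X.presheaf.stalk x) (F.presheaf.stalk x) :=
      Groth.Agent.Ega4C.DepthBasics.one_le_depth_iff.mpr (hass x hx)
    exact lt_of_lt_of_le (by norm_num) h1
  exact ⟨m₀, fun m hm => h m hm 0 le_rfl⟩

end Groth.Agent.S7679
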