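import Groth.Statements.S7682
import Groth.Agent.Variety.K424.PushFinal

set_option autoImplicit false
universe u
open CategoryTheory CategoryTheory.Limits AlgebraicGeometry
open Variety

namespace Groth.Agent.S7682

/-- Let f : Y → X be a morphism of proper schemes over a field k, Z ⊆ Y an integral closed subscheme of
dimension d and L_1, …, L_d invertible modules on X. Then (f^*L_1 ⋯ f^*L_d · Z) = deg(Z → f(Z)) ·
(L_1 ⋯ L_d · f(Z)), f(Z) being the scheme-theoretic image and deg the degree of the function field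
extension, read as 0 when dim f(Z) < d (equivalently when that extension is infinite). Both
intersection numbers are the n_1⋯n_d-coefficients of the polynomials computing the corresponding
Euler characteristics. -/
theorem result (k : Type u) [Field k] (X Y : Scheme.{u})
    [X.Over (Spec (CommRingCat.of k))] [Y.Over (Spec (CommRingCat.of k))]
    [IsProper (X ↘ (Spec (CommRingCat.of k)))] [IsProper (Y ↘ (Spec (CommRingCat.of k)))]
    (f : Y ⟶ X) (hf : f ≫ (X ↘ (Spec (CommRingCat.of k))) = Y ↘ (Spec (CommRingCat.of k)))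
    (Z : Y.IdealSheafData) [IsIntegral Z.subscheme] (d : ℕ)
    (hZ : topologicalKrullDim (Z.support : Set Y) = d)
    (L : Fin d → X.Modules) (hL : ∀ i, PicF.IsInvertible (L i))
    (PY PX : MvPolynomial (Fin d) ℚ)
    (hPY : ∀ n : Fin d → ℕ, (Curv2.euler k Y (Curv2.tensorPows (ClSub.quotMod Z) d (fun i => (Scheme.Modules.pullback f).obj (L i)) n) : ℚ) = MvPolynomial.eval (fun i => (n i : ℚ)) PY)
    (hPX : ∀ n : Fin d → ℕ, (Curv2.euler k X (Curv2.tensorPows (ClSub.quotMod (Z.subschemeι ≫ f).ker) d L n) : ℚ) = MvPolynomial.eval (fun i => (n i : ℚ)) PX) :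
    MvPolynomial.coeff (Finsupp.equivFunOnFinite.symm fun _ : Fin d => 1) PY =
      ((Z.subschemeι ≫ f).residueDegree (genericPoint Z.subscheme) : ℚ) *
        MvPolynomial.coeff (Finsupp.equivFunOnFinite.symm fun _ : Fin d => 1) PX := by
  have hNX := Groth.Agent.Fga.SnapperTwist.isNoetherian_of_proper k X
  have hNY := Groth.Agent.Fga.SnapperTwist.isNoetherian_of_proper k Y
  let oZ : Z.subscheme.Over (Spec (CommRingCat.of k)) := ⟨Z.subschemeι ≫ (Y ↘ (Spec (CommRingCat.of k)))⟩
  have hι : Z.subschemeι ≫ (Y ↘ (Spec (CommRingCat.of k))) = Z.subscheme ↘ (Spec (CommRingCat.of k)) := rfl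
  have hZp : IsProper (Z.subscheme ↘ (Spec (CommRingCat.of k))) := by
    rw [← hι]; infer_instance
  have hg : (Z.subschemeι ≫ f) ≫ (X ↘ (Spec (CommRingCat.of k))) = Z.subscheme ↘ (Spec (CommRingCat.of k)) := by
    rw [Category.assoc, hf, hι]
  have hdZ : topologicalKrullDim Z.subscheme = d := by
    rw [← hZ]
    have hemb := Z.subschemeι.isClosedEmbedding
    let e : Z.subscheme ≃ₜ (Z.support : Set Y) :=
      hemb.isEmbedding.toHomeomorph.trans (Homeomorph.setCongr Z.range_subschemeι)
    exact IsHomeomorph.topologicalKrullDim_eq e e.isHomeomorph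
  have hLf : ∀ i, PicF.IsInvertible ((Scheme.Modules.pullback f).obj (L i)) := K424.PushCoef.isCoh_pull f L hL
  obtain ⟨h1, h2⟩ := K424.PushFinal.icoef_push k (Z.subschemeι ≫ f) hg d hdZ L hL
  have hY := K424.IntCoef.coeff_eq_icoef (K424.PushCoef.isAdd_euler k Y) _ hLf (ClSub.quotMod Z)
    (K424.IntSum.isCoh_quotMod Z)
    ((Groth.Agent.Fga.DimLt.topologicalKrullDim_mono (K424.IntSum.support_quotMod_subset Z)).trans hZ.le) PY hPY
  have hX := K424.IntCoef.coeff_eq_icoef (K424.PushCoef.isAdd_euler k X) L hL (ClSub.quotMod (Z.subschemeι ≫ f).ker)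
    (K424.IntSum.isCoh_quotMod _) h2 PX hPX
  have key : K424.IntCoef.icoef (Curv2.euler k Y) (fun i => (Scheme.Modules.pullback f).obj (L i)) (ClSub.quotMod Z) =
      K424.IntCoef.icoef (Curv2.euler k Z.subscheme)
        (fun i => (Scheme.Modules.pullback (Z.subschemeι ≫ f)).obj (L i)) (Coh.structureModule Z.subscheme) := by
    have hO : Coh.IsCoh (Coh.structureModule Z.subscheme) := Groth.Agent.Fdesc.StructMod.isCoh_structureModule _
    have hNZ := Groth.Agent.Fga.SnapperTwist.isNoetherian_of_proper k Z.subscheme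
    unfold K424.IntCoef.icoef
    refine Finset.sum_congr rfl fun S _ => ?_
    congr 1
    have hinv := K424.PushCoef.isInvertible_tw L hL (K424.CoefPoly.ind S)
    have hinvY := Groth.Agent.Fdesc.LocGen.isInvertible_pullback f hinv
    have hinvZ := Groth.Agent.Fdesc.LocGen.isInvertible_pullback Z.subschemeι hinvY
    obtain ⟨e1⟩ := K424.PushCoef.tensorPows_pull_iso f (ClSub.quotMod Z) L hL (K424.CoefPoly.ind S)
    obtain ⟨e2⟩ := K424.PushCoef.tensorPows_pull_iso (Z.subschemeι ≫ f) (Coh.structureModule Z.subscheme) L hL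
      (K424.CoefPoly.ind S)
    have e3 := Groth.Agent.VarietyB.ProjForm.projIso Z.subschemeι (K424.PushFinal.hasBases hinvY)
      (Coh.structureModule Z.subscheme)
    have hc3 := Groth.Agent.Fga.SnapperTwist.isCoh_tensor' hinvY (K424.IntSum.isCoh_quotMod Z)
    have hcZ := Groth.Agent.Fga.SnapperTwist.isCoh_tensor' hinvZ hO
    have e4 : CohB1.tensorMod ((Scheme.Modules.pullback Z.subschemeι).obj ((Scheme.Modules.pullback f).obj
        (K424.PushCoef.tw L (K424.CoefPoly.ind S)))) (Coh.structureModule Z.subscheme) ≅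
        CohB1.tensorMod ((Scheme.Modules.pullback (Z.subschemeι ≫ f)).obj
        (K424.PushCoef.tw L (K424.CoefPoly.ind S))) (Coh.structureModule Z.subscheme) :=
      (Groth.Agent.Ega2.Tens.runit _) ≪≫ (Scheme.Modules.pullbackComp Z.subschemeι f).app _ ≪≫
        (Groth.Agent.Ega2.Tens.runit _).symm
    rw [← Groth.Agent.Fga.ChiBasic.chi_iso (K424.PushCoef.isAdd_euler k Y) e1.symm hc3,
      Groth.Agent.Fga.ChiBasic.chi_iso (K424.PushCoef.isAdd_euler k Y) e3 hc3]
    have h5 := Groth.Agent.VarietyB.HHPush.euler_push Z.subschemeι k hι (CohB1.tensorMod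
      ((Scheme.Modules.pullback Z.subschemeι).obj ((Scheme.Modules.pullback f).obj
        (K424.PushCoef.tw L (K424.CoefPoly.ind S)))) (Coh.structureModule Z.subscheme)) hcZ.1
    refine h5.trans ?_
    exact Groth.Agent.Fga.ChiBasic.chi_iso (K424.PushCoef.isAdd_euler k Z.subscheme) (e4 ≪≫ e2.symm) hcZ
  have hY' : MvPolynomial.coeff (Finsupp.equivFunOnFinite.symm fun _ : Fin d => 1) PY = _ := hY
  have hX' : MvPolynomial.coeff (Finsupp.equivFunOnFinite.symm fun _ : Fin d => 1) PX = _ := hX
  rw [hY', hX', key, h1]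
  push_cast
  rfl

end Groth.Agent.S7682
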