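import Groth.Statements.S7683
import Groth.Agent.Variety.K424.DeltaGeo

set_option autoImplicit false
universe u
open CategoryTheory CategoryTheory.Limits AlgebraicGeometry
open Variety

namespace Groth.Agent.S7683

/-- Let X be locally of finite type over a field k with normalization ν : X^ν → X, K/k a field
extension, y ∈ X_K a point with image x ∈ X. Assume O_{X,x} is reduced of dimension one, κ(x')/k is
separable for every x' ∈ X^ν over x, and dim O_{X_K,y} = 1. Then the δ-invariant of X at x equals
the δ-invariant of X_K at y. (The published statement needs only O_{X,x} reduced; this row takes X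
integral so that X^ν is the normalization of an integral scheme.) -/
theorem result (k : Type u) [Field k] (X : Scheme.{u}) [X.Over (Spec (CommRingCat.of k))]
    [IsIntegral X] [LocallyOfFiniteType (X ↘ (Spec (CommRingCat.of k)))]
    [QuasiCompact (X.fromSpecStalk (genericPoint X))] [QuasiSeparated (X.fromSpecStalk (genericPoint X))]
    (K : Type u) [Field K] [Algebra k K] (y : ↥(Curv2.bc k X K))
    (hdx : ringKrullDim (X.presheaf.stalk ((Curv2.bcFst k X K).base y)) = 1)
    (hsep : letI : (Curv2.normalization X).Over (Spec (CommRingCat.of k)) :=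
        ⟨Curv2.normalizationι X ≫ (X ↘ (Spec (CommRingCat.of k)))⟩
      ∀ x' : ↥(Curv2.normalization X), (Curv2.normalizationι X).base x' = (Curv2.bcFst k X K).base y →
        GeometricallyReduced (Spec.map (CommRingCat.ofHom (Curv2.resMap k (Curv2.normalization X) x'))))
    (hdy : ringKrullDim ((Curv2.bc k X K).presheaf.stalk y) = 1) :
    Curv2.deltaInv (X.presheaf.stalk ((Curv2.bcFst k X K).base y)) =
      Curv2.deltaInv ((Curv2.bc k X K).presheaf.stalk y) := by
  let overK : (Curv2.bc k X K).Over (Spec (CommRingCat.of K)) := ⟨Curv2.bcSnd k X K⟩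
  have hXn : IsLocallyNoetherian X := LocallyOfFiniteType.isLocallyNoetherian (X ↘ (Spec (CommRingCat.of k)))
  have hft : LocallyOfFiniteType (Curv2.bcSnd k X K) := inferInstance
  have hYn : IsLocallyNoetherian (Curv2.bc k X K) := LocallyOfFiniteType.isLocallyNoetherian (Curv2.bcSnd k X K)
  let x := (Curv2.bcFst k X K).base y
  let A := X.presheaf.stalk x
  let B := (Curv2.bc k X K).presheaf.stalk y
  let algkA : Algebra k A := Curv2.stalkAlgebra k X x
  let algAB : Algebra A B := ((Curv2.bcFst k X K).stalkMap y).hom.toAlgebra
  have hF : Flat (Spec.map (CommRingCat.ofHom (algebraMap k K))) := inferInstance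
  have hF' : Flat (Curv2.bcFst k X K) := inferInstance
  have hflat : Module.Flat A B := Flat.stalkMap (Curv2.bcFst k X K) y
  have hloc : IsLocalHom (algebraMap A B) := (Curv2.bcFst k X K).toLRSHom.prop y
  have hAdim : Ring.KrullDimLE 1 A := Ring.krullDimLE_iff.mpr hdx.le
  have hBdim : Ring.KrullDimLE 1 B := Ring.krullDimLE_iff.mpr hdy.le
  have hAfield : ¬ IsField A := fun h => by
    have h1 := ringKrullDim_eq_zero_of_isField h
    have h2 : (1 : WithBot ℕ∞) = 0 := hdx.symm.trans h1
    exact one_ne_zero h2
  have hfin := K424.DeltaGeo.finite_integralClosure X k x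
  have hded : IsDedekindDomain (integralClosure A (FractionRing A)) :=
    K424.KADimOne.isDedekindDomain A (FractionRing A) (integralClosure A (FractionRing A))
  obtain ⟨θ, hθ1, hθ2, hθ3, hθ4⟩ := K419.StalkLoc.exists_theta k X K y
  let algθ : Algebra (TensorProduct k A K) B := θ.toAlgebra
  have htow : IsScalarTower A (TensorProduct k A K) B := IsScalarTower.of_algebraMap_eq' hθ1.symm
  have hred : ∀ n : Ideal (integralClosure A (FractionRing A)), n.IsMaximal →
      _root_.IsReduced (TensorProduct A B (integralClosure A (FractionRing A) ⧸ n)) := by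
    intro n hn
    have h1 := K424.DeltaGeo.isReduced_tensor_quot X k x hsep n K
    exact K424.DeltaBC.isReduced_tensor k A K B
      (Ideal.primeCompl ((IsLocalRing.maximalIdeal B).comap θ)) (integralClosure A (FractionRing A) ⧸ n)
  refine K424.DeltaBC.deltaInv_eq A B hAfield hred ?_
  obtain ⟨n, hn⟩ := Ideal.exists_maximal (integralClosure A (FractionRing A))
  let fldn : Field (integralClosure A (FractionRing A) ⧸ n) := Ideal.Quotient.field n
  have h2 := hred n hn
  refine K424.DeltaBC.map_maximalIdeal A B hAfield (integralClosure A (FractionRing A) ⧸ n) ?_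
  have h3 : RingHom.ker (algebraMap A (integralClosure A (FractionRing A) ⧸ n)) =
      n.comap (algebraMap A (integralClosure A (FractionRing A))) := by
    ext a
    rw [RingHom.mem_ker, Ideal.mem_comap, ← Ideal.Quotient.eq_zero_iff_mem]
    rfl
  rw [h3]
  exact IsLocalRing.eq_maximalIdeal (Ideal.isMaximal_comap_of_isIntegral_of_isMaximal n)

end Groth.Agent.S7683
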