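import Groth.Statements.S7685
import Groth.Agent.Variety.K424.IntCoef

set_option autoImplicit false
universe u
open CategoryTheory CategoryTheory.Limits AlgebraicGeometry
open Variety

namespace Groth.Agent.S7685

theorem isCoh_quotMod {X : Scheme.{u}} [IsNoetherian X] (D : X.IdealSheafData) : Coh.IsCoh (ClSub.quotMod D) :=
  S0019.result D.subschemeι _ (Fdesc.StructMod.isCoh_structureModule _)

theorem support_quotMod_subset {X : Scheme.{u}} (D : X.IdealSheafData) :
    CohB1.support (ClSub.quotMod D) ⊆ (D.support : Set X) :=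
  (CohqB.DevSimple.support_push_subset_range D.subschemeι _).trans D.range_subschemeι.le

/-- Let X be proper over a field k, Z ⊆ X a closed subscheme of dimension d and L_1, …, L_d invertible
modules. Then the intersection number (L_1 ⋯ L_d · Z), the coefficient of n_1⋯n_d in the polynomial
computing χ(X, O_Z ⊗ L_1^{⊗n_1} ⊗ ⋯ ⊗ L_d^{⊗n_d}) for all exponents in ℕ^d, is an integer. -/
theorem result (k : Type u) [Field k] (X : Scheme.{u}) [X.Over (Spec (CommRingCat.of k))] [IsProper (X ↘ (Spec (CommRingCat.of k)))]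
    (D : X.IdealSheafData) (d : ℕ) (hD : topologicalKrullDim (D.support : Set X) = d)
    (L : Fin d → X.Modules) (hL : ∀ i, PicF.IsInvertible (L i)) (P : MvPolynomial (Fin d) ℚ)
    (hP : ∀ n : Fin d → ℕ, (Curv2.euler k X (Curv2.tensorPows (ClSub.quotMod D) d L n) : ℚ) = MvPolynomial.eval (fun i => (n i : ℚ)) P) :
    ∃ z : ℤ, MvPolynomial.coeff (Finsupp.equivFunOnFinite.symm fun _ : Fin d => 1) P = (z : ℚ) := by
  have := Groth.Agent.Fga.SnapperTwist.isNoetherian_of_proper k X
  refine ⟨K424.IntCoef.icoef (Curv2.euler k X) L (ClSub.quotMod D), ?_⟩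
  refine K424.IntCoef.coeff_eq_icoef (χ := Curv2.euler k X)
    (fun S hS h1 h2 h3 => Groth.Agent.S1524.result k X S hS h1 h2 h3) L hL (ClSub.quotMod D)
    (isCoh_quotMod D) ?_ P hP
  exact (Groth.Agent.Fga.DimLt.topologicalKrullDim_mono (support_quotMod_subset D)).trans hD.le

end Groth.Agent.S7685
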