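import Groth.Statements.S7686
import Groth.Agent.Variety.K424.IntSum

set_option autoImplicit false
universe u
open CategoryTheory CategoryTheory.Limits AlgebraicGeometry
open Variety

namespace Groth.Agent.S7686

/-- Let X be proper over a field k, Z ⊆ X a closed subscheme of dimension d with irreducible components
Z_i of dimension d (reduced induced structure, generic points ξ_i, multiplicities m_i = length of
O_{Z,ξ_i} over O_{X,ξ_i}) and L_1, …, L_d invertible modules. Then (L_1 ⋯ L_d · Z) = Σ m_i (L_1 ⋯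
L_d · Z_i). Intersection numbers are the n_1⋯n_d-coefficients of the polynomials computing the Euler
characteristics; the sum is written over all points ξ whose closure has dimension d (other terms
vanish). -/
theorem result (k : Type u) [Field k] (X : Scheme.{u}) [X.Over (Spec (CommRingCat.of k))] [IsProper (X ↘ (Spec (CommRingCat.of k)))]
    (D : X.IdealSheafData) (d : ℕ) (hD : topologicalKrullDim (D.support : Set X) = d)
    (L : Fin d → X.Modules) (hL : ∀ i, PicF.IsInvertible (L i)) (P : MvPolynomial (Fin d) ℚ)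
    (hP : ∀ n : Fin d → ℕ, (Curv2.euler k X (Curv2.tensorPows (ClSub.quotMod D) d L n) : ℚ) = MvPolynomial.eval (fun i => (n i : ℚ)) P)
    (Q : X → MvPolynomial (Fin d) ℚ)
    (hQ : ∀ ξ : X, topologicalKrullDim (closure ({ξ} : Set X)) = (d : WithBot ℕ∞) →
      ∀ n : Fin d → ℕ, (Curv2.euler k X (Curv2.tensorPows (ClSub.quotMod (Scheme.IdealSheafData.vanishingIdeal (⟨closure ({ξ} : Set X), isClosed_closure⟩ : TopologicalSpace.Closeds X))) d L n) : ℚ) = MvPolynomial.eval (fun i => (n i : ℚ)) (Q ξ)) :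
    MvPolynomial.coeff (Finsupp.equivFunOnFinite.symm fun _ : Fin d => 1) P =
      ∑ᶠ ξ : X, (if topologicalKrullDim (closure ({ξ} : Set X)) = (d : WithBot ℕ∞) then
        ((Module.length (X.presheaf.stalk ξ) ((ClSub.quotMod D).presheaf.stalk ξ)).toNat : ℚ) *
          MvPolynomial.coeff (Finsupp.equivFunOnFinite.symm fun _ : Fin d => 1) (Q ξ) else 0) := by
  classical
  have := Groth.Agent.Fga.SnapperTwist.isNoetherian_of_proper k X
  have hχ : Fga.ChiBasic.IsAdd (Curv2.euler k X) :=
    fun S hS h1 h2 h3 => Groth.Agent.S1524.result k X S hS h1 h2 h3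
  have hDd : topologicalKrullDim (CohB1.support (ClSub.quotMod D)) ≤ (d : WithBot ℕ∞) :=
    (Fga.DimLt.topologicalKrullDim_mono (K424.IntSum.support_quotMod_subset D)).trans hD.le
  have h1 := K424.IntCoef.coeff_eq_icoef hχ L hL (ClSub.quotMod D) (K424.IntSum.isCoh_quotMod D) hDd P hP
  have h2 := K424.IntSum.icoef_eq_lenSum hχ L hL (ClSub.quotMod D) (K424.IntSum.isCoh_quotMod D) hDd
  have h3 : ∀ ξ : X, topologicalKrullDim (closure ({ξ} : Set X)) = (d : WithBot ℕ∞) →
      MvPolynomial.coeff (Finsupp.equivFunOnFinite.symm fun _ : Fin d => 1) (Q ξ) =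
        (K424.IntCoef.icoef (Curv2.euler k X) L (ClSub.quotMod (K424.IntSum.vI ξ)) : ℚ) := by
    intro ξ hξ
    refine K424.IntCoef.coeff_eq_icoef hχ L hL _ (K424.IntSum.isCoh_quotMod _) ?_ (Q ξ) (hQ ξ hξ)
    exact (Fga.DimLt.topologicalKrullDim_mono (K424.IntSum.support_quotMod_vI ξ)).trans hξ.le
  rw [h1, h2]
  unfold K424.LenSum.lenSum
  have hfin : (Function.support (K424.LenSum.term d
      (fun ξ => K424.IntCoef.icoef (Curv2.euler k X) L (ClSub.quotMod (K424.IntSum.vI ξ)))
      (ClSub.quotMod D))).Finite := by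
    have hcl : IsClosed (CohB1.support (ClSub.quotMod D)) :=
      Ega3B.Devissage.isClosed_support (K424.IntSum.isCoh_quotMod D)
    exact (K424.LenSum.finite_points hcl hDd).subset (K424.LenSum.support_term_subset d _ _ _ subset_rfl)
  refine (AddMonoidHom.map_finsum (Int.castAddHom ℚ) hfin).trans (finsum_congr fun ξ => ?_)
  change ((K424.LenSum.term d _ _ ξ : ℤ) : ℚ) = _
  unfold K424.LenSum.term
  by_cases hξ : topologicalKrullDim (closure ({ξ} : Set X)) = (d : WithBot ℕ∞)
  · rw [if_pos hξ, if_pos hξ, h3 ξ hξ]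
    simp
  · rw [if_neg hξ, if_neg hξ]
    simp

end Groth.Agent.S7686
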