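import Groth.Statements.S7687
import Groth.Agent.S1640

set_option autoImplicit false
universe u
open CategoryTheory CategoryTheory.Limits AlgebraicGeometry
open Variety

namespace Groth.Agent.S7687

section aux

variable {K : Type u} [Field K]

/-- Powers of a nonzero element of the Jacobson radical clear denominators. -/
theorem exists_pow_mul_mem (B : Subring K) [IsFractionRing B K]
    (hdim : ringKrullDim B = 1) (s : K) (hs : s ∈ B) (hj : (⟨s, hs⟩ : B) ∈ (⊥ : Ideal B).jacobson) (a : K) :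
    ∃ n : ℕ, s ^ n * a ∈ B := by
  obtain ⟨b, c, hc, rfl⟩ := IsFractionRing.div_surjective (A := B) a
  have hc0 : c ≠ 0 := nonZeroDivisors.ne_zero hc
  have hK := Groth.Agent.VarietyB.SemilocalDedekind.krullDimLE_one B hdim
  have hD := Groth.Agent.VarietyB.SemilocalDedekind.dimensionLEOne B
  have hrad : (⟨s, hs⟩ : B) ∈ (Ideal.span {c}).radical := by
    rw [Ideal.radical_eq_sInf, Ideal.mem_sInf]
    rintro P ⟨hP, hPp⟩
    have hP0 : P ≠ ⊥ := by
      rintro rfl
      exact hc0 (by simpa using hP)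
    have hPm : P.IsMaximal := hPp.isMaximal hP0
    rw [Ideal.jacobson, Ideal.mem_sInf] at hj
    exact hj ⟨bot_le, hPm⟩
  obtain ⟨n, hn⟩ := hrad
  rw [Ideal.mem_span_singleton'] at hn
  obtain ⟨t, ht⟩ := hn
  refine ⟨n, ?_⟩
  have hc' : (c : K) ≠ 0 := fun h => hc0 (Subtype.ext h)
  have h1 : s ^ n = (t : K) * (c : K) := by
    have := congrArg (Subtype.val) ht
    simpa using this.symm
  have h2 : s ^ n * (algebraMap B K b / algebraMap B K c) = ((t * b : B) : K) := by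
    rw [h1]
    change (t : K) * (c : K) * ((b : K) / (c : K)) = ((t : K) * (b : K))
    field_simp
  rw [h2]
  exact (t * b).2

/-- An element `z` of the Jacobson radical of `A` whose inverse lies in that of `B`. -/
theorem exists_jac_jac (A B : Subring K) [IsFractionRing A K] [IsFractionRing B K]
    [IsNoetherianRing A] [IsNoetherianRing B]
    (hdimA : ringKrullDim A = 1) (hdimB : ringKrullDim B = 1)
    (hslA : Finite (MaximalSpectrum A)) (hslB : Finite (MaximalSpectrum B)) (hgen : A ⊔ B = ⊤) :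
    ∃ z : K, z ≠ 0 ∧ (∃ h : z ∈ A, (⟨z, h⟩ : A) ∈ (⊥ : Ideal A).jacobson) ∧
      (∃ h : z⁻¹ ∈ B, (⟨z⁻¹, h⟩ : B) ∈ (⊥ : Ideal B).jacobson) := by
  obtain ⟨x, hxA, hx0, hx⟩ := Groth.Agent.S1640.result K A 1 (fun _ => B) (fun _ => hdimB)
    (fun _ => hslB) (fun _ => hgen)
  obtain ⟨y, hyB, hy0, hy⟩ := Groth.Agent.S1640.result K B 1 (fun _ => A) (fun _ => hdimA)
    (fun _ => hslA) (fun _ => by rw [sup_comm]; exact hgen)
  obtain ⟨hx1, hx2⟩ := hx 0
  obtain ⟨hy1, hy2⟩ := hy 0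
  refine ⟨x * y⁻¹, mul_ne_zero hx0 (inv_ne_zero hy0), ⟨A.mul_mem hxA hy1, ?_⟩, ⟨?_, ?_⟩⟩
  · exact Ideal.mul_mem_left _ (⟨x, hxA⟩ : A) hy2
  · rw [mul_inv, inv_inv]
    exact B.mul_mem hx1 hyB
  · have h : (⟨(x * y⁻¹)⁻¹, by rw [mul_inv, inv_inv]; exact B.mul_mem hx1 hyB⟩ : B) =
        ⟨x⁻¹, hx1⟩ * ⟨y, hyB⟩ := Subtype.ext (by simp [mul_comm])
    rw [h]
    exact Ideal.mul_mem_right _ _ hx2

/-- Localisation of `A ⊓ B` at an element which is a unit of `A` and in the Jacobson radical of `B`. -/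
theorem isLocalization_away (A B R : Subring K) [IsFractionRing B K]
    (hdim : ringKrullDim B = 1) (hR : ∀ z, z ∈ R ↔ z ∈ A ∧ z ∈ B) (hle : R ≤ A)
    (r : K) (hr0 : r ≠ 0) (hrA : r ∈ A) (hrB : r ∈ B) (hrA' : r⁻¹ ∈ A)
    (hj : (⟨r, hrB⟩ : B) ∈ (⊥ : Ideal B).jacobson) :
    @IsLocalization.Away R _ (⟨r, (hR r).2 ⟨hrA, hrB⟩⟩ : R) A _ (Subring.inclusion hle).toAlgebra := by
  letI := (Subring.inclusion hle).toAlgebra
  constructor
  constructor
  · rintro ⟨_, n, rfl⟩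
    have : IsUnit (⟨r, hrA⟩ : A) := IsUnit.of_mul_eq_one (⟨r⁻¹, hrA'⟩ : A) (Subtype.ext (mul_inv_cancel₀ hr0))
    change IsUnit (algebraMap R A (_ ^ n))
    rw [map_pow]
    exact this.pow n
  · intro a
    obtain ⟨n, hn⟩ := exists_pow_mul_mem B hdim r hrB hj a.1
    refine ⟨(⟨r ^ n * a.1, (hR _).2 ⟨A.mul_mem (A.pow_mem hrA n) a.2, hn⟩⟩,
      ⟨(⟨r, (hR r).2 ⟨hrA, hrB⟩⟩ : R) ^ n, n, rfl⟩), ?_⟩
    apply Subtype.ext
    change a.1 * r ^ n = r ^ n * a.1
    exact mul_comm _ _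
  · intro x y h
    refine ⟨1, ?_⟩
    rw [Subring.inclusion_injective hle h]

/-- The same inside `K`: `K` is the localisation of `A` at a nonzero element of its Jacobson radical. -/
theorem isLocalization_away_field (A : Subring K) [IsFractionRing A K]
    (hdim : ringKrullDim A = 1) (s : K) (hs0 : s ≠ 0) (hsA : s ∈ A)
    (hj : (⟨s, hsA⟩ : A) ∈ (⊥ : Ideal A).jacobson) :
    IsLocalization.Away (⟨s, hsA⟩ : A) K := by
  constructor
  constructor
  · rintro ⟨_, n, rfl⟩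
    change IsUnit (algebraMap A K (_ ^ n))
    rw [map_pow]
    exact (IsUnit.mk0 (s : K) hs0).pow n
  · intro a
    obtain ⟨n, hn⟩ := exists_pow_mul_mem A hdim s hsA hj a
    refine ⟨(⟨s ^ n * a, hn⟩, ⟨(⟨s, hsA⟩ : A) ^ n, n, rfl⟩), ?_⟩
    change a * s ^ n = s ^ n * a
    exact mul_comm _ _
  · intro x y h
    refine ⟨1, ?_⟩
    have h' : x = y := Subtype.ext h
    rw [h']

end aux

/-- Let K be a field and A, B ⊆ K Noetherian semi-local domains of dimension one with fraction field K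
such that A ⊗ B → K is surjective, and R = A ∩ B. Then Spec A and Spec B each map to Spec R by an
open immersion, Spec R is the union of the two images, and the natural map A ⊗_R B → K is an
isomorphism. -/
theorem result (K : Type u) [Field K]
    (A : Subring K) [IsFractionRing A K] (B : Subring K) [IsFractionRing B K] [IsNoetherianRing A] [IsNoetherianRing B]
    (hdimA : ringKrullDim A = 1) (hdimB : ringKrullDim B = 1)
    (hslA : Finite (MaximalSpectrum A)) (hslB : Finite (MaximalSpectrum B)) (hgen : A ⊔ B = ⊤) :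
    IsOpenImmersion (Spec.map (CommRingCat.ofHom (Subring.inclusion (inf_le_left : A ⊓ B ≤ A)))) ∧
      IsOpenImmersion (Spec.map (CommRingCat.ofHom (Subring.inclusion (inf_le_right : A ⊓ B ≤ B)))) ∧
      Set.range (Spec.map (CommRingCat.ofHom (Subring.inclusion (inf_le_left : A ⊓ B ≤ A)))).base ∪
        Set.range (Spec.map (CommRingCat.ofHom (Subring.inclusion (inf_le_right : A ⊓ B ≤ B)))).base = Set.univ ∧
      IsPushout (CommRingCat.ofHom (Subring.inclusion (inf_le_left : A ⊓ B ≤ A)))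
        (CommRingCat.ofHom (Subring.inclusion (inf_le_right : A ⊓ B ≤ B)))
        (CommRingCat.ofHom A.subtype) (CommRingCat.ofHom B.subtype) := by
  obtain ⟨z, hz0, ⟨hzA, hzj⟩, ⟨hzB, hzj'⟩⟩ := exists_jac_jac A B hdimA hdimB hslA hslB hgen
  -- `1 + z` is a unit of `A`
  have hzu : IsUnit (⟨z, hzA⟩ + 1 : A) := by
    have := Ideal.mem_jacobson_bot.1 hzj 1
    rwa [mul_one] at this
  have hzu' : IsUnit (⟨z⁻¹, hzB⟩ + 1 : B) := by
    have := Ideal.mem_jacobson_bot.1 hzj' 1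
    rwa [mul_one] at this
  obtain ⟨u, hu⟩ := hzu
  obtain ⟨v, hv⟩ := hzu'
  have h1 : z + 1 ≠ 0 := by
    intro h
    have : (u : A) = 0 := by rw [hu]; exact Subtype.ext h
    exact u.ne_zero this
  have h1' : z⁻¹ + 1 ≠ 0 := by
    intro h
    have : (v : B) = 0 := by rw [hv]; exact Subtype.ext h
    exact v.ne_zero this
  have hinvA : (z + 1)⁻¹ ∈ A := by
    have h2 : ((u⁻¹ : Aˣ) : A).1 * (z + 1) = 1 := by
      have : ((u⁻¹ : Aˣ) : A) * (u : A) = 1 := by simp
      rw [hu] at this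
      exact congrArg Subtype.val this
    rw [← eq_inv_of_mul_eq_one_left h2]
    exact ((u⁻¹ : Aˣ) : A).2
  have hinvB : (z⁻¹ + 1)⁻¹ ∈ B := by
    have h2 : ((v⁻¹ : Bˣ) : B).1 * (z⁻¹ + 1) = 1 := by
      have : ((v⁻¹ : Bˣ) : B) * (v : B) = 1 := by simp
      rw [hv] at this
      exact congrArg Subtype.val this
    rw [← eq_inv_of_mul_eq_one_left h2]
    exact ((v⁻¹ : Bˣ) : B).2
  -- `r = 1 / (1 + z)`, `s = z / (1 + z)`
  set r : K := (z + 1)⁻¹ with hr
  set s : K := (z⁻¹ + 1)⁻¹ with hs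
  have h2 : s = z * r := by
    rw [hr, hs]
    have h3 : z⁻¹ + 1 = z⁻¹ * (z + 1) := by
      rw [mul_add, inv_mul_cancel₀ hz0, mul_one, add_comm]
    rw [h3, mul_inv, inv_inv]
  have hrs : r + s = 1 := by
    rw [h2, hr]
    have h3 : (z + 1)⁻¹ + z * (z + 1)⁻¹ = (z + 1) * (z + 1)⁻¹ := by ring
    rw [h3, mul_inv_cancel₀ h1]
  have hr2 : r = z⁻¹ * s := by
    rw [h2, ← mul_assoc, inv_mul_cancel₀ hz0, one_mul]
  have hs2 : s = z * r := h2
  have hr0 : r ≠ 0 := inv_ne_zero h1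
  have hs0 : s ≠ 0 := inv_ne_zero h1'
  have hrB : r ∈ B := by rw [hr2]; exact B.mul_mem hzB hinvB
  have hsA : s ∈ A := by rw [hs2]; exact A.mul_mem hzA hinvA
  have hrj : (⟨r, hrB⟩ : B) ∈ (⊥ : Ideal B).jacobson := by
    have : (⟨r, hrB⟩ : B) = ⟨z⁻¹, hzB⟩ * ⟨s, hinvB⟩ := Subtype.ext hr2
    rw [this]
    exact Ideal.mul_mem_right _ _ hzj'
  have hsj : (⟨s, hsA⟩ : A) ∈ (⊥ : Ideal A).jacobson := by
    have : (⟨s, hsA⟩ : A) = ⟨z, hzA⟩ * ⟨r, hinvA⟩ := Subtype.ext hs2
    rw [this]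
    exact Ideal.mul_mem_right _ _ hzj
  have hri : r⁻¹ ∈ A := by rw [hr, inv_inv]; exact A.add_mem hzA A.one_mem
  have hsi : s⁻¹ ∈ B := by rw [hs, inv_inv]; exact B.add_mem hzB B.one_mem
  have hmem : ∀ w, w ∈ A ⊓ B ↔ w ∈ A ∧ w ∈ B := fun w => Subring.mem_inf
  let r' : (A ⊓ B : Subring K) := ⟨r, (hmem r).2 ⟨hinvA, hrB⟩⟩
  let s' : (A ⊓ B : Subring K) := ⟨s, (hmem s).2 ⟨hsA, hinvB⟩⟩
  letI algA : Algebra (A ⊓ B : Subring K) A := (Subring.inclusion (inf_le_left : A ⊓ B ≤ A)).toAlgebra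
  letI algB : Algebra (A ⊓ B : Subring K) B := (Subring.inclusion (inf_le_right : A ⊓ B ≤ B)).toAlgebra
  have locA : IsLocalization.Away r' A :=
    isLocalization_away A B (A ⊓ B) hdimB hmem inf_le_left r hr0 hinvA hrB hri hrj
  have locB : IsLocalization.Away s' B :=
    isLocalization_away B A (A ⊓ B) hdimA (fun w => by rw [hmem, and_comm]) inf_le_right s hs0
      hinvB hsA hsi hsj
  refine ⟨IsOpenImmersion.of_isLocalization (R := (A ⊓ B : Subring K)) (S := A) r',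
    IsOpenImmersion.of_isLocalization (R := (A ⊓ B : Subring K)) (S := B) s', ?_, ?_⟩
  · rw [Set.eq_univ_iff_forall]
    intro p
    have e1 : Set.range (Spec.map (CommRingCat.ofHom (Subring.inclusion (inf_le_left : A ⊓ B ≤ A)))).base =
        ((PrimeSpectrum.basicOpen r' : TopologicalSpace.Opens _) : Set (PrimeSpectrum (A ⊓ B : Subring K))) := PrimeSpectrum.localization_away_comap_range A r'
    have e2 : Set.range (Spec.map (CommRingCat.ofHom (Subring.inclusion (inf_le_right : A ⊓ B ≤ B)))).base =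
        ((PrimeSpectrum.basicOpen s' : TopologicalSpace.Opens _) : Set (PrimeSpectrum (A ⊓ B : Subring K))) := PrimeSpectrum.localization_away_comap_range B s'
    rw [e1, e2]
    by_contra hcon
    have hp1 : r' ∈ p.asIdeal := by
      by_contra h; exact hcon (Or.inl h)
    have hp2 : s' ∈ p.asIdeal := by
      by_contra h; exact hcon (Or.inr h)
    have : (1 : (A ⊓ B : Subring K)) ∈ p.asIdeal := by
      have h3 : r' + s' = 1 := Subtype.ext hrs
      rw [← h3]
      exact p.asIdeal.add_mem hp1 hp2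
    exact p.isPrime.ne_top ((Ideal.eq_top_iff_one _).2 this)
  · have hlocK : IsLocalization.Away (⟨s, hsA⟩ : A) K := isLocalization_away_field A hdimA s hs0 hsA hsj
    have : IsLocalization ((Submonoid.powers s').map (Subring.inclusion (inf_le_left : A ⊓ B ≤ A))) K := by
      rw [Submonoid.map_powers]
      exact hlocK
    exact CommRingCat.isPushout_of_isLocalization (R := (A ⊓ B : Subring K)) (S := A) (Rₘ := B) (Sₘ := K)
      (Subring.inclusion (inf_le_left : A ⊓ B ≤ A)) B.subtype rfl (Submonoid.powers s')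

end Groth.Agent.S7687
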