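import Groth.Statements.S7688
import Groth.Agent.S1552
import Groth.Agent.S1644
import Groth.Agent.Ega2.Normal

set_option autoImplicit false
universe u
open CategoryTheory CategoryTheory.Limits AlgebraicGeometry
open Variety

namespace Groth.Agent.S7688

section topology

open TopologicalSpace

/-- A Noetherian sober space all of whose points are closed is finite and discrete. -/
theorem discrete_of_closed_points {T : Type*} [TopologicalSpace T] [NoetherianSpace T] [QuasiSober T]
    (h : ∀ x : T, IsClosed ({x} : Set T)) : DiscreteTopology T := by
  have hT1 : T1Space T := ⟨h⟩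
  have hfin : Finite T := by
    have hf : (irreducibleComponents T).Finite := NoetherianSpace.finite_irreducibleComponents
    have : Finite (irreducibleComponents T) := hf.to_subtype
    refine Finite.of_injective (β := irreducibleComponents T)
      (fun x => ⟨irreducibleComponent x, irreducibleComponent_mem_irreducibleComponents x⟩) ?_
    intro x y hxy
    have hxy' : irreducibleComponent x = irreducibleComponent y := congrArg Subtype.val hxy
    obtain ⟨g, hg⟩ := QuasiSober.sober (isIrreducible_irreducibleComponent (x := x)) isClosed_irreducibleComponent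
    have hg' : irreducibleComponent x = {g} := by
      rw [← hg.def, (h g).closure_eq]
    have h1 : x = g := by
      have : x ∈ irreducibleComponent x := mem_irreducibleComponent
      rw [hg'] at this
      exact this
    have h2 : y = g := by
      have : y ∈ irreducibleComponent y := mem_irreducibleComponent
      rw [← hxy', hg'] at this
      exact this
    rw [h1, h2]
  infer_instance

/-- In a Noetherian sober space of dimension at most one, a point off a dense open set is closed. -/
theorem closed_of_notMem_dense {T : Type*} [TopologicalSpace T] [NoetherianSpace T] [QuasiSober T] [T0Space T]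
    (hdim : topologicalKrullDim T ≤ 1) (V : Opens T) (hV : Dense (V : Set T)) (y : T) (hy : y ∉ V) :
    IsClosed ({y} : Set T) := by
  have key : ∀ z, y ⤳ z → z = y := by
    intro z hz
    by_contra hne
    -- the generic point of a component through `y` lies in `V`
    obtain ⟨η, hη⟩ := QuasiSober.sober (isIrreducible_irreducibleComponent (x := y)) isClosed_irreducibleComponent
    have hηy : η ⤳ y := by
      rw [specializes_iff_mem_closure, hη.def]
      exact mem_irreducibleComponent
    have hηV : η ∈ V := by
      obtain ⟨U, hU, hne', hUle⟩ := NoetherianSpace.exists_isOpen_nonempty_subset_irreducibleComponent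
        (irreducibleComponent y) (irreducibleComponent_mem_irreducibleComponents y)
      obtain ⟨w, hwU, hwV⟩ := hV.inter_open_nonempty U hU hne'
      have : η ⤳ w := by
        rw [specializes_iff_mem_closure, hη.def]
        exact hUle hwU
      exact this.mem_open V.isOpen hwV
    have hηne : η ≠ y := fun h => hy (h ▸ hηV)
    -- chain of length two
    let I : T → IrreducibleCloseds T := fun t => ⟨closure {t}, isIrreducible_singleton.closure, isClosed_closure⟩
    have hlt : ∀ s t : T, s ⤳ t → t ≠ s → I t < I s := by
      intro s t hst hne
      refine lt_of_le_of_ne ?_ ?_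
      · exact closure_minimal (Set.singleton_subset_iff.mpr hst.mem_closure) isClosed_closure
      · intro h
        apply hne
        have h' : closure ({t} : Set T) = closure {s} := congrArg (fun Z : IrreducibleCloseds T => (Z : Set T)) h
        have : t ⤳ s := by rw [specializes_iff_mem_closure, h']; exact subset_closure rfl
        exact (this.antisymm hst).eq
    have l1 : I z < I y := hlt y z hz hne
    have l2 : I y < I η := hlt η y hηy (Ne.symm hηne)
    let s : LTSeries (IrreducibleCloseds T) :=
      ⟨2, ![I z, I y, I η], fun i => by
        fin_cases i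
        · exact l1
        · exact l2⟩
    have hs : ((2 : ℕ) : WithBot ℕ∞) ≤ topologicalKrullDim T := by
      have := Order.LTSeries.length_le_krullDim s
      exact this
    have := hs.trans hdim
    exact absurd this (by decide)
  rw [← closure_subset_iff_isClosed]
  intro z hz
  exact key z (specializes_iff_mem_closure.mpr hz)

end topology

/-- If `f` is a closed immersion over `V` then its map to the scheme-theoretic image is an isomorphism
over `V`. -/
theorem isIso_toImage_restrict {X Y : Scheme.{u}} (f : X ⟶ Y) [QuasiCompact f] (V : Y.Opens)
    (hfV : IsClosedImmersion (f ∣_ V)) : IsIso (f.toImage ∣_ (f.imageι ⁻¹ᵁ V)) := by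
  have hcomp : (f.toImage ∣_ (f.imageι ⁻¹ᵁ V)) ≫ (f.imageι ∣_ V) = (f.toImage ≫ f.imageι) ∣_ V :=
    (morphismRestrict_comp f.toImage f.imageι V).symm
  have hcl : IsClosedImmersion ((f.toImage ≫ f.imageι) ∣_ V) := by
    rw [f.toImage_imageι]
    exact hfV
  rw [← hcomp] at hcl
  have hcl' : IsClosedImmersion (f.toImage ∣_ (f.imageι ⁻¹ᵁ V)) :=
    @IsClosedImmersion.of_comp _ _ _ _ (f.imageι ∣_ V) hcl _
  rw [IsClosedImmersion.isIso_iff_ker_eq_bot]
  ext W : 2
  rw [Scheme.ker_morphismRestrict_ideal, Groth.Agent.Ega2.Normal.ker_toImage]
  rfl

/-- Let f : X → Y be finite with Y Noetherian of dimension at most one, and suppose that over some dense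
open V ⊆ Y the restriction f⁻¹(V) → V is a closed immersion. Then each invertible O_X-module arises,
up to isomorphism, by pulling back an invertible O_Y-module along f. -/
theorem result {X Y : Scheme.{u}} (f : X ⟶ Y)
    [IsFinite f] [IsNoetherian Y] (hdim : topologicalKrullDim Y ≤ 1)
    (V : Y.Opens) (hV : Dense (V : Set Y)) (hfV : IsClosedImmersion (f ∣_ V))
    (L : X.Modules) (hL : PicF.IsInvertible L) :
    ∃ N : Y.Modules, PicF.IsInvertible N ∧ Nonempty ((Scheme.Modules.pullback f).obj N ≅ L) := by
  have hiso := isIso_toImage_restrict f V hfV
  have hfin : IsFinite (f.toImage ≫ f.imageι) := by rw [f.toImage_imageι]; infer_instance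
  have hfin' : IsFinite f.toImage := IsFinite.of_comp f.toImage f.imageι
  let S : Set f.image := ((f.imageι ⁻¹ᵁ V : f.image.Opens) : Set f.image)ᶜ
  have hS : IsClosed S := (f.imageι ⁻¹ᵁ V).isOpen.isClosed_compl
  have hce : Topology.IsClosedEmbedding f.imageι := f.imageι.isClosedEmbedding
  have hNoe : TopologicalSpace.NoetherianSpace f.image := hce.isInducing.noetherianSpace
  have hNoeS : TopologicalSpace.NoetherianSpace S := hS.isClosedEmbedding_subtypeVal.isInducing.noetherianSpace
  have hQS : QuasiSober S := hS.isClosedEmbedding_subtypeVal.quasiSober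
  have hdisc : DiscreteTopology S := by
    refine discrete_of_closed_points fun s => ?_
    have h1 : IsClosed ({f.imageι s.1} : Set Y) :=
      closed_of_notMem_dense hdim V hV _ s.2
    have h2 : ({s} : Set S) = (fun t : S => f.imageι t.1) ⁻¹' {f.imageι s.1} := by
      ext t
      constructor
      · rintro rfl; rfl
      · intro ht
        exact Subtype.ext (hce.injective ht)
    rw [h2]
    exact h1.preimage (hce.continuous.comp continuous_subtype_val)
  obtain ⟨N', hN', ⟨e'⟩⟩ := Groth.Agent.S1552.result f.toImage (f.imageι ⁻¹ᵁ V) hiso hdisc L hL
  obtain ⟨N, hN, ⟨e⟩⟩ := Groth.Agent.S1644.result f.imageι hdim N' hN'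
  refine ⟨N, hN, ⟨?_⟩⟩
  exact (eqToIso (by rw [f.toImage_imageι]) : (Scheme.Modules.pullback f).obj N ≅
      (Scheme.Modules.pullback (f.toImage ≫ f.imageι)).obj N) ≪≫
    ((Scheme.Modules.pullbackComp f.toImage f.imageι).symm.app N) ≪≫
    (Scheme.Modules.pullback f.toImage).mapIso e ≪≫ e'

end Groth.Agent.S7688
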