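import Groth.Statements.S7689
import Groth.Agent.Variety.K424.NormStalk
import Groth.Agent.VarietyB.NormalizationVar
import Groth.Agent.CurvesC.AnUnram
import Groth.Agent.Dcoh.StalkMod

set_option autoImplicit false
universe u
open CategoryTheory CategoryTheory.Limits AlgebraicGeometry
open Variety

namespace Groth.Agent.S7689

open Groth.Agent.CycB.StalkExact in
theorem length_cokernel_stalk {X : Scheme.{u}} {M N : X.Modules} (f : M ⟶ N) (x : X) :
    Module.length (X.presheaf.stalk x) ((cokernel f).presheaf.stalk x) =
      Module.length (X.presheaf.stalk x) (N.presheaf.stalk x ⧸ LinearMap.range (stalkLin f x)) := by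
  have h1 : Function.Exact (stalkLin f x) (stalkLin (cokernel.π f) x) :=
    stalkLin_exact (ShortComplex.mk f (cokernel.π f) (cokernel.condition f)) (ShortComplex.exact_cokernel f) x
  have h2 : Function.Surjective (stalkLin (cokernel.π f) x) := stalkLin_surjective _ x
  exact (h1.linearEquivOfSurjective h2).symm.length_eq

/-- For an integral X: let X be an integral Nagata scheme of dimension one (every affine open has a
Nagata coordinate ring) with normalization ν : X^ν → X. Then ν is finite and birational (an
isomorphism over a dense open), O_X ⊆ ν_*O_{X^ν}, and the quotient ν_*O_{X^ν}/O_X is supported at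
closed points, its stalk at a closed point x having length equal to the δ-invariant of O_{X,x}. (The
published statement is for reduced Nagata schemes of dimension one; it also says that ν is
surjective and that the quotient is nonzero exactly at the singular points, and it describes the
stalk A' of ν_*O_{X^ν} at x, namely the integral closure of O_{X,x} in its total fraction ring, a
semi-local ring that is a finite product of Dedekind domains, together with the completions of
O_{X,x} and A'. This row takes X integral, does not restate surjectivity, which holds for the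
normalization of every integral scheme, and keeps the finiteness, birationality, injectivity and
length clauses.) -/
theorem result (X : Scheme.{u}) [IsIntegral X]
    [QuasiCompact (X.fromSpecStalk (genericPoint X))] [QuasiSeparated (X.fromSpecStalk (genericPoint X))]
    (hN : ∀ U : X.affineOpens, CAlg.IsNagata Γ(X, (U : X.Opens))) (hdim : topologicalKrullDim X = 1) :
    IsFinite (Curv2.normalizationι X) ∧
      (∃ U : X.Opens, Dense ((U : Set X)) ∧ IsIso (Curv2.normalizationι X ∣_ U)) ∧
      Mono (ClSub.unitToPush (Curv2.normalizationι X)) ∧
      (∀ x : X, IsClosed ({x} : Set X) →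
        Module.length (X.presheaf.stalk x) ((cokernel (ClSub.unitToPush (Curv2.normalizationι X))).presheaf.stalk x) =
          Curv2.deltaInv (X.presheaf.stalk x)) ∧
      (∀ x : X, ¬ IsClosed ({x} : Set X) →
        Subsingleton ((cokernel (ClSub.unitToPush (Curv2.normalizationι X))).presheaf.stalk x)) := by
  have hfin : ∀ (U : X.Opens), IsAffineOpen U → Nonempty U →
      letI := ((VarietyB.NormalizationVar.gen X).app U).hom.toAlgebra
      Module.Finite Γ(X, U) (integralClosure Γ(X, U)
        Γ(Spec (X.presheaf.stalk (genericPoint X)), (VarietyB.NormalizationVar.gen X) ⁻¹ᵁ U)) := by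
    intro U hU hne
    let := ((VarietyB.NormalizationVar.gen X).app U).hom.toAlgebra
    have hfrac := VarietyB.NormalizationVar.isFractionRing_gen_app X hU
    exact CurvesC.AnUnram.finite_integralClosure_of_isNagata Γ(X, U) (hN ⟨U, hU⟩) (nonZeroDivisors Γ(X, U)) le_rfl _
  have hlen : ∀ x : X, Module.length (X.presheaf.stalk x)
      ((cokernel (ClSub.unitToPush (Curv2.normalizationι X))).presheaf.stalk x) =
          Curv2.deltaInv (X.presheaf.stalk x) := by
    intro x
    obtain ⟨e, he⟩ := K424.NormStalk.exists_equiv X x
    rw [length_cokernel_stalk]
    unfold Curv2.deltaInv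
    refine LinearEquiv.length_eq (Submodule.Quotient.equiv _ _ e ?_)
    ext d
    constructor
    · rintro ⟨_, ⟨t, rfl⟩, rfl⟩
      obtain ⟨a, rfl⟩ := (Fdesc.StructMod.stalkEquiv x).surjective t
      exact ⟨a, (he a).symm⟩
    · rintro ⟨a, rfl⟩
      exact ⟨_, ⟨Fdesc.StructMod.stalkEquiv x a, rfl⟩, he a⟩
  refine ⟨VarietyB.NormalizationVar.isFinite_fromNormalization X hfin, ?_, ?_, fun x _ => hlen x, ?_⟩
  · obtain ⟨U, hU, hxU, -⟩ := exists_isAffineOpen_mem_and_subset (X := X) (x := genericPoint X)
      (U := ⊤) trivial
    have hne : Nonempty U := ⟨⟨_, hxU⟩⟩
    let := ((VarietyB.NormalizationVar.gen X).app U).hom.toAlgebra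
    have hfrac := VarietyB.NormalizationVar.isFractionRing_gen_app X hU
    have := hfin U hU hne
    obtain ⟨s, hs0, hs⟩ := VarietyB.NormalizationVar.exists_isIntegrallyClosed_localization Γ(X, U)
      Γ(Spec (X.presheaf.stalk (genericPoint X)), (VarietyB.NormalizationVar.gen X) ⁻¹ᵁ U)
    have hV : IsAffineOpen (X.basicOpen s) := hU.basicOpen s
    have hVne : (X.basicOpen s : Set X).Nonempty := by
      by_contra h
      rw [Set.not_nonempty_iff_eq_empty] at h
      exact hs0 ((basicOpen_eq_bot_iff s).mp (TopologicalSpace.Opens.ext h))
    refine ⟨X.basicOpen s, (X.basicOpen s).isOpen.dense hVne, ?_⟩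
    have : Nonempty (X.basicOpen s) := hVne.to_subtype
    refine VarietyB.NormalizationVar.isIso_fromNormalization_restrict X _ hV ?_
    have hloc := hU.isLocalization_basicOpen s
    exact IsIntegrallyClosed.of_equiv
      (IsLocalization.algEquiv (Submonoid.powers s) (Localization.Away s)
        Γ(X, X.basicOpen s)).toRingEquiv
  · refine Dcoh.StalkMod.mono_of_injective _ fun x => ?_
    obtain ⟨e, he⟩ := K424.NormStalk.exists_equiv X x
    intro s t hst
    obtain ⟨a, rfl⟩ := (Fdesc.StructMod.stalkEquiv x).surjective s
    obtain ⟨b, rfl⟩ := (Fdesc.StructMod.stalkEquiv x).surjective t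
    have h1 : algebraMap (X.presheaf.stalk x) (integralClosure (X.presheaf.stalk x) (FractionRing (X.presheaf.stalk x))) a =
        algebraMap _ _ b := by
      rw [← he, ← he, hst]
    have h2 : Function.Injective (algebraMap (X.presheaf.stalk x)
        (integralClosure (X.presheaf.stalk x) (FractionRing (X.presheaf.stalk x)))) :=
      FaithfulSMul.algebraMap_injective _ _
    rw [h2 h1]
  · intro x hx
    have hxη : x = genericPoint X := by
      have h1 : Order.krullDim (TopologicalSpace.IrreducibleCloseds X) ≤ 1 := hdim.le
      rw [Order.krullDim_le_one_iff] at h1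
      rcases h1 ⟨closure {x}, isIrreducible_singleton.closure, isClosed_closure⟩ with h2 | h2
      · exfalso
        apply hx
        have h3 : closure ({x} : Set X) = {x} := by
          refine subset_antisymm ?_ subset_closure
          intro y hy
          have h4 : (⟨closure {y}, isIrreducible_singleton.closure, isClosed_closure⟩ :
              TopologicalSpace.IrreducibleCloseds X) ≤
              ⟨closure {x}, isIrreducible_singleton.closure, isClosed_closure⟩ :=
            closure_minimal (Set.singleton_subset_iff.mpr hy) isClosed_closure
          have h5 : x ∈ closure ({y} : Set X) := h2 h4 (subset_closure rfl)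
          have h6 : x ⤳ y := specializes_iff_mem_closure.mpr hy
          have h7 : y ⤳ x := specializes_iff_mem_closure.mpr h5
          exact (h7.antisymm h6).eq
        rw [← h3]
        exact isClosed_closure
      · have h4 : (⟨closure {x}, isIrreducible_singleton.closure, isClosed_closure⟩ :
              TopologicalSpace.IrreducibleCloseds X) ≤
              ⟨Set.univ, IrreducibleSpace.isIrreducible_univ X, isClosed_univ⟩ := Set.subset_univ _
        have h5 : closure ({x} : Set X) = Set.univ := Set.univ_subset_iff.mp (h2 h4)
        exact IsGenericPoint.eq h5 (genericPoint_spec X)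
    subst hxη
    have hdelta : Curv2.deltaInv (X.presheaf.stalk (genericPoint X)) = 0 := by
      unfold Curv2.deltaInv
      rw [Module.length_eq_zero_iff, Submodule.Quotient.subsingleton_iff, eq_top_iff]
      intro d _
      have hf : IsField (X.presheaf.stalk (genericPoint X)) := Field.toIsField X.functionField
      have hb : Function.Bijective (algebraMap (X.presheaf.stalk (genericPoint X))
          (FractionRing (X.presheaf.stalk (genericPoint X)))) :=
        hf.localization_map_bijective (M := nonZeroDivisors (X.presheaf.stalk (genericPoint X)))
          zero_notMem_nonZeroDivisors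
      obtain ⟨a, ha⟩ := hb.2 d.1
      exact ⟨a, Subtype.ext ha⟩
    have := hlen (genericPoint X)
    rw [hdelta, Module.length_eq_zero_iff] at this
    exact this

end Groth.Agent.S7689
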