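import Groth.Statements.S8272


set_option autoImplicit false
universe u
open CategoryTheory CategoryTheory.Limits AlgebraicGeometry Opposite TopologicalSpace
open EGA2

namespace Groth.Agent.S8272

/-- Let T be a positively graded ring, Z = Proj T and g ∈ T_d (d > 0) a homogeneous element that is not
a zero divisor in T. Then Z is the smallest closed subscheme of Z containing the open D_+(g);
equivalently the kernel (ideal sheaf) of the open immersion D_+(g) → Z vanishes. -/
theorem result {R A : Type u} [CommRing R] [CommRing A] [Algebra R A]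
    (𝒜 : ℕ → Submodule R A) [GradedAlgebra 𝒜] {d : ℕ} (hd : 0 < d) (g : A) (hg : g ∈ 𝒜 d)
    (hnz : g ∈ nonZeroDivisors A) :
    (Proj.basicOpen 𝒜 g).ι.ker = ⊥ := by
  have hcov : ⨆ i : (Σ i : PNat, 𝒜 i), Proj.basicOpen 𝒜 (i.2 : A) = ⊤ := by
    refine top_le_iff.mp fun x _ => ?_
    let j := (Proj.affineOpenCover 𝒜).idx x
    have hx : x ∈ ((Proj.affineOpenCover 𝒜).f j).opensRange := (Proj.affineOpenCover 𝒜).covers x
    refine TopologicalSpace.Opens.mem_iSup.mpr ⟨j, ?_⟩
    have h2 : x ∈ (Proj.awayι 𝒜 (j.2 : A) j.2.2 j.1.2).opensRange := hx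
    rwa [Proj.opensRange_awayι] at h2
  refine Scheme.IdealSheafData.ext_of_iSup_eq_top
    (fun i : (Σ i : PNat, 𝒜 i) => ⟨Proj.basicOpen 𝒜 (i.2 : A), Proj.isAffineOpen_basicOpen 𝒜 _ i.2.2 i.1.2⟩) hcov ?_
  rintro ⟨m, f, hf⟩
  rw [Scheme.IdealSheafData.ideal_bot]
  refine le_bot_iff.mp ?_
  refine (Scheme.Hom.ideal_ker_le _ _).trans ?_
  intro s hs
  rw [RingHom.mem_ker] at hs
  change s = 0
  have hx : f * g = f * g := rfl
  -- the section as an element of the homogeneous localization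
  obtain ⟨a, ha⟩ : ∃ a, (Proj.awayToSection 𝒜 f).hom a = s := by
    have := (Proj.basicOpenIsoAway 𝒜 f hf m.2)
    refine ⟨(Proj.basicOpenIsoAway 𝒜 f hf m.2).inv s, ?_⟩
    exact congr($((Proj.basicOpenIsoAway 𝒜 f hf m.2).inv_hom_id) s)
  have h1 : (Proj.awayToSection 𝒜 (f * g)).hom (HomogeneousLocalization.awayMap 𝒜 hg hx a) = 0 := by
    have h2 := congr($(Proj.awayMap_awayToSection 𝒜 (f := f) hg hx) a)
    refine h2.trans ?_
    change (Proj 𝒜).presheaf.map _ ((Proj.awayToSection 𝒜 f).hom a) = 0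
    rw [ha]
    rw [Scheme.Opens.ι_app] at hs
    have hle : Proj.basicOpen 𝒜 (f * g) ≤ (Proj.basicOpen 𝒜 g).ι ''ᵁ (Proj.basicOpen 𝒜 g).ι ⁻¹ᵁ (Proj.basicOpen 𝒜 f) := by
      rw [Scheme.Hom.image_preimage_eq_opensRange_inf, Scheme.Opens.opensRange_ι, Proj.basicOpen_mul, inf_comm]
    have h3 := (congrArg ((Proj 𝒜).presheaf.map (homOfLE hle).op).hom hs).trans (map_zero _)
    refine Eq.trans ?_ h3
    change _ = ((Proj 𝒜).presheaf.map _ ≫ (Proj 𝒜).presheaf.map _) s
    rw [← Functor.map_comp]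
    rfl
  have h4 : HomogeneousLocalization.awayMap 𝒜 hg hx a = 0 := by
    have h5 := congrArg (Proj.basicOpenIsoAway 𝒜 (f * g) (SetLike.mul_mem_graded hf hg)
      (lt_of_lt_of_le m.2 (Nat.le_add_right _ _))).inv h1
    rw [map_zero] at h5
    exact (congr($((Proj.basicOpenIsoAway 𝒜 (f * g) (SetLike.mul_mem_graded hf hg)
      (lt_of_lt_of_le m.2 (Nat.le_add_right _ _))).hom_inv_id)
      (HomogeneousLocalization.awayMap 𝒜 hg hx a))).symm.trans h5
  have h6 : a = 0 := by
    obtain ⟨n, b, hb, rfl⟩ := HomogeneousLocalization.Away.mk_surjective 𝒜 hf a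
    rw [HomogeneousLocalization.awayMap_mk] at h4
    have h7 := congrArg HomogeneousLocalization.val h4
    rw [HomogeneousLocalization.val_zero] at h7
    change Localization.mk _ _ = 0 at h7
    rw [Localization.mk_eq_mk', IsLocalization.mk'_eq_zero_iff] at h7
    obtain ⟨⟨_, k, rfl⟩, hk⟩ := h7
    apply HomogeneousLocalization.val_injective
    rw [HomogeneousLocalization.val_zero]
    change Localization.mk _ _ = 0
    rw [Localization.mk_eq_mk', IsLocalization.mk'_eq_zero_iff]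
    refine ⟨⟨f ^ k, k, rfl⟩, ?_⟩
    have h8 : (f ^ k * b) * g ^ (n + k) = 0 := by
      rw [← hk]; ring
    exact (mem_nonZeroDivisors_iff.mp (pow_mem hnz (n + k))).2 _ h8
  rw [← ha, h6, map_zero]

end Groth.Agent.S8272
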