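import Groth.Statements.S8273
import Groth.Agent.EGA2.K36.RelProjMap

set_option autoImplicit false
universe u
open CategoryTheory CategoryTheory.Limits AlgebraicGeometry Opposite TopologicalSpace
open scoped HomogeneousIdeal
open EGA2

namespace Groth.Agent.S8273

/-- Uniqueness of the relative homogeneous spectrum: two schemes over Y equipped with the chart data of
Proj(𝒮) are related by a unique morphism compatible with the charts (chartwise the identity of Proj
𝒮(U)), and that morphism is a Y-isomorphism. -/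
theorem result {Y P P' : Scheme.{u}} (𝒮 : RelProj.QCGrAlg Y) (p : P ⟶ Y)
    (chart : ∀ (U : Y.Opens) (hU : IsAffineOpen U), (((p ⁻¹ᵁ U : P.Opens) : Scheme.{u}) ≅ Proj (𝒮.deg U hU)))
    (hP : RelProj.IsRelProj 𝒮 p chart) (p' : P' ⟶ Y)
    (chart' : ∀ (U : Y.Opens) (hU : IsAffineOpen U), (((p' ⁻¹ᵁ U : P'.Opens) : Scheme.{u}) ≅ Proj (𝒮.deg U hU)))
    (hP' : RelProj.IsRelProj 𝒮 p' chart') :
    (∃! e : P ⟶ P', ∀ (U : Y.Opens) (hU : IsAffineOpen U),
        (p ⁻¹ᵁ U).ι ≫ e = (chart U hU).hom ≫ (chart' U hU).inv ≫ (p' ⁻¹ᵁ U).ι) ∧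
      ∀ e : P ⟶ P', (∀ (U : Y.Opens) (hU : IsAffineOpen U),
        (p ⁻¹ᵁ U).ι ≫ e = (chart U hU).hom ≫ (chart' U hU).inv ≫ (p' ⁻¹ᵁ U).ι) → IsIso e ∧ e ≫ p' = p := by
  have key : ∀ e : P ⟶ P', (∀ (U : Y.Opens) (hU : IsAffineOpen U),
        (p ⁻¹ᵁ U).ι ≫ e = (chart U hU).hom ≫ (chart' U hU).inv ≫ (p' ⁻¹ᵁ U).ι) ↔
      ∀ (U : Y.Opens) (hU : IsAffineOpen U),
        RelProj.emb p chart U hU ≫ e = 𝟙 _ ≫ RelProj.emb p' chart' U hU := fun e => by
    refine forall_congr' fun U => forall_congr' fun hU => ?_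
    rw [RelProj.emb, RelProj.emb, Category.id_comp, Category.assoc, Iso.inv_comp_eq]
  obtain ⟨e, he⟩ := K36.RelProjMap.exists_map hP hP' (fun U hU => 𝟙 (Proj (𝒮.deg U hU))) (fun U hU r => by
    rw [Category.comp_id, Category.id_comp])
  refine ⟨⟨e, (key e).mpr he, fun e' he' => ?_⟩, fun e' he' => ?_⟩
  · refine K36.RelProjMap.hom_ext_emb (chart := chart) fun U hU => ?_
    rw [(key e').mp he' U hU, he U hU]
  · have he'' := (key e').mp he'
    have hp : e' ≫ p' = p := K36.RelProjMap.comp_p hP hP' (fun U hU => 𝟙 (Proj (𝒮.deg U hU)))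
      (fun U hU => Category.id_comp _) he''
    refine ⟨?_, hp⟩
    exact K36.RelProjMap.of_charts (fun U hU => 𝟙 (Proj (𝒮.deg U hU))) hp he'' (MorphismProperty.isomorphisms _)
      (fun U hU => MorphismProperty.isomorphisms.infer_property _)

end Groth.Agent.S8273
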