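import Groth.Statements.S8290
import Groth.Agent.EGA2.K37.TwistGlob

set_option autoImplicit false
universe u
open CategoryTheory CategoryTheory.Limits AlgebraicGeometry Opposite TopologicalSpace
open scoped HomogeneousIdeal
noncomputable section
open EGA2

namespace Groth.Agent.S8290

/-- Let 𝒮 be a quasi-coherent positively graded O_Y-algebra, X = Proj(𝒮), and U a quasi-compact open
subset of X. There is an integer d > 0 such that for every n divisible by d the twisting sheaf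
O_X(n) restricted to U is invertible. (The published statement adds that its inverse is O_X(-n)|U.) -/
theorem result {Y X : Scheme.{u}} (𝒮 : RelProj.QCGrAlg Y) (q : X ⟶ Y)
    (chart : ∀ (U : Y.Opens) (hU : IsAffineOpen U), (((q ⁻¹ᵁ U : X.Opens) : Scheme.{u}) ≅ Proj (𝒮.deg U hU)))
    (hX : RelProj.IsRelProj 𝒮 q chart) (U : X.Opens) (hU : IsCompact (U : Set X)) :
    ∃ d : ℕ, 0 < d ∧ ∀ (n : ℤ), (d : ℤ) ∣ n →
      ∀ (L : X.Modules)
        (lam : ∀ (V : Y.Opens) (hV : IsAffineOpen V),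
          L ⟶ (Scheme.Modules.pushforward (RelProj.emb q chart V hV)).obj (GrTwist.twist (𝒮.deg V hV) n)),
        RelProj.IsRelTwist 𝒮 q chart n L lam → PicF.IsInvertible (L.restrict U.ι) := by
  have hex : ∀ x : X, _ := fun x => K40.RelMul.exists_notMem (p := q) (chart := chart) x
  choose V hV e f W he hx hWV hW using hex
  obtain ⟨t, ht⟩ := hU.elim_finite_subcover (fun x : X => (W x : Set X)) (fun x => (W x).2)
    (fun x _ => Set.mem_iUnion.mpr ⟨x, hx x⟩)
  refine ⟨∏ x ∈ t, e x, Finset.prod_pos fun x _ => he x, fun n hn L lam hL => ?_⟩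
  rw [Groth.Agent.Fdesc.LocGen.isInvertible_iff]
  intro y
  obtain ⟨x, hxt, hyx⟩ := Set.mem_iUnion₂.mp (ht (show U.ι y ∈ (U : Set X) from y.2))
  obtain ⟨l, hl⟩ : ((e x : ℕ) : ℤ) ∣ n := by
    refine dvd_trans ?_ hn
    exact_mod_cast Finset.dvd_prod_of_mem e hxt
  obtain ⟨s, -, hs⟩ := K40.RelMul.exists_powFrac hL (V x) (hV x) (f x) l (by rw [hl, mul_comm]) (W x)
    (hWV x) (hW x)
  have h1 : U.ι ''ᵁ (U.ι ⁻¹ᵁ (W x)) ≤ W x := U.ι.image_preimage_le _
  exact ⟨U.ι ⁻¹ᵁ (W x), Groth.Agent.Fdesc.LocGen.toRestrict U.ι (Groth.Agent.Fdesc.LocGen.res L h1 s), hyx,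
    (Groth.Agent.Fdesc.LocGen.isGen_toRestrict_iff _ _).mpr (hs.res h1)⟩

end Groth.Agent.S8290
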