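import Groth.Statements.S8296
import Groth.Agent.EGA2.K37.ConeBase

set_option autoImplicit false
universe u
open CategoryTheory CategoryTheory.Limits AlgebraicGeometry Opposite TopologicalSpace
open scoped HomogeneousIdeal
noncomputable section
open EGA2

namespace Groth.Agent.S8296

/-- The pointed affine cone: let 𝒮 be a quasi-coherent positively graded O_Y-algebra with 𝒮_0 = O_Y, aug
its augmentation, C = Spec(𝒮) its affine cone and ε : Y → C the vertex section. Then the open subset
of C which is the union, over the affine opens U of Y, of the chart images of the complements of the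
closed sets V(𝒮(U)_+) in Spec 𝒮(U), is exactly the complement of ε(Y); in other words the pointed
affine cone E, defined chart by chart through the irrelevant ideals, is C − ε(Y). -/
theorem result {Y : Scheme.{u}} (𝒮 : RelProj.QCGrAlg Y)
    (h0 : RelCone.StrZeroBij 𝒮) (aug : 𝒮.toQCAlg ⟶ RelSpec.QCAlg.unit Y) (haug : RelCone.IsAugmentation 𝒮 aug)
    (ε : Y ⟶ 𝒮.toQCAlg.spec) (hε : RelCone.IsVertex 𝒮 aug ε) :
    ((RelCone.pointedCone 𝒮 : 𝒮.toQCAlg.spec.Opens) : Set 𝒮.toQCAlg.spec) = (Set.range ε.base)ᶜ := by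
  ext c
  rw [Set.mem_compl_iff]
  constructor
  · intro hc
    obtain ⟨⟨U, hU⟩, x, hx, rfl⟩ := Opens.mem_iSup.mp hc
    intro hr
    have h1 := (K37.ConeBase.ι_mem_range_iff hε.chart U hU x).mp hr
    rw [K37.ConeBase.ker_augAt h0 haug U hU] at h1
    exact hx h1
  · intro hc
    obtain ⟨U, hU, x, rfl⟩ := K37.SpecBase.exists_chart 𝒮.toQCAlg c
    refine Opens.mem_iSup.mpr ⟨⟨U, hU⟩, x, fun hx => hc ?_, rfl⟩
    refine (K37.ConeBase.ι_mem_range_iff hε.chart U hU x).mpr ?_
    rw [K37.ConeBase.ker_augAt h0 haug U hU]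
    exact hx

end Groth.Agent.S8296
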