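import Groth.Statements.S8305
import Groth.Agent.S3570
import Groth.Agent.CohqA.AffPush
import Groth.Agent.CohqA.PullbackQCoh

set_option autoImplicit false
universe u
open CategoryTheory CategoryTheory.Limits AlgebraicGeometry Opposite TopologicalSpace
noncomputable section
open EGA2

namespace Groth.Agent.S8305

/-- Let X and Y be schemes affine over S with structure morphisms gX and gY, h : Y → X a morphism over
S, F a quasi-coherent O_X-module, G a quasi-coherent O_Y-module and v : F → h_*G a homomorphism of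
O_X-modules, so that (h, v) is a morphism of pairs (Y, G) → (X, F). Then h and v are isomorphisms if
and only if the direct-image algebra homomorphism A(h) : gX_*O_X → gY_*O_Y and the direct image A(v)
= gX_*(v) : gX_*F → gX_*h_*G are isomorphisms (the pair (A(h), A(v)) is a di-isomorphism). -/
theorem result {X Y S : Scheme.{u}} (gX : X ⟶ S) [IsAffineHom gX]
    (gY : Y ⟶ S) [IsAffineHom gY] (h : Y ⟶ X) (hh : h ≫ gX = gY)
    (F : X.Modules) (G : Y.Modules) (hF : Coh.IsQCoh F) (hG : Coh.IsQCoh G)
    (v : F ⟶ (Scheme.Modules.pushforward h).obj G) :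
    (IsIso h ∧ IsIso v) ↔
      (IsIso (AffAlg.algHom gX gY h hh) ∧ IsIso ((Scheme.Modules.pushforward gX).map v)) := by
  rw [← Groth.Agent.S3570.result gX gY h hh]
  constructor
  · rintro ⟨h1, h2⟩
    exact ⟨h1, inferInstance⟩
  · rintro ⟨h1, h2⟩
    refine ⟨h1, ?_⟩
    have hF' : Coh.IsQCoh F := hF
    have hG' : Coh.IsQCoh ((Scheme.Modules.pushforward h).obj G) :=
      Groth.Agent.CohqA.AffPush.isQCoh_push h G hG
    refine Groth.Agent.CohqA.PullbackQCoh.isIso_of_bijective_affineCover v
      (fun U : S.affineOpens => gX ⁻¹ᵁ U.1) ?_ (fun U => U.2.preimage gX) fun U => ?_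
    · rw [eq_top_iff]
      intro x _
      obtain ⟨_, ⟨U, hU, rfl⟩, hxU, -⟩ :=
        S.isBasis_affineOpens.exists_subset_of_mem_open (Set.mem_univ (gX x)) isOpen_univ
      exact Opens.mem_iSup.mpr ⟨⟨U, hU⟩, hxU⟩
    · exact ConcreteCategory.bijective_of_isIso (((Scheme.Modules.pushforward gX).map v).app U.1)

end Groth.Agent.S8305
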