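import Groth.Statements.S8312
import Groth.Agent.EGA2.K38.Nat

set_option autoImplicit false
universe u
open scoped HomogeneousIdeal
open EGA2

namespace Groth.Agent.S8312

/-- Let S be a positively graded ring (an ℕ-graded R-algebra) and S♮ the graded ring with S♮_n = S_[n] =
⊕_{m ≥ n} S_m, presented as a graded ring S' with an injective algebra homomorphism φ : S' → S[X]
carrying S'_n onto S_[n]·X^n; for a homogeneous f ∈ S_d write f♮ for the element of S' with φ(f♮) =
f·X^d (f placed in degree d of S♮). If (f_α) is a family of homogeneous elements of S of positive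
degrees such that every element of the irrelevant ideal S_+ has a positive power in the ideal
generated by the f_α (that is, S_+ is the radical in S_+ of that ideal), then every element of the
irrelevant ideal S'_+ has a positive power in the ideal of S' generated by the f_α♮. -/
theorem result {R A B : Type u} [CommRing R] [CommRing A] [Algebra R A]
    (𝒜 : ℕ → Submodule R A) [GradedAlgebra 𝒜] [CommRing B] [Algebra R B] (ℬ : ℕ → Submodule R B) [GradedAlgebra ℬ]
    (φ : B →ₐ[R] Polynomial A) (hφ : Function.Injective φ)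
    (hdeg : ∀ n : ℕ, Submodule.map φ.toLinearMap (ℬ n) =
      Submodule.map ((Polynomial.monomial n : A →ₗ[A] Polynomial A).restrictScalars R) (⨆ (m : ℕ) (_ : n ≤ m), 𝒜 m))
    {ι : Type u} (d : ι → ℕ) (hd : ∀ a, 0 < d a) (f : ι → A) (hf : ∀ a, f a ∈ 𝒜 (d a))
    (hrad : ∀ g ∈ (HomogeneousIdeal.irrelevant 𝒜).toIdeal, ∃ n : ℕ, 0 < n ∧ g ^ n ∈ Ideal.span (Set.range f))
    (fn : ι → B) (hfn : ∀ a, φ (fn a) = Polynomial.monomial (d a) (f a)) :
    ∀ g ∈ (HomogeneousIdeal.irrelevant ℬ).toIdeal, ∃ n : ℕ, 0 < n ∧ g ^ n ∈ Ideal.span (Set.range fn) := by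
  classical
  -- it suffices to show that the irrelevant ideal lies in the radical
  suffices h : (HomogeneousIdeal.irrelevant ℬ).toIdeal ≤ (Ideal.span (Set.range fn)).radical by
    intro g hg
    obtain ⟨n, hn⟩ := h hg
    refine ⟨n + 1, n.succ_pos, ?_⟩
    rw [pow_succ]
    exact Ideal.mul_mem_right _ _ hn
  rw [HomogeneousIdeal.toIdeal_irrelevant_le]
  intro n hn g hg
  refine K38.Nat.induction_deg 𝒜 ℬ φ hdeg hφ (fun b => b ∈ (Ideal.span (Set.range fn)).radical)
    (Ideal.zero_mem _) (fun x y hx hy => Ideal.add_mem _ hx hy) ?_ g hg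
  intro m hnm a ha b hb hab
  have hm : 0 < m := lt_of_lt_of_le hn hnm
  obtain ⟨k, hk, hak⟩ := hrad a (HomogeneousIdeal.mem_irrelevant_of_mem _ hm ha)
  obtain ⟨c, hc⟩ := Finsupp.mem_ideal_span_range_iff_exists_finsupp.mp hak
  -- homogeneous coefficients
  have hakm : a ^ k ∈ 𝒜 (m * k) := by
    have := SetLike.pow_mem_graded (A := 𝒜) k ha
    rwa [smul_eq_mul, mul_comm] at this
  set c' : ι → A := fun i => if d i ≤ m * k then GradedRing.proj 𝒜 (m * k - d i) (c i) else 0 with hc'
  have hc'mem : ∀ i, d i ≤ m * k → c' i ∈ 𝒜 (m * k - d i) := by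
    intro i hi
    simp only [hc', hi, if_true, GradedRing.proj_apply]
    exact SetLike.coe_mem _
  have hsum : a ^ k = ∑ i ∈ c.support, c' i * f i := by
    have h1 : a ^ k = GradedRing.proj 𝒜 (m * k) (a ^ k) := by
      rw [GradedRing.proj_apply, DirectSum.decompose_of_mem_same _ hakm]
    rw [h1, ← hc, Finsupp.sum, map_sum]
    refine Finset.sum_congr rfl fun i _ => ?_
    rw [GradedRing.proj_apply, DirectSum.coe_decompose_mul_of_right_mem 𝒜 (m * k) (hf i)]
    simp only [hc']
    split_ifs with h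
    · rw [GradedRing.proj_apply]
    · rw [zero_mul]
  -- choose l large
  obtain ⟨l, hl⟩ : ∃ l : ℕ, ∀ i ∈ c.support, d i ≤ n * k * (l + 1) := by
    refine ⟨c.support.sup d, fun i hi => ?_⟩
    have h1 : d i ≤ c.support.sup d := Finset.le_sup (f := d) hi
    have h2 : 1 ≤ n * k := Nat.mul_pos hn hk
    nlinarith
  refine ⟨k * (l + 1), ?_⟩
  -- the coefficients in `S♮`
  have hco : ∀ i ∈ c.support, ∃ b' : B, φ b' = Polynomial.monomial (n * k * (l + 1) - d i) (a ^ (k * l) * c' i) := by
    intro i hi
    by_cases hdi : d i ≤ m * k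
    · obtain ⟨b', -, hb'⟩ := K38.Nat.exists_lift 𝒜 ℬ φ hdeg (n := n * k * (l + 1) - d i)
        (m := m * (k * l) + (m * k - d i)) (a := a ^ (k * l) * c' i) (by
          have h1 : n * k ≤ m * k := Nat.mul_le_mul_right k hnm
          have h2 : n * k * l ≤ m * k * l := Nat.mul_le_mul_right l h1
          have h3 : n * k * (l + 1) = n * k * l + n * k := by ring
          have h4 : m * (k * l) = m * k * l := by ring
          omega) (by
          refine SetLike.mul_mem_graded (A := 𝒜) ?_ (hc'mem i hdi)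
          have := SetLike.pow_mem_graded (A := 𝒜) (k * l) ha
          rwa [smul_eq_mul, mul_comm] at this)
      exact ⟨b', hb'⟩
    · exact ⟨0, by simp [hc', hdi]⟩
  choose! b' hb' using hco
  have hfin : b ^ (k * (l + 1)) = ∑ i ∈ c.support, b' i * fn i := by
    apply hφ
    rw [map_pow, hab, map_sum, Polynomial.monomial_pow]
    have h5 : n * (k * (l + 1)) = n * k * (l + 1) := by ring
    have h6 : a ^ (k * (l + 1)) = ∑ i ∈ c.support, a ^ (k * l) * c' i * f i := by
      rw [Nat.mul_add, mul_one, pow_add, hsum, Finset.mul_sum]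
      exact Finset.sum_congr rfl fun i _ => (mul_assoc _ _ _).symm
    rw [h5, h6, map_sum]
    refine Finset.sum_congr rfl fun i hi => ?_
    rw [map_mul φ, hb' i hi, hfn, Polynomial.monomial_mul_monomial, Nat.sub_add_cancel (hl i hi)]
  rw [hfin]
  exact Ideal.sum_mem _ fun i _ => Ideal.mul_mem_left _ _ (Ideal.subset_span ⟨i, rfl⟩)

end Groth.Agent.S8312
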