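import Groth.Statements.S8317
import Groth.Agent.EGA2.K30.LineNorm

set_option autoImplicit false
universe u
open CategoryTheory CategoryTheory.Limits AlgebraicGeometry Opposite TopologicalSpace
open scoped HomogeneousIdeal
noncomputable section
open EGA2

namespace Groth.Agent.S8317

/-- Let f : X → Y be a separated quasi-compact morphism such that f^♯ : O_Y → f_*O_X is an isomorphism,
L an invertible O_X-module, V = V(L) = Spec(Sym L) its line bundle with projection π : V → X, and C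
= Spec((f∘π)_*O_V) the relative spectrum over Y of the direct-image algebra of f∘π. (The published
statement takes C to be the affine cone Spec(O_Y ⊕ ⊕_{n≥1} f_*(L^{⊗n})); when f^♯ is an isomorphism
that cone is this relative spectrum.) Then: if X is integral, C is integral; and if X is locally
integral (every point has an integral open neighbourhood) and normal (all local rings integrally
closed domains), then C is normal. -/
theorem result {X Y : Scheme.{u}} (f : X ⟶ Y) [IsSeparated f] [QuasiCompact f]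
    (hlam : IsIso f.c) (L : X.Modules) (hL : PicF.IsInvertible L) (hLq : Coh.IsQCoh L)
    (𝒜 : RelSpec.QCAlg X) (jL : L ⟶ 𝒜.toModule) (hA : RelSpec.IsSymAlg L 𝒜 jL) :
    (IsIntegral X → IsIntegral (RelSpec.QCAlg.directImage (𝒜.π ≫ f)).spec) ∧
      ((∀ x : X, ∃ U : X.Opens, x ∈ U ∧ IsIntegral (U : Scheme.{u})) → Pi1.IsNormalScheme X →
        Pi1.IsNormalScheme (RelSpec.QCAlg.directImage (𝒜.π ≫ f)).spec) := by
  have hP : K30.LineNorm.PolyMor 𝒜.π :=
    K30.LineNorm.PolyMor.of_isSymAlg (Groth.Agent.Ega2.Ample.locGen_top_iff.2 hL) hLq hA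
  have hc : (RelSpec.QCAlg.directImage (𝒜.π ≫ f)).π.c ≫ (RelSpec.QCAlg.directImage (𝒜.π ≫ f)).gammaMap =
      (𝒜.π ≫ f).c := (RelSpec.QCAlg.directImage (𝒜.π ≫ f)).π_c_gammaMap
  obtain ⟨⟨q, e⟩, hce⟩ := Groth.Agent.Ega2.H278.AlgOf.surjective (RelSpec.QCAlg.directImage (𝒜.π ≫ f)).π
    (𝒜.π ≫ f) ⟨(RelSpec.QCAlg.directImage (𝒜.π ≫ f)).gammaMap, hc⟩
  have hce' : AffAlg.algHom (RelSpec.QCAlg.directImage (𝒜.π ≫ f)).π (𝒜.π ≫ f) q e =
    (RelSpec.QCAlg.directImage (𝒜.π ≫ f)).gammaMap := congrArg Subtype.val hce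
  have hb : ∀ U : Y.Opens, Function.Bijective (q.app ((RelSpec.QCAlg.directImage (𝒜.π ≫ f)).π ⁻¹ᵁ U)).hom :=
    fun U => K30.CtrFac.bijective_app_of_canon (𝒜.π ≫ f) q e hce' U
  refine ⟨fun hX => ?_, fun hi hn => ?_⟩
  · have := hP.isIntegral
    have i1 : QuasiCompact (q ≫ (RelSpec.QCAlg.directImage (𝒜.π ≫ f)).π) := by rw [e]; infer_instance
    have i2 : QuasiSeparated (q ≫ (RelSpec.QCAlg.directImage (𝒜.π ≫ f)).π) := by rw [e]; infer_instance
    have := K30.DirIm.isIso_c (fun U _ => hb U)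
    exact K30.LineNorm.isIntegral_of_c q
  · refine K30.LineNorm.isNormalScheme_of_bijective_app
      (hP.normBasis (K30.LineNorm.normBasis_of_isNormalScheme hi hn)) q (fun c => ?_)
    obtain ⟨U, hU, hyU, -⟩ := exists_isAffineOpen_mem_and_subset
      (x := (RelSpec.QCAlg.directImage (𝒜.π ≫ f)).π c) (U := (⊤ : Y.Opens)) trivial
    exact ⟨_, hyU, hU.preimage _, hb U⟩

end Groth.Agent.S8317
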