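import Groth.Statements.S8328
import Groth.Agent.EGA2.K39.FinGam2

set_option autoImplicit false
universe u
open CategoryTheory CategoryTheory.Limits AlgebraicGeometry Opposite TopologicalSpace
open scoped HomogeneousIdeal
noncomputable section
open EGA2

namespace Groth.Agent.S8328

/-- Let Y be a quasi-compact separated scheme, or a scheme with Noetherian underlying space, 𝒮 a
quasi-coherent positively graded O_Y-algebra generated by 𝒮_1 with 𝒮_1 of finite type, and P =
Proj(𝒮). Then every quasi-coherent O_P-module of finite type is of the form ℳ~ with ℳ a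
quasi-coherent graded 𝒮-module of finite type (finitely generated over 𝒮(U) on every affine open U). -/
theorem result {Y P : Scheme.{u}} (𝒮 : RelProj.QCGrAlg Y) (p : P ⟶ Y)
    (chart : ∀ (U : Y.Opens) (hU : IsAffineOpen U), (((p ⁻¹ᵁ U : P.Opens) : Scheme.{u}) ≅ Proj (𝒮.deg U hU)))
    (hP : RelProj.IsRelProj 𝒮 p chart)
    (hY : (CompactSpace Y ∧ Y.IsSeparated) ∨ NoetherianSpace Y) (hgen : 𝒮.IsGenDegOne)
    (hft : 𝒮.IsFTDeg 1) (F : P.Modules) (hFq : Coh.IsQCoh F) (hFt : CohB1.IsFT F) :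
    ∃ (ℳ : RelProj.GrModule 𝒮) (lam : ∀ (U : Y.Opens) (hU : IsAffineOpen U),
      F ⟶ (Scheme.Modules.pushforward (RelProj.emb p chart U hU)).obj (GrMod.tilde (𝒮.deg U hU) (ℳ.deg U hU) 0)),
      Coh.IsQCoh ((AMod.toOS 𝒮.toQCAlg).obj ℳ.mod) ∧ RelProj.IsRelTilde 𝒮 p chart ℳ 0 F lam ∧
        ∀ (U : Y.Opens) (hU : IsAffineOpen U),
          Module.Finite (𝒮.presheaf.obj (op U)) (ℳ.mod.val.obj (op U)) := by
  obtain ⟨h1, h2⟩ : CompactSpace Y ∧ QuasiSeparatedSpace Y := by
    rcases hY with ⟨h, h'⟩ | h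
    · exact ⟨h, inferInstance⟩
    · exact ⟨inferInstance, inferInstance⟩
  exact K39.FinGam2.exists_isRelTilde_finite hP hgen hft hFq hFt

end Groth.Agent.S8328
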