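-- S8335
import Groth.Statements.S8335
import Groth.Agent.EGA2.K40.RelTwBC

set_option autoImplicit false
universe u
open CategoryTheory CategoryTheory.Limits AlgebraicGeometry Opposite TopologicalSpace
open scoped HomogeneousIdeal
noncomputable section
open EGA2

namespace Groth.Agent.S8335

/-- Let ψ : Y' → Y be a morphism, 𝒮 a quasi-coherent positively graded O_Y-algebra and 𝒮' = ψ^*𝒮
(presented through a graded ψ-morphism 𝒮 → ψ_*𝒮' with pushout squares over affine opens), X =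
Proj(𝒮), X' = Proj(𝒮') = X ×_Y Y' with projection g : X' → X (chartwise induced by 𝒮(U) → 𝒮'(U')).
Then for every integer n the inverse image g^*(O_X(n)) is isomorphic to O_{X'}(n), both twisting
sheaves being given through their chartwise identifications (existence of an isomorphism only; the
published identification O_{X'}(n) = O_X(n) ⊗_Y O_{Y'} is canonical). -/
theorem result {Y Y' P P' : Scheme.{u}} (ψ : Y' ⟶ Y) (𝒮 : RelProj.QCGrAlg Y)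
    (𝒮' : RelProj.QCGrAlg Y') (u : 𝒮.presheaf ⟶ ψ.base _* 𝒮'.presheaf)
    (hu : 𝒮.str ≫ u = ψ.c ≫ (TopCat.Presheaf.pushforward CommRingCat.{u} ψ.base).map 𝒮'.str)
    (φ : ∀ (U : Y.Opens) (hU : IsAffineOpen U) (U' : Y'.Opens) (hU' : IsAffineOpen U') (_ : U' ≤ ψ ⁻¹ᵁ U),
      𝒮.deg U hU →+*ᵍ 𝒮'.deg U' hU')
    (hφ : ∀ (U : Y.Opens) (hU : IsAffineOpen U) (U' : Y'.Opens) (hU' : IsAffineOpen U') (hle : U' ≤ ψ ⁻¹ᵁ U),
      (φ U hU U' hU' hle).toRingHom =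
        ((u.app (op U) : 𝒮.presheaf.obj (op U) ⟶ 𝒮'.presheaf.obj (op (ψ ⁻¹ᵁ U))) ≫
          𝒮'.presheaf.map (homOfLE hle).op).hom)
    (hpo : ∀ (U : Y.Opens) (hU : IsAffineOpen U) (U' : Y'.Opens) (hU' : IsAffineOpen U') (hle : U' ≤ ψ ⁻¹ᵁ U),
      IsPushout (ψ.appLE U U' hle) (𝒮.str.app (op U)) (𝒮'.str.app (op U'))
        ((u.app (op U) : 𝒮.presheaf.obj (op U) ⟶ 𝒮'.presheaf.obj (op (ψ ⁻¹ᵁ U))) ≫
          𝒮'.presheaf.map (homOfLE hle).op))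
    (hirr : ∀ (U : Y.Opens) (hU : IsAffineOpen U) (U' : Y'.Opens) (hU' : IsAffineOpen U') (hle : U' ≤ ψ ⁻¹ᵁ U),
      (𝒮'.deg U' hU')₊ ≤ ((𝒮.deg U hU)₊).map (φ U hU U' hU' hle))
    (p : P ⟶ Y)
    (chart : ∀ (U : Y.Opens) (hU : IsAffineOpen U), (((p ⁻¹ᵁ U : P.Opens) : Scheme.{u}) ≅ Proj (𝒮.deg U hU)))
    (hP : RelProj.IsRelProj 𝒮 p chart) (p' : P' ⟶ Y')
    (chart' : ∀ (U' : Y'.Opens) (hU' : IsAffineOpen U'), (((p' ⁻¹ᵁ U' : P'.Opens) : Scheme.{u}) ≅ Proj (𝒮'.deg U' hU')))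
    (hP' : RelProj.IsRelProj 𝒮' p' chart') (g : P' ⟶ P)
    (hg : ∀ (U : Y.Opens) (hU : IsAffineOpen U) (U' : Y'.Opens) (hU' : IsAffineOpen U') (hle : U' ≤ ψ ⁻¹ᵁ U),
      (p' ⁻¹ᵁ U').ι ≫ g =
        (chart' U' hU').hom ≫ Proj.map (φ U hU U' hU' hle) (hirr U hU U' hU' hle) ≫ RelProj.emb p chart U hU)
    (n : ℤ) (L : P.Modules)
    (lam : ∀ (U : Y.Opens) (hU : IsAffineOpen U),
      L ⟶ (Scheme.Modules.pushforward (RelProj.emb p chart U hU)).obj (GrTwist.twist (𝒮.deg U hU) n))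
    (hL : RelProj.IsRelTwist 𝒮 p chart n L lam) (L' : P'.Modules)
    (lam' : ∀ (U' : Y'.Opens) (hU' : IsAffineOpen U'),
      L' ⟶ (Scheme.Modules.pushforward (RelProj.emb p' chart' U' hU')).obj (GrTwist.twist (𝒮'.deg U' hU') n))
    (hL' : RelProj.IsRelTwist 𝒮' p' chart' n L' lam') :
    Nonempty ((Scheme.Modules.pullback g).obj L ≅ L') := by
  have hcB : ∀ (U : Y.Opens) (hU : IsAffineOpen U) (U' : Y'.Opens) (hU' : IsAffineOpen U')
      (hle : U' ≤ ψ ⁻¹ᵁ U) (D' : Y'.Opens) (hD' : IsAffineOpen D') (h : D' ≤ U') (a : 𝒮.presheaf.obj (op U)),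
      𝒮'.res hU' hD' h (φ U hU U' hU' hle a) = φ U hU D' hD' (h.trans hle) a := by
    intro U hU U' hU' hle D' hD' h a
    have e1 : φ U hU U' hU' hle a = ((u.app (op U) : 𝒮.presheaf.obj (op U) ⟶ 𝒮'.presheaf.obj (op (ψ ⁻¹ᵁ U))) ≫
          𝒮'.presheaf.map (homOfLE hle).op).hom a := congr($(hφ U hU U' hU' hle) a)
    have e2 : φ U hU D' hD' (h.trans hle) a =
        ((u.app (op U) : 𝒮.presheaf.obj (op U) ⟶ 𝒮'.presheaf.obj (op (ψ ⁻¹ᵁ U))) ≫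
          𝒮'.presheaf.map (homOfLE (h.trans hle)).op).hom a := congr($(hφ U hU D' hD' (h.trans hle)) a)
    rw [e1, e2]
    have e3 : 𝒮'.presheaf.map (homOfLE (h.trans hle)).op =
        𝒮'.presheaf.map (homOfLE hle).op ≫ 𝒮'.presheaf.map (homOfLE h).op := by
      rw [← Functor.map_comp]; rfl
    rw [e3]
    rfl
  have hcA : ∀ (U : Y.Opens) (hU : IsAffineOpen U) (D : Y.Opens) (hD : IsAffineOpen D) (h : D ≤ U)
      (U' : Y'.Opens) (hU' : IsAffineOpen U') (hle : U' ≤ ψ ⁻¹ᵁ D) (a : 𝒮.presheaf.obj (op U)),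
      φ D hD U' hU' hle (𝒮.res hU hD h a) = φ U hU U' hU' (hle.trans (ψ.preimage_mono h)) a := by
    intro U hU D hD h U' hU' hle a
    have e1 : φ D hD U' hU' hle (𝒮.res hU hD h a) =
        ((u.app (op D) : 𝒮.presheaf.obj (op D) ⟶ 𝒮'.presheaf.obj (op (ψ ⁻¹ᵁ D))) ≫
          𝒮'.presheaf.map (homOfLE hle).op).hom (𝒮.presheaf.map (homOfLE h).op a) :=
      congr($(hφ D hD U' hU' hle) (𝒮.res hU hD h a))
    have e2 : φ U hU U' hU' (hle.trans (ψ.preimage_mono h)) a =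
        ((u.app (op U) : 𝒮.presheaf.obj (op U) ⟶ 𝒮'.presheaf.obj (op (ψ ⁻¹ᵁ U))) ≫
          𝒮'.presheaf.map (homOfLE (hle.trans (ψ.preimage_mono h))).op).hom a :=
      congr($(hφ U hU U' hU' (hle.trans (ψ.preimage_mono h))) a)
    rw [e1, e2]
    have e3 : 𝒮'.presheaf.map (homOfLE (hle.trans (ψ.preimage_mono h))).op =
        𝒮'.presheaf.map (homOfLE (ψ.preimage_mono h)).op ≫ 𝒮'.presheaf.map (homOfLE hle).op := by
      rw [← Functor.map_comp]; rfl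
    have e4 := congr(($(u.naturality (homOfLE h).op)).hom a)
    rw [e3]
    exact congrArg (𝒮'.presheaf.map (homOfLE hle).op).hom e4
  have hg' : ∀ (U : Y.Opens) (hU : IsAffineOpen U) (U' : Y'.Opens) (hU' : IsAffineOpen U') (hle : U' ≤ ψ ⁻¹ᵁ U),
      RelProj.emb p' chart' U' hU' ≫ g =
        Proj.map (φ U hU U' hU' hle) (hirr U hU U' hU' hle) ≫ RelProj.emb p chart U hU := by
    intro U hU U' hU' hle
    have e := hg U hU U' hU' hle
    have e' : RelProj.emb p' chart' U' hU' = (chart' U' hU').inv ≫ (p' ⁻¹ᵁ U').ι := rfl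
    rw [e', Category.assoc, e, Iso.inv_hom_id_assoc]
  obtain ⟨θ, hθ, -⟩ := K40.RelTwBC.existsUnique_hom hg' hcA hcB hP hL hP' hL'
  have hu := K40.RelTwBC.isUniv_hom hg' hL hL' (fun q => K40.GrTwBC.isUniv_comap _ _
    (ψ.appLE q.1.1 q.1.2 q.2.2.2).hom (𝒮.str.app (op q.1.1)).hom (𝒮'.str.app (op q.1.2)).hom
    (fun r => 𝒮.str_mem q.1.1 q.2.1 r) (fun r => 𝒮'.str_mem q.1.2 q.2.2.1 r) (by
      have h1 := hpo q.1.1 q.2.1 q.1.2 q.2.2.1 q.2.2.2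
      have h2 := hφ q.1.1 q.2.1 q.1.2 q.2.2.1 q.2.2.2
      have h3 : CommRingCat.ofHom (φ q.1.1 q.2.1 q.1.2 q.2.2.1 q.2.2.2).toRingHom =
        ((u.app (op q.1.1) : 𝒮.presheaf.obj (op q.1.1) ⟶ 𝒮'.presheaf.obj (op (ψ ⁻¹ᵁ q.1.1))) ≫
          𝒮'.presheaf.map (homOfLE q.2.2.2).op) := by
        rw [h2]; rfl
      rw [h3]
      exact h1) n) θ hθ
  obtain ⟨e, -, -⟩ := (Groth.Agent.CohqA.PullbackSections.isUniv_pbUnit g L).exists_iso hu
  exact ⟨e⟩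

end Groth.Agent.S8335
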