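import Groth.Statements.S8346
import Groth.Agent.ConstrTop.K391.Basic

set_option autoImplicit false
universe u
open ConstrTop

namespace Groth.Agent.S8346

open TopologicalSpace in
/-- Let X be a topological space admitting a basis of open subsets which are retrocompact in X. Then
every locally constructible subset T of X is retrocompact in X. -/
theorem result {X : Type u} [TopologicalSpace X]
    {B : Set (Set X)} (hB : IsTopologicalBasis B) (hBr : ∀ U ∈ B, IsRetrocompact U) {T : Set X}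
    (hT : Topology.IsLocallyConstructible T) : IsRetrocompact T := by
  intro W hWc hWo
  have h1 : ∀ x : X, ∃ U : Set X, IsOpen U ∧ x ∈ U ∧ IsRetrocompact (T ∩ U) := by
    intro x
    obtain ⟨O, hxO, hO, hOc⟩ := hT x
    obtain ⟨U, hUB, hxU, hUO⟩ := hB.mem_nhds_iff.mp hxO
    have hUo : IsOpen U := hB.isOpen hUB
    refine ⟨U, hUo, hxU, ?_⟩
    have h2 : Topology.IsConstructible ((Set.inclusion hUO) ⁻¹' ((Subtype.val : O → X) ⁻¹' T)) :=
      hOc.preimage_of_isOpenEmbedding (Topology.IsOpenEmbedding.inclusion hUO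
        (hUo.preimage continuous_subtype_val))
    have h3 := (K391.Basic.isRetrocompact h2).image_of_isEmbedding
      (f := (Subtype.val : U → X)) Topology.IsEmbedding.subtypeVal (by simpa using hBr U hUB)
    have h4 : (Subtype.val : U → X) '' ((Set.inclusion hUO) ⁻¹' ((Subtype.val : O → X) ⁻¹' T)) =
        T ∩ U := by
      ext y
      constructor
      · rintro ⟨z, hz, rfl⟩; exact ⟨hz, z.2⟩
      · rintro ⟨h5, h6⟩; exact ⟨⟨y, h6⟩, h5, rfl⟩
    rwa [h4] at h3
  choose U hU hxU hUr using h1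
  obtain ⟨s, hs⟩ := hWc.elim_nhds_subcover U (fun x _ => (hU x).mem_nhds (hxU x))
  have h2 : T ∩ W = ⋃ x ∈ s, (T ∩ U x) ∩ W := by
    ext y
    simp only [Set.mem_inter_iff, Set.mem_iUnion]
    constructor
    · rintro ⟨hyT, hyW⟩
      obtain ⟨x, hx, hy⟩ := Set.mem_iUnion₂.mp (hs.2 hyW)
      exact ⟨x, hx, ⟨hyT, hy⟩, hyW⟩
    · rintro ⟨x, _, ⟨h3, _⟩, h4⟩
      exact ⟨h3, h4⟩
  rw [h2]
  exact s.finite_toSet.isCompact_biUnion fun x _ => hUr x hWc hWo

end Groth.Agent.S8346
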