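import Groth.Statements.S8348
import Mathlib.Algebra.Homology.HomologicalComplexAbelian
import Mathlib.Algebra.Homology.ShortComplex.Exact

set_option autoImplicit false
universe v u
open CategoryTheory CategoryTheory.Limits
open HomAlg3

namespace Groth.Agent.S8348

section

variable {C : Type u} [Category.{v} C] [Abelian C] (Q : CochainComplex C ℕ)

/-- The short complex `Z^i ⟶ Q^i ⟶ Z^{i+1}`. -/
noncomputable abbrev S (i : ℕ) : ShortComplex C :=
  ShortComplex.mk (Q.iCycles i) (Q.toCycles i (i + 1)) (by
    rw [← cancel_mono (Q.iCycles (i + 1))]; simp)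

lemma S_exact (i : ℕ) : (S Q i).Exact := by
  let S' : ShortComplex C := ShortComplex.mk (Q.iCycles i) (Q.d i (i + 1)) (by simp)
  have hS' : S'.Exact := ShortComplex.exact_of_f_is_kernel S' (Q.cyclesIsKernel i (i + 1) (by simp))
  let φ : S Q i ⟶ S' :=
    { τ₁ := 𝟙 _
      τ₂ := 𝟙 _
      τ₃ := Q.iCycles (i + 1) }
  have : Mono φ.τ₃ := inferInstanceAs (Mono (Q.iCycles (i + 1)))
  have : Epi φ.τ₁ := inferInstanceAs (Epi (𝟙 _))
  have : IsIso φ.τ₂ := inferInstanceAs (IsIso (𝟙 _))
  exact (ShortComplex.exact_iff_of_epi_of_isIso_of_mono φ).2 hS'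

lemma epi_toCycles (i : ℕ) (h : IsZero (Q.homology (i + 1))) : Epi (Q.toCycles i (i + 1)) := by
  have h1 := ShortComplex.exact_of_g_is_cokernel
    (ShortComplex.mk (Q.toCycles i (i + 1)) (Q.homologyπ (i + 1)) (by simp))
    (Q.homologyIsCokernel i (i + 1) (by simp))
  exact h1.epi_f (h.eq_of_tgt _ _)

/-- The map to `Q` given by maps to the cycles. -/
noncomputable def mk' (s : ∀ i : ℕ, (S Q i).Splitting)
    {B : CochainComplex C ℕ} (φ : ∀ i, B.X i ⟶ Q.cycles i) : B ⟶ Q where
  f i := φ i ≫ Q.iCycles i + B.d i (i + 1) ≫ φ (i + 1) ≫ (s i).s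
  comm' := by
    rintro i j (rfl : i + 1 = j)
    have h1 : (s i).s ≫ Q.d i (i + 1) = Q.iCycles (i + 1) := by
      have := (s i).s_g
      change (s i).s ≫ Q.toCycles i (i + 1) = 𝟙 _ at this
      rw [← Q.toCycles_i i (i + 1), ← Category.assoc, this, Category.id_comp]
    simp [h1]

end

/-- Let C be an abelian category and Q a cochain complex of objects of C in degrees 0, 1, 2, ... such
that every Q^i is injective, every homology object H^i(Q) with i ≥ 1 is zero, and every inclusion of
the cycles Z^i(Q) into Q^i (i ≥ 0) is a split monomorphism. Then Q is an injective object of the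
category of cochain complexes of C indexed by the natural numbers. (The published statement is for
the narrower class of complexes with Z^i(Q) = B^i(Q) for every i ≥ 0, which in degree 0, where there
is no incoming differential, forces Z^0(Q) = 0; this row allows a nonzero Z^0(Q), so that it pairs
with the embedding of an arbitrary complex into such a Q. Such a Q is the direct sum of Z^0(Q)
placed in degree 0 and of the two-term complexes with Z^{i+1}(Q) in degrees i and i+1 and the
identity as differential, and the published argument carries over with Z^i(Q) in place of B^i(Q) as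
the first summand of Q^i.) -/
theorem result {C : Type u} [Category.{v} C] [Abelian C]
    (Q : CochainComplex C ℕ) (hinj : ∀ i : ℕ, Injective (Q.X i)) (hac : ∀ i : ℕ, IsZero (Q.homology (i + 1)))
    (hsplit : ∀ i : ℕ, IsSplitMono (Q.iCycles i)) : Injective Q := by
  have hr : ∀ i, ∃ r : Q.X i ⟶ Q.cycles i, Q.iCycles i ≫ r = 𝟙 _ := fun i =>
    ⟨(hsplit i).exists_splitMono.some.retraction, (hsplit i).exists_splitMono.some.id⟩
  choose r hr using hr
  let s : ∀ i, (S Q i).Splitting := fun i =>
    ShortComplex.Splitting.ofExactOfRetraction (S Q i) (S_exact Q i) (r i) (hr i)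
      (epi_toCycles Q i (hac i))
  have hs : ∀ i, (s i).r = r i := fun i => rfl
  have hZ : ∀ i, Injective (Q.cycles i) := fun i =>
    Retract.injective (Y := Q.X i) ⟨Q.iCycles i, r i, hr i⟩
  refine ⟨fun {A B} g m hm => ?_⟩
  refine ⟨mk' Q s (fun i => Injective.factorThru (g.f i ≫ r i) (m.f i)), ?_⟩
  ext i
  have h1 : ∀ j, m.f j ≫ Injective.factorThru (g.f j ≫ r j) (m.f j) = g.f j ≫ r j :=
    fun j => Injective.comp_factorThru _ _
  have h2 : A.d i (i + 1) ≫ g.f (i + 1) ≫ r (i + 1) = g.f i ≫ Q.toCycles i (i + 1) := by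
    rw [← Category.assoc, ← g.comm, Category.assoc, ← Q.toCycles_i i (i + 1), Category.assoc, hr,
      Category.comp_id]
  have h3 : r i ≫ Q.iCycles i + Q.toCycles i (i + 1) ≫ (s i).s = 𝟙 _ := (s i).id
  change m.f i ≫ (Injective.factorThru (g.f i ≫ r i) (m.f i) ≫ Q.iCycles i +
    B.d i (i + 1) ≫ Injective.factorThru (g.f (i + 1) ≫ r (i + 1)) (m.f (i + 1)) ≫ (s i).s) = g.f i
  rw [Preadditive.comp_add, reassoc_of% (h1 i), m.comm_assoc, reassoc_of% (h1 (i + 1)),
    reassoc_of% h2, ← Preadditive.comp_add, h3, Category.comp_id]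

end Groth.Agent.S8348
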