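import Groth.Statements.S8349
import Mathlib.Algebra.Homology.HomologicalComplexAbelian
import Mathlib.Algebra.Homology.ShortComplex.Exact
import Mathlib.CategoryTheory.Abelian.Exact
import Mathlib.Algebra.Homology.ShortComplex.ExactFunctor
import Mathlib.CategoryTheory.Abelian.Refinements

set_option autoImplicit false
set_option backward.isDefEq.respectTransparency false
universe v u
open CategoryTheory CategoryTheory.Limits
open HomAlg3

namespace Groth.Agent.S8349

section

variable {C : Type u} [Category.{v} C] [Abelian C] (I : ℕ → C)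

/-- The differential `(x, y) ↦ (y, 0)`. -/
noncomputable abbrev dd (n : ℕ) : (I n ⊞ I (n + 1) : C) ⟶ (I (n + 1) ⊞ I (n + 2) : C) :=
  biprod.snd ≫ biprod.inl

/-- The complex with terms `I n ⊞ I (n + 1)` and differential `(x, y) ↦ (y, 0)`. -/
noncomputable def Q : CochainComplex C ℕ :=
  CochainComplex.of (fun n => I n ⊞ I (n + 1)) (dd I) (fun n => by simp)

lemma Q_d (n : ℕ) : (Q I).d n (n + 1) = dd I n := by simp [Q]

lemma comp_snd_eq_zero {A : C} (i : ℕ) (x : A ⟶ (Q I).X i) (hx : x ≫ (Q I).d i (i + 1) = 0) :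
    x ≫ (biprod.snd : I i ⊞ I (i + 1) ⟶ I (i + 1)) = 0 := by
  rw [Q_d] at hx
  rw [← cancel_mono (biprod.inl : I (i + 1) ⟶ I (i + 1) ⊞ I (i + 2)), zero_comp]
  exact (Category.assoc _ _ _).trans hx

lemma Q_exactAt (n : ℕ) : (Q I).ExactAt (n + 1) := by
  rw [HomologicalComplex.exactAt_iff' _ n (n + 1) (n + 2) (by simp) (by simp),
    ShortComplex.exact_iff_exact_up_to_refinements]
  intro A x hx
  change A ⟶ (I (n + 1) ⊞ I (n + 2) : C) at x
  have hx' : x ≫ biprod.snd = 0 := comp_snd_eq_zero I (n + 1) x hx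
  refine ⟨A, 𝟙 A, inferInstance, x ≫ biprod.fst ≫ (biprod.inr : I (n + 1) ⟶ I n ⊞ I (n + 1)), ?_⟩
  rw [Category.id_comp]
  change x = (x ≫ biprod.fst ≫ (biprod.inr : I (n + 1) ⟶ I n ⊞ I (n + 1))) ≫ (Q I).d n (n + 1)
  rw [Q_d]
  apply biprod.hom_ext
  · simp
  · simp [hx']

lemma isSplitMono_iCycles (i : ℕ) : IsSplitMono ((Q I).iCycles i) := by
  have h0 : (biprod.inl : I i ⟶ I i ⊞ I (i + 1)) ≫ (Q I).d i (i + 1) = 0 := by
    rw [Q_d]; simp
  let r : (Q I).X i ⟶ (Q I).cycles i :=
    (biprod.fst : I i ⊞ I (i + 1) ⟶ I i) ≫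
      (Q I).liftCycles (biprod.inl : I i ⟶ I i ⊞ I (i + 1)) (i + 1) (by simp) h0
  refine IsSplitMono.mk' ⟨r, ?_⟩
  rw [← cancel_mono ((Q I).iCycles i)]
  have h1 : (Q I).iCycles i ≫ (biprod.snd : I i ⊞ I (i + 1) ⟶ I (i + 1)) = 0 :=
    comp_snd_eq_zero I i _ (by simp)
  have h2 : r ≫ (Q I).iCycles i = (biprod.fst ≫ biprod.inl : I i ⊞ I (i + 1) ⟶ _) := by
    simp [r]
  rw [Category.assoc, h2, Category.id_comp]
  have h3 : (biprod.fst ≫ biprod.inl + biprod.snd ≫ biprod.inr : I i ⊞ I (i + 1) ⟶ _) = 𝟙 _ :=
    biprod.total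
  have h4 := (Q I).iCycles i ≫= h3
  rw [Preadditive.comp_add] at h4
  rw [reassoc_of% h1, zero_comp, add_zero] at h4
  exact h4.trans (Category.comp_id _)

/-- The map to `Q`. -/
noncomputable def mk' (A : CochainComplex C ℕ) (j : ∀ n, A.X n ⟶ I n) : A ⟶ Q I where
  f n := biprod.lift (j n) (A.d n (n + 1) ≫ j (n + 1))
  comm' := by
    rintro i k (rfl : i + 1 = k)
    rw [Q_d]
    apply biprod.hom_ext
    · simp
    · simp

end

/-- Let C be an abelian category in which every object embeds in an injective object, and let A be a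
cochain complex of objects of C in degrees 0, 1, 2, .... Then there are a cochain complex Q, with
every Q^i injective, H^i(Q) = 0 for every i ≥ 1 and every cycle inclusion Z^i(Q) ⟶ Q^i (i ≥ 0) a
split monomorphism, and a monomorphism of complexes A ⟶ Q. (The published statement asks Z^i(Q) =
B^i(Q) for every i ≥ 0; in degree 0, where there is no incoming differential, this makes Z^0(Q) = 0,
and then no complex with nonzero degree-0 cycles, for instance a nonzero object placed in degree 0,
embeds in such a Q, because the degree-0 component of a chain map into Q factors through Z^0(Q).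
This row asks vanishing homology in positive degrees only; the published construction, which embeds
each A^i in an injective I^i and takes Q^i = I^i ⊕ I^{i+1}, proves that version once an injective
I^0 containing A^0 is used in degree 0 as well.) -/
theorem result {C : Type u} [Category.{v} C] [Abelian C]
    [EnoughInjectives C] (A : CochainComplex C ℕ) :
    ∃ (Q : CochainComplex C ℕ) (f : A ⟶ Q), Mono f ∧ (∀ i : ℕ, Injective (Q.X i)) ∧
      (∀ i : ℕ, IsZero (Q.homology (i + 1))) ∧ ∀ i : ℕ, IsSplitMono (Q.iCycles i) := by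
  refine ⟨Q (fun n => Injective.under (A.X n)), mk' _ A (fun n => Injective.ι (A.X n)), ?_, ?_, ?_,
    isSplitMono_iCycles _⟩
  · refine HomologicalComplex.mono_of_mono_f _ (fun n => ?_)
    have h : (mk' (fun n => Injective.under (A.X n)) A (fun n => Injective.ι (A.X n))).f n ≫
        (biprod.fst : Injective.under (A.X n) ⊞ Injective.under (A.X (n + 1)) ⟶ _) =
        Injective.ι (A.X n) := biprod.lift_fst _ _
    have h2 : Mono ((mk' (fun n => Injective.under (A.X n)) A (fun n => Injective.ι (A.X n))).f n ≫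
        (biprod.fst : Injective.under (A.X n) ⊞ Injective.under (A.X (n + 1)) ⟶ _)) := by
      rw [h]; infer_instance
    exact mono_of_mono _ (biprod.fst : Injective.under (A.X n) ⊞ Injective.under (A.X (n + 1)) ⟶ _)
  · intro i
    change Injective (Injective.under (A.X i) ⊞ Injective.under (A.X (i + 1)))
    infer_instance
  · intro i
    exact (Q_exactAt _ i).isZero_homology

end Groth.Agent.S8349
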