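import Groth.Statements.S8351
import Groth.Agent.CohtopB.NegVanish
import Groth.Agent.CohtopB.CanonMap
import Groth.Agent.Dual.H337.RDQ

set_option autoImplicit false
universe u
open CategoryTheory CategoryTheory.Limits TopologicalSpace
open CohCx

namespace Groth.Agent.S8351

open Opposite DerivedCategory
open Groth.Agent.CohtopB.KInjSect Groth.Agent.CohtopB Groth.Agent.CohtopB.NegVanish

/-- Two presheaves of abelian groups presented as the same quotient are isomorphic. -/
lemma nonempty_iso_of_classes {C : Type u} [SmallCategory C] (P P' : Cᵒᵖ ⥤ AddCommGrpCat.{u})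
    (Z : C → Type u) [∀ U, AddCommGroup (Z U)] (res : ∀ {U V : C} (_ : V ⟶ U), Z U → Z V)
    (c : ∀ U, Z U →+ P.obj (op U)) (c' : ∀ U, Z U →+ P'.obj (op U))
    (hc : ∀ U, Function.Surjective (c U)) (hc' : ∀ U, Function.Surjective (c' U))
    (hker : ∀ U s, c U s = 0 ↔ c' U s = 0)
    (hres : ∀ {U V : C} (g : V ⟶ U) (s : Z U), (P.map g.op).hom (c U s) = c V (res g s))
    (hres' : ∀ {U V : C} (g : V ⟶ U) (s : Z U), (P'.map g.op).hom (c' U s) = c' V (res g s)) :
    Nonempty (P ≅ P') := by
  let i₀ : ∀ U : C, P.obj (op U) →+ P'.obj (op U) := fun U =>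
    (c U).liftOfSurjective (hc U) ⟨c' U, fun x hx => (hker U x).1 hx⟩
  have hi₀ : ∀ (U : C) (x : Z U), i₀ U (c U x) = c' U x := fun U x =>
    AddMonoidHom.liftOfRightInverse_comp_apply (c U) _ _ ⟨c' U, fun x hx => (hker U x).1 hx⟩ x
  let r₀ : ∀ U : C, P'.obj (op U) →+ P.obj (op U) := fun U =>
    (c' U).liftOfSurjective (hc' U) ⟨c U, fun x hx => (hker U x).2 hx⟩
  have hr₀ : ∀ (U : C) (x : Z U), r₀ U (c' U x) = c U x := fun U x =>
    AddMonoidHom.liftOfRightInverse_comp_apply (c' U) _ _ ⟨c U, fun x hx => (hker U x).2 hx⟩ x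
  refine ⟨NatIso.ofComponents (fun U =>
    { hom := AddCommGrpCat.ofHom (i₀ U.unop)
      inv := AddCommGrpCat.ofHom (r₀ U.unop)
      hom_inv_id := by
        refine AddCommGrpCat.hom_ext (AddMonoidHom.ext fun x => ?_)
        obtain ⟨a, rfl⟩ := hc U.unop x
        change r₀ U.unop (i₀ U.unop (c U.unop a)) = c U.unop a
        rw [hi₀, hr₀]
      inv_hom_id := by
        refine AddCommGrpCat.hom_ext (AddMonoidHom.ext fun x => ?_)
        obtain ⟨a, rfl⟩ := hc' U.unop x
        change i₀ U.unop (r₀ U.unop (c' U.unop a)) = c' U.unop a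
        rw [hr₀, hi₀] }) ?_⟩
  intro U V g
  refine AddCommGrpCat.hom_ext (AddMonoidHom.ext fun x => ?_)
  obtain ⟨a, rfl⟩ := hc U.unop x
  change i₀ V.unop ((P.map g.unop.op).hom (c U.unop a)) =
    (P'.map g.unop.op).hom (i₀ U.unop (c U.unop a))
  rw [hres, hi₀, hi₀, hres']

section

variable {X Y : TopCat.{u}} (f : X ⟶ Y)
    [HasDerivedCategory.{u} (CohTop.Ab X)] [HasDerivedCategory.{u} (CohTop.Ab Y)]

lemma nonempty_iso_push (I : CochainComplex (CohTop.Ab X) ℤ) [I.IsKInjective] (p : ℤ) :
    Nonempty (CohCx.HDUPresheaf (Q.obj ((pushCx f).obj I)) p ≅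
      (Opens.map f).op ⋙ CohCx.HDUPresheaf (Q.obj I) p) := by
  let K := (pushCx f).obj I
  have hKI : K.IsKInjective :=
    Groth.Agent.PerfB.DQAdj.isKInjective_mapCx (TopPull.adj f) I
  let c : ∀ V : Opens Y, ZS K p V →+ CohCx.HDU (Q.obj K) p V := fun V => secCls K p V
  let c' : ∀ V : Opens Y, ZS K p V →+ CohCx.HDU (Q.obj I) p ((Opens.map f).obj V) :=
    fun V => secCls I p ((Opens.map f).obj V)
  refine nonempty_iso_of_classes _ _ (fun V : Opens Y => ZS K p V) (fun g s => resZS g s) c c'
    (fun V => secCls_surjective K p V) (fun V => secCls_surjective I p ((Opens.map f).obj V))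
    (fun V s => (secCls_eq_zero_iff K p s).trans
      (secCls_eq_zero_iff I p (U := (Opens.map f).obj V) s).symm)
    (fun g s => secCls_res K p g s) (fun g s => secCls_res I p ((Opens.map f).map g) s)

end

/-- For abelian sheaves on topological spaces and a complex bounded below. Let f : X ⟶ Y be a continuous
map and K a bounded below complex of abelian sheaves on X. For every p, the p-th cohomology sheaf of
the derived direct image R f_*(K) (bounded below right derived functor of f_*, computed with
injective resolutions) is isomorphic to the sheaf associated with the presheaf U ↦ H^p(f⁻¹(U), K) on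
Y, where H^p(V, K) denotes hypercohomology (morphisms from the free abelian sheaf on V to K[p] in
the derived category). (The published statement is for modules over arbitrary ringed spaces,
complexes unbounded via Cartan-Eilenberg resolutions, and a canonical isomorphism; here only the
existence of an isomorphism is asserted, and the derived categories are assumed to exist with
morphism types in the universe of X and Y.) -/
theorem result {X Y : TopCat.{u}} (f : X ⟶ Y)
    [HasDerivedCategory.{u} (CohTop.Ab X)] [HasDerivedCategory.{u} (CohTop.Ab Y)]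
    (K : CochainComplex.Plus (CohTop.Ab X)) (p : ℤ) :
    Nonempty ((DerivedCategory.Plus.homologyFunctor (CohTop.Ab Y) p).obj
        ((CohTop.push f).rightDerivedFunctorPlus.obj
          (DerivedCategory.Plus.Qh.obj ((HomotopyCategory.Plus.quotient (CohTop.Ab X)).obj K))) ≅
      (presheafToSheaf (Opens.grothendieckTopology Y) AddCommGrpCat.{u}).obj
        ((Opens.map f).op ⋙ CohCx.HDUPresheaf (DerivedCategory.Q.obj K.obj) p)) := by
  obtain ⟨n, hn⟩ := K.property
  obtain ⟨L, hL, i, hi⟩ := CochainComplex.Plus.exists_quasiIso_injective K n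
  let L' := (InjectiveObject.ι (CohTop.Ab X)).mapCochainComplexPlus.obj L
  have hi' : QuasiIso i.hom := hi
  let I : CochainComplex (CohTop.Ab X) ℤ := L'.obj
  have hI : I.IsKInjective := inferInstanceAs (CochainComplex.IsKInjective
      (((InjectiveObject.ι (CohTop.Ab X)).mapHomologicalComplex (.up ℤ)).obj L.obj))
  -- the derived direct image
  have e1 : DerivedCategory.Plus.Qh.obj ((HomotopyCategory.Plus.quotient (CohTop.Ab X)).obj K) ≅
      DerivedCategory.Plus.Q.obj L' :=
    DerivedCategory.Plus.ι.preimageIso ((DerivedCategory.quotientCompQhIso _).app K.obj ≪≫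
      asIso (DerivedCategory.Q.map i.hom) ≪≫ ((DerivedCategory.quotientCompQhIso _).app L'.obj).symm)
  have e2 : ((CohTop.push f).rightDerivedFunctorPlus.obj (DerivedCategory.Plus.Qh.obj
      ((HomotopyCategory.Plus.quotient (CohTop.Ab X)).obj K))).obj ≅ Q.obj ((pushCx f).obj I) :=
    DerivedCategory.Plus.ι.mapIso ((CohTop.push f).rightDerivedFunctorPlus.mapIso e1) ≪≫
      Groth.Agent.Dual.H337.RDQ.isoQ (CohTop.push f) L
  -- the cohomology sheaf
  have hW := Groth.Agent.CohtopB.CanonMap.cHDHom_mem_W (Q.obj ((pushCx f).obj I)) p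
  rw [GrothendieckTopology.W_iff] at hW
  have e3 : (presheafToSheaf (Opens.grothendieckTopology Y) AddCommGrpCat.{u}).obj
      (CohCx.HDUPresheaf (Q.obj ((pushCx f).obj I)) p) ≅ CohCx.HD (Q.obj ((pushCx f).obj I)) p :=
    @asIso _ _ _ _ _ hW ≪≫
    asIso ((sheafificationAdjunction (Opens.grothendieckTopology Y) AddCommGrpCat.{u}).counit.app
      (CohCx.HD (Q.obj ((pushCx f).obj I)) p))
  obtain ⟨e4⟩ := nonempty_iso_push f I p
  have e5 : CohCx.HDUPresheaf (Q.obj K.obj) p ≅ CohCx.HDUPresheaf (Q.obj I) p :=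
    Functor.isoWhiskerLeft _ (preadditiveYoneda.mapIso ((shiftFunctor _ p).mapIso
      (asIso (DerivedCategory.Q.map i.hom))))
  exact ⟨(DerivedCategory.homologyFunctor (CohTop.Ab Y) p).mapIso e2 ≪≫ e3.symm ≪≫
    (presheafToSheaf (Opens.grothendieckTopology Y) AddCommGrpCat.{u}).mapIso
      (e4 ≪≫ (Functor.isoWhiskerLeft (Opens.map f).op e5).symm)⟩

end Groth.Agent.S8351
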