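import Groth.Statements.S8352
import Groth.Agent.Ega3A.MLBasic

set_option autoImplicit false
universe u
open CategoryTheory CategoryTheory.Limits Opposite
open HomAlg3

namespace Groth.Agent.S8352

open Ega3A.MLBasic

/-- The image of the limit in a term of a Mittag-Leffler sequence is the intersection of the images
of the later terms. -/
theorem mem_range_π_iff (F : ℕᵒᵖ ⥤ AddCommGrpCat.{u})
    (hF : (F ⋙ forget AddCommGrpCat).IsMittagLeffler) (p : ℕ) (x : F.obj (op p)) :
    x ∈ (limit.π F (op p)).hom.range ↔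
      ∀ (k : ℕ) (hk : p ≤ k), x ∈ (F.map (homOfLE hk).op).hom.range := by
  constructor
  · rintro ⟨y, rfl⟩ k hk
    refine ⟨(limit.π F (op k)).hom y, ?_⟩
    exact congrArg (fun f => f.hom y) (limit.w F (homOfLE hk).op)
  · intro h
    have hx : x ∈ (F ⋙ forget AddCommGrpCat).eventualRange (op p) := by
      rw [Functor.mem_eventualRange_iff]
      rintro ⟨k⟩ f
      obtain ⟨y, hy⟩ := h k (leOfHom f.unop)
      exact ⟨y, hy⟩
    obtain ⟨s, hs⟩ := exists_section_of_mem_eventualRange nat_cof (F ⋙ forget AddCommGrpCat) hF p x hx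
    obtain ⟨y, hy⟩ := exists_of_section s
    exact ⟨y, (hy (op p)).trans hs⟩

/-- Category of abelian groups, system indexed by the natural numbers: Let (A_k) be an inverse system of
abelian groups satisfying the Mittag-Leffler condition, A = lim A_k with projections π_p : A ⟶ A_p.
Filter A and each A_k by the kernels of the maps to A_{p-1} (with A_{-1} = 0); the graded piece
gr^p(A) is identified with Im(π_p) ∩ Ker(A_p ⟶ A_{p-1}) and gr^p(A_k), k ≥ p, with Im(A_k ⟶ A_p) ∩
Ker(A_p ⟶ A_{p-1}), a decreasing family of subgroups of A_p. The statement gr^p(A) ≅ lim_k gr^p(A_k)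
then reads: Im(π_0) = ⋂_k Im(A_k ⟶ A_0), and for every p, Im(π_{p+1}) ∩ Ker(A_{p+1} ⟶ A_p) = ⋂_{k ≥
p+1} (Im(A_k ⟶ A_{p+1}) ∩ Ker(A_{p+1} ⟶ A_p)). -/
theorem result (F : ℕᵒᵖ ⥤ AddCommGrpCat.{u})
    (hF : (F ⋙ forget AddCommGrpCat).IsMittagLeffler) :
    (limit.π F (op 0)).hom.range = ⨅ k : ℕ, (F.map (homOfLE (Nat.zero_le k)).op).hom.range ∧
      ∀ p : ℕ, (limit.π F (op (p + 1))).hom.range ⊓ (F.map (homOfLE (Nat.le_succ p)).op).hom.ker =
        ⨅ (k : ℕ) (hk : p + 1 ≤ k),
          (F.map (homOfLE hk).op).hom.range ⊓ (F.map (homOfLE (Nat.le_succ p)).op).hom.ker := by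
  constructor
  · ext x
    rw [mem_range_π_iff F hF, AddSubgroup.mem_iInf]
    exact ⟨fun h k => h k _, fun h k hk => h k⟩
  · intro p
    ext x
    rw [AddSubgroup.mem_inf, mem_range_π_iff F hF]
    simp only [AddSubgroup.mem_iInf, AddSubgroup.mem_inf]
    exact ⟨fun h k hk => ⟨h.1 k hk, h.2⟩, fun h => ⟨fun k hk => (h k hk).1, (h (p + 1) le_rfl).2⟩⟩

end Groth.Agent.S8352
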