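import Groth.Statements.S8354
import Groth.Agent.Etdl.H860.RDTri
import Mathlib.Algebra.Homology.DerivedCategory.ShortExact

set_option autoImplicit false
universe w w' v v' u u'
open CategoryTheory CategoryTheory.Limits
open HomAlg3

namespace Groth.Agent.S8354

section

open Pretriangulated

variable {C : Type u} [Category.{v} C] [Abelian C] [HasDerivedCategory.{w} C]
  {K₁ K₂ K₃ : CochainComplex.Plus C}
    (φ : K₁ ⟶ K₂) (ψ : K₂ ⟶ K₃) (hφψ : φ.hom ≫ ψ.hom = 0)
    (hS : (ShortComplex.mk φ.hom ψ.hom hφψ).ShortExact)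

/-- The comparison of the two ways to the derived category. -/
noncomputable def cmp (K : CochainComplex.Plus C) :
    DerivedCategory.Plus.ι.obj (DerivedCategory.Plus.Q.obj K) ≅ DerivedCategory.Q.obj K.obj :=
  (DerivedCategory.quotientCompQhIso C).app K.obj

theorem cmp_naturality {K L : CochainComplex.Plus C} (f : K ⟶ L) :
    DerivedCategory.Plus.ι.map (DerivedCategory.Plus.Q.map f) ≫ (cmp L).hom =
      (cmp K).hom ≫ DerivedCategory.Q.map f.hom :=
  (DerivedCategory.quotientCompQhIso C).hom.naturality f.hom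

/-- The connecting morphism in the derived category. -/
noncomputable def δ : DerivedCategory.Q.obj K₃.obj ⟶ (DerivedCategory.Q.obj K₁.obj)⟦(1 : ℤ)⟧ :=
  DerivedCategory.triangleOfSESδ hS

/-- The triangle in `D^+` of a short exact sequence of bounded below complexes. -/
noncomputable def tri : Triangle (DerivedCategory.Plus C) :=
  Triangle.mk (DerivedCategory.Plus.Q.map φ) (DerivedCategory.Plus.Q.map ψ)
    (DerivedCategory.Plus.ι.preimage
      (((cmp K₃).hom ≫ δ φ ψ hφψ hS ≫ (cmp K₁).inv⟦(1 : ℤ)⟧') ≫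
        ((DerivedCategory.Plus.ι (C := C)).commShiftIso (1 : ℤ)).inv.app
        (DerivedCategory.Plus.Q.obj K₁)))

theorem tri_comm₃ :
    DerivedCategory.Plus.ι.map (tri φ ψ hφψ hS).mor₃ ≫
      ((DerivedCategory.Plus.ι (C := C)).commShiftIso (1 : ℤ)).hom.app
        (DerivedCategory.Plus.Q.obj K₁) =
      (cmp K₃).hom ≫ δ φ ψ hφψ hS ≫ (cmp K₁).inv⟦(1 : ℤ)⟧' :=
  Groth.Agent.Etrest.RDer1.map_preimage_comp (DerivedCategory.Plus.ι (C := C))
    (X := DerivedCategory.Plus.Q.obj K₃) (Y := DerivedCategory.Plus.Q.obj K₁)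
    ((cmp K₃).hom ≫ δ φ ψ hφψ hS ≫ (cmp K₁).inv⟦(1 : ℤ)⟧')

theorem tri_distinguished : tri φ ψ hφψ hS ∈ distTriang (DerivedCategory.Plus C) := by
  rw [← Functor.map_distinguished_iff (DerivedCategory.Plus.ι (C := C))]
  refine isomorphic_distinguished _ (DerivedCategory.triangleOfSES_distinguished hS) _
    (Triangle.isoMk _ _ (cmp K₁) (cmp K₂) (cmp K₃) ?_ ?_ ?_)
  · exact cmp_naturality φ
  · exact cmp_naturality ψ
  · have h := tri_comm₃ φ ψ hφψ hS
    change (DerivedCategory.Plus.ι.map (tri φ ψ hφψ hS).mor₃ ≫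
      ((DerivedCategory.Plus.ι (C := C)).commShiftIso (1 : ℤ)).hom.app
        (DerivedCategory.Plus.Q.obj K₁)) ≫ (cmp K₁).hom⟦(1 : ℤ)⟧' =
      (cmp K₃).hom ≫ δ φ ψ hφψ hS
    have h2 : (cmp K₁).inv⟦(1 : ℤ)⟧' ≫ (cmp K₁).hom⟦(1 : ℤ)⟧' = 𝟙 _ := by
      rw [← Functor.map_comp, Iso.inv_hom_id, CategoryTheory.Functor.map_id]
    have h3 : ((cmp K₃).hom ≫ δ φ ψ hφψ hS ≫ (cmp K₁).inv⟦(1 : ℤ)⟧') ≫ (cmp K₁).hom⟦(1 : ℤ)⟧' =
      (cmp K₃).hom ≫ δ φ ψ hφψ hS := by
      rw [Category.assoc, Category.assoc, h2, Category.comp_id]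
    exact (congrArg (· ≫ (cmp K₁).hom⟦(1 : ℤ)⟧') h).trans h3

end

/-- Bounded-below case, exactness at the middle term. Let T : C ⥤ D be an additive functor of abelian
categories, C having enough injectives, and 0 ⟶ K₁ ⟶ K₂ ⟶ K₃ ⟶ 0 a short exact sequence of bounded
below cochain complexes of C. Let R^n T(K) denote the n-th cohomology object of R⁺T(K), where R⁺T is
the right derived functor of T on the bounded below derived category (computed with injective
resolutions). Then R^n T(K₁) ⟶ R^n T(K₂) ⟶ R^n T(K₃) is exact for every n. (The published statement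
asserts a long exact sequence with connecting morphisms; this row states exactness at the middle
term only, with the vanishing of the composite carried as a hypothesis.) -/
theorem result {C : Type u} [Category.{v} C] [Abelian C]
    [EnoughInjectives C] [HasDerivedCategory.{w} C] {D : Type u'} [Category.{v'} D] [Abelian D]
    [HasDerivedCategory.{w'} D] (T : C ⥤ D) [T.Additive] {K₁ K₂ K₃ : CochainComplex.Plus C}
    (φ : K₁ ⟶ K₂) (ψ : K₂ ⟶ K₃) (hφψ : φ.hom ≫ ψ.hom = 0)
    (hS : (ShortComplex.mk φ.hom ψ.hom hφψ).ShortExact) (n : ℤ)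
    (hz : (HomotopyCategory.Plus.quotient C ⋙ DerivedCategory.Plus.Qh ⋙ T.rightDerivedFunctorPlus ⋙
          DerivedCategory.Plus.homologyFunctor D n).map φ ≫
      (HomotopyCategory.Plus.quotient C ⋙ DerivedCategory.Plus.Qh ⋙ T.rightDerivedFunctorPlus ⋙
          DerivedCategory.Plus.homologyFunctor D n).map ψ = 0) :
    (ShortComplex.mk ((HomotopyCategory.Plus.quotient C ⋙ DerivedCategory.Plus.Qh ⋙ T.rightDerivedFunctorPlus ⋙
          DerivedCategory.Plus.homologyFunctor D n).map φ)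
      ((HomotopyCategory.Plus.quotient C ⋙ DerivedCategory.Plus.Qh ⋙ T.rightDerivedFunctorPlus ⋙
          DerivedCategory.Plus.homologyFunctor D n).map ψ) hz).Exact := by
  have h1 := T.rightDerivedFunctorPlus.map_distinguished _ (tri_distinguished φ ψ hφψ hS)
  exact (DerivedCategory.Plus.homologyFunctor D n).map_distinguished_exact _ h1

end Groth.Agent.S8354
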