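import Groth.Statements.S8364
-- import your own Groth.Agent.* helpers here

set_option autoImplicit false
universe u
open SGA3

namespace Groth.Agent.S8364

theorem mem_iff {R A : Type*} [CommRing R] [CommRing A] [Algebra R A] (J : Ideal R) (x : A) :
    x ∈ J • (⊤ : Submodule R A) ↔ x ∈ Ideal.map (algebraMap R A) J := by
  rw [Ideal.smul_top_eq_map]; rfl

/-- An `R`-algebra endomorphism which is the identity modulo the extension of a square-zero ideal
of the base is bijective. -/
theorem bijective_of_sub_mem {R A : Type*} [CommRing R] [CommRing A] [Algebra R A] (J : Ideal R)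
    (hJ : J * J = ⊥) (f : A →ₐ[R] A)
    (hf : ∀ a, f a - a ∈ Ideal.map (algebraMap R A) J) : Function.Bijective f := by
  have h0 : ∀ x ∈ J • (⊤ : Submodule R A), f x - x = 0 := by
    intro x hx
    induction hx using Submodule.smul_induction_on' with
    | smul r hr m hm =>
      have h1 : f m - m ∈ J • (⊤ : Submodule R A) := (mem_iff J _).2 (hf m)
      have h2 : r • (f m - m) ∈ (J * J) • (⊤ : Submodule R A) := by
        rw [mul_smul]; exact Submodule.smul_mem_smul hr h1
      rw [hJ] at h2
      rw [map_smul, ← smul_sub]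
      simpa using h2
    | add y hy z hz h1 h2 =>
      have e : f (y + z) - (y + z) = (f y - y) + (f z - z) := by
        rw [map_add]; ring
      rw [e, h1, h2, add_zero]
  constructor
  · rw [injective_iff_map_eq_zero]
    intro a ha
    have h1 := hf a
    rw [ha, zero_sub, neg_mem_iff] at h1
    have h2 := h0 a ((mem_iff J _).2 h1)
    rw [ha, zero_sub, neg_eq_zero] at h2
    exact h2
  · intro a
    refine ⟨a - (f a - a), ?_⟩
    have h1 := h0 _ ((mem_iff J _).2 (hf a))
    rw [map_sub]
    linear_combination -h1

/-- For a commutative ring R, an ideal J of R of square zero, a smooth R-algebra A and the extended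
ideal I = J·A, every R-algebra automorphism of A/I lifts to an R-algebra automorphism of A. (The
published statement concerns the automorphism functor of a smooth affine S-scheme E and affine test
schemes Y; this row is the case Y = S = Spec R, E = Spec A, which gives the general one after
replacing R by the ring of Y.) -/
theorem result (R A : Type u) [CommRing R] [CommRing A] [Algebra R A]
    [Algebra.Smooth R A] (J : Ideal R) (hJ : J * J = ⊥)
    (φ₀ : (A ⧸ Ideal.map (algebraMap R A) J) ≃ₐ[R] (A ⧸ Ideal.map (algebraMap R A) J)) :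
    ∃ φ : A ≃ₐ[R] A,
      (Ideal.Quotient.mkₐ R (Ideal.map (algebraMap R A) J)).comp φ.toAlgHom =
        φ₀.toAlgHom.comp (Ideal.Quotient.mkₐ R (Ideal.map (algebraMap R A) J)) := by
  have hI2 : (Ideal.map (algebraMap R A) J) ^ 2 = ⊥ := by
    rw [← Ideal.map_pow, pow_two, hJ, Ideal.map_bot]
  obtain ⟨φ, hφ⟩ := Algebra.FormallySmooth.comp_surjective R A (Ideal.map (algebraMap R A) J) hI2
    (φ₀.toAlgHom.comp (Ideal.Quotient.mkₐ R (Ideal.map (algebraMap R A) J)))
  obtain ⟨ψ, hψ⟩ := Algebra.FormallySmooth.comp_surjective R A (Ideal.map (algebraMap R A) J) hI2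
    (φ₀.symm.toAlgHom.comp (Ideal.Quotient.mkₐ R (Ideal.map (algebraMap R A) J)))
  have hφ' : ∀ a, Ideal.Quotient.mk (Ideal.map (algebraMap R A) J) (φ a) =
      φ₀ (Ideal.Quotient.mk (Ideal.map (algebraMap R A) J) a) :=
    fun a => DFunLike.congr_fun hφ a
  have hψ' : ∀ a, Ideal.Quotient.mk (Ideal.map (algebraMap R A) J) (ψ a) =
      φ₀.symm (Ideal.Quotient.mk (Ideal.map (algebraMap R A) J) a) :=
    fun a => DFunLike.congr_fun hψ a
  have h1 : Function.Bijective (ψ.comp φ) := bijective_of_sub_mem J hJ _ fun a => by
    rw [← Ideal.Quotient.eq]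
    simp [hψ', hφ']
  have h2 : Function.Bijective (φ.comp ψ) := bijective_of_sub_mem J hJ _ fun a => by
    rw [← Ideal.Quotient.eq]
    simp [hψ', hφ']
  have hb : Function.Bijective φ := by
    constructor
    · exact Function.Injective.of_comp (f := ψ) (by simpa using h1.1)
    · exact Function.Surjective.of_comp (g := ψ) (by simpa using h2.2)
  exact ⟨AlgEquiv.ofBijective φ hb, AlgHom.ext hφ'⟩

end Groth.Agent.S8364
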