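import Groth.Statements.S8369
import Mathlib.RingTheory.Smooth.Quotient

set_option autoImplicit false
universe u v
open SGA3

namespace Groth.Agent.S8369

/-- Let A be a commutative ring, J a nilpotent ideal, N ⊆ M A-modules with M/N flat over A. If elements
of N have images generating the image of N in M/JM, then they generate N. (The published statement
takes finitely many elements; this row allows an arbitrary set, which the same argument permits.) -/
theorem result (A : Type u) [CommRing A] (J : Ideal A) (hJ : IsNilpotent J)
    (M : Type v) [AddCommGroup M] [Module A M] (N : Submodule A M) [Module.Flat A (M ⧸ N)] (s : Set M)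
    (hs : s ⊆ N)
    (hgen : (Submodule.span A s).map (J • (⊤ : Submodule A M)).mkQ = N.map (J • (⊤ : Submodule A M)).mkQ) :
    Submodule.span A s = N := by
  have hle : Submodule.span A s ≤ N := Submodule.span_le.mpr hs
  have hker : N ⊓ (J • (⊤ : Submodule A M)) = J • N := by
    have h := LinearMap.ker_inf_smul_top_eq_smul_of_flat J N.mkQ (Submodule.mkQ_surjective N)
    rwa [Submodule.ker_mkQ] at h
  refine le_antisymm hle ?_
  obtain ⟨n, hn⟩ := hJ
  have key : ∀ k : ℕ, N ≤ Submodule.span A s ⊔ (J ^ k) • N := by
    intro k
    induction k with
    | zero => simp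
    | succ k ih =>
      have h1 : N ≤ Submodule.span A s ⊔ J • N := by
        intro x hx
        have hx' : (J • (⊤ : Submodule A M)).mkQ x ∈
            (Submodule.span A s).map (J • (⊤ : Submodule A M)).mkQ := by
          rw [hgen]; exact Submodule.mem_map_of_mem hx
        obtain ⟨y, hy, hyx⟩ := hx'
        have hd : x - y ∈ J • (⊤ : Submodule A M) := by
          rw [← Submodule.ker_mkQ (J • (⊤ : Submodule A M)), LinearMap.mem_ker, map_sub, hyx,
            sub_self]
        have hd' : x - y ∈ J • N := by
          rw [← hker]; exact ⟨N.sub_mem hx (hle hy), hd⟩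
        rw [← add_sub_cancel y x]
        exact Submodule.add_mem_sup hy hd'
      calc N ≤ Submodule.span A s ⊔ (J ^ k) • N := ih
        _ ≤ Submodule.span A s ⊔ (J ^ k) • (Submodule.span A s ⊔ J • N) :=
            sup_le_sup_left (Submodule.smul_mono le_rfl h1) _
        _ ≤ Submodule.span A s ⊔ (J ^ (k + 1)) • N := by
            rw [Submodule.smul_sup, pow_succ, mul_smul]
            refine sup_le le_sup_left (sup_le ?_ le_sup_right)
            exact le_trans Submodule.smul_le_right le_sup_left
  have h := key n
  rw [hn] at h
  simpa using h

end Groth.Agent.S8369
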