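import Groth.Statements.S8373
import Groth.Agent.SGA3t2b.K218.Cartan

set_option autoImplicit false
universe u
open scoped TensorProduct
open SGA3t2b

namespace Groth.Agent.S8373

/-- Over an affine base Spec A: let L be a Lie algebra over A which is a finitely generated projective
A-module, H a Cartan subalgebra of L relative to A, a an element of H which is quasi-regular in L,
and u an automorphism of the Lie algebra L over A. Then u(H) = H if and only if u(a) ∈ H. -/
theorem result {A : Type u} [CommRing A] {L : Type u} [LieRing L]
    [LieAlgebra A L] [Module.Finite A L] [Module.Projective A L]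
    (H : LieSubalgebra A L) (hH : SGA3t2b.IsCartanRel H) (a : L) (haH : a ∈ H)
    (ha : SGA3t2b.IsQuasiRegular A L a) (u : L ≃ₗ⁅A⁆ L) :
    H.map u.toLieHom = H ↔ u a ∈ H := by
  constructor
  · intro h
    rw [← h]
    exact ⟨a, haH, rfl⟩
  · intro hua
    have h1 := K218.Cartan.eq_engel_of_isCartanRel a ha H hH haH
    -- `u a` is quasi-regular
    have hreg : SGA3t2b.IsQuasiRegular A L (u a) := by
      intro p
      have := (K218.RankBC.isRegular_lieEquiv
        (K218.Cartan.lieEquivBC p.asIdeal.ResidueField u)
        ((1 : p.asIdeal.ResidueField) ⊗ₜ[A] a)).mpr (ha p)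
      exact this
    have h2 := K218.Cartan.eq_engel_of_isCartanRel (u a) hreg H hH hua
    apply le_antisymm
    · rintro _ ⟨x, hx, rfl⟩
      rw [h2]
      rw [h1] at hx
      exact (K218.Cartan.mem_engel_lieEquiv u a x).mpr hx
    · intro y hy
      obtain ⟨x, rfl⟩ : ∃ x, u x = y := u.surjective y
      refine ⟨x, ?_, rfl⟩
      rw [h2] at hy
      have := (K218.Cartan.mem_engel_lieEquiv u a x).mp hy
      rw [← h1] at this
      exact this

end Groth.Agent.S8373
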