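import Groth.Statements.S8374
import Groth.Agent.SGA3t2b.K218.RankLC
import Groth.Agent.SGA3t2b.K218.Infinite

set_option autoImplicit false
universe u
open scoped TensorProduct
open SGA3t2b

namespace Groth.Agent.S8374

/-- Over an affine base Spec A: let L be a Lie algebra over A which is a finitely generated projective
A-module, H a Cartan subalgebra of L relative to A, and p a prime of A whose residue field is
infinite. Then there are f ∈ A with f ∉ p and an element a ∈ H such that a is a regular element of
every fibre κ(q) ⊗ L with f ∉ q, H is contained in the Engel subalgebra Nil(a, L), and every element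
of Nil(a, L) is carried into H by some power of f; that is, over the basic open set D(f) the section
a is regular and H coincides with Nil(a, L). (The published statement gives a regular section of H
over some open neighbourhood of p; this row takes a global element of H and a basic open
neighbourhood D(f), which is equivalent over an affine base because multiplying by a function
invertible on D(f) does not change regularity.) -/
theorem result {A : Type u} [CommRing A] {L : Type u} [LieRing L]
    [LieAlgebra A L] [Module.Finite A L] [Module.Projective A L]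
    (H : LieSubalgebra A L) (hH : SGA3t2b.IsCartanRel H) (p : PrimeSpectrum A)
    (hp : Infinite p.asIdeal.ResidueField) :
    ∃ f : A, f ∉ p.asIdeal ∧ ∃ a : L, a ∈ H ∧
      (∀ q : PrimeSpectrum A, f ∉ q.asIdeal →
        LieAlgebra.IsRegular q.asIdeal.ResidueField ((1 : q.asIdeal.ResidueField) ⊗ₜ[A] a)) ∧
      H ≤ LieSubalgebra.engel A a ∧
      ∀ y : L, y ∈ LieSubalgebra.engel A a → ∃ n : ℕ, f ^ n • y ∈ H := by
  have hC0 : ∀ p : PrimeSpectrum A, ∃ f : A, f ∉ p.asIdeal ∧ ∀ q : PrimeSpectrum A,
      f ∉ q.asIdeal →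
        LieAlgebra.rank q.asIdeal.ResidueField (q.asIdeal.ResidueField ⊗[A] L) =
          LieAlgebra.rank p.asIdeal.ResidueField (p.asIdeal.ResidueField ⊗[A] L) :=
    fun p => K218.RankLC.locConst_iff (fun q : PrimeSpectrum A =>
      LieAlgebra.rank q.asIdeal.ResidueField (q.asIdeal.ResidueField ⊗[A] L))
      (K218.RankLC.isLocallyConstant_rank H hH) p
  set K := p.asIdeal.ResidueField with hK
  obtain ⟨hnil, hself, hrk⟩ := hH.2 p
  -- the fibre as a Lie subalgebra
  let i : (K ⊗[A] H) →ₗ[K] (K ⊗[A] L) := H.toSubmodule.subtype.baseChange K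
  have hlie : ∀ x y : K ⊗[A] H, i ⁅x, y⁆ = ⁅i x, i y⁆ := by
    intro x y
    refine K218.Fib.map_lie_of_one_tmul (B := A) (M := H) i ?_ x y
    intro m m'
    simp [i]
  let U : LieSubalgebra K (K ⊗[A] L) :=
    { fibreSubmodule p H with
      lie_mem' := by
        rintro _ _ ⟨x, rfl⟩ ⟨y, rfl⟩
        let x' : K ⊗[A] H := x
        let y' : K ⊗[A] H := y
        exact ⟨⁅x', y'⁆, hlie x' y'⟩ }
  have hUnil : LieRing.IsNilpotent U := by
    let j : (K ⊗[A] H) →ₗ⁅K⁆ U :=
      { toFun := fun x => ⟨i x, ⟨x, rfl⟩⟩
        map_add' := fun x y => by ext; simp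
        map_smul' := fun c x => by ext; simp
        map_lie' := fun {x y} => by
          ext
          exact hlie x y }
    have hj : Function.Surjective j := by
      rintro ⟨_, x, rfl⟩
      exact ⟨x, rfl⟩
    exact hj.lieAlgebra_isNilpotent
  obtain ⟨x, hxU, hx⟩ := K218.Infinite.exists_engel_eq U hUnil hself
  have hreg : LieAlgebra.IsRegular K x := by
    rw [LieAlgebra.isRegular_iff_finrank_engel_eq_rank, hx]
    exact hrk
  -- scale to come from H
  obtain ⟨y, rfl⟩ := hxU
  obtain ⟨s, hs, a, ha⟩ := K218.LocFree.exists_smul_eq_one_tmul p.asIdeal y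
  have hne : algebraMap A K s ≠ 0 := by
    rw [Ne, Ideal.algebraMap_residueField_eq_zero]; exact hs
  have hreg' : LieAlgebra.IsRegular K ((1 : K) ⊗ₜ[A] (a : L)) := by
    have h1 : (1 : K) ⊗ₜ[A] (a : L) = i ((1 : K) ⊗ₜ[A] a) := rfl
    rw [h1, ← ha, ← algebraMap_smul K s y, map_smul]
    exact K218.LocFree.isRegular_smul _ hne _ hreg
  obtain ⟨f, hf, hfreg⟩ := K218.LocFree.exists_basicOpen hC0 (a : L) p hreg'
  refine ⟨f, hf, a, a.2, hfreg, ?_, ?_⟩
  · exact (K218.Cartan.key_local H hH a a.2 f hfreg).1
  · intro y hy
    exact K218.Cartan.exists_pow_smul_mem_of_mem_engel H hH a a.2 f hfreg y hy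

end Groth.Agent.S8374
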