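import Groth.Statements.S8376
import Groth.Agent.SGA3t2b.K218.LocFree

set_option autoImplicit false
universe u
open scoped TensorProduct
open SGA3t2b

namespace Groth.Agent.S8376

/-- Over an affine base Spec A: let L be a Lie algebra over A which is a finitely generated projective
A-module satisfying condition (C₂): the nilpotent rank of the fibres κ(p) ⊗ L is locally constant on
Spec A and, for every A-algebra A', every quasi-regular element of A' ⊗ L is regular (lies in a
relative Cartan subalgebra). Then for every prime p such that κ(p) ⊗ L has a regular element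
(automatic when κ(p) is infinite) there is f ∉ p such that the Lie algebra A_f ⊗ L over the
localisation A_f has a Cartan subalgebra relative to A_f. -/
theorem result {A : Type u} [CommRing A] {L : Type u} [LieRing L]
    [LieAlgebra A L] [Module.Finite A L] [Module.Projective A L]
    (hC2 : ((∀ p : PrimeSpectrum A, ∃ f : A, f ∉ p.asIdeal ∧ ∀ q : PrimeSpectrum A, f ∉ q.asIdeal →
        LieAlgebra.rank q.asIdeal.ResidueField (q.asIdeal.ResidueField ⊗[A] L) =
          LieAlgebra.rank p.asIdeal.ResidueField (p.asIdeal.ResidueField ⊗[A] L)) ∧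
      ∀ (A' : Type u) [CommRing A'] [Algebra A A'] (a' : A' ⊗[A] L),
        SGA3t2b.IsQuasiRegular A' (A' ⊗[A] L) a' → SGA3t2b.IsRegularRel A' (A' ⊗[A] L) a'))
    (p : PrimeSpectrum A)
    (hp : ∃ x : p.asIdeal.ResidueField ⊗[A] L, LieAlgebra.IsRegular p.asIdeal.ResidueField x) :
    ∃ f : A, f ∉ p.asIdeal ∧
      ∃ H : LieSubalgebra (Localization.Away f) (Localization.Away f ⊗[A] L), SGA3t2b.IsCartanRel H := by
  obtain ⟨hC0, hC2⟩ := hC2
  obtain ⟨x, hx⟩ := hp
  obtain ⟨s, hs, a, ha⟩ := K218.LocFree.exists_smul_eq_one_tmul p.asIdeal x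
  have hne : algebraMap A p.asIdeal.ResidueField s ≠ 0 := by
    rw [Ne, Ideal.algebraMap_residueField_eq_zero]; exact hs
  have hreg : LieAlgebra.IsRegular p.asIdeal.ResidueField
      ((1 : p.asIdeal.ResidueField) ⊗ₜ[A] a) := by
    rw [← ha, ← algebraMap_smul p.asIdeal.ResidueField s x]
    exact K218.LocFree.isRegular_smul _ hne x hx
  obtain ⟨f, hf, hfreg⟩ := K218.LocFree.exists_basicOpen hC0 a p hreg
  refine ⟨f, hf, ?_⟩
  obtain ⟨-, H, hH, -⟩ := hC2 (Localization.Away f) ((1 : Localization.Away f) ⊗ₜ[A] a) (by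
    intro q
    have h := K218.Fib.isRegular_comap (A := A) (L := L) (Localization.Away f) q.asIdeal a
    rw [h]
    refine hfreg (PrimeSpectrum.comap (algebraMap A (Localization.Away f)) q) ?_
    intro hmem
    have hu : IsUnit (algebraMap A (Localization.Away f) f) :=
      IsLocalization.Away.algebraMap_isUnit f
    exact q.isPrime.ne_top (Ideal.eq_top_of_isUnit_mem _ hmem hu))
  exact ⟨H, hH⟩

end Groth.Agent.S8376
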