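import Groth.Statements.S8377
import Groth.Agent.SGA3t2b.K218.LocFree
import Mathlib.RingTheory.Etale.Pi
import Mathlib.RingTheory.Smooth.Flat
import Mathlib.RingTheory.Flat.FaithfullyFlat.Algebra
import Mathlib.RingTheory.Finiteness.FinitePresentationLocal

set_option autoImplicit false
universe u
open scoped TensorProduct
open SGA3t2b

namespace Groth.Agent.S8377

open LieAlgebra

theorem etale_pi {A : Type u} [CommRing A] {ι : Type} [Finite ι] (g : ι → A) :
    Algebra.Etale A (∀ i, Localization.Away (g i)) := by
  have (i : ι) : Algebra.Etale A (Localization.Away (g i)) := .of_isLocalizationAway (g i)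
  have h1 : Algebra.FormallyEtale A (∀ i, Localization.Away (g i)) :=
    (Algebra.FormallyEtale.pi_iff _).mpr fun i => inferInstance
  have h2 : Algebra.FinitePresentation A (∀ i, Localization.Away (g i)) := inferInstance
  exact { }

theorem faithfullyFlat_pi {A : Type u} [CommRing A] {ι : Type} [Finite ι] (g : ι → A)
    (hg : ∀ p : PrimeSpectrum A, ∃ i, g i ∉ p.asIdeal) :
    Module.FaithfullyFlat A (∀ i, Localization.Away (g i)) := by
  have := etale_pi g
  have : Module.Flat A (∀ i, Localization.Away (g i)) := inferInstance
  apply Module.FaithfullyFlat.of_comap_surjective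
  intro p
  obtain ⟨i, hi⟩ := hg p
  have h1 : p ∈ Set.range (PrimeSpectrum.comap (algebraMap A (Localization.Away (g i)))) := by
    rw [PrimeSpectrum.localization_away_comap_range _ (g i)]
    exact hi
  obtain ⟨q, hq⟩ := h1
  refine ⟨PrimeSpectrum.comap (Pi.evalRingHom _ i) q, ?_⟩
  rw [← hq, ← PrimeSpectrum.comap_comp_apply]
  rfl

/-- Let L be a Lie algebra over the commutative ring A which is a finitely generated projective
A-module. Suppose that the nilpotent rank of the fibres κ(p) ⊗ L is locally constant on Spec A, that
for every A-algebra A' every quasi-regular element of A' ⊗ L is regular (condition (C₂)), and that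
every fibre κ(p) ⊗ L has a regular element (automatic when every residue field of A is infinite).
Then L acquires a relative Cartan subalgebra after a faithfully flat etale base change A → A'
(condition (C′₁)). (The published implication (C₂) ⇒ (C′₁) is over an arbitrary base and has no
hypothesis on regular elements of the fibres; this row is over an affine base and assumes every
fibre has a regular element, the case in which the published argument, through the existence of a
Cartan subalgebra Zariski-locally near each such point, is complete.) -/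
theorem result {A : Type u} [CommRing A] {L : Type u} [LieRing L]
    [LieAlgebra A L] [Module.Finite A L] [Module.Projective A L]
    (hC2 : ((∀ p : PrimeSpectrum A, ∃ f : A, f ∉ p.asIdeal ∧ ∀ q : PrimeSpectrum A, f ∉ q.asIdeal →
        LieAlgebra.rank q.asIdeal.ResidueField (q.asIdeal.ResidueField ⊗[A] L) =
          LieAlgebra.rank p.asIdeal.ResidueField (p.asIdeal.ResidueField ⊗[A] L)) ∧
      ∀ (A' : Type u) [CommRing A'] [Algebra A A'] (a' : A' ⊗[A] L),
        SGA3t2b.IsQuasiRegular A' (A' ⊗[A] L) a' → SGA3t2b.IsRegularRel A' (A' ⊗[A] L) a'))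
    (hreg : ∀ p : PrimeSpectrum A, ∃ x : p.asIdeal.ResidueField ⊗[A] L, LieAlgebra.IsRegular p.asIdeal.ResidueField x) :
    ∃ (A' : Type u) (_ : CommRing A') (_ : Algebra A A'), Algebra.Etale A A' ∧ Module.FaithfullyFlat A A' ∧
        ∃ H : LieSubalgebra A' (A' ⊗[A] L), SGA3t2b.IsCartanRel H := by
  classical
  obtain ⟨hC0, hC2⟩ := hC2
  -- local data
  have hloc : ∀ p : PrimeSpectrum A, ∃ a : L, ∃ f : A, f ∉ p.asIdeal ∧
      ∀ q : PrimeSpectrum A, f ∉ q.asIdeal →
        LieAlgebra.IsRegular q.asIdeal.ResidueField ((1 : q.asIdeal.ResidueField) ⊗ₜ[A] a) := by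
    intro p
    obtain ⟨x, hx⟩ := hreg p
    obtain ⟨s, hs, a, ha⟩ := K218.LocFree.exists_smul_eq_one_tmul p.asIdeal x
    have hne : algebraMap A p.asIdeal.ResidueField s ≠ 0 := by
      rw [Ne, Ideal.algebraMap_residueField_eq_zero]; exact hs
    have hreg : LieAlgebra.IsRegular p.asIdeal.ResidueField
        ((1 : p.asIdeal.ResidueField) ⊗ₜ[A] a) := by
      rw [← ha, ← algebraMap_smul p.asIdeal.ResidueField s x]
      exact K218.LocFree.isRegular_smul _ hne x hx
    obtain ⟨f, hf, hfreg⟩ := K218.LocFree.exists_basicOpen hC0 a p hreg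
    exact ⟨a, f, hf, hfreg⟩
  choose a f hf hfreg using hloc
  have hspan : Ideal.span (Set.range f) = ⊤ := by
    by_contra hne
    obtain ⟨m, hm, hle⟩ := Ideal.exists_le_maximal _ hne
    exact hf ⟨m, hm.isPrime⟩ (hle (Ideal.subset_span ⟨_, rfl⟩))
  obtain ⟨s, hs, hs1⟩ := (Ideal.span_eq_top_iff_finite _).mp hspan
  have hchoose : ∀ x : s, ∃ p, f p = (x : A) := fun x => hs x.2
  choose P hP using hchoose
  let e := Fintype.equivFin s
  let g : Fin (Fintype.card s) → A := fun i => (e.symm i : A)
  let b : Fin (Fintype.card s) → L := fun i => a (P (e.symm i))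
  have hgreg : ∀ i, ∀ q : PrimeSpectrum A, g i ∉ q.asIdeal →
      LieAlgebra.IsRegular q.asIdeal.ResidueField ((1 : q.asIdeal.ResidueField) ⊗ₜ[A] (b i)) := by
    intro i q hq
    apply hfreg (P (e.symm i)) q
    rw [hP]
    exact hq
  have hgcov : ∀ p : PrimeSpectrum A, ∃ i, g i ∉ p.asIdeal := by
    intro p
    by_contra! hcon
    apply p.2.ne_top
    rw [eq_top_iff, ← hs1, Ideal.span_le]
    intro x hx
    have := hcon (e ⟨x, hx⟩)
    simpa [g] using this
  let B := ∀ i, Localization.Away (g i)
  refine ⟨B, inferInstance, inferInstance, etale_pi g, faithfullyFlat_pi g hgcov, ?_⟩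
  let a' : B ⊗[A] L := ∑ i, (Pi.single i 1 : B) ⊗ₜ[A] b i
  obtain ⟨-, H, hH, -⟩ := hC2 B a' (by
    intro q
    -- exactly one idempotent is non-zero at q
    have hsum : ∑ i, (Pi.single i (1 : Localization.Away (g i)) : B) = 1 :=
      Finset.univ_sum_single (1 : B)
    obtain ⟨i, hi⟩ : ∃ i, (Pi.single i (1 : Localization.Away (g i)) : B) ∉ q.asIdeal := by
      by_contra! hcon
      apply q.2.ne_top
      rw [Ideal.eq_top_iff_one, ← hsum]
      exact Submodule.sum_mem _ fun i _ => hcon i
    have hj : ∀ j, j ≠ i → (Pi.single j (1 : Localization.Away (g j)) : B) ∈ q.asIdeal := by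
      intro j hji
      have h0 : (Pi.single j (1 : Localization.Away (g j)) : B) *
          (Pi.single i (1 : Localization.Away (g i)) : B) = 0 := by
        funext l
        rw [Pi.mul_apply]
        by_cases hl : l = j
        · subst hl
          rw [Pi.single_eq_of_ne hji, mul_zero]
          rfl
        · rw [Pi.single_eq_of_ne hl, zero_mul]
          rfl
      rcases q.2.mem_or_mem (by rw [h0]; exact zero_mem _ :
        (Pi.single j (1 : Localization.Away (g j)) : B) *
          (Pi.single i (1 : Localization.Away (g i)) : B) ∈ q.asIdeal) with h | h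
      · exact h
      · exact absurd h hi
    have hone : algebraMap B q.asIdeal.ResidueField (Pi.single i (1 : Localization.Away (g i)) : B)
        = 1 := by
      have := congrArg (algebraMap B q.asIdeal.ResidueField) hsum
      rw [map_sum, map_one, Finset.sum_eq_single i] at this
      · exact this
      · intro j _ hji
        rw [Ideal.algebraMap_residueField_eq_zero]
        exact hj j hji
      · intro h
        exact absurd (Finset.mem_univ i) h
    rw [← K218.Fib.isRegular_cancel A B q.asIdeal.ResidueField]
    have hval : K218.Fib.cancelLie A B q.asIdeal.ResidueField L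
        ((1 : q.asIdeal.ResidueField) ⊗ₜ[B] a') = (1 : q.asIdeal.ResidueField) ⊗ₜ[A] b i := by
      simp only [a', TensorProduct.tmul_sum, map_sum, K218.Fib.cancelLie_tmul]
      rw [Finset.sum_eq_single i]
      · rw [Algebra.smul_def, hone, one_mul]
      · intro j _ hji
        have : algebraMap B q.asIdeal.ResidueField
            (Pi.single j (1 : Localization.Away (g j)) : B) = 0 := by
          rw [Ideal.algebraMap_residueField_eq_zero]
          exact hj j hji
        rw [Algebra.smul_def, this, zero_mul, TensorProduct.zero_tmul]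
      · intro h
        exact absurd (Finset.mem_univ i) h
    rw [hval, K218.Fib.isRegular_fibre (q.asIdeal.comap (algebraMap A B)) q.asIdeal.ResidueField
      (K218.Fib.ker_residue B q.asIdeal)]
    apply hgreg i (PrimeSpectrum.comap (algebraMap A B) q)
    intro hmem
    have hmem' : algebraMap A B (g i) ∈ q.asIdeal := hmem
    apply hi
    obtain ⟨c, hc⟩ : ∃ c : B, c * algebraMap A B (g i) =
        (Pi.single i (1 : Localization.Away (g i)) : B) := by
      have hu : IsUnit (algebraMap A (Localization.Away (g i)) (g i)) :=
        IsLocalization.Away.algebraMap_isUnit (g i)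
      obtain ⟨u, hu⟩ := hu
      refine ⟨Pi.single i ((u⁻¹ : (Localization.Away (g i))ˣ) : Localization.Away (g i)), ?_⟩
      funext l
      rw [Pi.mul_apply]
      by_cases hl : l = i
      · subst hl
        rw [Pi.single_eq_same, Pi.single_eq_same, Pi.algebraMap_apply, ← hu, Units.inv_mul]
      · rw [Pi.single_eq_of_ne hl, Pi.single_eq_of_ne hl, zero_mul]
    rw [← hc]
    exact Ideal.mul_mem_left _ _ hmem')
  exact ⟨H, hH⟩

end Groth.Agent.S8377
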