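import Groth.Statements.S8380
import Groth.Agent.SGA3t2b.K796.GenCase

set_option autoImplicit false
universe u
open CategoryTheory MonoidalCategory CartesianMonoidalCategory MonObj GrpObj AlgebraicGeometry
open SGA3t2b

namespace Groth.Agent.S8380

/-- Let G be a smooth algebraic group (a group scheme smooth and of finite type) over an algebraically
closed field k. Then the Lie algebra of G is the union of the Lie algebras of the Borel subgroups of
G: every element of Lie(G)(k) is the image, under the map induced by the inclusion, of an element of
Lie(B)(k) for some Borel subgroup B of G. -/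
theorem result (k : Type u) [Field k] [IsAlgClosed k]
    (G : Over (Spec (CommRingCat.of k))) [GrpObj G] [Smooth G.hom] [QuasiCompact G.hom]
    (v : ↥(LieS.LieR G k)) :
    ∃ (B : Over (Spec (CommRingCat.of k))) (_ : GrpObj B) (i : B ⟶ G) (_ : IsMonHom i),
      Red.IsBorelOver k i ∧ ∃ w : ↥(LieS.LieR B k), LieS.map k (Spec.map (CommRingCat.ofHom (algebraMap k k))) i w = v := by
  exact K796.GenCase.main k G v

end Groth.Agent.S8380
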