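import Groth.Statements.S8382
import Groth.Agent.SGA3t2b.K218.Fin.Assemble

set_option autoImplicit false
universe u
open CategoryTheory MonoidalCategory CartesianMonoidalCategory MonObj GrpObj AlgebraicGeometry
open SGA3t2b

namespace Groth.Agent.S8382

/-- Let k be a finite field and G a semisimple k-group (affine and smooth with connected semisimple
geometric fibres) which is adjoint, i.e. whose centre is the trivial subgroup scheme. Then the Lie
algebra of G over k contains a regular element: for any Lie algebra L over k modelling Lie(G)(k),
some element of L is regular. -/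
theorem result (k : Type u) [Field k] [Finite k]
    (G : Over (Spec (CommRingCat.of k))) [GrpObj G] (hG : Red.IsSemisimple G)
    (hadj : ∀ (Z : Over (Spec (CommRingCat.of k))) [GrpObj Z] (j : Z ⟶ G), Red.IsCentre j → Red.IsTrivialGrp Z)
    (L : Type u) [LieRing L] [LieAlgebra k L] [Module.Finite k L] (m : LieS.Model G k (Spec.map (CommRingCat.ofHom (algebraMap k k))) L) :
    ∃ x : L, LieAlgebra.IsRegular k x := by
  have hred : Red.IsReductive G := ⟨hG.1, hG.2.1, fun s => (hG.2.2 s).1⟩
  have : IsAffineHom G.hom := hG.1
  obtain ⟨c⟩ := Groth.Agent.Sga3B.exists_chart G (𝟙 (Spec (CommRingCat.of k)))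
  exact K218.FinAsm.main hred hadj c (K218.LieP.ofModel c m)

end Groth.Agent.S8382
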