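import Groth.Statements.S8383
import Mathlib.RingTheory.TensorProduct.Free
import Mathlib.LinearAlgebra.Dual.Basis
import Mathlib.LinearAlgebra.Dual.Lemmas
import Mathlib.Combinatorics.Nullstellensatz
import Mathlib.RingTheory.MvPolynomial.Ideal
import Mathlib.RingTheory.MvPolynomial.Homogeneous
import Mathlib.Algebra.CharP.Lemmas
import Mathlib.FieldTheory.Finite.Basic

set_option autoImplicit false
universe u
open scoped TensorProduct
open SGA3t2b

namespace Groth.Agent.S8383

/-- Let k be a finite field with algebraic closure K, V a finite-dimensional vector space over k, and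
θ₁, …, θₙ a basis of the dual of the K-vector space K ⊗ V. Then there is x ∈ V with θᵢ(1 ⊗ x) ≠ 0
for every i. -/
theorem result (k : Type u) [Field k] [Finite k]
    (V : Type u) [AddCommGroup V] [Module k V] [Module.Finite k V] {ι : Type} [Fintype ι]
    (θ : Module.Basis ι (AlgebraicClosure k) (Module.Dual (AlgebraicClosure k) (AlgebraicClosure k ⊗[k] V))) :
    ∃ x : V, ∀ i : ι, θ i ((1 : AlgebraicClosure k) ⊗ₜ[k] x) ≠ 0 := by
  classical
  haveI : Fintype k := Fintype.ofFinite k
  set K := AlgebraicClosure k with hK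
  set q := Fintype.card k with hq
  have hq1 : 1 < q := Fintype.one_lt_card
  obtain ⟨p, hchar, n, hp, hpq⟩ := FiniteField.card' k
  haveI : Fact p.Prime := ⟨hp⟩
  haveI : CharP K p := charP_of_injective_algebraMap (algebraMap k K).injective p
  -- coordinates
  let b := Module.Free.chooseBasis k V
  let J := Module.Free.ChooseBasisIndex k V
  let bK : Module.Basis J K (K ⊗[k] V) := Algebra.TensorProduct.basis K b
  obtain ⟨w, hw⟩ : ∃ w : ι → K ⊗[k] V, ∀ i j, θ i (w j) = if i = j then 1 else 0 := by
    refine ⟨fun j => (Module.evalEquiv K (K ⊗[k] V)).symm (θ.dualBasis j), fun i j => ?_⟩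
    rw [Module.apply_evalEquiv_symm_apply, Module.Basis.dualBasis_apply_self]
  let a : ι → J → K := fun i j => θ i (bK j)
  let c : J → ι → K := fun j i => bK.repr (w i) j
  have hac : ∀ i i', ∑ j, a i j * c j i' = if i = i' then 1 else 0 := by
    intro i i'
    rw [← hw i i']
    conv_rhs => rw [← bK.sum_repr (w i')]
    rw [map_sum]
    refine Finset.sum_congr rfl fun j _ => ?_
    rw [map_smul, smul_eq_mul, mul_comm]
  let lin : ι → MvPolynomial J K := fun i => ∑ j, MvPolynomial.C (a i j) * MvPolynomial.X j
  let f : MvPolynomial J K := ∏ i, lin i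
  let φ : MvPolynomial J K →ₐ[K] MvPolynomial ι K :=
    MvPolynomial.aeval (fun j => ∑ i, MvPolynomial.C (c j i) * MvPolynomial.X i)
  have hφlin : ∀ i, φ (lin i) = MvPolynomial.X i := by
    intro i
    simp only [lin, φ, map_sum, map_mul, MvPolynomial.aeval_X, MvPolynomial.aeval_C,
      Finset.mul_sum]
    rw [Finset.sum_comm]
    have : ∀ i' : ι, ∑ j, (algebraMap K (MvPolynomial ι K) (a i j)) *
        (MvPolynomial.C (c j i') * MvPolynomial.X i') =
        MvPolynomial.C (∑ j, a i j * c j i') * MvPolynomial.X i' := by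
      intro i'
      rw [map_sum, Finset.sum_mul]
      refine Finset.sum_congr rfl fun j _ => ?_
      rw [MvPolynomial.algebraMap_eq, map_mul, mul_assoc]
    simp only [this, hac]
    rw [Finset.sum_eq_single i]
    · simp
    · intro i' _ hi
      rw [if_neg (Ne.symm hi)]
      simp
    · intro h
      exact absurd (Finset.mem_univ i) h
  have hφf : φ f = MvPolynomial.monomial (∑ i, Finsupp.single i 1) 1 := by
    simp only [f, map_prod, hφlin]
    rw [MvPolynomial.monomial_sum_one]
    rfl
  have hex : ∃ t ∈ f.support, ∀ j, t j < q := by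
    by_contra! hcon
    have h1 : f ∈ Ideal.span ((fun s => MvPolynomial.monomial s (1 : K)) ''
        Set.range (fun j : J => Finsupp.single j q)) := by
      rw [MvPolynomial.mem_ideal_span_monomial_image]
      intro t ht
      obtain ⟨j, hj⟩ := hcon t ht
      exact ⟨_, ⟨j, rfl⟩, by simpa using hj⟩
    have h2 : φ f ∈ Ideal.span ((fun s => MvPolynomial.monomial s (1 : K)) ''
        Set.range (fun i : ι => Finsupp.single i q)) := by
      have h3 := Ideal.mem_map_of_mem (φ : MvPolynomial J K →+* MvPolynomial ι K) h1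
      rw [Ideal.map_span] at h3
      refine (Ideal.span_le.mpr ?_) h3
      rintro _ ⟨_, ⟨_, ⟨j, rfl⟩, rfl⟩, rfl⟩
      have h4 : (φ : MvPolynomial J K →+* MvPolynomial ι K)
          (MvPolynomial.monomial (Finsupp.single j q) 1) =
          ∑ i, MvPolynomial.C (c j i ^ q) * MvPolynomial.monomial (Finsupp.single i q) 1 := by
        have hq' : q = p ^ (n : ℕ) := hpq
        rw [← MvPolynomial.X_pow_eq_monomial, RingHom.coe_coe, map_pow, MvPolynomial.aeval_X, hq',
          sum_pow_char_pow]
        refine Finset.sum_congr rfl fun i _ => ?_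
        rw [mul_pow, map_pow, MvPolynomial.X_pow_eq_monomial]
      simp only [SetLike.mem_coe]
      rw [h4]
      exact Submodule.sum_mem _ fun i _ => Ideal.mul_mem_left _ _
        (Ideal.subset_span ⟨_, ⟨i, rfl⟩, rfl⟩)
    rw [hφf, MvPolynomial.mem_ideal_span_monomial_image] at h2
    obtain ⟨_, ⟨i, rfl⟩, hi⟩ := h2 (∑ i, Finsupp.single i 1) (by simp)
    have := hi i
    simp [Finsupp.single_apply] at this
    omega
  obtain ⟨t, ht, htq⟩ := hex
  have hhom : f.IsHomogeneous (Fintype.card ι) := by
    have := MvPolynomial.IsHomogeneous.prod Finset.univ lin (fun _ => 1) (fun i _ => by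
      apply MvPolynomial.IsHomogeneous.sum
      intro j _
      simpa using (MvPolynomial.isHomogeneous_C J (a i j)).mul (MvPolynomial.isHomogeneous_X K j))
    simpa using this
  have ht0 : f.coeff t ≠ 0 := by simpa using ht
  have hf0 : f ≠ 0 := by
    intro h
    apply ht0
    rw [h]; simp
  have hdeg : f.totalDegree = t.degree := by
    rw [hhom.totalDegree hf0]
    have := hhom ht0
    rw [← this, Finsupp.degree_eq_weight_one]
    rfl
  obtain ⟨s, hs, hsf⟩ := MvPolynomial.combinatorial_nullstellensatz_exists_eval_nonzero f t ht0 hdeg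
    (fun _ => Finset.univ.map ⟨algebraMap k K, (algebraMap k K).injective⟩) (fun j => by
      simpa using htq j)
  have hs' : ∀ j, ∃ y : k, algebraMap k K y = s j := by
    intro j
    simpa using hs j
  choose y hy using hs'
  refine ⟨∑ j, y j • b j, fun i => ?_⟩
  have h1 : MvPolynomial.eval s (lin i) ≠ 0 := by
    simp only [f, map_prod] at hsf
    exact Finset.prod_ne_zero_iff.mp hsf i (Finset.mem_univ i)
  convert h1 using 1
  simp only [lin, map_sum, map_mul, MvPolynomial.eval_C, MvPolynomial.eval_X,
    TensorProduct.tmul_sum]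
  refine Finset.sum_congr rfl fun j _ => ?_
  rw [TensorProduct.tmul_smul, ← algebraMap_smul K (y j), map_smul, smul_eq_mul, hy j, mul_comm]
  congr 1
  simp only [a, bK, Algebra.TensorProduct.basis_apply]

end Groth.Agent.S8383
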