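import Groth.Statements.S8387
import Groth.Agent.SGA3x.K13.CT.Main
import Groth.Agent.S8440

set_option autoImplicit false
universe u
open CategoryTheory MonoidalCategory CartesianMonoidalCategory MonObj GrpObj AlgebraicGeometry
open SGA3x

namespace Groth.Agent.S8387

/-- Over an affine base: let A be a ring, J a finitely generated ideal of A all of whose elements are
nilpotent, S = Spec A, S₀ = Spec(A/J), G an S-group scheme flat and of finite presentation over S,
and T₀ a central subtorus of G₀ = G ×_S S₀. Then there is a subtorus T of G with T ×_S S₀ = T₀ as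
subgroups of G₀; it is unique (any two such are isomorphic over G); and T is central in G. -/
theorem result (A : Type u) [CommRing A] (J : Ideal A) (hJfg : J.FG)
    (hJ : ∀ x ∈ J, IsNilpotent x) (G : Over (Spec (CommRingCat.of A))) [GrpObj G] [Flat G.hom] [QuasiCompact G.hom]
    [QuasiSeparated G.hom] [LocallyOfFinitePresentation G.hom]
    (T₀ : Over (Spec (CommRingCat.of (A ⧸ J)))) [GrpObj T₀] (j₀ : T₀ ⟶ Red.bc (Spec.map (CommRingCat.ofHom (Ideal.Quotient.mk J))) G) [IsMonHom j₀] [Mono j₀]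
    (ht₀ : Red.IsTorus T₀) (hc₀ : (∀ (X : Over _) (x : X ⟶ _) (g : X ⟶ Red.bc (Spec.map (CommRingCat.ofHom (Ideal.Quotient.mk J))) G), (x ≫ j₀) * g = g * (x ≫ j₀))) :
    (∃ (T : Over (Spec (CommRingCat.of A))) (_ : GrpObj T) (j : T ⟶ G), IsMonHom j ∧ Mono j ∧ Red.IsTorus T ∧
      (∃ e : Red.bc (Spec.map (CommRingCat.ofHom (Ideal.Quotient.mk J))) T ≅ T₀, e.hom ≫ j₀ = (Over.pullback (Spec.map (CommRingCat.ofHom (Ideal.Quotient.mk J)))).map j) ∧
      (∀ (X : Over _) (x : X ⟶ _) (g : X ⟶ G), (x ≫ j) * g = g * (x ≫ j)) ∧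
      ∀ (T' : Over (Spec (CommRingCat.of A))) [GrpObj T'] (j' : T' ⟶ G) [IsMonHom j'] [Mono j'], Red.IsTorus T' →
        (∃ e' : Red.bc (Spec.map (CommRingCat.ofHom (Ideal.Quotient.mk J))) T' ≅ T₀, e'.hom ≫ j₀ = (Over.pullback (Spec.map (CommRingCat.ofHom (Ideal.Quotient.mk J)))).map j') →
        ∃ φ : T' ≅ T, φ.hom ≫ j = j') := by
  exact K13.CT.Main.main @Groth.Agent.S8440.result hJfg hJ G T₀ j₀ ht₀ hc₀

end Groth.Agent.S8387
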