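import Groth.Statements.S8429
import Groth.Agent.S4116
import Groth.Agent.S4117
import Groth.Agent.S4120
import Groth.Agent.S4147
import Groth.Agent.SGA3x.K17.TorusLift
import Groth.Agent.SGA3x.K17.FlatHom
import Groth.Agent.SGA3x.K17.Surj
-- import your own Groth.Agent.* helpers here

set_option autoImplicit false
universe u
open CategoryTheory MonoidalCategory CartesianMonoidalCategory MonObj GrpObj AlgebraicGeometry
open SGA3x

namespace Groth.Agent.S8429

attribute [-instance] CategoryTheory.catToReflQuiver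

/-- Let G, G′ be S-group schemes, smooth, separated and of finite type over S, G admitting a maximal
torus locally for the fpqc topology, and u : G → G′ a homomorphism surjective on every geometric
fibre whose kernel is a central subgroup of G. Then T ↦ u(T) is a bijection from the maximal tori of
G onto those of G′: every maximal torus T′ of G′ is the image of a maximal torus T of G (there is a
surjective flat homomorphism T → T′ over u), and two maximal tori of G whose images in G′ coincide
are equal as subgroups of G. (The published item f) makes the same assertion for Cartan subgroups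
when G′ has connected fibres; this row states the assertion on maximal tori.) -/
theorem result (S : Scheme.{u}) (G G' : Over S) [GrpObj G] [GrpObj G']
    [Smooth G.hom] [IsSeparated G.hom] [QuasiCompact G.hom] [Smooth G'.hom] [IsSeparated G'.hom] [QuasiCompact G'.hom]
    (hG : SGA3x.HasMaxTorusFpqcLocally G) (u : G ⟶ G') [IsMonHom u]
    (hu : ∀ s : S, Surjective ((Over.pullback (Red.geomPt s)).map u).left)
    (hker : ∀ (X : Over S) (z : X ⟶ G), z ≫ u = 1 → ∀ (X' : Over S) (x : X' ⟶ X) (g : X' ⟶ G),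
      (x ≫ z) * g = g * (x ≫ z)) :
    (∀ (T' : Over S) [GrpObj T'] (i' : T' ⟶ G'), Red.IsMaximalTorus i' →
      ∃ (T : Over S) (_ : GrpObj T) (i : T ⟶ G) (v : T ⟶ T'), Red.IsMaximalTorus i ∧ IsMonHom v ∧
        v ≫ i' = i ≫ u ∧ Surjective v.left ∧ Flat v.left) ∧
    (∀ (T₁ T₂ T' : Over S) [GrpObj T₁] [GrpObj T₂] [GrpObj T'] (i₁ : T₁ ⟶ G) (i₂ : T₂ ⟶ G) (i' : T' ⟶ G')
      (v₁ : T₁ ⟶ T') (v₂ : T₂ ⟶ T'), Red.IsMaximalTorus i₁ → Red.IsMaximalTorus i₂ → Red.IsMaximalTorus i' →
      v₁ ≫ i' = i₁ ≫ u → v₂ ≫ i' = i₂ ≫ u → Surjective v₁.left → Surjective v₂.left →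
      ∃ φ : T₁ ≅ T₂, φ.hom ≫ i₂ = i₁) := by
  have hq : ∀ (X : Over S) (z g : X ⟶ G), z ≫ u = 1 → z * g = g * z := by
    intro X z g hz
    have h1 := hker X z hz X (𝟙 X) g
    rwa [Category.id_comp] at h1
  have hw : u.left ≫ G'.hom = G.hom := Over.w u
  have hus : Surjective u.left := K17.Surj.surjective_of_geomFibres u hu
  have huq : QuasiCompact u.left := by
    have : QuasiCompact (u.left ≫ G'.hom) := by rw [hw]; infer_instance
    exact QuasiCompact.of_comp u.left G'.hom
  have hulfp : LocallyOfFinitePresentation u.left := by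
    have : LocallyOfFinitePresentation (u.left ≫ G'.hom) := by rw [hw]; infer_instance
    exact Groth.Agent.Flat2E.Thick.locallyOfFinitePresentation_of_comp u.left G'.hom
  have huf : Flat u.left := K17.FlatHom.flat_of_surjective G G' u hus
  refine ⟨?_, ?_⟩
  · intro T' _ i' hi'
    have := hi'.1
    have := hi'.2.1
    obtain ⟨S₁, f₁, het₁, hs₁, T₁, _, i₁, hi₁⟩ := Groth.Agent.S4117.result S G hG
    have h1 : Smooth (Red.bc f₁ G).hom := inferInstanceAs (Smooth (Limits.pullback.snd _ _))
    have h2 : IsSeparated (Red.bc f₁ G).hom := inferInstanceAs (IsSeparated (Limits.pullback.snd _ _))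
    have h3 : QuasiCompact (Red.bc f₁ G).hom := inferInstanceAs (QuasiCompact (Limits.pullback.snd _ _))
    have h4 : Smooth (Red.bc f₁ G').hom := inferInstanceAs (Smooth (Limits.pullback.snd _ _))
    have h5 : IsSeparated (Red.bc f₁ G').hom := inferInstanceAs (IsSeparated (Limits.pullback.snd _ _))
    have h6 : QuasiCompact (Red.bc f₁ G').hom := inferInstanceAs (QuasiCompact (Limits.pullback.snd _ _))
    have hG' : SGA3x.HasMaxTorusFpqcLocally (Red.bc f₁ G) := by
      refine ⟨S₁, 𝟙 S₁, inferInstance, inferInstance, fun V hV => ⟨V, hV.isCompact, ?_⟩,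
        Red.bc (𝟙 S₁) T₁, inferInstance, _, Groth.Agent.Sga3.H799.Bc.isMaximalTorus_bc (𝟙 S₁) hi₁⟩
      ext x
      simp
    obtain ⟨T₁', _, i₁', v₁, hi₁', -, hv₁, -⟩ := Groth.Agent.S4147.result S₁ (Red.bc f₁ G) (Red.bc f₁ G') hG'
      ((Over.pullback f₁).map u) (K17.Surj.surjective_geomFibre_bc u hu f₁) T₁ i₁ hi₁
    obtain ⟨S₂, f₂, het₂, hs₂, g', hg'⟩ := Groth.Agent.S4116.result S₁ (Red.bc f₁ G') T₁' (Red.bc f₁ T') i₁'
      ((Over.pullback f₁).map i') hi₁' (Groth.Agent.Sga3.H799.Bc.isMaximalTorus_bc f₁ hi')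
    have hdat : K17.TorusLift.Dat u i' := by
      refine K17.TorusLift.dat_of_bc f₁ u i' (K17.TorusLift.dat_of_bc f₂ _ _ ?_)
      have j1 := Groth.Agent.Sga3.H798.FpqcIso.isPullback_map_left f₁ u
      have j2 := Groth.Agent.Sga3.H798.FpqcIso.isPullback_map_left f₂ ((Over.pullback f₁).map u)
      have a1 : Flat ((Over.pullback f₁).map u).left := MorphismProperty.of_isPullback (P := @Flat) j1 huf
      have a2 : LocallyOfFinitePresentation ((Over.pullback f₁).map u).left :=
        MorphismProperty.of_isPullback (P := @LocallyOfFinitePresentation) j1 hulfp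
      have a3 : Surjective ((Over.pullback f₁).map u).left :=
        MorphismProperty.of_isPullback (P := @Surjective) j1 hus
      have b1 : Flat ((Over.pullback f₂).map ((Over.pullback f₁).map u)).left :=
        MorphismProperty.of_isPullback (P := @Flat) j2 a1
      have b2 : LocallyOfFinitePresentation ((Over.pullback f₂).map ((Over.pullback f₁).map u)).left :=
        MorphismProperty.of_isPullback (P := @LocallyOfFinitePresentation) j2 a2
      have b3 : Surjective ((Over.pullback f₂).map ((Over.pullback f₁).map u)).left :=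
        MorphismProperty.of_isPullback (P := @Surjective) j2 a3
      have b4 : LocallyOfFiniteType (Red.bc f₂ (Red.bc f₁ G)).hom :=
        inferInstanceAs (LocallyOfFiniteType (Limits.pullback.snd _ _))
      refine K17.TorusLift.dat_of_conj ((Over.pullback f₂).map ((Over.pullback f₁).map u))
        ((Over.pullback f₂).map ((Over.pullback f₁).map i')) ((Over.pullback f₂).map i₁)
        (Groth.Agent.Sga3.H799.Bc.isMaximalTorus_bc f₂ hi₁) ((Over.pullback f₂).map v₁)
        ((Over.pullback f₂).map i₁') ?_ g' hg'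
      rw [← Functor.map_comp, hv₁, Functor.map_comp]
    obtain ⟨T, _, i, hi, hcomm⟩ := K17.TorusLift.exists_of_dat u hq i' hi'.2.2.1 hdat
    obtain ⟨T₂, _, i₂, v₂, hi₂, hv₂m, hv₂, hv₂s, hv₂f⟩ := Groth.Agent.S4147.result S G G' hG u hu T i hi
    have := hi₂.1
    have := hi₂.2.1
    have hcomm' : ∀ (X : Over S) (t : X ⟶ T₂) (r : X ⟶ T'),
        (t ≫ i₂) * (r ≫ i') = (r ≫ i') * (t ≫ i₂) := by
      intro X t r
      obtain ⟨X₁, p, t₁, -, -, hp, ht₁, -⟩ := K17.Lift.exists_lift v₂ t
      rw [← cancel_epi p, MonObj.comp_mul, MonObj.comp_mul, ← Category.assoc, ← ht₁, Category.assoc, hv₂,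
        ← Category.assoc p r i']
      exact hcomm X₁ t₁ (p ≫ r)
    obtain ⟨a, ha⟩ := Groth.Agent.S4120.result S G' T₂ T' i₂ i' hi₂ hi'.2.2.1 hcomm'
    obtain ⟨b, hb⟩ := Groth.Agent.S4120.result S G' T' T₂ i' i₂ hi' hi₂.2.2.1
      (fun X t r => (hcomm' X r t).symm)
    have hba : b ≫ a = 𝟙 _ := by rw [← cancel_mono i₂, Category.assoc, ha, hb, Category.id_comp]
    have hab : a ≫ b = 𝟙 _ := by rw [← cancel_mono i', Category.assoc, hb, ha, Category.id_comp]
    have hbi : IsIso b := ⟨a, hba, hab⟩
    have hbl : IsIso b.left := inferInstanceAs (IsIso ((Over.forget _).map b))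
    have hbm : IsMonHom b := by
      have : IsMonHom (b ≫ i') := by rw [hb]; infer_instance
      exact Groth.Agent.Sga3B.MaxTorusCrit.isMonHom_of_comp_mono b i'
    refine ⟨T, inferInstance, i, v₂ ≫ b, hi, inferInstance, ?_, ?_, ?_⟩
    · rw [Category.assoc, hb, hv₂]
    · rw [Over.comp_left]; infer_instance
    · rw [Over.comp_left]; infer_instance
  · intro T₁ T₂ T' _ _ _ i₁ i₂ i' v₁ v₂ h₁ h₂ h' e₁ e₂ _ _
    have := h'.1
    exact K17.TorusLift.exists_iso u hq i₁ i₂ h₁ h₂ i' h'.2.2.1 v₁ v₂ e₁ e₂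

end Groth.Agent.S8429
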