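import Groth.Statements.S8390
-- import your own Groth.Agent.* helpers here
import Groth.Agent.SGA3x.K197.RatAll
import Groth.Agent.SGA3x.K646.RatStab
import Groth.Agent.SGA3x.K796.Split
import Groth.Agent.SGA3x.K916.TrivTor

set_option autoImplicit false
universe u
open CategoryTheory MonoidalCategory CartesianMonoidalCategory MonObj GrpObj AlgebraicGeometry
open SGA3x

namespace Groth.Agent.S8390

/-- Let G be a smooth algebraic group (smooth and of finite type) over an infinite field k, and 𝒯 a
k-scheme representing the functor of maximal tori of G (isomorphic to the scheme of Cartan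
subgroups). Then 𝒯 is a rational variety over k: some nonempty open subscheme of 𝒯 is k-isomorphic
to an open subscheme of an affine space 𝔸ⁿ over k. (The published statement covers every field; this
row assumes k infinite.) -/
theorem result (k : Type u) [Field k] [Infinite k]
    (G : Over (Spec (CommRingCat.of k))) [GrpObj G] [Smooth G.hom] [QuasiCompact G.hom]
    (𝒯 : Over (Spec (CommRingCat.of k))) (Tu : Over 𝒯.left) [GrpObj Tu] (iu : Tu ⟶ Red.bc 𝒯.hom G)
    (h𝒯 : SGA3x.RepresentsMaxTori G 𝒯 Tu iu) :
    ∃ (n : ℕ) (U : 𝒯.left.Opens) (V : (AffineSpace (ULift.{u} (Fin n)) (Spec (CommRingCat.of k))).Opens) (e : (U : Scheme.{u}) ≅ (V : Scheme.{u})),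
      (U : Set ↥𝒯.left).Nonempty ∧
      e.hom ≫ V.ι ≫ (AffineSpace (ULift.{u} (Fin n)) (Spec (CommRingCat.of k)) ↘ (Spec (CommRingCat.of k))) = U.ι ≫ 𝒯.hom := by
  exact K197.Rat.all K646.RatStab.main K796.Split.main K916.TrivTor.main k G 𝒯 Tu iu h𝒯

end Groth.Agent.S8390
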