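import Groth.Statements.S8391
import Groth.Agent.SGA3x.K20.CartDenseK
import Groth.Agent.S8390

set_option autoImplicit false
universe u
open CategoryTheory MonoidalCategory CartesianMonoidalCategory MonObj GrpObj AlgebraicGeometry
open SGA3x

namespace Groth.Agent.S8391

/-- Let G be a connected smooth algebraic group (smooth and of finite type) over an infinite field k.
Then the union of the Cartan subgroups of G is dense in G: every nonempty open subset of the
underlying space of G meets the image of some Cartan subgroup C → G. (The published statement does
not assume G connected; for the semidirect product of the multiplicative group by the group of order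
two acting by inversion, every Cartan subgroup is the neutral component, so the other component is a
nonempty open subset meeting none of them; this row assumes G connected, the case its proof treats.) -/
theorem result (k : Type u) [Field k] [Infinite k]
    (G : Over (Spec (CommRingCat.of k))) [GrpObj G] [Smooth G.hom] [QuasiCompact G.hom]
    [ConnectedSpace ↥G.left] (U : G.left.Opens) (hU : (U : Set ↥G.left).Nonempty) :
    ∃ (C : Over (Spec (CommRingCat.of k))) (_ : GrpObj C) (c : C ⟶ G), SGA3x.IsCartan c ∧
      (Set.range c.left.base ∩ (U : Set ↥G.left)).Nonempty := by
  exact K20.CartDenseK.exists_cartan G (fun 𝒯 Tu _ iu h𝒯 _ W hWo hW =>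
    K20.TorPt.exists_point h𝒯 (Groth.Agent.S8390.result k G 𝒯 Tu iu h𝒯) W hWo hW) U U.isOpen hU

end Groth.Agent.S8391
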