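import Groth.Statements.S8394
import Groth.Agent.SGA3t2b.K796.BorPart
import Groth.Agent.Sga3B.TorusAlgClosed

set_option autoImplicit false
universe u
open CategoryTheory MonoidalCategory CartesianMonoidalCategory MonObj GrpObj AlgebraicGeometry
open SGA3t2b

namespace Groth.Agent.S8394

/-- Let G be a semisimple group over an algebraically closed field k which is adjoint (its centre is the
trivial subgroup scheme), T a maximal torus of G, and L a Lie algebra over k modelling Lie(G)(k).
Then the Lie algebra of T is a Cartan subalgebra of the Lie algebra of G: the image of Lie(T)(k) in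
L is a Lie subalgebra which is nilpotent and self-normalizing and whose dimension equals the
nilpotent rank of L. (The published statement, over any base and for a smooth group with adjoint
semisimple geometric fibres, identifies the subgroups of type (C) with the maximal tori, which are
also the Cartan subgroups; this row states the case of an algebraically closed field in the form
that the Lie algebra of a maximal torus is a Cartan subalgebra of dimension equal to the nilpotent
rank.) -/
theorem result (k : Type u) [Field k] [IsAlgClosed k]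
    (G : Over (Spec (CommRingCat.of k))) [GrpObj G] (hG : Red.IsSemisimple G)
    (hadj : ∀ (Z : Over (Spec (CommRingCat.of k))) [GrpObj Z] (j : Z ⟶ G), Red.IsCentre j → Red.IsTrivialGrp Z)
    (T : Over (Spec (CommRingCat.of k))) [GrpObj T] (i : T ⟶ G) [IsMonHom i] (hT : Red.IsMaximalTorus i)
    (L : Type u) [LieRing L] [LieAlgebra k L] [Module.Finite k L] (m : LieS.Model G k (Spec.map (CommRingCat.ofHom (algebraMap k k))) L) :
    ∃ H : LieSubalgebra k L,
      (H : Set L) = {x | ∃ w : ↥(LieS.LieR T k), m.e (Multiplicative.ofAdd x) = LieS.map k (Spec.map (CommRingCat.ofHom (algebraMap k k))) i w} ∧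
      H.IsCartanSubalgebra ∧ Module.finrank k H = LieAlgebra.rank k L := by
  classical
  have hred : Red.IsReductive G := ⟨hG.1, hG.2.1, fun s => (hG.2.2 s).1⟩
  have hmono : Mono i := hT.2.1
  obtain ⟨r, hM⟩ := Groth.Agent.Sga3B.TorusAlgClosed.exists_isSplitTorusWith hT.2.2.1
  obtain ⟨D, τ, hτ, hr⟩ := K929.LieRoot.exists_split hred i hT hM
  obtain ⟨c⟩ := K929.LieRoot.exists_chart' D
  let Dc := (K796.LieMod.ofModel c m).dec (c.datum D) (c.good848 D)
  have hspan := K796.Adj.span_eq_top hadj D
  obtain ⟨f₀, hf₀⟩ := K796.Adj.exists_regular D.P k hspan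
  refine ⟨Dc.H, ?_, Dc.isCartanSubalgebra f₀ hf₀, ?_⟩
  · ext x
    exact ((K796.LieMod.ofModel c m).mem_dec_H (c.datum D) (c.good848 D) x).trans
      (K796.TorusPart.mem_iff c m D i τ hτ x).symm
  · rw [Dc.finrank_H, Dc.rank_eq f₀ hf₀ (K796.BorPart.dvd_all m D)]

end Groth.Agent.S8394
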