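import Groth.Statements.S8402
import Groth.Agent.S5259
import Groth.Agent.Sga3C.GrpIrr
import Groth.Agent.Sga3.H804.MtMain
import Groth.Agent.Sga3.H804.FinTC
import Groth.Agent.SGA3x.K15.CentGlob

set_option autoImplicit false
universe u
open CategoryTheory MonoidalCategory CartesianMonoidalCategory MonObj GrpObj AlgebraicGeometry
open SGA3x

namespace Groth.Agent.S8402

/-- Let G be an S-group scheme, smooth and affine over S with connected fibres, of unipotent rank zero
(in each geometric fibre the Cartan subgroups are the maximal tori). Then the centre of G coincides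
with its reductive centre; in particular the centre of G is represented by a subgroup scheme of
multiplicative type, which is a reductive centre of G. -/
theorem result (S : Scheme.{u}) (G : Over S) [GrpObj G]
    [Smooth G.hom] [IsAffineHom G.hom] (hconn : ∀ s : S, _root_.IsConnected (G.hom.base ⁻¹' {s})) (h0 : SGA3x.UnipotentRankZero G) :
    ∃ (Z : Over S) (_ : GrpObj Z) (z : Z ⟶ G), Red.IsCentre z ∧ (IsMonHom z ∧ Mono z ∧ SGA3x.IsMultTypeFT Z ∧
      (∀ (X : Over S) (x : X ⟶ Z) (g : X ⟶ G), (x ≫ z) * g = g * (x ≫ z)) ∧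
      ∀ (S' : Scheme.{u}) (f : S' ⟶ S) (H : Over S') [GrpObj H] (v : H ⟶ Red.bc f G) [IsMonHom v],
        SGA3x.IsMultTypeFT H →
        (∀ (X : Over S') (x : X ⟶ H) (g : X ⟶ Red.bc f G), (x ≫ v) * g = g * (x ≫ v)) →
        ∃ w : H ⟶ Red.bc f Z, w ≫ (Over.pullback f).map z = v) := by
  have hconn' : ∀ s : S, ConnectedSpace ↥(Limits.pullback G.hom (S.fromSpecResidueField s)) := fun s => by
    have h1 : ConnectedSpace ↥(G.hom.base ⁻¹' {s}) := isConnected_iff_connectedSpace.1 (hconn s)
    exact (G.hom.fiberHomeo s).symm.surjective.connectedSpace (G.hom.fiberHomeo s).symm.continuous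
  have h1 : IsMonHom (𝟙 G) := inferInstance
  obtain ⟨Z, _, z, hz, -, -⟩ := Groth.Agent.S5259.result G G hconn' (𝟙 G)
  have hirr : GeometricallyIrreducible G.hom := by
    let i1 : GrpObj (Over.mk G.hom) := ‹GrpObj G›
    exact Groth.Agent.Sga3C.GrpIrr.geometricallyIrreducible_of_connected_fibres G.hom hconn
  have hz' : Red.IsCentre z := hz
  refine ⟨Z, inferInstance, z, hz, hz.1, hz.2.1, ?_, ?_, ?_⟩
  · exact K15.CentGlob.isMultTypeFT_centre h0
      (Groth.Agent.Sga3.H804.MtMain.hasMaxTorusEtaleLocally Groth.Agent.Sga3.H804.FinTC.torusCrit G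
        (fun F _ t => isAffine_of_isAffineHom (Limits.pullback.snd G.hom t)) h0) z hz'
  · intro X x g
    have h2 := (hz.2.2 X (x ≫ z)).1 ⟨x, rfl⟩ X (𝟙 X) g
    rwa [Category.id_comp, Category.comp_id] at h2
  · intro S' f H _ v _ _ hv
    exact K15.CentGlob.exists_lift_centre hz' f v hv

end Groth.Agent.S8402
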