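import Groth.Statements.S8403
import Groth.Agent.SGA3x.K15.CentUniq
import Groth.Agent.Sga3.H784.Conj
import Groth.Agent.Sga3.H784.Exist
import Groth.Agent.Sga3B.SplitBc264
import Groth.Agent.Sga3B.DimFib

set_option autoImplicit false
universe u
open CategoryTheory MonoidalCategory CartesianMonoidalCategory MonObj GrpObj AlgebraicGeometry
open SGA3x

namespace Groth.Agent.S8403

open Groth.Agent.Sga3.H784.Conj Groth.Agent.Sga3B in
/-- Let G be an affine smooth algebraic group over a field k, T a torus in G and C its centralizer. Then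
the nilpotent rank of G (the dimension of the Cartan subgroups of G over an algebraic closure of k)
is at most dim C. -/
theorem result (k : Type u) [Field k]
    (G : Over (Spec (CommRingCat.of k))) [GrpObj G] [Smooth G.hom] [QuasiCompact G.hom] [IsAffine G.left]
    (T : Over (Spec (CommRingCat.of k))) [GrpObj T] (j : T ⟶ G) [IsMonHom j] [Mono j] (hT : Red.IsTorus T)
    (C : Over (Spec (CommRingCat.of k))) [GrpObj C] (c : C ⟶ G) (hC : Red.IsCentralizerOf j c)
    (s : ↥(Spec (CommRingCat.of k))) (C' : Over (Spec (CommRingCat.of (AlgebraicClosure ((Spec (CommRingCat.of k)).residueField s))))) [GrpObj C']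
    (c' : C' ⟶ Red.geomFibre s G) (hC' : SGA3x.IsCartanOver (AlgebraicClosure ((Spec (CommRingCat.of k)).residueField s)) c') :
    topologicalKrullDim ↥C'.left ≤ topologicalKrullDim ↥C.left := by
  obtain ⟨hm', hmono', T₂, _, i₂, hi₂, hc₂⟩ := hC'
  have hsepG : IsSeparated G.hom := Groth.Agent.Localalg.GrpSchComp2.isSeparated_hom G
  have hi₂m := hi₂.1
  have hTK : Red.IsTorus (Red.geomFibre s T) := TorusBc.isTorus_bc (Red.geomPt s) hT
  have hsG : Smooth (Red.geomFibre s G).hom := inferInstanceAs (Smooth (Limits.pullback.snd _ _))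
  have hsepGK : IsSeparated (Red.geomFibre s G).hom := inferInstanceAs (IsSeparated (Limits.pullback.snd _ _))
  have hqcGK : QuasiCompact (Red.geomFibre s G).hom := inferInstanceAs (QuasiCompact (Limits.pullback.snd _ _))
  have hlft1 : LocallyOfFiniteType ((Over.pullback (Red.geomPt s)).obj G).hom :=
    inferInstanceAs (LocallyOfFiniteType (Limits.pullback.snd _ _))
  obtain ⟨T₁, _, i₁, f, hi₁, hf⟩ := Groth.Agent.Sga3.H784.Exist.exists_isMaximalTorus_of_torus
    ((Over.pullback (Red.geomPt s)).map j) hTK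
  obtain ⟨g, φ, hφ⟩ := exists_conjBy i₂ i₁ hi₂ hi₁
  have hCK := SplitBc264.isCentralizerOf_bc (Red.geomPt s) hC
  obtain ⟨m, hm⟩ := (hCK.2.2 C' (c' ≫ (conjIso g).hom)).2 fun X x t => by
    have h1 : t ≫ (Over.pullback (Red.geomPt s)).map j =
        ((t ≫ f ≫ φ.inv) ≫ i₂) ≫ (conjIso g).hom := by
      rw [Category.assoc, comp_conjIso_hom, hφ, Category.assoc, Category.assoc, Iso.inv_hom_id_assoc, hf]
    have h2 := (hc₂.2.2 C' c').1 ⟨𝟙 _, Category.id_comp _⟩ X x (t ≫ f ≫ φ.inv)
    rw [h1, ← Category.assoc x, ← MonObj.mul_comp, ← MonObj.mul_comp, h2]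
  obtain ⟨-, hcl', -⟩ := K15.CentUniq.smooth_and_closed hi₂.2.2.1 hc₂
  obtain ⟨hsC, hclC, -⟩ := K15.CentUniq.smooth_and_closed hT hC
  have hclCK : IsClosedImmersion ((Over.pullback (Red.geomPt s)).map c).left := by
    obtain ⟨-, h, -⟩ := K15.CentUniq.smooth_and_closed (i := (Over.pullback (Red.geomPt s)).map j) hTK hCK
    exact h
  have hconj : IsIso (conjIso g).hom.left := inferInstanceAs (IsIso ((Over.forget _).map (conjIso g).hom))
  have hmc : IsClosedImmersion (m.left ≫ ((Over.pullback (Red.geomPt s)).map c).left) := by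
    rw [← Over.comp_left, hm, Over.comp_left]
    infer_instance
  have hmcl : IsClosedImmersion m.left :=
    IsClosedImmersion.of_comp m.left ((Over.pullback (Red.geomPt s)).map c).left
  have h3 : topologicalKrullDim ↥C'.left ≤ topologicalKrullDim ↥(Red.geomFibre s C).left :=
    m.left.isClosedEmbedding.isInducing.topologicalKrullDim_le
  refine h3.trans ?_
  rw [DimFib.topologicalKrullDim_geomFibre]
  exact Topology.IsInducing.subtypeVal.topologicalKrullDim_le

end Groth.Agent.S8403
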