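import Groth.Statements.S8405
import Groth.Agent.S3027
import Groth.Agent.RedSub.H650.QuotPts

set_option autoImplicit false
universe u
open CategoryTheory MonoidalCategory CartesianMonoidalCategory MonObj GrpObj AlgebraicGeometry
open SGA3x

namespace Groth.Agent.S8405

/-- Let G be a connected algebraic group (a group scheme of finite type) over a field k, z : Z → G the
centre of G and q : G → Q a morphism representing the fppf quotient G/Z. Then Q is an affine scheme.
(The published statement allows any subgroup of finite index in the centre; this row takes Z to be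
the centre itself.) -/
theorem result (k : Type u) [Field k]
    (G : Over (Spec (CommRingCat.of k))) [GrpObj G] [QuasiCompact G.hom] [LocallyOfFiniteType G.hom] [ConnectedSpace ↥G.left]
    (Z : Over (Spec (CommRingCat.of k))) [GrpObj Z] (z : Z ⟶ G) (hZ : Red.IsCentre z)
    (Q : Over (Spec (CommRingCat.of k))) (q : G ⟶ Q) (hq : RedSub.IsQuotient z q) : IsAffine Q.left := by
  obtain ⟨Z₀, _, i₀, hi₀, hcl₀, hcen₀, Q₀, _, q₀, hq₀, haff, hlft, hfl, hsurj, hker⟩ := S3027.result k G
  have hzm := hZ.1
  have hmono := hZ.2.1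
  have hi₀q : i₀ ≫ q₀ = 1 := hker.w
  have pt : RedSub.H650.QuotPts.PtQuot z q₀ := by
    intro T a b
    constructor
    · intro hab
      have h1 : (a⁻¹ * b) ≫ q₀ = 1 := by
        rw [MonObj.mul_comp, GrpObj.inv_comp, hab, inv_mul_cancel]
      have h2 : (a⁻¹ * b) ≫ q₀ = toUnit T ≫ η[Q₀] := h1
      have h3 := (hcen₀ T (a⁻¹ * b)).1 ⟨IsPullback.lift hker _ (toUnit T) h2, IsPullback.lift_fst _ _ _ _⟩
      obtain ⟨y, hy⟩ := (hZ.2.2 T (a⁻¹ * b)).2 fun X' x h => by
        rw [Category.comp_id]
        exact h3 X' x h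
      exact ⟨y, by rw [hy, mul_inv_cancel_left]⟩
    · rintro ⟨y, rfl⟩
      obtain ⟨w, hw⟩ := (hcen₀ T (y ≫ z)).2 fun X' x h => by
        have h4 := (hZ.2.2 T (y ≫ z)).1 ⟨y, rfl⟩ X' x h
        rwa [Category.comp_id] at h4
      rw [MonObj.mul_comp, ← hw, Category.assoc, hi₀q, MonObj.comp_one]
      exact (_root_.mul_one _).symm
  have hn : IsLocallyNoetherian Q₀.left := LocallyOfFiniteType.isLocallyNoetherian Q₀.hom
  have hlft' : LocallyOfFiniteType (q₀.left ≫ Q₀.hom) := by
    rw [Over.w]
    infer_instance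
  have hlft₀ : LocallyOfFiniteType q₀.left := locallyOfFiniteType_of_comp q₀.left Q₀.hom
  have hquot : RedSub.IsQuotient z q₀ :=
    ⟨hsurj, hfl, inferInstance, RedSub.H650.QuotPts.isPullback_of_ptQuot pt⟩
  obtain ⟨e, he⟩ := RedSub.H650.QuotPts.exists_iso hq hquot
  have : IsIso e.hom.left := inferInstanceAs (IsIso ((Over.forget _).map e.hom))
  exact IsAffine.of_isIso e.hom.left

end Groth.Agent.S8405
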