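import Groth.Statements.S8407
import Groth.Agent.Sga3.H831.CartFacts

set_option autoImplicit false
universe u
open CategoryTheory MonoidalCategory CartesianMonoidalCategory MonObj GrpObj AlgebraicGeometry
open SGA3x

namespace Groth.Agent.S8407

/-- Let G be a smooth connected algebraic group (not necessarily affine) over an algebraically closed
field k, T a torus in G and C its centralizer. Then C is smooth and connected. -/
theorem result (k : Type u) [Field k] [IsAlgClosed k]
    (G : Over (Spec (CommRingCat.of k))) [GrpObj G] [Smooth G.hom] [QuasiCompact G.hom] [ConnectedSpace ↥G.left]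
    (T : Over (Spec (CommRingCat.of k))) [GrpObj T] (j : T ⟶ G) [IsMonHom j] [Mono j] (hT : Red.IsTorus T)
    (C : Over (Spec (CommRingCat.of k))) [GrpObj C] (c : C ⟶ G) (hC : Red.IsCentralizerOf j c) :
    Smooth C.hom ∧ ConnectedSpace ↥C.left := by
  have hsep : IsSeparated G.hom := Groth.Agent.Localalg.GrpSchComp2.isSeparated_hom G
  refine ⟨?_, Groth.Agent.Sga3.H831.CartFacts.connectedSpace_centralizer j hT hC⟩
  obtain ⟨Z, _, z, hz, hcl, hsm, -⟩ := Groth.Agent.Sga3.H798.CentSep.exists_smooth_centralizer j hT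
  have hcm := hC.2.1
  have hzm := hz.2.1
  obtain ⟨a, ha⟩ : ∃ a : C ⟶ Z, a ≫ z = c :=
    (hz.2.2 C c).2 fun X' x t => (hC.2.2 C c).1 ⟨𝟙 C, Category.id_comp _⟩ X' x t
  obtain ⟨b, hb⟩ : ∃ b : Z ⟶ C, b ≫ c = z :=
    (hC.2.2 Z z).2 fun X' x t => (hz.2.2 Z z).1 ⟨𝟙 Z, Category.id_comp _⟩ X' x t
  have h1 : a ≫ b = 𝟙 C := by rw [← cancel_mono c, Category.assoc, hb, ha, Category.id_comp]
  have h2 : b ≫ a = 𝟙 Z := by rw [← cancel_mono z, Category.assoc, ha, hb, Category.id_comp]
  have h3 : IsIso a := ⟨b, h1, h2⟩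
  have h4 : IsIso a.left := inferInstanceAs (IsIso ((Over.forget _).map a))
  rw [← Over.w a]
  infer_instance

end Groth.Agent.S8407
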