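import Groth.Statements.S8409
import Groth.Agent.SGA3x.K15.NilpGrp
import Groth.Agent.Sga3.H784.Conj

set_option autoImplicit false
universe u
open CategoryTheory MonoidalCategory CartesianMonoidalCategory MonObj GrpObj AlgebraicGeometry
open SGA3x

namespace Groth.Agent.S8409

/-- Let G be a smooth connected algebraic group (not necessarily affine) over an algebraically closed
field k. Then G is nilpotent (the group G(k) is nilpotent) if and only if every torus in G is
central, if and only if G has only one maximal torus. (The published statement adds that the unique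
maximal torus is then the largest subtorus of G; this row omits that clause.) -/
theorem result (k : Type u) [Field k] [IsAlgClosed k]
    (G : Over (Spec (CommRingCat.of k))) [GrpObj G] [Smooth G.hom] [QuasiCompact G.hom] [ConnectedSpace ↥G.left] :
    (Group.IsNilpotent (𝟙_ (Over (Spec (CommRingCat.of k))) ⟶ G) ↔
      ∀ (T : Over (Spec (CommRingCat.of k))) [GrpObj T] (j : T ⟶ G) [IsMonHom j] [Mono j], Red.IsTorus T →
        ∀ (X : Over (Spec (CommRingCat.of k))) (t : X ⟶ T) (g : X ⟶ G), (t ≫ j) * g = g * (t ≫ j)) ∧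
    (Group.IsNilpotent (𝟙_ (Over (Spec (CommRingCat.of k))) ⟶ G) ↔
      ∀ (T₁ T₂ : Over (Spec (CommRingCat.of k))) [GrpObj T₁] [GrpObj T₂] (i₁ : T₁ ⟶ G) (i₂ : T₂ ⟶ G),
        Red.IsMaximalTorus i₁ → Red.IsMaximalTorus i₂ → ∃ φ : T₁ ≅ T₂, φ.hom ≫ i₂ = i₁) := by
  refine ⟨⟨fun hn T _ j _ _ hT X t g => K15.NilpGrp.central_of_nilpotent hn j hT t g, fun h => ?_⟩,
    fun hn T₁ T₂ _ _ i₁ i₂ h₁ h₂ => ?_, fun h => K15.NilpGrp.nilpotent_of_unique h⟩
  · refine K15.NilpGrp.nilpotent_of_central fun T _ i hi t g => ?_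
    have h1 := hi.1
    have h2 := hi.2.1
    exact h T i hi.2.2.1 _ t g
  · have h1 := h₁.1
    have h2 := h₁.2.1
    exact Groth.Agent.Sga3.H784.Conj.exists_iso_of_commute i₁ i₂ h₁ h₂ fun t r =>
      K15.NilpGrp.central_of_nilpotent hn i₁ h₁.2.2.1 t (r ≫ i₂)

end Groth.Agent.S8409
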