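import Groth.Statements.S8411
import Groth.Agent.SGA3x.K15.CartOpen
import Groth.Agent.S4117

set_option autoImplicit false
universe u
open CategoryTheory MonoidalCategory CartesianMonoidalCategory MonObj GrpObj AlgebraicGeometry
open SGA3x

namespace Groth.Agent.S8411

/-- Let G be an S-group scheme, smooth, separated and of finite type over S with connected fibres,
admitting a maximal torus locally for the fpqc topology; let C be a closed subgroup scheme of G,
smooth over S with connected fibres, and s ∈ S such that the geometric fibre C_s̄ is a Cartan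
subgroup of G_s̄. Then C restricted to some open neighbourhood U of s is a Cartan subgroup of G
restricted to U. (The published statement allows any closed smooth subgroup scheme C and concludes
for its neutral component C⁰; this row assumes that C has connected fibres, so that C⁰ = C.) -/
theorem result (S : Scheme.{u}) (G : Over S) [GrpObj G]
    [Smooth G.hom] [IsSeparated G.hom] [QuasiCompact G.hom] (hconn : ∀ s : S, _root_.IsConnected (G.hom.base ⁻¹' {s}))
    (hG : SGA3x.HasMaxTorusFpqcLocally G)
    (C : Over S) [GrpObj C] (c : C ⟶ G) [IsMonHom c] (hc : IsClosedImmersion c.left) [Smooth C.hom]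
    (hCconn : ∀ s : S, _root_.IsConnected (C.hom.base ⁻¹' {s})) (s : S)
    (hs : SGA3x.IsCartanOver (AlgebraicClosure (S.residueField s)) ((Over.pullback (Red.geomPt s)).map c)) :
    ∃ U : S.Opens, s ∈ U ∧ SGA3x.IsCartan ((Over.pullback U.ι).map c) := by
  have hcm : Mono c := Over.mono_of_mono_left c
  let i1 : GrpObj (Over.mk G.hom) := ‹GrpObj G›
  let i2 : GrpObj (Over.mk C.hom) := ‹GrpObj C›
  have hGirr : GeometricallyIrreducible G.hom :=
    Groth.Agent.Sga3C.GrpIrr.geometricallyIrreducible_of_connected_fibres G.hom hconn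
  have hCirr : GeometricallyIrreducible C.hom :=
    Groth.Agent.Sga3C.GrpIrr.geometricallyIrreducible_of_connected_fibres C.hom hCconn
  obtain ⟨S', f, hf, hsurj, T, _, i, hi⟩ := Groth.Agent.S4117.result S G hG
  obtain ⟨s', rfl⟩ := hsurj.surj s
  obtain ⟨θ, hθ, hh⟩ := Groth.Agent.Sga3B.ResAlg.exists_iso_geomPt f s'
  let x : Spec (CommRingCat.of (AlgebraicClosure (S.residueField (f s')))) ⟶ S' := inv θ ≫ Red.geomPt s'
  have hx : x ≫ f = Red.geomPt (f s') := by
    rw [Category.assoc, ← hh, IsIso.inv_hom_id_assoc]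
  have hG1 : Smooth (Red.bc f G).hom := inferInstanceAs (Smooth (Limits.pullback.snd _ _))
  have hG2 : IsSeparated (Red.bc f G).hom := inferInstanceAs (IsSeparated (Limits.pullback.snd _ _))
  have hG3 : QuasiCompact (Red.bc f G).hom := inferInstanceAs (QuasiCompact (Limits.pullback.snd _ _))
  have hG4 : GeometricallyIrreducible (Red.bc f G).hom :=
    inferInstanceAs (GeometricallyIrreducible (Limits.pullback.snd _ _))
  have hC1 : Smooth (Red.bc f C).hom := inferInstanceAs (Smooth (Limits.pullback.snd _ _))
  have hC4 : GeometricallyIrreducible (Red.bc f C).hom :=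
    inferInstanceAs (GeometricallyIrreducible (Limits.pullback.snd _ _))
  have hc1 : IsClosedImmersion ((Over.pullback f).map c).left :=
    MorphismProperty.of_isPullback (Groth.Agent.Sga3B.Parab.FibIsoSch.isPullback_map_left f c) inferInstance
  obtain ⟨V, hV1, hV2⟩ := K15.CartOpen.main ((Over.pullback f).map c) i hi x (by
    rw [← Groth.Agent.Sga3.H831.CartBc.isCartanOver_comp_iff, hx]
    exact hs)
  have hxs : x (IsLocalRing.closedPoint _) = s' := by
    change (inv θ ≫ Red.geomPt s') _ = s'
    rw [Scheme.Hom.comp_apply, Groth.Agent.Sga3.H831.CartBc.geomPt_apply]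
  let U : S.Opens := ⟨f '' V, f.isOpenMap _ V.2⟩
  refine ⟨U, ⟨s', by rw [← hxs]; exact hV1, rfl⟩, ?_⟩
  have hGU : Smooth ((Over.pullback U.ι).obj G).hom := inferInstanceAs (Smooth (Limits.pullback.snd _ _))
  have hCU : Smooth ((Over.pullback U.ι).obj C).hom := inferInstanceAs (Smooth (Limits.pullback.snd _ _))
  refine Groth.Agent.Sga3.H831.CartBc.isCartan_of_geom ((Over.pullback U.ι).map c) fun w => ?_
  obtain ⟨v, hv, hvw⟩ := w.2
  obtain ⟨L, _, _, y, hy1, hy2⟩ := hV2 v hv
  have hr : Set.range (y ≫ f) ⊆ Set.range U.ι := by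
    rintro _ ⟨z, rfl⟩
    rw [Scheme.Opens.range_ι, Subsingleton.elim (α := PrimeSpectrum _) z (IsLocalRing.closedPoint L),
      Scheme.Hom.comp_apply, hy1, hvw]
    exact w.2
  refine ⟨L, inferInstance, inferInstance, IsOpenImmersion.lift U.ι (y ≫ f) hr, ?_, ?_⟩
  · apply U.ι.injective
    rw [← Scheme.Hom.comp_apply, IsOpenImmersion.lift_fac, Scheme.Hom.comp_apply, hy1, hvw]
    rfl
  · rw [← Groth.Agent.Sga3.H831.CartBc.isCartanOver_comp_iff, IsOpenImmersion.lift_fac,
      Groth.Agent.Sga3.H831.CartBc.isCartanOver_comp_iff]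
    exact hy2

end Groth.Agent.S8411
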