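import Groth.Statements.S8419
import Groth.Agent.SGA3x.K16.CentAffine
-- import your own Groth.Agent.* helpers here

set_option autoImplicit false
universe u
open CategoryTheory MonoidalCategory CartesianMonoidalCategory MonObj GrpObj AlgebraicGeometry
open SGA3x

namespace K16.CentAffine

open Limits

/-- Affineness of a scheme over a field descends from an extension field. -/
theorem isAffine_of_bc {k K : Type u} [Field k] [Field K] (φ : CommRingCat.of k ⟶ CommRingCat.of K)
    (Q : Over (Spec (CommRingCat.of k))) (h : IsAffine ((Over.pullback (Spec.map φ)).obj Q).left) :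
    IsAffine Q.left := by
  have hsu : Surjective (Spec.map φ) := by
    refine ⟨fun x => ⟨IsLocalRing.closedPoint K, ?_⟩⟩
    have : Subsingleton (Spec (CommRingCat.of k)) := inferInstanceAs (Subsingleton (PrimeSpectrum k))
    exact Subsingleton.elim _ _
  have hfl : Flat (Spec.map φ) := by
    rw [HasRingHomProperty.Spec_iff (P := @Flat)]
    let _ : Algebra k K := φ.hom.toAlgebra
    change Module.Flat k K
    infer_instance
  have hqc : QuasiCompact (Spec.map φ) := inferInstance
  have hd := Groth.Agent.S0082.result.{u}
  have h1 : IsAffine (pullback Q.hom (Spec.map φ)) := h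
  have h2 : IsAffineHom (pullback.snd Q.hom (Spec.map φ)) := inferInstance
  have h3 : IsAffineHom Q.hom := MorphismProperty.of_isPullback_of_descendsAlong (P := @IsAffineHom)
    (Q := @Surjective ⊓ @Flat ⊓ @QuasiCompact) (IsPullback.of_hasPullback Q.hom (Spec.map φ)).flip
    ⟨⟨hsu, hfl⟩, hqc⟩ h2
  exact isAffine_of_isAffineHom Q.hom

end K16.CentAffine

namespace Groth.Agent.S8419

/-- Let G be a smooth affine algebraic group over a field k and H a subgroup of G of multiplicative type
(and of finite type), with centralizer C and normalizer N. Then the quotients G/C and G/N are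
affine: any k-scheme representing the fppf quotient of G by C (resp. by N) is affine. -/
theorem result (k : Type u) [Field k]
    (G : Over (Spec (CommRingCat.of k))) [GrpObj G] [Smooth G.hom] [QuasiCompact G.hom] [IsAffine G.left]
    (H : Over (Spec (CommRingCat.of k))) [GrpObj H] (h : H ⟶ G) [IsMonHom h] [Mono h] (hH : SGA3x.IsMultTypeFT H)
    (C N : Over (Spec (CommRingCat.of k))) [GrpObj C] [GrpObj N] (c : C ⟶ G) (n : N ⟶ G)
    (hC : Red.IsCentralizerOf h c) (hN : Red.IsNormalizerOf h n) :
    (∀ (Q : Over (Spec (CommRingCat.of k))) (q : G ⟶ Q), RedSub.IsQuotient c q → IsAffine Q.left) ∧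
    (∀ (Q : Over (Spec (CommRingCat.of k))) (q : G ⟶ Q), RedSub.IsQuotient n q → IsAffine Q.left) := by
  let K := AlgebraicClosure k
  let φ : CommRingCat.of k ⟶ CommRingCat.of K := CommRingCat.ofHom (algebraMap k K)
  let f : Spec (CommRingCat.of K) ⟶ Spec (CommRingCat.of k) := Spec.map φ
  have hG1 : Smooth ((Over.pullback f).obj G).hom := inferInstanceAs (Smooth (Limits.pullback.snd G.hom f))
  have hG2 : QuasiCompact ((Over.pullback f).obj G).hom :=
    inferInstanceAs (QuasiCompact (Limits.pullback.snd G.hom f))
  have hG3 : IsAffine ((Over.pullback f).obj G).left := by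
    have : IsAffineHom G.hom := inferInstance
    have : IsAffineHom (Limits.pullback.snd G.hom f) := inferInstance
    exact isAffine_of_isAffineHom (Limits.pullback.snd G.hom f)
  have hm : Mono ((Over.pullback f).map h) := inferInstance
  have hH' : SGA3x.IsMultTypeFT ((Over.pullback f).obj H) := K10.MTLoc.bc f hH
  have hC' : Red.IsCentralizerOf ((Over.pullback f).map h) ((Over.pullback f).map c) :=
    Groth.Agent.Sga3B.SplitBc264.isCentralizerOf_bc f hC
  have hN' : Red.IsNormalizerOf ((Over.pullback f).map h) ((Over.pullback f).map n) :=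
    K501.NormPts.isNormalizerOf_bc f hN
  have hc2 := hC.2.1
  have hn2 := hN.2.1
  refine ⟨fun Q q hq => ?_, fun Q q hq => ?_⟩
  · obtain ⟨W, p, hp, hW, -⟩ := K16.CentAffine.exists_quotient ((Over.pullback f).map h) hH' _ hC'
    obtain ⟨e, -⟩ := RedSub.H650.QuotPts.exists_iso (RedSub.H650.QuotPts.isQuotient_bc f hq) hp
    have h1 : IsIso e.hom.left := inferInstanceAs (IsIso ((Over.forget _).map e.hom))
    exact K16.CentAffine.isAffine_of_bc φ Q (IsAffine.of_isIso e.hom.left)
  · exact K16.CentAffine.isAffine_of_bc φ Q
      (K16.CentAffine.isAffine_norm ((Over.pullback f).map h) hH' _ hC' _ hN' _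
        (RedSub.H650.QuotPts.isQuotient_bc f hq))

end Groth.Agent.S8419
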