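import Groth.Statements.S8424
import Groth.Agent.SGA3x.K5.BorelSolv

set_option autoImplicit false
universe u
open CategoryTheory MonoidalCategory CartesianMonoidalCategory MonObj GrpObj AlgebraicGeometry
open SGA3x

namespace Groth.Agent.S8424

/-- Let G be a smooth algebraic group (not necessarily affine) over an algebraically closed field k, B a
Borel subgroup of G, C a Cartan subgroup of B and N the normalizer of C in G. Then N ∩ B = C: a
point of G with values in a k-scheme factors through N and through B if and only if it factors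
through C. -/
theorem result (k : Type u) [Field k] [IsAlgClosed k]
    (G : Over (Spec (CommRingCat.of k))) [GrpObj G] [Smooth G.hom] [QuasiCompact G.hom]
    (B : Over (Spec (CommRingCat.of k))) [GrpObj B] (b : B ⟶ G) (hB : Red.IsBorelOver k b)
    (C : Over (Spec (CommRingCat.of k))) [GrpObj C] (c : C ⟶ B) (hC : SGA3x.IsCartanOver k c)
    (N : Over (Spec (CommRingCat.of k))) [GrpObj N] (n : N ⟶ G) (hN : Red.IsNormalizerOf (c ≫ b) n)
    (X : Over (Spec (CommRingCat.of k))) (g : X ⟶ G) :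
    ((∃ x : X ⟶ N, x ≫ n = g) ∧ (∃ y : X ⟶ B, y ≫ b = g)) ↔ ∃ z : X ⟶ C, z ≫ c ≫ b = g := by
  obtain ⟨hb1, hb2, hb3, hb4, hb5, -⟩ := hB
  have hbm : Mono b := Groth.Agent.SGA3x.K5.BorelNA.mono_of_isClosedImmersion b
  have hbq : QuasiCompact B.hom := by rw [← Over.w b]; infer_instance
  have hc1 := hC.1
  constructor
  · rintro ⟨⟨x, hx⟩, ⟨y, rfl⟩⟩
    obtain ⟨z, rfl⟩ := Groth.Agent.SGA3x.K5.BorelSolv.exists_factor_of_norm_cartan hb5 c hC y
      (fun X' x' h => by
        obtain ⟨⟨h₁, e₁⟩, ⟨h₂, e₂⟩⟩ := (hN.2.2 X (y ≫ b)).1 ⟨x, hx⟩ X' x' h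
        refine ⟨⟨h₁, ?_⟩, ⟨h₂, ?_⟩⟩
        · rw [← cancel_mono b, MonObj.mul_comp, MonObj.mul_comp, GrpObj.inv_comp]
          simpa only [Category.assoc] using e₁
        · rw [← cancel_mono b, MonObj.mul_comp, MonObj.mul_comp, GrpObj.inv_comp]
          simpa only [Category.assoc] using e₂)
    exact ⟨z, by rw [Category.assoc]⟩
  · rintro ⟨z, rfl⟩
    refine ⟨(hN.2.2 X (z ≫ c ≫ b)).2 fun X' x' h => ⟨⟨(x' ≫ z) * h * (x' ≫ z)⁻¹, ?_⟩,
      ⟨(x' ≫ z)⁻¹ * h * (x' ≫ z), ?_⟩⟩, ⟨z ≫ c, by rw [Category.assoc]⟩⟩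
    · rw [MonObj.mul_comp, MonObj.mul_comp, GrpObj.inv_comp, Category.assoc]
    · rw [MonObj.mul_comp, MonObj.mul_comp, GrpObj.inv_comp, Category.assoc]

end Groth.Agent.S8424
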