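import Groth.Statements.S8425
import Groth.Agent.SGA3x.K5.BorelPt
import Groth.Agent.SGA3x.K16.PreimMain
import Groth.Agent.RedSub.H648.SelfNorm

set_option autoImplicit false
universe u
open CategoryTheory MonoidalCategory CartesianMonoidalCategory MonObj GrpObj AlgebraicGeometry
open SGA3x

namespace Groth.Agent.S8425

/-- Let G be an S-group scheme, smooth and of finite presentation over S with connected fibres, and b :
B → G a Borel subgroup: a subgroup scheme (a homomorphism which is an immersion), smooth and of
finite presentation over S, every geometric fibre of which is a Borel subgroup of the corresponding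
geometric fibre of G. Then B is its own normalizer, and B is a closed subscheme of G. -/
theorem result (S : Scheme.{u}) (G : Over S) [GrpObj G]
    [Smooth G.hom] [QuasiCompact G.hom] [QuasiSeparated G.hom] (hconn : ∀ s : S, _root_.IsConnected (G.hom.base ⁻¹' {s}))
    (B : Over S) [GrpObj B] (b : B ⟶ G) (hB : (IsMonHom b ∧ IsImmersion b.left ∧ Smooth B.hom ∧ QuasiCompact B.hom ∧
      ∀ s : S, Red.IsBorelOver (AlgebraicClosure (S.residueField s)) ((Over.pullback (Red.geomPt s)).map b))) :
    Red.IsNormalizerOf b b ∧ IsClosedImmersion b.left := by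
  obtain ⟨hb, himm, hsm, hqc, hBor⟩ := hB
  have h := Groth.Agent.RedSub.H648.SelfNorm.closed_and_selfNorm b ⟨hb, himm⟩ hsm hqc
    (fun s => _root_.K16.PreimMain.isConnected_of_geomFibre s (hBor s).2.2.2.1)
    (fun s => ⟨AlgebraicClosure (S.residueField s), inferInstance, Red.geomPt s,
      _root_.K16.PreimMain.geomPt_closedPoint s, by
        have h1 : Smooth (Red.geomFibre s G).hom := inferInstanceAs (Smooth (Limits.pullback.snd G.hom (Red.geomPt s)))
        have h2 : QuasiCompact (Red.geomFibre s G).hom :=
          inferInstanceAs (QuasiCompact (Limits.pullback.snd G.hom (Red.geomPt s)))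
        have h3 : ConnectedSpace (Red.geomFibre s G).left := _root_.K16.PreimMain.connectedSpace_geomFibre hconn s
        exact Groth.Agent.SGA3x.K5.BorelPt.isNormalizerOf_self _ (hBor s)⟩)
  exact ⟨h.2, h.1⟩

end Groth.Agent.S8425
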