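import Groth.Statements.S8426
import Groth.Agent.SGA3x.K17.SubLift
-- import your own Groth.Agent.* helpers here

set_option autoImplicit false
universe u
open CategoryTheory MonoidalCategory CartesianMonoidalCategory MonObj GrpObj AlgebraicGeometry
open SGA3x

namespace Groth.Agent.S8426

/-- Let S = Spec A be affine, S₀ = Spec(A/J) the closed subscheme defined by an ideal J of square zero,
G an S-group scheme and H₀ a subgroup scheme of G₀ = G ×_S S₀ (a monomorphic homomorphism H₀ → G₀
which is an immersion) which is smooth and of finite type over S₀ and of multiplicative type. Then G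
has a subgroup scheme of multiplicative type (again an immersion) lifting H₀ if and only if G has a
subscheme H′, flat over S, lifting H₀ (H′ ×_S S₀ = H₀ as subschemes of G₀). -/
theorem result (A : Type u) [CommRing A] (J : Ideal A) (hJ : J ^ 2 = ⊥)
    (G : Over (Spec (CommRingCat.of A))) [GrpObj G]
    (H₀ : Over (Spec (CommRingCat.of (A ⧸ J)))) [GrpObj H₀] (j₀ : H₀ ⟶ Red.bc (Spec.map (CommRingCat.ofHom (Ideal.Quotient.mk J))) G) [IsMonHom j₀] [Mono j₀]
    (hj₀ : IsImmersion j₀.left) [Smooth H₀.hom] [QuasiCompact H₀.hom] (hm₀ : SGA3x.IsMultTypeFT H₀) :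
    (∃ (H : Over (Spec (CommRingCat.of A))) (_ : GrpObj H) (j : H ⟶ G), IsMonHom j ∧ Mono j ∧ IsImmersion j.left ∧ SGA3x.IsMultTypeFT H ∧
      ∃ e : Red.bc (Spec.map (CommRingCat.ofHom (Ideal.Quotient.mk J))) H ≅ H₀, e.hom ≫ j₀ = (Over.pullback (Spec.map (CommRingCat.ofHom (Ideal.Quotient.mk J)))).map j) ↔
    (∃ (H' : Scheme.{u}) (h' : H' ⟶ G.left), IsImmersion h' ∧ Flat (h' ≫ G.hom) ∧
      ∃ e : Limits.pullback h' (Limits.pullback.fst G.hom (Spec.map (CommRingCat.ofHom (Ideal.Quotient.mk J)))) ≅ H₀.left,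
        e.hom ≫ j₀.left = Limits.pullback.snd h' (Limits.pullback.fst G.hom (Spec.map (CommRingCat.ofHom (Ideal.Quotient.mk J))))) := by
  let i := Spec.map (CommRingCat.ofHom (Ideal.Quotient.mk J))
  constructor
  · rintro ⟨H, _, j, hj, hmono, himm, hmt, e, he⟩
    have sq := Groth.Agent.Sga3B.Parab.FibIsoSch.isPullback_map_left i j
    have hw : j.left ≫ G.hom = H.hom := Over.w j
    have hfl : Flat (j.left ≫ G.hom) := by
      rw [hw]
      exact K10.MTLoc.flat hmt
    refine ⟨H.left, j.left, himm, hfl, sq.isoPullback.symm ≪≫ (Over.forget _).mapIso e, ?_⟩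
    have h1 : e.hom.left ≫ j₀.left = ((Over.pullback i).map j).left := by
      rw [← Over.comp_left, he]
    change (sq.isoPullback.inv ≫ e.hom.left) ≫ j₀.left = _
    rw [Category.assoc, h1, Iso.inv_comp_eq]
    exact (IsPullback.isoPullback_hom_snd _).symm
  · rintro ⟨H', h', himm, hfl, e, he⟩
    let Y : Over (Spec (CommRingCat.of A)) := Over.mk (h' ≫ G.hom)
    let y : Y ⟶ G := Over.homMk h'
    have sq := Groth.Agent.Sga3B.Parab.FibIsoSch.isPullback_map_left i y
    let θ : Limits.pullback Y.hom i ≅ Limits.pullback h' (Limits.pullback.fst G.hom i) := sq.isoPullback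
    have hθ : θ.hom ≫ Limits.pullback.snd h' (Limits.pullback.fst G.hom i) = ((Over.pullback i).map y).left :=
      IsPullback.isoPullback_hom_snd _
    have hY : Flat Y.hom := hfl
    have hθe : (θ.hom ≫ e.hom) ≫ j₀.left = ((Over.pullback i).map y).left := by
      exact (Category.assoc _ _ _).trans ((congrArg (fun k => θ.hom ≫ k) he).trans hθ)
    let e' : Red.bc i Y ≅ H₀ := Over.isoMk (θ ≪≫ e) (by
      change (θ.hom ≫ e.hom) ≫ H₀.hom = _
      rw [← Over.w j₀, ← Category.assoc, hθe]
      exact Over.w ((Over.pullback i).map y))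
    obtain ⟨H, _, j, h1, h2, h3, h4, -, ε, -, hε⟩ := K17.SubLift.exists_subgroup_lift hJ G H₀ j₀ hj₀ hm₀ Y y e' (by
      ext1
      exact hθe)
    exact ⟨H, inferInstance, j, h1, h2, h3, h4, ε, hε⟩

end Groth.Agent.S8426
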