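import Groth.Statements.S8427
import Groth.Agent.SGA3x.K17.Chart
import Groth.Agent.SGA3x.K17.TorsKer
import Groth.Agent.Sga3.H786.TCAff
import Groth.Agent.SGA3x.K18.MTDesc
import Groth.Agent.SGA3x.K13.MTLiftProps

set_option autoImplicit false
universe u
open CategoryTheory MonoidalCategory CartesianMonoidalCategory MonObj GrpObj AlgebraicGeometry
open SGA3x

namespace Groth.Agent.S8427

/-- Let S = Spec A be a Noetherian affine scheme, S₀ = Spec(A/J) with J an ideal of square zero, G an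
S-group scheme of finite type, T₀ a subtorus of G₀ = G ×_S S₀, and q an integer invertible on S with
q > 1 (the published statement writes q > 0; for q = 1 the family of powers of q is reduced to n = 1
and the hypothesis below holds for the unit section while the conclusion can fail, so this row
assumes q > 1). Suppose that for every n = q^k there is a subscheme Mₙ of G, flat over S, with Mₙ
×_S S₀ = ₙT₀ (the kernel of the n-th power map of T₀) as subschemes of G₀. Then there is a subtorus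
T of G with T ×_S S₀ = T₀. -/
theorem result (A : Type u) [CommRing A] [IsNoetherianRing A] (J : Ideal A)
    (hJ : J ^ 2 = ⊥) (G : Over (Spec (CommRingCat.of A))) [GrpObj G] [QuasiCompact G.hom] [LocallyOfFiniteType G.hom]
    (T₀ : Over (Spec (CommRingCat.of (A ⧸ J)))) [GrpObj T₀] (j₀ : T₀ ⟶ Red.bc (Spec.map (CommRingCat.ofHom (Ideal.Quotient.mk J))) G) [IsMonHom j₀] [Mono j₀] (ht₀ : Red.IsTorus T₀)
    (q : ℕ) (hq0 : 1 < q) (hq : IsUnit (q : A))
    (hM : ∀ (k : ℕ) (Mk : Over (Spec (CommRingCat.of (A ⧸ J)))) [GrpObj Mk] (mk : Mk ⟶ T₀), AlgGrp.IsKernel mk ((𝟙 T₀ : T₀ ⟶ T₀) ^ (q ^ k)) →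
      ∃ (M' : Scheme.{u}) (h' : M' ⟶ G.left), IsImmersion h' ∧ Flat (h' ≫ G.hom) ∧
        ∃ e : Limits.pullback h' (Limits.pullback.fst G.hom (Spec.map (CommRingCat.ofHom (Ideal.Quotient.mk J)))) ≅ Mk.left,
          e.hom ≫ (mk ≫ j₀).left = Limits.pullback.snd h' (Limits.pullback.fst G.hom (Spec.map (CommRingCat.ofHom (Ideal.Quotient.mk J))))) :
    ∃ (T : Over (Spec (CommRingCat.of A))) (_ : GrpObj T) (j : T ⟶ G), IsMonHom j ∧ Mono j ∧ Red.IsTorus T ∧
      ∃ e : Red.bc (Spec.map (CommRingCat.ofHom (Ideal.Quotient.mk J))) T ≅ T₀, e.hom ≫ j₀ = (Over.pullback (Spec.map (CommRingCat.ofHom (Ideal.Quotient.mk J)))).map j := by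
  let i := Spec.map (CommRingCat.ofHom (Ideal.Quotient.mk J))
  have hnil : ∀ x ∈ J, IsNilpotent x := fun x hx => ⟨2, by
    have h := Ideal.pow_mem_pow hx 2
    rwa [hJ, Ideal.mem_bot] at h⟩
  have hn : IsNilpotent J := ⟨2, hJ⟩
  obtain ⟨T, _, hTm, ⟨ε⟩⟩ := K13.MTLift.exists_lift J hnil T₀ (K18.MTDesc.isMultTypeFT_of_isTorus ht₀)
  have hfl : Flat T.hom := K10.MTLoc.flat hTm
  have hlfp : LocallyOfFinitePresentation T.hom := K10.MTLoc.locallyOfFinitePresentation hTm
  have haffh : IsAffineHom T.hom := K10.MTLoc.isAffineHom hTm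
  have hT : Red.IsTorus T := Sga3.H786.TCAff.isTorus_of_isAffineHom T fun s => by
    obtain ⟨p, hp⟩ := K13.MTLift.exists_factor_field hnil (Red.geomPt s)
    have h1 : Red.IsTorus (Red.bc p T₀) := Sga3B.TorusBc.isTorus_bc p ht₀
    exact Sga3B.TorusBc.isTorus_of_iso (Sga3B.BcIso.bcMapIso p ε.symm ≪≫
      (Sga3B.BcIso.bcCompIso p (K17.NilLift.cl J) T).symm ≪≫ Sga3B.BcIso.bcCongrIso hp T) h1
  have hmε : IsMonHom ε.hom.hom.hom := ε.hom.hom.isMonHom_hom
  let ε' : Red.bc i T ≅ T₀ := (Grp.forget _).mapIso ε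
  let φ : Red.bc i T ⟶ Red.bc i G := ε.hom.hom.hom ≫ j₀
  have hφ : IsMonHom φ := inferInstance
  have hqs : ∀ (k : ℕ) (s : Spec (CommRingCat.of A)), ((q ^ k : ℕ) : (Spec (CommRingCat.of A)).residueField s) ≠ 0 := by
    intro k s
    have h1 : IsUnit ((q ^ k : ℕ) : Γ(Spec (CommRingCat.of A), ⊤)) := by
      have := (hq.pow k).map (Scheme.ΓSpecIso (CommRingCat.of A)).inv.hom
      rwa [← Nat.cast_pow, map_natCast] at this
    have h2 := h1.map ((Spec (CommRingCat.of A)).evaluation ⊤ s trivial).hom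
    rw [map_natCast] at h2
    exact h2.ne_zero
  have Htors : ∀ (k : ℕ) (X : Over (Spec (CommRingCat.of A))) (t : X ⟶ T), t ^ (q ^ k) = 1 →
      K17.LiftP.Lif φ t := by
    intro k X t ht
    obtain ⟨L, _, ℓ, hℓ, hcl, hsm⟩ := K17.TorsKer.exists_tors_smooth T hT (q ^ k) (hqs k)
    obtain ⟨y, rfl⟩ := (hℓ.pts X t).2 ht
    refine K17.LiftP.Lif.comp φ ?_ y
    have hk := K17.TorsKer.isKernel_of_isTors ((hℓ.bc i).comp_iso ε)
    obtain ⟨M', h', himm, hfl', e, he⟩ := hM k (Red.bc i L) ((Over.pullback i).map ℓ ≫ ε.hom.hom.hom) hk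
    let Y : Over (Spec (CommRingCat.of A)) := Over.mk (h' ≫ G.hom)
    let y' : Y ⟶ G := Over.homMk h'
    have sq := Groth.Agent.Sga3B.Parab.FibIsoSch.isPullback_map_left i y'
    let θ : Limits.pullback Y.hom i ≅ Limits.pullback h' (Limits.pullback.fst G.hom i) := sq.isoPullback
    have hθ : θ.hom ≫ Limits.pullback.snd h' (Limits.pullback.fst G.hom i) = ((Over.pullback i).map y').left :=
      IsPullback.isoPullback_hom_snd _
    have hY : Flat Y.hom := hfl'
    have hθe : (θ.hom ≫ e.hom) ≫ (((Over.pullback i).map ℓ ≫ ε.hom.hom.hom) ≫ j₀).left = ((Over.pullback i).map y').left :=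
      (Category.assoc _ _ _).trans ((congrArg (fun k => θ.hom ≫ k) he).trans hθ)
    let e' : Red.bc i Y ≅ Red.bc i L := Over.isoMk (θ ≪≫ e) (by
      change (θ.hom ≫ e.hom) ≫ (Red.bc i L).hom = _
      rw [← Over.w (((Over.pullback i).map ℓ ≫ ε.hom.hom.hom) ≫ j₀), ← Category.assoc, hθe]
      exact Over.w ((Over.pullback i).map y'))
    have he' : e'.hom ≫ ((Over.pullback i).map ℓ ≫ ε.hom.hom.hom) ≫ j₀ = (Over.pullback i).map y' := by
      ext1
      exact hθe
    have haffT : IsAffine T.left := isAffine_of_isAffineHom T.hom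
    have haffL : IsAffine L.left := isAffine_of_isAffineHom ℓ.left
    obtain ⟨e'', he''⟩ := K17.SubLift.exists_iso_lift hJ (H := L) (Y := Y) e'
    refine ⟨e''.inv ≫ y', ?_⟩
    have h3 : (Over.pullback i).map e''.hom ≫ (Over.pullback i).map (e''.inv ≫ y') = (Over.pullback i).map y' := by
      rw [← Functor.map_comp, Iso.hom_inv_id_assoc]
    rw [he'', ← he', Category.assoc, cancel_epi] at h3
    exact h3
  obtain ⟨y, hy⟩ := K17.Chart.lif_id hJ hT φ hq0 hq Htors
  rw [CategoryTheory.Functor.map_id, Category.id_comp] at hy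
  obtain ⟨v, hv, hv'⟩ := K17.SubLift.exists_hom_bc hJ (K17.SubLift.isMT_of_isMultTypeFT hTm) y (by rw [hy]; exact hφ)
  rw [hy] at hv'
  have hw : v.left ≫ G.hom = T.hom := Over.w v
  have hft : LocallyOfFiniteType v.left := by
    have : LocallyOfFiniteType (v.left ≫ G.hom) := by rw [hw]; infer_instance
    exact locallyOfFiniteType_of_comp v.left G.hom
  have sq := Sga3B.Parab.FibIsoSch.isPullback_map_left i v
  have hft0 : LocallyOfFiniteType ((Over.pullback i).map v).left :=
    MorphismProperty.of_isPullback (P := @LocallyOfFiniteType) sq hft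
  have hG := (K17.NilLift.isThickening_fst hn G).1
  have hm0 : Mono ((Over.pullback i).map v).left := by
    have h4 : Mono ((Over.pullback i).map v) := by
      rw [hv']
      have : Mono ε'.hom := inferInstance
      exact mono_comp ε'.hom j₀
    exact inferInstanceAs (Mono ((Over.forget _).map ((Over.pullback i).map v)))
  have hm1 : Mono v.left := (S1315.result _ _ _ _ hG sq).1 hm0
  refine ⟨T, inferInstance, v, hv, (Over.forget _).mono_of_mono_map hm1, hT, ε', ?_⟩
  exact hv'.symm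

end Groth.Agent.S8427
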