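import Groth.Statements.S8428
import Groth.Agent.S4117
import Groth.Agent.S4147
import Groth.Agent.Sga3.H799.Bc
import Groth.Agent.SGA3x.K17.Surj
-- import your own Groth.Agent.* helpers here

set_option autoImplicit false
universe u
open CategoryTheory MonoidalCategory CartesianMonoidalCategory MonObj GrpObj AlgebraicGeometry
open SGA3x

namespace Groth.Agent.S8428

attribute [-instance] CategoryTheory.catToReflQuiver

/-- Let G and G′ be S-group schemes, smooth, separated and of finite type over S, G admitting a maximal
torus locally for the fpqc topology, and u : G → G′ a homomorphism which is surjective on every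
geometric fibre. Then G′ admits a maximal torus locally for the etale topology. -/
theorem result (S : Scheme.{u}) (G G' : Over S) [GrpObj G] [GrpObj G']
    [Smooth G.hom] [IsSeparated G.hom] [QuasiCompact G.hom] [Smooth G'.hom] [IsSeparated G'.hom] [QuasiCompact G'.hom]
    (hG : SGA3x.HasMaxTorusFpqcLocally G) (u : G ⟶ G') [IsMonHom u]
    (hu : ∀ s : S, Surjective ((Over.pullback (Red.geomPt s)).map u).left) :
    SGA3x.HasMaxTorusEtaleLocally G' := by
  obtain ⟨S', f, het, hsurj, T, _, i, hi⟩ := Groth.Agent.S4117.result S G hG
  have h1 : Smooth (Red.bc f G).hom := inferInstanceAs (Smooth (Limits.pullback.snd _ _))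
  have h2 : IsSeparated (Red.bc f G).hom := inferInstanceAs (IsSeparated (Limits.pullback.snd _ _))
  have h3 : QuasiCompact (Red.bc f G).hom := inferInstanceAs (QuasiCompact (Limits.pullback.snd _ _))
  have h4 : Smooth (Red.bc f G').hom := inferInstanceAs (Smooth (Limits.pullback.snd _ _))
  have h5 : IsSeparated (Red.bc f G').hom := inferInstanceAs (IsSeparated (Limits.pullback.snd _ _))
  have h6 : QuasiCompact (Red.bc f G').hom := inferInstanceAs (QuasiCompact (Limits.pullback.snd _ _))
  have hG' : SGA3x.HasMaxTorusFpqcLocally (Red.bc f G) := by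
    refine ⟨S', 𝟙 S', inferInstance, inferInstance, fun V hV => ⟨V, hV.isCompact, ?_⟩,
      Red.bc (𝟙 S') T, inferInstance, _, Groth.Agent.Sga3.H799.Bc.isMaximalTorus_bc (𝟙 S') hi⟩
    ext x
    simp
  obtain ⟨T', _, i', v, hi', -⟩ := Groth.Agent.S4147.result S' (Red.bc f G) (Red.bc f G') hG'
    ((Over.pullback f).map u) (K17.Surj.surjective_geomFibre_bc u hu f) T i hi
  exact ⟨S', f, het, hsurj, T', _, i', hi'⟩

end Groth.Agent.S8428
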