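import Groth.Statements.S8430
import Groth.Agent.S8414
import Groth.Agent.SGA3x.K17.CartPre
import Groth.Agent.SGA3x.K17.FlatHom
import Groth.Agent.SGA3x.K17.Surj
-- import your own Groth.Agent.* helpers here

set_option autoImplicit false
universe u
open CategoryTheory MonoidalCategory CartesianMonoidalCategory MonObj GrpObj AlgebraicGeometry
open SGA3x

namespace Groth.Agent.S8430

attribute [-instance] CategoryTheory.catToReflQuiver

/-- Let G, G′ be S-group schemes, smooth and of finite presentation over S, u : G → G′ a homomorphism
which is faithfully flat on every fibre, with Ker u central and G with connected fibres. Then for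
every subgroup scheme H′ of G′, smooth and of finite presentation over S and having the same
reductive and nilpotent ranks as G′ at every point (each geometric fibre contains a Cartan
subgroup), the inverse image H = u⁻¹(H′) is a subgroup scheme of G, smooth and of finite
presentation over S, with the same property relative to G; and H has connected fibres if and only if
H′ does. (The published statement also asserts that H′ ↦ u⁻¹(H′) is a bijection onto the subgroup
schemes of G that are smooth, of finite presentation and have the ranks of G everywhere; this row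
states only that u⁻¹(H′) is one of them.) -/
theorem result (S : Scheme.{u}) (G G' : Over S)
    [GrpObj G] [GrpObj G'] [Smooth G.hom] [QuasiCompact G.hom] [QuasiSeparated G.hom]
    [Smooth G'.hom] [QuasiCompact G'.hom] [QuasiSeparated G'.hom]
    (hconn : ∀ s : S, _root_.IsConnected (G.hom.base ⁻¹' {s}))
    (u : G ⟶ G') [IsMonHom u] (hu : ∀ s : S, Surjective ((Over.pullback (S.fromSpecResidueField s)).map u).left ∧
      Flat ((Over.pullback (S.fromSpecResidueField s)).map u).left)
    (hker : ∀ (X : Over S) (z : X ⟶ G), z ≫ u = 1 → ∀ (X' : Over S) (x : X' ⟶ X) (g : X' ⟶ G),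
      (x ≫ z) * g = g * (x ≫ z))
    (H' : Over S) [GrpObj H'] (h' : H' ⟶ G') [IsMonHom h'] [Mono h'] [Smooth H'.hom] [QuasiCompact H'.hom]
    (hH' : ∀ s : S, ∃ (C' : Over (Spec (CommRingCat.of (AlgebraicClosure (S.residueField s))))) (_ : GrpObj C')
      (c' : C' ⟶ Red.geomFibre s H'), SGA3x.IsCartanOver _ (c' ≫ (Over.pullback (Red.geomPt s)).map h')) :
    Smooth (Limits.pullback h' u).hom ∧ QuasiCompact (Limits.pullback h' u).hom ∧
    (∀ s : S, ∃ (C : Over (Spec (CommRingCat.of (AlgebraicClosure (S.residueField s))))) (_ : GrpObj C)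
      (c : C ⟶ Red.geomFibre s (Limits.pullback h' u)),
      SGA3x.IsCartanOver _ (c ≫ (Over.pullback (Red.geomPt s)).map (Limits.pullback.snd h' u))) ∧
    ((∀ s : S, _root_.IsConnected ((Limits.pullback h' u).hom.base ⁻¹' {s})) ↔
      ∀ s : S, _root_.IsConnected (H'.hom.base ⁻¹' {s})) := by
  have hw : u.left ≫ G'.hom = G.hom := Over.w u
  have hus : Surjective u.left := by
    refine ⟨fun y => ?_⟩
    have hy : G'.hom y ∈ Set.range (S.fromSpecResidueField (G'.hom y)) := by
      rw [Scheme.range_fromSpecResidueField]; rfl
    obtain ⟨t, ht⟩ := hy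
    obtain ⟨z, hz1, hz2⟩ := Scheme.Pullback.exists_preimage_pullback (f := G'.hom)
      (g := S.fromSpecResidueField (G'.hom y)) y t ht.symm
    obtain ⟨w, hw⟩ := (hu (G'.hom y)).1.surj z
    have hpb := Groth.Agent.Sga3.H798.FpqcIso.isPullback_map_left (S.fromSpecResidueField (G'.hom y)) u
    refine ⟨Limits.pullback.fst G.hom (S.fromSpecResidueField (G'.hom y)) w, ?_⟩
    rw [← Scheme.Hom.comp_apply, hpb.w, Scheme.Hom.comp_apply, hw, hz1]
  have huq : QuasiCompact u.left := by
    have : QuasiCompact (u.left ≫ G'.hom) := by rw [hw]; infer_instance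
    exact QuasiCompact.of_comp u.left G'.hom
  have hulfp : LocallyOfFinitePresentation u.left := by
    have : LocallyOfFinitePresentation (u.left ≫ G'.hom) := by rw [hw]; infer_instance
    exact Groth.Agent.Flat2E.Thick.locallyOfFinitePresentation_of_comp u.left G'.hom
  have huf : Flat u.left := K17.FlatHom.flat_of_surjective G G' u hus
  have hsq : IsPullback (Limits.pullback.fst h' u).left (Limits.pullback.snd h' u).left h'.left u.left :=
    (IsPullback.of_hasPullback h' u).map (Over.forget S)
  have p1 : Flat (Limits.pullback.fst h' u).left :=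
    MorphismProperty.of_isPullback (P := @Flat) hsq.flip inferInstance
  have p2 : Surjective (Limits.pullback.fst h' u).left :=
    MorphismProperty.of_isPullback (P := @Surjective) hsq.flip inferInstance
  have p3 : QuasiCompact (Limits.pullback.fst h' u).left :=
    MorphismProperty.of_isPullback (P := @QuasiCompact) hsq.flip inferInstance
  have p4 : LocallyOfFinitePresentation (Limits.pullback.fst h' u).left :=
    MorphismProperty.of_isPullback (P := @LocallyOfFinitePresentation) hsq.flip inferInstance
  have hhom : (Limits.pullback.fst h' u).left ≫ H'.hom = (Limits.pullback h' u).hom := Over.w _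
  have q1 : Flat (Limits.pullback h' u).hom := by rw [← hhom]; infer_instance
  have q3 : QuasiCompact (Limits.pullback h' u).hom := by rw [← hhom]; infer_instance
  have q4 : LocallyOfFinitePresentation (Limits.pullback h' u).hom := by rw [← hhom]; infer_instance
  have key : ∀ s : S, (∃ (C : Over (Spec (CommRingCat.of (AlgebraicClosure (S.residueField s))))) (_ : GrpObj C)
      (c : C ⟶ Red.geomFibre s (Limits.pullback h' u)),
      SGA3x.IsCartanOver _ (c ≫ (Over.pullback (Red.geomPt s)).map (Limits.pullback.snd h' u))) ∧
      Smooth (Red.geomFibre s (Limits.pullback h' u)).hom ∧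
      (ConnectedSpace (Red.geomFibre s H').left →
        ConnectedSpace (Red.geomFibre s (Limits.pullback h' u)).left) := by
    intro s
    obtain ⟨C', _, c', hc'⟩ := hH' s
    let x := Red.geomPt s
    let F := Over.pullback x
    have i1 : Smooth (Red.bc x G).hom := inferInstanceAs (Smooth (Limits.pullback.snd _ _))
    have i2 : QuasiCompact (Red.bc x G).hom := inferInstanceAs (QuasiCompact (Limits.pullback.snd _ _))
    have i3 : Smooth (Red.bc x G').hom := inferInstanceAs (Smooth (Limits.pullback.snd _ _))
    have i4 : QuasiCompact (Red.bc x G').hom := inferInstanceAs (QuasiCompact (Limits.pullback.snd _ _))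
    have i5 : Smooth (Red.bc x H').hom := inferInstanceAs (Smooth (Limits.pullback.snd _ _))
    have i6 : QuasiCompact (Red.bc x H').hom := inferInstanceAs (QuasiCompact (Limits.pullback.snd _ _))
    have i7 : ConnectedSpace (Red.bc x G).left := K16.PreimMain.connectedSpace_geomFibre hconn s
    have hpb := Groth.Agent.Sga3.H798.FpqcIso.isPullback_map_left x u
    have j1 : Surjective (F.map u).left := MorphismProperty.of_isPullback (P := @Surjective) hpb hus
    have j2 : Flat (F.map u).left := MorphismProperty.of_isPullback (P := @Flat) hpb huf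
    have hsepG : IsSeparated (Red.bc x G).hom := Groth.Agent.Localalg.GrpSchComp2.isSeparated_hom _
    have hsepG' : IsSeparated (Red.bc x G').hom := Groth.Agent.Localalg.GrpSchComp2.isSeparated_hom _
    have hsepH' : IsSeparated (Red.bc x H').hom := Groth.Agent.Localalg.GrpSchComp2.isSeparated_hom _
    have hq : ∀ (X : Over (Spec (CommRingCat.of (AlgebraicClosure (S.residueField s)))))
        (z g : X ⟶ Red.bc x G), z ≫ F.map u = 1 → z * g = g * z := by
      intro X z g hz
      have hz' : (Groth.Agent.Sga3B.BcPts.bcEquiv x X G).symm z ≫ u = 1 := by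
        apply (Groth.Agent.Sga3B.BcPts.bcEquiv x X G').injective
        rw [Groth.Agent.Sga3B.BcPts.bcEquiv_comp, Equiv.apply_symm_apply, hz,
          Groth.Agent.Sga3B.BcPts.bcEquiv_one]
      have h1 := hker _ _ hz' _ (𝟙 _) ((Groth.Agent.Sga3B.BcPts.bcEquiv x X G).symm g)
      rw [Category.id_comp] at h1
      have h2 := congrArg (Groth.Agent.Sga3B.BcPts.bcEquiv x X G) h1
      rwa [Groth.Agent.Sga3B.BcPts.bcEquiv_mul, Groth.Agent.Sga3B.BcPts.bcEquiv_mul, Equiv.apply_symm_apply,
        Equiv.apply_symm_apply] at h2
    have hcm := hc'.1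
    have hcmono := hc'.2.1
    obtain ⟨grp, hC, hCs, hCc⟩ := K17.CartPre.exists_cartan (F.map u) hq (c' ≫ F.map h') hc'
    have hc'sep : IsSeparated C'.hom := Groth.Agent.Localalg.GrpSchComp2.isSeparated_hom _
    have hC'1 : Smooth C'.hom ∧ QuasiCompact C'.hom := by
      obtain ⟨-, -, T', _, i', hi', hcent⟩ := hc'
      have := hi'.1
      obtain ⟨a, b, -⟩ := K15.CentUniq.smooth_and_closed hi'.2.2.1 hcent
      refine ⟨a, ?_⟩
      rw [← Over.w (c' ≫ F.map h')]
      infer_instance
    obtain ⟨k1, k2⟩ := hC'1
    have h8 := S8414.result _ (Red.bc x G) (Red.bc x G') (F.map u) C' (c' ≫ F.map h') (Red.bc x H') (F.map h')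
      ⟨c', rfl⟩
    let e : Red.bc x (Limits.pullback h' u) ≅ Limits.pullback (F.map h') (F.map u) :=
      Limits.PreservesPullback.iso F h' u
    have he : (e.inv ≫ F.map (Limits.pullback.snd h' u)) = Limits.pullback.snd (F.map h') (F.map u) :=
      Limits.PreservesPullback.iso_inv_snd F h' u
    have hei : IsIso e.hom.left := inferInstanceAs (IsIso ((Over.forget _).map e.hom))
    have hei' : IsIso e.inv.left := inferInstanceAs (IsIso ((Over.forget _).map e.inv))
    refine ⟨⟨Limits.pullback (c' ≫ F.map h') (F.map u), grp,
      Limits.pullback.lift (Limits.pullback.fst _ _ ≫ c') (Limits.pullback.snd _ _)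
        (by rw [Category.assoc, Limits.pullback.condition]) ≫ e.inv, ?_⟩, ?_, ?_⟩
    · rw [Category.assoc]
      change SGA3x.IsCartanOver _ (_ ≫ e.inv ≫ F.map (Limits.pullback.snd h' u))
      rw [he, Limits.pullback.lift_snd]
      exact hC
    · have h9 := h8.1 hCs i5
      have : e.hom.left ≫ (Limits.pullback (F.map h') (F.map u)).hom = (Red.bc x (Limits.pullback h' u)).hom :=
        Over.w e.hom
      change Smooth (Red.bc x (Limits.pullback h' u)).hom
      rw [← this]
      infer_instance
    · intro hcH
      have conn1 : ∀ (Y : Over (Spec (CommRingCat.of (AlgebraicClosure (S.residueField s))))),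
          ConnectedSpace Y.left → ∀ t : Spec (CommRingCat.of (AlgebraicClosure (S.residueField s))),
            _root_.IsConnected (Y.hom.base ⁻¹' {t}) := by
        intro Y hY t
        have : Y.hom.base ⁻¹' {t} = Set.univ := by
          ext y
          simp only [Set.mem_preimage, Set.mem_singleton_iff, Set.mem_univ, iff_true]
          exact @Subsingleton.elim _ (inferInstanceAs (Subsingleton (PrimeSpectrum _))) _ _
        rw [this]
        exact isConnected_univ
      have h9 := h8.2 (conn1 _ hCc) (conn1 _ hcH) (IsLocalRing.closedPoint (AlgebraicClosure (S.residueField s)))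
      have h10 : ConnectedSpace (Limits.pullback (F.map h') (F.map u)).left := by
        rw [connectedSpace_iff_univ]
        convert h9
        symm
        ext y
        simp only [Set.mem_preimage, Set.mem_univ, iff_true]
        exact @Subsingleton.elim _ (inferInstanceAs (Subsingleton (PrimeSpectrum _))) _ _
      exact e.inv.left.surjective.connectedSpace e.inv.left.continuous
  refine ⟨K16.PreimMain.smooth_of_geomFibres fun s => (key s).2.1, q3, fun s => (key s).1, ⟨fun h s => ?_,
    fun h s => ?_⟩⟩
  · have : H'.hom.base ⁻¹' {s} = (Limits.pullback.fst h' u).left '' ((Limits.pullback h' u).hom.base ⁻¹' {s}) := by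
      ext y
      constructor
      · intro hy
        obtain ⟨z, rfl⟩ := p2.surj y
        refine ⟨z, ?_, rfl⟩
        rw [Set.mem_preimage, Set.mem_singleton_iff] at hy ⊢
        rw [← hy, ← hhom]
        rfl
      · rintro ⟨z, hz, rfl⟩
        rw [Set.mem_preimage, Set.mem_singleton_iff] at hz ⊢
        rw [← hz, ← hhom]
        rfl
    rw [this]
    exact (h s).image _ (Limits.pullback.fst h' u).left.continuous.continuousOn
  · exact K16.PreimMain.isConnected_of_geomFibre s ((key s).2.2 (K16.PreimMain.connectedSpace_geomFibre h s))

end Groth.Agent.S8430
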