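import Groth.Statements.S8432
import Groth.Agent.SGA3x.K201.CentMain
-- import your own Groth.Agent.* helpers here

set_option autoImplicit false
universe u
open CategoryTheory MonoidalCategory CartesianMonoidalCategory MonObj GrpObj AlgebraicGeometry
open SGA3x

namespace Groth.Agent.S8432

/-- Let G be an S-group scheme of finite presentation over S and H a subgroup scheme of G of
multiplicative type which is smooth over S. Then the centralizer Centr_G(H) is represented by a
subgroup scheme of G of finite presentation over S. (No separatedness of G is assumed.) -/
theorem result (S : Scheme.{u}) (G : Over S) [GrpObj G]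
    [QuasiCompact G.hom] [QuasiSeparated G.hom] [LocallyOfFinitePresentation G.hom]
    (H : Over S) [GrpObj H] (h : H ⟶ G) [IsMonHom h] [Mono h] [Smooth H.hom] (hH : SGA3x.IsMultTypeFT H) :
    ∃ (C : Over S) (_ : GrpObj C) (c : C ⟶ G), Red.IsCentralizerOf h c ∧
      QuasiCompact C.hom ∧ QuasiSeparated C.hom ∧ LocallyOfFinitePresentation C.hom := by
  exact K201.CentMain.main G H h hH

end Groth.Agent.S8432
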