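import Groth.Statements.S8435
import Groth.Agent.SGA3x.K12.NormFin

set_option autoImplicit false
universe u
open CategoryTheory MonoidalCategory CartesianMonoidalCategory MonObj GrpObj AlgebraicGeometry
open SGA3x

namespace Groth.Agent.S8435

/-- Let A be a Noetherian integrally closed domain, S = Spec A, q > 1 an integer invertible on S, G an
S-group scheme of finite type and E a subset of the underlying space of G. Suppose E is locally
closed, that for every s ∈ S the trace of E on the fibre G_s is the underlying set of a subtorus T_s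
of G_s, and that the dimension of T_s is a locally constant function of s. Then E is the underlying
set of a subtorus T of G, and such a T is unique (any two are isomorphic over G). (This is the
implication (iii) ⇒ (i) of case C), with its uniqueness clause. The published statement is over any
locally Noetherian normal base, with an integer q > 0 invertible on it in force; this row takes S =
Spec A with A an integrally closed Noetherian domain and assumes q > 1.) -/
theorem result (A : Type u) [CommRing A] [IsDomain A]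
    [IsNoetherianRing A] [IsIntegrallyClosed A] (q : ℕ) (hq : 1 < q) (hqu : IsUnit (q : A))
    (G : Over (Spec (CommRingCat.of A))) [GrpObj G] [QuasiCompact G.hom] [LocallyOfFiniteType G.hom]
    (E : Set ↥G.left) (hE : IsLocallyClosed E)
    (Ts : ∀ s : ↥(Spec (CommRingCat.of A)), Over (Spec ((Spec (CommRingCat.of A)).residueField s))) (grp : ∀ s, GrpObj (Ts s))
    (js : ∀ s, Ts s ⟶ Red.bc ((Spec (CommRingCat.of A)).fromSpecResidueField s) G)
    (hjs : ∀ s, IsMonHom (js s) ∧ Mono (js s) ∧ Red.IsTorus (Ts s) ∧
      Set.range ((js s).left ≫ Limits.pullback.fst G.hom ((Spec (CommRingCat.of A)).fromSpecResidueField s)).base = E ∩ G.hom.base ⁻¹' {s})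
    (hdim : ∀ s : ↥(Spec (CommRingCat.of A)), ∃ U : (Spec (CommRingCat.of A)).Opens, s ∈ U ∧ ∀ t, t ∈ U →
      topologicalKrullDim ↥(Ts t).left = topologicalKrullDim ↥(Ts s).left) :
    (∃ (T : Over (Spec (CommRingCat.of A))) (_ : GrpObj T) (j : T ⟶ G), IsMonHom j ∧ Mono j ∧ Red.IsTorus T ∧ Set.range j.left.base = E) ∧
    (∀ (T₁ T₂ : Over (Spec (CommRingCat.of A))) [GrpObj T₁] [GrpObj T₂] (j₁ : T₁ ⟶ G) (j₂ : T₂ ⟶ G) [IsMonHom j₁] [Mono j₁] [IsMonHom j₂] [Mono j₂],
      Red.IsTorus T₁ → Red.IsTorus T₂ → Set.range j₁.left.base = E → Set.range j₂.left.base = E →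
      ∃ φ : T₁ ≅ T₂, φ.hom ≫ j₂ = j₁) := by
  refine ⟨K12.NormMain.main K12.NormFin.exist A q hq hqu G E hE Ts grp js hjs hdim, ?_⟩
  intro T₁ T₂ _ _ j₁ j₂ _ _ _ _ h₁ h₂ hr₁ hr₂
  exact K12.NormMain.unique j₁ j₂ h₁ h₂ (hr₁.trans hr₂.symm)

end Groth.Agent.S8435
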