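import Groth.Statements.S8436
import Groth.Agent.SGA3x.K13.HC.Main

set_option autoImplicit false
universe u
open CategoryTheory MonoidalCategory CartesianMonoidalCategory MonObj GrpObj AlgebraicGeometry
open SGA3x

namespace Groth.Agent.S8436

/-- Let S = Spec A with A a Henselian local ring, G an S-group scheme which is smooth and of finite
presentation over S with connected fibres, and H a subgroup scheme of G, smooth over S, such that
for every s ∈ S the geometric fibre H_s̄ is the centralizer in G_s̄ of a subtorus of G_s̄. Then H is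
the centralizer in G of a subgroup scheme of G of multiplicative type which is etale over S. -/
theorem result (A : Type u) [CommRing A]
    [IsLocalRing A] [HenselianLocalRing A]
    (G : Over (Spec (CommRingCat.of A))) [GrpObj G] [Smooth G.hom] [QuasiCompact G.hom] [QuasiSeparated G.hom]
    (hconn : ∀ s : ↥(Spec (CommRingCat.of A)), _root_.IsConnected (G.hom.base ⁻¹' {s}))
    (H : Over (Spec (CommRingCat.of A))) [GrpObj H] [Smooth H.hom] (i : H ⟶ G) [IsMonHom i] [Mono i]
    (hH : ∀ s : ↥(Spec (CommRingCat.of A)), ∃ (T' : Over (Spec (CommRingCat.of (AlgebraicClosure ((Spec (CommRingCat.of A)).residueField s))))) (_ : GrpObj T')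
      (j' : T' ⟶ Red.geomFibre s G) (_ : IsMonHom j') (_ : Mono j'), Red.IsTorus T' ∧
      Red.IsCentralizerOf j' ((Over.pullback (Red.geomPt s)).map i)) :
    ∃ (M : Over (Spec (CommRingCat.of A))) (_ : GrpObj M) (j : M ⟶ G) (_ : IsMonHom j) (_ : Mono j), SGA3x.IsMultTypeFT M ∧
      Etale M.hom ∧ Red.IsCentralizerOf j i := by
  have hGirr : GeometricallyIrreducible G.hom := by
    have : GrpObj (Over.mk G.hom) := inferInstanceAs (GrpObj G)
    exact Sga3C.GrpIrr.geometricallyIrreducible_of_connected_fibres G.hom hconn
  have hGsep : IsSeparated G.hom := Sga3C.GrpSep.isSeparated G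
  have hHirr : GeometricallyIrreducible H.hom := by
    refine K20.GeomIrr.geomIrr H fun s => ?_
    have h1 : Smooth (Red.geomFibre s G).hom := inferInstanceAs (Smooth (Limits.pullback.snd _ _))
    have h2 : QuasiCompact (Red.geomFibre s G).hom := inferInstanceAs (QuasiCompact (Limits.pullback.snd _ _))
    have h3 := K16.PreimMain.connectedSpace_geomFibre (X := G) hconn s
    obtain ⟨T', _, j', _, _, hT', hc⟩ := hH s
    exact Sga3.H831.CartFacts.connectedSpace_centralizer j' hT' hc
  have hHsep : IsSeparated H.hom := Sga3C.GrpSep.isSeparated H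
  have hHqc : QuasiCompact H.hom := Sga3C.GrpSep.quasiCompact H
  exact K13.HC.Main.main i hH

end Groth.Agent.S8436
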