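import Groth.Statements.S8437
import Groth.Agent.SGA3x.K18.CartanQuot
import Groth.Agent.S4119
import Groth.Agent.S4147
-- import your own Groth.Agent.* helpers here

set_option autoImplicit false
universe u
open CategoryTheory MonoidalCategory CartesianMonoidalCategory MonObj GrpObj AlgebraicGeometry
open SGA3x

namespace Groth.Agent.S8437

/-- Let G, G′ be S-group schemes, smooth, separated and of finite type over S, G admitting a maximal
torus locally for the fpqc topology, G′ with connected fibres, and u : G → G′ a homomorphism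
surjective on every geometric fibre whose kernel is central. Then C ↦ u(C) is a bijection from the
Cartan subgroups of G onto those of G′ with C = u⁻¹(u(C)): for every Cartan subgroup C of G there
are a Cartan subgroup C′ of G′ and a faithfully flat homomorphism v : C → C′ making C → G, C → C′ a
cartesian square over u; and every Cartan subgroup C′ of G′ is obtained in this way. -/
theorem result (S : Scheme.{u}) (G G' : Over S) [GrpObj G] [GrpObj G']
    [Smooth G.hom] [IsSeparated G.hom] [QuasiCompact G.hom] [Smooth G'.hom] [IsSeparated G'.hom] [QuasiCompact G'.hom]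
    (hG : SGA3x.HasMaxTorusFpqcLocally G) (u : G ⟶ G') [IsMonHom u]
    (hu : ∀ s : S, Surjective ((Over.pullback (Red.geomPt s)).map u).left)
    (hconn' : ∀ s : S, _root_.IsConnected (G'.hom.base ⁻¹' {s}))
    (hker : ∀ (X : Over S) (z : X ⟶ G), z ≫ u = 1 → ∀ (X' : Over S) (x : X' ⟶ X) (g : X' ⟶ G),
      (x ≫ z) * g = g * (x ≫ z)) :
    (∀ (C : Over S) [GrpObj C] (c : C ⟶ G), SGA3x.IsCartan c →
      ∃ (C' : Over S) (_ : GrpObj C') (c' : C' ⟶ G') (v : C ⟶ C'), SGA3x.IsCartan c' ∧ IsMonHom v ∧
        Surjective v.left ∧ Flat v.left ∧ IsPullback c v u c') ∧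
    (∀ (C' : Over S) [GrpObj C'] (c' : C' ⟶ G'), SGA3x.IsCartan c' →
      ∃ (C : Over S) (_ : GrpObj C) (c : C ⟶ G) (v : C ⟶ C'), SGA3x.IsCartan c ∧ IsMonHom v ∧
        Surjective v.left ∧ Flat v.left ∧ IsPullback c v u c') := by
  refine ⟨fun C _ c hc => ?_, fun C' _ c' hc' => K18.CartanQuot.exists_of_target hu hker c' hc'⟩
  obtain ⟨T, _, i, hi, hz⟩ := Groth.Agent.S4119.result S G hG C c hc
  obtain ⟨T', _, i', v, hi', hv, hvi, hvs, hvf⟩ := Groth.Agent.S4147.result S G G' hG u hu T i hi
  obtain ⟨C', _, c', hz', -, hc', -⟩ := Groth.Agent.S4118.result S G' T' i' hi'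
  obtain ⟨w, h1, h2, h3, h4⟩ := K18.CartanQuot.isPullback_of_isCentralizerOf hu hker i hi c hz hc i' hi' v hvi c' hz' hc'
  exact ⟨C', inferInstance, c', w, hc', h1, h2, h3, h4⟩

end Groth.Agent.S8437
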