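import Groth.Statements.S8441
-- import your own Groth.Agent.* helpers here

set_option autoImplicit false
universe u v w
open SGA3t2b

namespace Groth.Agent.S8441

/-- Unitriangular change of a linearly independent family over ℤ (or any ring): `θ i - v i` in the
span of the later `v j`. -/
lemma unitri {R M : Type*} [CommRing R] [AddCommGroup M] [Module R M] {n : ℕ}
    (v θ : Fin n → M) (hv : LinearIndependent R v)
    (h : ∀ i, θ i - v i ∈ Submodule.span R (v '' {j | i < j})) :
    LinearIndependent R θ ∧
      Submodule.span R (Set.range θ) = Submodule.span R (Set.range v) := by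
  classical
  have hmem : ∀ i, θ i ∈ Submodule.span R (v '' {j | i ≤ j}) := by
    intro i
    have h1 : v i ∈ Submodule.span R (v '' {j | i ≤ j}) :=
      Submodule.subset_span ⟨i, le_refl i, rfl⟩
    have h2 := Submodule.span_mono (R := R) (Set.image_mono (f := v)
      (fun j (hj : i < j) => (le_of_lt hj : i ≤ j))) (h i)
    have := add_mem h2 h1
    rwa [sub_add_cancel] at this
  constructor
  · rw [Fintype.linearIndependent_iff]
    intro g hg i
    induction i using WellFoundedLT.induction with
    | ind i ih =>
      apply linearIndependent_iff_eq_zero_of_smul_mem_span.mp hv i (g i)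
      have h1 : ∑ j, g j • θ j = g i • θ i + ∑ j ∈ Finset.univ.filter (fun j => i < j), g j • θ j := by
        rw [← Finset.sum_filter_add_sum_filter_not Finset.univ (fun j => i < j), add_comm]
        congr 1
        rw [Finset.sum_eq_single i]
        · intro j hj hji
          have : ¬ i < j := by simpa using hj
          rw [ih j (lt_of_le_of_ne (not_lt.mp this) hji), zero_smul]
        · intro hi
          exfalso
          apply hi
          simp
      have h2 : g i • v i = -(g i • (θ i - v i)) -
          ∑ j ∈ Finset.univ.filter (fun j => i < j), g j • θ j := by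
        rw [h1] at hg
        rw [smul_sub, eq_neg_of_add_eq_zero_left hg]
        abel
      rw [h2]
      have hsub : ∀ j, i < j → Submodule.span R (v '' {l | j ≤ l}) ≤
          Submodule.span R (v '' (Set.univ \ {i})) := by
        intro j hij
        apply Submodule.span_mono
        apply Set.image_mono
        intro l (hl : j ≤ l)
        refine ⟨trivial, ?_⟩
        rintro rfl
        exact absurd (lt_of_lt_of_le hij hl) (lt_irrefl _)
      refine sub_mem (neg_mem (Submodule.smul_mem _ _ ?_)) (Submodule.sum_mem _ fun j hj =>
        Submodule.smul_mem _ _ ?_)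
      · refine Submodule.span_mono (Set.image_mono ?_) (h i)
        intro l (hl : i < l)
        exact ⟨trivial, ne_of_gt hl⟩
      · have hj' : i < j := by simpa using hj
        exact hsub j hj' (hmem j)
  · apply le_antisymm
    · rw [Submodule.span_le]
      rintro _ ⟨i, rfl⟩
      exact Submodule.span_mono (Set.image_subset_range _ _) (hmem i)
    · rw [Submodule.span_le]
      rintro _ ⟨i, rfl⟩
      induction i using WellFoundedGT.induction with
      | ind i ih =>
        have h1 : Submodule.span R (v '' {j | i < j}) ≤ Submodule.span R (Set.range θ) := by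
          rw [Submodule.span_le]
          rintro _ ⟨j, hj, rfl⟩
          exact ih j hj
        have h2 : v i = θ i - (θ i - v i) := by abel
        rw [h2]
        exact sub_mem (Submodule.subset_span ⟨i, rfl⟩) (h1 (h i))

/-- Let R be a root system with a system of simple roots a₁, …, aₙ and simple reflections rᵢ, and put θᵢ
= rₙ ⋯ rᵢ₊₁(aᵢ). Then the θᵢ form a basis of the group generated by the roots. Stated for a root
pairing over ℤ (Mathlib) with a base whose support is enumerated by Fin n: the θᵢ are ℤ-linearly
independent and their ℤ-span is the ℤ-span of all roots. -/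
theorem result {ι : Type u} {M : Type v} {N : Type w} [AddCommGroup M] [Module ℤ M]
    [AddCommGroup N] [Module ℤ N] (P : RootPairing ι ℤ M N) (b : P.Base) (n : ℕ) (e : Fin n ≃ ↥b.support) :
    LinearIndependent ℤ (fun i : Fin n =>
      ((List.finRange n).filter (fun j => i < j)).foldl (fun x j => P.reflection (e j : ι) x) (P.root (e i : ι))) ∧
    Submodule.span ℤ (Set.range (fun i : Fin n =>
      ((List.finRange n).filter (fun j => i < j)).foldl (fun x j => P.reflection (e j : ι) x) (P.root (e i : ι)))) =
      Submodule.span ℤ (Set.range P.root) := by
  classical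
  obtain rfl : (inferInstance : Module ℤ M) = AddCommGroup.toIntModule M := Subsingleton.elim _ _
  set v : Fin n → M := fun i => P.root (e i : ι) with hvdef
  have hv : LinearIndependent ℤ v := by
    have h1 : LinearIndependent ℤ (fun i : b.support => P.root i) := b.linearIndepOn_root
    exact h1.comp e e.injective
  have hrange : Submodule.span ℤ (Set.range v) = Submodule.span ℤ (Set.range P.root) := by
    rw [← b.span_int_root_support]
    congr 1
    ext x
    constructor
    · rintro ⟨i, rfl⟩
      exact ⟨e i, (e i).2, rfl⟩
    · rintro ⟨i, hi, rfl⟩
      exact ⟨e.symm ⟨i, hi⟩, by simp [hvdef]⟩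
  have key : ∀ (l : List (Fin n)) (s : Set (Fin n)) (x y : M), (∀ j ∈ l, j ∈ s) →
      x - y ∈ Submodule.span ℤ (v '' s) →
      l.foldl (fun x j => P.reflection (e j : ι) x) x - y ∈ Submodule.span ℤ (v '' s) := by
    intro l s
    induction l with
    | nil => intro x y _ h; simpa using h
    | cons a l ih =>
      intro x y hl h
      rw [List.foldl_cons]
      apply ih _ _ (fun j hj => hl j (List.mem_cons_of_mem _ hj))
      rw [RootPairing.reflection_apply]
      have h1 : P.root (e a : ι) ∈ Submodule.span ℤ (v '' s) :=
        Submodule.subset_span ⟨a, hl a List.mem_cons_self, rfl⟩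
      have h2 := sub_mem h (Submodule.smul_mem _ (P.coroot' (e a : ι) x) h1)
      rw [sub_right_comm] at h2
      exact h2
  obtain ⟨h1, h2⟩ := unitri v (fun i : Fin n =>
      ((List.finRange n).filter (fun j => i < j)).foldl (fun x j => P.reflection (e j : ι) x)
        (P.root (e i : ι))) hv (by
    intro i
    apply key _ {j | i < j}
    · intro j hj
      simpa using hj
    · simp [hvdef])
  exact ⟨h1, h2.trans hrange⟩

end Groth.Agent.S8441
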