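import Groth.Statements.S8442
import Groth.Agent.S8420
import Groth.Agent.SGA3.K207.CartIn

set_option autoImplicit false
universe u
open CategoryTheory MonoidalCategory CartesianMonoidalCategory MonObj GrpObj AlgebraicGeometry
open SGA3x

namespace Groth.Agent.S8442

/-- Let G be an S-group scheme, smooth and of finite presentation over S with connected fibres, and i :
H → G a monomorphism of S-groups with H smooth over S whose geometric fibres are connected and
contain a Cartan subgroup of the corresponding geometric fibre of G. Then for every Cartan subgroup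
C of G, Transp_G(C, H) is represented by a closed subscheme of G, smooth over S, whose structure
morphism to S is surjective; and if C is the centralizer of a maximal torus T of G, then Transp_G(T,
H) = Transp_G(C, H). -/
theorem result (S : Scheme.{u}) (G : Over S) [GrpObj G]
    [Smooth G.hom] [QuasiCompact G.hom] [QuasiSeparated G.hom] (hconn : ∀ s : S, _root_.IsConnected (G.hom.base ⁻¹' {s}))
    (H : Over S) [GrpObj H] [Smooth H.hom] (i : H ⟶ G) [IsMonHom i] [Mono i]
    (hHconn : ∀ s : S, ConnectedSpace ↥(Red.geomFibre s H).left)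
    (hHC : ∀ s : S, ∃ (C' : Over (Spec (CommRingCat.of (AlgebraicClosure (S.residueField s))))) (_ : GrpObj C')
      (c' : C' ⟶ Red.geomFibre s H), SGA3x.IsCartanOver _ (c' ≫ (Over.pullback (Red.geomPt s)).map i))
    (C : Over S) [GrpObj C] (c : C ⟶ G) (hC : SGA3x.IsCartan c) :
    (∃ (M : Over S) (m : M ⟶ G), IsClosedImmersion m.left ∧ Smooth M.hom ∧ Surjective M.hom ∧
      ∀ (X : Over S) (g : X ⟶ G), (∃ z : X ⟶ M, z ≫ m = g) ↔
        ∀ (X' : Over S) (x : X' ⟶ X) (y : X' ⟶ C), ∃ h : X' ⟶ H, (x ≫ g) * (y ≫ c) * (x ≫ g)⁻¹ = h ≫ i) ∧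
    (∀ (T : Over S) [GrpObj T] (t : T ⟶ G), Red.IsMaximalTorus t → Red.IsCentralizerOf t c →
      ∀ (X : Over S) (g : X ⟶ G),
        (∀ (X' : Over S) (x : X' ⟶ X) (y : X' ⟶ T), ∃ h : X' ⟶ H, (x ≫ g) * (y ≫ t) * (x ≫ g)⁻¹ = h ≫ i) ↔
        (∀ (X' : Over S) (x : X' ⟶ X) (y : X' ⟶ C), ∃ h : X' ⟶ H, (x ≫ g) * (y ≫ c) * (x ≫ g)⁻¹ = h ≫ i)) := by
  have hsep : IsSeparated G.hom := (Groth.Agent.S3025.result S G hconn).1
  have hgrp : GrpObj (Over.mk G.hom) := inferInstanceAs (GrpObj G)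
  have hirr : GeometricallyIrreducible G.hom :=
    Groth.Agent.Sga3C.GrpIrr.geometricallyIrreducible_of_connected_fibres G.hom hconn
  refine ⟨?_, fun T _ t ht htc X g => K207.CartIn.transp_iff i (fun s => hHC s) t ht c htc g⟩
  obtain ⟨M, m, hm, hMs, hM⟩ := Groth.Agent.S8420.result S G hconn H i C c hC
  refine ⟨M, m, hm, hMs, ⟨fun s => ?_⟩, hM⟩
  obtain ⟨C', _, c', hc'⟩ := hHC s
  obtain ⟨γ, hγ⟩ := Groth.Agent.Sga3.H831.CartFacts.facts.conj _ (Red.bc (Red.geomPt s) G) _ _
    ((Over.pullback (Red.geomPt s)).map c) (c' ≫ (Over.pullback (Red.geomPt s)).map i) (hC.2.2.2 s) hc'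
  obtain ⟨z, -⟩ := (hM _ _).2 (K207.CartIn.transp_of_bc (Red.geomPt s) c i γ fun Y' y r => by
    obtain ⟨q', hq'⟩ := (hγ Y' y).1 r
    exact ⟨q' ≫ c', by rw [hq', Category.assoc]⟩)
  refine ⟨z.left (IsLocalRing.closedPoint (AlgebraicClosure (S.residueField s))), ?_⟩
  rw [← Scheme.Hom.comp_apply, Over.w z]
  change (𝟙 _ ≫ Red.geomPt s) _ = s
  rw [Category.id_comp]
  exact Groth.Agent.Sga3.H831.CartBc.geomPt_apply s _

end Groth.Agent.S8442
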