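import Groth.Statements.S8444
import Groth.Agent.SGA3x.K211.Main

set_option autoImplicit false
universe u
open CategoryTheory MonoidalCategory CartesianMonoidalCategory MonObj GrpObj AlgebraicGeometry
open SGA3x

namespace Groth.Agent.S8444

/-- The trace of the image of `j` on the fibre at `s`. -/
theorem range_inter {S : Scheme.{u}} {T G : Over S} (j : T ⟶ G) (s : S) :
    Set.range (((Over.pullback (S.fromSpecResidueField s)).map j).left ≫
      Limits.pullback.fst G.hom (S.fromSpecResidueField s)).base = Set.range j.left.base ∩ G.hom.base ⁻¹' {s} := by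
  have h1 : ((Over.pullback (S.fromSpecResidueField s)).map j).left ≫
      Limits.pullback.fst G.hom (S.fromSpecResidueField s) =
      Limits.pullback.fst T.hom (S.fromSpecResidueField s) ≫ j.left := Limits.pullback.lift_fst _ _ _
  rw [h1]
  have h2 := Scheme.Pullback.range_fst T.hom (S.fromSpecResidueField s)
  rw [Scheme.range_fromSpecResidueField] at h2
  have h3 : ∀ t : T.left, G.hom (j.left t) = T.hom t := fun t =>
    congrArg (fun f : T.left ⟶ S => f t) (Over.w j)
  ext y
  constructor
  · rintro ⟨t, rfl⟩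
    have h4 : Limits.pullback.fst T.hom (S.fromSpecResidueField s) t ∈ T.hom ⁻¹' {s} := by
      rw [← h2]
      exact ⟨t, rfl⟩
    refine ⟨⟨_, rfl⟩, ?_⟩
    exact (h3 _).trans h4
  · rintro ⟨⟨t, rfl⟩, ht⟩
    have h4 : t ∈ T.hom ⁻¹' {s} := (h3 t).symm.trans ht
    rw [← h2] at h4
    obtain ⟨t', rfl⟩ := h4
    exact ⟨t', rfl⟩

/-- Let S = Spec A be a Noetherian affine scheme, q > 1 an integer invertible on S (the published
statement writes q > 0), G an S-group scheme of finite type and E a subset of the underlying space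
of G. Suppose (a) for every s ∈ S the trace of E on the fibre G_s is the underlying set of a
subtorus T_s of G_s, and (b) there is a coherent family (Mₙ), n = q^k, of subgroup schemes of G of
multiplicative type with (Mₙ)_s = ₙT_s for every s. Then E is the underlying set of a subtorus T of
G. (This is the implication (ii) ⇒ (i) of case A). The published statement is over a locally
Noetherian base; this row is over an affine Noetherian base.) -/
theorem result (A : Type u) [CommRing A] [IsNoetherianRing A]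
    (q : ℕ) (hq : 1 < q) (hqu : IsUnit (q : A))
    (G : Over (Spec (CommRingCat.of A))) [GrpObj G] [QuasiCompact G.hom] [LocallyOfFiniteType G.hom]
    (E : Set ↥G.left)
    (Ts : ∀ s : ↥(Spec (CommRingCat.of A)), Over (Spec ((Spec (CommRingCat.of A)).residueField s))) (grpT : ∀ s, GrpObj (Ts s))
    (js : ∀ s, Ts s ⟶ Red.bc ((Spec (CommRingCat.of A)).fromSpecResidueField s) G)
    (hjs : ∀ s, IsMonHom (js s) ∧ Mono (js s) ∧ Red.IsTorus (Ts s) ∧
      Set.range ((js s).left ≫ Limits.pullback.fst G.hom ((Spec (CommRingCat.of A)).fromSpecResidueField s)).base = E ∩ G.hom.base ⁻¹' {s})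
    (M : ℕ → Over (Spec (CommRingCat.of A))) (grp : ∀ k, GrpObj (M k)) (m : ∀ k, M k ⟶ G)
    (hm : ∀ k, IsMonHom (m k) ∧ Mono (m k) ∧ SGA3x.IsMultTypeFT (M k))
    (hcoh : ∀ j k : ℕ, j ≤ k → ∃ f : M j ⟶ M k, f ≫ m k = m j ∧ AlgGrp.IsKernel f ((𝟙 (M k) : M k ⟶ M k) ^ (q ^ j)))
    (hfib : ∀ (s : ↥(Spec (CommRingCat.of A))) (k : ℕ), ∃ g : Red.bc ((Spec (CommRingCat.of A)).fromSpecResidueField s) (M k) ⟶ Ts s,
      g ≫ js s = (Over.pullback ((Spec (CommRingCat.of A)).fromSpecResidueField s)).map (m k) ∧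
      AlgGrp.IsKernel g ((𝟙 (Ts s) : Ts s ⟶ Ts s) ^ (q ^ k))) :
    ∃ (T : Over (Spec (CommRingCat.of A))) (_ : GrpObj T) (j : T ⟶ G), IsMonHom j ∧ Mono j ∧ Red.IsTorus T ∧
      Set.range j.left.base = E := by
  obtain ⟨T, _, j, h1, h2, h3, h4⟩ := K211.Main.exists_torus_of_fibres hq hqu (m := m) ⟨hm, hcoh⟩ fun s =>
    ⟨Ts s, grpT s, js s, (hjs s).1, (hjs s).2.1, (hjs s).2.2.1, hfib s⟩
  refine ⟨T, inferInstance, j, h1, h2, h3, ?_⟩
  have key : ∀ s, Set.range j.left.base ∩ G.hom.base ⁻¹' {s} = E ∩ G.hom.base ⁻¹' {s} := by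
    intro s
    obtain ⟨h5, h6, h7, h8⟩ := hjs s
    let v := (Spec (CommRingCat.of A)).fromSpecResidueField s
    obtain ⟨φ, hφ⟩ := K207.SubTor.exists_iso hq ((Over.pullback v).map j : Red.bc v T ⟶ Red.bc v G) (js s)
      (Groth.Agent.Sga3B.TorusBc.isTorus_bc v h3) h7 (fun k => Red.bc v (M k)) (fun k => (Over.pullback v).map (m k))
      (fun k => by
        obtain ⟨g, hg, hker⟩ := h4 k
        exact ⟨(Over.pullback v).map g, by rw [← Functor.map_comp, hg], K207.SubTor.torsion_bc v hker⟩) (hfib s)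
    rw [← range_inter, ← h8, ← hφ]
    change Set.range ((φ.hom.left ≫ (js s).left) ≫ _).base = _
    rw [Category.assoc]
    change Set.range (((js s).left ≫ Limits.pullback.fst G.hom ((Spec (CommRingCat.of A)).fromSpecResidueField s)).base ∘ φ.hom.left.base) = _
    rw [Set.range_comp, Set.range_eq_univ.2, Set.image_univ]
    exact ((Over.forget _).mapIso φ).hom.homeomorph.surjective
  ext y
  constructor
  · intro hy
    exact ((key (G.hom.base y)).le ⟨hy, rfl⟩).1
  · intro hy
    exact ((key (G.hom.base y)).ge ⟨hy, rfl⟩).1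

end Groth.Agent.S8444
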