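import Groth.Statements.S8445
import Groth.Agent.Red.K212.Weight
import Groth.Agent.Sga3B.MaxTorNear900

set_option autoImplicit false
universe u
open CategoryTheory MonoidalCategory CartesianMonoidalCategory MonObj GrpObj AlgebraicGeometry CategoryTheory.Limits
open Red

namespace Groth.Agent.S8445

/-- Let G be an S-group scheme, i : T ⟶ G a torus of G, j : Q ⟶ T a subtorus, α a character of T whose
restriction to Q is non-trivial on every geometric fibre, and p₊, p₋ : 𝔾_a ⟶ G homomorphisms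
normalised by T with multipliers α and α⁻¹ (i(t) p₊(x) i(t)⁻¹ = p₊(α(t) x), i(t) p₋(y) i(t)⁻¹ =
p₋(α(t)⁻¹ y)) such that the morphism 𝔾_a ×_S T ×_S 𝔾_a ⟶ G, (y, t, x) ↦ p₋(y) i(t) p₊(x), is an open
immersion. Let q ≥ 0 and let p : 𝔾_a ⟶ G be a homomorphism such that conjugating p(x) q times by
i(j(t)) gives p(α(t) x), for all points t of Q and x of 𝔾_a. Then there is exactly one S-point ν of
𝔾_a such that p(x) = p₊(ν x^q) for every point x of 𝔾_a with values in any S-scheme. -/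
theorem result (S : Scheme.{u}) (G T : Over S) [GrpObj G] [GrpObj T] (i : T ⟶ G) [IsMonHom i] [Mono i] (hT : Red.IsTorus T)
    (Q : Over S) [GrpObj Q] (j : Q ⟶ T) [IsMonHom j] [Mono j] (hQ : Red.IsTorus Q)
    (α : T ⟶ Red.Gm S) [IsMonHom α] (hα : ∀ s : S, (Over.pullback (Red.geomPt s)).map (j ≫ α) ≠ 1)
    (pp pm : Red.Ga S ⟶ G) [IsMonHom pp] [IsMonHom pm]
    (hpp : ∀ (X : Over S) (t : X ⟶ T) (x : X ⟶ Red.Ga S), ∃ x' : X ⟶ Red.Ga S,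
      x' ≫ pp = (t ≫ i) * (x ≫ pp) * (t ≫ i)⁻¹ ∧ Red.gaFn x' = Red.gmFn (t ≫ α) * Red.gaFn x)
    (hpm : ∀ (X : Over S) (t : X ⟶ T) (y : X ⟶ Red.Ga S), ∃ y' : X ⟶ Red.Ga S,
      y' ≫ pm = (t ≫ i) * (y ≫ pm) * (t ≫ i)⁻¹ ∧ Red.gaFn y' * Red.gmFn (t ≫ α) = Red.gaFn y)
    (hΩ : IsOpenImmersion (((pm ⊗ₘ i) ⊗ₘ pp) ≫ (μ[G] ▷ G) ≫ μ[G]).left) (q : ℕ) (p : Red.Ga S ⟶ G) [IsMonHom p]
    (hp : ∀ (X : Over S) (t : X ⟶ Q) (x x' : X ⟶ Red.Ga S), Red.gaFn x' = Red.gmFn (t ≫ j ≫ α) * Red.gaFn x →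
      x' ≫ p = ((t ≫ j ≫ i) ^ q) * (x ≫ p) * ((t ≫ j ≫ i) ^ q)⁻¹) :
    ∃! ν : 𝟙_ (Over S) ⟶ Red.Ga S, ∀ (X : Over S) (x y : X ⟶ Red.Ga S),
      Red.gaFn y = Red.gaFn (toUnit X ≫ ν) * Red.gaFn x ^ q → x ≫ p = y ≫ pp := by
  have hcomm := Groth.Agent.Sga3B.MaxTorNear900.mul_comm_of_isTorus hT
  obtain ⟨ν, hν⟩ := K212.Weight.exists_nu (Q := Q) (j := j) (q := q) hcomm hpp hpm hΩ hQ hα hp
  have hmono : Mono (Groth.Agent.Sga3.H811.Pts.cell i pp pm) := by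
    have : IsOpenImmersion (Groth.Agent.Sga3.H811.Pts.cell i pp pm).left := hΩ
    exact Over.mono_of_mono_left _
  refine ⟨ν, ?_, ?_⟩
  · intro X x y hy
    have h1 := hν X (Red.gaFn x)
    rw [← hy, Groth.Agent.Sga3B.GaPts.gaPt_gaFn, Groth.Agent.Sga3B.GaPts.gaPt_gaFn] at h1
    exact h1
  · intro ν' hν'
    have h1 := hν' (𝟙_ (Over S)) (Groth.Agent.Sga3B.GaPts.gaPt _ 1) ν' (by
      rw [Groth.Agent.Sga3B.GaPts.gaFn_gaPt, one_pow, _root_.mul_one]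
      have : toUnit (𝟙_ (Over S)) = 𝟙 _ := toUnit_unique _ _
      rw [this, Category.id_comp])
    have h2 := hν (𝟙_ (Over S)) 1
    have h3 : toUnit (𝟙_ (Over S)) = 𝟙 _ := toUnit_unique _ _
    rw [h3, Category.id_comp, one_pow, _root_.mul_one, Groth.Agent.Sga3B.GaPts.gaPt_gaFn, h1] at h2
    -- `ν' ≫ pp = ν ≫ pp`
    have e1 : ∀ x : 𝟙_ (Over S) ⟶ Red.Ga S, x ≫ pp =
        lift (lift 1 1) x ≫ Groth.Agent.Sga3.H811.Pts.cell i pp pm := by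
      intro x
      rw [Groth.Agent.Sga3.H811.Pts.lift_cell, MonObj.one_comp, MonObj.one_comp, _root_.one_mul,
        _root_.one_mul]
    rw [e1, e1, cancel_mono] at h2
    have h4 := congrArg (fun k => k ≫ snd _ _) h2
    simpa using h4

end Groth.Agent.S8445
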