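import Groth.Statements.S8451
import Groth.Agent.Red.K212.R1Cent

set_option autoImplicit false
universe u
open CategoryTheory MonoidalCategory CartesianMonoidalCategory MonObj GrpObj AlgebraicGeometry CategoryTheory.Limits
open Red

namespace Groth.Agent.S8451

/-- Let G be a reductive S-group, i : T ⟶ G a maximal torus, α a character of T non-trivial on every
geometric fibre, p₊, p₋ : 𝔾_a ⟶ G monomorphisms of groups normalised by T with multipliers α and α⁻¹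
whose cell map (y, t, x) ↦ p₋(y) i(t) p₊(x) is an open immersion 𝔾_a ×_S T ×_S 𝔾_a ⟶ G, and α^* :
𝔾_m ⟶ T the coroot: α ∘ α^* is the squaring map and p₊(x) p₋(y) = p₋(y/(1+xy)) · i(α^*(1+xy)) ·
p₊(x/(1+xy)) whenever 1 + xy is invertible (so p₊ and p₋ are dual to each other). Let e₁, em be the
S-points of 𝔾_a with coordinates 1 and -1, u = p₊(e₁) and w₀ = p₊(e₁) p₋(em) p₊(e₁). Let n be a
non-zero integer. If an S-point w of G satisfies w · i(α^*(z))^n · w⁻¹ = i(α^*(z))^{-n} for all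
points z of 𝔾_m (after base change) and w u w⁻¹ = u⁻¹ w u⁻¹, then w = w₀. (The published statement
has the condition (w u)³ = e in place of w u w⁻¹ = u⁻¹ w u⁻¹, and also asserts that w₀ has both
properties. The cube condition does not determine w when the centre of G contains a non-trivial cube
root of unity: for G = GL₂ over a field containing a primitive cube root of unity ζ, the point ζ·w₀
inverts the coroot and satisfies (ζ w₀ u)³ = e. The published proof uses the conjugation identity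
stated here, which is equivalent to (w u)³ = e once w² = i(α^*(-1)).) -/
theorem result (S : Scheme.{u}) (G T : Over S) [GrpObj G] [GrpObj T] (i : T ⟶ G) [IsMonHom i] [Mono i] (hG : Red.IsReductive G) (hTm : Red.IsMaximalTorus i)
    (α : T ⟶ Red.Gm S) [IsMonHom α] (hα : ∀ s : S, (Over.pullback (Red.geomPt s)).map α ≠ 1)
    (pp pm : Red.Ga S ⟶ G) [IsMonHom pp] [Mono pp] [IsMonHom pm] [Mono pm]
    (hpp : ∀ (X : Over S) (t : X ⟶ T) (x : X ⟶ Red.Ga S), ∃ x' : X ⟶ Red.Ga S,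
      x' ≫ pp = (t ≫ i) * (x ≫ pp) * (t ≫ i)⁻¹ ∧ Red.gaFn x' = Red.gmFn (t ≫ α) * Red.gaFn x)
    (hpm : ∀ (X : Over S) (t : X ⟶ T) (y : X ⟶ Red.Ga S), ∃ y' : X ⟶ Red.Ga S,
      y' ≫ pm = (t ≫ i) * (y ≫ pm) * (t ≫ i)⁻¹ ∧ Red.gaFn y' * Red.gmFn (t ≫ α) = Red.gaFn y)
    (hΩ : IsOpenImmersion (((pm ⊗ₘ i) ⊗ₘ pp) ≫ (μ[G] ▷ G) ≫ μ[G]).left)
    (av : Red.Gm S ⟶ T) [IsMonHom av] (h2 : av ≫ α = (𝟙 (Red.Gm S)) ^ 2)
    (hF : ∀ (X : Over S) (x y : X ⟶ Red.Ga S), IsUnit (1 + Red.gaFn x * Red.gaFn y) →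
      ∃ (x' y' : X ⟶ Red.Ga S) (z : X ⟶ Red.Gm S), Red.gmFn z = 1 + Red.gaFn x * Red.gaFn y ∧
        Red.gaFn x' * Red.gmFn z = Red.gaFn x ∧ Red.gaFn y' * Red.gmFn z = Red.gaFn y ∧
        (x ≫ pp) * (y ≫ pm) = (y' ≫ pm) * (z ≫ av ≫ i) * (x' ≫ pp))
    (e₁ em : 𝟙_ (Over S) ⟶ Red.Ga S) (he₁ : Red.gaFn e₁ = 1) (hem : Red.gaFn em = -1)
    (n : ℤ) (hn : n ≠ 0) (w : 𝟙_ (Over S) ⟶ G)
    (hw : ∀ (X : Over S) (z : X ⟶ Red.Gm S),
      (toUnit X ≫ w) * (((z ≫ av) ^ n) ≫ i) * (toUnit X ≫ w)⁻¹ = ((((z ≫ av) ^ n) ≫ i))⁻¹)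
    (hconj : w * (e₁ ≫ pp) * w⁻¹ = (e₁ ≫ pp)⁻¹ * w * (e₁ ≫ pp)⁻¹) :
    w = (e₁ ≫ pp) * (em ≫ pm) * (e₁ ≫ pp) := by
  have hT := hTm.2.2.1
  have hcomm := Groth.Agent.Sga3B.MaxTorNear900.mul_comm_of_isTorus hT
  have H : K212.R1Mk.R1Hyp i α pp pm av := ⟨inferInstance, inferInstance, inferInstance, inferInstance,
    inferInstance, hcomm, hpp, hpm, h2, hF⟩
  have := hG.2.1
  set D := H.sys (𝟙_ (Over S)) with hD
  have e1 : (e₁ ≫ pp) * (em ≫ pm) * (e₁ ≫ pp) = D.w 1 := by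
    rw [K212.R1Mk.w_eq H e₁ em 1 (by rw [he₁, Units.val_one]) (by rw [he₁, hem, _root_.mul_one])]
  have e2 : e₁ ≫ pp = D.p 1 := by rw [K212.R1Mk.comp_pp H, he₁]
  rw [e1]
  rw [e2] at hconj
  -- `w w₀⁻¹` centralises the coroot
  have hc : K212.R1Cent.Comm H n.natAbs (𝟙_ (Over S)) (w * (D.w 1)⁻¹) := by
    refine K212.R1Cent.comm_of_zpow H (n := n) fun X' y z => ?_
    have h3 := hw X' z
    rw [K212.R1Cent.zpow_eq H] at h3 ⊢
    have e3 : y ≫ w = toUnit X' ≫ w := by rw [toUnit_unique y (toUnit X')]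
    rw [MonObj.comp_mul, GrpObj.comp_inv, K212.R1Conj.w_nat, map_one, e3]
    set D' := H.sys X' with hD'
    set W := toUnit X' ≫ w with hW
    have h4 := D'.w_h 1 (K212.R1Mk.uPt z ^ n)⁻¹
    rw [map_inv, _root_.inv_inv] at h4
    -- `(w 1)⁻¹ h = h⁻¹ (w 1)⁻¹`
    have h5 : (D'.w 1)⁻¹ * D'.h (K212.R1Mk.uPt z ^ n) =
        (D'.h (K212.R1Mk.uPt z ^ n))⁻¹ * (D'.w 1)⁻¹ := by
      rw [inv_mul_eq_iff_eq_mul, ← _root_.mul_assoc, h4, mul_inv_cancel_right]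
    have h6 : W * (D'.h (K212.R1Mk.uPt z ^ n))⁻¹ = D'.h (K212.R1Mk.uPt z ^ n) * W := by
      rw [mul_inv_eq_iff_eq_mul] at h3
      rw [mul_inv_eq_iff_eq_mul, _root_.mul_assoc, h3, mul_inv_cancel_left]
    rw [_root_.mul_assoc, h5, ← _root_.mul_assoc, h6, _root_.mul_assoc]
  obtain ⟨t, ht⟩ := K212.R1Cent.exists_of_comm H hΩ (K212.Kpt.irreducible_of_isReductive hG)
      (Int.natAbs_ne_zero.mpr hn) hc
  have hwt : w = D.t t * D.w 1 := by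
    have h3 : D.t t = w * (D.w 1)⁻¹ := ht
    rw [h3, inv_mul_cancel_right]
  -- compute both sides
  have h3 := K212.R1Conj.w_p H (X := 𝟙_ (Over S)) 1 1
  rw [inv_one, Units.val_one, one_pow, _root_.mul_one] at h3
  change D.w 1 * D.p 1 = D.q (-1) * D.w 1 at h3
  rw [hwt] at hconj
  have e4 : D.t t * D.w 1 * D.p 1 * (D.t t * D.w 1)⁻¹ = D.t t * D.q (-1) * (D.t t)⁻¹ := by
    rw [_root_.mul_assoc (D.t t), h3]; group
  have e5 : (D.p 1)⁻¹ * (D.t t * D.w 1) * (D.p 1)⁻¹ =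
      D.t t * D.p (-(((D.ch t)⁻¹ : _ˣ) : Γ((𝟙_ (Over S)).left, ⊤))) * D.p 1 * D.q (-1) := by
    rw [← D.p_neg, ← _root_.mul_assoc, D.pt, K212.R1Alg.R1.w_def, inv_one, Units.val_one, D.p_neg]
    have : (((D.ch t)⁻¹ : _ˣ) : Γ((𝟙_ (Over S)).left, ⊤)) * -1 =
      -(((D.ch t)⁻¹ : _ˣ) : Γ((𝟙_ (Over S)).left, ⊤)) := by ring
    rw [this]
    group
  rw [e4, e5, D.tq] at hconj
  have e6 : D.q ((((D.ch t)⁻¹ : _ˣ) : Γ((𝟙_ (Over S)).left, ⊤)) * -1) * D.t 1 * D.p 0 =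
      D.t t * D.p (-(((D.ch t)⁻¹ : _ˣ) : Γ((𝟙_ (Over S)).left, ⊤)) + 1) * D.q (-1) := by
    rw [map_one, D.p_zero, _root_.mul_one, _root_.mul_one, D.p_add]
    rw [mul_inv_cancel_right] at hconj
    rw [hconj]
    simp only [_root_.mul_assoc]
  have e7 : D.q ((((D.ch t)⁻¹ : _ˣ) : Γ((𝟙_ (Over S)).left, ⊤)) * -1 + 1) * D.t 1 * D.p 0 =
      D.q 0 * D.t t * D.p (-(((D.ch t)⁻¹ : _ˣ) : Γ((𝟙_ (Over S)).left, ⊤)) + 1) := by
    rw [D.q_add, D.q_zero, _root_.one_mul]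
    have h8 : D.q 1 = (D.q (-1))⁻¹ := by rw [D.q_neg, _root_.inv_inv]
    rw [map_one, D.p_zero, _root_.mul_one, _root_.mul_one] at e6 ⊢
    rw [h8, e6]
    group
  obtain ⟨-, h9, -⟩ := K212.R1Geo.cell_inj H hΩ e7
  rw [hwt, ← h9, map_one, _root_.one_mul]

end Groth.Agent.S8451
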