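import Groth.Statements.S8456
import Groth.Agent.S8446
import Groth.Agent.S4131
import Groth.Agent.Red.K212.Centre
import Groth.Agent.Red.K215.R1Closed

set_option autoImplicit false
universe u
open CategoryTheory MonoidalCategory CartesianMonoidalCategory MonObj GrpObj AlgebraicGeometry CategoryTheory.Limits
open Red

namespace Groth.Agent.S8456

/-- Let G be a reductive S-group, i : T ⟶ G a maximal torus, α a character of T non-trivial on every
geometric fibre, and p₊, p₋ : 𝔾_a ⟶ G monomorphisms of groups normalised by T with multipliers α and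
α⁻¹ such that 𝔾_a ×_S T ×_S 𝔾_a ⟶ G, (y, t, x) ↦ p₋(y) i(t) p₊(x), is an open immersion (a rank-one
system: G has semisimple rank 1 and p₊, p₋ trivialise the root groups of α and -α). Then the
subgroups U_α = im p₊, U_{-α} = im p₋, T·U_α and T·U_{-α} are closed in G: p₊ and p₋ are closed
immersions, and so are the morphisms T ×_S 𝔾_a ⟶ G, (t, x) ↦ i(t) p₊(x) and (t, y) ↦ i(t) p₋(y). -/
theorem result (S : Scheme.{u}) (G T : Over S) [GrpObj G] [GrpObj T] (i : T ⟶ G) [IsMonHom i] [Mono i] (hG : Red.IsReductive G) (hTm : Red.IsMaximalTorus i)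
    (α : T ⟶ Red.Gm S) [IsMonHom α] (hα : ∀ s : S, (Over.pullback (Red.geomPt s)).map α ≠ 1)
    (pp pm : Red.Ga S ⟶ G) [IsMonHom pp] [Mono pp] [IsMonHom pm] [Mono pm]
    (hpp : ∀ (X : Over S) (t : X ⟶ T) (x : X ⟶ Red.Ga S), ∃ x' : X ⟶ Red.Ga S,
      x' ≫ pp = (t ≫ i) * (x ≫ pp) * (t ≫ i)⁻¹ ∧ Red.gaFn x' = Red.gmFn (t ≫ α) * Red.gaFn x)
    (hpm : ∀ (X : Over S) (t : X ⟶ T) (y : X ⟶ Red.Ga S), ∃ y' : X ⟶ Red.Ga S,
      y' ≫ pm = (t ≫ i) * (y ≫ pm) * (t ≫ i)⁻¹ ∧ Red.gaFn y' * Red.gmFn (t ≫ α) = Red.gaFn y)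
    (hΩ : IsOpenImmersion (((pm ⊗ₘ i) ⊗ₘ pp) ≫ (μ[G] ▷ G) ≫ μ[G]).left) :
    IsClosedImmersion pp.left ∧ IsClosedImmersion pm.left ∧
      IsClosedImmersion ((i ⊗ₘ pp) ≫ μ[G]).left ∧ IsClosedImmersion ((i ⊗ₘ pm) ≫ μ[G]).left := by
  have hT := hTm.2.2.1
  have hcomm := Groth.Agent.Sga3B.MaxTorNear900.mul_comm_of_isTorus hT
  have hnc : ∀ s : S, ∃ (X : Over (Spec (CommRingCat.of (AlgebraicClosure (S.residueField s)))))
      (x y : X ⟶ Red.bc (Red.geomPt s) (Red.Ga S)),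
      (x ≫ (Over.pullback (Red.geomPt s)).map pp) * (y ≫ (Over.pullback (Red.geomPt s)).map pm) ≠
        (y ≫ (Over.pullback (Red.geomPt s)).map pm) * (x ≫ (Over.pullback (Red.geomPt s)).map pp) :=
    fun s => Groth.Agent.S8446.result S G T i hG hTm α hα pp pm hpp hpm hΩ s
  obtain ⟨⟨a, av⟩, ⟨hav, h2, h⟩, -⟩ :=
    Groth.Agent.S4131.result S G T i hT α hα pp pm hpp hpm hΩ hnc
  have hav' : IsMonHom av := hav
  have H : K212.R1Mk.R1Hyp i α pp (K212.Rescale.scale a⁻¹ ≫ pm) av :=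
    K212.Centre.r1Hyp_scale hcomm hpp hpm h2 a fun X x y => (h X x y).2
  have hsm := hG.2.1
  have haff := hG.1
  have hΩ' := K212.Rescale.isOpenImmersion_cell_scale a⁻¹ hΩ
  have hirr := K212.Kpt.irreducible_of_isReductive hG
  have hsepT : IsSeparated T.hom := by
    have h1 : i.left ≫ G.hom = T.hom := Over.w i
    have h2 : Mono i.left := inferInstance
    rw [← h1]
    infer_instance
  have c1 := K215.R1Closed.isClosedImmersion_pp H hΩ' hsepT hirr
  have c2 := K215.R1Closed.isClosedImmersion_pm H hΩ' hsepT hirr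
  have c3 := K215.R1Closed.isClosedImmersion_bp H hΩ' hsepT hirr
  have c4 := K215.R1Closed.isClosedImmersion_bm H hΩ' hsepT hirr
  have hiso : IsIso (K212.Rescale.scale (S := S) a⁻¹) := inferInstance
  have hiso1 : IsIso (K212.Rescale.scale (S := S) a⁻¹).left :=
    inferInstanceAs (IsIso ((Over.forget S).map (K212.Rescale.scale (S := S) a⁻¹)))
  refine ⟨c1, ?_, c3, ?_⟩
  · have e1 : pm.left = inv (K212.Rescale.scale (S := S) a⁻¹).left ≫ (K212.Rescale.scale a⁻¹ ≫ pm).left := by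
      rw [Over.comp_left, IsIso.inv_hom_id_assoc]
    rw [e1]
    infer_instance
  · have hiso2 : IsIso ((𝟙 T) ⊗ₘ (K212.Rescale.scale (S := S) a⁻¹)) := inferInstance
    have hiso3 : IsIso ((𝟙 T) ⊗ₘ (K212.Rescale.scale (S := S) a⁻¹)).left :=
      inferInstanceAs (IsIso ((Over.forget S).map ((𝟙 T) ⊗ₘ (K212.Rescale.scale (S := S) a⁻¹))))
    have e2 : K215.R1Closed.bp i (K212.Rescale.scale a⁻¹ ≫ pm) =
        ((𝟙 T) ⊗ₘ (K212.Rescale.scale (S := S) a⁻¹)) ≫ (i ⊗ₘ pm) ≫ μ[G] := by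
      rw [K215.R1Closed.bp, ← Category.assoc, tensorHom_comp_tensorHom, Category.id_comp]
    rw [e2, Over.comp_left] at c4
    have e3 : ((i ⊗ₘ pm) ≫ μ[G]).left = inv ((𝟙 T) ⊗ₘ (K212.Rescale.scale (S := S) a⁻¹)).left ≫
        ((𝟙 T) ⊗ₘ (K212.Rescale.scale (S := S) a⁻¹)).left ≫ ((i ⊗ₘ pm) ≫ μ[G]).left := by
      rw [IsIso.inv_hom_id_assoc]
    rw [e3]
    infer_instance

end Groth.Agent.S8456
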