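import Groth.Statements.S8457
import Groth.Agent.Red.K215.R1Gen

set_option autoImplicit false
universe u
open CategoryTheory MonoidalCategory CartesianMonoidalCategory MonObj GrpObj AlgebraicGeometry CategoryTheory.Limits
open Red

namespace Groth.Agent.S8457

/-- Generators and relations for a group of semisimple rank 1: for H an S-group scheme. Let G be a
reductive S-group, i : T ⟶ G a maximal torus, α a character of T non-trivial on every geometric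
fibre, p₊, p₋ : 𝔾_a ⟶ G monomorphisms of groups normalised by T with multipliers α and α⁻¹ whose
cell map (y, t, x) ↦ p₋(y) i(t) p₊(x) is an open immersion 𝔾_a ×_S T ×_S 𝔾_a ⟶ G, and α^* : 𝔾_m ⟶ T
the coroot: α ∘ α^* is the squaring map and p₊(x) p₋(y) = p₋(y/(1+xy)) · i(α^*(1+xy)) · p₊(x/(1+xy))
whenever 1 + xy is invertible (so p₊ and p₋ are dual to each other). Let e₁, em be the S-points of
𝔾_a with coordinates 1, -1 and m the S-point of 𝔾_m with coordinate -1; put u = p₊(e₁) and w =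
p₊(e₁) p₋(em) p₊(e₁). Let H be an S-group scheme, f_T : T ⟶ H and f_α : 𝔾_a ⟶ H homomorphisms and h
an S-point of H. Then there is exactly one homomorphism f : G ⟶ H with f ∘ i = f_T, f ∘ p₊ = f_α and
f(w) = h if and only if: (1) f_T(t) f_α(x) f_T(t)⁻¹ = f_α(α(t) x) for all points t of T and x of
𝔾_a; (2) h f_T(t) h⁻¹ = f_T(t · α^*(α(t))⁻¹) for all points t of T; (3) h² = f_T(α^*(m)); (4) (h ·
f_α(e₁))³ = e. (The published statement allows H to be any fppf sheaf of groups.) -/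
theorem result (S : Scheme.{u}) (G T : Over S) [GrpObj G] [GrpObj T] (i : T ⟶ G) [IsMonHom i] [Mono i] (hG : Red.IsReductive G) (hTm : Red.IsMaximalTorus i)
    (α : T ⟶ Red.Gm S) [IsMonHom α] (hα : ∀ s : S, (Over.pullback (Red.geomPt s)).map α ≠ 1)
    (pp pm : Red.Ga S ⟶ G) [IsMonHom pp] [Mono pp] [IsMonHom pm] [Mono pm]
    (hpp : ∀ (X : Over S) (t : X ⟶ T) (x : X ⟶ Red.Ga S), ∃ x' : X ⟶ Red.Ga S,
      x' ≫ pp = (t ≫ i) * (x ≫ pp) * (t ≫ i)⁻¹ ∧ Red.gaFn x' = Red.gmFn (t ≫ α) * Red.gaFn x)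
    (hpm : ∀ (X : Over S) (t : X ⟶ T) (y : X ⟶ Red.Ga S), ∃ y' : X ⟶ Red.Ga S,
      y' ≫ pm = (t ≫ i) * (y ≫ pm) * (t ≫ i)⁻¹ ∧ Red.gaFn y' * Red.gmFn (t ≫ α) = Red.gaFn y)
    (hΩ : IsOpenImmersion (((pm ⊗ₘ i) ⊗ₘ pp) ≫ (μ[G] ▷ G) ≫ μ[G]).left)
    (av : Red.Gm S ⟶ T) [IsMonHom av] (h2 : av ≫ α = (𝟙 (Red.Gm S)) ^ 2)
    (hF : ∀ (X : Over S) (x y : X ⟶ Red.Ga S), IsUnit (1 + Red.gaFn x * Red.gaFn y) →
      ∃ (x' y' : X ⟶ Red.Ga S) (z : X ⟶ Red.Gm S), Red.gmFn z = 1 + Red.gaFn x * Red.gaFn y ∧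
        Red.gaFn x' * Red.gmFn z = Red.gaFn x ∧ Red.gaFn y' * Red.gmFn z = Red.gaFn y ∧
        (x ≫ pp) * (y ≫ pm) = (y' ≫ pm) * (z ≫ av ≫ i) * (x' ≫ pp))
    (e₁ em : 𝟙_ (Over S) ⟶ Red.Ga S) (he₁ : Red.gaFn e₁ = 1) (hem : Red.gaFn em = -1)
    (m : 𝟙_ (Over S) ⟶ Red.Gm S) (hm : Red.gmFn m = -1)
    (H : Over S) [GrpObj H] (fT : T ⟶ H) [IsMonHom fT] (fα : Red.Ga S ⟶ H) [IsMonHom fα] (h : 𝟙_ (Over S) ⟶ H) :
    (∃! f : G ⟶ H, IsMonHom f ∧ i ≫ f = fT ∧ pp ≫ f = fα ∧ ((e₁ ≫ pp) * (em ≫ pm) * (e₁ ≫ pp)) ≫ f = h) ↔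
      ((∀ (X : Over S) (t : X ⟶ T) (x x' : X ⟶ Red.Ga S), Red.gaFn x' = Red.gmFn (t ≫ α) * Red.gaFn x →
          (t ≫ fT) * (x ≫ fα) * (t ≫ fT)⁻¹ = x' ≫ fα) ∧
        (∀ (X : Over S) (t : X ⟶ T), (toUnit X ≫ h) * (t ≫ fT) * (toUnit X ≫ h)⁻¹ = (t * (t ≫ α ≫ av)⁻¹) ≫ fT) ∧
        h ^ 2 = m ≫ av ≫ fT ∧ (h * (e₁ ≫ fα)) ^ 3 = 1) := by
  have hT := hTm.2.2.1
  have hcomm := Groth.Agent.Sga3B.MaxTorNear900.mul_comm_of_isTorus hT
  have R : K212.R1Mk.R1Hyp i α pp pm av := ⟨inferInstance, inferInstance, inferInstance, inferInstance,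
    inferInstance, hcomm, hpp, hpm, h2, hF⟩
  have := hG.2.1
  have hirr := K212.Kpt.irreducible_of_isReductive hG
  have hw1 : (e₁ ≫ pp) * (em ≫ pm) * (e₁ ≫ pp) = (R.sys (𝟙_ (Over S))).w 1 :=
    K212.R1Mk.w_eq R e₁ em 1 (by rw [he₁, Units.val_one]) (by rw [he₁, hem, _root_.mul_one])
  have hwX : ∀ X : Over S, toUnit X ≫ ((e₁ ≫ pp) * (em ≫ pm) * (e₁ ≫ pp)) = (R.sys X).w 1 := by
    intro X
    rw [hw1, K212.R1Conj.w_nat, map_one]
  have hpmX : ∀ X : Over S, ∀ y : Γ(X.left, ⊤), (R.sys X).q y =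
      (R.sys X).w 1 * ((R.sys X).p y)⁻¹ * ((R.sys X).w 1)⁻¹ := by
    intro X y
    rw [eq_mul_inv_iff_mul_eq, K212.R1Geo.q_w, K212.R1Alg.R1.p_neg]
  constructor
  · rintro ⟨f, ⟨hf, hfi, hfp, hfw⟩, -⟩
    have hfwX : ∀ X : Over S, toUnit X ≫ h = (R.sys X).w 1 ≫ f := by
      intro X
      rw [← hfw, ← Category.assoc, hwX]
    have hft : ∀ (X : Over S) (t : X ⟶ T), t ≫ fT = (R.sys X).t t ≫ f := by
      intro X t
      rw [← hfi, ← Category.assoc]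
      rfl
    have hfx : ∀ (X : Over S) (x : X ⟶ Red.Ga S), x ≫ fα = (R.sys X).p (Red.gaFn x) ≫ f := by
      intro X x
      rw [← hfp, ← Category.assoc, K212.R1Mk.comp_pp R]
    refine ⟨?_, ?_, ?_, ?_⟩
    · intro X t x x' hx
      rw [hft, hfx, hfx, ← GrpObj.inv_comp, ← MonObj.mul_comp, ← MonObj.mul_comp, (R.sys X).tp,
        mul_inv_cancel_right, hx]
      rfl
    · intro X t
      rw [hft, hft, hfwX, ← GrpObj.inv_comp, ← MonObj.mul_comp, ← MonObj.mul_comp, (R.sys X).w_t]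
      have e1 : t ≫ α ≫ av = (R.sys X).av ((R.sys X).ch t) := by
        rw [← Category.assoc, K212.R1Mk.comp_av R]
        rfl
      rw [e1, (R.sys X).tcomm t, map_mul, map_inv]
      rfl
    · have e1 : h = (R.sys (𝟙_ (Over S))).w 1 ≫ f := by
        rw [← hfwX, toUnit_unique (toUnit (𝟙_ (Over S))) (𝟙 _), Category.id_comp]
      have e2 : m ≫ av ≫ fT = (R.sys (𝟙_ (Over S))).h (K212.R1Mk.uPt m) ≫ f := by
        rw [← hfi, ← K212.R1Mk.comp_av_i R]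
        simp only [Category.assoc]
      have e3 : K212.R1Mk.uPt m = -1 := by
        apply Units.ext
        rw [K212.R1Mk.uPt_val, hm, Units.val_neg, Units.val_one]
      rw [e2, e3, pow_two, e1, ← MonObj.mul_comp, (R.sys (𝟙_ (Over S))).w_sq]
    · have e1 : h = (R.sys (𝟙_ (Over S))).w 1 ≫ f := by
        rw [← hfwX, toUnit_unique (toUnit (𝟙_ (Over S))) (𝟙 _), Category.id_comp]
      rw [e1, hfx, he₁, ← MonObj.mul_comp, ← MonObj.pow_comp]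
      set D := R.sys (𝟙_ (Over S)) with hD
      have c1 : D.w 1 * D.p 1 = D.q (-1) * D.w 1 := by
        have := K212.R1Conj.w_p R (X := 𝟙_ (Over S)) 1 1
        rwa [inv_one, Units.val_one, one_pow, _root_.mul_one] at this
      have c2 : D.w 1 = D.q (-1) * D.p 1 * D.q (-1) := by
        have := K212.R1Conj.w_eq_braid R (X := 𝟙_ (Over S)) 1
        rwa [inv_one, Units.val_one] at this
      have c3 : D.w 1 * D.w 1 = D.h (-1) := D.w_sq 1
      have c4 : D.q (-1) * D.h (-1) = D.h (-1) * D.q (-1) := by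
        rw [D.qh]; simp
      have c5 : D.h (-1) * D.h (-1) = 1 := D.h_neg_one_sq
      have c6 : (D.w 1 * D.p 1) ^ 3 = 1 := by
        calc (D.w 1 * D.p 1) ^ 3 = (D.w 1 * D.p 1) * (D.w 1 * D.p 1) * (D.w 1 * D.p 1) := by
              rw [pow_three']
          _ = (D.q (-1) * D.w 1) * (D.w 1 * D.p 1) * (D.q (-1) * D.w 1) := by rw [c1]
          _ = D.q (-1) * (D.w 1 * D.w 1) * D.p 1 * D.q (-1) * D.w 1 := by simp only [_root_.mul_assoc]
          _ = D.h (-1) * (D.q (-1) * D.p 1 * D.q (-1)) * D.w 1 := by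
              rw [c3, c4]; simp only [_root_.mul_assoc]
          _ = D.h (-1) * (D.w 1 * D.w 1) := by rw [← c2, _root_.mul_assoc]
          _ = 1 := by rw [c3, c5]
      rw [c6, MonObj.one_comp]
  · rintro ⟨g1, g2, g3, g4⟩
    have Hg : K215.R1Gen.GenHyp α av fT fα h m e₁ := ⟨inferInstance, inferInstance, inferInstance, inferInstance,
      hcomm, h2, hm, he₁, g1, g2, g3, g4⟩
    have R' := K215.R1Gen.r1Hyp Hg
    obtain ⟨f, hf, hfi, hfp, hfm⟩ := K215.R1Ext.exists_hom R hΩ R' hirr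
    have hfw : ((e₁ ≫ pp) * (em ≫ pm) * (e₁ ≫ pp)) ≫ f = h := by
      rw [MonObj.mul_comp, MonObj.mul_comp, Category.assoc, Category.assoc, hfp, hfm,
        K212.R1Mk.w_eq R' e₁ em 1 (by rw [he₁, Units.val_one]) (by rw [he₁, hem, _root_.mul_one]),
        K215.R1Gen.w_eq_h Hg, toUnit_unique (toUnit (𝟙_ (Over S))) (𝟙 _), Category.id_comp]
    refine ⟨f, ⟨hf, hfi, hfp, hfw⟩, ?_⟩
    rintro f' ⟨hf', hfi', hfp', hfw'⟩
    refine K215.R1Ext.hom_ext' R hΩ hirr (hfi'.trans hfi.symm) (hfp'.trans hfp.symm) ?_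
    have key : ∀ F : G ⟶ H, IsMonHom F → pp ≫ F = fα → ((e₁ ≫ pp) * (em ≫ pm) * (e₁ ≫ pp)) ≫ F = h →
        pm ≫ F = (toUnit _ ≫ h) * fα⁻¹ * (toUnit _ ≫ h)⁻¹ := by
      intro F hF1 hF2 hF3
      have e1 : pm = (R.sys (Red.Ga S)).q (Red.gaFn (𝟙 (Red.Ga S))) := by
        have := K212.R1Mk.comp_pm R (𝟙 (Red.Ga S))
        rwa [Category.id_comp] at this
      have e2 : (R.sys (Red.Ga S)).p (Red.gaFn (𝟙 (Red.Ga S))) ≫ F = fα := by
        have := K212.R1Mk.comp_pp R (𝟙 (Red.Ga S))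
        rw [Category.id_comp] at this
        rw [← this, hF2]
      have e3 : (R.sys (Red.Ga S)).w 1 ≫ F = toUnit _ ≫ h := by
        rw [← hwX, Category.assoc, hF3]
      rw [congrArg (fun k => k ≫ F) e1, hpmX, MonObj.mul_comp, MonObj.mul_comp, GrpObj.inv_comp, GrpObj.inv_comp, e2, e3]
    rw [key f hf hfp hfw, key f' hf' hfp' hfw']

end Groth.Agent.S8457
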