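import Groth.Statements.S8461
import Groth.Agent.Red.K213.CoxS

set_option autoImplicit false
universe u
open CategoryTheory MonoidalCategory CartesianMonoidalCategory MonObj GrpObj AlgebraicGeometry CategoryTheory.Limits
open Red

namespace Groth.Agent.S8461

/-- Let G be a pinned reductive S-group: a splitting D (maximal torus T ≅ D_S(M), root datum with root
homomorphisms u_c : 𝔾_a ⟶ G for all roots c, system of simple roots Δ) such that for every simple
root a the root homomorphisms of a and -a are dual to each other: u_a(x) u_{-a}(y) =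
u_{-a}(y/(1+xy)) · a^∨(1+xy) · u_a(x/(1+xy)) whenever 1 + xy is invertible, where a^∨ : 𝔾_m ⟶ T is
the coroot of a read through the splitting. For a root a put w_a = u_a(1) u_{-a}(-1) u_a(1) (an
S-point of G). Let a ≠ b be simple roots with ⟨b, a^∨⟩ = -2 and ⟨a, b^∨⟩ = -1 (the pair spans a
system of type B₂). Then t_{ab} = (w_a w_b)^4 = a^∨(-1) = (w_b w_a)^4. (The published statement is
for a pinned group whose simple roots are exactly a and b; this row states it for two simple roots a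
≠ b of any pinned group.) -/
theorem result (S : Scheme.{u}) (e₁ : 𝟙_ (Over S) ⟶ Red.Ga S) (he₁ : Red.gaFn e₁ = 1)
    (G : Over S) [GrpObj G] (D : Red.Pinning G)
    (avc : D.idx → (Red.Gm S ⟶ D.T))
    (havc : ∀ a, avc a = Red.DSmap S (D.P.coroot a).toAddMonoidHom ≫ D.split.inv.hom.hom)
    (hpair : ∀ a ∈ D.base.support, ∀ (X : Over S) (x y : X ⟶ Red.Ga S), IsUnit (1 + Red.gaFn x * Red.gaFn y) →
        ∃ (x' y' : X ⟶ Red.Ga S) (z : X ⟶ Red.Gm S), Red.gmFn z = 1 + Red.gaFn x * Red.gaFn y ∧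
          Red.gaFn x' * Red.gmFn z = Red.gaFn x ∧ Red.gaFn y' * Red.gmFn z = Red.gaFn y ∧
          (x ≫ D.u a) * (y ≫ D.u (D.P.reflectionPerm a a)) = (y' ≫ D.u (D.P.reflectionPerm a a)) * (z ≫ avc a ≫ D.i) * (x' ≫ D.u a))
    (w : D.idx → (𝟙_ (Over S) ⟶ G))
    (hw : ∀ a, w a = (e₁ ≫ D.u a) * (e₁ ≫ D.u (D.P.reflectionPerm a a))⁻¹ * (e₁ ≫ D.u a))
    (m₁ : 𝟙_ (Over S) ⟶ Red.Gm S) (hm₁ : Red.gmFn m₁ = -1)
    (a b : D.idx) (ha : a ∈ D.base.support) (hb : b ∈ D.base.support) (hne : a ≠ b)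
    (hba : D.P.pairing b a = -2) (hab : D.P.pairing a b = -1) :
    (w a * w b) ^ 4 = m₁ ≫ avc a ≫ D.i ∧ (w b * w a) ^ 4 = m₁ ≫ avc a ≫ D.i := by
  obtain rfl : avc = _ := funext havc
  have hgen : ∀ (R : Type u) [CommRing R] (s : Spec (CommRingCat.of R) ⟶ S)
      (g : Groth.Agent.Sga3B.PinMod.tB s R ⟶ 𝟙_ (Over S)),
      g ≫ (w a * w b) ^ 4 = g ≫ (m₁ ≫ (Red.DSmap S (D.P.coroot a).toAddMonoidHom ≫ D.split.inv.hom.hom) ≫ D.i) ∧
      g ≫ (w b * w a) ^ 4 = g ≫ (m₁ ≫ (Red.DSmap S (D.P.coroot a).toAddMonoidHom ≫ D.split.inv.hom.hom) ≫ D.i) := by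
    intro R _ s g
    obtain ⟨c⟩ := K213.PtKit.exists_chart' D.toSplitRed R s
    have key := K213.Cox.cox_b2 (D := c.datum D.toSplitRed) D.P (fun _ => rfl) D.pairing_eq D.base
      (Groth.Agent.Sga3B.PinModelOf.good D.toSplitRed c) ha hb hne
      (K213.PtKit.rank1_of_hpair D.toSplitRed c a (hpair a ha))
      (K213.PtKit.rank1_of_hpair D.toSplitRed c b (hpair b hb)) hba hab (B := R)
    have hWa := K213.CoxS.pt_w1 D.toSplitRed c e₁ he₁ hw g a
    have hWb := K213.CoxS.pt_w1 D.toSplitRed c e₁ he₁ hw g b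
    have hma := K213.CoxS.pt_m1 D.toSplitRed c hm₁ g (D.P.coroot a)
    simp only [MonObj.comp_mul, K213.CoxS.comp_pow', MonObj.comp_one, hWa, hWb, Category.assoc, hma,
      ← map_mul, ← map_pow]
    rw [key.1, key.2]
    exact ⟨rfl, rfl⟩
  exact ⟨K213.PtKit.hom_ext_tB fun R _ s g => (hgen R s g).1,
    K213.PtKit.hom_ext_tB fun R _ s g => (hgen R s g).2⟩

end Groth.Agent.S8461
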