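import Groth.Statements.S8463
import Groth.Agent.Red.K213.PtKit
import Groth.Agent.Red.K213.Rk2A

set_option autoImplicit false
universe u
open CategoryTheory MonoidalCategory CartesianMonoidalCategory MonObj GrpObj AlgebraicGeometry CategoryTheory.Limits
open Red

namespace Groth.Agent.S8463

/-- Let G be a pinned reductive S-group: a splitting D (maximal torus T ≅ D_S(M), root datum with root
homomorphisms u_c : 𝔾_a ⟶ G for all roots c, system of simple roots Δ) such that for every simple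
root a the root homomorphisms of a and -a are dual to each other: u_a(x) u_{-a}(y) =
u_{-a}(y/(1+xy)) · a^∨(1+xy) · u_a(x/(1+xy)) whenever 1 + xy is invertible, where a^∨ : 𝔾_m ⟶ T is
the coroot of a read through the splitting. For a root a put w_a = u_a(1) u_{-a}(-1) u_a(1) (an
S-point of G). Let a ≠ b be simple roots with ⟨b, a^∨⟩ = ⟨a, b^∨⟩ = -1 (type A₂) and put u_{a+b}(x)
= w_b u_a(x) w_b⁻¹. Then u_b(y) u_a(x) = u_a(x) u_b(y) u_{a+b}(x y) for all points x, y of 𝔾_a. (The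
published statement is for a pinned group whose simple roots are exactly a and b; this row states it
for two simple roots a ≠ b of any pinned group.) -/
theorem result (S : Scheme.{u}) (e₁ : 𝟙_ (Over S) ⟶ Red.Ga S) (he₁ : Red.gaFn e₁ = 1)
    (G : Over S) [GrpObj G] (D : Red.Pinning G)
    (avc : D.idx → (Red.Gm S ⟶ D.T))
    (havc : ∀ a, avc a = Red.DSmap S (D.P.coroot a).toAddMonoidHom ≫ D.split.inv.hom.hom)
    (hpair : ∀ a ∈ D.base.support, ∀ (X : Over S) (x y : X ⟶ Red.Ga S), IsUnit (1 + Red.gaFn x * Red.gaFn y) →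
        ∃ (x' y' : X ⟶ Red.Ga S) (z : X ⟶ Red.Gm S), Red.gmFn z = 1 + Red.gaFn x * Red.gaFn y ∧
          Red.gaFn x' * Red.gmFn z = Red.gaFn x ∧ Red.gaFn y' * Red.gmFn z = Red.gaFn y ∧
          (x ≫ D.u a) * (y ≫ D.u (D.P.reflectionPerm a a)) = (y' ≫ D.u (D.P.reflectionPerm a a)) * (z ≫ avc a ≫ D.i) * (x' ≫ D.u a))
    (w : D.idx → (𝟙_ (Over S) ⟶ G))
    (hw : ∀ a, w a = (e₁ ≫ D.u a) * (e₁ ≫ D.u (D.P.reflectionPerm a a))⁻¹ * (e₁ ≫ D.u a))
    (a b : D.idx) (ha : a ∈ D.base.support) (hb : b ∈ D.base.support) (hne : a ≠ b)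
    (hba : D.P.pairing b a = -1) (hab : D.P.pairing a b = -1)
    (uab : ∀ X : Over S, (X ⟶ Red.Ga S) → (X ⟶ G))
    (huab : ∀ (X : Over S) (x : X ⟶ Red.Ga S), uab X x = (toUnit X ≫ w b) * (x ≫ D.u a) * (toUnit X ≫ w b)⁻¹)
    (X : Over S) (x y xy : X ⟶ Red.Ga S) (hxy : Red.gaFn xy = Red.gaFn x * Red.gaFn y) :
    (y ≫ D.u b) * (x ≫ D.u a) = (x ≫ D.u a) * (y ≫ D.u b) * uab X xy := by
  obtain rfl : avc = _ := funext havc
  rw [huab]
  apply K213.PtKit.hom_ext_tB
  intro R _ s g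
  obtain ⟨c⟩ := K213.PtKit.exists_chart' D.toSplitRed R s
  have key := K213.Rk2.a2 (D := c.datum D.toSplitRed) D.P (fun _ => rfl) D.pairing_eq D.base
    (Groth.Agent.Sga3B.PinModelOf.good D.toSplitRed c) ha hb hne
    (K213.PtKit.rank1_of_hpair D.toSplitRed c a (hpair a ha))
    (K213.PtKit.rank1_of_hpair D.toSplitRed c b (hpair b hb)) hba hab (B := R) _ (fun _ => rfl)
  have h1 := key.1 (K213.PtKit.gaR s (g ≫ x)) (K213.PtKit.gaR s (g ≫ y))
  have hxy' : K213.PtKit.gaR s (g ≫ xy) =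
      K213.PtKit.gaR s (g ≫ x) * K213.PtKit.gaR s (g ≫ y) := by
    apply K213.PtKit.gaR_comp
    rw [hxy, map_mul, map_mul, K213.PtKit.app_gaFn, K213.PtKit.app_gaFn]
  have hW := K213.PtKit.pt_w' D.toSplitRed c e₁ he₁ hw g b
  have hU := K213.PtKit.pt_u' D.toSplitRed c g
  simp only [MonObj.comp_mul, GrpObj.comp_inv, hW, hU, hxy', ← map_mul, ← map_inv]
  rw [h1]
  simp only [_root_.mul_assoc]

end Groth.Agent.S8463
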