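import Groth.Statements.S8466
import Groth.Agent.Red.K213.NormI

set_option autoImplicit false
universe u
open CategoryTheory MonoidalCategory CartesianMonoidalCategory MonObj GrpObj AlgebraicGeometry CategoryTheory.Limits
open Red

namespace Groth.Agent.S8466

/-- Let G be a pinned reductive S-group: a splitting D (maximal torus T ≅ D_S(M), root datum with root
homomorphisms u_c : 𝔾_a ⟶ G for all roots c, system of simple roots Δ) such that for every simple
root a the root homomorphisms of a and -a are dual to each other: u_a(x) u_{-a}(y) =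
u_{-a}(y/(1+xy)) · a^∨(1+xy) · u_a(x/(1+xy)) whenever 1 + xy is invertible, where a^∨ : 𝔾_m ⟶ T is
the coroot of a read through the splitting. For a root a put w_a = u_a(1) u_{-a}(-1) u_a(1) (an
S-point of G). Let j : N ⟶ G be the normaliser of T (with T ⟶ N the inclusion), H an S-group scheme,
f_T : T ⟶ H a homomorphism and h_a (a a simple root) S-points of H. For simple roots a, b let n_{ab}
be the order of s_a s_b (as an automorphism of M) and t_{ab} = (w_a w_b)^{n_{ab}}, an S-point of T.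
Then there is exactly one homomorphism f_N : N ⟶ H inducing f_T on T and with f_N(w_a) = h_a for
every simple root a if and only if (i) f_T(t · a^∨(a(t))⁻¹) = h_a f_T(t) h_a⁻¹ for all simple a and
all points t of T, and (ii) f_T(t_{ab}) = (h_a h_b)^{n_{ab}} for all simple a, b. (The published
statement allows H to be any group functor turning disjoint unions into products.) -/
theorem result (S : Scheme.{u}) (e₁ : 𝟙_ (Over S) ⟶ Red.Ga S) (he₁ : Red.gaFn e₁ = 1)
    (G : Over S) [GrpObj G] (D : Red.Pinning G)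
    (avc : D.idx → (Red.Gm S ⟶ D.T))
    (havc : ∀ a, avc a = Red.DSmap S (D.P.coroot a).toAddMonoidHom ≫ D.split.inv.hom.hom)
    (hpair : ∀ a ∈ D.base.support, ∀ (X : Over S) (x y : X ⟶ Red.Ga S), IsUnit (1 + Red.gaFn x * Red.gaFn y) →
        ∃ (x' y' : X ⟶ Red.Ga S) (z : X ⟶ Red.Gm S), Red.gmFn z = 1 + Red.gaFn x * Red.gaFn y ∧
          Red.gaFn x' * Red.gmFn z = Red.gaFn x ∧ Red.gaFn y' * Red.gmFn z = Red.gaFn y ∧
          (x ≫ D.u a) * (y ≫ D.u (D.P.reflectionPerm a a)) = (y' ≫ D.u (D.P.reflectionPerm a a)) * (z ≫ avc a ≫ D.i) * (x' ≫ D.u a))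
    (w : D.idx → (𝟙_ (Over S) ⟶ G))
    (hw : ∀ a, w a = (e₁ ≫ D.u a) * (e₁ ≫ D.u (D.P.reflectionPerm a a))⁻¹ * (e₁ ≫ D.u a))
    (N : Over S) [GrpObj N] (j : N ⟶ G) (hN : Red.IsNormalizerOf D.i j) (tN : D.T ⟶ N) [IsMonHom tN] (htN : tN ≫ j = D.i)
    (H : Over S) [GrpObj H] (fT : D.T ⟶ H) [IsMonHom fT] (h : D.idx → (𝟙_ (Over S) ⟶ H)) :
    (∃! fN : N ⟶ H, IsMonHom fN ∧ tN ≫ fN = fT ∧
        ∀ a ∈ D.base.support, ∀ n : 𝟙_ (Over S) ⟶ N, n ≫ j = w a → n ≫ fN = h a) ↔
      ((∀ a ∈ D.base.support, ∀ (X : Over S) (t : X ⟶ D.T),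
          (t * (t ≫ (D.split.hom.hom.hom ≫ Red.chi S (D.P.root a)) ≫ avc a)⁻¹) ≫ fT = (toUnit X ≫ h a) * (t ≫ fT) * (toUnit X ≫ h a)⁻¹) ∧
        ∀ a ∈ D.base.support, ∀ b ∈ D.base.support, ∀ t : 𝟙_ (Over S) ⟶ D.T,
          t ≫ D.i = (w a * w b) ^ orderOf (D.P.reflection a * D.P.reflection b) →
            t ≫ fT = (h a * h b) ^ orderOf (D.P.reflection a * D.P.reflection b)) := by
  have hjmon : IsMonHom j := hN.1
  have hjmono : Mono j := hN.2.1
  have hr : ∀ (R : Type u) [CommRing R] (s : Spec (CommRingCat.of R) ⟶ S)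
      (c : Groth.Agent.Sga3B.Chart G s), ∀ a ∈ D.base.support,
      K213.RkOneR.Rank1 (D := c.datum D.toSplitRed) D.P a := by
    intro R _ s c a ha
    exact K213.PtKit.rank1_of_hpair D.toSplitRed c a (by rw [← havc]; exact hpair a ha)
  -- points of `N` normalise the torus
  have hj : ∀ (X : Over S) (x : X ⟶ N), K213.Norm.NT D (x ≫ j) := by
    intro X x X' x' t
    exact (((hN.2.2 X (x ≫ j)).mp ⟨x, rfl⟩) X' x' t).1
  -- the elements `w_a` are in `N`
  have hwc := fun (a : D.idx) (ha : a ∈ D.base.support) (X : Over S) (t : X ⟶ D.T) =>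
    K213.Norm.w_conj D hr e₁ he₁ w hw ha t
  have hwN : ∀ a ∈ D.base.support, ∃ n : 𝟙_ (Over S) ⟶ N, n ≫ j = w a := by
    intro a ha
    rw [hN.2.2]
    intro X' x t
    rw [toUnit_unique x (toUnit X')]
    refine ⟨⟨t ≫ K213.Norm.sR D a, hwc a ha X' t⟩, ⟨t ≫ K213.Norm.sR D a, ?_⟩⟩
    have h1 := hwc a ha X' (t ≫ K213.Norm.sR D a)
    have h2 : (t ≫ K213.Norm.sR D a) ≫ K213.Norm.sR D a = t := by
      rw [Category.assoc, K213.Norm.sR_sR, Category.comp_id]
    rw [h2] at h1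
    rw [← h1]
    group
  choose! n hn using hwN
  have hNc : ∀ a ∈ D.base.support, ∀ (X : Over S) (t : X ⟶ D.T),
      (toUnit X ≫ n a) * (t ≫ tN) * (toUnit X ≫ n a)⁻¹ = (t ≫ K213.Norm.sR D a) ≫ tN := by
    intro a ha X t
    rw [← cancel_mono j, MonObj.mul_comp, MonObj.mul_comp, GrpObj.inv_comp, Category.assoc,
      Category.assoc, Category.assoc, htN, hn a ha, hwc a ha X t]
  have htab : ∀ a ∈ D.base.support, ∀ c ∈ D.base.support, ∀ t : 𝟙_ (Over S) ⟶ D.T,
      t ≫ D.i = (w a * w c) ^ orderOf (D.P.reflection a * D.P.reflection c) →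
      t ≫ tN = (n a * n c) ^ orderOf (D.P.reflection a * D.P.reflection c) := by
    intro a ha c hc t ht
    have hpow : ∀ (f : 𝟙_ (Over S) ⟶ N) (k : ℕ), (f ^ k) ≫ j = (f ≫ j) ^ k := by
      intro f k
      induction k with
      | zero => rw [pow_zero, pow_zero, MonObj.one_comp]
      | succ k ih => rw [pow_succ, pow_succ, MonObj.mul_comp, ih]
    rw [← cancel_mono j, Category.assoc, htN, ht, hpow, MonObj.mul_comp, hn a ha, hn c hc]
  have hact := fun (a : D.idx) (X : Over S) (t : X ⟶ D.T) => K213.Norm.act_eq D avc havc a t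
  constructor
  · rintro ⟨fN, ⟨hf1, hf2, hf3⟩, -⟩
    refine ⟨?_, ?_⟩
    · intro a ha X t
      have e1 : n a ≫ fN = h a := hf3 a ha (n a) (hn a ha)
      rw [hact, ← hf2, ← Category.assoc, ← hNc a ha X t, MonObj.mul_comp, MonObj.mul_comp,
        GrpObj.inv_comp, Category.assoc, Category.assoc, e1]
    · intro a ha c hc t ht
      have e1 : n a ≫ fN = h a := hf3 a ha (n a) (hn a ha)
      have e2 : n c ≫ fN = h c := hf3 c hc (n c) (hn c hc)
      have hpow : ∀ (f : 𝟙_ (Over S) ⟶ N) (k : ℕ), (f ^ k) ≫ fN = (f ≫ fN) ^ k := by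
        intro f k
        induction k with
        | zero => rw [pow_zero, pow_zero, MonObj.one_comp]
        | succ k ih => rw [pow_succ, pow_succ, MonObj.mul_comp, ih]
      rw [← hf2, ← Category.assoc, htab a ha c hc t ht, hpow, MonObj.mul_comp, e1, e2]
  · rintro ⟨h1, h2⟩
    have hHc : ∀ a ∈ D.base.support, ∀ (X : Over S) (t : X ⟶ D.T),
        (toUnit X ≫ h a) * (t ≫ fT) * (toUnit X ≫ h a)⁻¹ = (t ≫ K213.Norm.sR D a) ≫ fT := by
      intro a ha X t
      rw [← h1 a ha X t, hact]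
    have hab : ∀ a ∈ D.base.support, ∀ c ∈ D.base.support, ∃ t : 𝟙_ (Over S) ⟶ D.T,
        t ≫ tN = (n a * n c) ^ orderOf (D.P.reflection a * D.P.reflection c) ∧
        t ≫ fT = (h a * h c) ^ orderOf (D.P.reflection a * D.P.reflection c) := by
      intro a ha c hc
      obtain ⟨t, ht⟩ := K213.Norm.exists_tab hr e₁ he₁ w hw ha hc
      exact ⟨t, htab a ha c hc t ht, h2 a ha c hc t ht⟩
    obtain ⟨f, hf1, hf2, hf3⟩ := K213.Norm.exists_hom_N j htN w hn hNc hHc hab hr e₁ he₁ hw hj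
    refine ⟨f, ⟨hf1, hf2, ?_⟩, ?_⟩
    · intro a ha m hm
      have e : m = n a := by rw [← cancel_mono j, hm, hn a ha]
      rw [e, hf3 a ha]
    · rintro f' ⟨hf1', hf2', hf3'⟩
      refine K213.Norm.hom_N_unique j htN w hn hr e₁ he₁ hw hj (by rw [hf2, hf2']) ?_
      intro a ha
      rw [hf3 a ha, hf3' a ha (n a) (hn a ha)]

end Groth.Agent.S8466
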