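import Groth.Statements.S8468
import Groth.Agent.Red.K213.TwMod

set_option autoImplicit false
universe u
open CategoryTheory MonoidalCategory CartesianMonoidalCategory MonObj GrpObj AlgebraicGeometry CategoryTheory.Limits
open Red

namespace Groth.Agent.S8468

/-- Full faithfulness of the pinned-root-datum functor: p-morphisms: Let S be a non-empty scheme and G,
G' two pinned reductive S-groups: splittings D, D' (tori T ≅ D_S(M), T' ≅ D_S(M'), root
homomorphisms for all roots, simple roots) in which for each simple root a the root homomorphisms of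
a and -a are dual (u_a(x) u_{-a}(y) = u_{-a}(y/(1+xy)) a^∨(1+xy) u_a(x/(1+xy)) for 1 + xy
invertible, a^∨ the coroot read through the splitting). Let p > 0 be an integer such that x ↦ x^p is
additive on functions of S-schemes, and let (h, d, q) be a p-morphism of pinned root data from that
of G' to that of G: h : M' → M linear, d a bijection from the roots of G to those of G' carrying
simple roots onto simple roots, q(a) a power of p, with h(d(a)) = q(a) a and ᵗh(a^∨) = q(a) d(a)^∨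
for every root a. Then there is exactly one homomorphism f : G ⟶ G' which induces D_S(h) : T ⟶ T' on
the tori and satisfies f(u_a(x)) = u'_{d(a)}(x^{q(a)}) and f(u_{-a}(x)) = u'_{-d(a)}(x^{q(a)}) for
every simple root a and every point x of 𝔾_a. -/
theorem result (S : Scheme.{u}) [Nonempty S] (e₁ : 𝟙_ (Over S) ⟶ Red.Ga S) (he₁ : Red.gaFn e₁ = 1)
    (G : Over S) [GrpObj G] (D : Red.Pinning G)
    (avc : D.idx → (Red.Gm S ⟶ D.T))
    (havc : ∀ a, avc a = Red.DSmap S (D.P.coroot a).toAddMonoidHom ≫ D.split.inv.hom.hom)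
    (hpair : ∀ a ∈ D.base.support, ∀ (X : Over S) (x y : X ⟶ Red.Ga S), IsUnit (1 + Red.gaFn x * Red.gaFn y) →
        ∃ (x' y' : X ⟶ Red.Ga S) (z : X ⟶ Red.Gm S), Red.gmFn z = 1 + Red.gaFn x * Red.gaFn y ∧
          Red.gaFn x' * Red.gmFn z = Red.gaFn x ∧ Red.gaFn y' * Red.gmFn z = Red.gaFn y ∧
          (x ≫ D.u a) * (y ≫ D.u (D.P.reflectionPerm a a)) = (y' ≫ D.u (D.P.reflectionPerm a a)) * (z ≫ avc a ≫ D.i) * (x' ≫ D.u a))
    (G' : Over S) [GrpObj G'] (D' : Red.Pinning G')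
    (avc' : D'.idx → (Red.Gm S ⟶ D'.T))
    (havc' : ∀ a, avc' a = Red.DSmap S (D'.P.coroot a).toAddMonoidHom ≫ D'.split.inv.hom.hom)
    (hpair' : ∀ a ∈ D'.base.support, ∀ (X : Over S) (x y : X ⟶ Red.Ga S), IsUnit (1 + Red.gaFn x * Red.gaFn y) →
        ∃ (x' y' : X ⟶ Red.Ga S) (z : X ⟶ Red.Gm S), Red.gmFn z = 1 + Red.gaFn x * Red.gaFn y ∧
          Red.gaFn x' * Red.gmFn z = Red.gaFn x ∧ Red.gaFn y' * Red.gmFn z = Red.gaFn y ∧
          (x ≫ D'.u a) * (y ≫ D'.u (D'.P.reflectionPerm a a)) = (y' ≫ D'.u (D'.P.reflectionPerm a a)) * (z ≫ avc' a ≫ D'.i) * (x' ≫ D'.u a))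
    (p : ℕ) (hp0 : 0 < p) (hp : ∀ (X : Over S) (a b : Γ(X.left, ⊤)), (a + b) ^ p = a ^ p + b ^ p)
    (hM : D'.M →ₗ[ℤ] D.M) (d : D.idx ≃ D'.idx) (q : D.idx → ℕ) (hq : ∀ a, ∃ n : ℕ, q a = p ^ n)
    (hroot : ∀ a, hM (D'.P.root (d a)) = (q a : ℤ) • D.P.root a)
    (hcoroot : ∀ a, hM.dualMap (D.P.coroot a) = (q a : ℤ) • D'.P.coroot (d a))
    (hΔ : ∀ a, a ∈ D.base.support ↔ d a ∈ D'.base.support) :
    ∃! f : G ⟶ G', IsMonHom f ∧
      D.i ≫ f = D.split.hom.hom.hom ≫ Red.DSmap S hM.toAddMonoidHom ≫ D'.split.inv.hom.hom ≫ D'.i ∧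
      ∀ a ∈ D.base.support, ∀ (X : Over S) (x y : X ⟶ Red.Ga S), Red.gaFn y = Red.gaFn x ^ q a →
        (x ≫ D.u a) ≫ f = y ≫ D'.u (d a) ∧
          (x ≫ D.u (D.P.reflectionPerm a a)) ≫ f = y ≫ D'.u (D'.P.reflectionPerm (d a) (d a)) := by
  let τ : K213.PMor.Tw D.P D.base D'.P D'.base :=
    { p := p
      p_pos := hp0
      hM := hM
      d := d
      q := q
      hq := hq
      hroot := hroot
      hcoroot := hcoroot
      hΔ := hΔ
      pe := D.pairing_eq
      pe' := D'.pairing_eq }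
  have hr : ∀ (R : Type u) [CommRing R] (s : Spec (CommRingCat.of R) ⟶ S)
      (c : Groth.Agent.Sga3B.Chart G s), ∀ a ∈ D.base.support,
      K213.RkOneR.Rank1 (D := c.datum D.toSplitRed) D.P a := by
    intro R _ s c a ha
    exact K213.PtKit.rank1_of_hpair D.toSplitRed c a (by rw [← havc]; exact hpair a ha)
  have hr' : ∀ (R : Type u) [CommRing R] (s : Spec (CommRingCat.of R) ⟶ S)
      (c : Groth.Agent.Sga3B.Chart G' s), ∀ a ∈ D'.base.support,
      K213.RkOneR.Rank1 (D := c.datum D'.toSplitRed) D'.P a := by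
    intro R _ s c a ha
    exact K213.PtKit.rank1_of_hpair D'.toSplitRed c a (by rw [← havc']; exact hpair' a ha)
  have key := K213.PMor.existsUnique_hom (τ := τ) (G := G) (G' := G')
    (j := D.split.inv.hom.hom ≫ D.i) (j' := D'.split.inv.hom.hom ≫ D'.i) (u := D.u) (u' := D'.u)
    (by
      intro R _ s
      refine ⟨?_, K213.PMor.exists_mdl D R s (hr R s), K213.PMor.exists_mdl D' R s (hr' R s)⟩
      intro B _ _ x y
      have h := hp (Groth.Agent.Sga3B.PinMod.tB s B) (K213.PtKit.fnHom s x) (K213.PtKit.fnHom s y)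
      rw [← map_add, ← map_pow, ← map_pow, ← map_pow, ← map_add] at h
      exact Groth.Agent.Sga3B.fnOf_injective s h)
  have hs1 : D.split.hom.hom.hom ≫ D.split.inv.hom.hom = 𝟙 _ :=
    congrArg (fun k => k.hom.hom) D.split.hom_inv_id
  have hs2 : D.split.inv.hom.hom ≫ D.split.hom.hom.hom = 𝟙 _ :=
    congrArg (fun k => k.hom.hom) D.split.inv_hom_id
  have e : ∀ f : G ⟶ G', ((D.split.inv.hom.hom ≫ D.i) ≫ f =
      Red.DSmap S τ.hM.toAddMonoidHom ≫ D'.split.inv.hom.hom ≫ D'.i) ↔ (D.i ≫ f =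
      D.split.hom.hom.hom ≫ Red.DSmap S hM.toAddMonoidHom ≫ D'.split.inv.hom.hom ≫ D'.i) := by
    intro f
    constructor
    · intro h
      have h1 := congrArg (fun k => D.split.hom.hom.hom ≫ k) h
      simp only [← Category.assoc, hs1, Category.id_comp] at h1
      simpa only [Category.assoc] using h1
    · intro h
      have h1 := congrArg (fun k => D.split.inv.hom.hom ≫ k) h
      simp only [← Category.assoc, hs2, Category.id_comp] at h1
      simpa only [Category.assoc] using h1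
  obtain ⟨f, ⟨h1, h2, h3⟩, h4⟩ := key
  exact ⟨f, ⟨h1, (e f).mp h2, h3⟩, fun g hg => h4 g ⟨hg.1, (e g).mpr hg.2.1, hg.2.2⟩⟩

end Groth.Agent.S8468
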