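import Groth.Statements.S8474
import Groth.Agent.Red.K215.MonoNhd
import Groth.Agent.RedSub.H635.GaSm
import Groth.Agent.Sga3B.MaxTorNear900

set_option autoImplicit false
universe u
open CategoryTheory MonoidalCategory CartesianMonoidalCategory MonObj GrpObj AlgebraicGeometry CategoryTheory.Limits
open Red

namespace Groth.Agent.S8474

/-- Let G be an S-group scheme of finite presentation over S, T an S-torus, α : T ⟶ 𝔾_m a character
non-trivial on every geometric fibre, and P = T ⋉_α 𝔾_a, given as an S-group P with homomorphisms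
j_T : T ⟶ P, j_U : 𝔾_a ⟶ P such that (t, x) ↦ j_T(t) j_U(x) is an isomorphism of schemes T ×_S 𝔾_a ≅
P and j_T(t) j_U(x) j_T(t)⁻¹ = j_U(α(t) x). Let s₀ be a point of S and f : P ⟶ G a homomorphism
whose base change to the fibre at s₀ is a monomorphism and whose restriction j_T ∘ f to T is a
monomorphism. Then there is an open neighbourhood U of s₀ over which f is a monomorphism. -/
theorem result (S : Scheme.{u}) (G T P : Over S) [GrpObj G] [GrpObj T] [GrpObj P]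
    [LocallyOfFinitePresentation G.hom] [QuasiCompact G.hom] [QuasiSeparated G.hom] (hT : Red.IsTorus T)
    (α : T ⟶ Red.Gm S) [IsMonHom α] (hα : ∀ s : S, (Over.pullback (Red.geomPt s)).map α ≠ 1)
    (jT : T ⟶ P) [IsMonHom jT] (jU : Red.Ga S ⟶ P) [IsMonHom jU] (hiso : IsIso ((jT ⊗ₘ jU) ≫ μ[P]))
    (hconj : ∀ (X : Over S) (t : X ⟶ T) (x x' : X ⟶ Red.Ga S), Red.gaFn x' = Red.gmFn (t ≫ α) * Red.gaFn x →
      (t ≫ jT) * (x ≫ jU) * (t ≫ jT)⁻¹ = x' ≫ jU)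
    (s₀ : S) (f : P ⟶ G) [IsMonHom f] [Mono ((Over.pullback (S.fromSpecResidueField s₀)).map f)] [Mono (jT ≫ f)] :
    ∃ U : S.Opens, s₀ ∈ U ∧ Mono ((Over.pullback U.ι).map f) := by
  have hcomm := Groth.Agent.Sga3B.MaxTorNear900.mul_comm_of_isTorus hT
  -- decomposition
  have hdec : ∀ {X : Over S} (z : X ⟶ T ⊗ Red.Ga S), z ≫ (jT ⊗ₘ jU) ≫ μ[P] =
      ((z ≫ fst _ _) ≫ jT) * ((z ≫ snd _ _) ≫ jU) := by
    intro X z
    have h1 : z = lift (z ≫ fst _ _) (z ≫ snd _ _) := by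
      apply CartesianMonoidalCategory.hom_ext <;> simp
    rw [Hom.mul_def]
    nth_rewrite 1 [h1]
    rw [← Category.assoc, lift_map]
  have hsurj : ∀ {X : Over S} (p : X ⟶ P), ∃ (t : X ⟶ T) (x : X ⟶ Red.Ga S), p = (t ≫ jT) * (x ≫ jU) := by
    intro X p
    refine ⟨(p ≫ inv ((jT ⊗ₘ jU) ≫ μ[P])) ≫ fst _ _, (p ≫ inv ((jT ⊗ₘ jU) ≫ μ[P])) ≫ snd _ _, ?_⟩
    rw [← hdec, Category.assoc, IsIso.inv_hom_id, Category.comp_id]
  have hjU : Mono jU := by
    constructor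
    intro X x y hxy
    have h1 : lift (1 : X ⟶ T) x ≫ (jT ⊗ₘ jU) ≫ μ[P] = lift (1 : X ⟶ T) y ≫ (jT ⊗ₘ jU) ≫ μ[P] := by
      rw [hdec, hdec, lift_fst, lift_fst, lift_snd, lift_snd, hxy]
    rw [cancel_mono] at h1
    have h2 := congrArg (fun k => k ≫ snd _ _) h1
    simpa using h2
  have hGa' : Smooth (Red.Ga S).hom := Groth.Agent.RedSub.H635.GaSm.smooth_ga
  have hGa : LocallyOfFinitePresentation (Red.Ga S).hom := inferInstance
  have hm : Mono ((Over.pullback (S.fromSpecResidueField s₀)).map (jU ≫ f)) := by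
    rw [Functor.map_comp]
    infer_instance
  obtain ⟨V, W, hV, hW, hVW⟩ := K215.MonoNhd.exists_nhd (jU ≫ f) s₀ hm
  -- the kernel on the additive part
  have hU : ∀ {X : Over S}, Set.range X.hom ⊆ (V : Set S) → ∀ x : X ⟶ Red.Ga S, (x ≫ jU) ≫ f = 1 →
      Red.gaFn x = 0 := by
    intro X hX x hx
    refine K215.MonoNhd.eq_zero_of_contract hT α hα (jU ≫ f) ?_ V W hW hVW hX x (by rw [← Category.assoc, hx])
    intro X t x x' h1 h2
    rw [← Category.assoc, ← hconj X t x x' h1, MonObj.mul_comp, MonObj.mul_comp, GrpObj.inv_comp,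
      Category.assoc x, h2, _root_.mul_one, mul_inv_cancel]
  have hker : ∀ {X : Over S}, Set.range X.hom ⊆ (V : Set S) → ∀ p : X ⟶ P, p ≫ f = 1 → p = 1 := by
    intro X hX p hp
    obtain ⟨t, x, rfl⟩ := hsurj p
    -- `α(t) = 1`
    have hadd : ∀ {Y : Over S} (a b : Γ(Y.left, ⊤)), Groth.Agent.Sga3B.GaPts.gaPt Y (a + b) ≫ jU =
        (Groth.Agent.Sga3B.GaPts.gaPt Y a ≫ jU) * (Groth.Agent.Sga3B.GaPts.gaPt Y b ≫ jU) := by
      intro Y a b
      rw [Groth.Agent.Sga3B.GaPts.gaPt_add, MonObj.mul_comp]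
    have hxg : ∀ {Y : Over S} (y : Y ⟶ Red.Ga S), y = Groth.Agent.Sga3B.GaPts.gaPt Y (Red.gaFn y) :=
      fun y => (Groth.Agent.Sga3B.GaPts.gaPt_gaFn _ y).symm
    have hzero : ∀ {Y : Over S}, Groth.Agent.Sga3B.GaPts.gaPt Y 0 ≫ jU = 1 := by
      intro Y
      have h0 : (Groth.Agent.Sga3B.GaPts.gaPt Y 0 : Y ⟶ Red.Ga S) = 1 := by
        apply Groth.Agent.Sga3B.GaPts.gaFn_injective
        rw [Groth.Agent.Sga3B.GaPts.gaFn_gaPt, Groth.Agent.Sga3B.GaPts.gaFn_one]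
      rw [h0, MonObj.one_comp]
    have hneg : ∀ {Y : Over S} (a : Γ(Y.left, ⊤)), Groth.Agent.Sga3B.GaPts.gaPt Y (-a) ≫ jU =
        (Groth.Agent.Sga3B.GaPts.gaPt Y a ≫ jU)⁻¹ := by
      intro Y a
      rw [eq_inv_iff_mul_eq_one, ← hadd, neg_add_cancel, hzero]
    have hα1 : Red.gmFn (t ≫ α) = 1 := by
      -- commutator with `jU(1)`
      have h1 := hconj X t (Groth.Agent.Sga3B.GaPts.gaPt X 1)
        (Groth.Agent.Sga3B.GaPts.gaPt X (Red.gmFn (t ≫ α))) (by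
          rw [Groth.Agent.Sga3B.GaPts.gaFn_gaPt, Groth.Agent.Sga3B.GaPts.gaFn_gaPt, _root_.mul_one])
      set y := Groth.Agent.Sga3B.GaPts.gaPt X 1 ≫ jU with hy
      have h2 : (Groth.Agent.Sga3B.GaPts.gaPt X (Red.gmFn (t ≫ α) + -1)) ≫ jU =
          ((t ≫ jT) * (x ≫ jU)) * y * ((t ≫ jT) * (x ≫ jU))⁻¹ * y⁻¹ := by
        have h3 : (x ≫ jU) * y = y * (x ≫ jU) := by
          rw [hxg x, hy, ← hadd, ← hadd, add_comm]
        rw [hadd, hneg, ← hy, ← h1]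
        have h4 : ((t ≫ jT) * (x ≫ jU)) * y * ((t ≫ jT) * (x ≫ jU))⁻¹ =
            (t ≫ jT) * ((x ≫ jU) * y * (x ≫ jU)⁻¹) * (t ≫ jT)⁻¹ := by
          rw [_root_.mul_inv_rev]
          simp only [_root_.mul_assoc]
        rw [h4, h3, mul_inv_cancel_right]
      have h5 := hU hX (Groth.Agent.Sga3B.GaPts.gaPt X (Red.gmFn (t ≫ α) + -1)) (by
        rw [h2, MonObj.mul_comp, MonObj.mul_comp, MonObj.mul_comp, GrpObj.inv_comp, GrpObj.inv_comp, hp,
          _root_.one_mul, inv_one, _root_.mul_one, mul_inv_cancel])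
      rw [Groth.Agent.Sga3B.GaPts.gaFn_gaPt] at h5
      linear_combination h5
    have hx0 : Red.gaFn x = 0 := by
      refine K212.Gen2.fn_ext fun ξ => ?_
      obtain ⟨X', k, v, hk, ⟨x', hx'⟩, hv⟩ := K212.Gen.exists_generic X ξ
      obtain ⟨v, rfl⟩ : IsUnit v := by
        have := hv 0
        rwa [map_zero, sub_zero] at this
      obtain ⟨X'', g, r, hg, ⟨x'', hx''⟩, hr⟩ := Groth.Agent.Sga3.H811.Lift.exists_lift hT α hα X'
        (Groth.Agent.Sga3.H811.Pts.gmPt X' v) x'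
      have hX'' : Set.range X''.hom ⊆ (V : Set S) := by
        rintro _ ⟨z, rfl⟩
        rw [← Over.w g, ← Over.w k, Scheme.Hom.comp_apply, Scheme.Hom.comp_apply]
        exact hX ⟨_, rfl⟩
      let m := g ≫ k
      have hpm : ((m ≫ t) ≫ jT * (m ≫ x) ≫ jU) ≫ f = 1 := by
        have h1 := congrArg (fun q => m ≫ q) hp
        simp only [MonObj.comp_one] at h1
        rw [← Category.assoc, MonObj.comp_mul, ← Category.assoc, ← Category.assoc] at h1
        exact h1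
      have h1 := hconj X'' r (m ≫ x) (Groth.Agent.Sga3B.GaPts.gaPt X''
        (Red.gmFn (r ≫ α) * Red.gaFn (m ≫ x))) (Groth.Agent.Sga3B.GaPts.gaFn_gaPt _ _)
      have h2 : (Groth.Agent.Sga3B.GaPts.gaPt X'' (-(Red.gaFn (m ≫ x)) + Red.gmFn (r ≫ α) * Red.gaFn (m ≫ x))) ≫ jU =
          ((m ≫ t) ≫ jT * (m ≫ x) ≫ jU)⁻¹ * ((r ≫ jT) * ((m ≫ t) ≫ jT * (m ≫ x) ≫ jU) * (r ≫ jT)⁻¹) := by
        have h4 : (r ≫ jT) * ((m ≫ t) ≫ jT) = ((m ≫ t) ≫ jT) * (r ≫ jT) := by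
          rw [← MonObj.mul_comp, ← MonObj.mul_comp, hcomm]
        rw [hadd, hneg, ← h1, ← hxg]
        have h5 : (r ≫ jT) * ((m ≫ t) ≫ jT * (m ≫ x) ≫ jU) * (r ≫ jT)⁻¹ =
            ((m ≫ t) ≫ jT) * ((r ≫ jT) * ((m ≫ x) ≫ jU) * (r ≫ jT)⁻¹) := by
          rw [← _root_.mul_assoc (r ≫ jT), h4]
          simp only [_root_.mul_assoc]
        rw [h5, _root_.mul_inv_rev]
        group
      have h6 := hU hX'' _ (by
        rw [h2, MonObj.mul_comp, MonObj.mul_comp, MonObj.mul_comp, GrpObj.inv_comp, GrpObj.inv_comp, hpm,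
          _root_.mul_one, inv_one, _root_.one_mul, mul_inv_cancel])
      rw [Groth.Agent.Sga3B.GaPts.gaFn_gaPt, hr, Groth.Agent.Sga3.H811.Pts.gmFn_comp,
        Groth.Agent.Sga3.H811.Pts.gmFn_gmPt] at h6
      have h7 : IsUnit (g.left.appTop ((v : Γ(X'.left, ⊤)) - k.left.appTop 1)) := (hv 1).map _
      rw [map_one, map_sub, map_one] at h7
      refine ⟨X'', m, ?_, ⟨x'', ?_⟩, ?_⟩
      · change Flat (g ≫ k).left
        rw [Over.comp_left]; infer_instance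
      · change (g ≫ k).left x'' = ξ
        rw [Over.comp_left, Scheme.Hom.comp_apply, hx'', hx']
      · rw [map_zero, ← Groth.Agent.Sga3B.GaPts.gaFn_comp]
        refine (h7.mul_right_eq_zero).mp ?_
        linear_combination h6
    have hx1 : x ≫ jU = 1 := by rw [hxg x, hx0, hzero]
    rw [hx1, _root_.mul_one] at hp ⊢
    have h8 : t ≫ jT ≫ f = (1 : X ⟶ T) ≫ jT ≫ f := by
      rw [← Category.assoc, hp, MonObj.one_comp]
    rw [cancel_mono] at h8
    rw [h8, MonObj.one_comp]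
  refine ⟨V, hV, ?_⟩
  constructor
  intro Z a b hab
  apply (Groth.Agent.Sga3B.DSPts.bcEquiv V.ι Z P).symm.injective
  have e1 : ∀ c : Z ⟶ Red.bc V.ι P, c ≫ (Over.pullback V.ι).map f =
      Groth.Agent.Sga3B.DSPts.bcEquiv V.ι Z G ((Groth.Agent.Sga3B.DSPts.bcEquiv V.ι Z P).symm c ≫ f) := by
    intro c
    rw [← Groth.Agent.Sga3B.DSPts.bcEquiv_comp, MulEquiv.apply_symm_apply]
  rw [e1, e1] at hab
  have h1 := (Groth.Agent.Sga3B.DSPts.bcEquiv V.ι Z G).injective hab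
  have h2 : ((Groth.Agent.Sga3B.DSPts.bcEquiv V.ι Z P).symm a *
      ((Groth.Agent.Sga3B.DSPts.bcEquiv V.ι Z P).symm b)⁻¹) ≫ f = 1 := by
    rw [MonObj.mul_comp, GrpObj.inv_comp, h1, mul_inv_cancel]
  have h3 := hker (by
    rintro _ ⟨z, rfl⟩
    change (Z.hom ≫ V.ι) z ∈ _
    rw [Scheme.Hom.comp_apply]
    exact (Z.hom z).2) _ h2
  exact mul_inv_eq_one.mp h3

end Groth.Agent.S8474
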