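import Groth.Statements.S8476
import Groth.Agent.Red.K214.Basic

set_option autoImplicit false
universe u
open CategoryTheory MonoidalCategory CartesianMonoidalCategory MonObj GrpObj AlgebraicGeometry CategoryTheory.Limits
open Red

namespace Groth.Agent.S8476

/-- The product of two elements of the big cell: Let G be an S-group scheme, i : T ⟶ G a torus of G (a
monomorphism of groups), α : T ⟶ 𝔾_m and α^* : 𝔾_m ⟶ T homomorphisms with α ∘ α^* the squaring map,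
and p₊, p₋ : 𝔾_a ⟶ G homomorphisms normalised by T with multipliers α and α⁻¹ which satisfy the
rank-one commutation rule: whenever 1 + xy is invertible, p₊(x) p₋(y) = p₋(y/(1+xy)) · i(α^*(1+xy))
· p₊(x/(1+xy)) (the situation of any reductive group of semisimple rank 1 with trivialised root
groups, where α^* is the coroot). Let y, t, x, y', t', x' be points (of 𝔾_a, T, 𝔾_a, ...) with u = 1
+ x y' invertible. Then p₋(y) i(t) p₊(x) · p₋(y') i(t') p₊(x') = p₋(y + y'/(u α(t))) · i(t α^*(u)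
t') · p₊(x/(u α(t')) + x'). (The published statement is for a reductive group of semisimple rank one
with a maximal torus and a root, and also asserts that the product lies in the big cell only if u is
invertible; this row assumes only the commutation rule, the normalisation of p₊, p₋ by T and α ∘ α^*
the squaring map, which is all the published proof uses for the product formula, and does not assert
the converse membership statement.) -/
theorem result (S : Scheme.{u}) (G T : Over S) [GrpObj G] [GrpObj T] (i : T ⟶ G) [IsMonHom i] [Mono i] (hT : Red.IsTorus T)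
    (α : T ⟶ Red.Gm S) [IsMonHom α]
    (pp pm : Red.Ga S ⟶ G) [IsMonHom pp] [IsMonHom pm]
    (hpp : ∀ (X : Over S) (t : X ⟶ T) (x : X ⟶ Red.Ga S), ∃ x' : X ⟶ Red.Ga S,
      x' ≫ pp = (t ≫ i) * (x ≫ pp) * (t ≫ i)⁻¹ ∧ Red.gaFn x' = Red.gmFn (t ≫ α) * Red.gaFn x)
    (hpm : ∀ (X : Over S) (t : X ⟶ T) (y : X ⟶ Red.Ga S), ∃ y' : X ⟶ Red.Ga S,
      y' ≫ pm = (t ≫ i) * (y ≫ pm) * (t ≫ i)⁻¹ ∧ Red.gaFn y' * Red.gmFn (t ≫ α) = Red.gaFn y)
    (av : Red.Gm S ⟶ T) [IsMonHom av] (h2 : av ≫ α = (𝟙 (Red.Gm S)) ^ 2)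
    (hF : ∀ (X : Over S) (x y : X ⟶ Red.Ga S), IsUnit (1 + Red.gaFn x * Red.gaFn y) →
      ∃ (x' y' : X ⟶ Red.Ga S) (z : X ⟶ Red.Gm S), Red.gmFn z = 1 + Red.gaFn x * Red.gaFn y ∧
        Red.gaFn x' * Red.gmFn z = Red.gaFn x ∧ Red.gaFn y' * Red.gmFn z = Red.gaFn y ∧
        (x ≫ pp) * (y ≫ pm) = (y' ≫ pm) * (z ≫ av ≫ i) * (x' ≫ pp))
    (X : Over S) (x y x' y' y₂ x₂ : X ⟶ Red.Ga S) (t t' : X ⟶ T) (z : X ⟶ Red.Gm S)
    (hz : Red.gmFn z = 1 + Red.gaFn x * Red.gaFn y')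
    (hy₂ : (Red.gaFn y₂ - Red.gaFn y) * Red.gmFn z * Red.gmFn (t ≫ α) = Red.gaFn y')
    (hx₂ : (Red.gaFn x₂ - Red.gaFn x') * Red.gmFn z * Red.gmFn (t' ≫ α) = Red.gaFn x) :
    ((y ≫ pm) * (t ≫ i) * (x ≫ pp)) * ((y' ≫ pm) * (t' ≫ i) * (x' ≫ pp)) =
      (y₂ ≫ pm) * ((t * (z ≫ av) * t') ≫ i) * (x₂ ≫ pp) := by
  open Groth.Agent.Sga3B.GaPts Groth.Agent.Sga3.H811.Pts K214.Basic in
  -- `y''`, `x''` are the coordinates of `p₊(x) p₋(y')`
  have e1 := rule hF (x := x) (y := y')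
    (x' := gaPt X ((Red.gaFn x₂ - Red.gaFn x') * Red.gmFn (t' ≫ α)))
    (y' := gaPt X ((Red.gaFn y₂ - Red.gaFn y) * Red.gmFn (t ≫ α))) (z := z) hz
    (by rw [gaFn_gaPt, ← hx₂]; ring) (by rw [gaFn_gaPt, ← hy₂]; ring)
  have e2 : (t ≫ i) * (gaPt X ((Red.gaFn y₂ - Red.gaFn y) * Red.gmFn (t ≫ α)) ≫ pm) =
      (gaPt X (Red.gaFn y₂ - Red.gaFn y) ≫ pm) * (t ≫ i) :=
    commM hpm t (by rw [gaFn_gaPt, gaFn_gaPt])
  have e3 : (t' ≫ i) * (gaPt X (Red.gaFn x₂ - Red.gaFn x') ≫ pp) =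
      (gaPt X ((Red.gaFn x₂ - Red.gaFn x') * Red.gmFn (t' ≫ α)) ≫ pp) * (t' ≫ i) :=
    commP hpp t' (by rw [gaFn_gaPt, gaFn_gaPt, mul_comm])
  have e4 : (y ≫ pm) * (gaPt X (Red.gaFn y₂ - Red.gaFn y) ≫ pm) = y₂ ≫ pm :=
    ga_mul pm (by rw [gaFn_gaPt]; ring)
  have e5 : (gaPt X (Red.gaFn x₂ - Red.gaFn x') ≫ pp) * (x' ≫ pp) = x₂ ≫ pp :=
    ga_mul pp (by rw [gaFn_gaPt]; ring)
  rw [MonObj.mul_comp, MonObj.mul_comp, Category.assoc, ← e4, ← e5]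
  calc ((y ≫ pm) * (t ≫ i) * (x ≫ pp)) * ((y' ≫ pm) * (t' ≫ i) * (x' ≫ pp))
      = (y ≫ pm) * (t ≫ i) * ((x ≫ pp) * (y' ≫ pm)) * (t' ≫ i) * (x' ≫ pp) := by
        simp only [_root_.mul_assoc]
    _ = (y ≫ pm) * ((t ≫ i) * (gaPt X ((Red.gaFn y₂ - Red.gaFn y) * Red.gmFn (t ≫ α)) ≫ pm)) *
          (z ≫ av ≫ i) * ((gaPt X ((Red.gaFn x₂ - Red.gaFn x') * Red.gmFn (t' ≫ α)) ≫ pp) *
          (t' ≫ i)) * (x' ≫ pp) := by
        rw [e1]; simp only [_root_.mul_assoc]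
    _ = _ := by
        rw [e2, ← e3]; simp only [_root_.mul_assoc]

end Groth.Agent.S8476
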