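import Groth.Statements.S8477
import Groth.Agent.Red.K214.ZModel
import Groth.Agent.Red.K214.EmptyBase
import Groth.Agent.Red.K214.DualUniq

set_option autoImplicit false
universe u
open CategoryTheory MonoidalCategory CartesianMonoidalCategory MonObj GrpObj AlgebraicGeometry CategoryTheory.Limits
open Red

namespace Groth.Agent.S8477

/-- At the level of root groups: Let G be a pinned reductive S-group: a splitting D (maximal torus T ≅
D_S(M), root datum with root homomorphisms u_c : 𝔾_a ⟶ G for all roots c, system of simple roots Δ)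
such that for every simple root a the root homomorphisms of a and -a are dual to each other: u_a(x)
u_{-a}(y) = u_{-a}(y/(1+xy)) · a^∨(1+xy) · u_a(x/(1+xy)) whenever 1 + xy is invertible, where a^∨ :
𝔾_m ⟶ T is the coroot of a read through the splitting. For a root a put w_a = u_a(1) u_{-a}(-1)
u_a(1) (an S-point of G). Let l = (a₁, …, aₙ) be a list of simple roots and a, a₀ simple roots with
s_{a₁} ∘ ⋯ ∘ s_{aₙ} (a) = a₀ (as a permutation of the roots). Then there is a sign ε ∈ {1, -1} such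
that (w_{a₁} ⋯ w_{aₙ}) u_a(x) (w_{a₁} ⋯ w_{aₙ})⁻¹ = u_{a₀}(ε x) for all points x of 𝔾_a. -/
theorem result (S : Scheme.{u}) (e₁ : 𝟙_ (Over S) ⟶ Red.Ga S) (he₁ : Red.gaFn e₁ = 1)
    (G : Over S) [GrpObj G] (D : Red.Pinning G)
    (avc : D.idx → (Red.Gm S ⟶ D.T))
    (havc : ∀ a, avc a = Red.DSmap S (D.P.coroot a).toAddMonoidHom ≫ D.split.inv.hom.hom)
    (hpair : ∀ a ∈ D.base.support, ∀ (X : Over S) (x y : X ⟶ Red.Ga S), IsUnit (1 + Red.gaFn x * Red.gaFn y) →
        ∃ (x' y' : X ⟶ Red.Ga S) (z : X ⟶ Red.Gm S), Red.gmFn z = 1 + Red.gaFn x * Red.gaFn y ∧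
          Red.gaFn x' * Red.gmFn z = Red.gaFn x ∧ Red.gaFn y' * Red.gmFn z = Red.gaFn y ∧
          (x ≫ D.u a) * (y ≫ D.u (D.P.reflectionPerm a a)) = (y' ≫ D.u (D.P.reflectionPerm a a)) * (z ≫ avc a ≫ D.i) * (x' ≫ D.u a))
    (w : D.idx → (𝟙_ (Over S) ⟶ G))
    (hw : ∀ a, w a = (e₁ ≫ D.u a) * (e₁ ≫ D.u (D.P.reflectionPerm a a))⁻¹ * (e₁ ≫ D.u a))
    (l : List D.idx) (hl : ∀ c ∈ l, c ∈ D.base.support) (a a₀ : D.idx) (ha : a ∈ D.base.support) (ha₀ : a₀ ∈ D.base.support)
    (hw₀ : (l.map D.P.reflectionPerm).prod a = a₀) :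
    ∃ ε : ℤ, (ε = 1 ∨ ε = -1) ∧ ∀ (X : Over S) (x y : X ⟶ Red.Ga S), Red.gaFn y = (ε : Γ(X.left, ⊤)) * Red.gaFn x →
      (toUnit X ≫ (l.map w).prod) * (x ≫ D.u a) * (toUnit X ≫ (l.map w).prod)⁻¹ = y ≫ D.u a₀ := by
  have havc' : ∀ a, avc a ≫ D.i = K214.ChevSys.av D.i D.split D.P a := fun a => by rw [havc]; rfl
  rcases isEmpty_or_nonempty S with hS | hS
  · have h1 := fun X Y : Over S => K214.EmptyBase.subsingleton_hom X Y
    exact ⟨1, Or.inl rfl, fun X x y _ => Subsingleton.elim _ _⟩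
  obtain ⟨v, vd, hv, hvu⟩ := K214.ZModel.exists_chev D
  have := D.reductive.1
  have hdual : ∀ c ∈ D.base.support, vd c = D.u (D.P.reflectionPerm c c) := by
    intro c hc
    have := hv.isMonHom c
    have := (D.rootHom (D.P.reflectionPerm c c)).1
    have h1 := hv.rule c
    have h2 := K214.FnForm.Rule.of_pts (hpair c hc)
    rw [hvu c hc] at h1
    rw [havc'] at h2
    exact K214.DualUniq.dual_unique h1 h2
  have hw' : ∀ c ∈ D.base.support, ∀ X : Over S, toUnit X ≫ w c = K214.FnForm.N (v c) (vd c) X := by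
    intro c hc X
    have := (D.rootHom (D.P.reflectionPerm c c)).1
    rw [hw, K214.FnForm.toUnit_N e₁ he₁, hvu c hc, hdual c hc]
  have key : ∀ (l : List D.idx), (∀ c ∈ l, c ∈ D.base.support) → ∃ ε : ℤ, (ε = 1 ∨ ε = -1) ∧
      ∀ (X : Over S) (x : Γ(X.left, ⊤)), (toUnit X ≫ (l.map w).prod) * K214.FnForm.V (v a) X x *
        (toUnit X ≫ (l.map w).prod)⁻¹ =
        K214.FnForm.V (v ((l.map D.P.reflectionPerm).prod a)) X ((ε : Γ(X.left, ⊤)) * x) := by
    intro l
    induction l with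
    | nil =>
      intro _
      refine ⟨1, Or.inl rfl, fun X x => ?_⟩
      rw [List.map_nil, List.prod_nil, MonObj.comp_one, _root_.one_mul, _root_.inv_one,
        _root_.mul_one, Int.cast_one, _root_.one_mul]
      rfl
    | cons c l ih =>
      intro hl
      obtain ⟨ε, hε, h⟩ := ih fun c hc => hl c (List.mem_cons_of_mem _ hc)
      obtain ⟨ε', hε', h'⟩ := hv.conj c ((l.map D.P.reflectionPerm).prod a)
      refine ⟨ε' * ε, ?_, fun X x => ?_⟩
      · rcases hε with rfl | rfl <;> rcases hε' with rfl | rfl <;> simp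
      · have h1 : (List.map (fun a => D.P.reflectionPerm a) (c :: l)).prod a =
          D.P.reflectionPerm c ((l.map D.P.reflectionPerm).prod a) := by
          rw [List.map_cons, List.prod_cons]; rfl
        have h2 : ((ε' : Γ(X.left, ⊤)) * (ε : Γ(X.left, ⊤))) * x = ε' * (ε * x) :=
          _root_.mul_assoc _ _ _
        rw [h1, Int.cast_mul, h2, ← h', ← h, ← hw' c (hl c List.mem_cons_self),
          List.map_cons, List.prod_cons, MonObj.comp_mul]
        group
  obtain ⟨ε, hε, h⟩ := key l hl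
  refine ⟨ε, hε, fun X x y hxy => ?_⟩
  rw [← hvu a ha, ← hvu a₀ ha₀, ← K214.FnForm.V_gaFn (v a) x, h, ← hxy, hw₀, K214.FnForm.V_gaFn]

end Groth.Agent.S8477
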