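import Groth.Statements.S8478
import Groth.Agent.Red.K214.RankOneHom

set_option autoImplicit false
universe u
open CategoryTheory MonoidalCategory CartesianMonoidalCategory MonObj GrpObj AlgebraicGeometry CategoryTheory.Limits
open Red

namespace Groth.Agent.S8478

/-- Let (G, T, α, p₊, p₋, α^*) and (G', T', α', p'₊, p'₋, α'^*) be two rank-one systems over S: G
reductive, i : T ⟶ G a maximal torus, α a character of T non-trivial on every geometric fibre, p₊,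
p₋ : 𝔾_a ⟶ G monomorphisms normalised by T with multipliers α, α⁻¹ whose cell map (y, t, x) ↦ p₋(y)
i(t) p₊(x) is an open immersion, α^* : 𝔾_m ⟶ T with α ∘ α^* the squaring map and p₊(x) p₋(y) =
p₋(y/(1+xy)) · i(α^*(1+xy)) · p₊(x/(1+xy)) whenever 1 + xy is invertible; likewise for the primed
data. Let q > 0 be an integer such that x ↦ x^q is additive on all functions of S-schemes. Let c be
an S-point of 𝔾_m and f : G ⟶ G' a homomorphism with f(p₊(x)) = p'₊(c x^q) for all points x of 𝔾_a.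
Write w(x) = p₊(x) p₋(-x⁻¹) p₊(x) and w'(x) = p'₊(x) p'₋(-x⁻¹) p'₊(x) for points x with invertible
coordinate. Then the following are equivalent: (i) f(i(α^*(z))) = i'(α'^*(z))^q for all points z of
𝔾_m; (ii) f(w(x)) = w'(c x^q) for all x with invertible coordinate; (iii) f(p₋(y)) = p'₋(c⁻¹ y^q)
for all points y. -/
theorem result (S : Scheme.{u}) (G T : Over S) [GrpObj G] [GrpObj T] (i : T ⟶ G) [IsMonHom i] [Mono i] (hG : Red.IsReductive G) (hTm : Red.IsMaximalTorus i)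
    (α : T ⟶ Red.Gm S) [IsMonHom α] (hα : ∀ s : S, (Over.pullback (Red.geomPt s)).map α ≠ 1)
    (pp pm : Red.Ga S ⟶ G) [IsMonHom pp] [Mono pp] [IsMonHom pm] [Mono pm]
    (hpp : ∀ (X : Over S) (t : X ⟶ T) (x : X ⟶ Red.Ga S), ∃ x' : X ⟶ Red.Ga S,
      x' ≫ pp = (t ≫ i) * (x ≫ pp) * (t ≫ i)⁻¹ ∧ Red.gaFn x' = Red.gmFn (t ≫ α) * Red.gaFn x)
    (hpm : ∀ (X : Over S) (t : X ⟶ T) (y : X ⟶ Red.Ga S), ∃ y' : X ⟶ Red.Ga S,
      y' ≫ pm = (t ≫ i) * (y ≫ pm) * (t ≫ i)⁻¹ ∧ Red.gaFn y' * Red.gmFn (t ≫ α) = Red.gaFn y)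
    (hΩ : IsOpenImmersion (((pm ⊗ₘ i) ⊗ₘ pp) ≫ (μ[G] ▷ G) ≫ μ[G]).left)
    (av : Red.Gm S ⟶ T) [IsMonHom av] (h2 : av ≫ α = (𝟙 (Red.Gm S)) ^ 2)
    (hF : ∀ (X : Over S) (x y : X ⟶ Red.Ga S), IsUnit (1 + Red.gaFn x * Red.gaFn y) →
      ∃ (x' y' : X ⟶ Red.Ga S) (z : X ⟶ Red.Gm S), Red.gmFn z = 1 + Red.gaFn x * Red.gaFn y ∧
        Red.gaFn x' * Red.gmFn z = Red.gaFn x ∧ Red.gaFn y' * Red.gmFn z = Red.gaFn y ∧
        (x ≫ pp) * (y ≫ pm) = (y' ≫ pm) * (z ≫ av ≫ i) * (x' ≫ pp))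
    (G' T' : Over S) [GrpObj G'] [GrpObj T'] (i' : T' ⟶ G') [IsMonHom i'] [Mono i'] (hG' : Red.IsReductive G') (hTm' : Red.IsMaximalTorus i')
    (α' : T' ⟶ Red.Gm S) [IsMonHom α'] (hα' : ∀ s : S, (Over.pullback (Red.geomPt s)).map α' ≠ 1)
    (pp' pm' : Red.Ga S ⟶ G') [IsMonHom pp'] [Mono pp'] [IsMonHom pm'] [Mono pm']
    (hpp' : ∀ (X : Over S) (t : X ⟶ T') (x : X ⟶ Red.Ga S), ∃ x' : X ⟶ Red.Ga S,
      x' ≫ pp' = (t ≫ i') * (x ≫ pp') * (t ≫ i')⁻¹ ∧ Red.gaFn x' = Red.gmFn (t ≫ α') * Red.gaFn x)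
    (hpm' : ∀ (X : Over S) (t : X ⟶ T') (y : X ⟶ Red.Ga S), ∃ y' : X ⟶ Red.Ga S,
      y' ≫ pm' = (t ≫ i') * (y ≫ pm') * (t ≫ i')⁻¹ ∧ Red.gaFn y' * Red.gmFn (t ≫ α') = Red.gaFn y)
    (hΩ' : IsOpenImmersion (((pm' ⊗ₘ i') ⊗ₘ pp') ≫ (μ[G'] ▷ G') ≫ μ[G']).left)
    (av' : Red.Gm S ⟶ T') [IsMonHom av'] (h2' : av' ≫ α' = (𝟙 (Red.Gm S)) ^ 2)
    (hF' : ∀ (X : Over S) (x y : X ⟶ Red.Ga S), IsUnit (1 + Red.gaFn x * Red.gaFn y) →
      ∃ (x' y' : X ⟶ Red.Ga S) (z : X ⟶ Red.Gm S), Red.gmFn z = 1 + Red.gaFn x * Red.gaFn y ∧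
        Red.gaFn x' * Red.gmFn z = Red.gaFn x ∧ Red.gaFn y' * Red.gmFn z = Red.gaFn y ∧
        (x ≫ pp') * (y ≫ pm') = (y' ≫ pm') * (z ≫ av' ≫ i') * (x' ≫ pp'))
    (q : ℕ) (hq0 : 0 < q) (hq : ∀ (X : Over S) (a b : Γ(X.left, ⊤)), (a + b) ^ q = a ^ q + b ^ q) (c : 𝟙_ (Over S) ⟶ Red.Gm S) (f : G ⟶ G') [IsMonHom f]
    (hf : ∀ (X : Over S) (x y : X ⟶ Red.Ga S), Red.gaFn y = Red.gmFn (toUnit X ≫ c) * Red.gaFn x ^ q →
      (x ≫ pp) ≫ f = y ≫ pp') :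
    [∀ (X : Over S) (z : X ⟶ Red.Gm S), (z ≫ av ≫ i) ≫ f = ((z ≫ av') ^ q) ≫ i',
      ∀ (X : Over S) (x x' y y' : X ⟶ Red.Ga S), Red.gaFn x' * Red.gaFn x = -1 →
        Red.gaFn y = Red.gmFn (toUnit X ≫ c) * Red.gaFn x ^ q → Red.gaFn y' * Red.gaFn y = -1 →
        ((x ≫ pp) * (x' ≫ pm) * (x ≫ pp)) ≫ f = (y ≫ pp') * (y' ≫ pm') * (y ≫ pp'),
      ∀ (X : Over S) (x y : X ⟶ Red.Ga S), Red.gaFn y * Red.gmFn (toUnit X ≫ c) = Red.gaFn x ^ q →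
        (x ≫ pm) ≫ f = y ≫ pm'].TFAE := by
  open Groth.Agent.Sga3B.GaPts Groth.Agent.Sga3.H811.Pts K214.RankOnePts K214.RankOneHom K214.RankOne in
  have H : Hyp i α pp pm av := ⟨inferInstance, inferInstance, inferInstance, inferInstance, hpp, hpm, h2, hF⟩
  have H' : Hyp i' α' pp' pm' av' :=
    ⟨inferInstance, inferInstance, inferInstance, inferInstance, hpp', hpm', h2', hF'⟩
  have hf' : ∀ (X : Over S) (x : Γ(X.left, ⊤)),
      (ptSys H X).p x ≫ f = (ptSys H' X).p (cu c X * x ^ q) := by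
    intro X x
    exact hf X (gaPt X x) (gaPt X (cu c X * x ^ q)) (by rw [gaFn_gaPt, gaFn_gaPt, cu_val])
  have hpow : ∀ (X : Over S) (u : Γ(X.left, ⊤)ˣ), ((gmPt X u ≫ av') ^ q) ≫ i' =
      (ptSys H' X).h (u ^ q) := by
    intro X u
    have e1 : (gmPt X u : X ⟶ Red.Gm S) ^ q = gmPt X (u ^ q) := by
      apply gmFn_injective
      rw [gmFn_pow, gmFn_gmPt, gmFn_gmPt, Units.val_pow_eq_pow_val]
    have e2 : (gmPt X u ≫ av') ^ q = ((gmPt X u : X ⟶ Red.Gm S) ^ q) ≫ av' :=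
      (MonObj.pow_comp (gmPt X u : X ⟶ Red.Gm S) q av').symm
    rw [e2, e1, ptSys_h, Category.assoc]
  tfae_have 1 → 3 := by
    intro h
    have h1 : P1 (q := q) H H' f := by
      intro X u
      rw [ptSys_h, h, hpow]
    have h3 := p3_of_p1 H H' hq0 hq c f hf' hTm'.2.2.1 hΩ' h1
    intro X x y hy
    have e1 := h3 X (Red.gaFn x)
    rw [ptSys_q, gaPt_gaFn, ptSys_q] at e1
    rw [e1]
    congr 1
    apply gaFn_injective
    rw [gaFn_gaPt, ← hy, ← cu_val, mul_comm (Red.gaFn y), ← _root_.mul_assoc, Units.inv_mul,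
      _root_.one_mul]
  tfae_have 3 → 2 := by
    intro h
    have h3 : P3 (q := q) H H' c f := by
      intro X y
      exact h X (gaPt X y) _ (by
        rw [gaFn_gaPt, gaFn_gaPt, ← cu_val, mul_right_comm, Units.inv_mul, _root_.one_mul])
    have h2 := p2_of_p3 H H' hq0 hq c f hf' h3
    intro X x x' y y' hx hy hy'
    obtain ⟨u, hu, -, hw, -⟩ := w_eq H hx
    obtain ⟨u', hu', -, hw', -⟩ := w_eq H' hy'
    have e : u' = cu c X * u ^ q := by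
      apply Units.ext
      rw [hu', hy, Units.val_mul, Units.val_pow_eq_pow_val, hu, cu_val]
    rw [← hw, ← hw', h2, e]
  tfae_have 2 → 1 := by
    intro h
    have h2 : P2 (q := q) H H' c f := by
      intro X u
      have e1 := h X (gaPt X (u : Γ(X.left, ⊤))) (gaPt X (-((u⁻¹ : Γ(X.left, ⊤)ˣ) : Γ(X.left, ⊤))))
        (gaPt X ((cu c X * u ^ q : Γ(X.left, ⊤)ˣ) : Γ(X.left, ⊤)))
        (gaPt X (-(((cu c X * u ^ q)⁻¹ : Γ(X.left, ⊤)ˣ) : Γ(X.left, ⊤))))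
        (by rw [gaFn_gaPt, gaFn_gaPt, neg_mul, Units.inv_mul])
        (by rw [gaFn_gaPt, gaFn_gaPt, Units.val_mul, Units.val_pow_eq_pow_val, cu_val])
        (by rw [gaFn_gaPt, gaFn_gaPt, neg_mul, Units.inv_mul])
      exact e1
    have h1 := p1_of_p2 H H' c f h2
    intro X z
    obtain ⟨u, hu⟩ := isUnit_gmFn z
    have hz : z = gmPt X u := by
      apply gmFn_injective; rw [gmFn_gmPt, hu]
    rw [hz, hpow, ← h1, ptSys_h]
  tfae_finish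

end Groth.Agent.S8478
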