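import Groth.Statements.S8479
import Groth.Agent.Red.K214.ChevComm
import Groth.Agent.Red.K214.ChainComb
import Groth.Agent.Red.K214.EmptyBase
import Groth.Agent.Sga3B.SplitRedField415
import Groth.Agent.Sga3B.BaseZ

set_option autoImplicit false
universe u
open CategoryTheory MonoidalCategory CartesianMonoidalCategory MonObj GrpObj AlgebraicGeometry CategoryTheory.Limits
open Red

namespace Groth.Agent.S8479

/-- The cases (p, q) = (1,1), (2,1), (3,1) of the table. Let G be a split reductive S-group with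
splitting D (torus T ≅ D_S(M), root datum) and a Chevalley system at the level of root groups: for
every root c a root homomorphism v_c : 𝔾_a ⟶ G (normalised by T through the character of c) with a
dual root homomorphism v_c⁻ (v_c(x) v_c⁻(y) = v_c⁻(y/(1+xy)) c^∨(1+xy) v_c(x/(1+xy)) for 1 + xy
invertible), such that with n_c = v_c(1) v_c⁻(1)⁻¹ v_c(1) one has, for all roots c, b, n_c v_b(x)
n_c⁻¹ = v_{s_c(b)}(± x) for a sign depending on (c, b). Let a, b be two linearly independent roots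
with |⟨a, b^∨⟩| ≤ |⟨b, a^∨⟩| (a is not longer than b). Suppose a + b is a root, with index c, and b
+ 2a is not a root (q = 1); let p ≥ 1 be such that b - k a is a root for k < p and b - p a is not a
root. Then there is a sign ε ∈ {1, -1} with v_b(y) v_a(x) v_b(y)⁻¹ v_a(x)⁻¹ = v_c(ε p x y) for all
points x, y of 𝔾_a. -/
theorem result (S : Scheme.{u}) (e₁ : 𝟙_ (Over S) ⟶ Red.Ga S) (he₁ : Red.gaFn e₁ = 1)
    (G : Over S) [GrpObj G] (D : Red.SplitRed G)
    (avc : D.idx → (Red.Gm S ⟶ D.T))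
    (havc : ∀ a, avc a = Red.DSmap S (D.P.coroot a).toAddMonoidHom ≫ D.split.inv.hom.hom)
    (v vd : D.idx → (Red.Ga S ⟶ G)) (hv : ∀ c, Red.IsRootHom D.i (D.split.hom.hom.hom ≫ Red.chi S (D.P.root c)) (v c))
    (hvd : ∀ c, IsMonHom (vd c) ∧ ∀ (X : Over S) (x y : X ⟶ Red.Ga S), IsUnit (1 + Red.gaFn x * Red.gaFn y) →
        ∃ (x' y' : X ⟶ Red.Ga S) (z : X ⟶ Red.Gm S), Red.gmFn z = 1 + Red.gaFn x * Red.gaFn y ∧
          Red.gaFn x' * Red.gmFn z = Red.gaFn x ∧ Red.gaFn y' * Red.gmFn z = Red.gaFn y ∧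
          (x ≫ v c) * (y ≫ vd c) = (y' ≫ vd c) * (z ≫ avc c ≫ D.i) * (x' ≫ v c))
    (n : D.idx → (𝟙_ (Over S) ⟶ G)) (hn : ∀ c, n c = (e₁ ≫ v c) * (e₁ ≫ vd c)⁻¹ * (e₁ ≫ v c))
    (hSC : ∀ c b, ∃ ε : ℤ, (ε = 1 ∨ ε = -1) ∧ ∀ (X : Over S) (x y : X ⟶ Red.Ga S),
      Red.gaFn y = (ε : Γ(X.left, ⊤)) * Red.gaFn x →
        (toUnit X ≫ n c) * (x ≫ v b) * (toUnit X ≫ n c)⁻¹ = y ≫ v (D.P.reflectionPerm c b))
    (a b : D.idx) (hind : ∀ r s : ℤ, r • D.P.root a + s • D.P.root b = 0 → r = 0 ∧ s = 0)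
    (hlen : |D.P.pairing a b| ≤ |D.P.pairing b a|)
    (c : D.idx) (hc : D.P.root c = D.P.root a + D.P.root b) (hq : D.P.root b + (2 : ℤ) • D.P.root a ∉ Set.range D.P.root)
    (p : ℕ) (hp1 : 1 ≤ p) (hpk : ∀ k : ℕ, k < p → D.P.root b - (k : ℤ) • D.P.root a ∈ Set.range D.P.root)
    (hp : D.P.root b - (p : ℤ) • D.P.root a ∉ Set.range D.P.root) :
    ∃ ε : ℤ, (ε = 1 ∨ ε = -1) ∧ ∀ (X : Over S) (x y z : X ⟶ Red.Ga S),
      Red.gaFn z = (ε : Γ(X.left, ⊤)) * (p : Γ(X.left, ⊤)) * Red.gaFn x * Red.gaFn y → (y ≫ v b) * (x ≫ v a) * (y ≫ v b)⁻¹ * (x ≫ v a)⁻¹ = z ≫ v c := by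
  rcases isEmpty_or_nonempty S with hS | hS
  · exact ⟨1, Or.inl rfl, fun X _ _ _ _ => (K214.EmptyBase.subsingleton_hom X G).elim _ _⟩
  obtain ⟨σ, H⟩ := K214.ChevDual.exists_chv e₁ he₁ D avc havc v vd hv hvd n hn hSC
  have hred := Groth.Agent.Sga3B.SplitReduced415.isReduced D
  obtain ⟨Δ⟩ := Groth.Agent.Sga3B.BaseZ.nonempty_base D.P
  obtain ⟨p', q, hpq, hch⟩ := K214.ChainComb.chain (P := D.P) (a := a) (b := b) hind
  have k1 := (hch 1).mp ⟨c, by rw [hc]; module⟩
  have k2 := (hch 2).not.mp hq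
  have k3 := (hch (-p)).not.mp (fun h => hp (by
    rw [show D.P.root b - (p : ℤ) • D.P.root a = D.P.root b + (-p : ℤ) • D.P.root a by module]
    exact h))
  have k4 : ∀ k : ℕ, k < p → (k : ℤ) ≤ p' := fun k hk => by
    have := (hch (-k)).mp (by
      rw [show D.P.root b + (-k : ℤ) • D.P.root a = D.P.root b - (k : ℤ) • D.P.root a by module]
      exact hpk k hk)
    omega
  have k5 := k4 (p - 1) (by omega)
  have hpp : (p : ℤ) = p' + 1 := by omega
  have hba : D.P.pairing b a = p - 2 := by omega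
  -- the bottom of the string
  obtain ⟨d, hd⟩ := hpk (p - 1) (by omega)
  have hd' : D.P.root d = D.P.root b + (-(p - 1) : ℤ) • D.P.root a := by
    rw [hd]
    push_cast [Nat.cast_sub hp1]
    module
  have pda : D.P.pairing d a = -p := by
    rw [K214.ChainComb.pairing_of_root hd', hba]; ring
  have hind' := K214.ChainComb.LI.of_root (P := D.P) (a := a) (b := b) hind hd'
  have hI : K214.PairComb.Ind D.P a d := ⟨hind', by
    rw [show D.P.root d - D.P.root a = D.P.root b - (p : ℤ) • D.P.root a by rw [hd']; module]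
    exact hp⟩
  obtain ⟨hb3, h3, h2, h1⟩ := K214.ChainComb.pair_cases (P := D.P) (a := a) (b := d) hind'
  have hcases : p = 1 ∨ p = 2 ∨ p = 3 := by omega
  rcases hcases with rfl | rfl | rfl
  · -- `p = 1`
    have hdb : d = b := by
      apply D.P.root.injective
      rw [hd']; push_cast; module
    subst hdb
    have pda' : D.P.pairing d a = -1 := by rw [pda]; norm_num
    have pad : D.P.pairing a d = -1 := by
      have h4 := h1 pda'
      rw [pda', abs_of_neg h4] at hlen
      norm_num at hlen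
      omega
    have e1 : D.P.reflectionPerm d a = c := by
      apply D.P.root.injective
      rw [D.P.root_reflectionPerm, D.P.reflection_apply_root, pad, hc]; module
    refine ⟨σ d a, H.sgn d a, fun X x y z h₁ => ?_⟩
    have key := K214.ChevComm.a2_pts H Δ hI pda' pad X (Red.gaFn x) (Red.gaFn y)
    rw [e1, K214.FnForm.V_gaFn, K214.FnForm.V_gaFn] at key
    rw [K214.FnForm.V_of_eq (v c) h₁, key]
    push_cast
    congr 1; ring
  · -- `p = 2`
    have pda' : D.P.pairing d a = -2 := by rw [pda]; norm_num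
    have pad := h2 pda'
    have e1 : D.P.reflectionPerm d a = b := by
      apply D.P.root.injective
      rw [D.P.root_reflectionPerm, D.P.reflection_apply_root, pad, hd']; push_cast; module
    have e2 : D.P.reflectionPerm a d = c := by
      apply D.P.root.injective
      rw [D.P.root_reflectionPerm, D.P.reflection_apply_root, pda', hc, hd']; push_cast; module
    have s1 := H.sgn d a
    have s2 := H.sgn a d
    have s3 : σ d a * σ d a = 1 := by rcases s1 with h | h <;> rw [h] <;> norm_num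
    refine ⟨σ d a * σ a d, by rcases s1 with h | h <;> rcases s2 with h' | h' <;> rw [h, h'] <;> norm_num,
      fun X x y z h₁ => ?_⟩
    have key := (K214.ChevComm.b2_pts H Δ hI pda' pad X (Red.gaFn x)
      ((σ d a : Γ(X.left, ⊤)) * Red.gaFn y)).2
    have s4 : (σ d a : Γ(X.left, ⊤)) * ((σ d a : Γ(X.left, ⊤)) * Red.gaFn y) = Red.gaFn y := by
      rw [← _root_.mul_assoc, ← Int.cast_mul, s3, Int.cast_one, _root_.one_mul]
    rw [e1, e2, s4, K214.FnForm.V_gaFn, K214.FnForm.V_gaFn] at key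
    rw [K214.FnForm.V_of_eq (v c) h₁, key]
    push_cast
    congr 1; ring
  · -- `p = 3`
    have pda' : D.P.pairing d a = -3 := by rw [pda]; norm_num
    have pad := h3 pda'
    have e2 : D.P.reflectionPerm a (D.P.reflectionPerm d a) = b := by
      apply D.P.root.injective
      have h5 : D.P.pairing (D.P.reflectionPerm d a) a = -1 := by
        have := K214.PairComb.pairing_eq (P := D.P) (a := a) (b := d) (d := D.P.reflectionPerm d a)
          (c := a) (i := 1) (j := 1) (by
            rw [D.P.root_reflectionPerm, D.P.reflection_apply_root, pad]; module)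
        rw [this, D.P.pairing_same, pda']; norm_num
      rw [D.P.root_reflectionPerm, D.P.reflection_apply_root, h5, D.P.root_reflectionPerm,
        D.P.reflection_apply_root, pad, hd']; push_cast; module
    have e3 : D.P.reflectionPerm a d = c := by
      apply D.P.root.injective
      rw [D.P.root_reflectionPerm, D.P.reflection_apply_root, pda', hc, hd']; push_cast; module
    have s1 := H.sgn d a
    have s2 := H.sgn a (D.P.reflectionPerm d a)
    have s3 := H.sgn a d
    obtain ⟨τ, hτ⟩ : ∃ τ : ℤ, τ = σ a (D.P.reflectionPerm d a) * σ d a := ⟨_, rfl⟩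
    have hτ1 : τ = 1 ∨ τ = -1 := by
      rw [hτ]; rcases s1 with h | h <;> rcases s2 with h' | h' <;> rw [h, h'] <;> norm_num
    have hτ2 : τ * τ = 1 := by rcases hτ1 with h | h <;> rw [h] <;> norm_num
    refine ⟨-(σ a d * τ), by rcases hτ1 with h | h <;> rcases s3 with h' | h' <;> rw [h, h'] <;> norm_num,
      fun X x y z h₁ => ?_⟩
    have key := (K214.ChevComm.g2_pts H Δ hI pda' pad X (Red.gaFn x)
      ((τ : Γ(X.left, ⊤)) * Red.gaFn y)).2.2
    have s4 : (σ a (D.P.reflectionPerm d a) : Γ(X.left, ⊤)) * ((σ d a : Γ(X.left, ⊤)) *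
        ((τ : Γ(X.left, ⊤)) * Red.gaFn y)) = Red.gaFn y := by
      rw [← _root_.mul_assoc, ← _root_.mul_assoc, ← Int.cast_mul, ← Int.cast_mul, ← hτ, hτ2, Int.cast_one,
        _root_.one_mul]
    rw [K214.ChevComm.UD, s4, e2, K214.FnForm.V_gaFn, K214.FnForm.V_gaFn, K214.ChevComm.UE, e3] at key
    rw [K214.FnForm.V_of_eq (v c) h₁, key]
    push_cast
    congr 1; ring

end Groth.Agent.S8479
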