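import Groth.Statements.S8483
import Groth.Agent.Red.K215.RankOnePts

set_option autoImplicit false
universe u
open CategoryTheory MonoidalCategory CartesianMonoidalCategory MonObj GrpObj AlgebraicGeometry CategoryTheory.Limits
open Red

namespace Groth.Agent.S8483

/-- Let G be a reductive S-group, i : T ⟶ G a maximal torus, α a character of T non-trivial on every
geometric fibre, p₊, p₋ : 𝔾_a ⟶ G monomorphisms of groups normalised by T with multipliers α and α⁻¹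
whose cell map (y, t, x) ↦ p₋(y) i(t) p₊(x) is an open immersion 𝔾_a ×_S T ×_S 𝔾_a ⟶ G, and α^* :
𝔾_m ⟶ T the coroot: α ∘ α^* is the squaring map and p₊(x) p₋(y) = p₋(y/(1+xy)) · i(α^*(1+xy)) ·
p₊(x/(1+xy)) whenever 1 + xy is invertible (so p₊ and p₋ are dual to each other). For points x, y of
𝔾_a with invertible coordinates put w(x) = p₊(x) p₋(-x⁻¹) p₊(x) and w₋(y) = p₋(y) p₊(-y⁻¹) p₋(y).
Then w₋(x⁻¹) = w(x)⁻¹ = w(-x), and w(x) w₋(y) = i(α^*(x y)). -/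
theorem result (S : Scheme.{u}) (G T : Over S) [GrpObj G] [GrpObj T] (i : T ⟶ G) [IsMonHom i] [Mono i] (hG : Red.IsReductive G) (hTm : Red.IsMaximalTorus i)
    (α : T ⟶ Red.Gm S) [IsMonHom α] (hα : ∀ s : S, (Over.pullback (Red.geomPt s)).map α ≠ 1)
    (pp pm : Red.Ga S ⟶ G) [IsMonHom pp] [Mono pp] [IsMonHom pm] [Mono pm]
    (hpp : ∀ (X : Over S) (t : X ⟶ T) (x : X ⟶ Red.Ga S), ∃ x' : X ⟶ Red.Ga S,
      x' ≫ pp = (t ≫ i) * (x ≫ pp) * (t ≫ i)⁻¹ ∧ Red.gaFn x' = Red.gmFn (t ≫ α) * Red.gaFn x)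
    (hpm : ∀ (X : Over S) (t : X ⟶ T) (y : X ⟶ Red.Ga S), ∃ y' : X ⟶ Red.Ga S,
      y' ≫ pm = (t ≫ i) * (y ≫ pm) * (t ≫ i)⁻¹ ∧ Red.gaFn y' * Red.gmFn (t ≫ α) = Red.gaFn y)
    (hΩ : IsOpenImmersion (((pm ⊗ₘ i) ⊗ₘ pp) ≫ (μ[G] ▷ G) ≫ μ[G]).left)
    (av : Red.Gm S ⟶ T) [IsMonHom av] (h2 : av ≫ α = (𝟙 (Red.Gm S)) ^ 2)
    (hF : ∀ (X : Over S) (x y : X ⟶ Red.Ga S), IsUnit (1 + Red.gaFn x * Red.gaFn y) →
      ∃ (x' y' : X ⟶ Red.Ga S) (z : X ⟶ Red.Gm S), Red.gmFn z = 1 + Red.gaFn x * Red.gaFn y ∧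
        Red.gaFn x' * Red.gmFn z = Red.gaFn x ∧ Red.gaFn y' * Red.gmFn z = Red.gaFn y ∧
        (x ≫ pp) * (y ≫ pm) = (y' ≫ pm) * (z ≫ av ≫ i) * (x' ≫ pp))
    (X : Over S) (x x' nx nx' y y' : X ⟶ Red.Ga S) (hx : Red.gaFn x' * Red.gaFn x = -1) (hnx : Red.gaFn nx = - Red.gaFn x)
    (hnx' : Red.gaFn nx' = - Red.gaFn x') (hy : Red.gaFn y' * Red.gaFn y = -1) (z : X ⟶ Red.Gm S)
    (hz : Red.gmFn z = Red.gaFn x * Red.gaFn y) :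
    (nx' ≫ pm) * (nx ≫ pp) * (nx' ≫ pm) = ((x ≫ pp) * (x' ≫ pm) * (x ≫ pp))⁻¹ ∧
      (nx ≫ pp) * (nx' ≫ pm) * (nx ≫ pp) = ((x ≫ pp) * (x' ≫ pm) * (x ≫ pp))⁻¹ ∧
      ((x ≫ pp) * (x' ≫ pm) * (x ≫ pp)) * ((y ≫ pm) * (y' ≫ pp) * (y ≫ pm)) = z ≫ av ≫ i := by
  have ux : IsUnit (Red.gaFn x) := IsUnit.of_mul_eq_one (-Red.gaFn x') (by linear_combination -hx)
  have uy : IsUnit (Red.gaFn y) := IsUnit.of_mul_eq_one (-Red.gaFn y') (by linear_combination -hy)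
  obtain ⟨vx, hvx⟩ := ux
  obtain ⟨vy, hvy⟩ := uy
  have ex' : Red.gaFn x' = -((vx⁻¹ : Γ(X.left, ⊤)ˣ) : Γ(X.left, ⊤)) := by
    apply vx.isUnit.mul_right_cancel
    rw [neg_mul, Units.inv_mul, hvx, hx]
  have ey' : Red.gaFn y' = -((vy⁻¹ : Γ(X.left, ⊤)ˣ) : Γ(X.left, ⊤)) := by
    apply vy.isUnit.mul_right_cancel
    rw [neg_mul, Units.inv_mul, hvy, hy]
  let r := K215.RankOne.r1 (α := α) hpp hpm h2 hF X
  have hw : (x ≫ pp) * (x' ≫ pm) * (x ≫ pp) = r.w vx := by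
    unfold K215.R1.w
    simp only [r, K215.RankOne.r1_P, K215.RankOne.r1_M]
    rw [← ex', hvx, K215.RankOne.P_gaFn, K215.RankOne.P_gaFn]
  have hwm : (y ≫ pm) * (y' ≫ pp) * (y ≫ pm) = r.wm vy := by
    unfold K215.R1.wm
    simp only [r, K215.RankOne.r1_P, K215.RankOne.r1_M]
    rw [← ey', hvy, K215.RankOne.P_gaFn, K215.RankOne.P_gaFn]
  have hwn : (nx ≫ pp) * (nx' ≫ pm) * (nx ≫ pp) = r.w (-vx) := by
    unfold K215.R1.w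
    simp only [r, K215.RankOne.r1_P, K215.RankOne.r1_M]
    have e1 : -(((-vx)⁻¹ : Γ(X.left, ⊤)ˣ) : Γ(X.left, ⊤)) = Red.gaFn nx' := by
      rw [hnx', ex']; simp
    rw [e1, Units.val_neg, hvx, ← hnx, K215.RankOne.P_gaFn, K215.RankOne.P_gaFn]
  have hwmn : (nx' ≫ pm) * (nx ≫ pp) * (nx' ≫ pm) = r.wm vx⁻¹ := by
    unfold K215.R1.wm
    simp only [r, K215.RankOne.r1_P, K215.RankOne.r1_M]
    have e1 : (((vx)⁻¹ : Γ(X.left, ⊤)ˣ) : Γ(X.left, ⊤)) = Red.gaFn nx' := by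
      rw [hnx', ex']; simp
    rw [_root_.inv_inv, e1, hvx, ← hnx, K215.RankOne.P_gaFn, K215.RankOne.P_gaFn]
  rw [hw, hwn, hwmn, hwm]
  refine ⟨?_, r.w_neg vx, ?_⟩
  · rw [← r.w_neg, K215.RankOne.w_eq_wm]
    simp [r]
  · rw [K215.RankOne.w_mul_wm, K215.RankOne.A, K215.RankOne.gmPt_gmFn z (vx * vy) (by
      rw [hz, Units.val_mul, hvx, hvy])]


end Groth.Agent.S8483
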