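import Groth.Statements.S8484
import Groth.Agent.Red.K213.PtKit
import Groth.Agent.Red.K213.Rk2A

set_option autoImplicit false
universe u
open CategoryTheory MonoidalCategory CartesianMonoidalCategory MonObj GrpObj AlgebraicGeometry CategoryTheory.Limits
open Red

namespace Groth.Agent.S8484

/-- At the level of root groups. Let G be a pinned reductive S-group: a splitting D (maximal torus T ≅
D_S(M), root datum with root homomorphisms u_c : 𝔾_a ⟶ G for all roots c, system of simple roots Δ)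
such that for every simple root a the root homomorphisms of a and -a are dual to each other: u_a(x)
u_{-a}(y) = u_{-a}(y/(1+xy)) · a^∨(1+xy) · u_a(x/(1+xy)) whenever 1 + xy is invertible, where a^∨ :
𝔾_m ⟶ T is the coroot of a read through the splitting. For a root a put w_a = u_a(1) u_{-a}(-1)
u_a(1) (an S-point of G). Let a ≠ b be simple roots with ⟨b, a^∨⟩ = ⟨a, b^∨⟩ = -1 (type A₂) and put
u_{a+b}(x) = w_b u_a(x) w_b⁻¹. Then for all points x of 𝔾_a: w_a u_b(x) w_a⁻¹ = u_{a+b}(-x), w_a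
u_{a+b}(x) w_a⁻¹ = u_b(x) and w_b u_{a+b}(x) w_b⁻¹ = u_a(-x) (the relations Ad(w_a) X_b = -X_{a+b},
Ad(w_a) X_{a+b} = X_b, Ad(w_b) X_{a+b} = -X_a). (The published statement is for a pinned group whose
simple roots are exactly a and b; this row states it for two simple roots a ≠ b of any pinned
group.) -/
theorem result (S : Scheme.{u}) (e₁ : 𝟙_ (Over S) ⟶ Red.Ga S) (he₁ : Red.gaFn e₁ = 1)
    (G : Over S) [GrpObj G] (D : Red.Pinning G)
    (avc : D.idx → (Red.Gm S ⟶ D.T))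
    (havc : ∀ a, avc a = Red.DSmap S (D.P.coroot a).toAddMonoidHom ≫ D.split.inv.hom.hom)
    (hpair : ∀ a ∈ D.base.support, ∀ (X : Over S) (x y : X ⟶ Red.Ga S), IsUnit (1 + Red.gaFn x * Red.gaFn y) →
        ∃ (x' y' : X ⟶ Red.Ga S) (z : X ⟶ Red.Gm S), Red.gmFn z = 1 + Red.gaFn x * Red.gaFn y ∧
          Red.gaFn x' * Red.gmFn z = Red.gaFn x ∧ Red.gaFn y' * Red.gmFn z = Red.gaFn y ∧
          (x ≫ D.u a) * (y ≫ D.u (D.P.reflectionPerm a a)) = (y' ≫ D.u (D.P.reflectionPerm a a)) * (z ≫ avc a ≫ D.i) * (x' ≫ D.u a))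
    (w : D.idx → (𝟙_ (Over S) ⟶ G))
    (hw : ∀ a, w a = (e₁ ≫ D.u a) * (e₁ ≫ D.u (D.P.reflectionPerm a a))⁻¹ * (e₁ ≫ D.u a))
    (a b : D.idx) (ha : a ∈ D.base.support) (hb : b ∈ D.base.support) (hne : a ≠ b)
    (hba : D.P.pairing b a = -1) (hab : D.P.pairing a b = -1)
    (uab : ∀ X : Over S, (X ⟶ Red.Ga S) → (X ⟶ G))
    (huab : ∀ (X : Over S) (x : X ⟶ Red.Ga S), uab X x = (toUnit X ≫ w b) * (x ≫ D.u a) * (toUnit X ≫ w b)⁻¹)
    (X : Over S) (x nx : X ⟶ Red.Ga S) (hnx : Red.gaFn nx = - Red.gaFn x) :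
    (toUnit X ≫ w a) * (x ≫ D.u b) * (toUnit X ≫ w a)⁻¹ = uab X nx ∧
      (toUnit X ≫ w a) * uab X x * (toUnit X ≫ w a)⁻¹ = x ≫ D.u b ∧
      (toUnit X ≫ w b) * uab X x * (toUnit X ≫ w b)⁻¹ = nx ≫ D.u a := by
  obtain rfl : avc = _ := funext havc
  have hgen : ∀ (R : Type u) [CommRing R] (s : Spec (CommRingCat.of R) ⟶ S)
      (g : Groth.Agent.Sga3B.PinMod.tB s R ⟶ X),
      g ≫ ((toUnit X ≫ w a) * (x ≫ D.u b) * (toUnit X ≫ w a)⁻¹) = g ≫ uab X nx ∧
      g ≫ ((toUnit X ≫ w a) * uab X x * (toUnit X ≫ w a)⁻¹) = g ≫ x ≫ D.u b ∧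
      g ≫ ((toUnit X ≫ w b) * uab X x * (toUnit X ≫ w b)⁻¹) = g ≫ nx ≫ D.u a := by
    intro R _ s g
    obtain ⟨c⟩ := K213.PtKit.exists_chart' D.toSplitRed R s
    have key := K213.Rk2.a2 (D := c.datum D.toSplitRed) D.P (fun _ => rfl) D.pairing_eq D.base
      (Groth.Agent.Sga3B.PinModelOf.good D.toSplitRed c) ha hb hne
      (K213.PtKit.rank1_of_hpair D.toSplitRed c a (hpair a ha))
      (K213.PtKit.rank1_of_hpair D.toSplitRed c b (hpair b hb)) hba hab (B := R)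
      _ (fun _ => rfl)
    obtain ⟨-, -, -, h1, h2, h3⟩ := key
    replace h1 := h1 (K213.PtKit.gaR s (g ≫ x))
    replace h2 := h2 (K213.PtKit.gaR s (g ≫ x))
    replace h3 := h3 (K213.PtKit.gaR s (g ≫ x))
    have e1 : K213.PtKit.gaR s (g ≫ nx) = - K213.PtKit.gaR s (g ≫ x) := by
      apply K213.PtKit.gaR_comp
      rw [hnx, map_neg, map_neg, K213.PtKit.app_gaFn]
    have hWa := K213.PtKit.pt_w' D.toSplitRed c e₁ he₁ hw g a
    have hWb := K213.PtKit.pt_w' D.toSplitRed c e₁ he₁ hw g b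
    have hU := K213.PtKit.pt_u' D.toSplitRed c g
    simp only [huab, MonObj.comp_mul, GrpObj.comp_inv, hWa, hWb, hU, e1,
      ← map_mul, ← map_inv]
    exact ⟨by rw [h1], by rw [h2], by rw [h3]⟩
  exact ⟨K213.PtKit.hom_ext_tB fun R _ s g => (hgen R s g).1,
    K213.PtKit.hom_ext_tB fun R _ s g => (hgen R s g).2.1,
    K213.PtKit.hom_ext_tB fun R _ s g => (hgen R s g).2.2⟩

end Groth.Agent.S8484
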