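import Groth.Statements.S8486
import Groth.Agent.Red.K213.PtKit
import Groth.Agent.Red.K213.Rk2G

set_option autoImplicit false
universe u
open CategoryTheory MonoidalCategory CartesianMonoidalCategory MonObj GrpObj AlgebraicGeometry CategoryTheory.Limits
open Red

namespace Groth.Agent.S8486

/-- At the level of root groups. Let G be a pinned reductive S-group: a splitting D (maximal torus T ≅
D_S(M), root datum with root homomorphisms u_c : 𝔾_a ⟶ G for all roots c, system of simple roots Δ)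
such that for every simple root a the root homomorphisms of a and -a are dual to each other: u_a(x)
u_{-a}(y) = u_{-a}(y/(1+xy)) · a^∨(1+xy) · u_a(x/(1+xy)) whenever 1 + xy is invertible, where a^∨ :
𝔾_m ⟶ T is the coroot of a read through the splitting. For a root a put w_a = u_a(1) u_{-a}(-1)
u_a(1) (an S-point of G). Let a ≠ b be simple roots with ⟨b, a^∨⟩ = -3 and ⟨a, b^∨⟩ = -1 (type G₂);
put u_{a+b}(x) = w_b u_a(x) w_b⁻¹, u_{2a+b}(x) = (w_a w_b) u_a(x) (w_a w_b)⁻¹, u_{3a+b}(x) = w_a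
u_b(-x) w_a⁻¹, u_{3a+2b}(x) = (w_b w_a) u_b(-x) (w_b w_a)⁻¹. Then for all points x of 𝔾_a: w_a
u_{2a+b}(x) w_a⁻¹ = u_{a+b}(-x), w_a u_{3a+b}(x) w_a⁻¹ = u_b(x), w_a u_{3a+2b}(x) w_a⁻¹ =
u_{3a+2b}(x), w_b u_{a+b}(x) w_b⁻¹ = u_a(-x), w_b u_{2a+b}(x) w_b⁻¹ = u_{2a+b}(x) and w_b
u_{3a+2b}(x) w_b⁻¹ = u_{3a+b}(-x). (The published statement is for a pinned group whose simple roots
are exactly a and b; this row states it for two simple roots a ≠ b of any pinned group.) -/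
theorem result (S : Scheme.{u}) (e₁ : 𝟙_ (Over S) ⟶ Red.Ga S) (he₁ : Red.gaFn e₁ = 1)
    (G : Over S) [GrpObj G] (D : Red.Pinning G)
    (avc : D.idx → (Red.Gm S ⟶ D.T))
    (havc : ∀ a, avc a = Red.DSmap S (D.P.coroot a).toAddMonoidHom ≫ D.split.inv.hom.hom)
    (hpair : ∀ a ∈ D.base.support, ∀ (X : Over S) (x y : X ⟶ Red.Ga S), IsUnit (1 + Red.gaFn x * Red.gaFn y) →
        ∃ (x' y' : X ⟶ Red.Ga S) (z : X ⟶ Red.Gm S), Red.gmFn z = 1 + Red.gaFn x * Red.gaFn y ∧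
          Red.gaFn x' * Red.gmFn z = Red.gaFn x ∧ Red.gaFn y' * Red.gmFn z = Red.gaFn y ∧
          (x ≫ D.u a) * (y ≫ D.u (D.P.reflectionPerm a a)) = (y' ≫ D.u (D.P.reflectionPerm a a)) * (z ≫ avc a ≫ D.i) * (x' ≫ D.u a))
    (w : D.idx → (𝟙_ (Over S) ⟶ G))
    (hw : ∀ a, w a = (e₁ ≫ D.u a) * (e₁ ≫ D.u (D.P.reflectionPerm a a))⁻¹ * (e₁ ≫ D.u a))
    (a b : D.idx) (ha : a ∈ D.base.support) (hb : b ∈ D.base.support) (hne : a ≠ b)
    (hba : D.P.pairing b a = -3) (hab : D.P.pairing a b = -1)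
    (u11 : ∀ X : Over S, (X ⟶ Red.Ga S) → (X ⟶ G))
    (hu11 : ∀ (X : Over S) (x : X ⟶ Red.Ga S), u11 X x = (toUnit X ≫ w b) * (x ≫ D.u a) * (toUnit X ≫ w b)⁻¹)
    (u21 : ∀ X : Over S, (X ⟶ Red.Ga S) → (X ⟶ G))
    (hu21 : ∀ (X : Over S) (x : X ⟶ Red.Ga S), u21 X x = (toUnit X ≫ (w a * w b)) * (x ≫ D.u a) * (toUnit X ≫ (w a * w b))⁻¹)
    (u31 : ∀ X : Over S, (X ⟶ Red.Ga S) → (X ⟶ G))
    (hu31 : ∀ (X : Over S) (x : X ⟶ Red.Ga S), u31 X x = (toUnit X ≫ w a) * (x ≫ D.u b)⁻¹ * (toUnit X ≫ w a)⁻¹)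
    (u32 : ∀ X : Over S, (X ⟶ Red.Ga S) → (X ⟶ G))
    (hu32 : ∀ (X : Over S) (x : X ⟶ Red.Ga S), u32 X x = (toUnit X ≫ (w b * w a)) * (x ≫ D.u b)⁻¹ * (toUnit X ≫ (w b * w a))⁻¹)
    (X : Over S) (x nx : X ⟶ Red.Ga S) (hnx : Red.gaFn nx = - Red.gaFn x) :
    (toUnit X ≫ w a) * u21 X x * (toUnit X ≫ w a)⁻¹ = u11 X nx ∧ (toUnit X ≫ w a) * u31 X x * (toUnit X ≫ w a)⁻¹ = x ≫ D.u b ∧
      (toUnit X ≫ w a) * u32 X x * (toUnit X ≫ w a)⁻¹ = u32 X x ∧ (toUnit X ≫ w b) * u11 X x * (toUnit X ≫ w b)⁻¹ = nx ≫ D.u a ∧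
      (toUnit X ≫ w b) * u21 X x * (toUnit X ≫ w b)⁻¹ = u21 X x ∧ (toUnit X ≫ w b) * u32 X x * (toUnit X ≫ w b)⁻¹ = u31 X nx := by
  obtain rfl : avc = _ := funext havc
  have hgen : ∀ (R : Type u) [CommRing R] (s : Spec (CommRingCat.of R) ⟶ S)
      (g : Groth.Agent.Sga3B.PinMod.tB s R ⟶ X),
      g ≫ ((toUnit X ≫ w a) * u21 X x * (toUnit X ≫ w a)⁻¹) = g ≫ u11 X nx ∧
      g ≫ ((toUnit X ≫ w a) * u31 X x * (toUnit X ≫ w a)⁻¹) = g ≫ x ≫ D.u b ∧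
      g ≫ ((toUnit X ≫ w a) * u32 X x * (toUnit X ≫ w a)⁻¹) = g ≫ u32 X x ∧
      g ≫ ((toUnit X ≫ w b) * u11 X x * (toUnit X ≫ w b)⁻¹) = g ≫ nx ≫ D.u a ∧
      g ≫ ((toUnit X ≫ w b) * u21 X x * (toUnit X ≫ w b)⁻¹) = g ≫ u21 X x ∧
      g ≫ ((toUnit X ≫ w b) * u32 X x * (toUnit X ≫ w b)⁻¹) = g ≫ u31 X nx := by
    intro R _ s g
    obtain ⟨c⟩ := K213.PtKit.exists_chart' D.toSplitRed R s
    have key := K213.Rk2.g2 (D := c.datum D.toSplitRed) D.P (fun _ => rfl) D.pairing_eq D.base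
      (Groth.Agent.Sga3B.PinModelOf.good D.toSplitRed c) ha hb hne
      (K213.PtKit.rank1_of_hpair D.toSplitRed c a (hpair a ha))
      (K213.PtKit.rank1_of_hpair D.toSplitRed c b (hpair b hb)) hba hab (B := R)
      _ _ _ _ (fun _ => rfl) (fun _ => rfl) (fun _ => rfl) (fun _ => rfl)
    obtain ⟨-, -, h1, h2, h3, h4, h5, h6⟩ := key
    replace h1 := h1 (K213.PtKit.gaR s (g ≫ x))
    replace h2 := h2 (K213.PtKit.gaR s (g ≫ x))
    replace h3 := h3 (K213.PtKit.gaR s (g ≫ x))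
    replace h4 := h4 (K213.PtKit.gaR s (g ≫ x))
    replace h5 := h5 (K213.PtKit.gaR s (g ≫ x))
    replace h6 := h6 (K213.PtKit.gaR s (g ≫ x))
    have e1 : K213.PtKit.gaR s (g ≫ nx) = - K213.PtKit.gaR s (g ≫ x) := by
      apply K213.PtKit.gaR_comp
      rw [hnx, map_neg, map_neg, K213.PtKit.app_gaFn]
    have hWa := K213.PtKit.pt_w' D.toSplitRed c e₁ he₁ hw g a
    have hWb := K213.PtKit.pt_w' D.toSplitRed c e₁ he₁ hw g b
    have hU := K213.PtKit.pt_u' D.toSplitRed c g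
    simp only [hu11, hu21, hu31, hu32, MonObj.comp_mul, GrpObj.comp_inv, hWa, hWb, hU, e1,
      ← map_mul, ← map_inv, _root_.mul_inv_rev, Groth.Agent.Sga3B.Cell.Datum.uu_neg, _root_.inv_inv] at h1 h2 h3 h4 h5 h6 ⊢
    simp only [_root_.mul_assoc] at h1 h2 h3 h4 h5 h6 ⊢
    exact ⟨by rw [h1], by rw [h2], by rw [h3], by rw [h4], by rw [h5], by rw [h6]⟩
  exact ⟨K213.PtKit.hom_ext_tB fun R _ s g => (hgen R s g).1,
    K213.PtKit.hom_ext_tB fun R _ s g => (hgen R s g).2.1,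
    K213.PtKit.hom_ext_tB fun R _ s g => (hgen R s g).2.2.1,
    K213.PtKit.hom_ext_tB fun R _ s g => (hgen R s g).2.2.2.1,
    K213.PtKit.hom_ext_tB fun R _ s g => (hgen R s g).2.2.2.2.1,
    K213.PtKit.hom_ext_tB fun R _ s g => (hgen R s g).2.2.2.2.2⟩

end Groth.Agent.S8486
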