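import Groth.Statements.S8487
import Groth.Agent.Red.K212.R1Cent

set_option autoImplicit false
universe u
open CategoryTheory MonoidalCategory CartesianMonoidalCategory MonObj GrpObj AlgebraicGeometry CategoryTheory.Limits
open Red

namespace Groth.Agent.S8487

/-- Let G be a reductive S-group, i : T ⟶ G a maximal torus, α a character of T non-trivial on every
geometric fibre, p₊, p₋ : 𝔾_a ⟶ G monomorphisms of groups normalised by T with multipliers α and α⁻¹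
whose cell map (y, t, x) ↦ p₋(y) i(t) p₊(x) is an open immersion 𝔾_a ×_S T ×_S 𝔾_a ⟶ G, and α^* :
𝔾_m ⟶ T the coroot: α ∘ α^* is the squaring map and p₊(x) p₋(y) = p₋(y/(1+xy)) · i(α^*(1+xy)) ·
p₊(x/(1+xy)) whenever 1 + xy is invertible (so p₊ and p₋ are dual to each other). Let n be a
non-zero integer and w an S-point of G such that w · i(α^*(z))^n · w⁻¹ = i(α^*(z))^{-n} for all
points z of 𝔾_m (after base change). Then w is a point of N^× = Norm_G(T) − T: it normalises T, with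
w i(t) w⁻¹ = i(α^*(α(t)))⁻¹ i(t) for all points t of T, and for no geometric point s̄ of S does
w(s̄) lie in T. (The published statement is an equivalence; this row states only this implication.) -/
theorem result (S : Scheme.{u}) (G T : Over S) [GrpObj G] [GrpObj T] (i : T ⟶ G) [IsMonHom i] [Mono i] (hG : Red.IsReductive G) (hTm : Red.IsMaximalTorus i)
    (α : T ⟶ Red.Gm S) [IsMonHom α] (hα : ∀ s : S, (Over.pullback (Red.geomPt s)).map α ≠ 1)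
    (pp pm : Red.Ga S ⟶ G) [IsMonHom pp] [Mono pp] [IsMonHom pm] [Mono pm]
    (hpp : ∀ (X : Over S) (t : X ⟶ T) (x : X ⟶ Red.Ga S), ∃ x' : X ⟶ Red.Ga S,
      x' ≫ pp = (t ≫ i) * (x ≫ pp) * (t ≫ i)⁻¹ ∧ Red.gaFn x' = Red.gmFn (t ≫ α) * Red.gaFn x)
    (hpm : ∀ (X : Over S) (t : X ⟶ T) (y : X ⟶ Red.Ga S), ∃ y' : X ⟶ Red.Ga S,
      y' ≫ pm = (t ≫ i) * (y ≫ pm) * (t ≫ i)⁻¹ ∧ Red.gaFn y' * Red.gmFn (t ≫ α) = Red.gaFn y)
    (hΩ : IsOpenImmersion (((pm ⊗ₘ i) ⊗ₘ pp) ≫ (μ[G] ▷ G) ≫ μ[G]).left)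
    (av : Red.Gm S ⟶ T) [IsMonHom av] (h2 : av ≫ α = (𝟙 (Red.Gm S)) ^ 2)
    (hF : ∀ (X : Over S) (x y : X ⟶ Red.Ga S), IsUnit (1 + Red.gaFn x * Red.gaFn y) →
      ∃ (x' y' : X ⟶ Red.Ga S) (z : X ⟶ Red.Gm S), Red.gmFn z = 1 + Red.gaFn x * Red.gaFn y ∧
        Red.gaFn x' * Red.gmFn z = Red.gaFn x ∧ Red.gaFn y' * Red.gmFn z = Red.gaFn y ∧
        (x ≫ pp) * (y ≫ pm) = (y' ≫ pm) * (z ≫ av ≫ i) * (x' ≫ pp))
    (n : ℤ) (hn : n ≠ 0) (w : 𝟙_ (Over S) ⟶ G)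
    (hw : ∀ (X : Over S) (z : X ⟶ Red.Gm S),
      (toUnit X ≫ w) * (((z ≫ av) ^ n) ≫ i) * (toUnit X ≫ w)⁻¹ = ((((z ≫ av) ^ n) ≫ i))⁻¹) :
    (∀ (X : Over S) (t : X ⟶ T), (toUnit X ≫ w) * (t ≫ i) * (toUnit X ≫ w)⁻¹ = (t ≫ α ≫ av ≫ i)⁻¹ * (t ≫ i)) ∧
      ∀ s : S, ¬ ∃ t : Over.mk (Red.geomPt s) ⟶ T, t ≫ i = toUnit (Over.mk (Red.geomPt s)) ≫ w := by
  have hT := hTm.2.2.1
  have hcomm := Groth.Agent.Sga3B.MaxTorNear900.mul_comm_of_isTorus hT
  have H : K212.R1Mk.R1Hyp i α pp pm av := ⟨inferInstance, inferInstance, inferInstance, inferInstance,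
    inferInstance, hcomm, hpp, hpm, h2, hF⟩
  have := hG.2.1
  -- `w w₀⁻¹` centralises the coroot
  have hc : K212.R1Cent.Comm H n.natAbs (𝟙_ (Over S)) (w * ((H.sys (𝟙_ (Over S))).w 1)⁻¹) := by
    refine K212.R1Cent.comm_of_zpow H (n := n) fun X' y z => ?_
    have h3 := hw X' z
    rw [K212.R1Cent.zpow_eq H] at h3 ⊢
    have e3 : y ≫ w = toUnit X' ≫ w := by rw [toUnit_unique y (toUnit X')]
    rw [MonObj.comp_mul, GrpObj.comp_inv, K212.R1Conj.w_nat, map_one, e3]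
    set D' := H.sys X' with hD'
    set W := toUnit X' ≫ w with hW
    have h4 := D'.w_h 1 (K212.R1Mk.uPt z ^ n)⁻¹
    rw [map_inv, _root_.inv_inv] at h4
    have h5 : (D'.w 1)⁻¹ * D'.h (K212.R1Mk.uPt z ^ n) =
        (D'.h (K212.R1Mk.uPt z ^ n))⁻¹ * (D'.w 1)⁻¹ := by
      rw [inv_mul_eq_iff_eq_mul, ← _root_.mul_assoc, h4, mul_inv_cancel_right]
    have h6 : W * (D'.h (K212.R1Mk.uPt z ^ n))⁻¹ = D'.h (K212.R1Mk.uPt z ^ n) * W := by
      rw [mul_inv_eq_iff_eq_mul] at h3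
      rw [mul_inv_eq_iff_eq_mul, _root_.mul_assoc, h3, mul_inv_cancel_left]
    rw [_root_.mul_assoc, h5, ← _root_.mul_assoc, h6, _root_.mul_assoc]
  obtain ⟨t₀, ht₀⟩ := K212.R1Cent.exists_of_comm H hΩ (K212.Kpt.irreducible_of_isReductive hG)
      (Int.natAbs_ne_zero.mpr hn) hc
  have hwt : ∀ X : Over S, toUnit X ≫ w = (H.sys X).t (toUnit X ≫ t₀) * (H.sys X).w 1 := by
    intro X
    have h3 : w = (H.sys (𝟙_ (Over S))).t t₀ * (H.sys (𝟙_ (Over S))).w 1 := by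
      have h3 : (H.sys (𝟙_ (Over S))).t t₀ = w * ((H.sys (𝟙_ (Over S))).w 1)⁻¹ := ht₀
      rw [h3, inv_mul_cancel_right]
    rw [h3, MonObj.comp_mul, K212.R1Conj.t_nat, K212.R1Conj.w_nat, map_one]
  constructor
  · intro X t
    rw [hwt X]
    set D := H.sys X with hD
    have e1 : t ≫ i = D.t t := rfl
    have e2 : t ≫ α ≫ av ≫ i = D.h (D.ch t) := by
      have := K212.R1Mk.comp_av_i H (t ≫ α)
      rw [Category.assoc] at this
      exact this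
    rw [e1, e2]
    have h1 := D.w_t t 1
    have h4 : D.t (toUnit X ≫ t₀) * D.w 1 * D.t t * (D.t (toUnit X ≫ t₀) * D.w 1)⁻¹ =
        D.t (toUnit X ≫ t₀) * (D.w 1 * D.t t * (D.w 1)⁻¹) * (D.t (toUnit X ≫ t₀))⁻¹ := by
      rw [_root_.mul_inv_rev]
      simp only [_root_.mul_assoc]
    have h5 : ∀ a b : X ⟶ T, D.t a * D.t b * (D.t a)⁻¹ = D.t b := by
      intro a b
      rw [← map_mul, D.tcomm a b, map_mul, mul_inv_cancel_right]
    have h6 : (D.h (D.ch t))⁻¹ * D.t t = D.t ((D.av (D.ch t))⁻¹ * t) := by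
      rw [map_mul, map_inv, ← K212.R1Alg.R1.h_apply]
    rw [h4, h1, h6, h5]
  · rintro s ⟨t, ht⟩
    have h1 := hwt (Over.mk (Red.geomPt s))
    rw [← ht] at h1
    set D := H.sys (Over.mk (Red.geomPt s)) with hD
    have e1 : t ≫ i = D.t t := rfl
    rw [e1] at h1
    have h3 : D.w 1 = D.t ((toUnit (Over.mk (Red.geomPt s)) ≫ t₀)⁻¹ * t) := by
      rw [map_mul, map_inv, h1, inv_mul_cancel_left]
    have hpt : Nonempty (Over.mk (Red.geomPt s)).left :=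
      inferInstanceAs (Nonempty (Spec (.of (AlgebraicClosure (S.residueField s)))))
    obtain ⟨pt⟩ := hpt
    apply K212.R1Geo.w_not_inCell H hΩ pt 1
    refine ⟨0, (toUnit (Over.mk (Red.geomPt s)) ≫ t₀)⁻¹ * t, 0, ?_⟩
    rw [K212.R1Alg.R1.q_zero, K212.R1Alg.R1.p_zero, _root_.one_mul, _root_.mul_one]
    exact h3

end Groth.Agent.S8487
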