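import Groth.Statements.S8489
import Groth.Agent.S8445
import Groth.Agent.Red.K215.UnitPt
import Groth.Agent.Red.K215.RankOnePts

set_option autoImplicit false
universe u
open CategoryTheory MonoidalCategory CartesianMonoidalCategory MonObj GrpObj AlgebraicGeometry CategoryTheory.Limits
open Red

namespace Groth.Agent.S8489

/-- At the level of root homomorphisms. Let G be a reductive S-group, i : T ⟶ G a maximal torus, α a
character of T non-trivial on every geometric fibre, and p₊, p₋ : 𝔾_a ⟶ G monomorphisms of groups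
normalised by T with multipliers α and α⁻¹ such that 𝔾_a ×_S T ×_S 𝔾_a ⟶ G, (y, t, x) ↦ p₋(y) i(t)
p₊(x), is an open immersion (a rank-one system: G has semisimple rank 1 and p₊, p₋ trivialise the
root groups of α and -α). Then every monomorphism of groups p : 𝔾_a ⟶ G normalised by T with
multiplier α is a rescaling of p₊ by a unit: there is exactly one S-point c of 𝔾_m with p(x) = p₊(c
x) for all points x of 𝔾_a. (The published statement is a bijection between the nowhere-vanishing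
sections of the root line bundle and such monomorphisms; this row states it after fixing p₊.) -/
theorem result (S : Scheme.{u}) (G T : Over S) [GrpObj G] [GrpObj T] (i : T ⟶ G) [IsMonHom i] [Mono i] (hG : Red.IsReductive G) (hTm : Red.IsMaximalTorus i)
    (α : T ⟶ Red.Gm S) [IsMonHom α] (hα : ∀ s : S, (Over.pullback (Red.geomPt s)).map α ≠ 1)
    (pp pm : Red.Ga S ⟶ G) [IsMonHom pp] [Mono pp] [IsMonHom pm] [Mono pm]
    (hpp : ∀ (X : Over S) (t : X ⟶ T) (x : X ⟶ Red.Ga S), ∃ x' : X ⟶ Red.Ga S,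
      x' ≫ pp = (t ≫ i) * (x ≫ pp) * (t ≫ i)⁻¹ ∧ Red.gaFn x' = Red.gmFn (t ≫ α) * Red.gaFn x)
    (hpm : ∀ (X : Over S) (t : X ⟶ T) (y : X ⟶ Red.Ga S), ∃ y' : X ⟶ Red.Ga S,
      y' ≫ pm = (t ≫ i) * (y ≫ pm) * (t ≫ i)⁻¹ ∧ Red.gaFn y' * Red.gmFn (t ≫ α) = Red.gaFn y)
    (hΩ : IsOpenImmersion (((pm ⊗ₘ i) ⊗ₘ pp) ≫ (μ[G] ▷ G) ≫ μ[G]).left)
    (p : Red.Ga S ⟶ G) [IsMonHom p] [Mono p]
    (hp : ∀ (X : Over S) (t : X ⟶ T) (x : X ⟶ Red.Ga S), ∃ x' : X ⟶ Red.Ga S,
      x' ≫ p = (t ≫ i) * (x ≫ p) * (t ≫ i)⁻¹ ∧ Red.gaFn x' = Red.gmFn (t ≫ α) * Red.gaFn x) :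
    ∃! c : 𝟙_ (Over S) ⟶ Red.Gm S, ∀ (X : Over S) (x y : X ⟶ Red.Ga S),
      Red.gaFn y = Red.gmFn (toUnit X ≫ c) * Red.gaFn x → x ≫ p = y ≫ pp := by
  have hν0 := Groth.Agent.S8445.result S G T i hTm.2.2.1 T (𝟙 T) hTm.2.2.1 α (by simpa using hα)
    pp pm hpp hpm hΩ 1 p (by
      intro X t x x' hx'
      rw [Category.id_comp] at hx'
      rw [Category.id_comp, _root_.pow_one]
      obtain ⟨x'', h1, h2⟩ := hp X t x
      have : x' = x'' := by
        apply Groth.Agent.Sga3B.GaPts.gaFn_injective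
        rw [hx', h2]
      rw [this, h1])
  obtain ⟨ν, hν, -⟩ := hν0
  have hν' : ∀ (X : Over S) (x y : X ⟶ Red.Ga S),
      Red.gaFn y = Red.gaFn (toUnit X ≫ ν) * Red.gaFn x → x ≫ p = y ≫ pp := by
    intro X x y h
    exact hν X x y (by rw [_root_.pow_one]; exact h)
  have hunit : IsUnit (Red.gaFn ν) := by
    apply K215.UnitPt.isUnit_of_residue
    intro s h0
    have h0' : (toUnit (Over.mk (S.fromSpecResidueField s))).left.appTop (Red.gaFn ν) = 0 := by
      have e : (toUnit (Over.mk (S.fromSpecResidueField s))).left = S.fromSpecResidueField s := by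
        have := Over.w (toUnit (Over.mk (S.fromSpecResidueField s)))
        simpa using this
      rw [e]
      exact h0
    have h1 : Red.gaFn (toUnit (Over.mk (S.fromSpecResidueField s)) ≫ ν) = 0 := by
      rw [Groth.Agent.Sga3B.GaPts.gaFn_comp]
      exact h0'
    have h2 : ∀ a : Γ(Spec (S.residueField s), ⊤),
        K215.RankOne.P p (Over.mk (S.fromSpecResidueField s)) a = 1 := by
      intro a
      have h3 := hν' (Over.mk (S.fromSpecResidueField s))
        (Groth.Agent.Sga3B.GaPts.gaPt (Over.mk (S.fromSpecResidueField s)) a)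
        (Groth.Agent.Sga3B.GaPts.gaPt (Over.mk (S.fromSpecResidueField s)) 0) (by
          rw [Groth.Agent.Sga3B.GaPts.gaFn_gaPt, h1, zero_mul])
      have h4 := K215.RankOne.P_zero pp (Over.mk (S.fromSpecResidueField s))
      exact h3.trans h4
    have h3 := K215.RankOne.P_injective p (Over.mk (S.fromSpecResidueField s))
      ((h2 1).trans (h2 0).symm)
    have : Nontrivial Γ(Spec (S.residueField s), ⊤) :=
      (Scheme.ΓSpecIso (S.residueField s)).commRingCatIsoToRingEquiv.nontrivial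
    exact (one_ne_zero (α := Γ(Spec (S.residueField s), ⊤))) h3
  have key : ∀ (c : 𝟙_ (Over S) ⟶ Red.Gm S), (∀ (X : Over S) (x y : X ⟶ Red.Ga S),
      Red.gaFn y = Red.gmFn (toUnit X ≫ c) * Red.gaFn x → x ≫ p = y ≫ pp) →
      Red.gmFn c = Red.gaFn ν := by
    intro c hc
    have t0 : toUnit (𝟙_ (Over S)) = 𝟙 _ := toUnit_unique _ _
    have h1 := hc (𝟙_ (Over S)) (Groth.Agent.Sga3B.GaPts.gaPt _ 1)
      (Groth.Agent.Sga3B.GaPts.gaPt _ (Red.gmFn c)) (by
        rw [Groth.Agent.Sga3B.GaPts.gaFn_gaPt, Groth.Agent.Sga3B.GaPts.gaFn_gaPt, t0,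
          Category.id_comp, _root_.mul_one])
    have h2 := hν' (𝟙_ (Over S)) (Groth.Agent.Sga3B.GaPts.gaPt _ 1)
      (Groth.Agent.Sga3B.GaPts.gaPt _ (Red.gaFn ν)) (by
        rw [Groth.Agent.Sga3B.GaPts.gaFn_gaPt, Groth.Agent.Sga3B.GaPts.gaFn_gaPt, t0,
          Category.id_comp, _root_.mul_one])
    exact K215.RankOne.P_injective pp _ (h1.symm.trans h2)
  refine ⟨Groth.Agent.Sga3.H811.Pts.gmPt _ hunit.unit, ?_, ?_⟩
  · intro X x y hy
    apply hν' X x y
    rw [hy]
    congr 1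
    rw [Groth.Agent.Sga3.H811.Pts.gmFn_comp, Groth.Agent.Sga3B.GaPts.gaFn_comp,
      Groth.Agent.Sga3.H811.Pts.gmFn_gmPt, IsUnit.unit_spec]
  · intro c hc
    apply Groth.Agent.Sga3.H811.Pts.gmFn_injective
    rw [key c hc, Groth.Agent.Sga3.H811.Pts.gmFn_gmPt, IsUnit.unit_spec]

end Groth.Agent.S8489
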