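import Groth.Statements.S8490
import Groth.Agent.AutFam.K544.SplitHom
import Groth.Agent.Sga3.H816.NeutralRed
import Groth.Agent.Sga3B.SplitRedField415
import Groth.Agent.S4138
import Groth.Agent.S3025

set_option autoImplicit false
open CategoryTheory MonoidalCategory CartesianMonoidalCategory MonObj GrpObj AlgebraicGeometry
universe u
open AutFam

namespace Groth.Agent.S8490

open Groth.Agent.Sga3B Groth.Agent.Sga3.H816.NeutralRed Groth.Agent.Sga3.H778.NeutralOpen

section empty

variable {S : Scheme.{u}} [IsEmpty S]

lemma isEmpty_left (X : Over S) : IsEmpty X.left := ⟨fun x => isEmptyElim (X.hom x)⟩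

lemma hom_ext_empty {X Y : Over S} (a b : X ⟶ Y) : a = b := by
  have := isEmpty_left X
  ext1
  exact (isInitialOfIsEmpty (X := X.left)).hom_ext _ _

lemma exists_hom_empty (X Y : Over S) : Nonempty (X ⟶ Y) := by
  have := isEmpty_left X
  exact ⟨Over.homMk ((isInitialOfIsEmpty (X := X.left)).to Y.left) ((isInitialOfIsEmpty (X := X.left)).hom_ext _ _)⟩

theorem exists_rep_empty (G H : Over S) [GrpObj G] [GrpObj H] :
    ∃ (A : Over S) (υ : G ⊗ A ⟶ H), AutFam.RepresentsHom G H A υ ∧
      LocallyOfFinitePresentation A.hom ∧ IsSeparated A.hom := by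
  obtain ⟨υ⟩ := exists_hom_empty (G ⊗ 𝟙_ (Over S)) H
  refine ⟨𝟙_ (Over S), υ, ⟨fun X g₁ g₂ t => hom_ext_empty _ _, fun X φ _ => ?_⟩, ?_, ?_⟩
  · exact ⟨toUnit X, hom_ext_empty _ _, fun _ _ => hom_ext_empty _ _⟩
  · exact inferInstanceAs (LocallyOfFinitePresentation (𝟙 S))
  · exact inferInstanceAs (IsSeparated (𝟙 S))

end empty

/-- Let G be a split reductive S-group (a splitting D is given) and H an S-group scheme which is smooth
over S and whose fibres are affine. Then the functor of homomorphisms of S-groups from G to H is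
representable: there are an S-scheme A, locally of finite presentation and separated over S, and a
family of homomorphisms G ⟶ H parametrised by A through which every family of homomorphisms
parametrised by an S-scheme factors through exactly one S-morphism to A. -/
theorem result {S : Scheme.{u}} (G H : Over S) [GrpObj G] [GrpObj H]
    (D : Red.SplitRed G) [Smooth H.hom]
    (haff : ∀ s : S, IsAffine (Red.bc (S.fromSpecResidueField s) H).left) :
    ∃ (A : Over S) (υ : G ⊗ A ⟶ H), AutFam.RepresentsHom G H A υ ∧
      LocallyOfFinitePresentation A.hom ∧ IsSeparated A.hom := by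
  by_cases hS : Nonempty S
  swap
  · have : IsEmpty S := not_nonempty_iff.mp hS
    exact exists_rep_empty G H
  have hsm : Smooth ((⊤ : H.left.Opens).ι ≫ H.hom) := inferInstance
  have h := isOpen_neutralSet H ⊤ (fun s => trivial)
  obtain ⟨hgrp, hmon⟩ := exists_grpObj H h
  have i1 : Smooth (opn H (neutral H h)).hom := smooth_neutral H ⊤ (fun s => trivial) h
  have hconn := isConnected_fibre H h
  obtain ⟨i2, i3⟩ := Groth.Agent.S3025.result S (opn H (neutral H h)) hconn
  obtain ⟨A, υ, h1, h2, h3⟩ := Groth.Agent.S4138.result S (opn H (neutral H h)) D.T (isAffine_fibre h haff)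
    D.maximalTorus.2.2.1
  have hred : D.P.IsReduced := SplitReduced415.isReduced D
  obtain ⟨bs⟩ := BaseZ.nonempty_base D.P
  obtain ⟨B, p, ψ, hp1, hp2, hψ, -⟩ := K544.SplitHom.exists_rep D bs υ h1
  have hGi := K544.SplitHom.irr_of_isReductive D.reductive
  refine ⟨B, ψ ≫ opnι H (neutral H h), representsHom_neutral h G hψ, ?_, ?_⟩
  · rw [← Over.w p]
    infer_instance
  · rw [← Over.w p]
    infer_instance

end Groth.Agent.S8490
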