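import Groth.Statements.S8491
import Groth.Agent.AutFam.K544.RedLoc
import Groth.Agent.AutFam.K544.SplitHom
import Groth.Agent.Sga3.H816.NeutralRed
import Groth.Agent.S3025

set_option autoImplicit false
open CategoryTheory MonoidalCategory CartesianMonoidalCategory MonObj GrpObj AlgebraicGeometry
universe u
open AutFam

namespace Groth.Agent.S8491

open Groth.Agent.Sga3B Groth.Agent.Sga3.H816.NeutralRed Groth.Agent.Sga3.H778.NeutralOpen

/-- Let G be a reductive S-group with a maximal torus T, and H an S-group scheme which is smooth and
quasi-compact over S, whose fibres are affine, and which is quasi-projective Zariski-locally over S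
(every point of S has an open neighbourhood over which H is a subscheme of a projective space). Then
the functor of homomorphisms of S-groups from G to H is representable by an S-scheme which is
locally of finite presentation and separated over S. (The published statement assumes H
quasi-projective over S; this row assumes only that H is quasi-compact over S and quasi-projective
Zariski-locally over S, which is the hypothesis the printed proof uses. The published statement does
not mention a maximal torus of G; it is deduced there from the relative statement over the functor
of homomorphisms T ⟶ H for a maximal torus T, so T is taken as a hypothesis here.) -/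
theorem result {S : Scheme.{u}} (G H T : Over S) [GrpObj G] [GrpObj H]
    [GrpObj T] (hG : Red.IsReductive G) (i : T ⟶ G) (hT : Red.IsMaximalTorus i) [Smooth H.hom] [QuasiCompact H.hom]
    (haff : ∀ s : S, IsAffine (Red.bc (S.fromSpecResidueField s) H).left) (hqp : RedSub.IsLocallyQuasiProjective H) :
    ∃ (A : Over S) (υ : G ⊗ A ⟶ H), AutFam.RepresentsHom G H A υ ∧
      LocallyOfFinitePresentation A.hom ∧ IsSeparated A.hom := by
  have h := isOpen_neutralSet H ⊤ (fun s => trivial)
  obtain ⟨hgrp, hmon⟩ := exists_grpObj H h
  have i1 : Smooth (opn H (neutral H h)).hom := smooth_neutral H ⊤ (fun s => trivial) h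
  have hconn := isConnected_fibre H h
  obtain ⟨i2, i3⟩ := Groth.Agent.S3025.result S (opn H (neutral H h)) hconn
  have : GrpObj (Over.mk (opn H (neutral H h)).hom) := hgrp
  have i4 : GeometricallyIrreducible (opn H (neutral H h)).hom :=
    Sga3C.GrpIrr.geometricallyIrreducible_of_connected_fibres (opn H (neutral H h)).hom hconn
  have i5 : GeometricallyIrreducible G.hom := K544.SplitHom.irr_of_isReductive hG
  obtain ⟨A, υ, h1, h2, h3⟩ := K544.RedLoc.exists_rep_connected G (opn H (neutral H h)) hG (isAffine_fibre h haff)
  exact ⟨A, υ ≫ opnι H (neutral H h), representsHom_neutral h G h1, h2, h3⟩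

end Groth.Agent.S8491
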