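import Groth.Statements.S8492
import Groth.Agent.Red.K215.IsoLift
import Groth.Agent.Red.K215.ConjTori
import Groth.Agent.S2991
import Groth.Agent.S0536


set_option autoImplicit false
open CategoryTheory MonoidalCategory CartesianMonoidalCategory MonObj GrpObj AlgebraicGeometry
universe u
open Red

namespace Groth.Agent.S8492

/-- Let A be a henselian local ring with residue field k, G a reductive group scheme over Spec A, and G'
a group scheme over Spec A which is smooth and affine over Spec A with connected fibres. Then every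
isomorphism of k-group schemes between the closed fibres G_k ≅ G'_k is induced by an isomorphism of
group schemes G ≅ G' over Spec A (in particular G and G' are isomorphic as soon as their closed
fibres are). -/
theorem result (A : Type u) [CommRing A] [HenselianLocalRing A]
    (G G' : Over (Spec (CommRingCat.of A))) [GrpObj G] [GrpObj G'] (hG : Red.IsReductive G)
    [IsAffineHom G'.hom] [Smooth G'.hom] (hconn : ∀ s : Spec (CommRingCat.of A), _root_.IsConnected (G'.hom.base ⁻¹' {s}))
    (e₀ : Grp.mk (Red.bc (Spec.map (CommRingCat.ofHom (IsLocalRing.residue A))) G) ≅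
      Grp.mk (Red.bc (Spec.map (CommRingCat.ofHom (IsLocalRing.residue A))) G')) :
    ∃ e : Grp.mk G ≅ Grp.mk G',
      (Over.pullback (Spec.map (CommRingCat.ofHom (IsLocalRing.residue A)))).map e.hom.hom.hom = e₀.hom.hom.hom := by
  obtain ⟨I, υ, hrep, hsm, -, -⟩ := Groth.Agent.S2991.result G G' hG hconn K215.hconj
  obtain ⟨a₀, ha₀, -⟩ := hrep.2 _ _ (Groth.Agent.Sga3B.IsoFam.isIsoFamily_fam e₀)
  have ha := Over.w a₀
  obtain ⟨x⟩ : Nonempty (Spec (CommRingCat.of (IsLocalRing.ResidueField A))) := inferInstance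
  obtain ⟨B, j, hj, ⟨y, hy⟩, -⟩ := Scheme.exists_affine_mem_range_and_range_subset (X := I.left)
    (x := a₀.left x) (U := ⊤) trivial
  have hr : Set.range a₀.left ⊆ Set.range j := by
    rintro _ ⟨x', rfl⟩
    have : x' = x := Subsingleton.elim (α := PrimeSpectrum (IsLocalRing.ResidueField A)) x' x
    rw [this]
    exact ⟨y, hy⟩
  obtain ⟨φ, hφ⟩ := Spec.map_surjective (j ≫ I.hom)
  obtain ⟨σ, hσ⟩ := Spec.map_surjective (IsOpenImmersion.lift j a₀.left hr)
  have hφe : φ.hom.Smooth := by
    have : Smooth (Spec.map φ) := by rw [hφ]; infer_instance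
    exact (HasRingHomProperty.Spec_iff (P := @Smooth)).mp this
  algebraize [φ.hom]
  have hσφ : φ ≫ σ = CommRingCat.ofHom (IsLocalRing.residue A) := by
    apply Spec.map_injective
    rw [Spec.map_comp, hσ, hφ, IsOpenImmersion.lift_fac_assoc]
    exact ha
  let σ' : B →ₐ[A] A ⧸ IsLocalRing.maximalIdeal A :=
    { σ.hom with commutes' := fun r => congrArg (fun f => f.hom r) hσφ }
  have : HenselianRing A (IsLocalRing.maximalIdeal A) := inferInstance
  obtain ⟨τ, hτ⟩ := Groth.Agent.S0536.result A B A (IsLocalRing.maximalIdeal A) σ'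
  let a : Over.mk (𝟙 (Spec (CommRingCat.of A))) ⟶ I :=
    Over.homMk (Spec.map (CommRingCat.ofHom τ.toRingHom) ≫ j) (by
      change (Spec.map (CommRingCat.ofHom τ.toRingHom) ≫ j) ≫ I.hom = 𝟙 _
      rw [Category.assoc, ← hφ, ← Spec.map_comp, ← Spec.map_id]
      congr 1
      ext r
      exact τ.commutes r)
  let t₀ : ∀ X : Over (Spec (CommRingCat.of A)), X ⟶ Over.mk (𝟙 (Spec (CommRingCat.of A))) :=
    fun X => Over.homMk X.hom
  obtain ⟨e, he⟩ := K215.IsoLift.exists_iso_of_unit
    (Groth.Agent.Sga3B.IsoFam.isIsoFamily_pull hrep.1 a) t₀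
  refine ⟨e, ?_⟩
  apply K215.IsoLift.eq_map_of_ev
  intro X x t
  rw [he, ← Groth.Agent.Sga3B.BcPts.lift_fam, ← ha₀, ← Category.assoc, ← Category.assoc,
    lift_whiskerLeft, lift_whiskerLeft]
  congr 2
  ext1
  have h1 : (a₀.left : Spec (CommRingCat.of (IsLocalRing.ResidueField A)) ⟶ I.left) =
      Spec.map (CommRingCat.ofHom (IsLocalRing.residue A)) ≫
        Spec.map (CommRingCat.ofHom τ.toRingHom) ≫ j := by
    rw [← Category.assoc, ← Spec.map_comp]
    have h2 : CommRingCat.ofHom τ.toRingHom ≫ CommRingCat.ofHom (IsLocalRing.residue A) = σ := by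
      ext r
      exact DFunLike.congr_fun hτ r
    rw [h2, hσ, IsOpenImmersion.lift_fac]
  rw [Over.comp_left, Over.comp_left, h1]
  have h3 := Over.w t
  change t.left ≫ Spec.map (CommRingCat.ofHom (IsLocalRing.residue A)) = X.hom at h3
  change t.left ≫ Spec.map (CommRingCat.ofHom (IsLocalRing.residue A)) ≫
        Spec.map (CommRingCat.ofHom τ.toRingHom) ≫ j = X.hom ≫ Spec.map (CommRingCat.ofHom τ.toRingHom) ≫ j
  rw [← Category.assoc, h3]


end Groth.Agent.S8492
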