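import Groth.Statements.S8494
import Groth.Agent.S8493
import Groth.Agent.S2996
import Groth.Agent.S2997
import Groth.Agent.Par.K545.Tools
import Groth.Agent.Par.K545.Sec
import Groth.Agent.RedSub.H648.BorBc

set_option autoImplicit false
open CategoryTheory MonoidalCategory CartesianMonoidalCategory MonObj GrpObj AlgebraicGeometry
universe u
open Par

namespace Groth.Agent.S8494

/-- Let A be a semi-local ring, S = Spec A, G a reductive S-group and P a parabolic subgroup of G; for
each closed point s of S let L_s be a Levi subgroup of the fibre P_s. Then there is a Levi subgroup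
L of P inducing L_s at every closed point s: the fibre of L at s and L_s are the same subgroup of
P_s. -/
theorem result {A : Type u} [CommRing A]
    (hA : {m : Ideal A | m.IsMaximal}.Finite) {G P : Over (Spec (CommRingCat.of A))} [GrpObj G] [GrpObj P]
    (hG : Red.IsReductive G) (p : P ⟶ G) (hP : Red.IsParabolic p)
    (Lm : ∀ m : MaximalSpectrum A, Over (Spec (CommRingCat.of (A ⧸ m.asIdeal)))) [∀ m, GrpObj (Lm m)]
    (lm : ∀ m : MaximalSpectrum A, Lm m ⟶ Red.bc (Spec.map (CommRingCat.ofHom (Ideal.Quotient.mk m.asIdeal))) P)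
    (hLm : ∀ m, Par.IsLevi (lm m)) :
    ∃ (L : Over (Spec (CommRingCat.of A))) (_ : GrpObj L) (l : L ⟶ P), Par.IsLevi l ∧
      ∀ m : MaximalSpectrum A,
        ∃ e : Red.bc (Spec.map (CommRingCat.ofHom (Ideal.Quotient.mk m.asIdeal))) L ≅ Lm m,
          e.hom ≫ lm m = (Over.pullback (Spec.map (CommRingCat.ofHom (Ideal.Quotient.mk m.asIdeal)))).map l := by
  obtain ⟨L, _, l, hl⟩ := Groth.Agent.S2997.result G P hG p hP
  obtain ⟨U, _, uU, hU⟩ := K545.Tools.exists_rad hG hP
  have key : ∀ m : MaximalSpectrum A, ∃ (x : 𝟙_ _ ⟶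
      Red.bc (Spec.map (CommRingCat.ofHom (Ideal.Quotient.mk m.asIdeal))) U)
      (e : Red.bc (Spec.map (CommRingCat.ofHom (Ideal.Quotient.mk m.asIdeal))) L ≅ Lm m),
      e.hom ≫ lm m = AGF.conjBy
        (x ≫ (Over.pullback (Spec.map (CommRingCat.ofHom (Ideal.Quotient.mk m.asIdeal)))).map uU)
        ((Over.pullback (Spec.map (CommRingCat.ofHom (Ideal.Quotient.mk m.asIdeal)))).map l) := by
    intro m
    obtain ⟨x, ⟨e, he⟩, -⟩ := Groth.Agent.S2996.result
      (Red.bc (Spec.map (CommRingCat.ofHom (Ideal.Quotient.mk m.asIdeal))) G)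
      (Red.bc (Spec.map (CommRingCat.ofHom (Ideal.Quotient.mk m.asIdeal))) P)
      (Red.bc (Spec.map (CommRingCat.ofHom (Ideal.Quotient.mk m.asIdeal))) U)
      (Red.bc (Spec.map (CommRingCat.ofHom (Ideal.Quotient.mk m.asIdeal))) L) (Lm m)
      (Groth.Agent.Sga3B.RedBcAny636.isReductive_bc _ hG) _
      (Groth.Agent.RedSub.H648.BorBc.isParabolic_bc _ hG hP)
      _ (K545.BC.isUnipotentRadical_bc hG hP hU _)
      _ (lm m) (K545.BC.isLevi_bc hG hP hl _) (hLm m)
    exact ⟨x, e, he⟩
  choose x e he using key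
  obtain ⟨u, hu⟩ := Groth.Agent.S8493.result hA hG p hP uU hU fun m => K545.Sec.ptOf (x m)
  have := hl.1
  refine ⟨L, inferInstance, AGF.conjBy (u ≫ uU) l, ?_, fun m => ⟨e m, ?_⟩⟩
  · rw [K545.ConjTools.conjBy_eq]
    exact K545.ConjTools.isLevi_comp_iso hl _
  · rw [he m, K545.Sec.map_conjBy, K545.Sec.bcSec_comp, K545.Sec.bcSec_eq (hu m)]

end Groth.Agent.S8494
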