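import Groth.Statements.S8497
import Groth.Agent.AutFam.K544.IsomQc
import Groth.Agent.AutFam.K544.RankComb
import Groth.Agent.Desc.LQF

set_option autoImplicit false
open CategoryTheory MonoidalCategory CartesianMonoidalCategory MonObj GrpObj AlgebraicGeometry
universe u
open AutFam

namespace Groth.Agent.S8497

open Groth.Agent.Sga3B

/-- quasi-compactness implies the rank condition -/
theorem rank_of_qc {S : Scheme.{u}} (G : Over S) [GrpObj G]
    (A : Over S) (υ : G ⊗ A ⟶ G) (hA : AutFam.RepresentsIsom G G A υ) (hqc : QuasiCompact A.hom)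
    (s : S) (D : Red.SplitRed (Red.geomFibre s G)) :
    Module.finrank ℤ D.M ≤ Module.finrank ℤ (Submodule.span ℤ (Set.range D.P.root)) + 1 := by
  obtain ⟨E, rfl⟩ := SplitIso848.nonempty_pinning D (SplitReduced415.isReduced D)
  obtain ⟨υ', hυ'⟩ := RepDescent.representsIsom_bc hA (Red.geomPt s)
  have hqc' : QuasiCompact (Red.bc (Red.geomPt s) A).hom :=
    MorphismProperty.pullback_snd (P := @QuasiCompact) _ _ hqc
  have hfin := K544.IsomQc.finite_baseEquiv E E hυ' hqc'
  exact K544.RankComb.le_of_finite E.pairing_eq E.base hfin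

/-- the rank condition implies affineness -/
theorem affine_of_rank {S : Scheme.{u}} (G : Over S) [GrpObj G] (hG : Red.IsReductive G)
    (A : Over S) (υ : G ⊗ A ⟶ G) (hA : AutFam.RepresentsIsom G G A υ)
    (h : ∀ (s : S) (D : Red.SplitRed (Red.geomFibre s G)),
        Module.finrank ℤ D.M ≤ Module.finrank ℤ (Submodule.span ℤ (Set.range D.P.root)) + 1) :
    IsAffineHom A.hom := by
  refine RepDescent.prop_of_representsIsom @IsAffineHom hA fun s => ?_
  obtain ⟨R, v, hv, ⟨x, rfl⟩, ⟨D⟩⟩ := K544.PinPair.exists_pinning hG s
  have : Nontrivial R := PrimeSpectrum.nonempty_iff_nontrivial.mp ⟨x⟩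
  have hqf : LocallyQuasiFinite v := Groth.Agent.Desc.LQF.of_etale v
  obtain ⟨D', h1, h2⟩ := K544.IsomQc.exists_split_geomFibre v D.toSplitRed x
  have h3 := h _ D'
  rw [h1, h2] at h3
  have hfin : Finite (IsomLocal.BaseEquiv D D) := by
    have := K544.RankComb.finite_of_le (P := D.P) h3
    exact Subtype.finite
  obtain ⟨A', υ', h4, h5⟩ := K544.IsomQc.exists_affine D D
  exact ⟨_, v, hv, ⟨x, rfl⟩, A', υ', h4, h5⟩

/-- (i) ⟺ (iii): Let G be a reductive S-group and let the S-scheme A, with its universal family,
represent the functor of automorphisms of G. The following are equivalent: A is affine over S; A is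
quasi-compact over S; for every point s of S and every splitting of the geometric fibre of G at s,
the rank of the character lattice exceeds the rank of the sublattice spanned by the roots by at most
1 (reductive rank minus semisimple rank at most 1). (The published statement also lists finite type
and finite presentation over S, which for this smooth separated A amount to quasi-compactness.) -/
theorem result {S : Scheme.{u}} (G : Over S) [GrpObj G] (hG : Red.IsReductive G)
    (A : Over S) (υ : G ⊗ A ⟶ G) (hA : AutFam.RepresentsIsom G G A υ) :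
    (IsAffineHom A.hom ↔
      ∀ (s : S) (D : Red.SplitRed (Red.geomFibre s G)),
        Module.finrank ℤ D.M ≤ Module.finrank ℤ (Submodule.span ℤ (Set.range D.P.root)) + 1) ∧
    (QuasiCompact A.hom ↔
      ∀ (s : S) (D : Red.SplitRed (Red.geomFibre s G)),
        Module.finrank ℤ D.M ≤ Module.finrank ℤ (Submodule.span ℤ (Set.range D.P.root)) + 1) := by
  refine ⟨⟨fun h s D => rank_of_qc G A υ hA inferInstance s D, affine_of_rank G hG A υ hA⟩,
    ⟨fun h s D => rank_of_qc G A υ hA h s D, fun h => ?_⟩⟩
  have := affine_of_rank G hG A υ hA h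
  infer_instance

end Groth.Agent.S8497
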