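import Groth.Statements.S8499
import Groth.Agent.Par.K545.Tools
import Groth.Agent.S2996
import Groth.Agent.S3981

set_option autoImplicit false
open CategoryTheory MonoidalCategory CartesianMonoidalCategory MonObj GrpObj AlgebraicGeometry
universe u
open Par

namespace Groth.Agent.S8499

/-- With 'of the same type' unfolded as 'with conjugate geometric fibres'. Let A be a semi-local ring, S
= Spec A, G a reductive S-group, P and P' two parabolic subgroups of G whose geometric fibres at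
every point of S are conjugate, L a Levi subgroup of P and L' a Levi subgroup of P'. Then there is g
∈ G(S) with int(g)P = P' and int(g)L = L'. -/
theorem result {A : Type u} [CommRing A] (hA : {m : Ideal A | m.IsMaximal}.Finite)
    {G P P' L L' : Over (Spec (CommRingCat.of A))} [GrpObj G] [GrpObj P] [GrpObj P'] [GrpObj L] [GrpObj L']
    (hG : Red.IsReductive G) (p : P ⟶ G) (p' : P' ⟶ G) (hP : Red.IsParabolic p) (hP' : Red.IsParabolic p')
    (l : L ⟶ P) (l' : L' ⟶ P') (hl : Par.IsLevi l) (hl' : Par.IsLevi l')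
    (hconj : ∀ s : Spec (CommRingCat.of A), ∃ g : 𝟙_ _ ⟶ Red.geomFibre s G,
      RedSub.ConjEq ((Over.pullback (Red.geomPt s)).map p) ((Over.pullback (Red.geomPt s)).map p') g) :
    ∃ g : 𝟙_ (Over (Spec (CommRingCat.of A))) ⟶ G, RedSub.ConjEq p p' g ∧ RedSub.ConjEq (l ≫ p) (l' ≫ p') g := by
  obtain ⟨U, _, uU, hU⟩ := K545.Tools.exists_rad hG hP
  obtain ⟨Q, _, q, m, hq, hm, hpb, hlm⟩ := K545.Tools.exists_opp hG hP hl
  obtain ⟨V, _, v, hV⟩ := K545.Tools.exists_rad hG hq
  have := hl.1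
  have := hP.1
  have := hP'.1
  have := K545.Tools.mono_of_isParabolic hP'
  obtain ⟨u, u', e, he⟩ := Groth.Agent.S3981.result hA hG p q p' hP hq hP' l m hpb hl hlm uU hU v hV
    hconj
  have he' : e.hom ≫ p' = AGF.conjBy ((u ≫ uU ≫ p) * (u' ≫ v ≫ q)) p := he
  have hem : IsMonHom e.hom := K545.Tools.isMonHom_of_comp he'
  have hl1 : Par.IsLevi (l ≫ e.hom) := K545.ConjTools.isLevi_comp_iso hl e
  obtain ⟨W, _, w, hW⟩ := K545.Tools.exists_rad hG hP'
  obtain ⟨x, ⟨e', he''⟩, -⟩ := Groth.Agent.S2996.result G P' W L L' hG p' hP' w hW (l ≫ e.hom) l' hl1 hl'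
  refine ⟨((x ≫ w) ≫ p') * ((u ≫ uU ≫ p) * (u' ≫ v ≫ q)),
    K545.ConjTools.conjEq_trans (K545.ConjTools.conjEq_of_iso e he')
      (K545.ConjTools.conjEq_of_mem (x ≫ w)),
    K545.ConjTools.conjEq_trans (K545.ConjTools.conjEq_of_iso (i' := (l ≫ e.hom) ≫ p') (Iso.refl L) ?_)
      (K545.ConjTools.conjEq_comp_hom
        (K545.ConjTools.conjEq_of_iso (g := x ≫ w) e' he'') p')⟩
  rw [Iso.refl_hom, Category.id_comp, Category.assoc, he', K545.ConjTools.comp_conjBy]

end Groth.Agent.S8499
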