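import Groth.Statements.S8500
import Groth.Agent.Par.K545.QuotZar

set_option autoImplicit false
open CategoryTheory MonoidalCategory CartesianMonoidalCategory MonObj GrpObj AlgebraicGeometry
universe u
open Par

namespace Groth.Agent.S8500

/-- Let G be a reductive S-group, P a parabolic subgroup of G and L a Levi subgroup of P. If (X, G ⟶ X)
is the quotient G/P, then G ⟶ X is a Zariski-locally trivial bundle: every point of X has an open
neighbourhood over which G ⟶ X has a section. Likewise, if (Y, G ⟶ Y) is the quotient G/L, every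
point of Y has an open neighbourhood over which G ⟶ Y has a section. -/
theorem result {S : Scheme.{u}} {G P L : Over S} [GrpObj G]
    [GrpObj P] [GrpObj L] (hG : Red.IsReductive G) (p : P ⟶ G) (hP : Red.IsParabolic p) (l : L ⟶ P)
    (hl : Par.IsLevi l) :
    (∀ (X : Over S) (q : G ⟶ X), RedSub.IsQuotient p q →
      ∀ x : ↥X.left, ∃ (V : X.left.Opens) (σ : (V : Scheme.{u}) ⟶ G.left), x ∈ V ∧ σ ≫ q.left = V.ι) ∧
    (∀ (Y : Over S) (q : G ⟶ Y), RedSub.IsQuotient (l ≫ p) q →
      ∀ y : ↥Y.left, ∃ (V : Y.left.Opens) (σ : (V : Scheme.{u}) ⟶ G.left), y ∈ V ∧ σ ≫ q.left = V.ι) := by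
  exact ⟨fun X q hq => K545.QuotZar.exists_section_P hG hP hq, fun Y q hq => K545.QuotZar.exists_section_L hG hP hl hq⟩

end Groth.Agent.S8500
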