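import Groth.Statements.S8501
import Groth.Agent.Par.K545.ThreeCos

set_option autoImplicit false
open CategoryTheory MonoidalCategory CartesianMonoidalCategory MonObj GrpObj AlgebraicGeometry
universe u
open Par

namespace Groth.Agent.S8501

/-- Let A be a semi-local ring, S = Spec A, G a reductive S-group and P a parabolic subgroup of G with P
≠ G. Then (G(S) : P(S)) ≥ 3: there are three S-points g₀, g₁, g₂ of G such that no gᵢ⁻¹ gⱼ (i ≠ j)
lies in P(S); equivalently the conjugates of P by these points are three distinct parabolic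
subgroups of the same type as P. -/
theorem result {A : Type u} [CommRing A] (hA : {m : Ideal A | m.IsMaximal}.Finite)
    {G P : Over (Spec (CommRingCat.of A))} [GrpObj G] [GrpObj P] (hG : Red.IsReductive G) (p : P ⟶ G)
    (hP : Red.IsParabolic p) (hne : ¬ IsIso p) :
    ∃ g : Fin 3 → (𝟙_ (Over (Spec (CommRingCat.of A))) ⟶ G), ∀ i j : Fin 3, i ≠ j →
      ∀ x : 𝟙_ (Over (Spec (CommRingCat.of A))) ⟶ P, (g i)⁻¹ * g j ≠ x ≫ p := by
  exact K545.ThreeCos.three hA hG hP hne

end Groth.Agent.S8501
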