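import Groth.Statements.S8502
import Groth.Agent.Par.K546.EtTorSm
import Groth.Agent.S2995
-- import your own Groth.Agent.* helpers here

set_option autoImplicit false
open CategoryTheory MonoidalCategory CartesianMonoidalCategory MonObj GrpObj AlgebraicGeometry
universe u
open Par
open Groth.Agent.Sga3B Groth.Agent.Sga3B.Parab

namespace Groth.Agent.S8502

/-- Let A be a semi-local ring, S = Spec A, G a reductive S-group and P, Q two parabolic subgroups of G
in transversal position (the multiplication morphism P ×_S Q ⟶ G is smooth). Then P ∩ Q (a fibre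
product of P and Q over G, with its induced group structure) contains a maximal torus of G. -/
theorem result {A : Type u} [CommRing A]
    (hA : {m : Ideal A | m.IsMaximal}.Finite) {G P Q I : Over (Spec (CommRingCat.of A))} [GrpObj G] [GrpObj P]
    [GrpObj Q] [GrpObj I] (hG : Red.IsReductive G) (p : P ⟶ G) (q : Q ⟶ G) (hP : Red.IsParabolic p)
    (hQ : Red.IsParabolic q) (htr : Smooth ((p ⊗ₘ q) ≫ μ[G]).left) (m : I ⟶ P) (m' : I ⟶ Q) [IsMonHom m]
    (hI : IsPullback m m' p q) :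
    ∃ (T : Over (Spec (CommRingCat.of A))) (_ : GrpObj T) (t : T ⟶ I), IsMonHom t ∧ Red.IsMaximalTorus (t ≫ m ≫ p) := by
  have hpm : IsMonHom p := hP.1
  have hqm : IsMonHom q := hQ.1
  have hm' : IsMonHom m' := K546.StdPos.isMonHom_snd hQ hI
  have hqm' : Mono q := OppRow172.mono_of_closed q hQ.2.1
  have hpm' : Mono p := OppRow172.mono_of_closed p hP.2.1
  have hmul : (p ⊗ₘ q) ≫ μ[G] = (fst P Q ≫ p) * (snd P Q ≫ q) := by
    rw [Hom.mul_def]
    congr 1
  have hw : lift m (m'⁻¹) ≫ (p ⊗ₘ q) ≫ μ[G] = toUnit I ≫ η[G] := by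
    rw [hmul, MonObj.comp_mul, lift_fst_assoc, lift_snd_assoc, GrpObj.inv_comp, hI.w,
      mul_inv_cancel, one_eq_one, MonObj.comp_one]
  have haux : ∀ {T : Over (Spec (CommRingCat.of A))} (z : T ⟶ P ⊗ Q) (w : T ⟶ 𝟙_ _),
      z ≫ (p ⊗ₘ q) ≫ μ[G] = w ≫ η[G] → (z ≫ fst P Q) ≫ p = (z ≫ snd P Q)⁻¹ ≫ q := by
    intro T z w h
    have h1 : (z ≫ fst P Q ≫ p) * (z ≫ snd P Q ≫ q) = 1 := by
      rw [← MonObj.comp_mul, ← hmul, h, one_eq_one, MonObj.comp_one]
    rw [Category.assoc, eq_inv_of_mul_eq_one_left h1, GrpObj.inv_comp, Category.assoc]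
  have hpb : IsPullback (lift m (m'⁻¹)) (toUnit I) ((p ⊗ₘ q) ≫ μ[G]) η[G] := by
    refine ⟨⟨hw⟩, ⟨Limits.PullbackCone.IsLimit.mk hw (fun c => hI.lift (c.fst ≫ fst P Q)
      (c.fst ≫ snd P Q)⁻¹ ?_) ?_ ?_ ?_⟩⟩
    · exact haux c.fst c.snd c.condition
    · intro c
      apply CartesianMonoidalCategory.hom_ext
      · rw [Category.assoc, lift_fst, hI.lift_fst]
      · rw [Category.assoc, lift_snd, GrpObj.comp_inv, hI.lift_snd, _root_.inv_inv]
    · intro c
      exact toUnit_unique _ _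
    · intro c n h1 h2
      apply hI.hom_ext
      · rw [hI.lift_fst, ← h1, Category.assoc, lift_fst]
      · rw [hI.lift_snd, ← h1, Category.assoc, lift_snd, GrpObj.comp_inv, _root_.inv_inv]
  have h1 : IsPullback (lift m (m'⁻¹)).left (toUnit I).left ((p ⊗ₘ q) ≫ μ[G]).left η[G].left :=
    hpb.map (Over.forget _)
  have h2 : Smooth (toUnit I).left := MorphismProperty.of_isPullback (P := @Smooth) h1 htr
  have h3 : Smooth I.hom := by
    rw [← Over.w (toUnit I)]
    exact MorphismProperty.comp_mem (W := @Smooth) _ _ h2 (inferInstanceAs (Smooth (𝟙 _)))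
  exact K546.StdPos.exists_torus_of_base (fun P' _ p' hP' => S2995.result hA G P' hG p' hP') hG hP hQ
    inferInstance hI (K546.EtTorSm.etTor_of_smooth hG hP hQ hI)


end Groth.Agent.S8502
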