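import Groth.Statements.S8503
import Groth.Agent.Par.K545.Common

set_option autoImplicit false
open CategoryTheory MonoidalCategory CartesianMonoidalCategory MonObj GrpObj AlgebraicGeometry
universe u
open Par

namespace Groth.Agent.S8503

/-- Let G be a reductive S-group, Q a parabolic subgroup of G, P and P' parabolic subgroups of G
contained in Q, and g ∈ G(S) such that int(g)P and P' are in osculating position: their intersection
(a fibre product over G of the conjugate of P by g and of P', with its induced group structure) is a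
parabolic subgroup of G. Then g ∈ Q(S). -/
theorem result {S : Scheme.{u}} {G Q P P' I : Over S} [GrpObj G] [GrpObj Q] [GrpObj P]
    [GrpObj P'] [GrpObj I] (hG : Red.IsReductive G) (q : Q ⟶ G) (hQ : Red.IsParabolic q)
    (pq : P ⟶ Q) (pq' : P' ⟶ Q) (hP : Red.IsParabolic (pq ≫ q)) (hP' : Red.IsParabolic (pq' ≫ q))
    (g : 𝟙_ (Over S) ⟶ G) (m : I ⟶ P) (m' : I ⟶ P') [IsMonHom m']
    (hI : IsPullback m m' (AGF.conjBy g (pq ≫ q)) (pq' ≫ q)) (hosc : Red.IsParabolic (m' ≫ pq' ≫ q)) :
    ∃ x : 𝟙_ (Over S) ⟶ Q, x ≫ q = g := by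
  have hq := hQ.1
  have h1 : Groth.Agent.Sga3A.NormDefs.InP q g⁻¹ := by
    refine K545.Common.inP_of_tr_parabolic hG q hQ (m' ≫ pq' ≫ q) hosc (m' ≫ pq')
      (Category.assoc _ _ _) g⁻¹ fun X x k => ⟨k ≫ m ≫ pq, ?_⟩
    have hx : x = toUnit X := Subsingleton.elim _ _
    have h2 : k ≫ m' ≫ pq' ≫ q = (x ≫ g) * (k ≫ m ≫ pq ≫ q) * (x ≫ g)⁻¹ := by
      rw [← hI.w]
      simp only [MonObj.comp_mul, GrpObj.comp_inv, ← Category.assoc]
      congr 2
      · congr 1
        exact Subsingleton.elim _ _
      · congr 1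
        exact Subsingleton.elim _ _
    rw [h2, GrpObj.comp_inv]
    simp only [Category.assoc]
    group
  have h3 := h1.inv
  rwa [_root_.inv_inv] at h3

end Groth.Agent.S8503
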