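import Groth.Statements.S8505
import Groth.Agent.Par.K545.LeviCent

set_option autoImplicit false
open CategoryTheory MonoidalCategory CartesianMonoidalCategory MonObj GrpObj AlgebraicGeometry
universe u
open Par

namespace Groth.Agent.S8505

/-- Let G be a reductive S-group, P a parabolic subgroup of G and L a Levi subgroup of P. Then L is a
critical subgroup of G: there is a subtorus Q of L (a subgroup scheme of L which is a torus) such
that L is the centralizer of Q in G. (The published statement says that L is the centralizer of its
radical; since the radical of the reductive group L is its largest central subtorus, this amounts to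
L being the centralizer in G of some subtorus of L, which is what is stated here.) -/
theorem result {S : Scheme.{u}} {G P L : Over S} [GrpObj G] [GrpObj P] [GrpObj L]
    (hG : Red.IsReductive G) (p : P ⟶ G) (hP : Red.IsParabolic p) (l : L ⟶ P) (hl : Par.IsLevi l) :
    ∃ (Q : Over S) (_ : GrpObj Q) (j : Q ⟶ L), IsMonHom j ∧ Mono j ∧ Red.IsTorus Q ∧
      Red.IsCentralizerOf (j ≫ l ≫ p) (l ≫ p) := by
  obtain ⟨Z, R, _, _, z, r, hz, hzc, hr⟩ := K545.Centre.exists_radical hl.2.2.1
  have h1 : IsMonHom z := hz.1
  have h2 : Mono z := hz.2.1
  have h3 : IsMonHom r := hr.1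
  have h4 : Mono r := hr.2.1
  refine ⟨R, inferInstance, r ≫ z, inferInstance, inferInstance, hr.2.2.1, ?_⟩
  rw [Category.assoc]
  exact K545.LeviCent.isCentralizerOf_radical hG hP hl hz hr

end Groth.Agent.S8505
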