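import Groth.Statements.S8506
import Groth.Agent.Par.K545.Dyn
import Groth.Agent.Par.K545.CochImage
import Groth.Agent.S2996
import Groth.Agent.S3001
import Groth.Agent.Redsub.H656.LeviUniq
import Groth.Agent.RedSub.H664.Ad
import Groth.Agent.Sga3B.Trans894

set_option autoImplicit false
open CategoryTheory MonoidalCategory CartesianMonoidalCategory MonObj GrpObj AlgebraicGeometry
universe u
open Par

namespace Groth.Agent.S8506

open Groth.Agent.Sga3B Groth.Agent.Sga3B.Parab Groth.Agent.RedSub.H664.Comb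
  Groth.Agent.RedSub.H664.Calc2 Groth.Agent.RedSub.H664.Ad

/-- Let A be a semi-local ring with S = Spec A connected, G a reductive S-group and L a subgroup scheme
of G. The following are equivalent: (i) there is a parabolic subgroup of G of which L is a Levi
subgroup; (ii) there is a split subtorus of G (a subgroup scheme which is a torus isomorphic to some
D_S(M)) whose centralizer is L; (iii) there is a homomorphism from the multiplicative group 𝔾_{m,S}
to G whose centralizer is L. -/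
theorem result {A : Type u} [CommRing A] (hA : {m : Ideal A | m.IsMaximal}.Finite)
    [ConnectedSpace ↥(Spec (CommRingCat.of A))]
    {G L : Over (Spec (CommRingCat.of A))} [GrpObj G] [GrpObj L] (hG : Red.IsReductive G) (lG : L ⟶ G) [IsMonHom lG]
    [Mono lG] :
    ((∃ (P : Over (Spec (CommRingCat.of A))) (_ : GrpObj P) (p : P ⟶ G) (l : L ⟶ P),
        Red.IsParabolic p ∧ l ≫ p = lG ∧ Par.IsLevi l) ↔
      (∃ (Q : Over (Spec (CommRingCat.of A))) (_ : GrpObj Q) (j : Q ⟶ G) (M : Type) (_ : AddCommGroup M),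
        IsMonHom j ∧ Mono j ∧ Red.IsTorus Q ∧ Red.IsSplitTorusWith M Q ∧ Red.IsCentralizerOf j lG)) ∧
    ((∃ (Q : Over (Spec (CommRingCat.of A))) (_ : GrpObj Q) (j : Q ⟶ G) (M : Type) (_ : AddCommGroup M),
        IsMonHom j ∧ Mono j ∧ Red.IsTorus Q ∧ Red.IsSplitTorusWith M Q ∧ Red.IsCentralizerOf j lG) ↔
      (∃ f : Red.Gm (Spec (CommRingCat.of A)) ⟶ G, IsMonHom f ∧ Red.IsCentralizerOf f lG)) := by
  have hGa := hG.1
  have hGs := hG.2.1
  -- (i) ⟹ (iii)
  have h13 : (∃ (P : Over (Spec (CommRingCat.of A))) (_ : GrpObj P) (p : P ⟶ G) (l : L ⟶ P),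
        Red.IsParabolic p ∧ l ≫ p = lG ∧ Par.IsLevi l) →
      (∃ f : Red.Gm (Spec (CommRingCat.of A)) ⟶ G, IsMonHom f ∧ Red.IsCentralizerOf f lG) := by
    rintro ⟨P, _, p, l, hP, hl, hlev⟩
    have hpm := hP.1
    obtain ⟨lam, hlam, hdyn⟩ := K545.Dyn.exists_cochar hG hP
    obtain ⟨U, Z, _, _, u, z, hu, hz, -, hur, hzl⟩ := K545.Dyn.of_isDynP hG hdyn
    obtain ⟨x, ⟨e, he⟩, -⟩ := Groth.Agent.S2996.result G P U Z L hG p hP u hur z l hzl hlev
    let w : 𝟙_ (Over (Spec (CommRingCat.of A))) ⟶ G := x ≫ u ≫ p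
    have he' : e.hom ≫ lG = ad w (z ≫ p) := by
      rw [← hl, ← Category.assoc, he, MonObj.mul_comp, MonObj.mul_comp, GrpObj.inv_comp, ad]
      simp only [Category.assoc, w]
    refine ⟨ad w lam, inferInstance, (DynExist998.isDynZ_iff _).1 ⟨inferInstance, inferInstance,
      fun X g => ?_⟩⟩
    have h1 := pt_ad_iff Kd.Z w lam g
    refine Iff.trans ?_ h1.symm
    refine Iff.trans ?_ (hz.iff_ptZ X (ad w⁻¹ g))
    constructor
    · rintro ⟨y, rfl⟩
      refine ⟨y ≫ e.inv, ?_⟩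
      rw [Category.assoc]
      have h2 : e.inv ≫ z ≫ p = ad w⁻¹ lG := by
        rw [Iso.inv_comp_eq, comp_ad, he', ad_inv_ad]
      rw [h2, comp_ad]
    · rintro ⟨y, hy⟩
      refine ⟨y ≫ e.hom, ?_⟩
      rw [Category.assoc, he', comp_ad, hy, ad_ad_inv]
  -- (iii) ⟹ (i)
  have h31 : (∃ f : Red.Gm (Spec (CommRingCat.of A)) ⟶ G, IsMonHom f ∧ Red.IsCentralizerOf f lG) →
      (∃ (P : Over (Spec (CommRingCat.of A))) (_ : GrpObj P) (p : P ⟶ G) (l : L ⟶ P),
        Red.IsParabolic p ∧ l ≫ p = lG ∧ Par.IsLevi l) := by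
    rintro ⟨f, hf, hc⟩
    obtain ⟨P, U, Z, _, _, _, p, u, z, -, -, hz, hp, -, hzl⟩ := K545.Dyn.exists_all hG f
    have hpm := hp.1
    have hpo := K545.Tools.mono_of_isParabolic hp
    have hL : IsDynZ f lG := (DynExist998.isDynZ_iff _).2 hc
    obtain ⟨a, ha⟩ := (hz.iff_ptZ _ _).2 ((hL.iff_ptZ _ _).1 ⟨𝟙 L, Category.id_comp _⟩)
    obtain ⟨b, hb⟩ := (hL.iff_ptZ _ _).2 ((hz.iff_ptZ _ _).1 ⟨𝟙 Z, Category.id_comp _⟩)
    have hzm := hz.mono
    let e : L ≅ Z := ⟨a, b, by rw [← cancel_mono lG, Category.assoc, hb, ha, Category.id_comp], by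
      rw [← cancel_mono (z ≫ p), Category.assoc, ha, hb, Category.id_comp]⟩
    have ha' : (a ≫ z) ≫ p = lG := by rw [Category.assoc, ha]
    have : IsMonHom (a ≫ z) := K545.Tools.isMonHom_of_comp ha'
    exact ⟨P, inferInstance, p, a ≫ z, hp, ha', Redsub.H656.LeviUniq.isLevi_of_iso hzl e rfl⟩
  -- (ii) ⟹ (i)
  have h21 : (∃ (Q : Over (Spec (CommRingCat.of A))) (_ : GrpObj Q) (j : Q ⟶ G) (M : Type)
        (_ : AddCommGroup M), IsMonHom j ∧ Mono j ∧ Red.IsTorus Q ∧ Red.IsSplitTorusWith M Q ∧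
          Red.IsCentralizerOf j lG) →
      (∃ (P : Over (Spec (CommRingCat.of A))) (_ : GrpObj P) (p : P ⟶ G) (l : L ⟶ P),
        Red.IsParabolic p ∧ l ≫ p = lG ∧ Par.IsLevi l) := by
    rintro ⟨Q, _, j, M, _, hj, hjm, hQ, hQs, hc⟩
    exact Groth.Agent.S3001.result G Q L hG j M hQ hQs lG hc
  -- (iii) ⟹ (ii)
  have h32 : (∃ f : Red.Gm (Spec (CommRingCat.of A)) ⟶ G, IsMonHom f ∧ Red.IsCentralizerOf f lG) →
      (∃ (Q : Over (Spec (CommRingCat.of A))) (_ : GrpObj Q) (j : Q ⟶ G) (M : Type)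
        (_ : AddCommGroup M), IsMonHom j ∧ Mono j ∧ Red.IsTorus Q ∧ Red.IsSplitTorusWith M Q ∧
          Red.IsCentralizerOf j lG) := by
    rintro ⟨f, hf, hc⟩
    rcases K545.CochImage.exists_sm f with rfl | ⟨d, g, hd, hg, hgc, rfl⟩
    · have hsub : ∀ (X : Over (Spec (CommRingCat.of A)))
          (a b : X ⟶ Red.DS (Spec (CommRingCat.of A)) PUnit.{1}), a = b := by
        intro X a b
        rw [← DSPts.dsEquiv_dsChar a, ← DSPts.dsEquiv_dsChar b]
        congr 1
        refine MonoidHom.ext fun m => ?_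
        have : m = 1 := rfl
        rw [this, _root_.map_one, _root_.map_one]
      have h1 : IsMonHom (1 : Red.DS (Spec (CommRingCat.of A)) PUnit.{1} ⟶ G) := by
        apply Pts.isMonHom_of_points
        intro X x y
        rw [MonObj.comp_one, MonObj.comp_one, MonObj.comp_one, _root_.one_mul]
      refine ⟨Red.DS _ PUnit.{1}, inferInstance, 1, PUnit.{1}, inferInstance, h1,
        ⟨fun a b _ => hsub _ a b⟩, Trans894.isTorus_DS _ _, ⟨Iso.refl _⟩, hc.1, hc.2.1,
        fun X g => ?_⟩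
      refine (hc.2.2 X g).trans ?_
      constructor
      · intro _ X' x h
        rw [MonObj.comp_one, _root_.mul_one, _root_.one_mul]
      · intro _ X' x h
        rw [MonObj.comp_one, _root_.mul_one, _root_.one_mul]
    · have : Mono g := Over.mono_of_mono_left g
      refine ⟨Red.Gm _, inferInstance, g, ℤ, inferInstance, hg, inferInstance,
        Trans894.isTorus_DS _ _, ⟨Iso.refl _⟩, (DynExist998.isDynZ_iff _).1
          ⟨inferInstance, inferInstance, fun X x => ?_⟩⟩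
      rw [((DynExist998.isDynZ_iff _).2 hc).iff_ptZ]
      exact K545.CochImage.ptZ_sm_iff hd g x
  exact ⟨⟨fun h => h32 (h13 h), h21⟩, ⟨fun h => h13 (h21 h), h32⟩⟩

end Groth.Agent.S8506
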