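import Groth.Statements.S8507
import Groth.Agent.Par.K545.TopGa

set_option autoImplicit false
open CategoryTheory MonoidalCategory CartesianMonoidalCategory MonObj GrpObj AlgebraicGeometry
universe u
open Par

namespace Groth.Agent.S8507

/-- (i) ⟹ (iii): Let A be a semi-local ring with S = Spec A connected, and G a reductive S-group
possessing a parabolic subgroup P ≠ G. Then there is a homomorphism of S-groups 𝔾_{a,S} ⟶ G which is
a closed immersion. -/
theorem result {A : Type u} [CommRing A] (hA : {m : Ideal A | m.IsMaximal}.Finite)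
    [ConnectedSpace ↥(Spec (CommRingCat.of A))]
    {G P : Over (Spec (CommRingCat.of A))} [GrpObj G] [GrpObj P] (hG : Red.IsReductive G) (p : P ⟶ G)
    (hP : Red.IsParabolic p) (hne : ¬ IsIso p) :
    ∃ u : Red.Ga (Spec (CommRingCat.of A)) ⟶ G, IsMonHom u ∧ IsClosedImmersion u.left := by
  have : ConnectedSpace (PrimeSpectrum A) :=
    inferInstanceAs (ConnectedSpace ↥(Spec (CommRingCat.of A)))
  exact K545.TopGa.exists_ga hA hG hP hne

end Groth.Agent.S8507
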