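import Groth.Statements.S8509
import Groth.Agent.RedSub.K199.HensSec
import Groth.Agent.RedSub.H668.TorsBasic
import Groth.Agent.RedSub.H667.BcTorsor

set_option autoImplicit false
open CategoryTheory MonoidalCategory CartesianMonoidalCategory MonObj GrpObj AlgebraicGeometry
universe u
open RedSub

namespace Groth.Agent.S8509

/-- Let A be a henselian local ring, S = Spec A, and G an S-group scheme which is smooth and affine over
S. Then every torsor P under G (a representable principal homogeneous bundle) is isotrivial: there
is a finite etale surjective morphism S' ⟶ S such that P_{S'} has a section. (The published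
statement asks only that every finite set of points of G lie in an affine open; this row takes G
affine over S.) -/
theorem result (A : Type u) [CommRing A] [HenselianLocalRing A]
    {G P : Over (Spec (CommRingCat.of A))} [GrpObj G] [Smooth G.hom] [IsAffineHom G.hom] (a : AlgGrp.Action G P)
    (ha : RedSub.IsTorsor a) :
    ∃ (S' : Scheme.{u}) (f : S' ⟶ Spec (CommRingCat.of A)), IsFinite f ∧ Etale f ∧ Surjective f ∧
      RedSub.HasSection (Red.bc f P) := by
  have hsm : Smooth P.hom := Groth.Agent.RedSub.H668.smooth_of_torsor ha inferInstance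
  have hsurj : Surjective P.hom := ha.1
  obtain ⟨A', _, _, _, h1, h2, h3, h4, σ, hσ⟩ := K199.HensSec.exists_finite_etale_section P.hom
    (hsurj.surj (IsLocalRing.closedPoint A))
  refine ⟨Spec (CommRingCat.of A'), Spec.map (CommRingCat.ofHom (algebraMap A A')), ?_, ?_, ?_, ?_⟩
  · rw [IsFinite.SpecMap_iff]
    exact RingHom.finite_algebraMap.2 h1
  · rw [HasRingHomProperty.Spec_iff (P := @Etale)]
    exact RingHom.etale_algebraMap.2 h3
  · refine ⟨fun x => ?_⟩
    obtain ⟨y, hy⟩ := PrimeSpectrum.comap_surjective_of_faithfullyFlat (A := A) (B := A') x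
    exact ⟨y, hy⟩
  · rw [Groth.Agent.RedSub.H667.BcTorsor.hasSection_bc_iff]
    exact ⟨σ, hσ⟩

end Groth.Agent.S8509
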