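import Groth.Statements.S8510
import Groth.Agent.RedSub.K861.BorSemi

set_option autoImplicit false
open CategoryTheory MonoidalCategory CartesianMonoidalCategory MonObj GrpObj AlgebraicGeometry
universe u
open RedSub

namespace Groth.Agent.S8510

/-- Over a semi-local base a reductive group is quasi-split exactly when it has a Borel subgroup, and
the statement is given in that form. Let A be a semi-local ring, S = Spec A and G a reductive
S-group. Then there is a finite etale surjective morphism S' ⟶ S such that G_{S'} has a Borel
subgroup. -/
theorem result {A : Type u} [CommRing A] (hA : {m : Ideal A | m.IsMaximal}.Finite)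
    (G : Over (Spec (CommRingCat.of A))) [GrpObj G] (hG : Red.IsReductive G) :
    ∃ (S' : Scheme.{u}) (f : S' ⟶ Spec (CommRingCat.of A)), IsFinite f ∧ Etale f ∧ Surjective f ∧
      ∃ (B : Over S') (_ : GrpObj B) (b : B ⟶ Red.bc f G), Red.IsBorel b := by
  exact K861.BorSemi.exists_borel hA G hG

end Groth.Agent.S8510
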