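import Groth.Statements.S8512
import Groth.Agent.Par.K546.StdNhd
-- import your own Groth.Agent.* helpers here

set_option autoImplicit false
open CategoryTheory MonoidalCategory CartesianMonoidalCategory MonObj GrpObj AlgebraicGeometry
universe u
open Par

namespace Groth.Agent.S8512

/-- (i) ⟺ (iv): Let G be a reductive S-group, P₁ and P₂ parabolic subgroups of G and K = P₁ ∩ P₂ their
intersection (a fibre product over G with its induced group structure). Assume K has connected
fibres (the connectedness of the intersection of two parabolic subgroups over a field, which the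
published proof takes from the literature, is carried here as a hypothesis). Then K is smooth over S
if and only if every point of S has an open neighbourhood U such that K_U contains a maximal torus
of G_U. -/
theorem result {S : Scheme.{u}} {G P₁ P₂ K : Over S} [GrpObj G]
    [GrpObj P₁] [GrpObj P₂] [GrpObj K] (hG : Red.IsReductive G) (p₁ : P₁ ⟶ G) (p₂ : P₂ ⟶ G) (hP₁ : Red.IsParabolic p₁)
    (hP₂ : Red.IsParabolic p₂) (m₁ : K ⟶ P₁) (m₂ : K ⟶ P₂) [IsMonHom m₁] (hK : IsPullback m₁ m₂ p₁ p₂)
    (hconn : RedSub.HasConnectedFibres K) :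
    Smooth K.hom ↔
      ∀ s : S, ∃ U : S.Opens, s ∈ U ∧ ∃ (T : Over (U : Scheme.{u})) (_ : GrpObj T) (t : T ⟶ Red.bc U.ι K),
        IsMonHom t ∧ Red.IsMaximalTorus (t ≫ (Over.pullback U.ι).map (m₁ ≫ p₁)) := by
  constructor
  · intro hsm s
    exact K546.StdNhd.exists_nhd hG hP₁ hP₂ inferInstance hK
      (K546.EtTorSm.etTor_of_smooth hG hP₁ hP₂ hK) s
  · intro h
    refine K546.StdPos.smooth_of_locForm hG hK (K546.StdPos.locForm_of_etTor hG hP₁ hP₂ hK fun s => ?_)
    obtain ⟨U, hU, hT⟩ := h s
    exact ⟨U, U.ι, inferInstance, ⟨⟨s, hU⟩, rfl⟩, hT⟩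


end Groth.Agent.S8512
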