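import Groth.Statements.S8513

set_option autoImplicit false
open CategoryTheory MonoidalCategory CartesianMonoidalCategory MonObj GrpObj AlgebraicGeometry
universe u
open Par

namespace Groth.Agent.S8513

/-- The intersection `P ∩ Q` is the fibre of the multiplication `P × Q ⟶ G` over the unit. -/
theorem isPullback_inter {S : Scheme.{u}} {G P Q I : Over S} [GrpObj G] [GrpObj P] [GrpObj Q]
    (p : P ⟶ G) (q : Q ⟶ G) [IsMonHom p] [IsMonHom q] (m : I ⟶ P) (m' : I ⟶ Q)
    (hI : IsPullback m m' p q) :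
    IsPullback (lift m (m')⁻¹) (toUnit I) ((p ⊗ₘ q) ≫ μ[G]) η[G] := by
  have key : ∀ {X : Over S} (x : X ⟶ P) (y : X ⟶ Q),
      lift x y ≫ (p ⊗ₘ q) ≫ μ[G] = (x ≫ p) * (y ≫ q) := by
    intro X x y
    rw [lift_map_assoc]
    rfl
  have hinv : ∀ {X : Over S} (y : X ⟶ Q), y⁻¹ ≫ q = (y ≫ q)⁻¹ := fun y => GrpObj.inv_comp _ _
  have hone : ∀ {X : Over S} (x : X ⟶ 𝟙_ (Over S)), x ≫ η[G] = 1 := fun x => by
    rw [← toUnit_unique (toUnit _) x]; rfl
  refine ⟨⟨?_⟩, ⟨Limits.PullbackCone.IsLimit.mk _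
    (fun s => hI.lift (s.fst ≫ fst P Q) (s.fst ≫ snd P Q)⁻¹ ?_) ?_ ?_ ?_⟩⟩
  · rw [key, hinv, ← hI.w, mul_inv_cancel, hone]
  · have h := s.condition
    rw [show s.fst = lift (s.fst ≫ fst P Q) (s.fst ≫ snd P Q) by
      rw [← comp_lift, lift_fst_snd, Category.comp_id], key, hone] at h
    rw [hinv]
    exact eq_inv_of_mul_eq_one_left h
  · intro s
    refine CartesianMonoidalCategory.hom_ext _ _ ?_ ?_
    · simp
    · simp only [Category.assoc, lift_snd]
      rw [GrpObj.comp_inv, hI.lift_snd, _root_.inv_inv]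
  · intro s
    exact toUnit_unique _ _
  · intro s x h1 h2
    refine hI.hom_ext ?_ ?_
    · rw [hI.lift_fst, ← h1, Category.assoc, lift_fst]
    · rw [hI.lift_snd, ← h1, Category.assoc, lift_snd, GrpObj.comp_inv, _root_.inv_inv]

/-- Let G be a reductive S-group and P, Q two parabolic subgroups of G in transversal position (the
multiplication morphism P ×_S Q ⟶ G is smooth). Then P ∩ Q (a fibre product of P and Q over G) is
smooth over S. -/
theorem result {S : Scheme.{u}} {G P Q I : Over S} [GrpObj G] [GrpObj P] [GrpObj Q]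
    (hG : Red.IsReductive G) (p : P ⟶ G) (q : Q ⟶ G) (hP : Red.IsParabolic p) (hQ : Red.IsParabolic q)
    (htr : Smooth ((p ⊗ₘ q) ≫ μ[G]).left) (m : I ⟶ P) (m' : I ⟶ Q) (hI : IsPullback m m' p q) :
    Smooth I.hom := by
  haveI := hP.1
  haveI := hQ.1
  have h := (isPullback_inter p q m m' hI).map (Over.forget S)
  have h2 : Smooth (toUnit I).left := MorphismProperty.of_isPullback (P := @Smooth) h htr
  have h3 : (toUnit I).left ≫ (𝟙_ (Over S)).hom = I.hom := Over.w _
  rw [← h3]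
  haveI : IsIso (𝟙_ (Over S)).hom := by
    change IsIso (𝟙 S)
    infer_instance
  infer_instance

end Groth.Agent.S8513
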