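import Groth.Statements.S8514
import Groth.Agent.AutFam.K544.AutNorm
import Groth.Agent.AutFam.K544.PinPair
import Groth.Agent.S3964
import Groth.Agent.S3965
import Groth.Agent.S3966
import Groth.Agent.S3967

set_option autoImplicit false
open CategoryTheory MonoidalCategory CartesianMonoidalCategory MonObj GrpObj AlgebraicGeometry
universe u
open AutFam

namespace Groth.Agent.S8514

open Groth.Agent.Sga3B Groth.Agent.Redsub.H649 Groth.Agent.RedSub.H648

section aux

variable {S : Scheme.{u}} {G H : Over S} [GrpObj G] [GrpObj H]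

/-- the scheme of automorphisms of a reductive group is smooth -/
theorem smooth_of_representsIsom (hG : Red.IsReductive G) {A : Over S} {υ : G ⊗ A ⟶ G}
    (hA : AutFam.RepresentsIsom G G A υ) : Smooth A.hom := by
  obtain ⟨A', υ', hA', hs, -, -⟩ := IsomAsm899.exists_of_pinnings IsomLocalFinal.local_isom G G
    (K544.PinPair.exists_pinnings hG hG)
  obtain ⟨e⟩ := RepDescent.nonempty_iso_of_representsIsom hA hA'
  have : Smooth (e.hom.left ≫ A'.hom) := inferInstance
  rwa [Over.w] at this

/-- the normalizer of a maximal torus is smooth -/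
theorem exists_normalizer_torus (hG : Red.IsReductive G) {i : H ⟶ G} (hT : Red.IsMaximalTorus i) :
    ∃ (N : Over S) (_ : GrpObj N) (n : N ⟶ G), Red.IsNormalizerOf i n ∧ Smooth N.hom := by
  have h1 : IsAffineHom G.hom := hG.1
  have h2 : Smooth G.hom := hG.2.1
  have h3 : IsMonHom i := hT.1
  have h4 : IsClosedImmersion i.left := TorClosed636.isClosedImmersion_of_isMaximalTorus hG hT
  obtain ⟨-, N', _, n', hN', -, hN's⟩ := S3006.result S G H i h4 hT.2.2.1
  exact ⟨N', _, n', hN', hN's⟩

/-- transforms of a maximal torus by automorphisms are maximal tori -/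
theorem autClassifies_torus (hG : Red.IsReductive G) {i : H ⟶ G} (hT : Red.IsMaximalTorus i) (M : Over S)
    (U : Over M.left) [GrpObj U] (h : U ⟶ Red.bc M.hom G) (hM : RedSub.RepresentsTor G M U h) :
    K544.AutNorm.AutClassifies i M h := by
  intro S' f e
  refine hM.2 S' f (Red.bc f H) _ ?_
  exact AlgBc.isMaximalTorus_of_arrow (Iso.refl _) e (Category.id_comp _).symm
    (MaxTorBc636.isMaximalTorus_bc f hG hT)

/-- transforms of a Borel subgroup by automorphisms are Borel subgroups -/
theorem autClassifies_borel (hG : Red.IsReductive G) {i : H ⟶ G} (hB : RedSub.IsBorelSub i) (M : Over S)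
    (U : Over M.left) [GrpObj U] (h : U ⟶ Red.bc M.hom G) (hM : RedSub.RepresentsBor G M U h) :
    K544.AutNorm.AutClassifies i M h := by
  intro S' f e
  refine hM.2 S' f (Red.bc f H) _ ?_
  exact TypeR.isBorelSub_of_arrow (Iso.refl _) e (Category.id_comp _).symm
    (BorBc.isBorelSub_bc f hG hB)

end aux

/-- Let G be a reductive S-group with (A, υ) representing its functor of automorphisms, and let i : H ⟶
G be a maximal torus or a Borel subgroup of G. Then the subfunctor Aut(G, H) of automorphisms u with
u(H) = H is represented by a closed subscheme C of A which is smooth over S: for every S-scheme X, a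
point a ∈ A(X) lies in C(X) exactly when the automorphism of G_X classified by a carries every point
of H to a point of H and so does its inverse, after every base change X' ⟶ X. (The exact sequences
relating these groups to the outer automorphisms are not stated.) -/
theorem result {S : Scheme.{u}} {G H : Over S} [GrpObj G] [GrpObj H]
    (hG : Red.IsReductive G) (A : Over S) (υ : G ⊗ A ⟶ G) (hA : AutFam.RepresentsIsom G G A υ) (i : H ⟶ G)
    (hH : Red.IsMaximalTorus i ∨ Red.IsBorel i) :
    ∃ (C : Over S) (c : C ⟶ A), IsClosedImmersion c.left ∧ Smooth C.hom ∧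
      ∀ (X : Over S) (a : X ⟶ A), (∃ z : X ⟶ C, z ≫ c = a) ↔
        ∀ (X' : Over S) (x : X' ⟶ X) (h : X' ⟶ H),
          (∃ h' : X' ⟶ H, lift (h ≫ i) (x ≫ a) ≫ υ = h' ≫ i) ∧
          (∃ h' : X' ⟶ H, lift (h' ≫ i) (x ≫ a) ≫ υ = h ≫ i) := by
  have hAs : Smooth A.hom := smooth_of_representsIsom hG hA
  have h1 : IsAffineHom G.hom := hG.1
  have h2 : Smooth G.hom := hG.2.1
  rcases hH with hT | hB
  · have h4 : IsClosedImmersion i.left := TorClosed636.isClosedImmersion_of_isMaximalTorus hG hT
    have h5 : GeometricallyIrreducible H.hom := TorusIrr.geometricallyIrreducible_of_isTorus hT.2.2.1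
    have h6 : Smooth H.hom := by
      have := hT.2.2.1
      exact TorusAlgClosed.smooth_of_isTorus this
    obtain ⟨M, U, _, h, hM, -⟩ := S3965.result G hG
    obtain ⟨N, _, n, hN, hNs⟩ := exists_normalizer_torus hG hT
    obtain ⟨q, hq, -, hqs⟩ := QuotCrit.exists_quotient hN hNs
      (TorConjLoc.classifies_of_representsTor hG i hT M U h hM)
      (TorConjLoc.locConj_of_representsTor hG i hT M U h hM)
    exact K544.AutNorm.main i υ hA (autClassifies_torus hG hT M U h hM) q hq
  · have h4 : IsClosedImmersion i.left := hB.2.1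
    have h6 : Smooth H.hom := hB.2.2.1
    have hB' : RedSub.IsBorelSub i := TypeR.isBorelSub_of_isBorel hG hB
    have h5 : GeometricallyIrreducible H.hom :=
      have : GrpObj (Over.mk H.hom) := ‹GrpObj H›
      Sga3C.GrpIrr.geometricallyIrreducible_of_connected_fibres H.hom hB'.1.2.2.2.1
    obtain ⟨M, U, _, h, hM, -⟩ := S3964.result G hG
    obtain ⟨q, hq, -, hqs⟩ := QuotCrit.exists_quotient
      (ClosedBor.closed_and_selfNorm hG i hB').2 h6 (S3966.classifies hG M U h hM i hB')
      (S3966.locConj hG M U h hM.1 i hB')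
    exact K544.AutNorm.main i υ hA (autClassifies_borel hG hB' M U h hM) q hq

end Groth.Agent.S8514
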