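import Groth.Statements.S8515
import Groth.Agent.Par.K546.PairBorel
import Groth.Agent.S3979

set_option autoImplicit false
open CategoryTheory MonoidalCategory CartesianMonoidalCategory MonObj GrpObj AlgebraicGeometry
universe u
open Par

open Groth.Agent.Sga3B Groth.Agent.Sga3B.Parab Groth.Agent.Sga3B.Parab.ConjPt

namespace Groth.Agent.S8515

/-- With 'of the same type' unfolded as 'with conjugate geometric fibres'. Let G be a reductive S-group,
(P, Q) a pair of parabolic subgroups in transversal position (the multiplication morphism P ×_S Q ⟶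
G is smooth), and P′, Q′ parabolic subgroups of G whose geometric fibres at every point of S are
conjugate to those of P and of Q respectively. Then (P′, Q′) is in transversal position if and only
if, locally on S for the etale topology, the pair (P′, Q′) is conjugate to (P, Q): every point of S
is in the image of an etale S′ ⟶ S over which one point of G conjugates P onto P′ and Q onto Q′. -/
theorem result {S : Scheme.{u}} {G P Q P' Q' : Over S} [GrpObj G]
    [GrpObj P] [GrpObj Q] [GrpObj P'] [GrpObj Q'] (hG : Red.IsReductive G) (p : P ⟶ G) (q : Q ⟶ G) (p' : P' ⟶ G)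
    (q' : Q' ⟶ G) (hP : Red.IsParabolic p) (hQ : Red.IsParabolic q) (hP' : Red.IsParabolic p') (hQ' : Red.IsParabolic q')
    (htr : Smooth ((p ⊗ₘ q) ≫ μ[G]).left)
    (hPP' : (∀ s : S, ∃ g : 𝟙_ _ ⟶ Red.geomFibre s G,
      RedSub.ConjEq ((Over.pullback (Red.geomPt s)).map p) ((Over.pullback (Red.geomPt s)).map p') g))
    (hQQ' : (∀ s : S, ∃ g : 𝟙_ _ ⟶ Red.geomFibre s G,
      RedSub.ConjEq ((Over.pullback (Red.geomPt s)).map q) ((Over.pullback (Red.geomPt s)).map q') g)) :
    Smooth ((p' ⊗ₘ q') ≫ μ[G]).left ↔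
      ∀ s : S, ∃ (S' : Scheme.{u}) (f : S' ⟶ S), Etale f ∧ s ∈ Set.range f.base ∧
        ∃ g : 𝟙_ (Over S') ⟶ Red.bc f G,
          RedSub.ConjEq ((Over.pullback f).map p) ((Over.pullback f).map p') g ∧
          RedSub.ConjEq ((Over.pullback f).map q) ((Over.pullback f).map q') g := by
  have hp := hP.1
  have hp' := hP'.1
  have hq := hQ.1
  have hq' := hQ'.1
  have hpm : Mono p := OppRow172.mono_of_closed p hP.2.1
  have hqm : Mono q := OppRow172.mono_of_closed q hQ.2.1
  have hpm' : Mono p' := OppRow172.mono_of_closed p' hP'.2.1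
  have hqm' : Mono q' := OppRow172.mono_of_closed q' hQ'.2.1
  have hpp := K546.Common.elConj_of_geom hG hP hP' hPP'
  have hqq := K546.Common.elConj_of_geom hG hQ hQ' hQQ'
  constructor
  · intro htr' s
    have key : K546.Pair.PairLoc p p' q q' s := by
      obtain ⟨U₁, f₁, hf₁, ⟨s₁, rfl⟩, B, C, T, _, _, _, b, c, t, t', hb, hc, ht, hpb, hT⟩ :=
        (S3979.result hG p q hP hQ).2.2.1 htr s
      refine K546.Pair.PairLoc.of_bc f₁ ?_
      have hG₁ := RedBcAny636.isReductive_bc f₁ hG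
      have hP₁ := RedSub.H648.BorBc.isParabolic_bc f₁ hG hP
      have hQ₁ := RedSub.H648.BorBc.isParabolic_bc f₁ hG hQ
      have hP₁' := RedSub.H648.BorBc.isParabolic_bc f₁ hG hP'
      have hQ₁' := RedSub.H648.BorBc.isParabolic_bc f₁ hG hQ'
      obtain ⟨U₂, f₂, hf₂, ⟨s₂, rfl⟩, B', C', T', _, _, _, b', c', t₁, t₁', hb', hc', ht', hpb', hT'⟩ :=
        (S3979.result hG₁ _ _ hP₁' hQ₁').2.2.1 (K546.PairBorel.smooth_mul_bc f₁ htr') s₁
      refine K546.Pair.PairLoc.of_bc f₂ ?_
      have hG₂ := RedBcAny636.isReductive_bc f₂ hG₁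
      have hP₂ := RedSub.H648.BorBc.isParabolic_bc f₂ hG₁ hP₁
      have hQ₂ := RedSub.H648.BorBc.isParabolic_bc f₂ hG₁ hQ₁
      have hP₂' := RedSub.H648.BorBc.isParabolic_bc f₂ hG₁ hP₁'
      have hQ₂' := RedSub.H648.BorBc.isParabolic_bc f₂ hG₁ hQ₁'
      have hqf₂ : LocallyQuasiFinite f₂ := Desc.LQF.of_etale f₂
      have hb₂ := RedSub.H648.BorBc.isBorel_bc f₂ hG₁ hb
      have hc₂ := RedSub.H648.BorBc.isBorel_bc f₂ hG₁ hc
      have hT₂ : Red.IsMaximalTorus ((Over.pullback f₂).map t ≫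
          (Over.pullback f₂).map (b ≫ (Over.pullback f₁).map p)) := by
        rw [← CategoryTheory.Functor.map_comp]
        exact AlgBc.isMaximalTorus_bc f₂ hT
      obtain ⟨U₃, f₃, hf₃, ⟨s₃, rfl⟩, g, hg, hg'⟩ := K546.PairBorel.pairLoc hG₂ hb₂ hc₂
        (hpb.map (Over.pullback f₂)) hT₂ hb' hc' ht' hpb' hT' s₂
      refine K546.Pair.PairLoc.of_bc f₃ ?_
      have hG₃ := RedBcAny636.isReductive_bc f₃ hG₂
      refine K546.Pair.PairLoc.of_section g ?_ ?_ s₃
      · refine K546.Pair.conj_of_conj_borel hG₃ (RedSub.H648.BorBc.isParabolic_bc f₃ hG₂ hP₂)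
          (RedSub.H648.BorBc.isParabolic_bc f₃ hG₂ hP₂')
          (fun u => K546.Common.elConj_bc f₃ (K546.Common.elConj_bc f₂ (K546.Common.elConj_bc f₁ (hpp _))))
          (RedSub.H648.BorBc.isBorel_bc f₃ hG₂ hb') ((Over.pullback f₃).map ((Over.pullback f₂).map b)) ?_
          ((Over.pullback f₃).map b') ?_ g hg
        · rw [← CategoryTheory.Functor.map_comp, ← CategoryTheory.Functor.map_comp]
        · rw [← CategoryTheory.Functor.map_comp]
      · refine K546.Pair.conj_of_conj_borel hG₃ (RedSub.H648.BorBc.isParabolic_bc f₃ hG₂ hQ₂)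
          (RedSub.H648.BorBc.isParabolic_bc f₃ hG₂ hQ₂')
          (fun u => K546.Common.elConj_bc f₃ (K546.Common.elConj_bc f₂ (K546.Common.elConj_bc f₁ (hqq _))))
          (RedSub.H648.BorBc.isBorel_bc f₃ hG₂ hc') ((Over.pullback f₃).map ((Over.pullback f₂).map c)) ?_
          ((Over.pullback f₃).map c') ?_ g hg'
        · rw [← CategoryTheory.Functor.map_comp, ← CategoryTheory.Functor.map_comp]
        · rw [← CategoryTheory.Functor.map_comp]
    obtain ⟨S', f, hf, hs, g, h1, h2⟩ := key.exists_conj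
    exact ⟨S', f, hf, hs, g, (RedSub.H645.ConjEqIff.conjEq_iff g).2 h1,
      (RedSub.H645.ConjEqIff.conjEq_iff g).2 h2⟩
  · intro h
    refine RedSub.H661.Borels.smooth_of_locSm fun s => ?_
    obtain ⟨S', f, hf, hs, g, h1, h2⟩ := h s
    rw [RedSub.H645.ConjEqIff.conjEq_iff] at h1 h2
    exact RedSub.H661.Borels.locSm_of_smooth s f hs (RedSub.H661.Borels.smooth_bc_of_mul f
      (K546.PairBorel.smooth_mul_of_conj h1 h2 (K546.PairBorel.smooth_mul_bc f htr)))

end Groth.Agent.S8515
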