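import Groth.Statements.S8516
import Groth.Agent.Par.K546.Pair

set_option autoImplicit false
open CategoryTheory MonoidalCategory CartesianMonoidalCategory MonObj GrpObj AlgebraicGeometry
universe u
open Par

open Groth.Agent.Sga3B Groth.Agent.Sga3B.Parab Groth.Agent.Sga3B.Parab.ConjPt

namespace Groth.Agent.S8516

/-- With 'of the same type' unfolded as 'with conjugate geometric fibres'. Let G be a reductive S-group,
(P, Q) a pair of parabolic subgroups in osculating position (their intersection, a fibre product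
over G, is a parabolic subgroup of G), and P′, Q′ parabolic subgroups of G whose geometric fibres at
every point of S are conjugate to those of P and of Q respectively, with intersection I′ = P′ ∩ Q′.
Then (P′, Q′) is in osculating position (I′ is a parabolic subgroup of G) if and only if, locally on
S for the etale topology, one point of G conjugates P onto P′ and Q onto Q′. -/
theorem result {S : Scheme.{u}} {G P Q P' Q' I I' : Over S} [GrpObj G]
    [GrpObj P] [GrpObj Q] [GrpObj P'] [GrpObj Q'] [GrpObj I] [GrpObj I'] (hG : Red.IsReductive G) (p : P ⟶ G) (q : Q ⟶ G)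
    (p' : P' ⟶ G) (q' : Q' ⟶ G) (hP : Red.IsParabolic p) (hQ : Red.IsParabolic q) (hP' : Red.IsParabolic p')
    (hQ' : Red.IsParabolic q') (m : I ⟶ P) (n : I ⟶ Q) [IsMonHom m] (hI : IsPullback m n p q)
    (hosc : Red.IsParabolic (m ≫ p)) (m' : I' ⟶ P') (n' : I' ⟶ Q') [IsMonHom m'] (hI' : IsPullback m' n' p' q')
    (hPP' : (∀ s : S, ∃ g : 𝟙_ _ ⟶ Red.geomFibre s G,
      RedSub.ConjEq ((Over.pullback (Red.geomPt s)).map p) ((Over.pullback (Red.geomPt s)).map p') g))
    (hQQ' : (∀ s : S, ∃ g : 𝟙_ _ ⟶ Red.geomFibre s G,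
      RedSub.ConjEq ((Over.pullback (Red.geomPt s)).map q) ((Over.pullback (Red.geomPt s)).map q') g)) :
    Red.IsParabolic (m' ≫ p') ↔
      ∀ s : S, ∃ (S' : Scheme.{u}) (f : S' ⟶ S), Etale f ∧ s ∈ Set.range f.base ∧
        ∃ g : 𝟙_ (Over S') ⟶ Red.bc f G,
          RedSub.ConjEq ((Over.pullback f).map p) ((Over.pullback f).map p') g ∧
          RedSub.ConjEq ((Over.pullback f).map q) ((Over.pullback f).map q') g := by
  have hp := hP.1
  have hp' := hP'.1
  have hpm' : Mono p' := by
    have := hP'.2.1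
    exact Over.mono_of_mono_left p'
  have hqm' : Mono q' := by
    have := hQ'.2.1
    exact Over.mono_of_mono_left q'
  have hmm' : Mono m' := ⟨fun a b hab => hI'.hom_ext hab (by
    rw [← cancel_mono q', Category.assoc, Category.assoc, ← hI'.w, reassoc_of% hab])⟩
  have hpp := K546.Common.elConj_of_geom hG hP hP' hPP'
  have hqq := K546.Common.elConj_of_geom hG hQ hQ' hQQ'
  constructor
  · intro hosc' s
    obtain ⟨S', f, hf, hs, g, h1, h2⟩ := (K546.Pair.pairLoc_of_osc hG hP hP' hQ hQ' hpp hqq
      hosc hosc' m rfl m' rfl n hI.w.symm n' hI'.w.symm s).exists_conj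
    exact ⟨S', f, hf, hs, g, (RedSub.H645.ConjEqIff.conjEq_iff g).2 h1,
      (RedSub.H645.ConjEqIff.conjEq_iff g).2 h2⟩
  · intro h
    have hm' : IsMonHom (m' ≫ p') := inferInstance
    refine K546.Pair.isParabolic_of_local hm' fun s => ?_
    obtain ⟨U, f, hf, hs, g, h1, h2⟩ := h s
    rw [RedSub.H645.ConjEqIff.conjEq_iff] at h1 h2
    have hi := RedSub.H664.Transp.isParabolic_ad (RedSub.H648.BorBc.isParabolic_bc f hG hosc) g
    refine ⟨U, f, hf, hs, K546.Pair.isParabolic_of_mem_iff hi inferInstance inferInstance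
      fun X y => ?_⟩
    rw [K546.Pair.mem_ad_iff, CategoryTheory.Functor.map_comp, CategoryTheory.Functor.map_comp,
      K546.Pair.mem_inter (hI.map (Over.pullback f)), K546.Pair.mem_inter (hI'.map (Over.pullback f)),
      ← K546.Pair.mem_ad_iff, ← K546.Pair.mem_ad_iff, K546.Pair.Conj.mem_ad_iff h1,
      K546.Pair.Conj.mem_ad_iff h2]

end Groth.Agent.S8516
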