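import Groth.Statements.S8517
import Groth.Agent.RedSub.K199.ParabSet

set_option autoImplicit false
open CategoryTheory MonoidalCategory CartesianMonoidalCategory MonObj GrpObj AlgebraicGeometry
universe u
open RedSub

namespace Groth.Agent.S8517

/-- Let R be the set of roots of a root pairing over ℤ with finitely many roots, and R₁, R₂ two closed
subsets of R (if a, b ∈ Rᵢ and root a + root b is a root c then c ∈ Rᵢ), each containing a system of
positive roots (the positive roots of some base). If R₁ ∪ R₂ = R, then R₁ ∩ (−R₂) (the roots of R₁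
whose negative is a root in R₂) contains a system of positive roots. -/
theorem result {idx M N : Type} [Finite idx] [AddCommGroup M] [AddCommGroup N] (P : RootPairing idx ℤ M N) (R₁ R₂ : Set idx)
    (h₁ : ∀ a b c : idx, a ∈ R₁ → b ∈ R₁ → P.root a + P.root b = P.root c → c ∈ R₁)
    (h₂ : ∀ a b c : idx, a ∈ R₂ → b ∈ R₂ → P.root a + P.root b = P.root c → c ∈ R₂)
    (hb₁ : ∃ b : P.Base, RedSub.posRoots P b ⊆ R₁) (hb₂ : ∃ b : P.Base, RedSub.posRoots P b ⊆ R₂)
    (hunion : R₁ ∪ R₂ = Set.univ) :
    ∃ b : P.Base, RedSub.posRoots P b ⊆ {a | a ∈ R₁ ∧ ∃ c ∈ R₂, P.root a = -P.root c} := by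
  classical
  obtain ⟨b₁, hb₁⟩ := hb₁
  obtain ⟨b₂, hb₂⟩ := hb₂
  have hneg : ∀ a : idx, P.root (P.reflectionPerm a a) = - P.root a := fun a => by
    rw [P.root_reflectionPerm, P.reflection_apply_self]
  have hpn : ∀ (b : P.Base) (a : idx), a ∈ RedSub.posRoots P b ∨
      P.reflectionPerm a a ∈ RedSub.posRoots P b := by
    intro b a
    rcases b.root_mem_or_neg_mem a with h | h
    · exact Or.inl h
    · right
      change P.root (P.reflectionPerm a a) ∈ AddSubmonoid.closure (P.root '' (b.support : Set idx))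
      rw [hneg]
      exact h
  have hself : ∀ a : idx, P.reflectionPerm (P.reflectionPerm a a) (P.reflectionPerm a a) = a := by
    intro a
    apply P.root.injective
    rw [hneg, hneg, neg_neg]
  -- `R₁ ∪ R₂` is everything
  have hu : ∀ a : idx, a ∈ R₁ ∨ a ∈ R₂ := fun a => by
    have : a ∈ R₁ ∪ R₂ := by rw [hunion]; trivial
    exact this
  have hmem : ∀ a : idx, (∃ c ∈ R₂, P.root a = -P.root c) ↔ P.reflectionPerm a a ∈ R₂ := by
    intro a
    constructor
    · rintro ⟨c, hc, hac⟩
      have : P.reflectionPerm a a = c := P.root.injective (by rw [hneg, hac, neg_neg])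
      rwa [this]
    · intro h
      exact ⟨_, h, by rw [hneg, neg_neg]⟩
  refine K199.ParabSet.exists_base_posRoots_subset b₁ _ ?_ ?_
  · rintro a b c ⟨ha, ha'⟩ ⟨hb, hb'⟩ habc
    refine ⟨h₁ a b c ha hb habc, ?_⟩
    rw [hmem] at ha' hb' ⊢
    refine h₂ _ _ _ ha' hb' ?_
    rw [hneg, hneg, hneg, ← habc]
    abel
  · intro a
    simp only [Set.mem_ofPred_eq, hmem, hself]
    rcases hpn b₁ a with h1 | h1 <;> rcases hpn b₂ a with h2 | h2 <;>
      have h1' := hb₁ h1 <;> have h2' := hb₂ h2 <;>
      have h3 := hu a <;> have h4 := hu (P.reflectionPerm a a) <;> tauto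

end Groth.Agent.S8517
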