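import Groth.Statements.S8518
import Groth.Agent.Par.K546.Common
import Groth.Agent.Par.K546.Opp
import Groth.Agent.RedSub.H664.Transp
import Groth.Agent.S3981

set_option autoImplicit false
open CategoryTheory MonoidalCategory CartesianMonoidalCategory MonObj GrpObj AlgebraicGeometry
universe u
open Par

open Groth.Agent.Sga3B.Parab Groth.Agent.Sga3B.Parab.ConjPt Groth.Agent.RedSub.H664

namespace Groth.Agent.S8518

/-- With 'of the same type' unfolded as 'with conjugate geometric fibres'. Let A be a semi-local ring, S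
= Spec A, G a reductive S-group, and (Pᵢ), (P′ᵢ) two chains of parabolic subgroups of G indexed by
Fin n, decreasing (Pⱼ ⊆ Pᵢ and P′ⱼ ⊆ P′ᵢ for i ≤ j), such that for every i the geometric fibres of
Pᵢ and P′ᵢ at every point of S are conjugate. Then there is g ∈ G(S) with int(g)Pᵢ = P′ᵢ for every
i. -/
theorem result {A : Type u} [CommRing A] (hA : {m : Ideal A | m.IsMaximal}.Finite)
    {G : Over (Spec (CommRingCat.of A))} [GrpObj G] (hG : Red.IsReductive G) {n : ℕ}
    (P P' : Fin n → Over (Spec (CommRingCat.of A))) [∀ i, GrpObj (P i)] [∀ i, GrpObj (P' i)]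
    (p : ∀ i, P i ⟶ G) (p' : ∀ i, P' i ⟶ G) (hP : ∀ i, Red.IsParabolic (p i)) (hP' : ∀ i, Red.IsParabolic (p' i))
    (hdec : ∀ i j : Fin n, i ≤ j → (∃ f : P j ⟶ P i, f ≫ p i = p j) ∧ (∃ f' : P' j ⟶ P' i, f' ≫ p' i = p' j))
    (hconj : ∀ (i : Fin n) (s : Spec (CommRingCat.of A)), ∃ g : 𝟙_ _ ⟶ Red.geomFibre s G,
      RedSub.ConjEq ((Over.pullback (Red.geomPt s)).map (p i)) ((Over.pullback (Red.geomPt s)).map (p' i)) g) :
    ∃ g : 𝟙_ (Over (Spec (CommRingCat.of A))) ⟶ G, ∀ i : Fin n, RedSub.ConjEq (p i) (p' i) g := by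
  cases n with
  | zero => exact ⟨1, fun i => i.elim0⟩
  | succ n =>
    obtain ⟨g, e, he⟩ : ∃ (g : 𝟙_ (Over (Spec (CommRingCat.of A))) ⟶ G) (e : P (Fin.last n) ≅ P' (Fin.last n)),
        e.hom ≫ p' (Fin.last n) = Ad.ad g (p (Fin.last n)) := by
      obtain ⟨L, Pm, U, U', _, _, _, _, l, pm, l', u, u', _, _, hPm, hL, hl, hl', hu, hu'⟩ :=
        K546.Opp.exists_opposite hG (hP (Fin.last n))
      obtain ⟨a, b, e, he⟩ := S3981.result hA hG (p (Fin.last n)) pm (p' (Fin.last n)) (hP _) hPm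
        (hP' _) l l' hL hl hl' u hu u' hu' (hconj _)
      exact ⟨_, e, he⟩
    refine ⟨g, fun i => ?_⟩
    obtain ⟨⟨f, hf⟩, ⟨f', hf'⟩⟩ := hdec i (Fin.last n) (Fin.le_last i)
    have h1 : Red.IsParabolic (Ad.ad g (p i)) := RedSub.H664.Transp.isParabolic_ad (hP i) g
    obtain ⟨e', he'⟩ := K546.Common.eq_of_common hG h1 (hP' i) (hP' (Fin.last n)) (e.inv ≫ f) (by
      rw [Category.assoc, Ad.comp_ad, hf, ← he, Iso.inv_hom_id_assoc]) f' hf' (fun s => by
        obtain ⟨U, f, hf, hs, h, hh⟩ := K546.Common.elConj_of_geom hG (hP i) (hP' i) (hconj i) s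
        have h2 : Conj (p i) (Ad.ad g (p i)) g := LC.conj_of_iso (Iso.refl _) (by
          rw [Iso.refl_hom, Category.id_comp]
          rfl)
        exact ⟨U, f, hf, hs, h * (toUnit _ ≫ g)⁻¹, hh.mul ((h2.comp _).inv)⟩)
    rw [RedSub.H645.ConjEqIff.conjEq_iff]
    exact LC.conj_of_iso e' he'

end Groth.Agent.S8518
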