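import Groth.Statements.S8519
import Groth.Agent.AutFam.K544.PinPair

set_option autoImplicit false
open CategoryTheory MonoidalCategory CartesianMonoidalCategory MonObj GrpObj AlgebraicGeometry
universe u
open AutFam

namespace Groth.Agent.S8519

open Groth.Agent.Sga3B Groth.Agent.Sga3B.IsoFam in
/-- Second assertion (the decomposition of the base). Let G and G′ be reductive S-groups and let (F, υ)
represent the functor of isomorphisms of S-groups from G to G′. Then the image of F ⟶ S is closed in
S (it is open as well, F being smooth over S, so S is the disjoint union of two open subschemes,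
over one of which F is empty and onto the other of which F maps surjectively). (The torsor structure
of F over the second piece is not stated.) -/
theorem result {S : Scheme.{u}} (G G' : Over S) [GrpObj G] [GrpObj G'] (hG : Red.IsReductive G)
    (hG' : Red.IsReductive G') (F : Over S) (υ : G ⊗ F ⟶ G') (hF : AutFam.RepresentsIsom G G' F υ) :
    IsClosed (Set.range F.hom.base) := by
  rw [← isOpen_compl_iff, isOpen_iff_forall_mem_open]
  intro s hs
  obtain ⟨R, v, hv, hsv, ⟨D⟩, ⟨D'⟩⟩ := K544.PinPair.exists_pinnings hG hG' s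
  refine ⟨Set.range v.base, ?_, v.isOpenMap.isOpen_range, hsv⟩
  rintro _ ⟨x, rfl⟩ ⟨y, hy⟩
  apply hs
  obtain ⟨z, -, -⟩ := Scheme.Pullback.exists_preimage_pullback (f := F.hom) (g := v) y x hy
  have : Nonempty ↥(Limits.pullback F.hom v) := ⟨z⟩
  obtain ⟨e⟩ := nonempty_iso_of_point hF (Limits.pullback.snd F.hom v ≫ v) (Limits.pullback.fst F.hom v)
    Limits.pullback.condition
  obtain ⟨g⟩ := K544.PinPair.nonempty_iso D D' (Limits.pullback.snd F.hom v)
    ⟨(BcIso.bcCompIso (Limits.pullback.snd F.hom v) v G).symm ≪≫ e ≪≫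
      BcIso.bcCompIso (Limits.pullback.snd F.hom v) v G'⟩
  obtain ⟨a, ha⟩ := exists_point_of_iso hF v ⟨g⟩
  obtain ⟨p, rfl⟩ := hsv
  refine ⟨a p, ?_⟩
  rw [← ha]
  rfl

end Groth.Agent.S8519
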