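import Groth.Statements.S8520
import Groth.Agent.RedSub.K198.FilBor
import Groth.Agent.Par.K208.HtCochar

set_option autoImplicit false
open CategoryTheory MonoidalCategory CartesianMonoidalCategory MonObj GrpObj AlgebraicGeometry
universe u
open Par

namespace Groth.Agent.S8520

/-- Over an affine base S = Spec A. Let G be a reductive S-group, P a parabolic subgroup of G and U its
unipotent radical. Then there is a decreasing sequence U = U₀ ⊇ U₁ ⊇ U₂ ⊇ ⋯ of closed subgroup
schemes of P, normal in P, smooth over S with connected fibres, such that: the commutator of a point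
of Uᵢ and a point of Uⱼ is a point of U_{i+j+1}; for every n the fppf quotient Uₙ/Uₙ₊₁ is a vector
group, namely there are a finitely generated projective A-module Pₙ and a homomorphism Uₙ ⟶
Spec(Sym_A Pₙ) (the additive group of the vector bundle) which is the quotient of Uₙ by Uₙ₊₁; and
the geometric fibre of Uₙ at a point s is trivial as soon as n is at least the dimension of the
geometric fibre of U at s. (The published statement is over an arbitrary base with locally free
modules, asserts the Uᵢ characteristic in P, and adds that automorphisms of P act linearly on the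
quotients; this row is the affine-base case with normality, and leaves out the linearity. The
published statement asserts the triviality of the fibre of Uₙ only for n greater than that
dimension; the construction already gives it for n equal to the dimension, as stated here.) -/
theorem result {A : Type u} [CommRing A]
    {G P U : Over (Spec (CommRingCat.of A))} [GrpObj G] [GrpObj P] [GrpObj U] (hG : Red.IsReductive G)
    (p : P ⟶ G) (hP : Red.IsParabolic p) (u : U ⟶ P) (hU : Par.IsUnipotentRadical u) :
    ∃ (V : ℕ → Over (Spec (CommRingCat.of A))) (_ : ∀ n, GrpObj (V n)) (v : ∀ n, V n ⟶ P)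
      (w : ∀ n, V (n + 1) ⟶ V n) (e₀ : V 0 ≅ U), e₀.hom ≫ u = v 0 ∧
      (∀ n, IsMonHom (v n) ∧ IsClosedImmersion (v n).left ∧ AlgGrp.IsNormalHom (v n) ∧ Smooth (V n).hom ∧
        RedSub.HasConnectedFibres (V n) ∧ IsMonHom (w n) ∧ w n ≫ v n = v (n + 1)) ∧
      (∀ (i j : ℕ) (X : Over (Spec (CommRingCat.of A))) (x : X ⟶ V i) (y : X ⟶ V j), ∃ z : X ⟶ V (i + j + 1),
        z ≫ v (i + j + 1) = (x ≫ v i) * (y ≫ v j) * (x ≫ v i)⁻¹ * (y ≫ v j)⁻¹) ∧
      (∀ n, ∃ (M : Type u) (_ : AddCommGroup M) (_ : Module A M) (_ : Module.Finite A M) (_ : Module.Projective A M)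
        (q : V n ⟶ (Spec (CommRingCat.of (SymmetricAlgebra A M))).asOver (Spec (CommRingCat.of A))),
        IsMonHom q ∧ RedSub.IsQuotient (w n) q) ∧
      (∀ (s : ↥(Spec (CommRingCat.of A))) (n : ℕ),
        topologicalKrullDim ↥(Red.geomFibre s U).left ≤ (n : WithBot ℕ∞) →
          Red.IsTrivialGrp (Red.geomFibre s (V n))) := by
  have hht : K198.FilMain.Ht p := Groth.Agent.Par.K208.HtCochar.exists_ht hG p hP
  obtain ⟨V, iV, v, w, e₀, h1, -, -, h2⟩ := K198.FilMain.main hG p hP u hU hht
  exact ⟨V, iV, v, w, e₀, h1, h2⟩

end Groth.Agent.S8520
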