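import Groth.Statements.S8521
import Groth.Agent.S8494
import Groth.Agent.S2999
import Groth.Agent.Par.K546.Opp
import Groth.Agent.Par.K545.BC
-- import your own Groth.Agent.* helpers here

set_option autoImplicit false
open CategoryTheory MonoidalCategory CartesianMonoidalCategory MonObj GrpObj AlgebraicGeometry
universe u
open Par
open Groth.Agent.Sga3B Groth.Agent.Sga3B.Parab

namespace Groth.Agent.S8521

/-- Let A be a semi-local ring, S = Spec A, G a reductive S-group and P a parabolic subgroup of G. For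
each closed point s of S let Q_s be a parabolic subgroup of G_s opposite to P_s: the intersection
P_s ∩ Q_s (a fibre product over G_s) is a Levi subgroup of P_s and of Q_s. Then there is a parabolic
subgroup Q of G opposite to P (P ∩ Q is a Levi subgroup of both) inducing Q_s at every closed point
s. -/
theorem result {A : Type u} [CommRing A]
    (hA : {m : Ideal A | m.IsMaximal}.Finite) {G P : Over (Spec (CommRingCat.of A))} [GrpObj G] [GrpObj P]
    (hG : Red.IsReductive G) (p : P ⟶ G) (hP : Red.IsParabolic p)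
    (Qm Im : ∀ m : MaximalSpectrum A, Over (Spec (CommRingCat.of (A ⧸ m.asIdeal)))) [∀ m, GrpObj (Qm m)]
    [∀ m, GrpObj (Im m)]
    (qm : ∀ m : MaximalSpectrum A, Qm m ⟶ Red.bc (Spec.map (CommRingCat.ofHom (Ideal.Quotient.mk m.asIdeal))) G)
    (hQm : ∀ m, Red.IsParabolic (qm m))
    (am : ∀ m : MaximalSpectrum A, Im m ⟶ Red.bc (Spec.map (CommRingCat.ofHom (Ideal.Quotient.mk m.asIdeal))) P)
    (bm : ∀ m : MaximalSpectrum A, Im m ⟶ Qm m) [∀ m, IsMonHom (am m)] [∀ m, IsMonHom (bm m)]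
    (hIm : ∀ m, IsPullback (am m) (bm m)
      ((Over.pullback (Spec.map (CommRingCat.ofHom (Ideal.Quotient.mk m.asIdeal)))).map p) (qm m))
    (hopp : ∀ m, Par.IsLevi (am m) ∧ Par.IsLevi (bm m)) :
    ∃ (Q I : Over (Spec (CommRingCat.of A))) (_ : GrpObj Q) (_ : GrpObj I) (q : Q ⟶ G) (a : I ⟶ P) (b : I ⟶ Q),
      Red.IsParabolic q ∧ IsMonHom a ∧ IsMonHom b ∧ IsPullback a b p q ∧ Par.IsLevi a ∧ Par.IsLevi b ∧
      ∀ m : MaximalSpectrum A,
        ∃ e : Red.bc (Spec.map (CommRingCat.ofHom (Ideal.Quotient.mk m.asIdeal))) Q ≅ Qm m,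
          e.hom ≫ qm m = (Over.pullback (Spec.map (CommRingCat.ofHom (Ideal.Quotient.mk m.asIdeal)))).map q := by
  obtain ⟨L, _, l, hl, he⟩ := S8494.result hA hG p hP Im am (fun m => (hopp m).1)
  obtain ⟨Q, _, q, b, hq, hpb⟩ := (S2999.result G P L hG p hP l hl).1
  have h1 : IsMonHom l := hl.1
  have h2 : IsMonHom p := hP.1
  have h3 : IsMonHom q := hq.1
  have h4 : Mono q := by
    have := hq.2.1
    exact Over.mono_of_mono_left q
  have h5 : IsMonHom b := by
    have : IsMonHom (b ≫ q) := by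
      rw [← hpb.w]
      infer_instance
    exact OppS172.isMonHom_of_comp b q this
  obtain ⟨U, _, u, hU⟩ := K546.Opp.exists_rad hG hP
  refine ⟨Q, L, inferInstance, inferInstance, q, l, b, hq, h1, h5, hpb, hl,
    K546.Opp.isLevi_snd hG hP hq hU hpb hl h5, fun m => ?_⟩
  obtain ⟨e, he⟩ := he m
  have h6 : IsPullback ((Over.pullback (Spec.map (CommRingCat.ofHom
      (Ideal.Quotient.mk m.asIdeal)))).map l) (e.hom ≫ bm m)
      ((Over.pullback (Spec.map (CommRingCat.ofHom (Ideal.Quotient.mk m.asIdeal)))).map p)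
      (qm m) := by
    refine IsPullback.of_iso (hIm m) e.symm (Iso.refl _) (Iso.refl _) (Iso.refl _) ?_ ?_ ?_ ?_
    · rw [Iso.refl_hom, Category.comp_id, Iso.symm_hom, ← he, Iso.inv_hom_id_assoc]
    · rw [Iso.refl_hom, Category.comp_id, Iso.symm_hom, Iso.inv_hom_id_assoc]
    · rw [Iso.refl_hom, Iso.refl_hom, Category.comp_id, Category.id_comp]
    · rw [Iso.refl_hom, Iso.refl_hom, Category.comp_id, Category.id_comp]
  obtain ⟨e', he'⟩ := (S2999.result _ _ _ (RedBcAny636.isReductive_bc _ hG) _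
    (RedSub.H648.BorBc.isParabolic_bc _ hG hP) _
    (K545.BC.isLevi_bc hG hP hl _)).2 _ _ _ _ _ _
    (RedSub.H648.BorBc.isParabolic_bc _ hG hq) (hQm m) (hpb.map (Over.pullback _)) h6
  exact ⟨e', he'⟩

end Groth.Agent.S8521
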