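import Groth.Statements.S8522
import Groth.Agent.S8082
import Groth.Agent.S7946

set_option autoImplicit false
open CategoryTheory MonoidalCategory CartesianMonoidalCategory MonObj GrpObj AlgebraicGeometry
universe u
open Hoch

namespace K915.RedVanish

theorem finiteType_of_isReductive (k : Type u) [Field k] (A : Type u) [CommRing A]
    [HopfAlgebra k A] (hG : Red.IsReductive ((Spec (CommRingCat.of A)).asOver (Spec (CommRingCat.of k)))) :
    Algebra.FiniteType k A := by
  have h2 : Smooth ((Spec (CommRingCat.of A)).asOver (Spec (CommRingCat.of k))).hom := hG.2.1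
  have h3 : Smooth (Spec.map (CommRingCat.ofHom (algebraMap k A))) := h2
  have h4 : LocallyOfFiniteType (Spec.map (CommRingCat.ofHom (algebraMap k A))) := inferInstance
  have := (HasRingHomProperty.Spec_iff (P := @LocallyOfFiniteType)).mp h4
  exact (RingHom.finiteType_algebraMap).mp this

theorem connected_of_isReductive (k : Type u) [Field k] (A : Type u) [CommRing A]
    [HopfAlgebra k A] (hG : Red.IsReductive ((Spec (CommRingCat.of A)).asOver (Spec (CommRingCat.of k)))) :
    ConnectedSpace ↥(Spec (CommRingCat.of A)) := by
  let s : ↥(Spec (CommRingCat.of k)) := (⊥ : PrimeSpectrum k)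
  obtain ⟨-, -, h3, -⟩ := hG.2.2 s
  let G : Over (Spec (CommRingCat.of k)) := (Spec (CommRingCat.of A)).asOver (Spec (CommRingCat.of k))
  let p : (Red.geomFibre s G).left ⟶ G.left := Limits.pullback.fst G.hom (Red.geomPt s)
  have hs : Surjective (Red.geomPt s) := by
    constructor
    intro x
    have : Subsingleton ↥(Spec (CommRingCat.of k)) := inferInstanceAs (Subsingleton (PrimeSpectrum k))
    have : Nonempty ↥(Spec (CommRingCat.of (AlgebraicClosure ((Spec (CommRingCat.of k)).residueField s)))) :=
      inferInstance
    exact ⟨Classical.arbitrary _, Subsingleton.elim _ _⟩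
  have hp : Surjective p := inferInstance
  exact hp.surj.connectedSpace (by exact p.continuous)

end K915.RedVanish

namespace Groth.Agent.S8522

theorem result (k : Type u) [Field k] [CharZero k] (A : Type u) [CommRing A]
    [HopfAlgebra k A] (hG : Red.IsReductive ((Spec (CommRingCat.of A)).asOver (Spec (CommRingCat.of k))))
    (V : Type u) [AddCommGroup V] [Module k V] [Module.Finite k V] [HopfRep.Comod k A V] (n : ℕ) (hn : 1 ≤ n) :
    Subsingleton (Hoch.H k A V n) := by
  have := K915.RedVanish.finiteType_of_isReductive k A hG
  have := K915.RedVanish.connected_of_isReductive k A hG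
  have hL := (Groth.Agent.S8082.result k A).mp hG
  have h := Groth.Agent.S7946.result k A hL V n hn
  rw [Hoch.H, Submodule.Quotient.subsingleton_iff]
  rw [eq_top_iff]
  rintro ⟨x, hx⟩ -
  exact h hx

end Groth.Agent.S8522
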