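import Groth.Statements.S8527
import Groth.Agent.EtpbcA.Strata
import Groth.Agent.EtpbcA.ConsExact
import Groth.Agent.Sga4B.NoethStrata

set_option autoImplicit false
universe u
open CategoryTheory CategoryTheory.Limits AlgebraicGeometry Opposite
open EtPBC

namespace Groth.Agent.S8527

/-- Let X be a locally Noetherian scheme and F an abelian sheaf on its small etale site. Then F is
constructible if and only if for every point x of X there is a nonempty open subset of the closure
of x along which F becomes finite locally constant; precisely: there are an open V containing x and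
an immersion g : T → X with image V ∩ closure(x) such that the inverse image of F along g is finite
locally constant. -/
theorem result {X : Scheme.{u}} [IsLocallyNoetherian X]
    (F : EtCoh.Ab X) :
    EtPBC.IsConstructible F ↔
      ∀ x : X, ∃ (V : X.Opens) (T : Scheme.{u}) (g : T ⟶ X), IsImmersion g ∧ x ∈ V ∧
        Set.range g.base = (V : Set X) ∩ closure {x} ∧
        EtCoh.IsFiniteLocallyConstant ((EtCoh.pull g).obj F) := by
  rw [Groth.Agent.EtpbcA.Strata.isConstructible_iff_local']
  refine forall_congr' fun x => ⟨?_, ?_⟩
  · rintro ⟨V, hxV, T, g, himm, hsub, hx, -, hflc⟩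
    obtain ⟨O, C, hO, hC, hOC⟩ := g.isLocallyClosed_range
    have hx' : x ∈ O ∩ C := hOC ▸ hx
    have hA : IsLocallyClosed (O ∩ closure {x}) := hO.isLocallyClosed.inter
      isClosed_closure.isLocallyClosed
    have hAg : O ∩ closure {x} ⊆ Set.range g := by
      rw [hOC]
      exact Set.inter_subset_inter_right O (hC.closure_subset_iff.2 (by simpa using hx'.2))
    obtain ⟨T', h, hh, hhg, hr⟩ :=
      Groth.Agent.EtpbcA.Strata.exists_sub_immersion g _ hA hAg
    exact ⟨⟨O, hO⟩, T', h ≫ g, hhg, hx'.1, hr,
      Groth.Agent.EtpbcA.Strata.isFLC_comp g h F hflc⟩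
  · rintro ⟨V, T, g, himm, hxV, hr, hflc⟩
    obtain ⟨W, hW, hxW, hWV⟩ := Groth.Agent.EtpbcA.ConsExact.LocalStratum.exists_affine x V hxV
    have hA : IsLocallyClosed ((W : Set X) ∩ closure {x}) := W.isOpen.isLocallyClosed.inter
      isClosed_closure.isLocallyClosed
    obtain ⟨T', h, hh, hhg, hr'⟩ :=
      Groth.Agent.EtpbcA.Strata.exists_sub_immersion g _ hA
        (by rw [hr]; exact Set.inter_subset_inter_left _ hWV)
    refine ⟨W, hxW, T', h ≫ g, hhg, ?_, ?_, ?_, ?_⟩
    · rw [hr']
      exact Set.inter_subset_left
    · rw [hr']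
      exact ⟨hxW, subset_closure rfl⟩
    · have : IsNoetherianRing Γ(X, W) := IsLocallyNoetherian.component_noetherian ⟨W, hW⟩
      have : TopologicalSpace.NoetherianSpace ((W : Set X) : Type u) :=
        noetherianSpace_of_isAffineOpen W hW
      rw [hr']
      exact Groth.Agent.Sga4B.NoethStrata.isConstructible_of_isLocallyClosed_noetherian
        (hA.preimage continuous_subtype_val)
    · exact Groth.Agent.EtpbcA.Strata.isFLC_comp g h F hflc

end Groth.Agent.S8527
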