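import Groth.Statements.S8528
import Groth.Agent.EtPBC.K349.Unibranch
import Groth.Agent.Sga4B.ConstLC
import Groth.Agent.Dix.PointConst

set_option autoImplicit false
universe u
open CategoryTheory CategoryTheory.Limits AlgebraicGeometry Opposite
open EtPBC

namespace Groth.Agent.S8528

/-- Let X be an irreducible scheme all of whose strict localizations are irreducible (for every point x
and every strict henselization R of the local ring at x, Spec R is irreducible; that is, X is
geometrically unibranch), and M a torsion-free abelian group. Then H^1(X, M_X) = 0 for the constant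
sheaf M_X on the small etale site. -/
theorem result (X : Scheme.{u}) [IrreducibleSpace X]
    (hX : ∀ (x : X) (R : Type u) [CommRing R] [IsLocalRing R] [Algebra (X.presheaf.stalk x) R]
      [IsLocalHom (algebraMap (X.presheaf.stalk x) R)] [Hensel.IsStrictHenselization (X.presheaf.stalk x) R],
      IrreducibleSpace (PrimeSpectrum R))
    (M : Type) [AddCommGroup M] [IsAddTorsionFree M] :
    Subsingleton (EtCoh.H X (EtCoh.const X M) 1) := by
  let g := X.fromSpecResidueField (genericPoint X)
  have h1 : IsIso ((EtCoh.pullPushAdj g).unit.app (EtCoh.const X M)) := by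
    rw [Groth.Agent.Sga4B.ConstLC.isIso_unit_const_iff]
    apply Groth.Agent.Sga4B.ConstLC.isIso_LCres
    intro V
    exact K349.Unibranch.bijective_generic X hX V.hom _
  have h2 : Subsingleton (EtCoh.H X ((EtCoh.push g).obj
      (EtCoh.const (Spec (X.residueField (genericPoint X))) M)) 1) :=
    Groth.Agent.Dix.PointConst.subsingleton_H1_push_const (K := X.residueField (genericPoint X)) g M
  let e : EtCoh.const X M ≅ (EtCoh.push g).obj
      (EtCoh.const (Spec (X.residueField (genericPoint X))) M) :=
    asIso ((EtCoh.pullPushAdj g).unit.app (EtCoh.const X M)) ≪≫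
      (EtCoh.push g).mapIso (Groth.Agent.Sga4B.ConstLC.pullConstIso g M)
  refine subsingleton_of_forall_eq 0 fun x => ?_
  have h3 : Sheaf.H.map e.inv 1 (Sheaf.H.map e.hom 1 x) = x := by
    rw [← Sheaf.H.map_comp_apply, e.hom_inv_id, Sheaf.H.map_id_apply]
  rw [← h3, h2.elim (Sheaf.H.map e.hom 1 x) 0, map_zero]

end Groth.Agent.S8528
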