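import Groth.Statements.S8531
import Groth.Agent.EtPBC.K349.HpullLift
import Groth.Agent.Sga4h.GmLift

set_option autoImplicit false
universe u
open CategoryTheory CategoryTheory.Limits AlgebraicGeometry Opposite
open EtPBC

namespace Groth.Agent.S8531

/-- In the form R^1 ε_* G_m = 0 for the morphism ε from the etale site to the Zariski site (equivalently
H^1(X_Zar, O_X^*) → H^1(X_et, G_m) is bijective, so H^1(X_et, G_m) is the Picard group): let X be a
scheme, c a class in H^1(X_et, G_m) and x a point of X. Then there is an open neighbourhood U of x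
such that the pullback of c to H^1(U_et, G_m restricted to U) is zero. -/
theorem result (X : Scheme.{u}) (c : EtCoh.H X (EtCoh.Gm X) 1) (x : X) :
    ∃ U : X.Opens, x ∈ U ∧ ∀ [PreservesFiniteLimits (EtCoh.pull U.ι)], EtCore.Hpull U.ι (EtCoh.Gm X) 1 c = 0 := by
  classical
  let K : ShortComplex (EtCoh.Ab X) := ShortComplex.mk (Injective.ι (EtCoh.Gm X))
    (cokernel.π (Injective.ι (EtCoh.Gm X))) (cokernel.condition _)
  have hK : K.ShortExact := { exact := ShortComplex.exact_cokernel _ }
  have hI : Injective K.X₂ := inferInstanceAs (Injective (Injective.under (EtCoh.Gm X)))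
  obtain ⟨y, hy⟩ := K349.HpullLift.exists_eq_extClass hK c
  obtain ⟨W, hW, hxW, -⟩ := AlgebraicGeometry.exists_isAffineOpen_mem_and_subset (U := (⊤ : X.Opens)) (x := x) trivial
  let p := hW.primeIdealOf ⟨x, hxW⟩
  let S : Submonoid Γ(X, W) := p.asIdeal.primeCompl
  have hPic : Subsingleton (CommRing.Pic (Localization S)) :=
    inferInstanceAs (Subsingleton (CommRing.Pic (Localization.AtPrime p.asIdeal)))
  let q := K.X₃.obj.map (Groth.Agent.Etcore.PullCoh.toTop
    (Groth.Agent.Sga4h.EtSpec.sp hW.fromSpec Γ(X, W))).op (Groth.Agent.Etbase.GabSec.ev y)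
  obtain ⟨s, hs, hlift⟩ := Groth.Agent.Sga4h.GmLift.exists_lift hW.fromSpec hK q S hPic
  have : Algebra.Etale Γ(X, W) (Localization.Away s) := Algebra.Etale.of_isLocalizationAway s
  obtain ⟨t', ht'⟩ := hlift (Localization.Away s) (IsLocalization.Away.algebraMap_isUnit s)
  let j := Spec.map (CommRingCat.ofHom (algebraMap Γ(X, W) (Localization.Away s))) ≫ hW.fromSpec
  have hj : IsOpenImmersion j := inferInstance
  let U : X.Opens := j.opensRange
  have hxU : x ∈ U := by
    have h1 : p ∈ Set.range (PrimeSpectrum.comap (algebraMap Γ(X, W) (Localization.Away s))) := by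
      rw [PrimeSpectrum.localization_away_comap_range (Localization.Away s) s]
      exact hs
    obtain ⟨z, hz⟩ := h1
    refine ⟨z, ?_⟩
    refine (Scheme.Hom.comp_apply (Spec.map (CommRingCat.ofHom
      (algebraMap Γ(X, W) (Localization.Away s)))) hW.fromSpec z).trans ?_
    refine Eq.trans ?_ (hW.fromSpec_primeIdealOf ⟨x, hxW⟩)
    exact congrArg hW.fromSpec hz
  let r : Scheme.Etale.mk U.ι ⟶ Groth.Agent.Sga4h.EtSpec.sp hW.fromSpec (Localization.Away s) :=
    MorphismProperty.Over.homMk j.isoOpensRange.inv j.isoOpensRange_inv_comp trivial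
  refine ⟨U, hxU, ?_⟩
  intro _
  rw [hy]
  refine K349.HpullLift.Hpull_extClass_eq_zero U.ι hK y (K.X₂.obj.map r.op t') ?_
  rw [Groth.Agent.Sga4h.GmLift.app_map, ht']
  simp only [q]
  rw [← Groth.Agent.Etcore.PullCoh.res_comp, ← Groth.Agent.Etcore.PullCoh.res_comp]
  exact congrArg (fun k : Scheme.Etale.mk U.ι ⟶ EtCoh.top X => K.X₃.obj.map k.op
    (Groth.Agent.Etbase.GabSec.ev y)) (Groth.Agent.Etcore.PullCoh.toTop_ext _ _)

end Groth.Agent.S8531
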