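import Groth.Statements.S8539
import Groth.Agent.EtCd.K549.ShModel

set_option autoImplicit false
universe u
open CategoryTheory CategoryTheory.Limits AlgebraicGeometry Opposite
open EtCd

namespace Groth.Agent.S8539

theorem isSepClosed_of_ringEquiv {k k' : Type*} [Field k] [Field k'] [IsSepClosed k]
    (φ : k ≃+* k') : IsSepClosed k' := by
  refine IsSepClosed.of_exists_root _ fun p hp hirr hsep => ?_
  have h1 : (p.map φ.symm.toRingHom).degree ≠ 0 := by
    rw [Polynomial.degree_map_eq_of_injective φ.symm.injective]
    exact (Polynomial.degree_pos_of_irreducible hirr).ne'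
  obtain ⟨x, hx⟩ := IsSepClosed.exists_root (p.map φ.symm.toRingHom) h1 (hsep.map)
  refine ⟨φ x, ?_⟩
  have h2 := congrArg φ hx.eq_zero
  rw [map_zero, Polynomial.eval_map, ← RingEquiv.coe_toRingHom, Polynomial.hom_eval₂] at h2
  have h3 : φ.toRingHom.comp φ.symm.toRingHom = RingHom.id k' := by
    ext y; exact φ.apply_symm_apply y
  rw [← h2]
  change _ = Polynomial.eval₂ (φ.toRingHom.comp φ.symm.toRingHom) _ p
  rw [h3]
  rfl

theorem aux (W : Type u) [i1 : CommRing W] [i2 : HenselianLocalRing W]
    (hF : IsField W) (hs : IsSepClosed (IsLocalRing.ResidueField W)) :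
    ∃ (i : Field W), i.toCommRing = i1 ∧ @IsSepClosed W i := by
  let i : Field W := hF.toField
  have hi : i.toCommRing = i1 := rfl
  refine ⟨i, hi, ?_⟩
  have hbij : Function.Bijective (IsLocalRing.residue W) := by
    refine ⟨?_, IsLocalRing.residue_surjective⟩
    rw [RingHom.injective_iff_ker_eq_bot, IsLocalRing.ker_residue]
    exact IsLocalRing.isField_iff_maximalIdeal_eq.1 hF
  let e : W ≃+* IsLocalRing.ResidueField W := RingEquiv.ofBijective _ hbij
  exact isSepClosed_of_ringEquiv (k := IsLocalRing.ResidueField W) (k' := W) e.symm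

/-- Let X be a scheme of finite type over a field k, x a point of X and A a strict henselization of the
local ring of X at x. Then there are a separably closed field k', a scheme X' of finite type over k'
and a closed point x' of X' such that A is (isomorphic to) a strict henselization of the local ring
of X' at x': some local algebra structure over that local ring makes A a strict henselization of it. -/
theorem result (k : Type u) [Field k] {X : Scheme.{u}}
    (f : X ⟶ Spec (CommRingCat.of k)) [LocallyOfFiniteType f] [QuasiCompact f] (x : X)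
    (A : Type u) [CommRing A] [IsLocalRing A] [Algebra (X.presheaf.stalk x) A]
    [IsLocalHom (algebraMap (X.presheaf.stalk x) A)] [Hensel.IsStrictHenselization (X.presheaf.stalk x) A] :
    ∃ (k' : Type u) (_ : Field k') (_ : IsSepClosed k') (X' : Scheme.{u}) (f' : X' ⟶ Spec (CommRingCat.of k'))
      (_ : LocallyOfFiniteType f') (_ : QuasiCompact f') (x' : X') (_ : IsClosed ({x'} : Set X'))
      (_ : Algebra (X'.presheaf.stalk x') A) (_ : IsLocalHom (algebraMap (X'.presheaf.stalk x') A)),
      Hensel.IsStrictHenselization (X'.presheaf.stalk x') A := by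
  obtain ⟨W, i1, i2, X', f', x', h1, h2, h3, h4, h5, h6, h7, h8, h9, h10, h11⟩ :=
    K549.ShModel.main_sch k f x A
  have hF : IsField W := by
    rw [h3]
    exact (Ideal.eq_bot_or_top _).resolve_right (f x).isPrime.ne_top
  obtain ⟨i, rfl, hi⟩ := aux W hF h4
  exact ⟨W, i, hi, X', f', h5, h6, x', h7, h9, h10, h11⟩

end Groth.Agent.S8539
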