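import Groth.Statements.S8540
import Groth.Agent.S0134
import Groth.Agent.S0142
import Groth.Agent.EtpbcA.NoethSub
import Groth.Agent.EtpbcA.StrataGlob

set_option autoImplicit false
universe u
open CategoryTheory CategoryTheory.Limits AlgebraicGeometry Opposite
open EtPBC

namespace Groth.Agent.S8540

/-- Let X be a Noetherian scheme and F a torsion abelian sheaf on the small etale site of X. Then F is
constructible if and only if F is a Noetherian object of the category of abelian etale sheaves on X
(ascending chain condition on subsheaves). -/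
theorem result (X : Scheme.{u}) [IsNoetherian X] (F : EtCoh.Ab X)
    (hF : EtCoh.IsTorsion F) :
    EtPBC.IsConstructible F ↔ IsNoetherianObject F := by
  constructor
  · intro h
    rw [isNoetherianObject_iff_monotone_chain_condition]
    intro f
    obtain ⟨N, hN⟩ := Groth.Agent.S0142.result X F h f
    exact ⟨N, fun m hm => (hN m hm).symm⟩
  · intro h
    obtain ⟨J, _, _, D, c, hcc, hD, ⟨e⟩⟩ := Groth.Agent.S0134.result X F hF
    obtain ⟨f, hf⟩ : ∃ f : ∀ j, D.obj j ⟶ F, ∀ j, f j = c.ι.app j ≫ e.hom :=
      ⟨_, fun _ => rfl⟩
    let S : J → Subobject F := fun j => imageSubobject (f j)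
    have hmono : ∀ {j l : J} (a : j ⟶ l), S j ≤ S l := by
      intro j l a
      have h1 : f j = D.map a ≫ f l := by
        rw [hf, hf, ← Category.assoc, c.w a]
      change imageSubobject (f j) ≤ imageSubobject (f l)
      rw [h1]
      exact imageSubobject_comp_le _ _
    have hne : (Set.range S).Nonempty := ⟨_, ⟨IsFiltered.nonempty.some, rfl⟩⟩
    obtain ⟨_, ⟨j, rfl⟩, hmax⟩ :=
      WellFounded.has_min (wellFounded_gt (α := Subobject F)) _ hne
    have hle : ∀ k, S k ≤ S j := by
      intro k
      have h1 : S j ≤ S (IsFiltered.max j k) := hmono (IsFiltered.leftToMax j k)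
      have h2 : S k ≤ S (IsFiltered.max j k) := hmono (IsFiltered.rightToMax j k)
      have h3 : S (IsFiltered.max j k) = S j := by
        by_contra hne
        exact hmax _ ⟨_, rfl⟩ (lt_of_le_of_ne h1 (Ne.symm hne))
      exact h2.trans h3.le
    have hepi : Epi (f j) := by
      constructor
      intro T a b hab
      rw [← cancel_epi e.hom]
      refine hcc.hom_ext fun k => ?_
      rw [← Category.assoc, ← Category.assoc, ← hf]
      have h1 : (S j).arrow ≫ a = (S j).arrow ≫ b := by
        rw [← cancel_epi (factorThruImageSubobject (f j))]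
        rw [← Category.assoc, ← Category.assoc]
        change (factorThruImageSubobject (f j) ≫ (imageSubobject (f j)).arrow) ≫ a =
          (factorThruImageSubobject (f j) ≫ (imageSubobject (f j)).arrow) ≫ b
        rw [imageSubobject_arrow_comp]
        exact hab
      have h2 : f k = factorThruImageSubobject (f k) ≫ Subobject.ofLE _ _ (hle k) ≫
          (S j).arrow := by
        rw [Subobject.ofLE_arrow]
        exact (imageSubobject_arrow_comp (f k)).symm
      rw [h2]
      simp only [Category.assoc, h1]
    have hK : EtPBC.IsConstructible (kernel (f j)) :=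
      Groth.Agent.EtpbcA.NoethSub.isConstructible_of_mono (kernel.ι _) (hD j)
    exact Groth.Agent.EtpbcA.StrataGlob.isConstructible_of_iso
      (asIso (Abelian.factorThruCoimage (f j)))
      (Groth.Agent.EtpbcA.ConsExact.isConstructible_cokernel (kernel.ι _) hK (hD j))

end Groth.Agent.S8540
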