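import Groth.Statements.S8542
import Groth.Agent.Etbc.H235.DescSec

set_option autoImplicit false
universe u
open CategoryTheory CategoryTheory.Limits AlgebraicGeometry Opposite
open EtBC

namespace Groth.Agent.S8542

/-- Let h : Y → X be a morphism of quasi-compact quasi-separated schemes such that for every sheaf of
sets F on the small etale site of X the pullback map Γ(X, F) → Γ(Y, h^*F) is injective. Let u : F →
G be a monomorphism of sheaves of sets on X and ξ ∈ Γ(Y, h^*F) a section whose image in Γ(Y, h^*G)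
lies in the image of Γ(X, G). Then ξ lies in the image of Γ(X, F). -/
theorem result {X Y : Scheme.{u}} [CompactSpace X] [QuasiSeparatedSpace X]
    [CompactSpace Y] [QuasiSeparatedSpace Y] (h : Y ⟶ X)
    (hinj : ∀ F : EtDesc.Sh X, Function.Injective (EtDesc.secPull h F))
    {F G : EtDesc.Sh X} (u : F ⟶ G) [Mono u] (ξ : EtDesc.sect ((EtDesc.pullSh h).obj F) (EtCoh.top Y))
    (hξ : ((EtDesc.pullSh h).map u).hom.app (op (EtCoh.top Y)) ξ ∈ Set.range (EtDesc.secPull h G)) :
    ξ ∈ Set.range (EtDesc.secPull h F) := by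
  obtain ⟨Z, l, r, hlr, hreg⟩ := Groth.Agent.Etbc.H235.SecPull.exists_regular u
  obtain ⟨s, hs⟩ := hξ
  have e : l.hom.app (op (EtCoh.top X)) s = r.hom.app (op (EtCoh.top X)) s := by
    apply hinj Z
    rw [Groth.Agent.Etbc.H235.SecPull.secPull_naturality, Groth.Agent.Etbc.H235.SecPull.secPull_naturality, hs]
    have e1 : (EtDesc.pullSh h).map u ≫ (EtDesc.pullSh h).map l = (EtDesc.pullSh h).map u ≫ (EtDesc.pullSh h).map r := by
      rw [← Functor.map_comp, ← Functor.map_comp, hlr]
    exact congrArg (fun (b : (EtDesc.pullSh h).obj F ⟶ (EtDesc.pullSh h).obj Z) =>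
      b.hom.app (op (EtCoh.top Y)) ξ) e1
  obtain ⟨s₀, rfl⟩ := hreg (EtCoh.top X) s e
  refine ⟨s₀, ?_⟩
  apply Groth.Agent.Etbc.H235.SecPull.app_injective_pullSh h u
    (Groth.Agent.Etbc.H235.SecPull.app_injective_of_mono u) (EtCoh.top Y)
  rw [← Groth.Agent.Etbc.H235.SecPull.secPull_naturality, hs]

end Groth.Agent.S8542
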