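import Groth.Statements.S8545
import Groth.Agent.EtCd.K549.SHDim
import Groth.Agent.Sga2lef.H98.Rtd

set_option autoImplicit false
universe u
open CategoryTheory CategoryTheory.Limits AlgebraicGeometry Opposite
open EtCd

namespace Groth.Agent.S8545

open Groth.Agent.CycB.RelDim in
/-- Let f : X → Y be a morphism of schemes of finite type over a field k, x a point of X with image y,
y₀ a specialization of y in Y, R a strict henselization of the local ring of Y at y₀ with Y' = Spec
R → Y the strict localization and X' = X ×_Y Y' with projection f' : X' → Y', and let x' be a point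
of X' lying over x, with image y' in Y'. Writing δ(x') = dim closure(y') + trdeg(κ(x')/κ(y'))
(closure in Y' = Spec R, so dim closure(y') = dim R/p_{y'}) and d for the dimension of the closure
of a point in X or Y, one has δ(x') = d(x) - d(y₀); stated as δ(x') + d(y₀) = d(x). -/
theorem result (k : Type u) [Field k] {X Y : Scheme.{u}}
    (aX : X ⟶ Spec (CommRingCat.of k)) (aY : Y ⟶ Spec (CommRingCat.of k)) [LocallyOfFiniteType aX] [QuasiCompact aX]
    [LocallyOfFiniteType aY] [QuasiCompact aY] (f : X ⟶ Y) (w : f ≫ aY = aX) (x : X) (y₀ : Y) (hsp : f.base x ⤳ y₀)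
    (R : Type u) [CommRing R] [IsLocalRing R] [Algebra (Y.presheaf.stalk y₀) R]
    [IsLocalHom (algebraMap (Y.presheaf.stalk y₀) R)] [Hensel.IsStrictHenselization (Y.presheaf.stalk y₀) R]
    (x' : ↥(pullback f (Hens2.specOf Y y₀ R))) (hx' : (pullback.fst f (Hens2.specOf Y y₀ R)).base x' = x)
    (a b dx dy : ℕ)
    (ha : ringKrullDim (R ⧸ ((pullback.snd f (Hens2.specOf Y y₀ R)).base x').asIdeal) = a)
    (hb : letI := ((pullback.snd f (Hens2.specOf Y y₀ R)).residueFieldMap x').hom.toAlgebra;
      Algebra.trdeg ((Spec (CommRingCat.of R)).residueField ((pullback.snd f (Hens2.specOf Y y₀ R)).base x'))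
        ((pullback f (Hens2.specOf Y y₀ R)).residueField x') = b)
    (hdx : topologicalKrullDim ↥(closure ({x} : Set X)) = dx)
    (hdy : topologicalKrullDim ↥(closure ({y₀} : Set Y)) = dy) :
    a + b + dy = dx := by
  have hYN : IsLocallyNoetherian Y := LocallyOfFiniteType.isLocallyNoetherian aY
  have hF : IsField Γ(Spec (CommRingCat.of k), ⊤) :=
    (Scheme.ΓSpecIso (CommRingCat.of k)).commRingCatIsoToRingEquiv.toMulEquiv.isField
      (Field.toIsField k)
  obtain ⟨n, hn, hn'⟩ := exists_dim_closure aX (isAffineOpen_top _) hF x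
  obtain ⟨m, hm, hm'⟩ := exists_dim_closure aY (isAffineOpen_top _) hF y₀
  have hnd : n = dx := by rw [hn'] at hdx; exact_mod_cast hdx
  have hmd : m = dy := by rw [hm'] at hdy; exact_mod_cast hdy
  have h1 : rtd (pullback.fst f (Hens2.specOf Y y₀ R)) x' = 0 := by
    have h2 := Groth.Agent.Sga2lef.H98.Rtd.rtd_snd_le
      (IsPullback.of_hasPullback f (Hens2.specOf Y y₀ R)).flip x'
    rw [K549.SHDim.rtd_specOf_eq_zero] at h2
    exact le_antisymm h2 zero_le
  have h2 : rtd (pullback.snd f (Hens2.specOf Y y₀ R)) x' = b := hb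
  have h3 := K549.SHDim.rtd_specOf_comp k aY y₀ R _ a ha
  have e : pullback.snd f (Hens2.specOf Y y₀ R) ≫ Hens2.specOf Y y₀ R ≫ aY =
      pullback.fst f (Hens2.specOf Y y₀ R) ≫ aX := by
    rw [← w, ← pullback.condition_assoc]
  have h4 := rtd_comp (pullback.snd f (Hens2.specOf Y y₀ R)) (Hens2.specOf Y y₀ R ≫ aY) x'
  have h5 := rtd_comp (pullback.fst f (Hens2.specOf Y y₀ R)) aX x'
  rw [e, h5, h1, add_zero, h3, h2] at h4
  have h6 : rtd aX ((pullback.fst f (Hens2.specOf Y y₀ R)) x') = n := by
    have : (pullback.fst f (Hens2.specOf Y y₀ R)) x' = x := hx'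
    rw [this, hn]
  rw [h6, hm] at h4
  have h7 : n = a + m + b := by exact_mod_cast h4
  omega

end Groth.Agent.S8545
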