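import Groth.Statements.S8547
import Groth.Agent.Etbc.H235.DescSec

set_option autoImplicit false
universe u
open CategoryTheory CategoryTheory.Limits AlgebraicGeometry Opposite
open EtBC

namespace Groth.Agent.S8547

/-- Let h : Y → X and p : X̄ → X be morphisms of schemes with X, Y, X̄ quasi-compact and quasi-separated
(p need not be surjective), and Ȳ = Y ×_X X̄ with projections h̄ : Ȳ → X̄ and p_Y : Ȳ → Y. If the
pullback map on global sections Γ(X, F) → Γ(Y, h^*F) is injective for every sheaf of sets F on X and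
the base change morphism h^* p_* F̄ → p_{Y*} h̄^* F̄ is a monomorphism for every sheaf of sets F̄ on
X̄, then Γ(X̄, F̄) → Γ(Ȳ, h̄^*F̄) is injective for every F̄. If the maps for h are bijective and the
base change morphisms are isomorphisms, then the maps for h̄ are bijective. -/
theorem result {X Y Xb Yb : Scheme.{u}} [CompactSpace X]
    [QuasiSeparatedSpace X] [CompactSpace Y] [QuasiSeparatedSpace Y] [CompactSpace Xb] [QuasiSeparatedSpace Xb]
    (h : Y ⟶ X) (p : Xb ⟶ X) (hb : Yb ⟶ Xb) (pY : Yb ⟶ Y) (sq : IsPullback hb pY p h) :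
    ((∀ F : EtDesc.Sh X, Function.Injective (EtDesc.secPull h F)) →
      (∀ Fb : EtDesc.Sh Xb, Mono (EtBC.baseChange0Sh p h pY hb sq.w Fb)) →
      ∀ Fb : EtDesc.Sh Xb, Function.Injective (EtDesc.secPull hb Fb)) ∧
    ((∀ F : EtDesc.Sh X, Function.Bijective (EtDesc.secPull h F)) →
      (∀ Fb : EtDesc.Sh Xb, IsIso (EtBC.baseChange0Sh p h pY hb sq.w Fb)) →
      ∀ Fb : EtDesc.Sh Xb, Function.Bijective (EtDesc.secPull hb Fb)) := by
  have hnat := fun Fb s => Groth.Agent.Etbc.H235.BCSec.baseChange0Sh_secPull p h pY hb sq.w Fb s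
  have hpX : ∀ Fb : EtDesc.Sh Xb, Function.Bijective (Fb.obj.map (EtCore.bcTopIso p).hom.op) := fun Fb =>
    ((CategoryTheory.isIso_iff_bijective _).1 inferInstance)
  have hpY : ∀ G : EtDesc.Sh Yb, Function.Bijective (G.obj.map (EtCore.bcTopIso pY).hom.op) := fun G =>
    ((CategoryTheory.isIso_iff_bijective _).1 inferInstance)
  have inj : (∀ F : EtDesc.Sh X, Function.Injective (EtDesc.secPull h F)) →
      (∀ Fb : EtDesc.Sh Xb, Mono (EtBC.baseChange0Sh p h pY hb sq.w Fb)) →
      ∀ Fb : EtDesc.Sh Xb, Function.Injective (EtDesc.secPull hb Fb) := by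
    intro hinj hm Fb s t hst
    have := hm Fb
    apply (hpX Fb).1
    apply hinj ((EtDesc.pushSh p).obj Fb)
    apply Groth.Agent.Etbc.H235.SecPull.app_injective_of_mono (EtBC.baseChange0Sh p h pY hb sq.w Fb) (EtCoh.top Y)
    exact (hnat Fb s).trans ((congrArg _ hst).trans (hnat Fb t).symm)
  refine ⟨inj, fun hbij hiso Fb => ⟨inj (fun F => (hbij F).1) (fun Fb => by
    have := hiso Fb
    infer_instance) Fb, fun t => ?_⟩⟩
  have := hiso Fb
  have hsurj : Function.Surjective ((EtBC.baseChange0Sh p h pY hb sq.w Fb).hom.app (op (EtCoh.top Y))) := by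
    have h1 : IsIso ((EtBC.baseChange0Sh p h pY hb sq.w Fb).hom.app (op (EtCoh.top Y))) := by
      have : IsIso (EtBC.baseChange0Sh p h pY hb sq.w Fb).hom :=
        inferInstanceAs (IsIso ((sheafToPresheaf _ _).map (EtBC.baseChange0Sh p h pY hb sq.w Fb)))
      infer_instance
    exact ((CategoryTheory.isIso_iff_bijective _).1 h1).2
  obtain ⟨t₁, ht₁⟩ := hsurj (((EtDesc.pullSh hb).obj Fb).obj.map (EtCore.bcTopIso pY).hom.op t)
  obtain ⟨s₁, rfl⟩ := (hbij _).2 t₁
  obtain ⟨s, rfl⟩ := (hpX Fb).2 s₁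
  exact ⟨s, (hpY _).1 ((hnat Fb s).symm.trans ht₁)⟩

end Groth.Agent.S8547
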