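import Groth.Statements.S8551
import Groth.Agent.EtBC.K86.Via
import Groth.Agent.Etcore.HpullEq
import Groth.Agent.Etcore.HpullViaEq

set_option autoImplicit false
universe u
open CategoryTheory CategoryTheory.Limits AlgebraicGeometry
open EtBC

namespace Groth.Agent.S8551

open Groth.Agent.Etcore.HpullCalc

/-- Let h : Y → X and p : X̄ → X be morphisms of schemes with X, Y, X̄ quasi-compact quasi-separated and
p surjective, Ȳ = Y ×_X X̄ with projections h̄ : Ȳ → X̄ and p_Y : Ȳ → Y, L a set of primes and n a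
natural number. Assume that pullback along h is bijective on the etale cohomology of every abelian
L-torsion sheaf on X in degrees ≤ n and injective in degree n + 1, and that for every abelian
L-torsion sheaf F̄ on X̄ the degree-i base change morphism h⁻¹ R^i p_* F̄ → R^i p_{Y*} h̄⁻¹ F̄ is an
isomorphism for i ≤ n and a monomorphism for i = n + 1. Let F be an abelian L-torsion sheaf on X and
ξ ∈ H^{n+1}(Y, h⁻¹F). Then ξ lies in the image of H^{n+1}(X, F) if and only if its pullback to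
H^{n+1}(Ȳ, (p_Y ≫ h)⁻¹F) lies in the image of H^{n+1}(X̄, p⁻¹F) under pullback along h̄. -/
theorem result {X Y Xb Yb : Scheme.{u}} [CompactSpace X]
    [QuasiSeparatedSpace X] [CompactSpace Y] [QuasiSeparatedSpace Y] [CompactSpace Xb] [QuasiSeparatedSpace Xb]
    (h : Y ⟶ X) (p : Xb ⟶ X) (hb : Yb ⟶ Xb) (pY : Yb ⟶ Y) (sq : IsPullback hb pY p h) (hp : Function.Surjective p.base)
    (L : Set ℕ) (n : ℕ) (hh : EtAcyc.CompN h L n)
    [PreservesFiniteLimits (EtCoh.pull h)] [PreservesFiniteLimits (EtCoh.pull hb)] [PreservesFiniteLimits (EtCoh.pull pY)]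
    (hbc : ∀ Fb : EtCoh.Ab Xb, EtAcyc.IsLTorsion L Fb →
      (∀ i : ℕ, i ≤ n → IsIso (EtBC.bcQ p h pY hb sq.w i Fb)) ∧ Mono (EtBC.bcQ p h pY hb sq.w (n + 1) Fb))
    (F : EtCoh.Ab X) (hF : EtAcyc.IsLTorsion L F) (ξ : EtCoh.H Y ((EtCoh.pull h).obj F) (n + 1)) :
    ξ ∈ Set.range (EtCore.Hpull h F (n + 1)) ↔
      EtCore.HpullVia pY h (pY ≫ h) rfl F (n + 1) ξ ∈
        Set.range (EtCore.HpullVia hb p (pY ≫ h) sq.w F (n + 1)) := by
  have h1 : QuasiCompact p := inferInstance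
  have h2 : QuasiSeparated p := inferInstance
  have h3 : Surjective p := ⟨hp⟩
  have key := K86.Comp.mem_range_iff (r' := pY) sq.w hh (fun E hE i hi => (hbc E hE).1 i hi) F hF ξ
  constructor
  · rintro ⟨x, hx⟩
    obtain ⟨η, hη⟩ := key.1 ⟨x, (Hpull_apply_eq_hp h F (n + 1) x).symm.trans hx⟩
    exact ⟨η, (HpullVia_apply_eq_hpVia hb p (pY ≫ h) sq.w F (n + 1) η).trans
      (hη.trans (HpullVia_apply_eq_hpVia pY h (pY ≫ h) rfl F (n + 1) ξ).symm)⟩
  · rintro ⟨η, hη⟩
    obtain ⟨x, hx⟩ := key.2 ⟨η, (HpullVia_apply_eq_hpVia hb p (pY ≫ h) sq.w F (n + 1) η).symm.trans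
      (hη.trans (HpullVia_apply_eq_hpVia pY h (pY ≫ h) rfl F (n + 1) ξ))⟩
    exact ⟨x, (Hpull_apply_eq_hp h F (n + 1) x).trans hx⟩

end Groth.Agent.S8551
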