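import Groth.Statements.S8553
import Groth.Agent.SGA4h.K286.SepDesc

set_option autoImplicit false
universe u
open CategoryTheory CategoryTheory.Limits AlgebraicGeometry Opposite
open EtAcyc

namespace Groth.Agent.S8553

/-- Let A be a henselian local ring which is excellent and normal (an integrally closed domain), with
fraction field K and residue characteristic p; let B = A{t} be a henselization of the local ring of
A[t] at the ideal generated by the maximal ideal of A and t, φ : A → B the structure map, Z = Spec B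
×_{Spec A} Spec K the generic fibre, Ω a separably closed field over K, Z̄ = Spec B ×_{Spec A} Spec
Ω the geometric generic fibre and b : Z̄ → Z the induced morphism. Let Z' → Z be a finite etale
cover, principal under a finite group G whose order is prime to p. Then Z' is induced by a Galois
extension of K; precisely, the pullback of Z' along b is a trivial cover of Z̄: it is Z̄-isomorphic
to a finite disjoint union of copies of Z̄. -/
theorem result (A : Type u) [CommRing A] [IsDomain A]
    [IsIntegrallyClosed A] [HenselianLocalRing A] (hA : EGA4.IsExcellent A)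
    (P : Ideal (Polynomial A)) (hP : P = (IsLocalRing.maximalIdeal A).map Polynomial.C ⊔ Ideal.span {Polynomial.X})
    [P.IsPrime] (B : Type u) [CommRing B] [IsLocalRing B] [Algebra (Localization.AtPrime P) B]
    [IsLocalHom (algebraMap (Localization.AtPrime P) B)] [Hensel.IsHenselization (Localization.AtPrime P) B]
    (φ : A →+* B) (hφ : φ = (algebraMap (Localization.AtPrime P) B).comp
      ((algebraMap (Polynomial A) (Localization.AtPrime P)).comp Polynomial.C))
    (K Ω : Type u) [Field K] [Algebra A K] [IsFractionRing A K] [Field Ω] [IsSepClosed Ω] [Algebra K Ω]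
    (G : Type u) [Group G] [Finite G] (hG : ∀ ℓ : ℕ, ℓ.Prime → ℓ ∣ Nat.card G → (ℓ : IsLocalRing.ResidueField A) ≠ 0)
    (Z' : FEt.Cat (pullback (Spec.map (CommRingCat.ofHom φ)) (Spec.map (CommRingCat.ofHom (algebraMap A K)))))
    (ρ : G →* Aut Z') (hZ' : SGA1t.IsPrincipal G Z' ρ)
    (Zb : Scheme.{u}) (b₁ : Zb ⟶ Spec (CommRingCat.of B)) (b₂ : Zb ⟶ Spec (CommRingCat.of Ω))
    (hZb : IsPullback b₁ b₂ (Spec.map (CommRingCat.ofHom φ))
      (Spec.map (CommRingCat.ofHom (algebraMap K Ω)) ≫ Spec.map (CommRingCat.ofHom (algebraMap A K))))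
    (b : Zb ⟶ pullback (Spec.map (CommRingCat.ofHom φ)) (Spec.map (CommRingCat.ofHom (algebraMap A K))))
    (hb₁ : b ≫ pullback.fst (Spec.map (CommRingCat.ofHom φ)) (Spec.map (CommRingCat.ofHom (algebraMap A K))) = b₁)
    (hb₂ : b ≫ pullback.snd (Spec.map (CommRingCat.ofHom φ)) (Spec.map (CommRingCat.ofHom (algebraMap A K))) =
      b₂ ≫ Spec.map (CommRingCat.ofHom (algebraMap K Ω))) :
    ∃ (n : ℕ) (e : ((FEt.restrict b).obj Z').left ≅ ∐ fun _ : Fin n => Zb),
      e.hom ≫ Sigma.desc (fun _ => 𝟙 Zb) = ((FEt.restrict b).obj Z').hom := by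
  subst hφ
  have hρ : K286.TransAct.TransAct ρ := by
    intro Ω' _ _ s t hst
    obtain ⟨g, hg, -⟩ := hZ'.2 Ω' (s ≫ Z'.hom) ⟨s, rfl⟩ ⟨t, hst.symm⟩
    exact ⟨g, congrArg Subtype.val hg⟩
  have hnk : ((Nat.card G : ℕ) : IsLocalRing.ResidueField A) ≠ 0 :=
    K286.natCast_ne_zero Nat.card_pos.ne' hG
  have hn : IsUnit ((Nat.card G : ℕ) : A) := by
    by_contra h
    apply hnk
    rw [← map_natCast (IsLocalRing.residue A), IsLocalRing.residue_eq_zero_iff]
    exact h
  apply K286.FinSplit.fin_of_isSplit
  exact K286.SepDesc.isSplit P hP B K Ω _ _ (IsPullback.of_hasPullback _ _) Z' ρ hρ hn b b₂ hb₂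

end Groth.Agent.S8553
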