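import Groth.Statements.S8554
import Groth.Agent.NonAbH1.K550.EtCov
import Groth.Agent.NonAbH1.K550.Gode
import Groth.Agent.NonAbH1.K550.Bound

set_option autoImplicit false
universe u
open CategoryTheory CategoryTheory.Limits AlgebraicGeometry Opposite
open NonAbH1

namespace Groth.Agent.S8554

open K550.Gode

/-- the geometric point at `x` given by a separable closure of the residue field -/
private noncomputable def geo {X : Scheme.{u}} (x : X) :
    Spec (CommRingCat.of (SeparableClosure (X.residueField x))) ⟶ X :=
  (Scheme.SpecToEquivOfField (SeparableClosure (X.residueField x)) _).2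
    ⟨x, CommRingCat.ofHom (algebraMap (X.residueField x) _)⟩

private lemma geo_default {X : Scheme.{u}} (x : X) : geo x default = x := by
  simp [geo, Scheme.SpecToEquivOfField]

private noncomputable def pt {X : Scheme.{u}} (x : X) : GrothendieckTopology.Point.{u} X.smallEtaleTopology :=
  Scheme.pointSmallEtale (geo x)

/-- Every sheaf of groups F on the small etale site of a scheme X embeds into a sheaf of groups G with
vanishing first non-abelian cohomology on every etale X-scheme: there are G and a morphism u : F ⟶
G, injective on sections over every object of the site, such that for every etale X-scheme U every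
torsor under the restriction of G to the induced site over U is trivial, i.e. H¹(U, G) is reduced to
its base point. (The published statement adds that the first higher direct images of G along any
morphism of schemes then vanish as pointed sheaves; that clause follows from this one and is not
stated here.) -/
theorem result {X : Scheme.{u}}
    (F : Sheaf X.smallEtaleTopology GrpCat.{u + 1}) :
    ∃ (G : Sheaf X.smallEtaleTopology GrpCat.{u + 1}) (φ : F ⟶ G),
      (∀ U : X.Etaleᵒᵖ, Function.Injective (φ.hom.app U)) ∧
      ∀ (U : X.Etale) (P : NonAbH1.Torsor (G.over U)), P.IsTrivial := by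
  let Φ : X → GrothendieckTopology.Point.{u} X.smallEtaleTopology := pt
  let A : X → GrpCat.{u + 1} := fun x => stalkGrp (Φ x) F.obj
  let φ : F ⟶ skySheaf Φ A :=
    ⟨{ app := fun U => GrpCat.ofHom
        { toFun := fun s x v => germ (Φ x) F.obj v s
          map_one' := by
            funext x v
            exact map_one _
          map_mul' := fun s t => by
            funext x v
            exact map_mul _ _ _ }
       naturality := fun U V f => by
        ext s
        funext x v
        exact germ_map (Φ x) F.obj f.unop v s }⟩
  refine ⟨skySheaf Φ A, φ, fun U s t h => ?_, fun U P => isTrivial_skySheaf P⟩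
  let S : Sieve U.unop :=
    { arrows := fun V f => F.obj.map f.op s = F.obj.map f.op t
      downward_closed := fun {V W} f hf g => by
        rw [op_comp, Functor.map_comp_apply, Functor.map_comp_apply, hf] }
  have hS : S ∈ X.smallEtaleTopology U.unop := by
    rw [K550.EtCov.mem_iff]
    intro y
    obtain ⟨y', hy'⟩ := Scheme.pointSmallEtaleFiberObjToPreimage_surjective
      (geo (U.unop.hom.base y)) (geo_default _) U.unop ⟨y, rfl⟩
    obtain ⟨W, f, w, hw, hf⟩ := germ_eq (Φ (U.unop.hom.base y)) F.obj y' (congrFun (congrFun h _) y')
    refine ⟨W, f, w.left (default : Spec (CommRingCat.of (SeparableClosure (X.residueField _)))), hf, ?_⟩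
    have h1 := congrArg Subtype.val hy'
    rw [← hw] at h1
    exact h1
  exact K550.Bound.sec_ext_grp.{u + 1, u, u + 1} (G := F) hS fun V f hf => hf

end Groth.Agent.S8554
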