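import Groth.Statements.S8561
import Groth.Agent.EtPBC.K349.Filtration

set_option autoImplicit false
universe u
open CategoryTheory CategoryTheory.Limits AlgebraicGeometry Opposite
open EtPBC

namespace Groth.Agent.S8561

/-- Let X be a quasi-compact and quasi-separated scheme and F a constructible abelian sheaf on the small
etale site of X (every affine open has a finite partition into constructible locally closed strata
along which F is finite locally constant). Then F has a finite filtration whose successive quotients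
are extensions by zero of finite locally constant sheaves on constructible locally closed
subschemes: there are abelian sheaves 0 = E₀, E₁, …, E_n with E_n ≅ F and short exact sequences 0 →
E_k → E_{k+1} → j_!(c_* G) → 0, where j : U ⟶ X is an open immersion, c : W ⟶ U a closed immersion
with the image of c ≫ j constructible in X, and G a finite locally constant abelian sheaf on W. (The
refinement with irreducible strata for X Noetherian is not stated.) -/
theorem result {X : Scheme.{u}} [CompactSpace X]
    [QuasiSeparatedSpace X] (F : EtCoh.Ab X) (hF : EtPBC.IsConstructible F) :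
    ∃ (n : ℕ) (E : Fin (n + 1) → EtCoh.Ab X) (ι : ∀ k : Fin n, E k.castSucc ⟶ E k.succ),
      IsZero (E 0) ∧ Nonempty (E (Fin.last n) ≅ F) ∧
      ∀ k : Fin n, ∃ (U W : Scheme.{u}) (j : U ⟶ X) (_ : IsOpenImmersion j) (c : W ⟶ U)
        (_ : IsClosedImmersion c) (G : EtCoh.Ab W)
        (π : E k.succ ⟶ (EtShriek.extZero j).obj ((EtCoh.push c).obj G)) (hz : ι k ≫ π = 0),
        Topology.IsConstructible (Set.range (c ≫ j)) ∧ EtCoh.IsFiniteLocallyConstant G ∧
        (ShortComplex.mk (ι k) π hz).ShortExact := by
  obtain ⟨m, T, g, himm, hcon, hdisj, hcov, hflc⟩ :=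
    (Groth.Agent.EtpbcA.StrataGlob.isConstructible_iff_univ F).1 hF
  have hcon' : ∀ i, Topology.IsConstructible (Set.range (g i)) := fun i => by
    have h := Topology.IsConstructible.preimage_of_isOpenEmbedding
      (Homeomorph.Set.univ X).symm.isOpenEmbedding (hcon i)
    exact h
  obtain ⟨n, U, h0, hn, ho, hmono, hsep⟩ :=
    K349.OpenChain.exists_chain_constructible (fun i => Set.range (g i)) hcon'
  let O : ℕ → X.Opens := fun k => ⟨U k, (ho k).1⟩
  have hO : ∀ k, O k ≤ O (k + 1) := hmono
  -- the strata of the chain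
  have hstr : ∀ k, ∃ (T' : Scheme.{u}) (g' : T' ⟶ X), IsImmersion g' ∧
      Set.range g' = (O (k + 1) : Set X) \ O k ∧
      EtCoh.IsFiniteLocallyConstant ((EtCoh.pull g').obj F) := by
    intro k
    have hlc : IsLocallyClosed (U (k + 1) \ U k) :=
      (ho (k + 1)).1.isLocallyClosed.inter (ho k).1.isClosed_compl.isLocallyClosed
    by_cases hne : (U (k + 1) \ U k).Nonempty
    · obtain ⟨x, hx⟩ := hne
      obtain ⟨i, hi⟩ := Set.mem_iUnion.1 (hcov.symm ▸ Set.mem_univ x)
      have := himm i
      obtain ⟨T', h, hh, hhg, hr⟩ := Groth.Agent.EtpbcA.Strata.exists_sub_immersion (g i) _ hlc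
        (hsep k i ⟨x, hx, hi⟩)
      exact ⟨T', h ≫ g i, hhg, hr, Groth.Agent.EtpbcA.Strata.isFLC_comp (g i) h F (hflc i)⟩
    · obtain ⟨T', g', hg', hr⟩ := Groth.Agent.EtpbcA.Strata.exists_immersion _ hlc
      refine ⟨T', g', hg', hr, ?_⟩
      rw [Groth.Agent.EtpbcA.ConsFLC.isFLC_iff]
      intro x
      exact absurd ⟨g' x, hr ▸ ⟨x, rfl⟩⟩ hne
  choose T' g' hg' hr' hflc' using hstr
  choose ι c hc G π hz hcg hG hses using fun k =>
    haveI := hg' k
    K349.Filtration.exists_step F (O k) (O (k + 1)) (hO k) (g' k) (hr' k) (hflc' k)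
  refine ⟨n, fun k => K349.Filtration.jj (O k).ι F, fun k => ι k, ?_, ?_, ?_⟩
  · have : IsEmpty ((O 0 : X.Opens) : Scheme.{u}) := ⟨fun x => by
      have : x.1 ∈ U 0 := x.2
      rw [h0] at this
      exact this⟩
    exact K349.Filtration.isZero_jj (O 0).ι F
  · have h1 : O n = ⊤ := TopologicalSpace.Opens.ext (hn n le_rfl)
    have : IsIso (O n).ι := by
      rw [h1]
      exact inferInstanceAs (IsIso X.topIso.hom)
    exact K349.Filtration.nonempty_jj_iso (O n).ι F
  · intro k
    refine ⟨_, _, (O (k + 1)).ι, inferInstance, c k, hc k, G k, π k, hz k, ?_, hG k, hses k⟩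
    rw [hcg, hr']
    exact ((ho (k + 1)).2.isConstructible (ho (k + 1)).1).sdiff
      ((ho k).2.isConstructible (ho k).1)

end Groth.Agent.S8561
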