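import Groth.Statements.S8562
import Groth.Agent.NonAbH1.K550.EtCov

set_option autoImplicit false
universe u
open CategoryTheory CategoryTheory.Limits AlgebraicGeometry Opposite
open NonAbH1

namespace Groth.Agent.S8562

/-- Exactness of the sequence 0 → H¹(Y, f_*F) → H¹(X, F) → H⁰(Y, R¹f_*F) at its middle term, in terms of
torsors: let f : X ⟶ Y be a morphism of schemes, F a sheaf of groups on the small etale site of X,
f_*F its direct image on Y (sections over an etale Y-scheme V are the sections of F over X ×_Y V),
and Q an F-torsor. Then Q is the image of a class in H¹(Y, f_*F), in the sense that there are an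
f_*F-torsor P on Y and a morphism of sheaves of sets from P to the direct image of the sheaf
underlying Q which is equivariant for the actions of f_*F, if and only if the class of Q is locally
trivial over Y: there is a jointly surjective family of etale Y-schemes Y_i such that Q has a
section over every X ×_Y Y_i. -/
theorem result {X Y : Scheme.{u}} (f : X ⟶ Y)
    [EtCoh.BCCont f] (F : Sheaf X.smallEtaleTopology GrpCat.{u + 1}) (Q : NonAbH1.Torsor F) :
    (∃ (P : NonAbH1.Torsor (((EtCoh.bc f).sheafPushforwardContinuous GrpCat.{u + 1}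
        Y.smallEtaleTopology X.smallEtaleTopology).obj F))
      (φ : P.P ⟶ ((EtCoh.bc f).sheafPushforwardContinuous (Type (u + 1))
        Y.smallEtaleTopology X.smallEtaleTopology).obj Q.P),
      ∀ (V : Y.Etaleᵒᵖ) (g : F.obj.obj (op ((EtCoh.bc f).obj V.unop))) (s : P.P.obj.obj V),
        φ.hom.app V (P.smul g s) = Q.smul g (φ.hom.app V s)) ↔
    ∃ (ι : Type u) (V : ι → Y.Etale), EtCoh.Covers V ∧
      ∀ i, Nonempty (Q.P.obj.obj (op ((EtCoh.bc f).obj (V i)))) := by
  constructor
  · rintro ⟨P, φ, -⟩
    obtain ⟨S, hS, h⟩ := P.isTorsor.2 (EtCoh.top Y)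
    rw [K550.EtCov.mem_iff] at hS
    choose V g v hg hv using hS
    refine ⟨Y, V, fun y => ⟨y, v y, ?_⟩, fun y => ?_⟩
    · have h1 : (g y).left ≫ 𝟙 Y = (V y).hom := MorphismProperty.Over.w (g y)
      have h2 : (V y).hom = (g y).left := h1.symm.trans (Category.comp_id _)
      exact (congrArg (fun k : (V y).left ⟶ Y => k.base (v y)) h2).trans (hv y)
    · obtain ⟨s⟩ := h (g y) (hg y)
      exact ⟨φ.hom.app _ s⟩
  · rintro ⟨ι, V, hV, h⟩
    let P : NonAbH1.Torsor (((EtCoh.bc f).sheafPushforwardContinuous GrpCat.{u + 1}
        Y.smallEtaleTopology X.smallEtaleTopology).obj F) :=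
      { P := ((EtCoh.bc f).sheafPushforwardContinuous (Type (u + 1))
          Y.smallEtaleTopology X.smallEtaleTopology).obj Q.P
        smul := fun {U} g s => Q.smul (U := op ((EtCoh.bc f).obj U.unop)) g s
        one_smul := fun {U} p => Q.one_smul (U := op ((EtCoh.bc f).obj U.unop)) p
        mul_smul := fun {U} g h p => Q.mul_smul (U := op ((EtCoh.bc f).obj U.unop)) g h p
        map_smul := fun {U V} a g p => Q.map_smul ((EtCoh.bc f).map a.unop).op g p
        isTorsor := by
          refine ⟨fun U p q => Q.isTorsor.1 (op ((EtCoh.bc f).obj U.unop)) p q, fun U => ?_⟩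
          let S : Sieve U :=
            { arrows := fun W _ => Nonempty (Q.P.obj.obj (op ((EtCoh.bc f).obj W)))
              downward_closed := fun {W W'} _ h b => h.map (Q.P.obj.map ((EtCoh.bc f).map b).op) }
          refine ⟨S, K550.EtCov.mem_of_covers hV fun W _ i b => ?_, fun W b hb => hb⟩
          exact (h i).map (Q.P.obj.map ((EtCoh.bc f).map b).op) }
    exact ⟨P, 𝟙 _, fun V g s => rfl⟩

end Groth.Agent.S8562
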