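import Groth.Statements.S8564
import Groth.Agent.Sga4A.TotAcyc

set_option autoImplicit false
open CategoryTheory CategoryTheory.Limits
universe u
open CohCx

namespace Groth.Agent.S8564

open Groth.Agent.Sga4A.TotAcyc Opposite

section

variable {A : Type*} [Category A] [Abelian A] {T : Type*} [HasProductsOfShape T A]

omit [Abelian A] in
lemma pi_map_comp {X Y : T → A} (f : ∀ t, X t ⟶ Y t) {W : A} (k : W ⟶ ∏ᶜ X) (t : T) :
    (k ≫ Limits.Pi.map f) ≫ Limits.Pi.π Y t = (k ≫ Limits.Pi.π X t) ≫ f t := by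
  simp

lemma prod_shortExact {X Y Z : T → A} (f : ∀ t, X t ⟶ Y t) (g : ∀ t, Y t ⟶ Z t)
    (h : ∀ t, f t ≫ g t = 0) (hS : ∀ t, (ShortComplex.mk (f t) (g t) (h t)).ShortExact)
    (hg : Epi (Limits.Pi.map g)) (hfg : Limits.Pi.map f ≫ Limits.Pi.map g = 0) :
    (ShortComplex.mk (Limits.Pi.map f) (Limits.Pi.map g) hfg).ShortExact := by
  have hm : ∀ t, Mono (f t) := fun t => (hS t).mono_f
  have hm' : Mono (Limits.Pi.map f) := by
    refine ⟨fun {W} a b h => ?_⟩
    apply Limits.Pi.hom_ext
    intro t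
    rw [← cancel_mono (f t), ← pi_map_comp f a t, ← pi_map_comp f b t, h]
  refine { exact := ?_ }
  refine ShortComplex.exact_of_f_is_kernel _ (KernelFork.IsLimit.ofι' _ _
    (fun {W} (k : W ⟶ ∏ᶜ Y) (hk : k ≫ Limits.Pi.map g = 0) => ?_))
  have hk' : ∀ t, (k ≫ Limits.Pi.π Y t) ≫ g t = 0 := fun t => by
    rw [← pi_map_comp g k t, hk, zero_comp]
  have h1 : ∀ t, (hS t).fIsKernel.lift (KernelFork.ofι _ (hk' t)) ≫ f t =
      k ≫ Limits.Pi.π _ t := fun t =>
    (hS t).fIsKernel.fac (KernelFork.ofι _ (hk' t)) WalkingParallelPair.zero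
  refine ⟨Limits.Pi.lift (fun t => (hS t).fIsKernel.lift (KernelFork.ofι _ (hk' t))), ?_⟩
  apply Limits.Pi.hom_ext
  intro t
  refine (pi_map_comp f _ t).trans ?_
  rw [Limits.Pi.lift_π]
  exact h1 t

/-- The product short complex. -/
noncomputable def prodSC (S : T → ShortComplex A) : ShortComplex A :=
  ShortComplex.mk (Limits.Pi.map (fun t => (S t).f)) (Limits.Pi.map (fun t => (S t).g)) (by
    apply Limits.Pi.hom_ext
    intro t
    simp)

lemma prodSC_shortExact (S : T → ShortComplex A) (hS : ∀ t, (S t).ShortExact)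
    (hg : Epi (Limits.Pi.map (fun t => (S t).g))) : (prodSC S).ShortExact :=
  prod_shortExact (fun t => (S t).f) (fun t => (S t).g) (fun t => (S t).zero) hS hg _

end

section

variable {C : Type u} [SmallCategory C] {J : GrothendieckTopology C}

lemma surjective_app_of_lift {A B : Sheaf J AddCommGrpCat.{u}} (g : A ⟶ B)
    (hl : ∀ (K' : Sheaf J (Type u)) (q : (Z J).obj K' ⟶ B), ∃ t, t ≫ g = q) (U : C) :
    Function.Surjective (g.hom.app (op U)) := by
  intro q
  let h : Sheaf J (Type u) := (presheafToSheaf J (Type u)).obj (yoneda.obj U)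
  let e (F : Sheaf J AddCommGrpCat.{u}) : ((Z J).obj h ⟶ F) ≃ F.obj.obj (op U) :=
    ((adjZ J).homEquiv h F).trans (((sheafificationAdjunction J (Type u)).homEquiv _ _).trans yonedaEquiv)
  have he : ∀ {F G : Sheaf J AddCommGrpCat.{u}} (t : (Z J).obj h ⟶ F) (g : F ⟶ G),
      e G (t ≫ g) = g.hom.app (op U) (e F t) := by
    intro F G t g
    simp only [e, Equiv.trans_apply, Adjunction.homEquiv_naturality_right]
    rfl
  obtain ⟨t, ht⟩ := hl h ((e _).symm q)
  refine ⟨e _ t, ?_⟩
  rw [← he, ht, Equiv.apply_symm_apply]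

lemma epi_of_lift {A B : Sheaf J AddCommGrpCat.{u}} (g : A ⟶ B)
    (hl : ∀ (K' : Sheaf J (Type u)) (q : (Z J).obj K' ⟶ B), ∃ t, t ≫ g = q) : Epi g := by
  have : Sheaf.IsLocallySurjective g :=
    Presheaf.isLocallySurjective_of_surjective _ _ (fun U => surjective_app_of_lift g hl U.unop)
  infer_instance

end

/-- Let (F_t) be a family of abelian sheaves on a small site, indexed by a small set, such that each F_t
is totally acyclic, i.e. H^p(K, F_t) = 0 for every sheaf of sets K and every p > 0. Then the product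
sheaf of the family is totally acyclic. (The published statement is for modules over a ringed topos;
this row is the case of abelian sheaves.) -/
theorem result {C : Type u} [SmallCategory C] (J : GrothendieckTopology C)
    {T : Type u} (F : T → Sheaf J AddCommGrpCat.{u}) (hF : ∀ t, CohCx.IsTotallyAcyclic (F t)) :
    CohCx.IsTotallyAcyclic (∏ᶜ F) := by
  intro K' p
  induction p generalizing F with
  | zero =>
    let S : T → ShortComplex (Sheaf J AddCommGrpCat.{u}) := fun t =>
      ShortComplex.mk (Injective.ι (F t)) (cokernel.π (Injective.ι (F t))) (cokernel.condition _)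
    have hS : ∀ t, (S t).ShortExact := fun t =>
      { exact := ShortComplex.exact_of_g_is_cokernel _ (cokernelIsCokernel _) }
    have hSF : ∀ t, CohCx.IsTotallyAcyclic (S t).X₁ := hF
    have hl : ∀ (K'' : Sheaf J (Type u)) (q : (Z J).obj K'' ⟶ ∏ᶜ (fun t => (S t).X₃)),
        ∃ t, t ≫ Limits.Pi.map (fun t => (S t).g) = q := by
      intro K'' q
      choose l hl using fun t => lift_of_isTotallyAcyclic (hS t) (hSF t) K'' (q ≫ Limits.Pi.π _ t)
      refine ⟨Limits.Pi.lift l, ?_⟩
      apply Limits.Pi.hom_ext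
      intro t
      simp [hl]
    have hS' : (prodSC S).ShortExact := prodSC_shortExact S hS (epi_of_lift _ hl)
    have hI : ∀ t, Injective ((S t).X₂) := fun t => inferInstanceAs (Injective (Injective.under (F t)))
    have hI' : Injective (prodSC S).X₂ := inferInstanceAs (Injective (∏ᶜ (fun t => (S t).X₂)))
    exact subsingleton_ext_one_of_lift hS' _ (fun q => hl K' q)
  | succ p ih =>
    let S : T → ShortComplex (Sheaf J AddCommGrpCat.{u}) := fun t =>
      ShortComplex.mk (Injective.ι (F t)) (cokernel.π (Injective.ι (F t))) (cokernel.condition _)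
    have hS : ∀ t, (S t).ShortExact := fun t =>
      { exact := ShortComplex.exact_of_g_is_cokernel _ (cokernelIsCokernel _) }
    have hSF : ∀ t, CohCx.IsTotallyAcyclic (S t).X₁ := hF
    have hl : ∀ (K'' : Sheaf J (Type u)) (q : (Z J).obj K'' ⟶ ∏ᶜ (fun t => (S t).X₃)),
        ∃ t, t ≫ Limits.Pi.map (fun t => (S t).g) = q := by
      intro K'' q
      choose l hl using fun t => lift_of_isTotallyAcyclic (hS t) (hSF t) K'' (q ≫ Limits.Pi.π _ t)
      refine ⟨Limits.Pi.lift l, ?_⟩
      apply Limits.Pi.hom_ext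
      intro t
      simp [hl]
    have hS' : (prodSC S).ShortExact := prodSC_shortExact S hS (epi_of_lift _ hl)
    have hI : ∀ t, Injective ((S t).X₂) := fun t => inferInstanceAs (Injective (Injective.under (F t)))
    have hI' : Injective (prodSC S).X₂ := inferInstanceAs (Injective (∏ᶜ (fun t => (S t).X₂)))
    have hQ : ∀ t, CohCx.IsTotallyAcyclic (S t).X₃ := fun t => isTotallyAcyclic_X₃ (hS t) (hSF t)
    exact subsingleton_ext_succ hS' _ _ (ih (fun t => (S t).X₃) hQ)

end Groth.Agent.S8564
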