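import Groth.Statements.S8567
import Groth.Agent.CohtopA.Soft

set_option autoImplicit false
open CategoryTheory TopologicalSpace Opposite
universe u
open CohTop

namespace Groth.Agent.S8567

open CohtopA.Sec CohtopA.Germ CohtopA.RelT2 CohtopA.Soft CohtopA.ColimSections

theorem surj {K X : TopCat.{u}} (j : K ⟶ X) (hj : Topology.IsClosedEmbedding j) [T2Space X]
    [CompactSpace X] (G : CohTop.Ab X) (hG : IsSoft G) : Function.Surjective (pb j G ⊤) := by
  intro t
  have : CompactSpace K := hj.compactSpace
  obtain ⟨U, hU, s, hs⟩ := exists_pb_near G j hj.isEmbedding (isRelT2_of_t2Space _)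
    (K := Set.univ) isCompact_univ (V := (Opens.map j).obj ⊤) (fun _ _ => trivial) t
  obtain ⟨w, hw⟩ := hG (Set.range j) U (by rintro _ ⟨z, rfl⟩; exact hU z trivial) s hj.isClosed_range
  refine ⟨w, sep_gm _ _ fun z hz => ?_⟩
  rw [← hs z trivial, ← sc_gm j G z ⊤ trivial, hw (j z) ⟨z, rfl⟩, sc_gm j G z U]


/-- Let X be a topological space, K ⊆ X a compact subset such that any two distinct points of K have
disjoint neighbourhoods in X, and F a flasque abelian sheaf on X. Then the inverse image F|K of F on
the subspace K is a soft sheaf: for every closed subset A of K, every section of (F|K)|A over A is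
the restriction of a section of F|K over K (the restriction map is the unit of the inverse image /
direct image adjunction for the inclusion A → K, taken on global sections). -/
theorem result {X : TopCat.{u}} {K : Set X} (hK : IsCompact K)
    (hsep : ∀ x ∈ K, ∀ y ∈ K, x ≠ y → ∃ U V : Set X, IsOpen U ∧ IsOpen V ∧ x ∈ U ∧ y ∈ V ∧ Disjoint U V)
    (F : CohTop.Ab X) [TopCat.Sheaf.IsFlasque F] {A : Set K} (hA : IsClosed A) :
    Function.Surjective
      ((((TopCat.Sheaf.pullbackPushforwardAdjunction AddCommGrpCat.{u}
        (TopCat.ofHom ⟨((↑) : A → K), continuous_subtype_val⟩ : TopCat.of A ⟶ TopCat.of K)).unit.app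
        ((CohTop.pull (TopCat.ofHom ⟨((↑) : K → X), continuous_subtype_val⟩ : TopCat.of K ⟶ X)).obj F)).hom.app
        (op ⊤)).hom) := by
  let i : TopCat.of K ⟶ X := TopCat.ofHom ⟨((↑) : K → X), continuous_subtype_val⟩
  let j : TopCat.of A ⟶ TopCat.of K := TopCat.ofHom ⟨((↑) : A → K), continuous_subtype_val⟩
  have hT : IsRelT2 (Set.range i) := by
    have : Set.range i = K := Subtype.range_coe
    rw [this]
    exact hsep
  have hT2 : T2Space (TopCat.of K) := by
    have h : IsRelT2 K := hsep
    exact h.t2Space
  have hc : CompactSpace (TopCat.of K) := isCompact_iff_compactSpace.1 hK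
  have hsoft : IsSoft ((CohTop.pull i).obj F) := isSoft_pull F i Topology.IsEmbedding.subtypeVal hT
  exact surj j hA.isClosedEmbedding_subtypeVal _ hsoft

end Groth.Agent.S8567
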