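import Groth.Statements.S8578
import Groth.Agent.EtDesc.K224.PropK
import Groth.Agent.EtDesc.K224.BigEx

set_option autoImplicit false
open CategoryTheory CategoryTheory.Limits AlgebraicGeometry Opposite
universe u
open EtDesc

namespace Groth.Agent.S8578

/-- In the setting of schemes, proper surjective morphisms and torsion etale sheaves, let Y be a scheme
and K a simplicial object of schemes over Y which is a proper hypercovering: K_0 → Y and, for every
n, the canonical morphism K_{n+1} → (cosk_n K)_{n+1} (n-coskeleton computed in schemes over Y,
assumed to exist as a right Kan extension) are proper and surjective. Then K is of cohomological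
descent over Y for torsion sheaves, and the descent spectral sequence reads, in existence form: for
every torsion abelian sheaf F on the small etale site of Y there is a bounded spectral sequence of
abelian groups starting at page one with E_1^{p,q} isomorphic, for p, q ≥ 0, to H^q_et(K_p, F|K_p)
(inverse image along K_p → Y) and zero otherwise, together with abutment data whose filtrations are
finite on H^n(Y_et, F) for n ≥ 0 (zero for n < 0). (The E_1 identifications and the abutment
isomorphisms are asserted to exist only; the differentials are not part of this statement.) -/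
theorem result {Y : Scheme.{u}}
    [∀ (n : ℕ) (G : (SimplexCategory.Truncated n)ᵒᵖ ⥤ Over Y),
      (SimplexCategory.Truncated.inclusion n).op.HasRightKanExtension G]
    (K : SimplicialObject (Over Y))
    [IsProper (K.obj (op (SimplexCategory.mk 0))).hom] [Surjective (K.obj (op (SimplexCategory.mk 0))).hom]
    (hK : ∀ n : ℕ, IsProper (((SimplicialObject.coskAdj n).unit.app K).app (op (SimplexCategory.mk (n + 1)))).left ∧
      Surjective (((SimplicialObject.coskAdj n).unit.app K).app (op (SimplexCategory.mk (n + 1)))).left)
    (F : EtCoh.Ab Y) (hF : EtCoh.IsTorsion F) :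
    ∃ (E : CohomologicalSpectralSequence AddCommGrpCat.{u + 1} 1)
      (a : SpSeq.Abutment E (fun n : ℤ =>
        if 0 ≤ n then AddCommGrpCat.of (EtCoh.H Y F n.toNat) else AddCommGrpCat.of PUnit.{u + 2})),
      (∀ n, a.IsFinite n) ∧ SpSeq.IsBounded E ∧
      ∀ p q : ℤ, Nonempty ((E.page 1 le_rfl).X (p, q) ≅
        (if 0 ≤ p ∧ 0 ≤ q then
          AddCommGrpCat.of (EtCoh.H (K.obj (op (SimplexCategory.mk p.toNat))).left
            ((EtCoh.pull (K.obj (op (SimplexCategory.mk p.toNat))).hom).obj F) q.toNat)
         else AddCommGrpCat.of PUnit.{u + 2})) := by
  have hg : K343.Basic.Good K224.PropK.KP.{u} := K224.PropK.good_of_genP _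
  have hc : K343.Basic.ContK K224.PropK.KP.{u} Y := K343.Basic.cont_a hg.le Y
  exact K224.BigEx.exists_spectralSequence_of_cosk (K := K224.PropK.KP.{u}) F
    (fun V q hq => K224.PropK.isZero_rightDerived_uResK _ F hF V.hom q hq) K
    (K224.PropK.mem_KP _) (fun n => by
      obtain ⟨_, _⟩ := hK n
      exact K224.PropK.mem_KP _)

end Groth.Agent.S8578
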