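import Groth.Statements.S8581
import Groth.Agent.EtDl.K555.PureLoc
import Groth.Agent.EtDl.K555.QBar
import Groth.Agent.Sga4h.LocCohLES
import Groth.Agent.EtpbcB.PBCVan
import Groth.Agent.CurvesA.MuConst
import Groth.Agent.S2941
import Groth.Agent.S0558

set_option autoImplicit false
universe u
open CategoryTheory CategoryTheory.Limits AlgebraicGeometry Opposite
open EtDl

namespace Groth.Agent.S8581

/-- Let A be an excellent regular strictly henselian local ring containing Q, x an element of the
maximal ideal of A that is not in its square (a member of a regular system of parameters), U = Spec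
A[1/x], and n ≥ 1. Then H^q(U_et, μ_n) = 0 for every q ≥ 2. (In degrees 0 and 1 the groups are
μ_n(A) and Z/n for every regular strictly local A. The published statement is for excellent regular
strictly local rings of equal characteristic and n prime to the characteristic, and its proof
assumes resolution of singularities for excellent schemes, available in characteristic zero; hence
the restriction to Q-algebras, where every n ≥ 1 is allowed.) -/
theorem result (A : Type u) [CommRing A] [IsRegularLocalRing A]
    [Algebra ℚ A] (hA : EGA4.IsExcellent A) (hsh : EtCoh.IsStrictlyHenselianLocalRing A)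
    (x : A) (hx : x ∈ IsLocalRing.maximalIdeal A) (hx2 : x ∉ (IsLocalRing.maximalIdeal A) ^ 2)
    (n : ℕ) (hn : 0 < n) (q : ℕ) (hq : 2 ≤ q) :
    Subsingleton (EtCoh.H (Spec (CommRingCat.of (Localization.Away x)))
      (EtCoh.mu (Spec (CommRingCat.of (Localization.Away x))) n) q) := by
  obtain ⟨q, rfl⟩ := Nat.exists_eq_add_of_le' hq
  obtain ⟨hhens, hsep⟩ := hsh
  have hdom : IsDomain A := Groth.Agent.S0558.result A
  obtain ⟨k, _, _, _, _⟩ := K555.QBar.exists_algClosed A
  obtain ⟨d, hd⟩ : ∃ d : ℕ, ringKrullDim A = d :=
    ⟨_, (IsRegularLocalRing.spanFinrank_maximalIdeal (R := A)).symm⟩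
  obtain ⟨h1, e, rfl, he⟩ := Groth.Agent.S2941.quotient_regular A d hd x hx (by rwa [← pow_two])
  let j : Spec (CommRingCat.of (Localization.Away x)) ⟶ Spec (CommRingCat.of A) :=
    Spec.map (CommRingCat.ofHom (algebraMap A (Localization.Away x)))
  have hj : IsOpenImmersion j := inferInstanceAs (IsOpenImmersion (Spec.map (CommRingCat.ofHom
    (algebraMap A (Localization.Away x)))))
  have h2 := K555.PureLoc.isZero_locCoh k A (Ideal.span {x}) 1 one_pos (by rw [he, hd]; norm_cast) j
    (fun z => ?_) hn.ne' (q := q + 3) (by omega)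
  · have h3 : IsZero ((EtCoh.Rpush j (q + 2)).obj
        ((EtCoh.pull j).obj (EtCoh.const (Spec (CommRingCat.of A)) (ZMod n)))) :=
      h2.of_iso (Groth.Agent.Sga4h.LocCohLES.locCohSuccIso j _ (q + 1))
    have h4 := Groth.Agent.EtpbcB.PBCVan.subsingleton_H_of_isZero_Rpush A j _ (q + 2) h3
    obtain ⟨e'⟩ := Groth.Agent.CurvesA.MuConst.nonempty_iso_const_mu_of_isSepClosed k n
      (Nat.cast_ne_zero.2 hn.ne') (Spec.map (CommRingCat.ofHom (algebraMap k (Localization.Away x))))
    let e4 := (EtCoh.HF _ (q + 2)).mapIso (EtCore.pullConst j (ZMod n) ≪≫ e')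
    have : Subsingleton ((EtCoh.HF _ (q + 2)).obj
      ((EtCoh.pull j).obj (EtCoh.const (Spec (CommRingCat.of A)) (ZMod n)))) := h4
    exact (e4.addCommGroupIsoToAddEquiv).toEquiv.symm.subsingleton
  · have hr : Set.range j = (PrimeSpectrum.basicOpen x : Set (PrimeSpectrum A)) :=
      PrimeSpectrum.localization_away_comap_range (Localization.Away x) x
    rw [hr, Ideal.span_singleton_le_iff_mem]
    rfl

end Groth.Agent.S8581
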