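import Groth.Statements.S8582
import Groth.Agent.EtDl.K555.ULiftQ
import Groth.Agent.EtDl.K555.PureReg

set_option autoImplicit false
universe u
open CategoryTheory CategoryTheory.Limits AlgebraicGeometry Opposite
open EtDl

namespace Groth.Agent.S8582

/-- Cohomological purity: vanishing part, in characteristic zero: let X be a locally Noetherian scheme
over Q all of whose local rings are regular and all of whose affine opens have excellent coordinate
rings; let i : Y -> X be a closed immersion with Y regular, j : U -> X the open immersion of the
complement, and c ≥ 1 an integer with dim O_{X,y} = dim O_{Y,y} + c at every point y of Y (a regular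
pair of codimension c); let n ≥ 1. Then the local cohomology sheaves H^q_Y(X, Z/n) (right derived
functors of F ↦ ker(F -> j_* j^* F)) vanish for every q ≠ 2c. (The published statement allows any
sheaf locally isomorphic to Z/n, to which it reduces etale-locally, on excellent schemes of equal
characteristic with n prime to the characteristic, and its proof assumes resolution of singularities
for excellent schemes, available in characteristic zero; hence the restriction to Q-schemes.) -/
theorem result {X Y U : Scheme.{u}} [IsLocallyNoetherian X]
    (qX : X ⟶ Spec (CommRingCat.of (ULift.{u} ℚ)))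
    (hreg : ∀ x : X, IsRegularLocalRing (X.presheaf.stalk x))
    (hexc : ∀ V : X.affineOpens, EGA4.IsExcellent Γ(X, V.1))
    (i : Y ⟶ X) [IsClosedImmersion i] (hYreg : ∀ y : Y, IsRegularLocalRing (Y.presheaf.stalk y))
    (j : U ⟶ X) [IsOpenImmersion j] [EtCoh.BCCont j] (hij : Set.range j.base = (Set.range i.base)ᶜ)
    (c : ℕ) (hc : 0 < c)
    (hcodim : ∀ y : Y, ringKrullDim (X.presheaf.stalk (i.base y)) = ringKrullDim (Y.presheaf.stalk y) + c)
    (n : ℕ) (hn : 0 < n) (q : ℕ) (hq : q ≠ 2 * c) :
    IsZero ((EtDual.locCoh j q).obj (EtCoh.const X (ZMod n))) := by
  have hQ : CharZero (ULift.{u} ℚ) := K555.ULiftQ.charZero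
  exact K555.PureReg.isZero_locCoh qX i (fun y => hreg (i y)) hYreg j hij c hc hcodim n hn.ne' q hq

end Groth.Agent.S8582
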