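import Groth.Statements.S8583
import Groth.Agent.EtDl.K555.ULiftQ
import Groth.Agent.EtDl.K555.PureReg
import Groth.Agent.Sga4h.LocCohLES

set_option autoImplicit false
universe u
open CategoryTheory CategoryTheory.Limits AlgebraicGeometry Opposite
open EtDl

namespace Groth.Agent.S8583

/-- Cohomological purity: vanishing of the higher direct images, in characteristic zero: let X be a
locally Noetherian scheme over Q all of whose local rings are regular and all of whose affine opens
have excellent coordinate rings; let i : Y -> X be a closed immersion with Y regular, j : U -> X the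
open immersion of the complement, and c ≥ 1 an integer with dim O_{X,y} = dim O_{Y,y} + c at every
point y of Y; let n ≥ 1. Then R^q j_* (j^* Z/n) = 0 for every q with q ≠ 0 and q ≠ 2c - 1. (The
published statement allows any sheaf locally isomorphic to Z/n on excellent schemes of equal
characteristic with n prime to the characteristic, and its proof assumes resolution of singularities
for excellent schemes, available in characteristic zero; hence the restriction to Q-schemes.) -/
theorem result {X Y U : Scheme.{u}} [IsLocallyNoetherian X]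
    (qX : X ⟶ Spec (CommRingCat.of (ULift.{u} ℚ)))
    (hreg : ∀ x : X, IsRegularLocalRing (X.presheaf.stalk x))
    (hexc : ∀ V : X.affineOpens, EGA4.IsExcellent Γ(X, V.1))
    (i : Y ⟶ X) [IsClosedImmersion i] (hYreg : ∀ y : Y, IsRegularLocalRing (Y.presheaf.stalk y))
    (j : U ⟶ X) [IsOpenImmersion j] [EtCoh.BCCont j] (hij : Set.range j.base = (Set.range i.base)ᶜ)
    (c : ℕ) (hc : 0 < c)
    (hcodim : ∀ y : Y, ringKrullDim (X.presheaf.stalk (i.base y)) = ringKrullDim (Y.presheaf.stalk y) + c)
    (n : ℕ) (hn : 0 < n) (q : ℕ) (hq0 : q ≠ 0) (hq : q ≠ 2 * c - 1) :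
    IsZero ((EtCoh.Rpush j q).obj ((EtCoh.pull j).obj (EtCoh.const X (ZMod n)))) := by
  have hQ : CharZero (ULift.{u} ℚ) := K555.ULiftQ.charZero
  obtain ⟨q, rfl⟩ := Nat.exists_eq_succ_of_ne_zero hq0
  exact (K555.PureReg.isZero_locCoh qX i (fun y => hreg (i y)) hYreg j hij c hc hcodim n hn.ne' (q + 2)
    (by omega)).of_iso (Groth.Agent.Sga4h.LocCohLES.locCohSuccIso j (EtCoh.const X (ZMod n)) q)

end Groth.Agent.S8583
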