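import Groth.Statements.S8584
import Groth.Agent.EtDl.K555.ULiftQ
import Groth.Agent.EtDl.K555.RegMor
import Groth.Agent.Etbc.H190.LocAcyc

set_option autoImplicit false
universe u
open CategoryTheory CategoryTheory.Limits AlgebraicGeometry Opposite
open EtDl

namespace Groth.Agent.S8584

/-- Local acyclicity of a regular morphism: in characteristic zero: let g : X' -> X be a regular
morphism (every local homomorphism O_{X,g x'} -> O_{X',x'} flat with Noetherian geometrically
regular fibre rings) between locally Noetherian schemes over Q all of whose affine opens have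
excellent coordinate rings. Then g is universally locally acyclic for the set of primes invertible
on X (here all primes): after any base change, every induced morphism of strict localizations is
n-acyclic for every n. (The published statement is for excellent schemes of equal characteristic and
torsion prime to the characteristic, and its proof assumes resolution of singularities for excellent
schemes, available in characteristic zero; hence the restriction to Q-schemes.) -/
theorem result {X X' : Scheme.{u}} [IsLocallyNoetherian X] [IsLocallyNoetherian X']
    (qX : X ⟶ Spec (CommRingCat.of (ULift.{u} ℚ)))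
    (hexc : ∀ V : X.affineOpens, EGA4.IsExcellent Γ(X, V.1))
    (hexc' : ∀ V : X'.affineOpens, EGA4.IsExcellent Γ(X', V.1))
    (g : X' ⟶ X) (hg : EtDepth.IsRegularMor g) :
    EtAcyc.IsULocAcyclic g (EtAcyc.primesInvertibleOn X) := by
  have hQ : CharZero (ULift.{u} ℚ) := K555.ULiftQ.charZero
  intro n X₁ Y₁ g₁ b' b sq
  have hU := (K555.RegMor.ubc_of_isRegularMor g hg qX).of_isPullback sq
  refine Groth.Agent.Etbc.H190.LocAcyc.isLocAcyclic_of_bc g₁ _
    (fun x A _ _ _ _ _ _ T t _ F hF => ?_) n
  have h2 := hU.of_isPullback
    (IsPullback.of_hasPullback g₁ (Hens2.specOf Y₁ (g₁.base x) A))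
  intro X'' f' g' h
  exact h2.bcMor t f' g' h F
    (Groth.Agent.Etbc.H190.LocAcyc.isTorsionInvertibleOn_of_isLTorsion (A := ULift.{u} ℚ)
      (fun ℓ hℓ => (Nat.cast_ne_zero.2 hℓ.1.ne_zero).isUnit) hF)

end Groth.Agent.S8584
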