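import Groth.Statements.S8586
import Mathlib.RingTheory.Ideal.KrullsHeightTheorem
import Mathlib.RingTheory.Ideal.Height
import Mathlib.RingTheory.Noetherian.Basic

set_option autoImplicit false
universe u
open CAlg

namespace Groth.Agent.S8586

open IsLocalRing

variable {A : Type u} [CommRing A] [IsLocalRing A] {d : ℕ}

/-- systems of parameters -/
def SOP (w : Fin d → A) : Prop :=
  (∀ i, w i ∈ maximalIdeal A) ∧ maximalIdeal A ≤ (Ideal.span (Set.range w)).radical

/-- one step -/
def Step (w w' : Fin d → A) : Prop :=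
  SOP w ∧ SOP w' ∧ ∃ i : Fin d, ∀ i' : Fin d, i' ≠ i → w i' = w' i'

variable [IsNoetherianRing A]

/-- the ideal generated by all the coordinates but one -/
def J (u : Fin d → A) (i : Fin d) : Ideal A := Ideal.span (u '' {j | j ≠ i})

theorem J_sup (u : Fin d → A) (i : Fin d) : J u i ⊔ Ideal.span {u i} = Ideal.span (Set.range u) := by
  rw [J, ← Ideal.span_union]
  congr 1
  ext x
  simp only [Set.mem_union, Set.mem_image, Set.mem_setOf_eq, Set.mem_singleton_iff, Set.mem_range]
  constructor
  · rintro (⟨j, _, rfl⟩ | rfl)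
    · exact ⟨j, rfl⟩
    · exact ⟨i, rfl⟩
  · rintro ⟨j, rfl⟩
    by_cases h : j = i
    · subst h; right; rfl
    · left; exact ⟨j, h, rfl⟩

theorem maximalIdeal_mem_minimalPrimes {I : Ideal A} (h1 : I ≤ maximalIdeal A)
    (h : maximalIdeal A ≤ I.radical) : maximalIdeal A ∈ I.minimalPrimes := by
  refine ⟨⟨inferInstance, h1⟩, ?_⟩
  rintro Q ⟨hQ, hIQ⟩ _
  exact h.trans (hQ.radical_le_iff.mpr hIQ)

theorem J_le (u : Fin d → A) (hu : SOP u) (i : Fin d) : J u i ≤ maximalIdeal A := by
  rw [J, Ideal.span_le]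
  rintro _ ⟨j, _, rfl⟩
  exact hu.1 j

theorem span_le (u : Fin d → A) (hu : SOP u) : Ideal.span (Set.range u) ≤ maximalIdeal A := by
  rw [Ideal.span_le]
  rintro _ ⟨j, rfl⟩
  exact hu.1 j

theorem not_minimal (hd : ringKrullDim A = d) (u : Fin d → A) (i : Fin d) :
    maximalIdeal A ∉ (J u i).minimalPrimes := by
  intro h
  have h1 := Ideal.height_le_card_of_mem_minimalPrimes_span (p := maximalIdeal A)
    (s := u '' {j | j ≠ i}) (Set.toFinite _) h
  have h2 : (u '' {j | j ≠ i}).ncard ≤ d - 1 := by
    refine (Set.ncard_image_le (Set.toFinite _)).trans ?_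
    have : {j : Fin d | j ≠ i} = {i}ᶜ := by ext; simp
    rw [this, Set.ncard_compl, Nat.card_fin, Set.ncard_singleton]
  have h3 : ((maximalIdeal A).height : WithBot ℕ∞) = d := by
    rw [IsLocalRing.maximalIdeal_height_eq_ringKrullDim, hd]
  have h4 : (maximalIdeal A).height = d := by exact_mod_cast h3
  rw [h4] at h1
  have h5 : d ≤ d - 1 := by
    have : (d : ℕ∞) ≤ ((d - 1 : ℕ) : ℕ∞) := h1.trans (by exact_mod_cast h2)
    exact_mod_cast this
  have h6 : 0 < d := i.pos
  omega

theorem update_sop (u : Fin d → A) (hu : SOP u) (i : Fin d)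
    (w : A) (hw : w ∈ maximalIdeal A) (hwP : ∀ P ∈ (J u i).minimalPrimes, w ∉ P) :
    SOP (Function.update u i w) := by
  refine ⟨fun j => ?_, ?_⟩
  · by_cases h : j = i
    · subst h; simpa using hw
    · rw [Function.update_of_ne h]; exact hu.1 j
  · rw [Ideal.radical_eq_sInf]
    refine le_sInf ?_
    rintro Q ⟨hQ, hQp⟩
    have hJQ : J u i ≤ Q := by
      rw [J, Ideal.span_le]
      rintro _ ⟨j, hj, rfl⟩
      refine hQ (Ideal.subset_span ⟨j, ?_⟩)
      rw [Function.update_of_ne hj]
    have hwQ : w ∈ Q := hQ (Ideal.subset_span ⟨i, by simp⟩)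
    obtain ⟨P, hP, hPQ⟩ := Ideal.exists_minimalPrimes_le hJQ
    have hPp : P.IsPrime := hP.1.1
    have hlt : P < Q := lt_of_le_of_ne hPQ (fun h => hwP P hP (h ▸ hwQ))
    by_contra hcon
    have hQm : Q < maximalIdeal A :=
      lt_of_le_of_ne (IsLocalRing.le_maximalIdeal hQp.ne_top) (fun h => hcon h.ge)
    -- pass to the quotient
    have hmin : maximalIdeal A ∈ (J u i ⊔ Ideal.span {u i}).minimalPrimes := by
      rw [J_sup]
      exact maximalIdeal_mem_minimalPrimes (span_le u hu) hu.2
    have hh := Ideal.map_height_le_one_of_mem_minimalPrimes hmin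
    have hmap : ∀ P : Ideal A, P.IsPrime → J u i ≤ P → (P.map (Ideal.Quotient.mk (J u i))).IsPrime :=
      fun P hP h => by
        haveI := hP
        exact Ideal.map_isPrime_of_surjective Ideal.Quotient.mk_surjective (by
          rw [Ideal.mk_ker]; exact h)
    have hlt' : ∀ P Q : Ideal A, J u i ≤ P → P < Q →
        P.map (Ideal.Quotient.mk (J u i)) < Q.map (Ideal.Quotient.mk (J u i)) := by
      intro P Q hP hPQ
      refine lt_of_le_of_ne (Ideal.map_mono hPQ.le) (fun h => ?_)
      have h1 := congrArg (Ideal.comap (Ideal.Quotient.mk (J u i))) h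
      rw [Ideal.comap_map_of_surjective _ Ideal.Quotient.mk_surjective,
        Ideal.comap_map_of_surjective _ Ideal.Quotient.mk_surjective,
        ← RingHom.ker_eq_comap_bot, Ideal.mk_ker, sup_eq_left.mpr hP,
        sup_eq_left.mpr (hP.trans hPQ.le)] at h1
      exact hPQ.ne h1
    haveI := hmap P hPp hP.1.2
    haveI := hmap Q hQp hJQ
    haveI := hmap (maximalIdeal A) inferInstance (J_le u hu i)
    have h1 := Ideal.height_add_one_le_of_lt_of_isPrime (hlt' P Q hP.1.2 hlt)
    have h2 := Ideal.height_add_one_le_of_lt_of_isPrime (hlt' Q (maximalIdeal A) hJQ hQm)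
    have h3 : (Q.map (Ideal.Quotient.mk (J u i))).height + 1 ≤ 1 := h2.trans hh
    have h4 : (1 : ℕ∞) + 1 ≤ 1 := by
      refine le_trans ?_ h3
      gcongr
      exact le_trans (by simp) h1
    exact absurd h4 (by decide)

theorem exists_common (hd : ringKrullDim A = d) (u v : Fin d → A) (hu : SOP u) (hv : SOP v)
    (i : Fin d) : ∃ w, SOP (Function.update u i w) ∧ SOP (Function.update v i w) := by
  have hfin : ((J u i).minimalPrimes ∪ (J v i).minimalPrimes).Finite :=
    (Ideal.finite_minimalPrimes_of_isNoetherianRing A _).union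
      (Ideal.finite_minimalPrimes_of_isNoetherianRing A _)
  have hnot : ¬ ((maximalIdeal A : Set A) ⊆
      ⋃ P ∈ ((J u i).minimalPrimes ∪ (J v i).minimalPrimes), ((id P : Ideal A) : Set A)) := by
    rw [Ideal.subset_union_prime_finite hfin (f := id) ⊤ ⊤ (by
      rintro P (hP | hP) _ _
      · exact hP.1.1
      · exact hP.1.1)]
    rintro ⟨P, hP, hle⟩
    have hPm : P = maximalIdeal A := by
      have hPp : P.IsPrime := by
        rcases hP with hP | hP
        · exact hP.1.1
        · exact hP.1.1
      exact le_antisymm (IsLocalRing.le_maximalIdeal hPp.ne_top) hle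
    subst hPm
    rcases hP with hP | hP
    · exact not_minimal hd u i hP
    · exact not_minimal hd v i hP
  obtain ⟨w, hw, hwn⟩ := Set.not_subset.mp hnot
  simp only [Set.mem_iUnion, not_exists, id] at hwn
  exact ⟨w, update_sop u hu i w hw fun P hP h => hwn P (Or.inl hP) h,
    update_sop v hv i w hw fun P hP h => hwn P (Or.inr hP) h⟩

open Classical in
theorem exists_chain (hd : ringKrullDim A = d) (n : ℕ) : ∀ (u v : Fin d → A), SOP u → SOP v →
    (Finset.univ.filter (fun i => u i ≠ v i)).card = n → Relation.ReflTransGen Step u v := by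
  classical
  induction n using Nat.strong_induction_on with
  | _ n ih =>
    intro u v hu hv hn
    by_cases huv : u = v
    · subst huv; exact Relation.ReflTransGen.refl
    obtain ⟨i, hi⟩ := Function.ne_iff.mp huv
    obtain ⟨w, hw1, hw2⟩ := exists_common hd u v hu hv i
    have h1 : Step u (Function.update u i w) :=
      ⟨hu, hw1, i, fun j hj => (Function.update_of_ne hj _ _).symm⟩
    have h2 : Step (Function.update v i w) v :=
      ⟨hw2, hv, i, fun j hj => Function.update_of_ne hj _ _⟩
    have h3 : (Finset.univ.filter (fun j => Function.update u i w j ≠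
        Function.update v i w j)).card < n := by
      rw [← hn]
      apply Finset.card_lt_card
      rw [Finset.ssubset_iff_of_subset]
      · exact ⟨i, by simpa using hi, by simp⟩
      · intro j hj
        simp only [Finset.mem_filter, Finset.mem_univ, true_and] at hj ⊢
        by_cases hji : j = i
        · subst hji; exact hi
        · rwa [Function.update_of_ne hji, Function.update_of_ne hji] at hj
    exact (Relation.ReflTransGen.single h1).trans
      ((ih _ h3 _ _ hw1 hw2 rfl).trans (Relation.ReflTransGen.single h2))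

theorem exists_seq {u v : Fin d → A} (hv : SOP v) (h : Relation.ReflTransGen Step u v) :
    ∃ (m : ℕ) (w : ℕ → Fin d → A), w 0 = u ∧ w m = v ∧ (∀ k ≤ m, SOP (w k)) ∧
      (∀ k < m, ∃ i : Fin d, ∀ i' : Fin d, i' ≠ i → w k i' = w (k + 1) i') := by
  induction h using Relation.ReflTransGen.head_induction_on with
  | refl => exact ⟨0, fun _ => v, rfl, rfl, fun _ _ => hv, fun k hk => absurd hk (Nat.not_lt_zero k)⟩
  | @head a c h' _ ih =>
    obtain ⟨m, w, h0, hm, h1, h2⟩ := ih
    refine ⟨m + 1, fun k => Nat.casesOn k a w, rfl, hm, ?_, ?_⟩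
    · rintro (_ | k) hk
      · exact h'.1
      · exact h1 k (Nat.le_of_succ_le_succ hk)
    · rintro (_ | k) hk
      · obtain ⟨i, hi⟩ := h'.2.2
        exact ⟨i, fun i' hi' => (hi i' hi').trans (congrFun h0 i').symm⟩
      · exact h2 k (Nat.lt_of_succ_lt_succ hk)

/-- Suppose A is a Cohen–Macaulay local ring whose Krull dimension is d, and consider two systems of
parameters u = (u_1, ..., u_d) and v = (v_1, ..., v_d) of A (that is, d-tuples of elements of the
maximal ideal m such that the ideal they generate has radical m). Then one can find a finite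
sequence w_0 = u, w_1, ..., w_m = v, each term a system of parameters of A, where w_{k+1} arises
from w_k by altering just one coordinate. -/
theorem result (A : Type u) [CommRing A] [LocCoh.IsCohenMacaulayLocalRing A]
    (d : ℕ) (hd : ringKrullDim A = d) (u v : Fin d → A)
    (hu : ∀ i, u i ∈ IsLocalRing.maximalIdeal A) (hu' : IsLocalRing.maximalIdeal A ≤ (Ideal.span (Set.range u)).radical)
    (hv : ∀ i, v i ∈ IsLocalRing.maximalIdeal A) (hv' : IsLocalRing.maximalIdeal A ≤ (Ideal.span (Set.range v)).radical) :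
    ∃ (m : ℕ) (w : Fin (m + 1) → Fin d → A), w 0 = u ∧ w (Fin.last m) = v ∧
      (∀ k : Fin (m + 1), (∀ i, w k i ∈ IsLocalRing.maximalIdeal A) ∧
        IsLocalRing.maximalIdeal A ≤ (Ideal.span (Set.range (w k))).radical) ∧
      (∀ k : Fin m, ∃ i : Fin d, ∀ i' : Fin d, i' ≠ i → w k.castSucc i' = w k.succ i') := by
  obtain ⟨m, w, h0, hm, h1, h2⟩ := exists_seq ⟨hv, hv'⟩
    (exists_chain hd _ u v ⟨hu, hu'⟩ ⟨hv, hv'⟩ rfl)
  refine ⟨m, fun k => w k, h0, hm, fun k => h1 k (Nat.le_of_lt_succ k.2), fun k => ?_⟩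
  simpa using h2 k k.2

end Groth.Agent.S8586
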