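import Groth.Statements.S8587
import Groth.Agent.EtDl.K555.CdStrict

set_option autoImplicit false
universe u
open CategoryTheory CategoryTheory.Limits AlgebraicGeometry Opposite
open EtDl

namespace Groth.Agent.S8587

/-- In characteristic zero, for an integral scheme: let X be an integral Noetherian scheme over Q all of
whose affine opens have excellent coordinate rings, K its function field, and ℓ a prime number such
that ℓ ≠ 2 or no residue field of X is orderable (that is, -1 is a sum of squares in every residue
field). Then cd_ℓ(X) ≤ cd_ℓ(K) + dim X and dim X ≤ cd_ℓ(K): for all natural numbers d, e, if dim X ≤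
d and every ℓ-torsion abelian sheaf on (Spec K)_et has vanishing cohomology above degree e, then
every ℓ-torsion abelian sheaf on X_et has vanishing cohomology above degree e + d; and if cd_ℓ(K) ≤
e then dim X ≤ e. (The published statement is for excellent Noetherian schemes of equal
characteristic with ℓ invertible, with the ring of rational functions in place of K; its proof rests
on results assuming resolution of singularities for excellent schemes, available in characteristic
zero; hence the restriction to Q-schemes, and to integral X so that the ring of rational functions
is the function field.) -/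
theorem result {X : Scheme.{u}} [IsNoetherian X] [IsIntegral X]
    (qX : X ⟶ Spec (CommRingCat.of (ULift.{u} ℚ)))
    (hexc : ∀ V : X.affineOpens, EGA4.IsExcellent Γ(X, V.1))
    (ℓ : ℕ) (hℓ : ℓ.Prime)
    (hord : ℓ ≠ 2 ∨ ∀ x : X, ∃ l : List (X.residueField x), (l.map (fun a => a * a)).sum = -1) :
    (∀ d e : ℕ, topologicalKrullDim ↥X ≤ d → EtDepth.CohDimLLE (Spec X.functionField) ℓ e →
        EtDepth.CohDimLLE X ℓ (e + d)) ∧
    (∀ e : ℕ, EtDepth.CohDimLLE (Spec X.functionField) ℓ e → topologicalKrullDim ↥X ≤ e) :=
  K555.CdExc.main K555.CdStrict.cdSH qX hexc ℓ hℓ hord

end Groth.Agent.S8587
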