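import Groth.Statements.S8588
import Groth.Agent.EtDl.K555.ULiftQ
import Groth.Agent.EtDl.K555.RegGysin

set_option autoImplicit false
universe u
open CategoryTheory CategoryTheory.Limits AlgebraicGeometry Opposite
open EtDl

namespace Groth.Agent.S8588

/-- Fundamental class of a regular pair: WEAK FORM (existence of an isomorphism only), in characteristic
zero: let X be a locally Noetherian scheme over Q all of whose local rings are regular and all of
whose affine opens have excellent coordinate rings; let i : Y -> X be a closed immersion with Y
regular, j : U -> X the open immersion of the complement, and c ≥ 1 with dim O_{X,y} = dim O_{Y,y} +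
c at every point y of Y; let n ≥ 1. Then the restriction i^* H^{2c}_Y(X, Z/n(c)) of the top local
cohomology sheaf of the Tate twist Z/n(c) = μ_n^{⊗ c} is isomorphic, as an abelian sheaf on Y_et, to
the constant sheaf Z/n. The published statement asserts a canonical such isomorphism, unique subject
to a normalisation in codimension one, compatibility with morphisms of regular pairs and
transitivity for regular triples; those compatibilities are not expressed here, only the existence
of a global isomorphism (the sheaf is a priori only locally isomorphic to Z/n). (The published
statement is for excellent schemes of equal characteristic with n prime to the characteristic, and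
its proof assumes resolution of singularities for excellent schemes, available in characteristic
zero; hence the restriction to Q-schemes.) -/
theorem result {X Y U : Scheme.{u}} [IsLocallyNoetherian X]
    (qX : X ⟶ Spec (CommRingCat.of (ULift.{u} ℚ)))
    (hreg : ∀ x : X, IsRegularLocalRing (X.presheaf.stalk x))
    (hexc : ∀ V : X.affineOpens, EGA4.IsExcellent Γ(X, V.1))
    (i : Y ⟶ X) [IsClosedImmersion i] [EtCoh.BCCont i] (hYreg : ∀ y : Y, IsRegularLocalRing (Y.presheaf.stalk y))
    (j : U ⟶ X) [IsOpenImmersion j] [EtCoh.BCCont j] (hij : Set.range j.base = (Set.range i.base)ᶜ)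
    (c : ℕ) (hc : 0 < c)
    (hcodim : ∀ y : Y, ringKrullDim (X.presheaf.stalk (i.base y)) = ringKrullDim (Y.presheaf.stalk y) + c)
    (n : ℕ) (hn : 0 < n) :
    Nonempty ((EtCoh.pull i).obj ((EtDual.locCoh j (2 * c)).obj (EtDual.tate X n c)) ≅ EtCoh.const Y (ZMod n)) := by
  have hQ : CharZero (ULift.{u} ℚ) := K555.ULiftQ.charZero
  have : NeZero n := ⟨hn.ne'⟩
  obtain ⟨e, rfl⟩ : ∃ e, c = e + 1 := ⟨c - 1, by omega⟩
  exact K555.RegGysin.main qX i hreg hYreg j hij e hcodim n

end Groth.Agent.S8588
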