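import Groth.Statements.S8589
import Groth.Agent.EtDl.K555.TwoOfThree
import Groth.Agent.EtDl.K555.ShOrigin
import Groth.Agent.EtDl.K555.QBar
import Groth.Agent.CurvesA.MuConst
import Groth.Agent.S0558

set_option autoImplicit false
universe u
open CategoryTheory CategoryTheory.Limits AlgebraicGeometry Opposite
open EtDl

namespace Groth.Agent.S8589

/-- In all degrees, in characteristic zero: let φ : A -> A' be a local homomorphism of excellent regular
strictly henselian local rings containing Q, and x_1, ..., x_r elements of A that form part of a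
regular system of parameters of A (A/(x_1, ..., x_r) regular of dimension dim A - r) and whose
images form part of a regular system of parameters of A'. Put U = Spec A[1/(x_1⋯x_r)] and U' = Spec
A'[1/φ(x_1⋯x_r)]. Then for every n ≥ 1 and every q the pullback map H^q(U_et, μ_n) -> H^q(U'_et,
μ_n) along the induced morphism U' -> U is bijective. (The exactness of the pullback functor is
carried as an instance hypothesis, the prelude's convention. The published lemma is stated in
degrees q ≤ N under an inductive hypothesis — the purity computation for one regular parameter in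
degrees ≤ N — for rings of equal characteristic and n prime to the characteristic; once that
computation is established in all degrees the lemma holds in all degrees, and the proof of the
latter assumes resolution of singularities for excellent schemes, available in characteristic zero;
hence the restriction to Q-algebras.) -/
theorem result
    (A A' : Type u) [CommRing A] [CommRing A'] [IsRegularLocalRing A] [IsRegularLocalRing A']
    [Algebra ℚ A] (hA : EGA4.IsExcellent A) (hA' : EGA4.IsExcellent A')
    (hsh : EtCoh.IsStrictlyHenselianLocalRing A) (hsh' : EtCoh.IsStrictlyHenselianLocalRing A')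
    (φ : A →+* A') [IsLocalHom φ] (r : ℕ) (x : Fin r → A)
    (hx : IsRegularLocalRing (A ⧸ Ideal.span (Set.range x)))
    (hxd : ringKrullDim (A ⧸ Ideal.span (Set.range x)) + r = ringKrullDim A)
    (hx' : IsRegularLocalRing (A' ⧸ Ideal.span (Set.range (fun i => φ (x i)))))
    (hxd' : ringKrullDim (A' ⧸ Ideal.span (Set.range (fun i => φ (x i)))) + r = ringKrullDim A')
    (n : ℕ) (hn : 0 < n) (q : ℕ)
    [PreservesFiniteLimits (EtCoh.pull (Spec.map (CommRingCat.ofHom (Localization.awayMap φ (∏ i, x i)))))] :
    Function.Bijective (EtCore.Hpull (Spec.map (CommRingCat.ofHom (Localization.awayMap φ (∏ i, x i))))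
      (EtCoh.mu (Spec (CommRingCat.of (Localization.Away (∏ i, x i)))) n) q) := by
  obtain ⟨hhens, hsep⟩ := hsh
  obtain ⟨hhens', hsep'⟩ := hsh'
  have hdom : IsDomain A := Groth.Agent.S0558.result A
  obtain ⟨k, _, _, _, _⟩ := K555.QBar.exists_algClosed A
  have hxm : ∀ i, x i ∈ IsLocalRing.maximalIdeal A := fun i =>
    (IsLocalRing.le_maximalIdeal (J := Ideal.span (Set.range x)) fun h => by
      have : Subsingleton (A ⧸ Ideal.span (Set.range x)) := Ideal.Quotient.subsingleton_iff.2 h
      exact not_subsingleton (A ⧸ Ideal.span (Set.range x)) this) (Ideal.subset_span ⟨i, rfl⟩)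
  obtain ⟨R, _, _, t, κ, δ, i1, i2, hR, ht, hG, i3, hδ, -⟩ := K555.ShOrigin.exists_shOrigin k r A x hxm
  have i4 : IsLocalHom (φ.comp δ) := inferInstance
  let _ : Algebra ℚ R := (κ.comp (algebraMap ℚ k)).toAlgebra
  have h1 : @CAlg.IsRegularHom R _ A _ δ.toAlgebra := by
    let _ := δ.toAlgebra
    have e : (fun i => algebraMap R A (t i)) = x := funext hδ
    exact K555.ShOrigin.isRegularHom_of_quot R A hG r t ht hR (by rw [e]; exact hx) (by rw [e]; exact hxd)
  have h2 : @CAlg.IsRegularHom R _ A' _ (φ.comp δ).toAlgebra := by
    let _ := (φ.comp δ).toAlgebra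
    have e : (fun i => algebraMap R A' (t i)) = fun i => φ (x i) := funext fun i => congrArg φ (hδ i)
    exact K555.ShOrigin.isRegularHom_of_quot R A' hG r t ht hR (by rw [e]; exact hx') (by rw [e]; exact hxd')
  obtain ⟨e'⟩ := Groth.Agent.CurvesA.MuConst.nonempty_iso_const_mu_of_isSepClosed k n
    (Nat.cast_ne_zero.2 hn.ne')
    (Spec.map (CommRingCat.ofHom (algebraMap k (Localization.Away (∏ i, x i)))))
  exact K555.TwoOfThree.bijective_of_regular κ δ φ h1 h2 (∏ i, t i) (∏ i, x i)
    (by rw [map_prod]; exact Finset.prod_congr rfl fun i _ => hδ i) n hn.ne' _ e' q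

end Groth.Agent.S8589
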