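import Groth.Statements.S8590
import Groth.Agent.Etrest.FPCompact
import Groth.Agent.Sga4h.H921.Rs
import Groth.Agent.S0184
import Groth.Agent.Etrest.ConsClass
import Groth.Agent.Sga4B.ShriekTools
import Groth.Agent.EtpbcA.StrataGlob
import Groth.Agent.Sga4h.EtaleRes

set_option autoImplicit false
universe u
open CategoryTheory CategoryTheory.Limits AlgebraicGeometry Opposite
open EtDl

namespace Groth.Agent.S8590

/-- Constructibility of direct images with proper support: degreewise form for a single sheaf: let f : X
-> S be a morphism of finite presentation between quasi-compact quasi-separated schemes, given with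
a compactification c (f = j followed by fbar, j an open immersion, fbar proper), and F a
constructible abelian sheaf on X_et killed by some integer n ≥ 1. Then R^q f_! F, computed through c
as R^q fbar_* (j_! F), is constructible for every q. (The published statement says that Rf_!
preserves complexes with constructible cohomology, for sheaves of modules over a left Noetherian
torsion ring; this is the case of a single sheaf of Z/n-modules.) -/
theorem result {X S : Scheme.{u}} [CompactSpace ↥X] [QuasiSeparatedSpace ↥X]
    [CompactSpace ↥S] [QuasiSeparatedSpace ↥S]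
    {f : X ⟶ S} [LocallyOfFinitePresentation f] (c : DEt.Compactification f)
    (F : EtCoh.Ab X) (hF : EtPBC.IsConstructible F) (n : ℕ) (hn : 0 < n) (hFn : EtCoh.KilledBy n F) (q : ℕ) :
    EtPBC.IsConstructible ((EtCoh.Rpush c.fbar q).obj ((EtShriek.extZero c.j).obj F)) := by
  have hsep : IsSeparated f := by
    rw [← c.fac]
    infer_instance
  have hqc : QuasiCompact f := inferInstance
  obtain ⟨W, k, p, hk, hkq, hp, hpf, hkp⟩ := Groth.Agent.Etrest.FPCompact.hasFPC f
  haveI : CompactSpace ↥W := QuasiCompact.compactSpace_of_compactSpace p
  haveI : QuasiSeparatedSpace ↥W := quasiSeparatedSpace_of_quasiSeparated p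
  have hF' : EtCoh.IsTorsion F := Groth.Agent.Sga4h.H921.Rs.isTorsion_of_killedBy n hn F hFn
  obtain ⟨e1⟩ := Groth.Agent.Sga4h.H921.Rs.nonempty_rs f c.j c.fbar c.fac F hF' q
  obtain ⟨e2⟩ := Groth.Agent.Sga4h.H921.Rs.nonempty_rs f k p hkp F hF' q
  have hJ : EtShriek.JCont k := Groth.Agent.Sga4h.EtaleRes.jCont k
  have key := Groth.Agent.S0184.result p n hn _ (Groth.Agent.Etrest.ConsClass.isConstructible_extZero k F hF)
    (Groth.Agent.Sga4B.ShriekTools.killedBy_extZero k n F hFn) q
  exact Groth.Agent.EtpbcA.StrataGlob.isConstructible_of_iso (e2.symm ≪≫ e1) key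

end Groth.Agent.S8590
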