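import Groth.Statements.S8591
import Mathlib.RingTheory.Polynomial.Resultant.Basic
import Mathlib.LinearAlgebra.Matrix.Charpoly.Minpoly
import Mathlib.LinearAlgebra.Matrix.Charpoly.Eigs
import Mathlib.FieldTheory.IsAlgClosed.AlgebraicClosure
import Mathlib.RingTheory.Localization.FractionRing
import Mathlib.RingTheory.AdjoinRoot
import Mathlib.RingTheory.Norm.Defs
import Mathlib.LinearAlgebra.Charpoly.ToMatrix

set_option autoImplicit false
universe u
open CAlg

namespace Groth.Agent.S8591

open Polynomial

/-- over an algebraically closed field -/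
theorem det_aeval_field {K : Type*} [Field K] [IsAlgClosed K] {n : ℕ}
    (A : Matrix (Fin n) (Fin n) K) (P : K[X]) :
    (aeval A P).det = (A.charpoly.roots.map P.eval).prod := by
  have hsp : A.charpoly.Splits := IsAlgClosed.splits _
  have hcard : Multiset.card A.charpoly.roots = n := by
    rw [← hsp.natDegree_eq_card_roots, Matrix.charpoly_natDegree_eq_dim, Fintype.card_fin]
  have hlin : ∀ μ : K, (aeval A (X - C μ)).det =
      (A.charpoly.roots.map (X - C μ).eval).prod := by
    intro μ
    have h1 : aeval A (X - C μ) = A - Matrix.scalar (Fin n) μ := by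
      rw [map_sub, aeval_X, aeval_C]; rfl
    rw [h1]
    have h2 : A.charpoly.eval μ = (Matrix.scalar (Fin n) μ - A).det := Matrix.eval_charpoly _ _
    have h3 : (A - Matrix.scalar (Fin n) μ).det = (-1) ^ n * A.charpoly.eval μ := by
      rw [h2, ← neg_sub, Matrix.det_neg, Fintype.card_fin]
    rw [h3]
    conv_lhs => rw [hsp.eq_prod_roots_of_monic (Matrix.charpoly_monic A)]
    rw [eval_multiset_prod, Multiset.map_map]
    have h4 : ((-1 : K)) ^ n = (A.charpoly.roots.map (fun _ => (-1 : K))).prod := by
      rw [Multiset.map_const', Multiset.prod_replicate, hcard]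
    rw [h4, ← Multiset.prod_map_mul]
    congr 1
    apply Multiset.map_congr rfl
    intro x _
    simp
  have hP : P.Splits := IsAlgClosed.splits _
  rw [hP.eq_prod_roots]
  generalize P.roots = s
  generalize P.leadingCoeff = c
  induction s using Multiset.induction_on with
  | empty =>
    simp only [Multiset.map_zero, Multiset.prod_zero, mul_one, aeval_C, eval_C,
      Multiset.map_const', Multiset.prod_replicate, hcard]
    have : algebraMap K (Matrix (Fin n) (Fin n) K) c = Matrix.scalar (Fin n) c := rfl
    rw [this, Matrix.scalar_apply, Matrix.det_diagonal]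
    simp
  | cons a s ih =>
    rw [Multiset.map_cons, Multiset.prod_cons, mul_left_comm, map_mul, Matrix.det_mul, hlin, ih,
      ← Multiset.prod_map_mul]
    congr 1
    apply Multiset.map_congr rfl
    intro x _
    simp only [eval_mul]

/-- naturality -/
theorem nat_aux {n : ℕ} {m : ℕ} {R S : Type*} [CommRing R] [CommRing S] (φ : R →+* S)
    (A : Matrix (Fin n) (Fin n) R) (P : R[X]) :
    (aeval (φ.mapMatrix A) (P.map φ)).det = φ (aeval A P).det ∧
      resultant (φ.mapMatrix A).charpoly (P.map φ) n m = φ (resultant A.charpoly P n m) := by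
  let ψ : Matrix (Fin n) (Fin n) R →+* Matrix (Fin n) (Fin n) S := φ.mapMatrix
  have h : ψ (aeval A P) = aeval (ψ A) (P.map φ) := by
    refine Polynomial.map_aeval_eq_aeval_map (φ := φ) (ψ := ψ) ?_ P A
    ext a i j
    simp [ψ, Matrix.algebraMap_matrix_apply, apply_ite φ]
  constructor
  · rw [RingHom.map_det]
    exact congrArg Matrix.det h.symm
  · rw [RingHom.mapMatrix_apply, Matrix.charpoly_map, resultant_map_map]

/-- The universal formula. -/
theorem det_aeval {k : Type*} [CommRing k] {n : ℕ}
    (A : Matrix (Fin n) (Fin n) k) (P : k[X]) (m : ℕ) (hP : P.natDegree ≤ m) :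
    (aeval A P).det = resultant A.charpoly P n m := by
  let U := MvPolynomial ((Fin n × Fin n) ⊕ Fin (m + 1)) ℤ
  let AU : Matrix (Fin n) (Fin n) U := Matrix.of fun i j => MvPolynomial.X (Sum.inl (i, j))
  let PU : U[X] := ∑ l : Fin (m + 1), C (MvPolynomial.X (Sum.inr l)) * X ^ (l : ℕ)
  have hPU : PU.natDegree ≤ m := by
    refine natDegree_sum_le_of_forall_le _ _ fun l _ => ?_
    exact (natDegree_C_mul_X_pow_le _ _).trans (Nat.le_of_lt_succ l.2)
  let F := AlgebraicClosure (FractionRing U)
  let ι : U →+* F := (algebraMap (FractionRing U) F).comp (algebraMap U (FractionRing U))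
  have hι : Function.Injective ι :=
    (algebraMap (FractionRing U) F).injective.comp (IsFractionRing.injective U (FractionRing U))
  have hU : (aeval AU PU).det = resultant AU.charpoly PU n m := by
    apply hι
    rw [← (nat_aux (m := m) ι AU PU).1, ← (nat_aux (m := m) ι AU PU).2, det_aeval_field]
    have h1 : (ι.mapMatrix AU).charpoly.natDegree = n := by
      rw [Matrix.charpoly_natDegree_eq_dim, Fintype.card_fin]
    have h2 := resultant_eq_prod_eval (ι.mapMatrix AU).charpoly (PU.map ι) m
      (natDegree_map_le.trans hPU) (IsAlgClosed.splits _)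
    rw [h1] at h2
    rw [h2, (Matrix.charpoly_monic _).leadingCoeff, one_pow, one_mul]
  let φ : U →+* k := MvPolynomial.eval₂Hom (Int.castRingHom k)
    (Sum.elim (fun ij => A ij.1 ij.2) (fun l => P.coeff l))
  have hφX : ∀ x, φ (MvPolynomial.X x) =
      (Sum.elim (fun ij : Fin n × Fin n => A ij.1 ij.2) (fun l : Fin (m + 1) => P.coeff l)) x :=
    fun x => MvPolynomial.eval₂Hom_X' _ _ x
  have hA : φ.mapMatrix AU = A := by
    ext i j
    exact hφX (Sum.inl (i, j))
  have hP' : PU.map φ = P := by
    rw [P.as_sum_range' (m + 1) (Nat.lt_succ_of_le hP), Polynomial.map_sum,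
      Finset.sum_range (fun i => monomial i (P.coeff i))]
    refine Finset.sum_congr rfl fun l _ => ?_
    rw [Polynomial.map_mul, Polynomial.map_C, Polynomial.map_pow, Polynomial.map_X, hφX,
      C_mul_X_pow_eq_monomial]
    rfl
  rw [← hA, ← hP', (nat_aux (m := m) φ AU PU).1, (nat_aux (m := m) φ AU PU).2, hU]

theorem linDet_aeval {k : Type*} [CommRing k] [Nontrivial k] (M : Type*) [AddCommGroup M]
    [Module k M] [Module.Free k M] [Module.Finite k M] (u : M →ₗ[k] M) (P : k[X]) :
    LinearMap.det (aeval u P) =
      resultant u.charpoly P (Module.finrank k M) P.natDegree := by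
  let b := Module.finBasis k M
  have h1 : LinearMap.det (aeval u P) = (LinearMap.toMatrix b b (aeval u P)).det :=
    (LinearMap.det_toMatrix b _).symm
  have h2 : LinearMap.toMatrix b b (aeval u P) = aeval (LinearMap.toMatrix b b u) P := by
    have := Polynomial.aeval_algHom_apply (LinearMap.toMatrixAlgEquiv b).toAlgHom u P
    exact this.symm
  rw [h1, h2, det_aeval _ P P.natDegree le_rfl, LinearMap.charpoly_toMatrix]

/-- Let k be a commutative ring, M a finite free k-module, u an endomorphism of M with characteristic
polynomial χ, and P a polynomial over k. Then the norm, from the k-algebra k[T]/(χ) (free of rank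
the rank of M) down to k, of the class of P(T) equals det(P(u)). (The published statement writes the
quotient by det(u - T), which generates the same ideal as χ(T) = det(T - u).) -/
theorem result (k : Type u) [CommRing k] (M : Type u) [AddCommGroup M] [Module k M]
    [Module.Free k M] [Module.Finite k M] (u : M →ₗ[k] M) (P : Polynomial k) :
    Algebra.norm k (AdjoinRoot.mk u.charpoly P) = LinearMap.det (Polynomial.aeval u P) := by
  cases subsingleton_or_nontrivial k
  · exact Subsingleton.elim _ _
  have hmon : u.charpoly.Monic := LinearMap.charpoly_monic u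
  let pb := AdjoinRoot.powerBasis' hmon
  haveI : Module.Free k (AdjoinRoot u.charpoly) := Module.Free.of_basis pb.basis
  haveI : Module.Finite k (AdjoinRoot u.charpoly) := pb.finite
  have hrank : Module.finrank k (AdjoinRoot u.charpoly) = Module.finrank k M := by
    rw [pb.finrank, AdjoinRoot.powerBasis'_dim, LinearMap.charpoly_natDegree]
  let c : AdjoinRoot u.charpoly →ₗ[k] AdjoinRoot u.charpoly :=
    Algebra.lmul k _ (AdjoinRoot.root u.charpoly)
  have hc : Algebra.norm k (AdjoinRoot.mk u.charpoly P) = LinearMap.det (aeval c P) := by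
    rw [Algebra.norm_apply]
    congr 1
    have h1 : aeval c P = Algebra.lmul k _ (aeval (AdjoinRoot.root u.charpoly) P) :=
      Polynomial.aeval_algHom_apply (Algebra.lmul k (AdjoinRoot u.charpoly)) _ P
    rw [h1, AdjoinRoot.aeval_eq]
  have hchar : c.charpoly = u.charpoly := by
    have h1 : aeval (AdjoinRoot.root u.charpoly) c.charpoly = 0 := by
      have h2 : Algebra.lmul k _ (aeval (AdjoinRoot.root u.charpoly) c.charpoly) = 0 := by
        rw [← Polynomial.aeval_algHom_apply]
        exact LinearMap.aeval_self_charpoly c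
      have h3 := congrArg (fun f => f 1) h2
      simpa using h3
    rw [AdjoinRoot.aeval_eq, AdjoinRoot.mk_eq_zero] at h1
    refine (Polynomial.eq_of_monic_of_dvd_of_natDegree_le hmon (LinearMap.charpoly_monic c) h1 ?_)
    rw [LinearMap.charpoly_natDegree, LinearMap.charpoly_natDegree, hrank]
  rw [hc, linDet_aeval, linDet_aeval, hchar, hrank]

end Groth.Agent.S8591
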