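import Groth.Statements.S8593
import Groth.Agent.EtDl.K391.Hens

set_option autoImplicit false
universe u
open CategoryTheory CategoryTheory.Limits AlgebraicGeometry Opposite
open EtDl

namespace Groth.Agent.S8593

/-- Let A be a henselian excellent local ring containing Q, with residue field k and dim A ≤ d, U an
affine open subscheme of Spec A, and ℓ a prime with cd_ℓ(k) ≤ e (every ℓ-torsion abelian sheaf on
(Spec k)_et has vanishing cohomology above degree e). Then cd_ℓ(U) ≤ e + d. (The published
statement, cd_ℓ U ≤ cd_ℓ k + dim A, is for henselian excellent rings of equal characteristic; its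
proof rests on results assuming resolution of singularities for excellent schemes, available in
characteristic zero; hence the restriction to Q-algebras.) -/
theorem result
    (A : Type u) [CommRing A] [HenselianLocalRing A] [Algebra ℚ A] (hA : EGA4.IsExcellent A)
    (d : ℕ) (hd : ringKrullDim A ≤ d)
    (U : (Spec (CommRingCat.of A)).Opens) (hU : IsAffineOpen U)
    (ℓ : ℕ) (hℓ : ℓ.Prime) (e : ℕ)
    (hk : EtDepth.CohDimLLE (Spec (CommRingCat.of (IsLocalRing.ResidueField A))) ℓ e) :
    EtDepth.CohDimLLE (↑U : Scheme.{u}) ℓ (e + d) := by
  have h1 : IsAffine (↑U : Scheme.{u}) := hU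
  exact Groth.Agent.EtDl.K391.Hens.cohDimLEAt_affine A hA.2.2.1 d hd U.ι ℓ hℓ.pos e hk

end Groth.Agent.S8593
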