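import Groth.Statements.S8594
import Groth.Agent.EtDl.K391.Hens
import Groth.Agent.EtDl.K391.Frac
import Groth.Agent.EtDl.K391.SumSq
import Groth.Agent.S3487

set_option autoImplicit false
universe u
open CategoryTheory CategoryTheory.Limits AlgebraicGeometry Opposite
open EtDl

namespace Groth.Agent.S8594

/-- In characteristic zero, for a domain: let A be a henselian excellent local domain containing Q, of
dimension d, with residue field k and field of fractions K, and ℓ a prime. Then cd_ℓ(K) ≤ cd_ℓ(k) +
d: for every e, if every ℓ-torsion abelian sheaf on (Spec k)_et has vanishing cohomology above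
degree e then every ℓ-torsion abelian sheaf on (Spec K)_et has vanishing cohomology above degree e +
d. If moreover ℓ ≠ 2 or k is not orderable (-1 is a sum of squares in k), equality holds: cd_ℓ(K) ≤
e + d implies cd_ℓ(k) ≤ e. (The published statement is for henselian excellent rings of equal
characteristic, with the ring of rational functions of Spec A and ℓ invertible in k for the
equality; its proof rests on results assuming resolution of singularities for excellent schemes,
available in characteristic zero; hence the restriction to Q-algebras, and to domains so that the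
ring of rational functions is the fraction field.) -/
theorem result
    (A : Type u) [CommRing A] [IsDomain A] [HenselianLocalRing A] [Algebra ℚ A] (hA : EGA4.IsExcellent A)
    (d : ℕ) (hd : ringKrullDim A = d) (ℓ : ℕ) (hℓ : ℓ.Prime) :
    (∀ e : ℕ, EtDepth.CohDimLLE (Spec (CommRingCat.of (IsLocalRing.ResidueField A))) ℓ e →
        EtDepth.CohDimLLE (Spec (CommRingCat.of (FractionRing A))) ℓ (e + d)) ∧
    ((ℓ ≠ 2 ∨ ∃ l : List (IsLocalRing.ResidueField A), (l.map (fun a => a * a)).sum = -1) →
      ∀ e : ℕ, EtDepth.CohDimLLE (Spec (CommRingCat.of (FractionRing A))) ℓ (e + d) →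
        EtDepth.CohDimLLE (Spec (CommRingCat.of (IsLocalRing.ResidueField A))) ℓ e) := by
  have hu : ∀ n : ℕ, 0 < n → IsUnit (n : A) := fun n hn => by
    have h1 : IsUnit ((n : ℕ) : ℚ) := isUnit_iff_ne_zero.2 (Nat.cast_ne_zero.2 hn.ne')
    have h2 := h1.map (algebraMap ℚ A)
    rwa [map_natCast] at h2
  have hNA : IsNoetherianRing A := hA.1
  refine ⟨fun e hk => Groth.Agent.EtDl.K391.Frac.cohDimLEAt_fractionRing A ℓ (e + d) fun g _ =>
    Groth.Agent.EtDl.K391.Hens.cohDimLEAt_affine A hA.2.2.1 d hd.le
      (Spec.map (CommRingCat.ofHom (algebraMap A (Localization.Away g)))) ℓ hℓ.pos e hk, ?_⟩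
  intro hord e h
  have key := Groth.Agent.S3487.result A ℓ hℓ (hu ℓ hℓ.pos) ?_ d hd (e + d) ?_
  · have h2 := key.2
    rw [Nat.add_sub_cancel] at h2
    exact h2
  · refine hord.imp id ?_
    rintro ⟨l, hl⟩ p
    obtain ⟨l', hl'⟩ := Groth.Agent.EtDl.K391.SumSq.exists_lift A (by exact_mod_cast hu 2 two_pos) l hl
    exact Groth.Agent.EtDl.K391.SumSq.not_orderable
      ((algebraMap (A ⧸ p.asIdeal) (FractionRing (A ⧸ p.asIdeal))).comp (Ideal.Quotient.mk p.asIdeal)) l' hl'
  · intro P hP
    rw [IsDomain.minimalPrimes_eq_singleton_bot] at hP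
    obtain rfl : P = ⊥ := hP
    let e0 : A ≃+* (A ⧸ (⊥ : Ideal A)) := (RingEquiv.quotientBot A).symm
    let e3 : FractionRing A ≃+* FractionRing (A ⧸ (⊥ : Ideal A)) :=
      IsFractionRing.ringEquivOfRingEquiv e0
    exact Groth.Agent.Etbc.H227.CdIso.cohDimLEAt_of_ringEquiv e3 ℓ (e + d) h

end Groth.Agent.S8594
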