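import Groth.Statements.S8601
import Groth.Agent.EtDl.K313.LocCert
import Groth.Agent.EtDl.K556.LeafFin
import Groth.Agent.EtDl.K556.SpreadFin
import Groth.Agent.EtDl.K556.Weier
import Groth.Agent.EtDl.K852.AbhD
import Groth.Agent.EtDl.K852.FiniteStepMain

set_option autoImplicit false
universe u
open CategoryTheory CategoryTheory.Limits AlgebraicGeometry Opposite
open EtDl

namespace Groth.Agent.S8601

/-- The Abhyankar splitting. -/
theorem abhHyp : K556.Split.AbhHyp.{u} := by
  intro R _ ι _ z hQ h E _ _ _ _ p
  exact K852.AbhD.abhSplit hQ h E p

/-- Kummer extensions. -/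
theorem kumHyp : K556.Split.KumHyp.{u} := by
  intro R _ ι _ z n hn hu h
  exact K852.FiniteStepMain.snc_kum h n hn (hu n (by omega))

/-- Certificates over complete local domains. -/
theorem locCert : K555.FinAsm.LocCert.{u} := by
  intro O _ _ _ _ _ _ V0 hV0
  exact K313.LocCert.loc_cert (fun A _ _ w d V hw hd hV h => K556.Weier.weier_step abhHyp kumHyp A w d V hw hd hV h)
    (fun X V h X1 hX g _ _ => K852.FiniteStepMain.finite_step X V h X1 hX g) O V0 hV0

/-- Let S be a locally Noetherian scheme over Q all of whose affine opens have excellent coordinate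
rings, f : X -> S a morphism of finite type (so X is excellent as well), and F a constructible
abelian sheaf on X_et killed by some integer n ≥ 1. Then R^q f_* F is constructible for every q.
(The published statement is for morphisms of finite type between excellent schemes of equal
characteristic and constructible torsion sheaves prime to the characteristic; its proof assumes
resolution of singularities for excellent schemes, available in characteristic zero; hence the
restriction to Q-schemes.) -/
theorem result {X S : Scheme.{u}} [IsLocallyNoetherian S]
    (qS : S ⟶ Spec (CommRingCat.of (ULift.{u} ℚ)))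
    (hexc : ∀ V : S.affineOpens, EGA4.IsExcellent Γ(S, V.1))
    (f : X ⟶ S) [LocallyOfFiniteType f] [QuasiCompact f]
    (F : EtCoh.Ab X) (hF : EtPBC.IsConstructible F) (n : ℕ) (hn : 0 < n) (hFn : EtCoh.KilledBy n F) (q : ℕ) :
    EtPBC.IsConstructible ((EtCoh.Rpush f q).obj F) :=
  K555.FinAsm.main (K555.FinAsm.finUpTo K556.LeafFin.leafHyp K556.SpreadFin.spreadCert locCert) qS hexc f F hF n hn
    hFn q

end Groth.Agent.S8601
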