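import Groth.Statements.S8602
import Groth.Agent.EtDl.K556.FinCpl

set_option autoImplicit false
universe u
open CategoryTheory CategoryTheory.Limits AlgebraicGeometry Opposite
open EtDl

namespace Groth.Agent.S8602

/-- Let A be an excellent strictly henselian local ring containing Q, f : X -> Spec A a morphism of
finite type, and F a constructible abelian sheaf on X_et killed by some integer n ≥ 1. Then
H^q(X_et, F) is a finite group for every q. (The published statement is for excellent strictly local
rings of equal characteristic and constructible torsion sheaves prime to the characteristic; its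
proof rests on the constructibility of higher direct images, which assumes resolution of
singularities for excellent schemes, available in characteristic zero; hence the restriction to
Q-algebras.) -/
theorem result
    (A : Type u) [CommRing A] [IsLocalRing A] [Algebra ℚ A] (hA : EGA4.IsExcellent A)
    (hsh : EtCoh.IsStrictlyHenselianLocalRing A)
    {X : Scheme.{u}} (f : X ⟶ Spec (CommRingCat.of A)) [LocallyOfFiniteType f] [QuasiCompact f]
    (F : EtCoh.Ab X) (hF : EtPBC.IsConstructible F) (n : ℕ) (hn : 0 < n) (hFn : EtCoh.KilledBy n F) (q : ℕ) :
    Finite (EtCoh.H X F q) := by
  obtain ⟨hN, -, hG, -⟩ := hA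
  obtain ⟨hh, hs⟩ := hsh
  exact K556.FinCpl.finite_H_of_completion A
    ((Groth.Agent.CalgB.GRing2.isGRing_iff_of_isLocalRing A).1 hG) f F hF n hn hFn q

end Groth.Agent.S8602
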