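import Groth.Statements.S8605
import Groth.Agent.Etdl.H433.SuppVanish
import Groth.Agent.Cohder.RDLES
import Groth.Agent.Etrest.TorsEt

set_option autoImplicit false
universe u
open CategoryTheory CategoryTheory.Limits AlgebraicGeometry Opposite
open EtDl

namespace Groth.Agent.S8605

/-- Let f : X -> S be a morphism of quasi-compact quasi-separated schemes with a compactification c (f =
j followed by the proper fbar), all of whose fibres have dimension at most d. Then the functor
R^{2d} f_!, computed through c as F ↦ R^{2d} fbar_* (j_! F), is right exact on torsion abelian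
sheaves; stated here as: for every epimorphism φ : F -> G of torsion abelian sheaves on X_et, the
map R^{2d} fbar_*(j_! φ) is an epimorphism. (The published statement also asserts that R^i f_! F
vanishes for i > 2d.) -/
theorem result {X S : Scheme.{u}} [CompactSpace ↥X] [QuasiSeparatedSpace ↥X]
    [CompactSpace ↥S] [QuasiSeparatedSpace ↥S]
    {f : X ⟶ S} (c : DEt.Compactification f) (d : ℕ)
    (hdim : ∀ s : S, topologicalKrullDim ↥(f.fiber s) ≤ d)
    {F G : EtCoh.Ab X} (hF : EtCoh.IsTorsion F) (hG : EtCoh.IsTorsion G) (φ : F ⟶ G) [Epi φ] :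
    Epi ((EtCoh.Rpush c.fbar (2 * d)).map ((EtShriek.extZero c.j).map φ)) := by
  let T : ShortComplex (EtCoh.Ab X) := ShortComplex.mk (kernel.ι φ) φ (kernel.condition φ)
  have hT : T.ShortExact :=
    { exact := ShortComplex.exact_of_f_is_kernel _ (kernelIsKernel φ)
      mono_f := inferInstanceAs (Mono (kernel.ι φ))
      epi_g := inferInstanceAs (Epi φ) }
  have hT' : (T.map (EtShriek.extZero c.j)).ShortExact := hT.map_of_exact _
  have hK : EtCoh.IsTorsion (kernel φ) := Groth.Agent.Etrest.TorsEt.isTorsion_of_mono (kernel.ι φ) hF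
  have h1 : IsZero ((EtCoh.Rpush c.fbar (2 * d + 1)).obj ((EtShriek.extZero c.j).obj (kernel φ))) :=
    Groth.Agent.S3110.result c.j c.fbar d (fun s => by rw [c.fac]; exact hdim s) _ hK _ (by omega)
  obtain ⟨-, hmid, δ, hδ⟩ := Groth.Agent.Cohder.RDLES.exists_les (EtCoh.push c.fbar) hT'
  obtain ⟨w₁, w₂, hex, -⟩ := hδ (2 * d)
  exact hex.epi_f (h1.eq_of_tgt _ _)

end Groth.Agent.S8605
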