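import Groth.Statements.S8606
import Mathlib.Algebra.Field.ULift
import Groth.Agent.EtDl.K556.PurityLC
import Groth.Agent.Etdl.H428.RegBC
import Groth.Agent.CalgB.RegHom7
import Groth.Agent.Sga4B.PurityMainB
import Groth.Agent.Sga4B.PureComp
import Groth.Agent.EtpbcB.TorsionBasic

set_option autoImplicit false
universe u
open CategoryTheory CategoryTheory.Limits AlgebraicGeometry Opposite
open EtDl

namespace Groth.Agent.S8606

open K556.PurityLC K556.RegMap Groth.Agent.Sga4B.LocCohLocal

theorem charZero_ulift : CharZero (ULift.{u} ℚ) :=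
  ⟨fun a b h => by
    have h1 : ((a : ULift.{u} ℚ)).down = ((b : ULift.{u} ℚ)).down := congrArg ULift.down h
    have h2 : (a : ℚ) = (b : ℚ) := h1
    exact_mod_cast h2⟩

theorem isUnit_of_ringHom {B : Type u} [CommRing B] (α : ULift.{u} ℚ →+* B) (n : ℕ) (hn : 0 < n) :
    IsUnit (n : B) := by
  have := charZero_ulift.{u}
  have h0 : ((n : ℕ) : ULift.{u} ℚ) ≠ 0 := Nat.cast_ne_zero.mpr hn.ne'
  have h1 := (isUnit_iff_ne_zero.mpr h0).map α
  rwa [map_natCast] at h1

theorem isTorsionInvertibleOn_of_killedBy {S T : Scheme.{u}} {F : EtCoh.Ab T} {n : ℕ}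
    (hn : IsUnit (n : Γ(S, ⊤))) (hF : EtCoh.KilledBy n F) : EtPBC.IsTorsionInvertibleOn S F :=
  fun U _ x => ⟨U, 𝟙 U, n, ⟨x, rfl⟩, hn, hF U _⟩

theorem locBC_of_isRegularHom {R L : Type u} [CommRing R] [CommRing L] [IsNoetherianRing R]
    [IsNoetherianRing L] [Algebra R L] (h : CAlg.IsRegularHom R L) (n : ℕ) (hn : IsUnit (n : R)) :
    LocBC n (Spec.map (CommRingCat.ofHom (algebraMap R L))) := by
  apply locBC_of_bc
  intro U₀ U' j₀ _ j _ g' sq
  have hu : IsUnit (n : Γ(Spec (CommRingCat.of R), ⊤)) := by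
    have := hn.map (Scheme.ΓSpecIso (CommRingCat.of R)).inv.hom
    rwa [map_natCast] at this
  have hF : EtPBC.IsTorsionInvertibleOn (Spec (CommRingCat.of R))
      ((EtCoh.pull j₀).obj (EtCoh.const (Spec (CommRingCat.of R)) (ZMod n))) := by
    refine isTorsionInvertibleOn_of_killedBy hu ?_
    exact Sga4B.Pure.killedBy_of_iso (Sga4B.Pure.pullConst j₀ (ZMod n)).symm
      (EtpbcB.TorsionBasic.killedBy_const (ZMod n) n (fun m => by simp))
  exact ⟨fun q => (Etdl.H428.RegBC.baseChange_of_isRegularHom h j₀ j g' sq _ hF q).1,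
    (Etdl.H428.RegBC.baseChange_of_isRegularHom h j₀ j g' sq _ hF 0).2⟩

/-- Cohomological purity: the local constancy assertion, in characteristic zero: let X be a locally
Noetherian scheme over Q all of whose local rings are regular and all of whose affine opens have
excellent coordinate rings; let i : Y -> X be a closed immersion with Y regular, j : U -> X the open
immersion of the complement, and c ≥ 1 with dim O_{X,y} = dim O_{Y,y} + c at every point y of Y; let
n ≥ 1. Then the sheaf i^* H^{2c}_Y(X, Z/n) on Y_et is locally constant with value Z/n: there is a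
jointly surjective family of etale Y-schemes (V_a) such that the restriction of i^* H^{2c}_Y(X, Z/n)
to each V_a is isomorphic to the constant sheaf Z/n. (The published statement allows any sheaf
locally isomorphic to Z/n as coefficients, on excellent schemes of equal characteristic with n prime
to the characteristic, and its proof assumes resolution of singularities for excellent schemes,
available in characteristic zero; hence the restriction to Q-schemes.) -/
theorem result {X Y U : Scheme.{u}} [IsLocallyNoetherian X]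
    (qX : X ⟶ Spec (CommRingCat.of (ULift.{u} ℚ)))
    (hreg : ∀ x : X, IsRegularLocalRing (X.presheaf.stalk x))
    (hexc : ∀ V : X.affineOpens, EGA4.IsExcellent Γ(X, V.1))
    (i : Y ⟶ X) [IsClosedImmersion i] [EtCoh.BCCont i] (hYreg : ∀ y : Y, IsRegularLocalRing (Y.presheaf.stalk y))
    (j : U ⟶ X) [IsOpenImmersion j] [EtCoh.BCCont j] (hij : Set.range j.base = (Set.range i.base)ᶜ)
    (c : ℕ) (hc : 0 < c)
    (hcodim : ∀ y : Y, ringKrullDim (X.presheaf.stalk (i.base y)) = ringKrullDim (Y.presheaf.stalk y) + c)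
    (n : ℕ) (hn : 0 < n) :
    ∃ (ι : Type u) (V : ι → Y.Etale), EtCoh.Covers V ∧ ∀ a : ι,
      Nonempty (EtCoh.restr ((EtCoh.pull i).obj ((EtDual.locCoh j (2 * c)).obj (EtCoh.const X (ZMod n)))) (V a) ≅
        (constantSheaf (Y.smallEtaleTopology.over (V a)) AddCommGrpCat.{u + 1}).obj
          (AddCommGrpCat.of (ULift.{u + 1} (ZMod n)))) := by
  have hn0 : NeZero n := ⟨hn.ne'⟩
  have hQ := charZero_ulift.{u}
  apply exists_cover
  refine Sga4B.Pure.locIso_of_local_pull fun y => ?_
  obtain ⟨B, _, hBN, x, g, hg, h, hhe, hh, hy, hr, hreg⟩ :=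
    K556.ChartC.exists_chart i hreg hYreg c hcodim y
  obtain ⟨α, hα⟩ := Spec.map_surjective (g ≫ qX)
  have hφ : ∃ φ : MvPolynomial (Fin c) (ULift.{u} ℚ) →+* B, x = fun a => φ (MvPolynomial.X a) :=
    ⟨MvPolynomial.eval₂Hom α.hom x, by funext a; exact (MvPolynomial.eval₂Hom_X' _ _ _).symm⟩
  obtain ⟨φ, rfl⟩ := hφ
  obtain ⟨w, hw⟩ := hy
  have hBn : IsUnit (n : B) := isUnit_of_ringHom α.hom n hn
  have hkn : IsUnit (n : ULift.{u} ℚ) := isUnit_of_ringHom (RingHom.id _) n hn
  have hkX : IsUnit (n : MvPolynomial (Fin c) (ULift.{u} ℚ)) := isUnit_of_ringHom MvPolynomial.C n hn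
  have hN : IsNoetherianRing (Bl (ULift.{u} ℚ) φ) :=
    IsLocalization.isNoetherianRing (onePlus (Ic (ULift.{u} ℚ) φ)) _ hBN
  refine ⟨_, h, hhe, w, hw, Sga4B.Pure.LocIso.of_iso_right
    (locIso_chart i j hij (ULift.{u} ℚ) φ g h hh hr n hc ?_ ?_ ?_) (Sga4B.Pure.pullConst h (ZMod n)).symm⟩
  · exact Sga4B.PureTower.tower (Sga4B.PurityMainB.stmtLine n) (Sga4B.PureComp.stmtComp n) c _ hkn
  · exact locBC_of_isRegularHom (CalgB.RegHom7.isRegularHom_of_isLocalization (Bl (ULift.{u} ℚ) φ)
      (onePlus (Ic (ULift.{u} ℚ) φ))) n hBn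
  · let iA : Algebra (MvPolynomial (Fin c) (ULift.{u} ℚ)) (Bl (ULift.{u} ℚ) φ) :=
      ((algebraMap B (Bl (ULift.{u} ℚ) φ)).comp φ).toAlgebra
    exact locBC_of_isRegularHom (isRegularHom_onePlus (ULift.{u} ℚ) B φ hreg) n hkX

end Groth.Agent.S8606
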