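import Groth.Statements.S8607
import Mathlib.AlgebraicGeometry.Morphisms.Separated

set_option autoImplicit false
universe u
open CategoryTheory CategoryTheory.Limits AlgebraicGeometry Opposite
open DEt

namespace Groth.Agent.S8607

/-- The equalizing half of 'the category of compactifications of f is cofiltering': let f : X -> Y be a
morphism of quasi-compact quasi-separated schemes, (Xbar_1, j_1, fbar_1) and (Xbar_2, j_2, fbar_2)
two compactifications of f, and r, s : Xbar_1 -> Xbar_2 two morphisms of compactifications (r ∘ j_1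
= j_2 = s ∘ j_1 and fbar_2 ∘ r = fbar_1 = fbar_2 ∘ s). Then there are a compactification (Xbar, j,
fbar) of f and a proper morphism t : Xbar -> Xbar_1 of compactifications (t ∘ j = j_1, fbar_1 ∘ t =
fbar) with r ∘ t = s ∘ t. -/
theorem result {X Y : Scheme.{u}} [CompactSpace ↥X] [QuasiSeparatedSpace ↥X]
    [CompactSpace ↥Y] [QuasiSeparatedSpace ↥Y] {f : X ⟶ Y} (c₁ c₂ : DEt.Compactification f)
    (r s : c₁.Xbar ⟶ c₂.Xbar) (hr : c₁.j ≫ r = c₂.j) (hs : c₁.j ≫ s = c₂.j)
    (hr' : r ≫ c₂.fbar = c₁.fbar) (hs' : s ≫ c₂.fbar = c₁.fbar) :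
    ∃ (c : DEt.Compactification f) (t : c.Xbar ⟶ c₁.Xbar), IsProper t ∧ c.j ≫ t = c₁.j ∧ t ≫ c₁.fbar = c.fbar ∧
      t ≫ r = t ≫ s := by
  let d : c₂.Xbar ⟶ pullback c₂.fbar c₂.fbar := pullback.diagonal c₂.fbar
  have hd : IsClosedImmersion d := inferInstanceAs (IsClosedImmersion (pullback.diagonal c₂.fbar))
  let l : c₁.Xbar ⟶ pullback c₂.fbar c₂.fbar := pullback.lift r s (hr'.trans hs'.symm)
  let E := pullback l d
  let t : E ⟶ c₁.Xbar := pullback.fst l d
  have ht : IsClosedImmersion t := inferInstanceAs (IsClosedImmersion (pullback.fst l d))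
  have hl1 : l ≫ pullback.fst c₂.fbar c₂.fbar = r := pullback.lift_fst _ _ _
  have hl2 : l ≫ pullback.snd c₂.fbar c₂.fbar = s := pullback.lift_snd _ _ _
  have hd1 : d ≫ pullback.fst c₂.fbar c₂.fbar = 𝟙 _ := pullback.diagonal_fst _
  have hd2 : d ≫ pullback.snd c₂.fbar c₂.fbar = 𝟙 _ := pullback.diagonal_snd _
  have htl : t ≫ l = pullback.snd l d ≫ d := pullback.condition
  have htr : t ≫ r = pullback.snd l d := by
    rw [← hl1, reassoc_of% htl, hd1, Category.comp_id]
  have hts : t ≫ s = pullback.snd l d := by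
    rw [← hl2, reassoc_of% htl, hd2, Category.comp_id]
  let k : X ⟶ E := pullback.lift c₁.j c₂.j (by
    apply pullback.hom_ext
    · rw [Category.assoc, Category.assoc, hl1, hd1, hr, Category.comp_id]
    · rw [Category.assoc, Category.assoc, hl2, hd2, hs, Category.comp_id])
  have hk : k ≫ t = c₁.j := pullback.lift_fst _ _ _
  have hmono : Mono t := inferInstance
  have sq : IsPullback (𝟙 X) k c₁.j t := by
    refine ⟨⟨by rw [hk, Category.id_comp]⟩, ⟨PullbackCone.IsLimit.mk _ (fun c => c.fst) (fun c => Category.comp_id _)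
      (fun c => ?_) (fun c m h1 _ => by rw [← h1, Category.comp_id])⟩⟩
    rw [← cancel_mono t, Category.assoc, hk]
    exact c.condition
  have hko : IsOpenImmersion k := MorphismProperty.of_isPullback sq c₁.isOpenImmersion
  exact ⟨⟨E, k, t ≫ c₁.fbar, hko, inferInstance, by rw [reassoc_of% hk, c₁.fac]⟩, t, inferInstance, hk,
    rfl, htr.trans hts.symm⟩

end Groth.Agent.S8607
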