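import Groth.Statements.S8608
import Groth.Agent.Lefpen.H20.FinFT

set_option autoImplicit false
universe u
open CategoryTheory CategoryTheory.Limits AlgebraicGeometry
open SGA4h

namespace Groth.Agent.S8608

/-- Let k be a separably closed field, n a natural number invertible in k, X a scheme of finite type
over k and F a constructible abelian sheaf on the small etale site of X killed by n. Then H^i(X, F)
is finite for every i. -/
theorem result {k : Type u} [Field k] [IsSepClosed k]
    {X : Scheme.{u}} (f : X ⟶ Spec (CommRingCat.of k)) [LocallyOfFiniteType f] [QuasiCompact f]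
    (n : ℕ) (hn : IsUnit (n : k)) (F : EtCoh.Ab X) (hF : EtPBC.IsConstructible F)
    (hFn : EtCoh.KilledBy n F) (i : ℕ) :
    Finite (EtCoh.H X F i) := by
  exact Groth.Agent.Lefpen.H20.FinFT.finite_field f n hn.ne_zero F hF hFn i

end Groth.Agent.S8608
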