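import Groth.Statements.S8610
import Groth.Agent.S0690
import Groth.Agent.S0727
import Groth.Agent.Sga4h.H407.HcComp
import Groth.Agent.EtpbcA.ArtinP1

set_option autoImplicit false
universe u
open CategoryTheory CategoryTheory.Limits AlgebraicGeometry
open SGA4h

namespace Groth.Agent.S8610

/-- Let j₁ : X → P₁ and j₂ : X → P₂ be open immersions of quasi-compact quasi-separated schemes and p :
P₂ → P₁ a proper morphism with p ∘ j₂ = j₁ such that the square is cartesian (X = P₂ ×_{P₁} X, i.e.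
p⁻¹(j₁ X) = j₂ X). For every torsion abelian etale sheaf F on X, p_*(j₂! F) is isomorphic to j₁! F
(existence of an isomorphism only) and R^q p_*(j₂! F) = 0 for q > 0. (The published statement is for
two compactifications of X compared by p; its argument uses that p is an isomorphism above X, which
is the cartesian hypothesis made explicit here.) -/
theorem result {X P₁ P₂ : Scheme.{u}}
    [CompactSpace ↥P₁] [QuasiSeparatedSpace ↥P₁] [CompactSpace ↥P₂] [QuasiSeparatedSpace ↥P₂]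
    [CompactSpace ↥X]
    (j₁ : X ⟶ P₁) (j₂ : X ⟶ P₂) [IsOpenImmersion j₁] [IsOpenImmersion j₂] (p : P₂ ⟶ P₁) [IsProper p]
    (hsq : IsPullback (𝟙 X) j₂ j₁ p) (F : EtCoh.Ab X) (hF : EtCoh.IsTorsion F) :
    Nonempty ((EtCoh.push p).obj ((EtShriek.extZero j₂).obj F) ≅ (EtShriek.extZero j₁).obj F) ∧
      ∀ q : ℕ, 0 < q → IsZero ((EtCoh.Rpush p q).obj ((EtShriek.extZero j₂).obj F)) := by
  have w : j₂ ≫ p = 𝟙 X ≫ j₁ := by rw [Category.id_comp, ← hsq.w, Category.id_comp]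
  obtain ⟨e₁⟩ := Groth.Agent.S0727.result j₁
  obtain ⟨e₂⟩ := Groth.Agent.S0727.result j₂
  constructor
  · obtain ⟨e⟩ := Groth.Agent.S0690.result p j₁ (𝟙 X) j₂ w F hF 0
    exact ⟨(Groth.Agent.Sga4h.H407.HcComp.rpushZero p _).symm ≪≫
      (EtCoh.Rpush p 0).mapIso (e₂.app F) ≪≫ e.symm ≪≫
      (EtShriek.lowerShriek j₁).mapIso (Groth.Agent.Sga4h.H407.HcComp.rpushZero (𝟙 X) F ≪≫
        (Groth.Agent.EtpbcA.PullFLC.pushId X).app F) ≪≫ e₁.symm.app F⟩
  · intro q hq
    obtain ⟨q, rfl⟩ : ∃ r, q = r + 1 := ⟨q - 1, by omega⟩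
    obtain ⟨e⟩ := Groth.Agent.S0690.result p j₁ (𝟙 X) j₂ w F hF (q + 1)
    refine IsZero.of_iso ?_ ((EtCoh.Rpush p (q + 1)).mapIso (e₂.app F) ≪≫ e.symm)
    exact (EtShriek.lowerShriek j₁).map_isZero (Groth.Agent.EtpbcA.Artin.isZero_Rpush_id F q)

end Groth.Agent.S8610
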