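import Groth.Statements.S8617
import Groth.Agent.S12117
import Groth.Agent.SGA4h.K557.LaCosp

set_option autoImplicit false
universe u
open CategoryTheory CategoryTheory.Limits AlgebraicGeometry
open SGA4h

namespace Groth.Agent.S8617

open TensorProduct in
/-- For a single abelian sheaf: let f : X → S be a morphism of quasi-compact quasi-separated schemes, F
an abelian etale sheaf on X with f locally acyclic relative to F, x a point of X, R_S and R_X strict
henselizations of the local rings at f(x) and x with a compatible local map R_S → R_X, f_(x) : Spec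
R_X → Spec R_S the induced morphism and F_(x) the restriction of F to Spec R_X. Then the formation
of the higher direct images of F_(x) along f_(x) commutes with every finite base change: for every
finite g : S' → Spec R_S and cartesian square X' = Spec R_X ×_{Spec R_S} S', the base change map g⁻¹
R^q f_(x)* F_(x) → R^q f'_* g'⁻¹ F_(x) is an isomorphism for every q. -/
theorem result {X S : Scheme.{u}}
    [CompactSpace ↥X] [QuasiSeparatedSpace ↥X] [CompactSpace ↥S] [QuasiSeparatedSpace ↥S]
    (f : X ⟶ S) (F : EtCoh.Ab X) (hLA : SGA4h.IsLARel f F) (x : X)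
    (RS RX : Type u) [CommRing RS] [CommRing RX] [IsLocalRing RS] [IsLocalRing RX]
    [Algebra (S.presheaf.stalk (f.base x)) RS] [IsLocalHom (algebraMap (S.presheaf.stalk (f.base x)) RS)]
    [Hensel.IsStrictHenselization (S.presheaf.stalk (f.base x)) RS]
    [Algebra (X.presheaf.stalk x) RX] [IsLocalHom (algebraMap (X.presheaf.stalk x) RX)]
    [Hensel.IsStrictHenselization (X.presheaf.stalk x) RX]
    [Algebra RS RX] [IsLocalHom (algebraMap RS RX)]
    (hc : (algebraMap RS RX).comp (algebraMap (S.presheaf.stalk (f.base x)) RS) =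
      (algebraMap (X.presheaf.stalk x) RX).comp (f.stalkMap x).hom)
    {S' X' : Scheme.{u}} (g : S' ⟶ Spec (CommRingCat.of RS)) [IsFinite g] (f' : X' ⟶ S')
    (g' : X' ⟶ Spec (CommRingCat.of RX))
    (h : IsPullback g' f' (Spec.map (CommRingCat.ofHom (algebraMap RS RX))) g)
    [PreservesFiniteLimits (EtCoh.pull g')] (q : ℕ) :
    IsIso (EtBC.bcQ (Spec.map (CommRingCat.ofHom (algebraMap RS RX))) g f' g' h.w q
      ((EtCoh.pull (Hens2.specOf X x RX)).obj F)) := by
  refine Groth.Agent.S12117.result (Spec.map (CommRingCat.ofHom (algebraMap RS RX)))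
    ((EtCoh.pull (Hens2.specOf X x RX)).obj F) ?_ g f' g' h q
  intro s R _ _ _ _ _ Ω _ _ _ s' _ _ q'
  exact K557.LaCosp.hb_of_isLARel f F hLA x RS RX hc s R Ω s' q'

end Groth.Agent.S8617
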