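import Groth.Statements.S8618
import Groth.Agent.SGA4h.K557.TraceFix

set_option autoImplicit false
universe u
open SGA4h

namespace Groth.Agent.S8618

open TensorProduct in
/-- Let k be a finite field with q = p^f elements, F₀ ⊂ k its prime field, K an algebraically closed
extension of k, V a finite-dimensional k-vector space and φ a p-linear endomorphism of V (φ(λx) =
λ^p φ(x)); let F = φ^f, a k-linear endomorphism, F_K its K-linear extension to K ⊗_k V and φ_K the
p-linear extension of φ (φ_K(μ ⊗ v) = μ^p ⊗ φ(v)). Then F_K preserves the F₀-subspace W = Ker(φ_K -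
1) of K ⊗_k V, W is finite-dimensional over F₀, and the trace of F_K on W (an element of F₀) equals
the trace of F on V. -/
theorem result {p : ℕ} [Fact p.Prime] (k : Type u) [Field k] [Fintype k]
    [CharP k p] (f : ℕ) (hq : Fintype.card k = p ^ f) (K : Type u) [Field K] [Algebra k K] [IsAlgClosed K]
    (V : Type u) [AddCommGroup V] [Module k V] [FiniteDimensional k V]
    (φ : V →ₛₗ[frobenius k p] V) (F : V →ₗ[k] V) (hF : ∀ x, F x = (⇑φ)^[f] x)
    (φK : K ⊗[k] V →+ K ⊗[k] V) (hφK : ∀ (μ : K) (v : V), φK (μ ⊗ₜ[k] v) = (μ ^ p) ⊗ₜ[k] φ v)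
    (W : Submodule (↥(⊥ : Subfield k)) (K ⊗[k] V)) (hW : ∀ y, y ∈ W ↔ φK y = y) :
    (∀ y, φK y = y → φK (F.baseChange K y) = F.baseChange K y) ∧
    Module.Finite (↥(⊥ : Subfield k)) ↥W ∧
    ∀ (G : ↥W →ₗ[↥(⊥ : Subfield k)] ↥W), (∀ y : ↥W, (↑(G y) : K ⊗[k] V) = F.baseChange K ↑y) →
      algebraMap k K (algebraMap (↥(⊥ : Subfield k)) k (LinearMap.trace (↥(⊥ : Subfield k)) ↥W G)) =
        algebraMap k K (LinearMap.trace k V F) := by
  classical
  have hp := (Fact.out : p.Prime)
  let _ : CharP K p := charP_of_injective_algebraMap (algebraMap k K).injective p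
  have hf : 1 ≤ f := by
    rcases Nat.eq_zero_or_pos f with h | h
    · subst h
      have := Fintype.one_lt_card (α := k)
      rw [hq] at this
      simp at this
    · exact h
  have hsemi : ∀ (c : K) (w : K ⊗[k] V), φK (c • w) = c ^ p • φK w := by
    intro c w
    induction w using TensorProduct.induction_on with
    | zero => simp
    | tmul μ v => rw [TensorProduct.smul_tmul', hφK, hφK, TensorProduct.smul_tmul', smul_eq_mul, smul_eq_mul,
        mul_pow]
    | add x y hx hy => rw [smul_add, map_add, hx, hy, map_add, smul_add]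
  have hφF : ∀ v, F (φ v) = φ (F v) := by
    intro v
    rw [hF, hF]
    exact (Function.Commute.iterate_self (⇑φ) f v)
  have hcomm : ∀ w : K ⊗[k] V, F.baseChange K (φK w) = φK (F.baseChange K w) := by
    intro w
    induction w using TensorProduct.induction_on with
    | zero => simp
    | tmul μ v => rw [hφK, LinearMap.baseChange_tmul, LinearMap.baseChange_tmul, hφK, hφF]
    | add x y hx hy => rw [map_add, map_add, hx, hy, map_add, map_add]
  let e := K557.TraceFix.primeEquiv p k
  let _ : Module (ZMod p) W := Module.compHom W (e : ZMod p →+* (⊥ : Subfield k))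
  have he : ∀ (c : ZMod p) (x : W), e c • x = c • x := fun c x => rfl
  have hr : ∀ w, w ∈ Set.range W.subtype.toAddMonoidHom ↔ φK w = w := fun w => by
    rw [← hW]
    exact ⟨by rintro ⟨x, rfl⟩; exact x.2, fun h => ⟨⟨w, h⟩, rfl⟩⟩
  have hinj : Function.Injective W.subtype.toAddMonoidHom := Subtype.val_injective
  have hiter : ∀ (m : ℕ) (v : V), (⇑φK)^[m] ((1 : K) ⊗ₜ[k] v) = (1 : K) ⊗ₜ[k] (⇑φ)^[m] v := by
    intro m
    induction m with
    | zero => intro v; rfl
    | succ m ih => intro v; rw [Function.iterate_succ_apply', ih, hφK, one_pow, Function.iterate_succ_apply']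
  have hfinW : Finite W := (Groth.Agent.Sga4h.H569.LangDet.exists_iterate_mem (K := K) p hsemi hinj hr).1
  have hfin : Module.Finite (↥(⊥ : Subfield k)) ↥W := Module.Finite.of_finite
  refine ⟨fun y hy => ?_, hfin, fun G hG => ?_⟩
  · rw [← hcomm, hy]
  · let G' : W →ₗ[ZMod p] W :=
      { toFun := G
        map_add' := map_add G
        map_smul' := fun c x => by
          rw [← he, ← he]
          exact map_smul G (e c) x }
    have h1 := Groth.Agent.Sga4h.H569.LangDet.detRev_fix (K := K) p hsemi hinj hr (F.baseChange K) hcomm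
      (Set.range fun v : V => (1 : K) ⊗ₜ[k] v) (by
        rw [eq_top_iff]
        rintro x -
        induction x using TensorProduct.induction_on with
        | zero => exact Submodule.zero_mem _
        | tmul μ v =>
          have : μ ⊗ₜ[k] v = μ • ((1 : K) ⊗ₜ[k] v) := by
            rw [TensorProduct.smul_tmul', smul_eq_mul, mul_one]
          rw [this]
          exact Submodule.smul_mem _ _ (Submodule.subset_span ⟨v, rfl⟩)
        | add x y hx hy => exact Submodule.add_mem _ hx hy) f hf (by
        rintro _ ⟨v, rfl⟩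
        change F.baseChange K ((1 : K) ⊗ₜ[k] v) = (⇑φK)^[f] ((1 : K) ⊗ₜ[k] v)
        rw [hiter, LinearMap.baseChange_tmul, hF]) G' (fun x => hG x)
    have h2 := K557.TraceFix.detRev_congr (V := W) e he G' G (fun x : W => (rfl : G x = G' x))
    have h3 := congrArg (fun q => Polynomial.coeff q 1) h1
    have h4 := congrArg (fun q => Polynomial.coeff q 1) h2
    simp only [Polynomial.coeff_map] at h3 h4
    have : Module.Finite (ZMod p) W := Module.Finite.of_finite
    rw [K557.TraceFix.coeff_one_detRev' (R := ZMod p) (V := W) G', K557.TraceFix.coeff_one_detRev',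
      LinearMap.trace_baseChange] at h3
    rw [K557.TraceFix.coeff_one_detRev' (R := (⊥ : Subfield k)) (V := W) G,
      K557.TraceFix.coeff_one_detRev' (R := ZMod p) (V := W) G'] at h4
    have h5 : LinearMap.trace (↥(⊥ : Subfield k)) ↥W G = e (LinearMap.trace (ZMod p) W G') := by
      have := neg_injective (h4.trans (map_neg (e : ZMod p →+* (⊥ : Subfield k)) _))
      exact this
    rw [h5]
    have h6 := neg_injective ((map_neg (ZMod.castHom (dvd_refl p) K) _).symm.trans h3)
    rw [← h6]
    change algebraMap k K ((ZMod.castHom (dvd_refl p) k) _) = _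
    exact RingHom.congr_fun (Subsingleton.elim ((algebraMap k K).comp (ZMod.castHom (dvd_refl p) k))
      (ZMod.castHom (dvd_refl p) K)) _

end Groth.Agent.S8618
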