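import Groth.Statements.S8619
import Groth.Agent.EtModD.K733.Resol
import Groth.Agent.S4255

set_option autoImplicit false
universe u
open CategoryTheory CategoryTheory.Limits AlgebraicGeometry
open SGA4h

namespace Groth.Agent.S8619

/-- Let X be a Noetherian scheme, Λ a commutative Noetherian ring and K a cochain complex of etale
sheaves of Λ-modules on X whose cohomology sheaves are constructible and vanish in large degrees.
Then there are a cochain complex K', zero in large degrees, whose components are constructible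
sheaves of Λ-modules with flat geometric stalks, and a quasi-isomorphism K' → K. (The published
statement allows a left-Noetherian, possibly non-commutative Λ.) -/
theorem result {Λ : Type (u + 1)} [CommRing Λ]
    [IsNoetherianRing Λ] {X : Scheme.{u}} [IsNoetherian X]
    (K : CochainComplex (EtModW.Mod Λ X) ℤ)
    (hK : ∀ i : ℤ, EtModW.IsConstructible Λ (K.homology i))
    (hb : ∃ m : ℤ, ∀ i : ℤ, m ≤ i → IsZero (K.homology i)) :
    ∃ (K' : CochainComplex (EtModW.Mod Λ X) ℤ) (φ : K' ⟶ K), QuasiIso φ ∧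
      (∃ m : ℤ, ∀ i : ℤ, m ≤ i → IsZero (K'.X i)) ∧
      (∀ i : ℤ, EtModW.IsConstructible Λ (K'.X i)) ∧
      ∀ (i : ℤ) (Ω : Type u) [Field Ω] [IsSepClosed Ω] (ξ : Spec (CommRingCat.of Ω) ⟶ X),
        Module.Flat Λ ((EtModW.stalk Λ ξ).obj (K'.X i)) := by
  obtain ⟨m, hm⟩ := hb
  obtain ⟨F, f, h1, h2, h3⟩ := K733.EtModResol.exists_resolution (Λ := Λ) (X := X) K (m - 1) hK fun i hi =>
    (K.exactAt_iff_isZero_homology i).2 (hm i (by omega))
  refine ⟨F, f, h3, ⟨m, fun i hi => h1 i (by omega)⟩, fun i => K733.EtModResol.LFin.isConstructible (h2 i), ?_⟩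
  intro i Ω _ _ ξ
  obtain ⟨n, W, _, ⟨e⟩⟩ := h2 i
  have h4 := Groth.Agent.S4255.flat_stalk (Λ := Λ) W Ω ξ
  exact Module.Flat.of_linearEquiv ((EtModW.stalk Λ ξ).mapIso e).toLinearEquiv

end Groth.Agent.S8619
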