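import Groth.Statements.S8621
import Groth.Agent.SGA4h.K286.LefSplit
import Groth.Agent.SGA4h.K286.HenLine
import Groth.Agent.SGA4h.K286.FinSplit

set_option autoImplicit false
universe u
open CategoryTheory CategoryTheory.Limits AlgebraicGeometry
open SGA4h

namespace Groth.Agent.S8621

open Polynomial in
/-- Let A be a strictly henselian, normal, Noetherian local ring with maximal ideal m, P = (m, T) ⊂
A[T], R a henselization of A[T]_P, π : X = Spec R → Spec A the structure morphism and τ ∈ R the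
image of T. Let U be an open subset of Spec A whose complement has codimension ≥ 2 (every prime
outside U has height ≥ 2), V = π⁻¹(U), ι : Z = Spec R/(τ) → X the closed subscheme τ = 0 and V₀ =
ι⁻¹(V). If a finite etale cover W → V becomes trivial after restriction to V₀ (isomorphic over V₀ to
a finite disjoint union of copies of V₀), then W is trivial (isomorphic over V to a finite disjoint
union of copies of V). -/
theorem result
    (A : Type u) [CommRing A] [IsDomain A] [IsIntegrallyClosed A] [IsNoetherianRing A] [IsLocalRing A]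
    (hA : EtCoh.IsStrictlyHenselianLocalRing A) (P : Ideal A[X]) [P.IsMaximal]
    (hP : P = (IsLocalRing.maximalIdeal A).map (Polynomial.C : A →+* A[X]) ⊔ Ideal.span {Polynomial.X})
    (R : Type u) [CommRing R] [IsLocalRing R] [Algebra (Localization.AtPrime P) R]
    [IsLocalHom (algebraMap (Localization.AtPrime P) R)] [Hensel.IsHenselization (Localization.AtPrime P) R]
    (π : Spec (CommRingCat.of R) ⟶ Spec (CommRingCat.of A))
    (hπ : π = Spec.map (CommRingCat.ofHom ((algebraMap (Localization.AtPrime P) R).comp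
        ((algebraMap A[X] (Localization.AtPrime P)).comp Polynomial.C))))
    (τ : R) (hτ : τ = algebraMap (Localization.AtPrime P) R (algebraMap A[X] (Localization.AtPrime P) Polynomial.X))
    (U : (Spec (CommRingCat.of A)).Opens)
    (hU : ∀ p : PrimeSpectrum A, p ∉ U → (2 : WithBot ℕ∞) ≤ ringKrullDim (Localization.AtPrime p.asIdeal))
    (W : FEt.Cat (↑(π ⁻¹ᵁ U) : Scheme.{u}))
    (hW : ∃ (n : ℕ) (e : ((FEt.restrict ((Spec.map (CommRingCat.ofHom (Ideal.Quotient.mk (Ideal.span {τ})))).resLE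
          (π ⁻¹ᵁ U) ((Spec.map (CommRingCat.ofHom (Ideal.Quotient.mk (Ideal.span {τ})))) ⁻¹ᵁ (π ⁻¹ᵁ U))
          le_rfl)).obj W).left ≅
        ∐ fun _ : Fin n =>
          (↑((Spec.map (CommRingCat.ofHom (Ideal.Quotient.mk (Ideal.span {τ})))) ⁻¹ᵁ (π ⁻¹ᵁ U)) : Scheme.{u})),
        e.hom ≫ Sigma.desc (fun _ => 𝟙 _) =
          ((FEt.restrict ((Spec.map (CommRingCat.ofHom (Ideal.Quotient.mk (Ideal.span {τ})))).resLE
            (π ⁻¹ᵁ U) ((Spec.map (CommRingCat.ofHom (Ideal.Quotient.mk (Ideal.span {τ})))) ⁻¹ᵁ (π ⁻¹ᵁ U))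
            le_rfl)).obj W).hom) :
    ∃ (n : ℕ) (e : W.left ≅ ∐ fun _ : Fin n => (↑(π ⁻¹ᵁ U) : Scheme.{u})),
      e.hom ≫ Sigma.desc (fun _ => 𝟙 _) = W.hom := by
  obtain ⟨hA1, hA2⟩ := hA
  obtain ⟨ρ₀, hρ1, hρ2, hρ3, -⟩ := K286.HenLine.exists_retraction P hP R
  have hR1 : IsNoetherianRing R := K286.HenLine.isNoetherianRing P R
  obtain ⟨hR2, hR3⟩ := K286.HenLine.isDomain_and_isIntegrallyClosed P R
  have hR4 : HenselianLocalRing R := Hensel.IsHenselization.henselian (R := Localization.AtPrime P)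
  have hR5 : IsSepClosed (IsLocalRing.ResidueField R) :=
    K286.HenLine.isSepClosed_residueField P hP R
  let _ : Algebra A R := (K286.HenLine.str P R).toAlgebra
  have hflat : Module.Flat A R := K286.HenLine.flat_str P R
  let ρ : R →ₐ[A] A := { ρ₀ with commutes' := hρ1 }
  have hd : Groth.Agent.EtpbcB.LocAcyc.SecData ρ τ := by
    refine ⟨fun x y h => mul_left_cancel₀ ?_ h, ?_⟩
    · rw [hτ]
      exact K286.HenLine.coord_ne_zero P R
    · rw [hτ]
      exact hρ3
  let k := FractionRing A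
  let V : (Spec (CommRingCat.of R)).Opens := π ⁻¹ᵁ U
  have hV : V = Spec.map (CommRingCat.ofHom (algebraMap A R)) ⁻¹ᵁ U := by
    change π ⁻¹ᵁ U = _
    rw [hπ]
    rfl
  let i : Spec (CommRingCat.of (R ⧸ Ideal.span {τ})) ⟶ Spec (CommRingCat.of R) :=
    Spec.map (CommRingCat.ofHom (Ideal.Quotient.mk (Ideal.span {τ})))
  -- the generic point of the section
  let φ : R ⧸ Ideal.span {τ} →+* k := Ideal.Quotient.lift _ ((algebraMap A k).comp ρ₀) (by
    intro x hx
    have hker : RingHom.ker ρ₀ = Ideal.span {τ} := by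
      rw [hτ]
      exact hρ3
    rw [← hker] at hx
    rw [RingHom.comp_apply, (RingHom.mem_ker).1 hx, map_zero])
  have hφ : φ.comp (Ideal.Quotient.mk (Ideal.span {τ})) = (algebraMap A k).comp ρ₀ := by
    ext x
    rfl
  have hcomp : Spec.map (CommRingCat.ofHom φ) ≫ i =
      Spec.map (CommRingCat.ofHom ((algebraMap A k).comp (ρ : R →+* A))) := by
    rw [← Spec.map_comp, ← CommRingCat.ofHom_comp, hφ]
    rfl
  have hmem : ∀ x, (Spec.map (CommRingCat.ofHom ((algebraMap A k).comp (ρ : R →+* A)))) x ∈ V := by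
    intro x
    rw [hV]
    have h1 : (Spec.map (CommRingCat.ofHom (algebraMap A R)))
        ((Spec.map (CommRingCat.ofHom ((algebraMap A k).comp (ρ : R →+* A)))) x) =
        (⟨⊥, Ideal.isPrime_bot⟩ : PrimeSpectrum A) := by
      rw [← Scheme.Hom.comp_apply, ← Spec.map_comp, ← CommRingCat.ofHom_comp]
      have h2 : ((algebraMap A k).comp (ρ : R →+* A)).comp (algebraMap A R) = algebraMap A k := by
        rw [RingHom.comp_assoc]
        have h3 : (ρ : R →+* A).comp (algebraMap A R) = RingHom.id A := by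
          ext a
          exact hρ1 a
        rw [h3, RingHom.comp_id]
      rw [h2]
      have h4 : x = (⟨⊥, Ideal.isPrime_bot⟩ : PrimeSpectrum k) := Subsingleton.elim _ _
      rw [h4]
      apply PrimeSpectrum.ext
      change (⊥ : Ideal k).comap (algebraMap A k) = ⊥
      rw [← RingHom.ker_eq_comap_bot]
      exact (RingHom.injective_iff_ker_eq_bot _).1 (FaithfulSMul.algebraMap_injective A k)
    change (Spec.map (CommRingCat.ofHom (algebraMap A R))) _ ∈ U
    rw [h1]
    by_contra hn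
    have h5 := hU _ hn
    rw [IsLocalization.AtPrime.ringKrullDim_eq_height (⊥ : Ideal A)] at h5
    rw [Ideal.height_bot] at h5
    exact absurd h5 (by decide)
  have hrange : Set.range (Spec.map (CommRingCat.ofHom φ)) ⊆ Set.range (i ⁻¹ᵁ V).ι := by
    rw [Scheme.Opens.range_ι]
    rintro _ ⟨x, rfl⟩
    change i (Spec.map (CommRingCat.ofHom φ) x) ∈ V
    rw [← Scheme.Hom.comp_apply, hcomp]
    exact hmem x
  let β₀ : Spec (CommRingCat.of k) ⟶ (i ⁻¹ᵁ V) := IsOpenImmersion.lift (i ⁻¹ᵁ V).ι _ hrange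
  have hβ₀ : β₀ ≫ (i ⁻¹ᵁ V).ι = Spec.map (CommRingCat.ofHom φ) := IsOpenImmersion.lift_fac _ _ _
  let j : ((i ⁻¹ᵁ V : (Spec (CommRingCat.of (R ⧸ Ideal.span {τ}))).Opens) : Scheme.{u}) ⟶
    (V : Scheme.{u}) := i.resLE V (i ⁻¹ᵁ V) le_rfl
  have hβ : (β₀ ≫ j) ≫ V.ι =
      Spec.map (CommRingCat.ofHom ((algebraMap A k).comp (ρ : R →+* A))) := by
    rw [Category.assoc, Scheme.Hom.resLE_comp_ι, ← Category.assoc, hβ₀, hcomp]
  have hsplit : Pi1.IsSplit ((FEt.restrict (β₀ ≫ j)).obj W) := by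
    have h1 : Pi1.IsSplit ((FEt.restrict j).obj W) := K286.FinSplit.isSplit_of_fin _ hW
    exact Groth.Agent.Pi1.H384.SplitBasic.isSplit_of_iso
      ((Groth.Agent.Pi1A.FEtAffine.restrictComp β₀ j).app W).symm
      (Groth.Agent.Pi1.H384.SplitBasic.isSplit_restrict β₀ h1)
  exact K286.FinSplit.fin_of_isSplit W
    (K286.LefSplit.isSplit ρ τ hd U hU V hV W k (β₀ ≫ j) hβ hsplit)

end Groth.Agent.S8621
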