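import Groth.Statements.S8622
import Groth.Agent.S8540
import Groth.Agent.SGA4h.K445.AffClosed
import Groth.Agent.Sga4B.SuppPull
import Groth.Agent.Desc.LQF

set_option autoImplicit false
universe u
open CategoryTheory CategoryTheory.Limits AlgebraicGeometry
open SGA4h

namespace Groth.Agent.S8622


section Aux

/-- A filtered colimit which is a noetherian object is covered by one of the terms. -/
theorem exists_epi {D : Type*} [Category D] [Abelian D] {J : Type*} [SmallCategory J] [IsFiltered J] (K : J ⥤ D)
    (c : Cocone K) (hc : IsColimit c) [IsNoetherianObject c.pt] : ∃ j, Epi (c.ι.app j) := by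
  let S : J → Subobject c.pt := fun j => imageSubobject (c.ι.app j)
  have hmono : ∀ {j l : J} (a : j ⟶ l), S j ≤ S l := by
    intro j l a
    have h1 : c.ι.app j = K.map a ≫ c.ι.app l := (c.w a).symm
    change imageSubobject (c.ι.app j) ≤ imageSubobject (c.ι.app l)
    rw [h1]
    exact imageSubobject_comp_le _ _
  have hne : (Set.range S).Nonempty := ⟨_, ⟨IsFiltered.nonempty.some, rfl⟩⟩
  obtain ⟨_, ⟨j, rfl⟩, hmax⟩ :=
    WellFounded.has_min (wellFounded_gt (α := Subobject c.pt)) _ hne
  have hle : ∀ k, S k ≤ S j := by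
    intro k
    have h1 : S j ≤ S (IsFiltered.max j k) := hmono (IsFiltered.leftToMax j k)
    have h2 : S k ≤ S (IsFiltered.max j k) := hmono (IsFiltered.rightToMax j k)
    have h3 : S (IsFiltered.max j k) = S j := by
      by_contra hne
      exact hmax _ ⟨_, rfl⟩ (lt_of_le_of_ne h1 (Ne.symm hne))
    exact h2.trans h3.le
  refine ⟨j, ⟨fun {T} a b hab => hc.hom_ext fun k => ?_⟩⟩
  have h1 : (S j).arrow ≫ a = (S j).arrow ≫ b := by
    rw [← cancel_epi (factorThruImageSubobject (c.ι.app j))]
    rw [← Category.assoc, ← Category.assoc]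
    change (factorThruImageSubobject (c.ι.app j) ≫ (imageSubobject (c.ι.app j)).arrow) ≫ a =
      (factorThruImageSubobject (c.ι.app j) ≫ (imageSubobject (c.ι.app j)).arrow) ≫ b
    rw [imageSubobject_arrow_comp]
    exact hab
  have h2 : c.ι.app k = factorThruImageSubobject (c.ι.app k) ≫ Subobject.ofLE _ _ (hle k) ≫
      (S j).arrow := by
    rw [Subobject.ofLE_arrow]
    exact (imageSubobject_arrow_comp (c.ι.app k)).symm
  rw [h2]
  simp only [Category.assoc, h1]

theorem isTorsion_of_killedBy {X : Scheme.{u}} {m : ℕ} (hm : 0 < m) {F : EtCoh.Ab X}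
    (h : EtCoh.KilledBy m F) : EtCoh.IsTorsion F := by
  intro U s x
  refine ⟨U, 𝟙 U, ⟨x, rfl⟩, ?_⟩
  rw [isOfFinAddOrder_iff_nsmul_eq_zero]
  exact ⟨m, hm, h U _⟩

theorem killedBy_pull_iso {X Y : Scheme.{u}} (m : ℕ) (g : Y ⟶ X) {F G : EtCoh.Ab X} (ε : G ≅ F)
    (h : EtCoh.KilledBy m F) : EtCoh.KilledBy m ((EtCoh.pull g).obj G) := by
  have hadd : (EtCoh.pull g).Additive := (EtCoh.pullPushAdj g).left_adjoint_additive
  rw [Groth.Agent.EtpbcA.Present.killedBy_iff] at h ⊢
  have h1 : m • 𝟙 G = 0 := by
    rw [← cancel_mono ε.hom, Preadditive.nsmul_comp, Category.id_comp, zero_comp, ← Category.comp_id ε.hom,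
      ← Preadditive.comp_nsmul, h, comp_zero]
  rw [← CategoryTheory.Functor.map_id, ← Functor.map_nsmul, h1, Functor.map_zero]

theorem isZero_map_cokernel {C D : Type*} [Category C] [Abelian C] [Category D] [Abelian D] (L : C ⥤ D)
    [L.PreservesEpimorphisms] [L.PreservesZeroMorphisms] {A B : C} (f : A ⟶ B) (h : Epi (L.map f)) :
    IsZero (L.obj (cokernel (Abelian.image.ι f))) := by
  have h1 : Epi (L.map (Abelian.image.ι f)) := by
    have h2 : L.map f = L.map (Abelian.factorThruImage f) ≫ L.map (Abelian.image.ι f) := by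
      rw [← L.map_comp, Abelian.image.fac]
    rw [h2] at h
    exact epi_of_epi (L.map (Abelian.factorThruImage f)) _
  have h3 : L.map (cokernel.π (Abelian.image.ι f)) = 0 := by
    rw [← cancel_epi (L.map (Abelian.image.ι f)), ← L.map_comp, cokernel.condition, L.map_zero, comp_zero]
  exact IsZero.of_epi_eq_zero _ h3

end Aux

section Geom

variable {k : Type u} [Field k] {ι : Type u} [Finite ι] {X : Scheme.{u}}
    (e : X ⟶ 𝔸(ι; Spec (CommRingCat.of k))) [IsImmersion e]

include e in
theorem isNoetherian_source : IsNoetherian X := by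
  have h0 : IsNoetherian (Spec (CommRingCat.of k)) := inferInstance
  have h1 : IsLocallyNoetherian 𝔸(ι; Spec (CommRingCat.of k)) :=
    LocallyOfFiniteType.isLocallyNoetherian (𝔸(ι; Spec (CommRingCat.of k)) ↘ Spec (CommRingCat.of k))
  have h2 : IsNoetherian 𝔸(ι; Spec (CommRingCat.of k)) := {}
  have h3 : IsLocallyNoetherian X := LocallyOfFiniteType.isLocallyNoetherian e
  have h4 : TopologicalSpace.NoetherianSpace X := e.isEmbedding.isInducing.noetherianSpace
  exact {}

include e in
theorem isNoetherian_fibre (i : ι) {Ω : Type u} [Field Ω]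
    (η : Spec (CommRingCat.of Ω) ⟶ 𝔸(PUnit.{u + 1}; Spec (CommRingCat.of k))) :
    IsNoetherian (pullback (e ≫ AffineSpace.reindex (fun _ : PUnit.{u + 1} => i) _) η) := by
  have h0 : IsNoetherian X := isNoetherian_source e
  let g : X ⟶ 𝔸(PUnit.{u + 1}; Spec (CommRingCat.of k)) := e ≫ AffineSpace.reindex (fun _ : PUnit.{u + 1} => i) _
  have h1 : LocallyOfFiniteType g := by
    have h2 : LocallyOfFiniteType (g ≫ 𝔸(PUnit.{u + 1}; Spec (CommRingCat.of k)) ↘ Spec (CommRingCat.of k)) := by
      rw [Category.assoc, AffineSpace.reindex_over]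
      infer_instance
    exact locallyOfFiniteType_of_comp g (𝔸(PUnit.{u + 1}; Spec (CommRingCat.of k)) ↘ Spec (CommRingCat.of k))
  have h2 : QuasiCompact g := inferInstance
  have h3 : IsLocallyNoetherian (pullback g η) := LocallyOfFiniteType.isLocallyNoetherian (pullback.snd g η)
  have h4 : CompactSpace ↥(pullback g η) := QuasiCompact.compactSpace_of_compactSpace (pullback.snd g η)
  exact {}

end Geom
/-- Let k be a field, m a natural number invertible in k, ι a finite index type, e : X → 𝔸^ι_k an
immersion, F an abelian etale sheaf on X killed by m, and η̄ : Spec Ω → 𝔸¹_k (Ω separably closed) a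
geometric point over the generic point of the affine line. For i ∈ ι let X_{η̄,i} be the geometric
generic fibre of the i-th coordinate projection X → 𝔸¹_k and F_{η̄,i} the restriction of F to it. If
every F_{η̄,i} is constructible, then there is a constructible subsheaf F' ⊂ F such that every
section of F/F' over a quasi-compact etale X-scheme has finite support. -/
theorem result {k : Type u} [Field k] (m : ℕ)
    (hm : IsUnit (m : k)) {ι : Type u} [Finite ι] {X : Scheme.{u}}
    (e : X ⟶ 𝔸(ι; Spec (CommRingCat.of k))) [IsImmersion e]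
    (F : EtCoh.Ab X) (hFm : EtCoh.KilledBy m F)
    {Ω : Type u} [Field Ω] [IsSepClosed Ω] (η : Spec (CommRingCat.of Ω) ⟶ 𝔸(PUnit.{u + 1}; Spec (CommRingCat.of k)))
    (hη : closure (Set.range η.base) = Set.univ)
    (hF : ∀ i : ι, EtPBC.IsConstructible
      ((EtCoh.pull (pullback.fst (e ≫ AffineSpace.reindex (fun _ : PUnit.{u + 1} => i) _) η)).obj F)) :
    ∃ (F' : EtCoh.Ab X) (u : F' ⟶ F), Mono u ∧ EtPBC.IsConstructible F' ∧
      ∀ (U : X.Etale) [CompactSpace ↥U.left] (s : EtCoh.sect (cokernel u) U),
        (EtShriek.sectSupp (cokernel u) U s).Finite := by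
  have hX : IsNoetherian X := isNoetherian_source e
  have hm0 : 0 < m := Nat.pos_of_ne_zero fun h => by
    subst h
    rw [Nat.cast_zero] at hm
    exact not_isUnit_zero hm
  let g : ∀ i : ι, pullback (e ≫ AffineSpace.reindex (fun _ : PUnit.{u + 1} => i) _) η ⟶ X := fun i =>
    pullback.fst (e ≫ AffineSpace.reindex (fun _ : PUnit.{u + 1} => i) _) η
  have htors : EtCoh.IsTorsion F := isTorsion_of_killedBy hm0 hFm
  obtain ⟨J, _, _, D, c, hcc, hD, ⟨ε⟩⟩ := Groth.Agent.S0134.result X F htors
  -- a stage covering all the restrictions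
  have hst : ∀ i : ι, ∃ j : J, Epi ((EtCoh.pull (g i)).map (c.ι.app j)) := by
    intro i
    have hN := isNoetherian_fibre e i η
    have hconsF : EtPBC.IsConstructible ((EtCoh.pull (g i)).obj F) := hF i
    have hcons : EtPBC.IsConstructible ((EtCoh.pull (g i)).obj c.pt) :=
      Groth.Agent.EtpbcA.StrataGlob.isConstructible_of_iso ((EtCoh.pull (g i)).mapIso ε.symm) hconsF
    have hnoeth : IsNoetherianObject ((EtCoh.pull (g i)).obj c.pt) :=
      (Groth.Agent.S8540.result _ _ (isTorsion_of_killedBy hm0
        (killedBy_pull_iso m (g i) ε hFm))).1 hcons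
    have hpres : PreservesColimitsOfSize.{u + 1, u + 1} (EtCoh.pull (g i)) :=
      (EtCoh.pullPushAdj (g i)).leftAdjoint_preservesColimits
    have hcc' := isColimitOfPreserves (EtCoh.pull (g i)) hcc
    have : IsNoetherianObject ((EtCoh.pull (g i)).mapCocone c).pt := hnoeth
    exact exists_epi _ _ hcc'
  choose jj hjj using hst
  have := Fintype.ofFinite ι
  classical
  obtain ⟨j, hj⟩ := IsFiltered.sup_objs_exists (Finset.univ.image jj)
  let f : D.obj j ⟶ F := c.ι.app j ≫ ε.hom
  have hepi : ∀ i : ι, Epi ((EtCoh.pull (g i)).map f) := by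
    intro i
    obtain ⟨a⟩ := hj (Finset.mem_image_of_mem jj (Finset.mem_univ i))
    have h1 : (EtCoh.pull (g i)).map (c.ι.app (jj i)) =
        (EtCoh.pull (g i)).map (D.map a) ≫ (EtCoh.pull (g i)).map (c.ι.app j) := by
      rw [← Functor.map_comp, c.w]
    have h2 := hjj i
    rw [h1] at h2
    have h3 : Epi ((EtCoh.pull (g i)).map (c.ι.app j)) := epi_of_epi ((EtCoh.pull (g i)).map (D.map a)) _
    change Epi ((EtCoh.pull (g i)).map (c.ι.app j ≫ ε.hom))
    rw [Functor.map_comp]
    infer_instance
  refine ⟨Abelian.image f, Abelian.image.ι f, inferInstance, ?_, ?_⟩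
  · have hK : EtPBC.IsConstructible (kernel f) :=
      Groth.Agent.EtpbcA.NoethSub.isConstructible_of_mono (kernel.ι _) (hD j)
    exact Groth.Agent.EtpbcA.StrataGlob.isConstructible_of_iso
      (Abelian.coimageIsoImage f)
      (Groth.Agent.EtpbcA.ConsExact.isConstructible_cokernel (kernel.ι _) hK (hD j))
  · intro U _ s
    let uh : U.left ⟶ X := U.hom
    have hUe : Etale uh := U.prop
    have hUN : IsLocallyNoetherian U.left := LocallyOfFiniteType.isLocallyNoetherian uh
    have hUN' : IsNoetherian U.left := {}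
    refine Groth.Agent.SGA4h.K445.AffClosed.finite_of_isClosed_singleton _
      (Groth.Agent.Etrest.Supp.isClosed_sectSupp _ U s) fun z hz => ?_
    have hq : LocallyQuasiFinite uh := Groth.Agent.Desc.LQF.of_etale uh
    refine Groth.Agent.SGA4h.K445.AffClosed.isClosed_singleton_of_lqf uh z ?_
    have hy : IsClosed ({e (uh z)} : Set 𝔸(ι; Spec (CommRingCat.of k))) := by
      refine Groth.Agent.SGA4h.K445.AffClosed.isClosed_singleton _ fun i hi => ?_
      -- the point `z` is in the image of the geometric generic fibre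
      have hη' : closure ({η (IsLocalRing.closedPoint Ω)} : Set 𝔸(PUnit.{u + 1}; Spec (CommRingCat.of k))) = Set.univ := by
        have h1 : Set.range η = {η (IsLocalRing.closedPoint Ω)} := by
          ext w
          constructor
          · rintro ⟨v, rfl⟩
            rw [Subsingleton.elim v (IsLocalRing.closedPoint Ω : Spec (CommRingCat.of Ω))]
            rfl
          · rintro rfl
            exact ⟨_, rfl⟩
        rw [← h1]
        exact hη
      have h2 : (e ≫ AffineSpace.reindex (fun _ : PUnit.{u + 1} => i) _) (uh z) = η (IsLocalRing.closedPoint Ω) := by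
        have h3 : IsGenericPoint (η (IsLocalRing.closedPoint Ω)) Set.univ := hη'
        have h4 : IsGenericPoint ((e ≫ AffineSpace.reindex (fun _ : PUnit.{u + 1} => i) _) (uh z)) Set.univ := by
          rw [Scheme.Hom.comp_apply]
          exact hi
        exact h4.eq h3
      obtain ⟨w, hw, -⟩ := Scheme.Pullback.exists_preimage_pullback (f := e ≫ AffineSpace.reindex _ _) (g := η)
        (uh z) (IsLocalRing.closedPoint Ω) h2
      obtain ⟨v, hv, -⟩ := Scheme.Pullback.exists_preimage_pullback (f := uh) (g := g i) z w hw.symm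
      have hzero : IsZero ((EtCoh.pull (g i)).obj (cokernel (Abelian.image.ι f))) := by
        have hadj := EtCoh.pullPushAdj (g i)
        have h5 : (EtCoh.pull (g i)).Additive := hadj.left_adjoint_additive
        have h6 : (EtCoh.pull (g i)).PreservesEpimorphisms := Functor.preservesEpimorphisms_of_adjunction hadj
        exact isZero_map_cokernel (EtCoh.pull (g i)) f (hepi i)
      have h7 := Groth.Agent.Sga4B.SuppPull.sectSupp_unit (g i) (cokernel (Abelian.image.ι f)) U s
      have h8 : v ∈ EtShriek.sectSupp ((EtCoh.pull (g i)).obj (cokernel (Abelian.image.ι f))) ((EtCoh.bc (g i)).obj U)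
          (((EtCoh.pullPushAdj (g i)).unit.app (cokernel (Abelian.image.ι f))).hom.app (Opposite.op U) s) := by
        rw [h7]
        change (pullback.fst uh (g i)) v ∈ EtShriek.sectSupp (cokernel (Abelian.image.ι f)) U s
        rw [hv]
        exact hz
      have h9 : ((EtCoh.pullPushAdj (g i)).unit.app (cokernel (Abelian.image.ι f))).hom.app (Opposite.op U) s = 0 := by
        have h10 : 𝟙 ((EtCoh.pull (g i)).obj (cokernel (Abelian.image.ι f))) = 0 := hzero.eq_of_src _ _
        have h11 := congrArg (fun φ => φ.hom.app (Opposite.op ((EtCoh.bc (g i)).obj U))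
          (((EtCoh.pullPushAdj (g i)).unit.app (cokernel (Abelian.image.ι f))).hom.app (Opposite.op U) s)) h10
        exact h11
      rw [h9] at h8
      exact (Set.ext_iff.1 (Groth.Agent.Etrest.Supp.sectSupp_zero
        ((EtCoh.pull (g i)).obj (cokernel (Abelian.image.ι f))) ((EtCoh.bc (g i)).obj U)) v).1 h8
    have h1 := hy.preimage e.continuous
    have h2 : e ⁻¹' {e (uh z)} = {uh z} := by
      ext w
      exact ⟨fun h => e.isEmbedding.injective h, fun h => by rw [Set.mem_singleton_iff.1 h]; rfl⟩
    rwa [h2] at h1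

end Groth.Agent.S8622
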