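import Groth.Statements.S8623
import Groth.Agent.SGA4h.K3.TraitAll
import Groth.Agent.SGA4h.K3.TraitField
import Groth.Agent.SGA4h.K679.GoodHull
import Groth.Agent.Sga4h.NcFinal

set_option autoImplicit false
universe u
open CategoryTheory CategoryTheory.Limits AlgebraicGeometry
open SGA4h

namespace Groth.Agent.S8623

attribute [-instance] CategoryTheory.catToReflQuiver

open K3.PB K3.Kn K3.TraitMap K3.TraitDat K3.TraitProper K3.TraitInd K3.TraitAll K3.TraitField in
open Groth.Agent Groth.Agent.Etrest.DEtPush Groth.Agent.Sga4h.GSq in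
open Groth.Agent.Sga4h.NcTD Groth.Agent.Sga4h.NcDefs Groth.Agent.Sga4h.NcPsi in
theorem ct_of_isSepClosed {n : ℕ} {T T' : TD.{u} n} (φ : TMap T T') (h : IsSepClosed T.L) {X : Scheme.{u}}
    (f : X ⟶ Spec (CommRingCat.of T.R)) [LocallyOfFiniteType f] : CTall φ f := by
  obtain ⟨Good, h1, h2, h3⟩ := K679.GoodMap.exists_good.{u} n
  exact ct_all (fun φ => Good φ) (fun φ h => fieldCT φ (h2 φ h)) (fun φ H H' h => h3 φ H H' h) φ (h1 φ h) f

attribute [local instance] HasDerivedCategory.standard

/-- For sheaves of ℤ/n-modules, X of finite type: the formation of nearby cycles is compatible with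
change of strictly local trait. Let R → R' be an injective local homomorphism of strictly henselian
discrete valuation rings (a surjective morphism of traits S' → S), K ⊂ Ω and K' ⊂ Ω' their fraction
fields with chosen separable closures and compatible maps K → K', Ω → Ω', n invertible in R, f : X →
S of finite type with base change f' : X' = X ×_S S' → S' and g : X' → X; let j̄ : X_Ω → X, j̄' :
X'_Ω' → X', i : X_s → X, i' : X'_s' → X' be the geometric generic and the closed fibres, c : X_Ω →
X_K the canonical map and g_Ω : X'_Ω' → X_Ω the induced map (so g_Ω ≫ j̄ = j̄' ≫ g). For every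
abelian etale sheaf F on X_K killed by n, the restriction to X'_s' of the degree-q base change map
g⁻¹ R^q j̄_* (c⁻¹F) → R^q j̄'_* (g_Ω⁻¹ c⁻¹ F) is an isomorphism; since g_Ω⁻¹ c⁻¹ F is the
restriction to X'_Ω' of the pullback of F to X'_K', this says g_s⁻¹ R^qΨ_η(F) ≅ R^qΨ_η'(F') via the
canonical map. (The published statement allows any X over S and any torsion sheaf of order prime to
the residue characteristic.) -/
theorem result (R K Ω R' K' Ω' : Type u)
    [CommRing R] [IsDomain R] [IsDiscreteValuationRing R] (hR : EtCoh.IsStrictlyHenselianLocalRing R)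
    [Field K] [Algebra R K] [IsFractionRing R K] [Field Ω] [Algebra K Ω] [IsSepClosure K Ω]
    [CommRing R'] [IsDomain R'] [IsDiscreteValuationRing R'] (hR' : EtCoh.IsStrictlyHenselianLocalRing R')
    [Field K'] [Algebra R' K'] [IsFractionRing R' K'] [Field Ω'] [Algebra K' Ω'] [IsSepClosure K' Ω']
    (φ : R →+* R') [IsLocalHom φ] (hφ : Function.Injective φ) (φK : K →+* K')
    (hφK : φK.comp (algebraMap R K) = (algebraMap R' K').comp φ) (φΩ : Ω →+* Ω')
    (hφΩ : φΩ.comp (algebraMap K Ω) = (algebraMap K' Ω').comp φK)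
    (n : ℕ) (hn : IsUnit (n : R)) {X : Scheme.{u}} (f : X ⟶ Spec (CommRingCat.of R))
    [LocallyOfFiniteType f] [QuasiCompact f]
    (c : pullback f (Spec.map (CommRingCat.ofHom ((algebraMap K Ω).comp (algebraMap R K)))) ⟶
      pullback f (Spec.map (CommRingCat.ofHom (algebraMap R K))))
    (hc₁ : c ≫ pullback.fst f _ = pullback.fst f _)
    (hc₂ : c ≫ pullback.snd f _ = pullback.snd f _ ≫ Spec.map (CommRingCat.ofHom (algebraMap K Ω)))
    (gΩ : pullback (pullback.snd f (Spec.map (CommRingCat.ofHom φ)))
        (Spec.map (CommRingCat.ofHom ((algebraMap K' Ω').comp (algebraMap R' K')))) ⟶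
      pullback f (Spec.map (CommRingCat.ofHom ((algebraMap K Ω).comp (algebraMap R K)))))
    (hg₁ : gΩ ≫ pullback.fst _ _ = pullback.fst _ _ ≫ pullback.fst f (Spec.map (CommRingCat.ofHom φ)))
    (hg₂ : gΩ ≫ pullback.snd _ _ = pullback.snd _ _ ≫ Spec.map (CommRingCat.ofHom φΩ))
    [PreservesFiniteLimits (EtCoh.pull gΩ)]
    (F : EtCoh.Ab (pullback f (Spec.map (CommRingCat.ofHom (algebraMap R K))))) (hFn : EtCoh.KilledBy n F)
    (q : ℕ) :
    IsIso ((EtCoh.pull (pullback.fst (pullback.snd f (Spec.map (CommRingCat.ofHom φ)))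
        (Spec.map (CommRingCat.ofHom (IsLocalRing.residue R'))))).map
      (EtBC.bcQ (pullback.fst f (Spec.map (CommRingCat.ofHom ((algebraMap K Ω).comp (algebraMap R K)))))
        (pullback.fst f (Spec.map (CommRingCat.ofHom φ)))
        (pullback.fst (pullback.snd f (Spec.map (CommRingCat.ofHom φ)))
          (Spec.map (CommRingCat.ofHom ((algebraMap K' Ω').comp (algebraMap R' K')))))
        gΩ hg₁ q ((EtCoh.pull c).obj F))) := by
  have hsep : Algebra.IsSeparable K Ω := IsSepClosure.separable
  have hcl : IsSepClosed Ω := IsSepClosure.sep_closed K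
  have hsep' : Algebra.IsSeparable K' Ω' := IsSepClosure.separable
  have hcl' : IsSepClosed Ω' := IsSepClosure.sep_closed K'
  let _ : Algebra R Ω := ((algebraMap K Ω).comp (algebraMap R K)).toAlgebra
  have htow : IsScalarTower R K Ω := IsScalarTower.of_algebraMap_eq fun _ => rfl
  let _ : Algebra R' Ω' := ((algebraMap K' Ω').comp (algebraMap R' K')).toAlgebra
  have htow' : IsScalarTower R' K' Ω' := IsScalarTower.of_algebraMap_eq fun _ => rfl
  have hn' : IsUnit (n : R') := by
    have := hn.map φ
    rwa [map_natCast] at this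
  let T : Sga4h.NcTD.TD.{u} n :=
    { R := R
      K := K
      L := Ω
      hR := hR
      hn := hn
      hrc := Sga4h.NcFinal.rootClosed_of_isSepClosed n R K Ω hn }
  let T' : Sga4h.NcTD.TD.{u} n :=
    { R := R'
      K := K'
      L := Ω'
      hR := hR'
      hn := hn'
      hrc := Sga4h.NcFinal.rootClosed_of_isSepClosed n R' K' Ω' hn' }
  let Φ : K3.TraitMap.TMap T T' :=
    { ρ := φ
      κ := φK
      lam := φΩ
      h0 := inferInstance
      h1 := hφK
      h2 := hφΩ }
  let D : K3.TraitDat.Dat Φ f :=
    { X' := pullback f (Spec.map (CommRingCat.ofHom φ))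
      XL := pullback f (Spec.map (CommRingCat.ofHom ((algebraMap K Ω).comp (algebraMap R K))))
      XL' := pullback (pullback.snd f (Spec.map (CommRingCat.ofHom φ)))
        (Spec.map (CommRingCat.ofHom ((algebraMap K' Ω').comp (algebraMap R' K'))))
      Xs' := pullback (pullback.snd f (Spec.map (CommRingCat.ofHom φ)))
        (Spec.map (CommRingCat.ofHom (IsLocalRing.residue R')))
      g := pullback.fst _ _
      f' := pullback.snd _ _
      hX := IsPullback.of_hasPullback _ _
      j := pullback.fst _ _
      fL := pullback.snd _ _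
      hL := IsPullback.of_hasPullback _ _
      j' := pullback.fst _ _
      fL' := pullback.snd _ _
      hL' := IsPullback.of_hasPullback _ _
      gL := gΩ
      w := hg₁
      wL := hg₂
      i := pullback.fst _ _
      fs := pullback.snd _ _
      hs := IsPullback.of_hasPullback _ _ }
  have hK := K3.Kn.KN.single (Sga4B.ShriekTools.killedBy_pull c n F hFn) 0
  have h1 := ct_of_isSepClosed Φ hcl f D _ hK
  exact K115.BridgeEt.isIso_pull_map_bcQ hg₁ _ ((EtCoh.pull c).obj F) h1 q

end Groth.Agent.S8623
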