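import Groth.Statements.S8624
import Groth.Agent.SGA4h.K286.Extend
import Groth.Agent.SGA4h.K286.KumAdjoin

set_option autoImplicit false
universe u
open CategoryTheory CategoryTheory.Limits AlgebraicGeometry
open SGA4h

namespace Groth.Agent.S8624

open Polynomial in
/-- Let V be a discrete valuation ring with uniformizer ϖ and fraction field K, S = Spec V, f : X → S
smooth of relative dimension 1 with X irreducible, X_η = X ×_S Spec K, and X̃ → X_η a connected
finite etale Galois cover (automorphisms transitive on geometric fibres) of degree n = |Aut| with n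
invertible in V. Let V₁ = V[t]/(tⁿ - ϖ), S₁ = Spec V₁, X₁ = X ×_S S₁ and X_{1η} = X_η ×_X X₁. Then
the pullback of X̃ to X_{1η} extends to a finite etale cover of X₁: there is a finite etale Y₁ → X₁
whose restriction to X_{1η} is isomorphic to it. -/
theorem result
    (V K : Type u) [CommRing V] [IsDomain V] [IsDiscreteValuationRing V] [Field K] [Algebra V K]
    [IsFractionRing V K] (ϖ : V) (hϖ : Irreducible ϖ) (n : ℕ) (hn : IsUnit (n : V))
    {X : Scheme.{u}} (f : X ⟶ Spec (CommRingCat.of V)) [SmoothOfRelativeDimension 1 f] [IrreducibleSpace ↥X]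
    (Xt : FEt.Cat (pullback f (Spec.map (CommRingCat.ofHom (algebraMap V K))))) [ConnectedSpace ↥Xt.left]
    (hgal : ∀ (Ω : Type u) [Field Ω] [IsAlgClosed Ω]
      (ξ : Spec (CommRingCat.of Ω) ⟶ pullback f (Spec.map (CommRingCat.ofHom (algebraMap V K))))
      (s s' : FEt.fiberObj ξ Xt), ∃ σ : Aut Xt, (FEt.fiber ξ).map σ.hom s = s')
    (hdeg : Nat.card (Aut Xt) = n) :
    ∃ Y₁ : FEt.Cat (pullback f (Spec.map (CommRingCat.ofHom
        (algebraMap V (AdjoinRoot (Polynomial.X ^ n - Polynomial.C ϖ)))))),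
      Nonempty ((FEt.restrict (pullback.snd
          (pullback.fst f (Spec.map (CommRingCat.ofHom (algebraMap V K))))
          (pullback.fst f (Spec.map (CommRingCat.ofHom
            (algebraMap V (AdjoinRoot (Polynomial.X ^ n - Polynomial.C ϖ)))))))).obj Y₁ ≅
        (FEt.restrict (pullback.fst
          (pullback.fst f (Spec.map (CommRingCat.ofHom (algebraMap V K))))
          (pullback.fst f (Spec.map (CommRingCat.ofHom
            (algebraMap V (AdjoinRoot (Polynomial.X ^ n - Polynomial.C ϖ)))))))).obj Xt) := by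
  classical
  have hn1 : 1 ≤ n := by
    rcases Nat.eq_zero_or_pos n with h | h
    · subst h
      simp at hn
    · exact h
  have hdom := K286.KumAdjoin.isDomain V hϖ n hn1
  have hdvr := K286.KumAdjoin.isDiscreteValuationRing V hϖ n hn1
  let V₁ := AdjoinRoot (Polynomial.X ^ n - Polynomial.C ϖ : V[X])
  have hmonic : (Polynomial.X ^ n - Polynomial.C ϖ : V[X]).Monic :=
    Polynomial.monic_X_pow_sub_C ϖ (by omega)
  have hinj : Function.Injective (algebraMap V V₁) := by
    rw [AdjoinRoot.algebraMap_eq]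
    apply AdjoinRoot.of.injective_of_degree_ne_zero
    rw [Polynomial.degree_X_pow_sub_C (by omega)]
    intro h
    have : n = 0 := by exact_mod_cast h
    omega
  have hfin : Module.Finite V V₁ := hmonic.finite_adjoinRoot
  have hfree : Module.Free V V₁ := hmonic.free_adjoinRoot
  have hfaith : FaithfulSMul V V₁ := (faithfulSMul_iff_algebraMap_injective V V₁).mpr hinj
  have hloc : IsLocalHom (algebraMap V V₁) := inferInstance
  have hroot : (AdjoinRoot.root (Polynomial.X ^ n - Polynomial.C ϖ : V[X])) ^ n = algebraMap V V₁ ϖ := by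
    have h2 := AdjoinRoot.eval₂_root (Polynomial.X ^ n - Polynomial.C ϖ : V[X])
    rw [Polynomial.eval₂_sub, Polynomial.eval₂_pow, Polynomial.eval₂_X, Polynomial.eval₂_C, sub_eq_zero] at h2
    exact h2
  let K₁ := FractionRing V₁
  let s : Spec (CommRingCat.of K) ⟶ Spec (CommRingCat.of V) := Spec.map (CommRingCat.ofHom (algebraMap V K))
  let s₁ : Spec (CommRingCat.of V₁) ⟶ Spec (CommRingCat.of V) := Spec.map (CommRingCat.ofHom (algebraMap V V₁))
  have hflat : Flat s₁ := by
    rw [Flat.SpecMap_iff]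
    change (algebraMap V V₁).Flat
    rw [RingHom.flat_algebraMap_iff]
    infer_instance
  have hsm : Smooth f := SmoothOfRelativeDimension.smooth 1 f
  let g := pullback.fst f s
  let h := pullback.fst f s₁
  let p₂ := pullback.snd f s₁
  have hp₂ : Smooth p₂ := inferInstance
  have hG : IsPullback g (pullback.snd f s) f s := IsPullback.of_hasPullback f s
  have hgo : IsOpenImmersion g := Groth.Agent.Pi1.H382.Abh.isOpenImmersion_generic hG
  let e₁ : Spec (CommRingCat.of K₁) ⟶ Spec (CommRingCat.of V₁) := Spec.map (CommRingCat.ofHom (algebraMap V₁ K₁))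
  -- the generic fibre over `V₁`
  have hG₂' : IsPullback (pullback.fst p₂ e₁) (pullback.snd p₂ e₁) p₂ e₁ := IsPullback.of_hasPullback _ _
  have hgo₂' : IsOpenImmersion (pullback.fst p₂ e₁) := Groth.Agent.Pi1.H382.Abh.isOpenImmersion_generic hG₂'
  let g₂ := pullback.snd g h
  let m := pullback.fst g h
  have hmem : ∀ y, y ∈ Set.range g₂ ↔ y ∈ Set.range (pullback.fst p₂ e₁) := by
    intro y
    rw [Groth.Agent.Pi1.H382.Abh.mem_range_iff hG₂']
    have h1 : y ∈ Set.range g₂ ↔ h y ∈ Set.range g := by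
      rw [IsOpenImmersion.range_pullbackSnd]
      rfl
    rw [h1, Groth.Agent.Pi1.H382.Abh.mem_range_iff hG]
    have h2 : f (h y) = s₁ (p₂ y) := by
      rw [← Scheme.Hom.comp_apply, ← Scheme.Hom.comp_apply]
      exact congr($(pullback.condition (f := f) (g := s₁)) y)
    rw [h2, not_iff_not]
    rcases Groth.Agent.Pi1.H382.Extend.eq_closedPoint_or_eq_bot (p₂ y) with h3 | h3
    · rw [h3]
      exact iff_of_true (IsLocalRing.comap_closedPoint (algebraMap V V₁)) rfl
    · rw [h3]
      refine iff_of_false (fun h4 => ?_) (fun h4 => ?_)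
      · have h5 := Groth.Agent.Pi1.H382.Extend.specMap_bot (algebraMap V V₁) hinj
        exact Groth.Agent.Pi1.H382.Trait.bot_ne_closedPoint (h5.symm.trans h4)
      · exact Groth.Agent.Pi1.H382.Trait.bot_ne_closedPoint h4
  let ε : pullback g h ≅ pullback p₂ e₁ :=
    IsOpenImmersion.isoOfRangeEq g₂ (pullback.fst p₂ e₁) (Set.ext hmem)
  have hε : ε.hom ≫ pullback.fst p₂ e₁ = g₂ := IsOpenImmersion.isoOfRangeEq_hom_fac _ _ _
  have hG₂ : IsPullback g₂ (ε.hom ≫ pullback.snd p₂ e₁) p₂ e₁ :=
    IsPullback.of_iso hG₂' ε.symm (Iso.refl _) (Iso.refl _) (Iso.refl _)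
      (by simp [← hε]) (by simp) (by simp) (by simp)
  obtain ⟨Y', hY'⟩ := K286.Extend.exists_extension hG hϖ Xt (MonoidHom.id (Aut Xt))
    (K286.TransAct.of_fiber hgal) n hn (hdeg ▸ dvd_rfl) V₁ K₁ (algebraMap V V₁) hinj
    (AdjoinRoot.root (Polynomial.X ^ n - Polynomial.C ϖ : V[X])) hroot (pullback f s₁) (pullback g h)
    p₂ h pullback.condition g₂ (ε.hom ≫ pullback.snd p₂ e₁) hG₂ m pullback.condition
  exact ⟨Y', hY'⟩

end Groth.Agent.S8624
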