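import Groth.Statements.S8625
import Mathlib.Tactic.Group

set_option autoImplicit false
universe u
open SGA4h

namespace Groth.Agent.S8625

/-- Let G be a group with an endomorphism F, and assume the Lang map g ↦ F(g)g⁻¹ is surjective (for
instance the geometric points of a connected algebraic group over F_q with its Frobenius, where the
surjectivity is the classical result of Lang; the other Lang map g ↦ g⁻¹F(g) is then surjective too,
by g ↦ g⁻¹). Let G^F be the subgroup of fixed points of F. (i) If F(g)g⁻¹ is fixed by F then so is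
g⁻¹F(g). (ii), (iii) There is a bijection of the set of conjugacy classes of G^F with itself
sending, for every g with F(g)g⁻¹ ∈ G^F, the class of F(g)g⁻¹ to the class of g⁻¹F(g) (in particular
the latter class depends only on the former). -/
theorem result {G : Type u} [Group G] (F : G →* G)
    (hL : Function.Surjective fun g : G => F g * g⁻¹) :
    (∀ g : G, F (F g * g⁻¹) = F g * g⁻¹ → F (g⁻¹ * F g) = g⁻¹ * F g) ∧
    ∃ φ : ConjClasses ↥(F.eqLocus (MonoidHom.id G)) → ConjClasses ↥(F.eqLocus (MonoidHom.id G)),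
      Function.Bijective φ ∧
      ∀ (g : G) (h : F (F g * g⁻¹) = F g * g⁻¹) (h' : F (g⁻¹ * F g) = g⁻¹ * F g),
        φ (ConjClasses.mk (⟨F g * g⁻¹, h⟩ : ↥(F.eqLocus (MonoidHom.id G)))) =
          ConjClasses.mk (⟨g⁻¹ * F g, h'⟩ : ↥(F.eqLocus (MonoidHom.id G))) := by
  have h1 : ∀ g : G, F (F g * g⁻¹) = F g * g⁻¹ → F (g⁻¹ * F g) = g⁻¹ * F g := by
    intro g h
    rw [map_mul, map_inv] at h ⊢
    have : F (F g) = F g * g⁻¹ * F g := by
      rw [← h]; group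
    rw [this]; group
  have h1' : ∀ g : G, F (g⁻¹ * F g) = g⁻¹ * F g → F (F g * g⁻¹) = F g * g⁻¹ := by
    intro g h
    rw [map_mul, map_inv] at h ⊢
    have : F (F g) = F g * (g⁻¹ * F g) := by
      rw [← h]; group
    rw [this]; group
  refine ⟨h1, ?_⟩
  -- the key lemma
  have key : ∀ (g g' : G) (h : F (F g * g⁻¹) = F g * g⁻¹) (h' : F (g⁻¹ * F g) = g⁻¹ * F g)
      (k : F (F g' * g'⁻¹) = F g' * g'⁻¹) (k' : F (g'⁻¹ * F g') = g'⁻¹ * F g'),
      ConjClasses.mk (⟨F g * g⁻¹, h⟩ : ↥(F.eqLocus (MonoidHom.id G))) =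
        ConjClasses.mk (⟨F g' * g'⁻¹, k⟩ : ↥(F.eqLocus (MonoidHom.id G))) ↔
      ConjClasses.mk (⟨g⁻¹ * F g, h'⟩ : ↥(F.eqLocus (MonoidHom.id G))) =
        ConjClasses.mk (⟨g'⁻¹ * F g', k'⟩ : ↥(F.eqLocus (MonoidHom.id G))) := by
    intro g g' h h' k k'
    rw [ConjClasses.mk_eq_mk_iff_isConj, ConjClasses.mk_eq_mk_iff_isConj, isConj_iff, isConj_iff]
    constructor
    · rintro ⟨c, hc⟩
      have hc' : (c : G) * (F g * g⁻¹) * (c : G)⁻¹ = F g' * g'⁻¹ := congrArg Subtype.val hc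
      have hcF : F (c : G) = c := c.2
      have hg' : F g' = (c : G) * (F g * g⁻¹) * (c : G)⁻¹ * g' := by rw [hc']; group
      have hh : F (g'⁻¹ * c * g) = g'⁻¹ * c * g := by
        rw [map_mul, map_mul, map_inv, hcF, hg']; group
      refine ⟨⟨g'⁻¹ * c * g, hh⟩, Subtype.ext ?_⟩
      change (g'⁻¹ * c * g) * (g⁻¹ * F g) * (g'⁻¹ * c * g)⁻¹ = g'⁻¹ * F g'
      rw [hg']; group
    · rintro ⟨c, hc⟩
      have hc' : (c : G) * (g⁻¹ * F g) * (c : G)⁻¹ = g'⁻¹ * F g' := congrArg Subtype.val hc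
      have hcF : F (c : G) = c := c.2
      have hg' : F g' = g' * ((c : G) * (g⁻¹ * F g) * (c : G)⁻¹) := by rw [hc']; group
      have hh : F (g' * c * g⁻¹) = g' * c * g⁻¹ := by
        rw [map_mul, map_mul, map_inv, hcF, hg']; group
      refine ⟨⟨g' * c * g⁻¹, hh⟩, Subtype.ext ?_⟩
      change (g' * c * g⁻¹) * (F g * g⁻¹) * (g' * c * g⁻¹)⁻¹ = F g' * g'⁻¹
      rw [hg']; group
  -- a choice of lift
  choose s hs using hL
  have hs1 : ∀ a : ↥(F.eqLocus (MonoidHom.id G)), F (F (s a) * (s a)⁻¹) = F (s a) * (s a)⁻¹ := by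
    intro a
    have : F (s a) * (s a)⁻¹ = a := hs a
    rw [this]; exact a.2
  have hs2 : ∀ a : ↥(F.eqLocus (MonoidHom.id G)),
      (⟨F (s a) * (s a)⁻¹, hs1 a⟩ : ↥(F.eqLocus (MonoidHom.id G))) = a := fun a => Subtype.ext (hs a)
  refine ⟨Quotient.lift (fun a : ↥(F.eqLocus (MonoidHom.id G)) =>
    ConjClasses.mk (⟨(s a)⁻¹ * F (s a), h1 _ (hs1 a)⟩ : ↥(F.eqLocus (MonoidHom.id G)))) ?_, ⟨?_, ?_⟩, ?_⟩
  · intro a b hab
    refine (key _ _ (hs1 a) _ (hs1 b) _).1 ?_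
    rw [hs2 a, hs2 b]
    exact ConjClasses.mk_eq_mk_iff_isConj.2 hab
  · intro x y
    obtain ⟨a, rfl⟩ := ConjClasses.mk_surjective x
    obtain ⟨b, rfl⟩ := ConjClasses.mk_surjective y
    intro hxy
    have := (key _ _ (hs1 a) (h1 _ (hs1 a)) (hs1 b) (h1 _ (hs1 b))).2 hxy
    rwa [hs2 a, hs2 b] at this
  · intro y
    obtain ⟨b, rfl⟩ := ConjClasses.mk_surjective y
    have hb : (s ((b : G)⁻¹)) * (F (s ((b : G)⁻¹)))⁻¹ = b := by
      have := hs ((b : G)⁻¹)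
      have h2 : (F (s ((b : G)⁻¹)) * (s ((b : G)⁻¹))⁻¹)⁻¹ = b := by
        rw [show F (s ((b : G)⁻¹)) * (s ((b : G)⁻¹))⁻¹ = (b : G)⁻¹ from this, inv_inv]
      rwa [mul_inv_rev, inv_inv] at h2
    set g : G := (s ((b : G)⁻¹))⁻¹ with hg
    have hgb : g⁻¹ * F g = b := by rw [hg, map_inv, inv_inv]; exact hb
    have hfix : F (g⁻¹ * F g) = g⁻¹ * F g := by rw [hgb]; exact b.2
    have hfix' := h1' g hfix
    refine ⟨ConjClasses.mk ⟨F g * g⁻¹, hfix'⟩, ?_⟩
    have h3 := (key (s (⟨F g * g⁻¹, hfix'⟩ : ↥(F.eqLocus (MonoidHom.id G)))) g (hs1 _) (h1 _ (hs1 _)) hfix' hfix).1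
      (by rw [hs2])
    refine Eq.trans h3 ?_
    congr 1
    exact Subtype.ext hgb
  · intro g h h'
    exact (key (s (⟨F g * g⁻¹, h⟩ : ↥(F.eqLocus (MonoidHom.id G)))) g (hs1 _) (h1 _ (hs1 _)) h h').1
      (by rw [hs2])

end Groth.Agent.S8625
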