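import Groth.Statements.S8627
import Groth.Agent.SGA4h.K557.GeomPt

set_option autoImplicit false
universe u
open CategoryTheory CategoryTheory.Limits AlgebraicGeometry
open SGA4h

namespace Groth.Agent.S8627

/-- Let f : X → S be a locally acyclic morphism of quasi-compact quasi-separated schemes
(vanishing-cycle varieties have the ℤ/n-cohomology of a point for n prime to the residue
characteristics), n a natural number invertible on S, and ε : t = Spec Ω → S a geometric point (Ω
separably closed), with cartesian square X_t = X ×_S t, ε' : X_t → X, f_t : X_t → t. Then the base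
change map f⁻¹ ε_* (ℤ/n) → ε'_* f_t⁻¹(ℤ/n) (= ε'_* ℤ/n) is an isomorphism and R^q ε'_* (ℤ/n) = 0 for
every q > 0. (The published statement takes the geometric point t with an algebraically closed
field; this row allows any separably closed field Ω.) -/
theorem result {X S : Scheme.{u}}
    [CompactSpace ↥X] [QuasiSeparatedSpace ↥X] [CompactSpace ↥S] [QuasiSeparatedSpace ↥S]
    (f : X ⟶ S) (hf : EtRest.IsLocallyAcyclic f) (n : ℕ) (hn : IsUnit (n : Γ(S, ⊤)))
    {Ω : Type u} [Field Ω] [IsSepClosed Ω] (t : Spec (CommRingCat.of Ω) ⟶ S) :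
    IsIso (EtCoh.baseChange0 t f (pullback.fst f t) (pullback.snd f t) (pullback.condition).symm
      (EtCoh.const (Spec (CommRingCat.of Ω)) (ZMod n))) ∧
    ∀ q : ℕ, 0 < q →
      IsZero ((EtCoh.Rpush (pullback.fst f t) q).obj (EtCoh.const (pullback f t) (ZMod n))) := by
  have i0 : QuasiCompact t := inferInstance
  have i00 : QuasiSeparated t := inferInstance
  have key : ∀ q : ℕ, IsIso (K557.BcQ.bq (IsPullback.of_hasPullback f t).flip.w q
      (EtCoh.const (Spec (CommRingCat.of Ω)) (ZMod n))) := by
    intro q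
    refine K557.GeomPt.isIso_bq_geomPt (IsPullback.of_hasPullback f t).flip _ q ?_
    intro x RS _ _ _ _ hRS RX _ _ _ _ hRX ψ hψ hsp κ hκ Q aQ bQ hQ
    have hnRX : (n : IsLocalRing.ResidueField RX) ≠ 0 := by
      let γ : Γ(S, ⊤) →+* IsLocalRing.ResidueField RX :=
        (IsLocalRing.residue RX).comp (ψ.comp ((algebraMap (S.presheaf.stalk (f x)) RS).comp
          (S.presheaf.germ ⊤ (f x) trivial).hom))
      have h1 := hn.map γ
      rw [map_natCast] at h1
      exact h1.ne_zero
    have hn0 : n ≠ 0 := by
      rintro rfl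
      exact hnRX Nat.cast_zero
    have hpt := Groth.Agent.Sga4h.LAcyc.hpt_of_isLocallyAcyclic hf
      (Groth.Agent.Etrest.StrictLoc.isStrictLoc_specOf S (f x) RS)
      (Groth.Agent.Etrest.StrictLoc.isStrictLoc_specOf X x RX) ψ hsp κ n hnRX
    have hptQ : Groth.Agent.Sga4h.StalkAcyc.HPt Q n :=
      Groth.Agent.Sga4h.StalkAcyc.HPt.of_iso ((IsPullback.of_hasPullback _ _).isoIsPullback _ _ hQ.flip) hpt
    have j1 : QuasiCompact aQ := MorphismProperty.of_isPullback hQ.flip inferInstance
    have j2 : QuasiSeparated aQ := MorphismProperty.of_isPullback hQ.flip inferInstance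
    have hac := Groth.Agent.Sga4h.BaseCase.acyc_point aQ n hn0 hptQ
    have : PreservesFiniteLimits (EtCoh.pull aQ) := Groth.Agent.Etcore.HQ.pfl _
    rw [← Groth.Agent.Etcore.HpullCalc.bijective_Hpull_iff]
    exact (Groth.Agent.Etbc.H234.LerayRange.Hpull_range_of_isIso_unit aQ _ q hac.1
      (fun q' h1 _ => hac.2 q' h1)).1 q le_rfl
  constructor
  · have h1 := key 0
    have h2 := K557.BcQ.toRightDerivedZero_bq (IsPullback.of_hasPullback f t).flip.w
      (EtCoh.const (Spec (CommRingCat.of Ω)) (ZMod n))
    have h3 : IsIso (EtCoh.baseChange0 t f (pullback.fst f t) (pullback.snd f t)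
        (IsPullback.of_hasPullback f t).flip.w (EtCoh.const (Spec (CommRingCat.of Ω)) (ZMod n)) ≫
        (EtCoh.push (pullback.fst f t)).toRightDerivedZero.app _) := by
      rw [← h2]
      infer_instance
    exact IsIso.of_isIso_comp_right _ ((EtCoh.push (pullback.fst f t)).toRightDerivedZero.app _)
  · intro q hq
    have h1 := K557.GeomPt.isZero_Rpush_geomPt t (EtCoh.const (Spec (CommRingCat.of Ω)) (ZMod n)) hq
    have h2 := key q
    have h3 := ((EtCoh.pull f).map_isZero h1).of_iso (asIso (K557.BcQ.bq
      (IsPullback.of_hasPullback f t).flip.w q (EtCoh.const (Spec (CommRingCat.of Ω)) (ZMod n)))).symm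
    exact h3.of_iso ((EtCoh.Rpush (pullback.fst f t) q).mapIso (EtCore.pullConst (pullback.snd f t) (ZMod n)).symm)

end Groth.Agent.S8627
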