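import Groth.Statements.S8628
import Groth.Agent.SGA4h.K252.UlaGlob
import Groth.Agent.S0101

set_option autoImplicit false
universe u
open CategoryTheory CategoryTheory.Limits AlgebraicGeometry
open SGA4h

namespace Groth.Agent.S8628

/-- For a single abelian sheaf: let f : X → S be a morphism of quasi-compact quasi-separated schemes and
F an abelian etale sheaf on X. Assume (a) f is universally locally acyclic relative to F; (b) the
formation of the higher direct images of F commutes with every finite base change (the degree-q base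
change maps are isomorphisms for every finite S' → S); (c) for every geometric point s : Spec Ω → S
and every morphism of separably closed points σ : Spec Ω' → Spec Ω, the restriction H^q(X_s, F) →
H^q(X_{s'}, F) along the induced map X_{s'} → X_s is bijective for all q. Then (f, F) is
cohomologically proper: for every morphism g : S' → S and cartesian square X' = X ×_S S', the
degree-q base change map g⁻¹R^q f_* F → R^q f'_* g'⁻¹F is an isomorphism for every q. -/
theorem result {X S : Scheme.{u}}
    [CompactSpace ↥X] [QuasiSeparatedSpace ↥X] [CompactSpace ↥S] [QuasiSeparatedSpace ↥S]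
    (f : X ⟶ S) (F : EtCoh.Ab X) (hula : SGA4h.IsULARel f F)
    (hfin : ∀ (S₁ X₁ : Scheme.{u}) (g : S₁ ⟶ S) [IsFinite g] (f₁ : X₁ ⟶ S₁) (g₁ : X₁ ⟶ X)
      (h : IsPullback g₁ f₁ f g) [PreservesFiniteLimits (EtCoh.pull g₁)] (q : ℕ),
      IsIso (EtBC.bcQ f g f₁ g₁ h.w q F))
    (hfib : ∀ (Ω Ω' : Type u) [Field Ω] [IsSepClosed Ω] [Field Ω'] [IsSepClosed Ω']
      (s : Spec (CommRingCat.of Ω) ⟶ S) (σ : Spec (CommRingCat.of Ω') ⟶ Spec (CommRingCat.of Ω))
      (h : pullback f (σ ≫ s) ⟶ pullback f s) (_ : h ≫ pullback.fst f s = pullback.fst f (σ ≫ s))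
      (_ : h ≫ pullback.snd f s = pullback.snd f (σ ≫ s) ≫ σ) [PreservesFiniteLimits (EtCoh.pull h)] (q : ℕ),
      Function.Bijective (EtCore.Hpull h ((EtCoh.pull (pullback.fst f s)).obj F) q))
    {S' X' : Scheme.{u}} [CompactSpace ↥S'] [QuasiSeparatedSpace ↥S']
    (g : S' ⟶ S) (f' : X' ⟶ S') (g' : X' ⟶ X) (h : IsPullback g' f' f g)
    [PreservesFiniteLimits (EtCoh.pull g')] (q : ℕ) :
    IsIso (EtBC.bcQ f g f' g' h.w q F) := by
  have i1 : QuasiCompact f := inferInstance
  have i2 : QuasiSeparated f := inferInstance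
  have hB : K252.FinBC.FB f F := by
    intro T Y t _ p r h q
    have := Groth.Agent.S0101.result p
    exact hfin T Y t r p h q
  have hI : K252.UlaBC.FI f F := by
    intro Ω Ω' _ _ _ _ s σ Y Y' p r hp k r' hk
    have H := IsPullback.of_hasPullback f s
    have H' := IsPullback.of_hasPullback f (σ ≫ s)
    have hk' : IsPullback (k ≫ p) r' f (σ ≫ s) := (hk.flip.paste_vert hp.flip).flip
    have w : pullback.fst f (σ ≫ s) ≫ f = (pullback.snd f (σ ≫ s) ≫ σ) ≫ s := by
      rw [Category.assoc]; exact H'.w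
    have h0 : Groth.Agent.Sga4h.UlaGood.HI (H.lift _ _ w) ((EtCoh.pull (pullback.fst f s)).obj F) := by
      rw [Groth.Agent.Sga4h.UlaGood.hi_iff_Hpull]
      intro q
      exact hfib Ω Ω' s σ (H.lift _ _ w) (H.lift_fst _ _ _) (H.lift_snd _ _ _) q
    let e := hp.isoIsPullback _ _ H
    let e' := hk'.isoIsPullback _ _ H'
    have he : e.hom ≫ pullback.fst f s = p := by simp [e]
    have hw : e'.hom ≫ H.lift _ _ w = k ≫ e.hom := by
      apply H.hom_ext
      · simp [e, e']
      · simp [e, e', hk.w]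
    have h1 : Groth.Agent.Sga4h.UlaGood.HI (k ≫ e.hom) ((EtCoh.pull (pullback.fst f s)).obj F) :=
      Groth.Agent.Sga4h.UlaGood.HI.comp hw h0 (Groth.Agent.Sga4h.UlaGood.HI.of_isIso _ _)
    have h2 := Groth.Agent.Sga4h.UlaGood.HI.of_comp_left rfl
      (Groth.Agent.Sga4h.UlaGood.HI.of_isIso e.hom ((EtCoh.pull (pullback.fst f s)).obj F)) h1
    exact (Groth.Agent.Sga4h.UlaGood.HI.pull_pull he).1 h2
  exact K252.UlaGlob.isIso_bq_of_ula hula hB hI h q

end Groth.Agent.S8628
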