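import Groth.Statements.S8629
import Groth.Agent.S3480
import Groth.Agent.SGA4h.K445.LocAcyc
import Groth.Agent.EtpbcA.TorsionColim

set_option autoImplicit false
universe u
open CategoryTheory CategoryTheory.Limits AlgebraicGeometry
open SGA4h

namespace Groth.Agent.S8629

/-- Let S be a Noetherian scheme, f : X → S a proper and locally acyclic morphism (for instance proper
and smooth) and n a natural number invertible on S. Then every higher direct image R^q f_* (ℤ/n) is
a finite locally constant (locally constant constructible) sheaf on S. (The published statement has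
no Noetherian hypothesis on S; the cospecialisation assertion is not included.) -/
theorem result {X S : Scheme.{u}}
    [IsNoetherian S] (f : X ⟶ S) [IsProper f] (hf : EtRest.IsLocallyAcyclic f)
    (n : ℕ) (hn : IsUnit (n : Γ(S, ⊤))) (q : ℕ) :
    EtCoh.IsFiniteLocallyConstant ((EtCoh.Rpush f q).obj (EtCoh.const X (ZMod n))) := by
  rcases Nat.eq_zero_or_pos n with rfl | hpos
  · have hE : IsEmpty S := by
      by_contra hne
      rw [not_isEmpty_iff] at hne
      have : Nontrivial Γ(S, ⊤) := by
        have : Nonempty (⊤ : S.Opens) := ⟨⟨hne.some, trivial⟩⟩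
        infer_instance
      rw [Nat.cast_zero, isUnit_zero_iff] at hn
      exact zero_ne_one hn
    exact ⟨PEmpty, fun i => i.elim, fun x => hE.elim x, fun i => i.elim⟩
  by_cases h1 : n = 1
  · subst h1
    have hZ : ∀ Y : Scheme.{u}, IsZero (EtCoh.const Y (ZMod 1)) := by
      intro Y
      rw [IsZero.iff_id_eq_zero]
      have := (Groth.Agent.EtpbcA.Present.killedBy_iff 1 (EtCoh.const Y (ZMod 1))).1
        (Groth.Agent.Etrest.ConstBasic.killedBy_const Y (ZMod 1) 1 fun m => Subsingleton.elim _ _)
      rwa [one_nsmul] at this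
    refine Groth.Agent.Etrest.ConstBasic.isFiniteLocallyConstant_of_iso
      ((hZ S).iso (Functor.map_isZero (EtCoh.Rpush f q) (hZ X))) ?_
    exact Groth.Agent.Etrest.ConstBasic.isFiniteLocallyConstant_const S (ZMod 1)
  · have : NeZero n := ⟨hpos.ne'⟩
    have hlfp : LocallyOfFinitePresentation f := inferInstance
    refine Groth.Agent.S3480.result f {ℓ | ℓ.Prime ∧ ℓ ∣ n} q
      (Groth.Agent.SGA4h.K445.LocAcyc.isLocAcyclicN_of_isLocallyAcyclic f hf _ ?_ ?_ q)
      (EtCoh.const X (ZMod n)) ?_
      (Groth.Agent.Etrest.ConstBasic.isFiniteLocallyConstant_const X (ZMod n)) q le_rfl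
    · obtain ⟨ℓ, hℓ, hd⟩ := Nat.exists_prime_and_dvd h1
      exact ⟨ℓ, ⟨hℓ, hd⟩, hℓ⟩
    · rintro ℓ ⟨hℓ, hd⟩ _ x h0
      have hu : IsUnit ((ℓ : ℕ) : Γ(S, ⊤)) := isUnit_of_dvd_unit (Nat.cast_dvd_cast hd) hn
      have hu2 : IsUnit ((ℓ : ℕ) : X.residueField x) := by
        have := (hu.map (f.appTop.hom)).map ((X.evaluation ⊤ x trivial).hom)
        simpa using this
      exact hu2.ne_zero h0
    · intro U s x
      refine ⟨U, 𝟙 U, n, ⟨x, rfl⟩, ⟨hpos, fun p hp hpn => ⟨hp, hpn⟩⟩, ?_⟩
      have := Groth.Agent.Etrest.ConstBasic.killedBy_const X (ZMod n) n (fun m => by simp) U s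
      simpa using this

end Groth.Agent.S8629
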