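import Groth.Statements.S8630
import Mathlib.RingTheory.Localization.Integral
import Mathlib.RingTheory.Polynomial.GaussLemma
import Mathlib.RingTheory.PowerSeries.NoZeroDivisors
import Mathlib.Algebra.Field.ZMod
import Mathlib.RingTheory.PowerSeries.Trunc

set_option autoImplicit false
open Zeta

namespace Groth.Agent.S8630

open Polynomial in
/-- If `Q` is primitive and `Q U` is a nonzero constant then the constant coefficient of `Q` is a unit. -/
theorem isUnit_of_mul_eq (Q : Polynomial ℤ) (hQ : Q.IsPrimitive) (N : ℕ) : ∀ (c : ℤ) (_ : c.natAbs = N) (_ : c ≠ 0)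
    (U : PowerSeries ℤ) (_ : (Q : PowerSeries ℤ) * U = PowerSeries.C c), IsUnit (Q.coeff 0) := by
  induction N using Nat.strong_induction_on with
  | _ N ih =>
    intro c hcN hc U hU
    by_cases h1 : N = 1
    · have h2 := congrArg (PowerSeries.constantCoeff) hU
      rw [map_mul, PowerSeries.constantCoeff_C] at h2
      have h3 : PowerSeries.constantCoeff (Q : PowerSeries ℤ) = Q.coeff 0 := by
        rw [← PowerSeries.coeff_zero_eq_constantCoeff_apply, Polynomial.coeff_coe]
      rw [h3] at h2
      have hcu : IsUnit c := Int.isUnit_iff_natAbs_eq.mpr (hcN.trans h1)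
      rw [← h2] at hcu
      exact isUnit_of_mul_isUnit_left hcu
    · obtain ⟨p, hp, hpN⟩ := Nat.exists_prime_and_dvd h1
      have : Fact p.Prime := ⟨hp⟩
      have hpc : (p : ℤ) ∣ c := by
        rw [← Int.natCast_dvd_natCast] at hpN
        rw [← hcN] at hpN
        exact (Int.dvd_natAbs).mp hpN
      -- modulo `p`
      have h2 := congrArg (PowerSeries.map (Int.castRingHom (ZMod p))) hU
      rw [map_mul, PowerSeries.map_C] at h2
      have h3 : (Int.castRingHom (ZMod p)) c = 0 := by
        rw [eq_intCast, ZMod.intCast_zmod_eq_zero_iff_dvd]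
        exact hpc
      rw [h3, map_zero, mul_eq_zero] at h2
      have hU0 : PowerSeries.map (Int.castRingHom (ZMod p)) U = 0 := by
        rcases h2 with h2 | h2
        · exfalso
          have h4 : Polynomial.C (p : ℤ) ∣ Q := by
            rw [Polynomial.C_dvd_iff_dvd_coeff]
            intro i
            have h5 := congrArg (PowerSeries.coeff i) h2
            rw [PowerSeries.coeff_map, Polynomial.coeff_coe, map_zero, eq_intCast,
              ZMod.intCast_zmod_eq_zero_iff_dvd] at h5
            exact h5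
          have h6 := hQ _ h4
          rw [Int.isUnit_iff_natAbs_eq, Int.natAbs_natCast] at h6
          exact hp.one_lt.ne' h6
        · exact h2
      have hdiv : ∀ n, (p : ℤ) ∣ PowerSeries.coeff n U := by
        intro n
        have h5 := congrArg (PowerSeries.coeff n) hU0
        rw [PowerSeries.coeff_map, map_zero, eq_intCast,
          ZMod.intCast_zmod_eq_zero_iff_dvd] at h5
        exact h5
      choose u hu using hdiv
      obtain ⟨c', rfl⟩ := hpc
      have hp0 : (p : ℤ) ≠ 0 := by exact_mod_cast hp.ne_zero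
      have hU' : U = PowerSeries.C (p : ℤ) * PowerSeries.mk u := by
        ext n
        rw [PowerSeries.coeff_C_mul, PowerSeries.coeff_mk, hu n]
      have hC : PowerSeries.C (p : ℤ) ≠ (0 : PowerSeries ℤ) := by
        intro h
        have := congrArg PowerSeries.constantCoeff h
        rw [PowerSeries.constantCoeff_C, map_zero] at this
        exact hp0 this
      have hQ' : (Q : PowerSeries ℤ) * PowerSeries.mk u = PowerSeries.C c' := by
        apply mul_left_cancel₀ hC
        rw [← map_mul, ← hU, hU']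
        ring
      have hc' : c' ≠ 0 := fun h => hc (by rw [h, mul_zero])
      refine ih c'.natAbs ?_ c' rfl hc' (PowerSeries.mk u) hQ'
      rw [← hcN, Int.natAbs_mul, Int.natAbs_natCast]
      have h7 : 0 < c'.natAbs := Int.natAbs_pos.mpr hc'
      have h8 := hp.one_lt
      nlinarith

/-- clearing denominators -/
theorem exists_clear (A : Polynomial ℚ) : ∃ (m : ℤ) (A₁ : Polynomial ℤ), m ≠ 0 ∧
    A₁.map (Int.castRingHom ℚ) = Polynomial.C (m : ℚ) * A := by
  obtain ⟨b, hb⟩ := IsLocalization.integerNormalization_map_to_map (nonZeroDivisors ℤ) A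
  refine ⟨b, IsLocalization.integerNormalization (nonZeroDivisors ℤ) A,
    nonZeroDivisors.coe_ne_zero b, ?_⟩
  rw [← eq_intCast (algebraMap ℤ ℚ), ← Polynomial.smul_eq_C_mul]
  have : Int.castRingHom ℚ = algebraMap ℤ ℚ := rfl
  rw [this, hb]
  ext n
  simp


/-- Fatou's lemma: let P, Q ∈ ℚ[T] be coprime with constant coefficient 1, and suppose the power series
P/Q has integer coefficients, i.e. P = Q·Z in ℚ⟦T⟧ for a power series Z with coefficients in ℤ. Then
P and Q have integer coefficients. -/
theorem result (P Q : Polynomial ℚ)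
    (hPQ : IsCoprime P Q) (hP : P.coeff 0 = 1) (hQ : Q.coeff 0 = 1) (Z : PowerSeries ℤ)
    (hZ : (P : PowerSeries ℚ) = (Q : PowerSeries ℚ) * PowerSeries.map (Int.castRingHom ℚ) Z) :
    (∃ P₀ : Polynomial ℤ, P₀.map (Int.castRingHom ℚ) = P) ∧
      ∃ Q₀ : Polynomial ℤ, Q₀.map (Int.castRingHom ℚ) = Q := by
  have hinj : Function.Injective (PowerSeries.map (Int.castRingHom ℚ)) := by
    intro f g h
    ext n
    have := congrArg (PowerSeries.coeff n) h
    rw [PowerSeries.coeff_map, PowerSeries.coeff_map] at this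
    exact Int.cast_injective this
  have hQ0 : Q ≠ 0 := by
    rintro rfl
    simp at hQ
  -- a primitive multiple of Q
  obtain ⟨b, Q', hb, hQ'⟩ := exists_clear Q
  have hQ'0 : Q' ≠ 0 := by
    rintro rfl
    rw [Polynomial.map_zero] at hQ'
    have := hQ'.symm
    rw [mul_eq_zero, Polynomial.C_eq_zero] at this
    rcases this with h | h
    · exact hb (by exact_mod_cast h)
    · exact hQ0 h
  set Q₁ := Q'.primPart with hQ₁
  have hprim : Q₁.IsPrimitive := Q'.isPrimitive_primPart
  set r : ℤ := Q₁.coeff 0 with hr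
  have hcont : Q'.content ≠ 0 := by
    rw [Ne, Polynomial.content_eq_zero_iff]
    exact hQ'0
  have hmap : Q₁.map (Int.castRingHom ℚ) = Polynomial.C (r : ℚ) * Q := by
    have h1 : Polynomial.C ((Q'.content : ℤ) : ℚ) * Q₁.map (Int.castRingHom ℚ) = Polynomial.C (b : ℚ) * Q := by
      rw [← hQ']
      conv_rhs => rw [Q'.eq_C_content_mul_primPart]
      rw [Polynomial.map_mul, Polynomial.map_C]
      rfl
    have hcQ : ((Q'.content : ℤ) : ℚ) ≠ 0 := by exact_mod_cast hcont
    have h2 := congrArg (fun q => Polynomial.coeff q 0) h1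
    simp only [Polynomial.coeff_C_mul, hQ, mul_one, Polynomial.coeff_map] at h2
    have h2' : ((Q'.content : ℤ) : ℚ) * (r : ℚ) = b := h2
    have hCc : Polynomial.C ((Q'.content : ℤ) : ℚ) ≠ 0 := by
      rw [Ne, Polynomial.C_eq_zero]; exact hcQ
    apply mul_left_cancel₀ hCc
    rw [h1, ← h2', map_mul, mul_assoc]
  have hr0 : r ≠ 0 := by
    intro h
    rw [h, Int.cast_zero, map_zero, zero_mul] at hmap
    have h1 : Q₁ = 0 := by
      apply Polynomial.map_injective (Int.castRingHom ℚ) Int.cast_injective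
      rw [hmap, Polynomial.map_zero]
    exact hprim.ne_zero h1
  -- the power series Q₁ Z is a polynomial
  have hser : PowerSeries.map (Int.castRingHom ℚ) ((Q₁ : PowerSeries ℤ) * Z) =
      ((Polynomial.C (r : ℚ) * P : Polynomial ℚ) : PowerSeries ℚ) := by
    rw [map_mul, ← Polynomial.polynomial_map_coe, hmap, Polynomial.coe_mul, Polynomial.coe_mul, hZ]
    ring
  obtain ⟨P₁, hP₁⟩ : ∃ P₁ : Polynomial ℤ, (P₁ : PowerSeries ℤ) = (Q₁ : PowerSeries ℤ) * Z := by
    refine ⟨PowerSeries.trunc ((Polynomial.C (r : ℚ) * P).natDegree + 1) ((Q₁ : PowerSeries ℤ) * Z), ?_⟩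
    ext n
    rw [Polynomial.coeff_coe, PowerSeries.coeff_trunc]
    split_ifs with h
    · rfl
    · have h1 := congrArg (PowerSeries.coeff n) hser
      rw [PowerSeries.coeff_map, Polynomial.coeff_coe,
        Polynomial.coeff_eq_zero_of_natDegree_lt (by omega)] at h1
      exact (Int.cast_injective (α := ℚ) (h1.trans Int.cast_zero.symm)).symm
  have hP₁map : P₁.map (Int.castRingHom ℚ) = Polynomial.C (r : ℚ) * P := by
    apply Polynomial.coe_injective
    rw [Polynomial.polynomial_map_coe, hP₁, hser]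
  -- Bezout
  obtain ⟨A, B, hAB⟩ := hPQ
  obtain ⟨a, A₁, ha, hA₁⟩ := exists_clear A
  obtain ⟨b', B₁, hb', hB₁⟩ := exists_clear B
  have hbez : Polynomial.C b' * A₁ * P₁ + Polynomial.C a * B₁ * Q₁ = Polynomial.C (a * b' * r) := by
    apply Polynomial.map_injective (Int.castRingHom ℚ) Int.cast_injective
    simp only [Polynomial.map_add, Polynomial.map_mul, Polynomial.map_C, hA₁, hB₁, hP₁map, hmap]
    calc Polynomial.C (b' : ℚ) * (Polynomial.C (a : ℚ) * A) * (Polynomial.C (r : ℚ) * P) +
        Polynomial.C (a : ℚ) * (Polynomial.C (b' : ℚ) * B) * (Polynomial.C (r : ℚ) * Q)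
        = Polynomial.C (a : ℚ) * Polynomial.C (b' : ℚ) * Polynomial.C (r : ℚ) * (A * P + B * Q) := by ring
      _ = _ := by rw [hAB, mul_one, ← map_mul, ← map_mul, eq_intCast, Int.cast_mul, Int.cast_mul]
  have hbez' : (Q₁ : PowerSeries ℤ) * (PowerSeries.C b' * (A₁ : PowerSeries ℤ) * Z +
      PowerSeries.C a * (B₁ : PowerSeries ℤ)) = PowerSeries.C (a * b' * r) := by
    have h1 := congrArg (fun q : Polynomial ℤ => (q : PowerSeries ℤ)) hbez
    simp only [Polynomial.coe_add, Polynomial.coe_mul, Polynomial.coe_C, hP₁] at h1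
    rw [← h1]
    ring
  have hunit : IsUnit r := isUnit_of_mul_eq Q₁ hprim _ (a * b' * r) rfl
    (mul_ne_zero (mul_ne_zero ha hb') hr0) _ hbez'
  have hrr : r * r = 1 := Int.isUnit_mul_self hunit
  have hrr' : (r : ℚ) * r = 1 := by exact_mod_cast hrr
  refine ⟨⟨Polynomial.C r * P₁, ?_⟩, ⟨Polynomial.C r * Q₁, ?_⟩⟩
  · rw [Polynomial.map_mul, hP₁map, Polynomial.map_C, eq_intCast, ← mul_assoc, ← map_mul, hrr',
      map_one, one_mul]
  · rw [Polynomial.map_mul, hmap, Polynomial.map_C, eq_intCast, ← mul_assoc, ← map_mul, hrr',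
      map_one, one_mul]

end Groth.Agent.S8630
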