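import Groth.Statements.S8640
-- import your own Groth.Agent.* helpers here
import Groth.Agent.Vancyc.H687.Cone

set_option autoImplicit false
universe u
open CategoryTheory CategoryTheory.Limits AlgebraicGeometry Opposite
open EtAcyc

namespace Groth.Agent.S8640

/-- Part (1): let k be a field, f ∈ k[x_0, …, x_n] a homogeneous polynomial, Z = Spec k[x_0, …, x_n]/(f)
the affine cone defined by f = 0, and i₀ : Spec k ⟶ Z its vertex, i.e. the k-point of Z lying over
the origin of affine (n+1)-space. For every natural number r invertible in k and every i, the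
restriction map H^i(Z_et, Z/r) ⟶ H^i((Spec k)_et, i₀^{-1}(Z/r)) is bijective. (Pullback on
cohomology is the shared prelude's, with exactness of i₀^{-1} carried as an instance hypothesis; it
always holds.) -/
theorem result (k : Type u) [Field k] (n d : ℕ)
    (f : MvPolynomial (Fin (n + 1)) k) (hf : f.IsHomogeneous d) (r : ℕ) (hr : (r : k) ≠ 0)
    (i₀ : Spec (CommRingCat.of k) ⟶ Spec (CommRingCat.of (MvPolynomial (Fin (n + 1)) k ⧸ Ideal.span {f})))
    (hi₀ : i₀ ≫ Spec.map (CommRingCat.ofHom (Ideal.Quotient.mk (Ideal.span {f}))) =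
      Spec.map (CommRingCat.ofHom (MvPolynomial.eval (fun _ : Fin (n + 1) => (0 : k)))))
    [PreservesFiniteLimits (EtCoh.pull i₀)] (i : ℕ) :
    Function.Bijective (EtCore.Hpull i₀
      (EtCoh.const (Spec (CommRingCat.of (MvPolynomial (Fin (n + 1)) k ⧸ Ideal.span {f}))) (ZMod r)) i) := by
  obtain ⟨φ, rfl⟩ : ∃ φ : CommRingCat.of (MvPolynomial (Fin (n + 1)) k ⧸ Ideal.span {f}) ⟶ CommRingCat.of k,
      Spec.map φ = i₀ := ⟨Spec.preimage i₀, Spec.map_preimage i₀⟩
  have h1 : CommRingCat.ofHom (Ideal.Quotient.mk (Ideal.span {f})) ≫ φ =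
      CommRingCat.ofHom (MvPolynomial.eval (fun _ : Fin (n + 1) => (0 : k))) := by
    apply Spec.map_injective
    rw [Spec.map_comp]
    exact hi₀
  have h2 : ∀ p : MvPolynomial (Fin (n + 1)) k, φ.hom (Ideal.Quotient.mk (Ideal.span {f}) p) =
      MvPolynomial.eval (fun _ : Fin (n + 1) => (0 : k)) p := fun p =>
    congrArg (fun a : CommRingCat.of (MvPolynomial (Fin (n + 1)) k) ⟶ CommRingCat.of k => a.hom p) h1
  let ε : (MvPolynomial (Fin (n + 1)) k ⧸ Ideal.span {f}) →ₐ[k] k :=
    { toRingHom := φ.hom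
      commutes' := fun a => by
        have := h2 (MvPolynomial.C a)
        rw [MvPolynomial.eval_C] at this
        exact this }
  have hε : ∀ i, ε (Ideal.Quotient.mk (Ideal.span {f}) (MvPolynomial.X i)) = 0 := fun i => by
    have := h2 (MvPolynomial.X i)
    rw [MvPolynomial.eval_X] at this
    exact this
  have hI : ∃ T : Set (MvPolynomial (Fin (n + 1)) k), Ideal.span {f} = Ideal.span T ∧
      ∀ p ∈ T, ∃ d : ℕ, MvPolynomial.IsHomogeneous p d :=
    ⟨{f}, rfl, fun p hp => ⟨d, by rw [Set.mem_singleton_iff.1 hp]; exact hf⟩⟩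
  exact (Groth.Agent.Etcore.HpullCalc.bijective_Hpull_iff _ _ i).2
    (Groth.Agent.Vancyc.H687.Cone.bijective_hp_vertex (Ideal.span {f}) hI ε hε hr i)

end Groth.Agent.S8640
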