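import Groth.Statements.S8655
import Groth.Agent.RegImm.K559.Koszul

set_option autoImplicit false
universe u
open CategoryTheory CategoryTheory.Limits AlgebraicGeometry
open RegImm

namespace Groth.Agent.S8655

/-- Let i : Y ⟶ X be a Koszul-regular immersion of constant codimension n and j : Z ⟶ Y a Koszul-regular
immersion of constant codimension m (around every point the ideal is generated by a Koszul-regular
sequence of that length). Then j ≫ i is a Koszul-regular immersion of constant codimension m + n. -/
theorem result {X Y Z : Scheme.{u}} (n m : ℕ) (i : Y ⟶ X) (j : Z ⟶ Y)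
    (hi : RegImm.IsRegularImmersionOfCodim .koszul n i) (hj : RegImm.IsRegularImmersionOfCodim .koszul m j) :
    RegImm.IsRegularImmersionOfCodim .koszul (m + n) (j ≫ i) := by
  rw [K559.Koszul.isRegularImmersionOfCodim_iff] at hi hj ⊢
  have := hi.1
  have := hj.1
  exact ⟨inferInstance, fun z => (hi.2 (j z)).comp (fun _ _ h h' => by rw [h, h']) (hj.2 z)⟩

end Groth.Agent.S8655
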