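import Groth.Statements.S8664
import Groth.Agent.SGA6.K38.SerreFlat
import Groth.Agent.Ega2.TensGen
import Groth.Agent.Ega3B.ProjFrame
import Groth.Agent.Krr.H458.RegStr
import Groth.Agent.CohqA.HOpen

set_option autoImplicit false
universe v u
open CategoryTheory CategoryTheory.Limits AlgebraicGeometry
attribute [local instance] HasDerivedCategory.standard
open SGA6

namespace Groth.Agent.S8664

/-- Let S be a quasi-compact scheme, f : P = P^r_S ⟶ S the projection, and F a finitely presented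
O_P-module which is flat over S (all stalks of F flat over the corresponding local rings of S). Then
there is n₀ such that for all n ≥ n₀ one has R^q f_*(F(n)) = 0 for every q ≥ 1 (higher direct images
of the underlying abelian sheaf) and f_*(F(n)) is finite locally free on S, with F(n) = O_P(n) ⊗ F.
(The published statement is for the projective bundle of any finite locally free O_S-module and also
asserts (iii) that ⊕_{n ≥ n₀} f_*(F(n)) is a finitely presented graded module over the symmetric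
algebra; this row takes the trivial bundle and states (i), (ii) only.) -/
theorem result (S : Scheme.{u}) [CompactSpace ↥S] (r : ℕ)
    (F : (KRR.PY r S).Modules) (hF : CohB1.IsFP F) (hfl : FlatMod.IsFlatOver (KRR.pr r S) F) :
    ∃ n₀ : ℕ, ∀ n : ℕ, n₀ ≤ n →
      (∀ q : ℕ, 1 ≤ q → IsZero ((Coh.RpushAb (KRR.pr r S) q).obj (Coh.toAb (KRR.twF r S (n : ℤ) F)))) ∧
      FlatMod.IsFinLocFree ((Scheme.Modules.pushforward (KRR.pr r S)).obj (KRR.twF r S (n : ℤ) F)) := by
  classical
  -- a finite affine cover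
  obtain ⟨ι, hι, V, hV, hcov⟩ := Sga67.SerreVB.exists_cover S
  have key : ∀ i, ∃ m : ℕ, ∀ n : ℤ, (m : ℤ) ≤ n → _ := fun i =>
    K38.SerreFlat.exists_push r Γ(S, V i) (K38.SerreFlat.pf_restrict r hF hfl (hV i))
  choose m hm using key
  cases nonempty_fintype ι
  refine ⟨Finset.univ.sup m, fun n hn => ?_⟩
  have hle : ∀ i, (m i : ℤ) ≤ (n : ℤ) := fun i =>
    Int.ofNat_le.2 ((Finset.le_sup (Finset.mem_univ i)).trans hn)
  have hsurj : ∀ s : S, ∃ i, s ∈ Set.range (hV i).fromSpec := by
    intro s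
    have h1 : s ∈ (⨆ j, V j : S.Opens) := hcov ▸ trivial
    obtain ⟨i, hi⟩ := TopologicalSpace.Opens.mem_iSup.1 h1
    refine ⟨i, ?_⟩
    rw [(hV i).range_fromSpec]
    exact hi
  have hprop : IsProper (KRR.pr r S) := inferInstance
  refine ⟨fun q hq => ?_, ?_⟩
  · have hqc : Coh.IsQCoh (KRR.twF r S (n : ℤ) F) :=
      PerfA.QCohSerre.isQCoh_of_iso (Ega2.Tens.swap F (Twist.twistOver r S (n : ℤ)))
        (Ega2.TensGen.isQCoh_tensor (Models2.FPCoh.isQCoh_of_isFP hF) (Ega3B.ProjFrame.isInvertible_twistOver r (n : ℤ)))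
    refine CohqB.RelVan.isZero_RpushAb_of_cover (KRR.pr r S) _ hqc q fun s => ?_
    obtain ⟨i, hi⟩ := hsurj s
    rw [(hV i).range_fromSpec] at hi
    refine ⟨V i, hi, hV i, ?_⟩
    obtain ⟨e⟩ := K38.SerreFlat.nonempty_tw_restrict r F (hV i) (n : ℤ)
    have h1 := (hm i n (hle i)).1 q hq
    have h2 : Subsingleton (Coh.HH (CohB1.ProjSpace r Γ(S, V i))
        ((KRR.twF r S (n : ℤ) F).restrict (Ega3A.PChart.chart r (hV i).fromSpec)) q) :=
      Fga.HShift.subsingleton_of_iso e.symm q h1
    have h3 := (CohqA.HOpen.HHEquiv (Ega3A.PChart.chart r (hV i).fromSpec) (KRR.twF r S (n : ℤ) F)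
      (KRR.pr r S ⁻¹ᵁ V i) (Krr.H458.RegStr.preimage_eq_image r S (hV i)) q)
    have h4 := CohqA.HOpen.HHonEquiv (KRR.twF r S (n : ℤ) F) (KRR.pr r S ⁻¹ᵁ V i) q
    exact (h4.symm.trans h3).toEquiv.subsingleton
  · refine Sga67.PushLocal.isFinLocFree_pushforward (π := fun i => CohB1.ProjSpace.toSpec r Γ(S, V i))
      (j := fun i => Ega3A.PChart.chart r (hV i).fromSpec) hsurj
      (fun i => Ega3A.PChart.isPullback_chart r (hV i).fromSpec) _ fun i => ?_
    obtain ⟨e⟩ := K38.SerreFlat.nonempty_tw_restrict r F (hV i) (n : ℤ)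
    exact Dcoh.FinLocFree.isFinLocFree_of_iso
      ((Scheme.Modules.pushforward (CohB1.ProjSpace.toSpec r Γ(S, V i))).mapIso e).symm (hm i n (hle i)).2

end Groth.Agent.S8664
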