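import Groth.Statements.S8666
import Mathlib.RingTheory.PicardGroup

set_option autoImplicit false
universe u
open CAlg

namespace Groth.Agent.S8666

theorem exists_lin (A : Type u) [CommRing A] (M : Type u) [AddCommGroup M] [Module A M]
    [Module.Invertible A M] (p : Ideal A) [p.IsPrime] :
    Nonempty (LocalizedModule p.primeCompl M ≃ₗ[Localization.AtPrime p] Localization.AtPrime p) := by
  haveI : Module.Invertible (Localization.AtPrime p) (LocalizedModule p.primeCompl M) :=
    inferInstance
  haveI : Subsingleton (CommRing.Pic (Localization.AtPrime p)) := inferInstance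
  haveI : Module.Free (Localization.AtPrime p) (LocalizedModule p.primeCompl M) := inferInstance
  exact Module.Invertible.free_iff_linearEquiv.mp inferInstance

/-- `s` generates `M_p`, for one prime. -/
def Good (A : Type u) [CommRing A] (M : Type u) [AddCommGroup M] [Module A M]
    [Module.Invertible A M] (p : PrimeSpectrum A) (s : M) : Prop :=
  IsUnit ((exists_lin A M p.asIdeal).some (LocalizedModule.mkLinearMap p.asIdeal.primeCompl M s))

theorem good_span {A : Type u} [CommRing A] {M : Type u} [AddCommGroup M] [Module A M]
    [Module.Invertible A M] {p : PrimeSpectrum A} {s : M} (h : Good A M p s) :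
    Submodule.span (Localization.AtPrime p.asIdeal)
      {LocalizedModule.mkLinearMap p.asIdeal.primeCompl M s} = ⊤ := by
  set e := (exists_lin A M p.asIdeal).some
  rw [eq_top_iff]
  intro x _
  obtain ⟨w, hw⟩ := h
  rw [Submodule.mem_span_singleton]
  refine ⟨e x * (w⁻¹ : (Localization.AtPrime p.asIdeal)ˣ), ?_⟩
  apply e.injective
  rw [map_smul, smul_eq_mul]
  change _ * (exists_lin A M p.asIdeal).some _ = _
  rw [← hw, mul_assoc, Units.inv_mul, mul_one]

theorem exists_good {A : Type u} [CommRing A] {M : Type u} [AddCommGroup M] [Module A M]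
    [Module.Invertible A M] (p : PrimeSpectrum A) : ∃ s : M, Good A M p s := by
  set e := (exists_lin A M p.asIdeal).some with he
  obtain ⟨⟨m, t⟩, h⟩ := IsLocalizedModule.surj p.asIdeal.primeCompl
    (LocalizedModule.mkLinearMap p.asIdeal.primeCompl M) (e.symm 1)
  refine ⟨m, ?_⟩
  dsimp only at h
  rw [Good, ← he, ← h]
  have h1 : e (t • e.symm 1) = algebraMap A (Localization.AtPrime p.asIdeal) (t : A) := by
    have : t • e.symm (1 : Localization.AtPrime p.asIdeal) =
        (algebraMap A (Localization.AtPrime p.asIdeal) (t : A)) • e.symm 1 := by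
      rw [algebraMap_smul]; rfl
    rw [this, map_smul, LinearEquiv.apply_symm_apply, smul_eq_mul, mul_one]
  rw [h1]
  exact IsLocalization.map_units _ t

theorem good_add {A : Type u} [CommRing A] {M : Type u} [AddCommGroup M] [Module A M]
    [Module.Invertible A M] {p : PrimeSpectrum A} {s : M} (h : Good A M p s) {t : A}
    (ht : t ∈ p.asIdeal) (m : M) : Good A M p (s + t • m) := by
  by_contra hn
  have h1 : (exists_lin A M p.asIdeal).some
      (LocalizedModule.mkLinearMap p.asIdeal.primeCompl M (s + t • m)) ∈
      IsLocalRing.maximalIdeal (Localization.AtPrime p.asIdeal) := hn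
  have h2 : (exists_lin A M p.asIdeal).some
      (LocalizedModule.mkLinearMap p.asIdeal.primeCompl M (t • m)) ∈
      IsLocalRing.maximalIdeal (Localization.AtPrime p.asIdeal) := by
    have : LocalizedModule.mkLinearMap p.asIdeal.primeCompl M (t • m) =
      (algebraMap A (Localization.AtPrime p.asIdeal) t) •
        LocalizedModule.mkLinearMap p.asIdeal.primeCompl M m := by
      rw [algebraMap_smul, map_smul]
    rw [this, map_smul, smul_eq_mul]
    apply Ideal.mul_mem_right
    rw [← IsLocalization.AtPrime.to_map_mem_maximal_iff (Localization.AtPrime p.asIdeal)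
      p.asIdeal t] at ht
    exact ht
  rw [map_add, map_add] at h1
  have h3 := (Ideal.add_mem_iff_left _ h2).mp h1
  exact h3 h

theorem good_add' {A : Type u} [CommRing A] {M : Type u} [AddCommGroup M] [Module A M]
    [Module.Invertible A M] {p : PrimeSpectrum A} {s m : M} (h : ¬ Good A M p s)
    (hm : Good A M p m) {t : A} (ht : t ∉ p.asIdeal) : Good A M p (s + t • m) := by
  by_contra hn
  have h1 : (exists_lin A M p.asIdeal).some
      (LocalizedModule.mkLinearMap p.asIdeal.primeCompl M (s + t • m)) ∈
      IsLocalRing.maximalIdeal (Localization.AtPrime p.asIdeal) := hn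
  have h0 : (exists_lin A M p.asIdeal).some
      (LocalizedModule.mkLinearMap p.asIdeal.primeCompl M s) ∈
      IsLocalRing.maximalIdeal (Localization.AtPrime p.asIdeal) := h
  rw [map_add, map_add] at h1
  have h2 := (Ideal.add_mem_iff_right _ h0).mp h1
  have : LocalizedModule.mkLinearMap p.asIdeal.primeCompl M (t • m) =
      (algebraMap A (Localization.AtPrime p.asIdeal) t) •
        LocalizedModule.mkLinearMap p.asIdeal.primeCompl M m := by
    rw [algebraMap_smul, map_smul]
  rw [this, map_smul, smul_eq_mul] at h2
  refine h2 ?_
  exact (IsLocalization.map_units (Localization.AtPrime p.asIdeal)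
    (⟨t, ht⟩ : p.asIdeal.primeCompl)).mul hm

theorem exists_good_finset {A : Type u} [CommRing A] {M : Type u} [AddCommGroup M] [Module A M]
    [Module.Invertible A M] (n : ℕ) : ∀ T : Finset (PrimeSpectrum A), T.card = n →
      ∃ s : M, ∀ p ∈ T, Good A M p s := by
  classical
  induction n with
  | zero =>
    intro T hT
    rw [Finset.card_eq_zero] at hT
    subst hT
    exact ⟨0, by simp⟩
  | succ n ih =>
    intro T hT
    have hne : T.Nonempty := by
      rw [← Finset.card_pos, hT]; exact Nat.succ_pos n
    obtain ⟨p, hp⟩ := T.exists_minimal hne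
    obtain ⟨s, hs⟩ := ih (T.erase p) (by rw [Finset.card_erase_of_mem hp.1, hT]; rfl)
    by_cases hg : Good A M p s
    · refine ⟨s, fun q hq => ?_⟩
      by_cases hqp : q = p
      · subst hqp; exact hg
      · exact hs q (Finset.mem_erase.mpr ⟨hqp, hq⟩)
    · obtain ⟨m, hm⟩ := exists_good (M := M) p
      -- an element of all the other primes, not in `p`
      have : ∃ t : A, (∀ q ∈ T.erase p, t ∈ q.asIdeal) ∧ t ∉ p.asIdeal := by
        by_contra hcon
        push_neg at hcon
        have h1 : (T.erase p).inf PrimeSpectrum.asIdeal ≤ p.asIdeal := by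
          intro t ht
          refine hcon t fun q hq => ?_
          exact (Submodule.mem_finsetInf.mp ht) q hq
        obtain ⟨q, hq, hqp⟩ := (Ideal.IsPrime.inf_le' p.isPrime).mp h1
        have h2 : q ≤ p := hqp
        have h3 := hp.2 (Finset.mem_of_mem_erase hq) h2
        exact (Finset.ne_of_mem_erase hq) (le_antisymm h2 h3)
      obtain ⟨t, ht, htp⟩ := this
      refine ⟨s + t • m, fun q hq => ?_⟩
      by_cases hqp : q = p
      · subst hqp; exact good_add' hg hm htp
      · have hq' := Finset.mem_erase.mpr ⟨hqp, hq⟩
        exact good_add (hs q hq') (ht q hq') m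

/-- Let A be a Noetherian ring, M an invertible A-module and p_1, …, p_k finitely many primes of A
(points of Spec A). Then there is a single element s ∈ M whose image generates M_{p_i} as an
A_{p_i}-module for every i, i.e. s is a basis of the stalk of M at each of the given points. -/
theorem result (A : Type u) [CommRing A] [IsNoetherianRing A]
    (M : Type u) [AddCommGroup M] [Module A M] [Module.Invertible A M] (ι : Type) [Finite ι] (p : ι → PrimeSpectrum A) :
    ∃ s : M, ∀ i : ι, Submodule.span (Localization.AtPrime (p i).asIdeal)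
      {LocalizedModule.mkLinearMap (p i).asIdeal.primeCompl M s} = ⊤ := by
  obtain ⟨s, hs⟩ := exists_good_finset (M := M) _ (Set.finite_range p).toFinset rfl
  exact ⟨s, fun i => good_span (hs (p i) (by simp))⟩

end Groth.Agent.S8666
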