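import Groth.Statements.S8667
import Groth.Agent.SGA6.K38.PBCoh
import Groth.Agent.Cyc.K307.PBGeom

set_option autoImplicit false
universe v u
open CategoryTheory CategoryTheory.Limits AlgebraicGeometry
attribute [local instance] HasDerivedCategory.standard
open SGA6

namespace Groth.Agent.S8667

/-- Let S be a Noetherian scheme, E a finite locally free O_S-module of rank n, and (f : P ⟶ S, O(1), q)
the projective bundle P(E) (universal property for invertible quotients of pull-backs of E), with P
Noetherian. On K_• = K₀ of coherent modules let f^* be induced by pull-back along the flat f and ξ·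
by tensoring with O(1) (both exact, carried as instance hypotheses, and preserving coherence,
hypotheses hf and ht). Then the map (x_0, …, x_{n−1}) ↦ Σ_{i<n} ξ^i · f^*(x_i) from K_•(S)^n to
K_•(P) is bijective. (The published statement uses the basis ξ^{−i}, 0 ≤ i < n; multiplying by the
unit ξ^{n−1} turns it into 1, ξ, …, ξ^{n−1}, so the two statements are equivalent.) -/
theorem result {S P : Scheme.{u}} [IsNoetherian S] [IsNoetherian P] (n : ℕ)
    (E : S.Modules) (hE : FlatMod.IsFinLocFreeOfRank n E)
    (f : P ⟶ S) (O1 : P.Modules) (q : (Scheme.Modules.pullback f).obj E ⟶ O1) (hPB : KRR.IsProjBundle f E O1 q)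
    [(Scheme.Modules.pullback f).Additive] [PreservesFiniteLimits (Scheme.Modules.pullback f)] [PreservesFiniteColimits (Scheme.Modules.pullback f)]
    (hf : ∀ M : S.Modules, Coh.IsCoh M → Coh.IsCoh ((Scheme.Modules.pullback f).obj M))
    [PreservesFiniteLimits ((DCoh.tensorBi (X := P)).obj O1)] [PreservesFiniteColimits ((DCoh.tensorBi (X := P)).obj O1)]
    (ht : ∀ M : P.Modules, Coh.IsCoh M → Coh.IsCoh (((DCoh.tensorBi (X := P)).obj O1).obj M)) :
    Function.Bijective (fun x : Fin n → SGA6.Kcoh S =>
      ∑ i : Fin n, (⇑(SGA6.mapSub ((DCoh.tensorBi (X := P)).obj O1) (fun M : P.Modules => Coh.IsCoh M) (fun M : P.Modules => Coh.IsCoh M) ht))^[(i : ℕ)]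
        (SGA6.mapSub (Scheme.Modules.pullback f) (fun M : S.Modules => Coh.IsCoh M) (fun M : P.Modules => Coh.IsCoh M) hf (x i))) := by
  rcases n with _ | r
  · have hemp : IsEmpty P := K307.PBGeom.isEmpty hE hPB
    have hz : ∀ M : P.Modules, IsZero M := fun M => by
      rw [IsZero.iff_id_eq_zero]
      apply Groth.Agent.Sga67.Sec.hom_ext_of_locally
      intro x
      exact isEmptyElim x
    have h0 : ∀ y : SGA6.Kcoh P, y = 0 := by
      intro y
      have h : AddMonoidHom.id (SGA6.Kcoh P) = 0 := by
        refine Groth.Agent.Sga67.K0Basic.hom_ext_sub fun F hF => ?_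
        rw [Groth.Agent.Sga67.K0Basic.clSub_of_isZero (hz F), map_zero, map_zero]
      exact DFunLike.congr_fun h y
    exact ⟨fun a b _ => Subsingleton.elim a b, fun y => ⟨fun i => i.elim0, (h0 _).trans (h0 y).symm⟩⟩
  · have hflat : Flat f := K878.PBUnit.flat hE hPB
    have hO : PicF.IsInvertible O1 := K878.PBUnit.isInvertible_O1 hPB
    have hlf := K38.PBCoh.isFinLocFree_of_isInvertible hO
    have h1 : SGA6.mapSub ((DCoh.tensorBi (X := P)).obj O1) (fun M : P.Modules => Coh.IsCoh M)
        (fun M : P.Modules => Coh.IsCoh M) ht = K878.PBPush.opE O1 := by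
      refine Groth.Agent.Sga67.K0Basic.hom_ext_sub fun F hF => ?_
      rw [Groth.Agent.Sga67.K0Map.mapSub_clSub _ _ _ _ hF]
      exact (K878.CapEx.capHom_cl hlf hF).symm
    have h2 : SGA6.mapSub (Scheme.Modules.pullback f) (fun M : S.Modules => Coh.IsCoh M)
        (fun M : P.Modules => Coh.IsCoh M) hf = K878.PBPush.pull f := by
      refine Groth.Agent.Sga67.K0Basic.hom_ext_sub fun F hF => ?_
      rw [Groth.Agent.Sga67.K0Map.mapSub_clSub _ _ _ _ hF]
      exact (K878.PBPush.pull_clc f hF).symm
    have h3 := K38.PBCoh.bijective_succ hE hPB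
    have h4 : (fun x : Fin (r + 1) → SGA6.Kcoh S =>
        ∑ i : Fin (r + 1), (⇑(SGA6.mapSub ((DCoh.tensorBi (X := P)).obj O1) (fun M : P.Modules => Coh.IsCoh M)
          (fun M : P.Modules => Coh.IsCoh M) ht))^[(i : ℕ)]
        (SGA6.mapSub (Scheme.Modules.pullback f) (fun M : S.Modules => Coh.IsCoh M)
          (fun M : P.Modules => Coh.IsCoh M) hf (x i))) =
        (fun x : Fin (r + 1) → SGA6.Kcoh S =>
          ∑ i : Fin (r + 1), (K878.PBPush.opE O1 ^ (i : ℕ)) (K878.PBPush.pull f (x i))) := by
      funext x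
      refine Finset.sum_congr rfl fun i _ => ?_
      rw [h1, h2, AddMonoid.End.coe_pow]
      rfl
    rw [h4]
    exact h3

end Groth.Agent.S8667
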