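import Groth.Statements.S8670
import Groth.Agent.SGA6.K297.BlowProj
import Groth.Agent.S8659
import Groth.Agent.ArSurf.K482.Triv

set_option autoImplicit false
universe v u
open CategoryTheory CategoryTheory.Limits AlgebraicGeometry
attribute [local instance] HasDerivedCategory.standard
open SGA6

namespace Groth.Agent.S8670

/-- Let X be a scheme carrying an ample invertible O_X-module, i : Y ⟶ X a Koszul-regular closed
immersion whose image is nowhere dense in X (the complement of the image is dense, i.e. Y has
codimension ≥ 1 in X at each of its points) and f : X' ⟶ X the blowing up of X along Y. On K^• = K₀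
of perfect complexes let f^* be induced by Lf^* and f_* by Rf_* (both total derived functors assumed
to exist, with their triangulated structures carried as instance hypotheses, and to preserve perfect
complexes, hypotheses hpull and hpush). Then f_* ∘ f^* is the identity of K^•(X). (The published
statement has no codimension condition: where Y contains a nonempty open subset of X the blowing up
is empty over it and f_* f^* is not the identity — for X a point and Y = X, K^•(X') = 0 while [O_X]
≠ 0; the published proof rests on f_*(1) = 1, i.e. R f_* O_{X'} = O_X, which holds when the image of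
i is nowhere dense and fails over any nonempty open subset of X contained in Y; this row assumes the
image nowhere dense.) -/
theorem result {X Y X' : Scheme.{u}} (L : X.Modules) (hL : CohB1.IsAmple L)
    (i : Y ⟶ X) [IsClosedImmersion i] (hi : RegImm.IsRegularImmersion .koszul i) (hdense : Dense (Set.range i)ᶜ)
    (f : X' ⟶ X) (hf : BlowUp.IsBlowUp f i.ker)
    [DCoh.HasLpull f] [(DCoh.Lpull f).CommShift ℤ] [(DCoh.Lpull f).IsTriangulated]
    (hpull : ∀ K : DCoh.D X, DCoh.IsPerfect K → DCoh.IsPerfect ((DCoh.Lpull f).obj K))
    [DCoh.HasRpush f] [(DCoh.Rpush f).CommShift ℤ] [(DCoh.Rpush f).IsTriangulated]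
    (hpush : ∀ K : DCoh.D X', DCoh.IsPerfect K → DCoh.IsPerfect ((DCoh.Rpush f).obj K)) (x : SGA6.Kperf X) :
    SGA6.mapTr (DCoh.Rpush f) (SGA6.perfP X') (SGA6.perfP X) hpush (SGA6.mapTr (DCoh.Lpull f) (SGA6.perfP X) (SGA6.perfP X') hpull x) = x := by
  have hft := K297.BlowProj.isFiniteTypeIdeal_ker .koszul i hi
  have hprop : IsProper f := Groth.Agent.Flat2C.BlowProper.isProper_of_isBlowUp hf hft
  obtain ⟨h1, h2⟩ := Groth.Agent.S8659.result i hi hdense f hf
  obtain ⟨e⟩ := K482.Triv.idealMod_top (X := X')
  refine K297.BlowProj.mapTr_push_pull f hpull hpush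
    (K297.BlowProj.nonempty_rpush_structure f h2 fun q hq => ?_) x
  have h3 := h1 0 q hq
  rw [pow_zero, Scheme.IdealSheafData.one_eq_top] at h3
  exact h3.of_iso ((Coh.RpushAb f q).mapIso ((SheafOfModules.toSheaf _).mapIso e.symm))

end Groth.Agent.S8670
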