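import Groth.Statements.S8672
import Groth.Agent.KRR.K535.KrRR

set_option autoImplicit false
universe v u
open CategoryTheory CategoryTheory.Limits AlgebraicGeometry
attribute [local instance] HasDerivedCategory.standard
open KRR

namespace Groth.Agent.S8672

/-- Let X be a connected quasi-compact scheme with an ample invertible O_X-module, d > 0 an integer and
i : Y ⟶ X a Koszul-regular closed immersion of codimension d (conormal module finite locally free of
rank d), Y connected. With models (K_Y, P_Y, φ_Y), (K_X, P_X, φ_X) of the λ-rings K(Y), K(X) of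
finite locally free modules and h = i_K the push-forward on them (h[F] = Σ (−1)^k [L_k] for every
finite locally free resolution L of i_*F), for every k and every y in the k-th term of the
γ-filtration of K(Y) there is an integer N ≥ 1 with N · h(y) in the (k + d)-th term of the
γ-filtration of K(X); that is, h(F^k K(Y) ⊗ ℚ) ⊆ F^{k+d} K(X) ⊗ ℚ. (The published statement allows X
and Y disconnected, with augmentations in H^0(−, ℤ); this row takes X and Y connected, as the models
require.) -/
theorem result {X Y : Scheme.{u}} [ConnectedSpace ↥X] (L : X.Modules) (hL : CohB1.IsAmple L)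
    (d : ℕ) (hd : 0 < d) (i : Y ⟶ X) [IsClosedImmersion i] (hi : RegImm.IsRegularImmersion .koszul i) [ConnectedSpace ↥Y]
    (hC : FlatMod.IsFinLocFreeOfRank d (Omega.conormal i))
    (KY : Type v) [CommRing KY] [LambdaRing.LambdaOps KY] (PY : LambdaRing.PosStructure KY) (φY : SGA6.Kvb Y →+ KY) (hKY : KRR.IsModel Y KY PY φY)
    (KX : Type v) [CommRing KX] [LambdaRing.LambdaOps KX] (PX : LambdaRing.PosStructure KX) (φX : SGA6.Kvb X →+ KX) (hKX : KRR.IsModel X KX PX φX)
    (h : KY →+ KX) (hh : KRR.IsPushCl i φY φX h) (k : ℕ) (y : KY) (hy : y ∈ LambdaRing.gammaFiltration PY k) :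
    ∃ N : ℕ, 1 ≤ N ∧ (N : KX) * h y ∈ LambdaRing.gammaFiltration PX (k + d) := by
  have : CompactSpace X := hL.2.1
  refine K535.SplitQC.pushCl_gammaFiltration L hL i d (Omega.conormal i) hC KY PY φY hKY KX PX φX hKX h 2 le_rfl
    (fun x => ?_) k y hy
  exact Groth.Agent.Krr.H450.Assembly.transport i (KRR.cl Y (Omega.conormal i)) (by norm_num) hKY hKX
    (Groth.Agent.Krr.H495.Model.isModel Y) (Groth.Agent.Krr.H495.Model.isModel X)
    (fun h' hh' x => K535.KrRR.adams_two_KR L hL hd i hi hC h' hh' x) h hh x

end Groth.Agent.S8672
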