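import Groth.Statements.S8677
import Groth.Agent.SGA6.K266.ExcPerf

set_option autoImplicit false
universe v u
open CategoryTheory CategoryTheory.Limits AlgebraicGeometry
attribute [local instance] HasDerivedCategory.standard
open SGA6

namespace Groth.Agent.S8677

/-- Let X be a scheme carrying an ample invertible O_X-module, i : Y ⟶ X a Koszul-regular closed
immersion whose conormal module N is finite locally free of constant rank c, f : X' ⟶ X the blowing
up of X along Y, and j : Y' ⟶ X', g : Y' ⟶ Y the exceptional divisor Y' = Y ×_X X' (a cartesian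
square). Let φ : g^* N ⟶ N_{Y'/X'} be the canonical map of conormal sheaves (pinned by its values on
local sections of the ideals), F = ker φ the universal sub-bundle, and Λ^p F its exterior powers (L
p). On K^• = K₀ of perfect complexes let i_*, j_* be induced by the exact direct images and f^* by
Lf^* (exactness, existence, triangulated structure and preservation of perfect complexes carried as
hypotheses). Then for every finite locally free O_Y-module M: f^*(i_*[M]) = Σ_{p<c} (−1)^p j_*[g^*M
⊗ Λ^p F] in K^•(X'). (The published statement allows the rank of N to vary and is stated for all x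
in K^•(Y) as f^* i_*(x) = j_*(g^*(x)·λ_{−1}(F)); this row takes N of constant rank c and x the class
of a finite locally free module, which by additivity in x gives the published form for N of constant
rank.) -/
theorem result {X Y X' Y' : Scheme.{u}} (L : X.Modules) (hL : CohB1.IsAmple L)
    (i : Y ⟶ X) [IsClosedImmersion i] (hi : RegImm.IsRegularImmersion .koszul i) (c : ℕ) (hN : FlatMod.IsFinLocFreeOfRank c (Omega.conormal i))
    (f : X' ⟶ X) (hf : BlowUp.IsBlowUp f i.ker) (j : Y' ⟶ X') [IsClosedImmersion j] (g : Y' ⟶ Y) (hsq : IsPullback j g f i)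
    (φ : (Scheme.Modules.pullback g).obj (Omega.conormal i) ⟶ Omega.conormal j) (hφ : OmegaSh.IsConormalMap j i f g φ)
    (Λ : ℕ → Y'.Modules) (hΛ : ∀ p : ℕ, ExtPow.IsExtPow p (kernel φ) (Λ p))
    [(Scheme.Modules.pushforward i).Additive] [PreservesFiniteLimits (Scheme.Modules.pushforward i)] [PreservesFiniteColimits (Scheme.Modules.pushforward i)]
    (hi' : ∀ K : DCoh.D Y, DCoh.IsPerfect K → DCoh.IsPerfect ((Scheme.Modules.pushforward i).mapDerivedCategory.obj K))
    [DCoh.HasLpull f] [(DCoh.Lpull f).CommShift ℤ] [(DCoh.Lpull f).IsTriangulated]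
    (hf' : ∀ K : DCoh.D X, DCoh.IsPerfect K → DCoh.IsPerfect ((DCoh.Lpull f).obj K))
    (M : Y.Modules) (hM : FlatMod.IsFinLocFree M) :
    SGA6.mapTr (DCoh.Lpull f) (SGA6.perfP X) (SGA6.perfP X') hf'
      (SGA6.mapTr ((Scheme.Modules.pushforward i).mapDerivedCategory) (SGA6.perfP Y) (SGA6.perfP X) hi' (KZero.clTr (SGA6.perfP Y) (DCoh.inD Y M))) =
    ∑ p ∈ Finset.range c, (-1 : ℤ) ^ p • KZero.clTr (SGA6.perfP X')
      (DCoh.inD X' ((Scheme.Modules.pushforward j).obj (((DCoh.tensorBi (X := Y')).obj ((Scheme.Modules.pullback g).obj M)).obj (Λ p)))) := by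
  exact K266.ExcPerf.main L hL i hi c hN f hf j g hsq φ hφ Λ hΛ hi' hf' M hM

end Groth.Agent.S8677
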