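import Groth.Statements.S8690
import Groth.Agent.LambdaRing.K537.Rank

set_option autoImplicit false
universe u v
open Finset
open LambdaRing

namespace Groth.Agent.S8690

open K537.Filt K537.Closure K537.Univ K537.Transfer K537.GammaFil K537.Rank

/-- Let K be a binomial ring carrying its binomial λ-structure, and A a λ-ring in the strict sense which
is an augmented K-λ-algebra with augmentation ε : A → K. Let Fil^m A denote the γ-filtration of A
with respect to ε (the ideal generated by the products γ^{i_1}(x_1) ⋯ γ^{i_r}(x_r) with i_1 + ⋯ +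
i_r ≥ m and every ε(x_s) = 0). Then for every m ≥ 1 and every z ∈ Fil^m A, γ^m(z) ≡ (−1)^{m−1}
(m−1)! · z modulo Fil^{m+1} A; equivalently the m-th Chern class of z in Gr^m A is the class of
(−1)^{m−1} (m−1)! z. The hypotheses hP and hQ, that the universal polynomials exist for all indices,
are true statements carried so that the identities of A can be used at every index. -/
theorem result
    (K : Type u) [CommRing K] [LambdaRing.LambdaOps K] [BinomialRing K] (hKb : LambdaRing.IsBinomial K)
    (hK : LambdaRing.IsSpecial K)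
    (A : Type v) [CommRing A] [LambdaRing.LambdaOps A] [Algebra K A] (hA : LambdaRing.IsSpecial A)
    (hP : ∀ n : ℕ, ∃ P : MvPolynomial (Fin n ⊕ Fin n) ℤ, LambdaRing.IsMulPoly n P)
    (hQ : ∀ i j : ℕ, ∃ Q : MvPolynomial (Fin (i * j)) ℤ, LambdaRing.IsCompPoly i j Q)
    (ε : A →ₐ[K] K) (hε : LambdaRing.IsAugLambdaAlg K A ε)
    (m : ℕ) (hm : 1 ≤ m) (z : A) (hz : z ∈ LambdaRing.gammaFil (ε : A →+* K) m) :
    LambdaRing.gamma m z - (-1 : A) ^ (m - 1) * ((m - 1).factorial : A) * z ∈
      LambdaRing.gammaFil (ε : A →+* K) (m + 1) := by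
  have hKB := lam_algebraMap_of hKb hε.isLambdaAlg
  obtain ⟨N, hN⟩ := lifts_of_mem (ε := ε) (d := 0) (ν := 0) hA hKB m m z hz
  obtain ⟨f, hf1, hf2, hf3⟩ := hN N le_rfl
  have h1 := map_gamma_of_mem_G hf2 le_rfl
  have h2 := φ_mem_gammaFil (ε := ε) (ν := 0) (map_zero ε) (gamma_leading_W hm hf1)
  rw [map_sub, map_mul, map_mul, map_pow, map_neg, map_one, map_natCast, hf3] at h2
  change φ _ _ (gamma m f) = gamma m (φ _ _ f) at h1
  rwa [h1, hf3] at h2

end Groth.Agent.S8690
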