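import Groth.Statements.S8691
import Groth.Agent.LambdaRing.K537.Quot

set_option autoImplicit false
universe u
open Finset
open LambdaRing

namespace Groth.Agent.S8691

open K537.Filt K537.Closure K537.Univ K537.Transfer K537.GammaFil K537.Div K537.Rank K537.Quot
  K537.BinSeries

/-- the lambda operations of the integers in a pre-lambda-ring with `λ_t(1) = 1 + t` -/
lemma lam_intCast {B : Type u} [CommRing B] [LambdaRing.LambdaOps B] (hB : LambdaRing.IsSpecial B)
    (n : ℕ) (c : ℤ) :
    LambdaRing.LambdaOps.lam n (algebraMap ℤ B c) = algebraMap ℤ B (Ring.choose c n) := by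
  let _ : LambdaRing.LambdaOps ℤ := LambdaRing.binomialLambdaOps ℤ
  have h1 : (1 : ℤ) ∈ good (algebraMap ℤ B) := by
    rw [mem_good]
    intro n
    change algebraMap ℤ B (Ring.choose 1 n) = _
    rw [← Nat.cast_one (R := ℤ), Ring.choose_natCast, Nat.cast_one, map_one]
    rcases n with _ | _ | n
    · simp [LambdaRing.LambdaOps.lam_zero]
    · simp [LambdaRing.LambdaOps.lam_one]
    · rw [Nat.choose_eq_zero_of_lt (by omega), hB.lam_one_eq_zero _ (by omega)]
      simp
  have h2 : c ∈ good (algebraMap ℤ B) := by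
    have := zsmul_mem h1 c
    simpa using this
  exact ((mem_good _ _).1 h2 n).symm

/-- Let K be a λ-ring in the strict sense, d a natural number and N ∈ K with λ^i(N) = 0 for every i > d;
put λ_{−1}(N) = Σ_{i=0}^{d} (−1)^i λ^i(N). Then for every p ≥ 1 and every x ∈ K the element λ^p(x ·
λ_{−1}(N)) is divisible by λ_{−1}(N). (The published statement is for the λ-ring generated over the
integers by N and x subject to λ^i(N) = 0 for i > d, a polynomial ring; the divisibility passes to
any λ-ring along the λ-homomorphism sending the generators to N and x, which is the substituted form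
stated here.) The hypotheses hP and hQ, existence of the universal polynomials, are true statements
carried so that the identities of K can be used at every index. -/
theorem result (K : Type u) [CommRing K] [LambdaRing.LambdaOps K]
    (hK : LambdaRing.IsSpecial K)
    (hP : ∀ n : ℕ, ∃ P : MvPolynomial (Fin n ⊕ Fin n) ℤ, LambdaRing.IsMulPoly n P)
    (hQ : ∀ i j : ℕ, ∃ Q : MvPolynomial (Fin (i * j)) ℤ, LambdaRing.IsCompPoly i j Q)
    (d : ℕ) (N : K) (hN : ∀ i : ℕ, d < i → LambdaRing.LambdaOps.lam i N = 0)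
    (p : ℕ) (hp : 1 ≤ p) (x : K) :
    (∑ i ∈ range (d + 1), (-1 : K) ^ i * LambdaRing.LambdaOps.lam i N) ∣
      LambdaRing.LambdaOps.lam p (x * ∑ i ∈ range (d + 1), (-1 : K) ^ i * LambdaRing.LambdaOps.lam i N) := by
  have hKB := lam_intCast hK
  have h1 : K536.Basic.RankOne (1 : K) := rankOne_one_of_special hK
  let M : Unit → ℕ := fun _ => d
  let y : Unit → K := fun _ => N - (d : K)
  have hG : ∀ (f : UV M ℤ) (b : ℕ), f ∈ G (φ (K := ℤ) M y).toRingHom b :=
    fun f b => mem_G_of_exact hK hKB
      (fun _ k hk => gamma_sub_of_lt h1 hN hk) f b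
  have hw : ∀ j, 1 ≤ j → gamma d (N - (d : K)) ∣ LambdaRing.LambdaOps.lam j (gamma d (N - (d : K))) := by
    intro j hj
    obtain ⟨q, hq⟩ := g_dvd_lam M ℤ () j hj
    have h2 : φ (K := ℤ) M y (g M () (M ())) = gamma d (N - (d : K)) :=
      φ_g _ _ _ _ (Or.inl le_rfl)
    refine ⟨φ (K := ℤ) M y q, ?_⟩
    have h3 : φ (K := ℤ) M y (LambdaRing.LambdaOps.lam j (g M () (M ()))) =
        LambdaRing.LambdaOps.lam j (φ (K := ℤ) M y (g M () (M ()))) :=
      hG (g M () (M ())) j j le_rfl
    rw [h2] at h3
    rw [← h3, hq, map_mul, h2]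
  have h4 := gamma_sub_self h1 (d := d) (N := N)
  have h5 : ∑ i ∈ range (d + 1), (-1 : K) ^ i * LambdaRing.LambdaOps.lam i N =
      (-1) ^ d * gamma d (N - (d : K)) := by
    rw [h4, ← mul_assoc, neg_one_pow_sq, one_mul]
  rw [h5, ← mul_assoc]
  have h6 := dvd_lam_mul hK hw (x * (-1) ^ d) p hp
  have h7 : (-1) ^ d * gamma d (N - (d : K)) ∣ gamma d (N - (d : K)) :=
    ⟨(-1) ^ d, by linear_combination (-(gamma d (N - (d : K)))) * neg_one_pow_sq (R := K) d⟩
  exact h7.trans h6

end Groth.Agent.S8691
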