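import Groth.Statements.S8693
import Groth.Agent.Krr.H442.AmpleClass
import Groth.Agent.KRR.K535.NilTens

set_option autoImplicit false
universe v u
open CategoryTheory CategoryTheory.Limits AlgebraicGeometry
attribute [local instance] HasDerivedCategory.standard
open KRR

namespace Groth.Agent.S8693

/-- Let X be a connected quasi-compact scheme with an ample invertible O_X-module L, (K, P, φ) a model
of the λ-ring K(X) of finite locally free modules with its positive structure (augmentation ε =
rank), and E_1, …, E_k finite locally free O_X-modules. Let R ⊆ K(X) be the subring generated by the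
elements λ^j[E_i] for all i and j, which is the sub-λ-ring generated by the classes [E_i]. Then the
ideal R ∩ Ker ε of R is nilpotent: there is n such that every product of n elements of R of
augmentation zero vanishes; and R is finitely generated as an abelian group. (The published
statement allows X disconnected, with R a module of finite type over R ∩ H^0(X, ℤ), and also asserts
that the λ-ring filtration of R is discrete; this row takes X connected, as the model requires, and
states the nilpotency and the finite generation over the integers.) -/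
theorem result (X : Scheme.{u}) [ConnectedSpace ↥X] (L : X.Modules) (hL : CohB1.IsAmple L)
    (K : Type v) [CommRing K] [LambdaRing.LambdaOps K] (P : LambdaRing.PosStructure K) (φ : SGA6.Kvb X →+ K)
    (hK : KRR.IsModel X K P φ)
    (k : ℕ) (E : Fin k → X.Modules) (hE : ∀ i : Fin k, FlatMod.IsFinLocFree (E i)) :
    (∃ n : ℕ, ∀ f : Fin n → K,
      (∀ t : Fin n, f t ∈ Subring.closure {y : K | ∃ (i : Fin k) (j : ℕ), y = LambdaRing.LambdaOps.lam j (φ (KRR.cl X (E i)))} ∧ P.aug (f t) = 0) →
        ∏ t, f t = 0) ∧
    (Subring.closure {y : K | ∃ (i : Fin k) (j : ℕ), y = LambdaRing.LambdaOps.lam j (φ (KRR.cl X (E i)))}).toAddSubgroup.FG := by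
  have hnil : ∀ x, P.aug x = 0 → IsNilpotent x := fun _ hx => K535.NilAug.isNilpotent_of_aug_eq_zero
    (Groth.Agent.Krr.H442.AmpleClass.isAmpleElt_of_isAmple hK hL) hx
  have hvan : ∀ i : Fin k, ∃ r : ℕ, ∀ j, r < j → LambdaRing.LambdaOps.lam j (φ (KRR.cl X (E i))) = 0 := by
    intro i
    obtain ⟨n, hn⟩ := Groth.Agent.Krr.H495.Rank.exists_rank_of_connected (hE i)
    refine ⟨n, fun j hj => ?_⟩
    rcases Nat.eq_zero_or_pos n with rfl | hn0
    · rw [Groth.Agent.Krr.H442.AmpleClass.cl_eq_zero_of_rank_zero hn, map_zero]
      have h1 := congrArg (PowerSeries.coeff j) (Groth.Agent.Books.Lambda1.lamSeries_zero (K := K))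
      rw [Groth.Agent.Books.Lambda1.coeff_lamSeries, PowerSeries.coeff_one, if_neg (by omega)] at h1
      exact h1
    · refine P.lam_eq_zero _ ((hK.mem_pos_iff _).2 ⟨n, E i, hn0, hn, rfl⟩) j ?_
      rw [hK.aug_cl n (E i) hn]
      exact_mod_cast hj
  choose r hr using hvan
  have hfin : {y : K | ∃ (i : Fin k) (j : ℕ), y = LambdaRing.LambdaOps.lam j (φ (KRR.cl X (E i)))}.Finite := by
    refine ((Set.finite_iUnion fun i : Fin k => (Finset.range (r i + 1)).finite_toSet.image
      fun j => LambdaRing.LambdaOps.lam j (φ (KRR.cl X (E i)))).union (Set.finite_singleton (0 : K))).subset ?_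
    rintro _ ⟨i, j, rfl⟩
    rcases le_or_gt j (r i) with h | h
    · exact Or.inl (Set.mem_iUnion.2 ⟨i, j, by simpa [Nat.lt_succ_iff] using h, rfl⟩)
    · exact Or.inr (hr i j h)
  exact ⟨K535.NilTens.exists_prod_eq_zero P.aug hnil hfin, K535.NilTens.fg_closure P.aug hnil hfin⟩

end Groth.Agent.S8693
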