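import Groth.Statements.S8694
import Groth.Agent.KRR.K535.KrSelf

set_option autoImplicit false
universe v w u
open CategoryTheory CategoryTheory.Limits AlgebraicGeometry
attribute [local instance] HasDerivedCategory.standard
open KRR

namespace Groth.Agent.S8694

/-- Let X be a connected quasi-compact scheme with an ample invertible O_X-module L, and i : Y ⟶ X a
Koszul-regular closed immersion (ideal locally generated by a sequence whose Koszul complex is
acyclic in nonzero degrees) with Y connected, whose conormal sheaf N is finite locally free. Let
(K_Y, P_Y, φ_Y) and (K_X, P_X, φ_X) be models of the λ-rings K(Y) and K(X) of finite locally free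
modules with their positive structures, and i_K : K(Y) → K(X) the push-forward (on the class of a
finite locally free F it is the alternating sum of the terms of any finite locally free resolution
of i_*F). Put λ_{−1}(N) = Σ_{p ≤ rank N} (−1)^p λ^p[N]. Then i_K(x · y · λ_{−1}(N)) = i_K(x) ·
i_K(y) for all x, y ∈ K(Y). (The published statement allows X and Y disconnected; this row takes
them connected, as the models require.) -/
theorem result {X Y : Scheme.{u}} [ConnectedSpace ↥X] [ConnectedSpace ↥Y]
    (L : X.Modules) (hL : CohB1.IsAmple L)
    (i : Y ⟶ X) [IsClosedImmersion i] (hi : RegImm.IsRegularImmersion .koszul i)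
    (hN : FlatMod.IsFinLocFree (Omega.conormal i))
    (KY : Type v) [CommRing KY] [LambdaRing.LambdaOps KY] (PY : LambdaRing.PosStructure KY) (φY : SGA6.Kvb Y →+ KY)
    (hKY : KRR.IsModel Y KY PY φY)
    (KX : Type w) [CommRing KX] [LambdaRing.LambdaOps KX] (PX : LambdaRing.PosStructure KX) (φX : SGA6.Kvb X →+ KX)
    (hKX : KRR.IsModel X KX PX φX)
    (g : KY →+ KX) (hg : KRR.IsPushCl i φY φX g) (x y : KY) :
    g (x * y * KRR.lamAlt PY (φY (KRR.cl Y (Omega.conormal i)))) = g x * g y := by
  exact K535.KrSelf.main L hL i hi hN KY PY φY hKY KX PX φX hKX g hg x y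

end Groth.Agent.S8694
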