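import Groth.Statements.S8697
import Groth.Agent.LambdaRing.K537.GammaFil

set_option autoImplicit false
universe u v
open Finset
open LambdaRing

namespace Groth.Agent.S8697

open K537.Filt K537.Transfer K537.GammaFil Groth.Agent.Books.Lambda2

section

variable {B : Type v} [CommRing B] [LambdaRing.LambdaOps B] (n : ℕ)

/-- the filtration by ideals -/
noncomputable def J (x : B) (k : ℕ) : Ideal B :=
  Ideal.span {m : B | ∃ e : Fin n → ℕ, k ≤ ∑ j : Fin n, ((j : ℕ) + 1) * e j ∧
        m = ∏ j : Fin n, LambdaRing.gamma ((j : ℕ) + 1) x ^ e j}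

lemma J_isMulFilt (x : B) : IsMulFilt fun k => (J n x k).toAddSubgroup where
  one_mem := Ideal.subset_span ⟨0, by simp, by simp⟩
  anti := by
    intro i j h
    refine Ideal.span_mono ?_
    rintro m ⟨e, he, rfl⟩
    exact ⟨e, h.trans he, rfl⟩
  mul_mem := by
    intro i j a b ha hb
    have h : J n x i * J n x j ≤ J n x (i + j) := by
      rw [J, J, Ideal.span_mul_span']
      refine Ideal.span_mono ?_
      rintro _ ⟨_, ⟨e, he, rfl⟩, _, ⟨e', he', rfl⟩, rfl⟩
      refine ⟨e + e', ?_, ?_⟩
      · simp only [Pi.add_apply, mul_add, Finset.sum_add_distrib]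
        omega
      · simp only [Pi.add_apply, pow_add, Finset.prod_mul_distrib]
    exact h (Ideal.mul_mem_mul ha hb)

lemma gamma_mem_J (x : B) (j : Fin n) : LambdaRing.gamma ((j : ℕ) + 1) x ∈ J n x (j + 1) := by
  classical
  refine Ideal.subset_span ⟨Pi.single j 1, ?_, ?_⟩
  · rw [Finset.sum_eq_single j]
    · simp
    · intro i _ hij; simp [Pi.single_eq_of_ne hij]
    · simp
  · rw [Finset.prod_eq_single j]
    · simp
    · intro i _ hij; simp [Pi.single_eq_of_ne hij]
    · simp

end

/-- Let K be a binomial ring with its binomial λ-structure and B a λ-ring in the strict sense which is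
an augmented K-λ-algebra with augmentation ε. Let x ∈ B satisfy ε(x) = 0 and γ^k(x) = 0 for every k
> n, and assume that γ^1(x), …, γ^n(x) are algebraically independent over K and generate B as a
K-algebra — so B is the K-λ-algebra generated by one element subject to the relations γ^k = 0 for k
> n, a polynomial ring K[γ^1 x, …, γ^n x]. Then for every k, the k-th ideal Fil^k B of the
γ-filtration (generated by the products of γ^{i}(z), ε(z) = 0, of total weight ≥ k) is the ideal
generated by the monomials ∏_j (γ^j x)^{e_j} with Σ_j j·e_j ≥ k: the λ-ring filtration is the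
filtration by the weight in the γ^j x. (With λ in place of γ — relations λ^k x = 0 for k > n and
weights in the λ^j x — the assertion fails already for n = 1, where γ^i(x) = x for all i ≥ 1 puts x
in every Fil^k while x is not in the ideal (x²); the form with γ stated here is the one the proof
establishes.) The hypotheses hP and hQ, existence of the universal polynomials, are true statements
carried so that the identities of B can be used at every index. -/
theorem result
    (K : Type u) [CommRing K] [LambdaRing.LambdaOps K] [BinomialRing K] (hKb : LambdaRing.IsBinomial K)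
    (hK : LambdaRing.IsSpecial K)
    (B : Type v) [CommRing B] [LambdaRing.LambdaOps B] [Algebra K B] (hB : LambdaRing.IsSpecial B)
    (hP : ∀ n : ℕ, ∃ P : MvPolynomial (Fin n ⊕ Fin n) ℤ, LambdaRing.IsMulPoly n P)
    (hQ : ∀ i j : ℕ, ∃ Q : MvPolynomial (Fin (i * j)) ℤ, LambdaRing.IsCompPoly i j Q)
    (ε : B →ₐ[K] K) (hε : LambdaRing.IsAugLambdaAlg K B ε)
    (n : ℕ) (x : B) (hx : ε x = 0) (hγ : ∀ k : ℕ, n < k → LambdaRing.gamma k x = 0)
    (hind : AlgebraicIndependent K (fun j : Fin n => LambdaRing.gamma ((j : ℕ) + 1) x))
    (hgen : Algebra.adjoin K (Set.range fun j : Fin n => LambdaRing.gamma ((j : ℕ) + 1) x) = ⊤)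
    (k : ℕ) :
    LambdaRing.gammaFil (ε : B →+* K) k =
      Ideal.span {m : B | ∃ e : Fin n → ℕ, k ≤ ∑ j : Fin n, ((j : ℕ) + 1) * e j ∧
        m = ∏ j : Fin n, LambdaRing.gamma ((j : ℕ) + 1) x ^ e j} := by
  have hW := J_isMulFilt n x
  have hKW : ∀ c : K, algebraMap K B c ∈ (fun k => (J n x k).toAddSubgroup) 0 := by
    intro c
    have h1 : (1 : B) ∈ J n x 0 := hW.one_mem
    have h2 := Ideal.mul_mem_left _ (algebraMap K B c) h1
    rwa [mul_one] at h2
  have hKB := lam_algebraMap_of hKb hε.isLambdaAlg
  have hxW : GammaIn (fun k => (J n x k).toAddSubgroup) x := by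
    intro i
    rcases i with _ | i
    · rw [gamma_zero]; exact hW.one_mem
    · by_cases hi : i < n
      · exact gamma_mem_J n x ⟨i, hi⟩
      · rw [hγ (i + 1) (by omega)]
        exact zero_mem _
  have hall : ∀ z : B, GammaIn (fun k => (J n x k).toAddSubgroup) (z - algebraMap K B (ε z)) := by
    intro z
    have hz : z ∈ Algebra.adjoin K
        (Set.range fun j : Fin n => LambdaRing.gamma ((j : ℕ) + 1) x) := by
      rw [hgen]; trivial
    induction hz using Algebra.adjoin_induction with
    | mem z hz =>
      obtain ⟨j, rfl⟩ := hz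
      have h0 : ε (gamma ((j : ℕ) + 1) x) = 0 := ε_gamma hε hx (by omega)
      simp only [h0, map_zero, sub_zero]
      exact GammaIn.gamma' (K := K) hB hW hKW hxW (by omega)
    | algebraMap a =>
      rw [AlgHom.commutes]
      simp only [Algebra.algebraMap_self, RingHom.id_apply, sub_self]
      exact GammaIn.zero hW
    | add z z' _ _ h h' =>
      have h1 : z + z' - algebraMap K B (ε (z + z')) =
          (z - algebraMap K B (ε z)) + (z' - algebraMap K B (ε z')) := by
        rw [map_add, map_add]; ring
      rw [h1]
      exact GammaIn.add hW h h'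
    | mul z z' _ _ h h' =>
      have h1 : z * z' - algebraMap K B (ε (z * z')) =
          (z - algebraMap K B (ε z)) * (z' - algebraMap K B (ε z')) +
            (algebraMap K B (ε z) * (z' - algebraMap K B (ε z')) +
              algebraMap K B (ε z') * (z - algebraMap K B (ε z))) := by
        rw [map_mul, map_mul]; ring
      rw [h1]
      exact GammaIn.add hW (GammaIn.mul' hB hW hKW h h')
        (GammaIn.add hW (GammaIn.smul' hB hW hKW hKB _ h') (GammaIn.smul' hB hW hKW hKB _ h))
  apply le_antisymm
  · refine gammaFil_le (ε : B →+* K) hW ?_ k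
    intro z hz
    have h := hall z
    have hz' : ε z = 0 := hz
    rwa [hz', map_zero, sub_zero] at h
  · refine Ideal.span_le.2 ?_
    rintro m ⟨e, he, rfl⟩
    have hG := GF_isMulFilt (ε : B →+* K)
    have hpow : ∀ (y : B) (i d : ℕ), y ∈ GF (ε : B →+* K) i → y ^ d ∈ GF (ε : B →+* K) (i * d) := by
      intro y i d hy
      induction d with
      | zero => rw [pow_zero, mul_zero]; exact hG.one_mem
      | succ d ih => rw [pow_succ, Nat.mul_succ]; exact hG.mul_mem ih hy
    have h2 : ∀ t : Finset (Fin n), (∏ j ∈ t, LambdaRing.gamma ((j : ℕ) + 1) x ^ e j) ∈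
        GF (ε : B →+* K) (∑ j ∈ t, ((j : ℕ) + 1) * e j) := by
      classical
      intro t
      induction t using Finset.induction_on with
      | empty => simpa using hG.one_mem
      | insert a t ha ih =>
        rw [Finset.prod_insert ha, Finset.sum_insert ha]
        exact hG.mul_mem (hpow _ _ _ (gammaIn_GF (ε : B →+* K) hx _)) ih
    exact hG.anti he (h2 Finset.univ)

end Groth.Agent.S8697
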