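import Groth.Statements.S8698
import Groth.Agent.LambdaRing.K537.GammaFil

set_option autoImplicit false
universe u v w
open Finset
open LambdaRing

namespace Groth.Agent.S8698

open K537.Filt K537.Transfer K537.GammaFil Groth.Agent.Books.Lambda2

section

variable {K : Type u} [CommRing K] {A : Type v} [CommRing A] [LambdaRing.LambdaOps A]
  {B : Type w} [CommRing B] [LambdaRing.LambdaOps B] [Algebra A B]

/-- the weight of a monomial -/
def wtt (e : ℕ →₀ ℕ) : ℕ := e.sum fun j n => (j + 1) * n

lemma wtt_add (e e' : ℕ →₀ ℕ) : wtt (e + e') = wtt e + wtt e' :=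
  Finsupp.sum_add_index' (fun _ => by simp) (fun _ _ _ => by ring)

lemma wtt_single (j : ℕ) : wtt (Finsupp.single j 1) = j + 1 := by
  rw [wtt, Finsupp.sum_single_index (by simp), mul_one]

/-- the monomials in the gamma operations -/
noncomputable def mono (x : B) (e : ℕ →₀ ℕ) : B := e.prod fun j n => LambdaRing.gamma (j + 1) x ^ n

lemma mono_add (x : B) (e e' : ℕ →₀ ℕ) : mono x (e + e') = mono x e * mono x e' :=
  Finsupp.prod_add_index' (fun _ => pow_zero _) (fun _ _ _ => pow_add _ _ _)

lemma mono_single (x : B) (i n : ℕ) :
    mono x (Finsupp.single i n) = LambdaRing.gamma (i + 1) x ^ n := by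
  rw [mono]
  exact Finsupp.prod_single_index (pow_zero _)

/-- generators -/
def gens' (εA : A →+* K) (x : B) (k : ℕ) : Set B :=
  {b : B | ∃ (e : ℕ →₀ ℕ) (a : A), a ∈ LambdaRing.gammaFil εA (k - wtt e) ∧
        b = algebraMap A B a * mono x e}

/-- the filtration by ideals -/
noncomputable def J (εA : A →+* K) (x : B) (k : ℕ) : Ideal B := Ideal.span (gens' εA x k)

lemma J_isMulFilt (εA : A →+* K) (x : B) : IsMulFilt fun n => (J εA x n).toAddSubgroup where
  one_mem := by
    refine Ideal.subset_span ⟨0, 1, ?_, ?_⟩
    · rw [show 0 - wtt 0 = 0 by omega, gammaFil_zero]; trivial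
    · rw [mono, Finsupp.prod_zero_index, map_one, one_mul]
  anti := by
    intro m n h
    refine Ideal.span_mono ?_
    rintro b ⟨e, a, ha, rfl⟩
    exact ⟨e, a, gammaFil_anti εA (by omega) ha, rfl⟩
  mul_mem := by
    intro m n a b ha hb
    have h : J εA x m * J εA x n ≤ J εA x (m + n) := by
      rw [J, J, Ideal.span_mul_span']
      refine Ideal.span_mono ?_
      rintro _ ⟨_, ⟨e, a, ha, rfl⟩, _, ⟨e', a', ha', rfl⟩, rfl⟩
      refine ⟨e + e', a * a', ?_, ?_⟩
      · refine gammaFil_anti εA ?_ (gammaFil_mul εA ha ha')
        rw [wtt_add]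
        omega
      · simp only [map_mul, mono_add]
        ring
    exact h (Ideal.mul_mem_mul ha hb)

end

/-- Let K be a binomial ring with its binomial λ-structure, A a λ-ring in the strict sense which is an
augmented K-λ-algebra with augmentation ε_A, and B a λ-ring in the strict sense which is at once an
augmented K-λ-algebra with augmentation ε_B and an A-algebra compatibly with the K-structures, the
structure map A → B commuting with the λ^n and ε_B restricting to ε_A on A. Let x ∈ B with ε_B(x) =
0, and assume that the family (γ^{j+1} x)_{j ∈ ℕ} is algebraically independent over A and generates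
B as an A-algebra: B is the free λ-ring A[X, γ^2 X, γ^3 X, …] on one generator over A, augmented by
X ↦ 0. Then for every k the k-th ideal Fil^k B of the γ-filtration of B is the ideal generated by
the products a · m where m = ∏_j (γ^{j+1} x)^{e_j} is a monomial of weight i = Σ_j (j+1) e_j and a
lies in (the image of) Fil^{k−i} A, with Fil^s A = A for s ≤ 0; that is, Fil^k B = Fil^k A +
Fil^{k−1} A·M_1 + ⋯ + Fil^0 A·M_k + (monomials of weight > k), M_i denoting the monomials of weight
i. The hypotheses hP and hQ, existence of the universal polynomials, are true statements carried so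
that the identities of A and B can be used at every index. -/
theorem result
    (K : Type u) [CommRing K] [LambdaRing.LambdaOps K] [BinomialRing K] (hKb : LambdaRing.IsBinomial K)
    (hK : LambdaRing.IsSpecial K)
    (A : Type v) [CommRing A] [LambdaRing.LambdaOps A] [Algebra K A] (hA : LambdaRing.IsSpecial A)
    (εA : A →ₐ[K] K) (hεA : LambdaRing.IsAugLambdaAlg K A εA)
    (B : Type w) [CommRing B] [LambdaRing.LambdaOps B] [Algebra K B] [Algebra A B] [IsScalarTower K A B]
    (hB : LambdaRing.IsSpecial B) (hAB : LambdaRing.IsLambdaAlg A B)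
    (εB : B →ₐ[K] K) (hεB : LambdaRing.IsAugLambdaAlg K B εB) (hεAB : ∀ a : A, εB (algebraMap A B a) = εA a)
    (hP : ∀ n : ℕ, ∃ P : MvPolynomial (Fin n ⊕ Fin n) ℤ, LambdaRing.IsMulPoly n P)
    (hQ : ∀ i j : ℕ, ∃ Q : MvPolynomial (Fin (i * j)) ℤ, LambdaRing.IsCompPoly i j Q)
    (x : B) (hx : εB x = 0)
    (hind : AlgebraicIndependent A (fun j : ℕ => LambdaRing.gamma (j + 1) x))
    (hgen : Algebra.adjoin A (Set.range fun j : ℕ => LambdaRing.gamma (j + 1) x) = ⊤)
    (k : ℕ) :
    LambdaRing.gammaFil (εB : B →+* K) k =
      Ideal.span {b : B | ∃ (e : ℕ →₀ ℕ) (a : A),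
        a ∈ LambdaRing.gammaFil (εA : A →+* K) (k - e.sum fun j n => (j + 1) * n) ∧
        b = algebraMap A B a * e.prod fun j n => LambdaRing.gamma (j + 1) x ^ n} := by
  have hW := J_isMulFilt (εA : A →+* K) x
  have hKW : ∀ c : K, algebraMap K B c ∈
      (fun n => (J (εA : A →+* K) x n).toAddSubgroup) 0 := by
    intro c
    have h1 : (1 : B) ∈ J (εA : A →+* K) x 0 := hW.one_mem
    have h2 := Ideal.mul_mem_left _ (algebraMap K B c) h1
    rwa [mul_one] at h2
  have hKB := lam_algebraMap_of hKb hεB.isLambdaAlg
  -- gamma operations commute with `A → B`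
  have hgamma : ∀ (i : ℕ) (a : A), algebraMap A B (gamma i a) = gamma i (algebraMap A B a) :=
    fun i a => K537.Closure.map_gamma_of (algebraMap A B) i a (fun j _ => hAB j a) i le_rfl
  have hxW : GammaIn (fun n => (J (εA : A →+* K) x n).toAddSubgroup) x := by
    intro i
    rcases i with _ | i
    · rw [gamma_zero]; exact hW.one_mem
    · refine Ideal.subset_span ⟨Finsupp.single i 1, 1, ?_, ?_⟩
      · rw [wtt_single, Nat.sub_self, gammaFil_zero]; trivial
      · rw [mono_single, pow_one, map_one, one_mul]
  have haW : ∀ a : A, εA a = 0 →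
      GammaIn (fun n => (J (εA : A →+* K) x n).toAddSubgroup) (algebraMap A B a) := by
    intro a ha i
    refine Ideal.subset_span ⟨0, gamma i a, ?_, ?_⟩
    · have : wtt 0 = 0 := by rw [wtt, Finsupp.sum_zero_index]
      rw [this, Nat.sub_zero]
      exact gammaIn_GF (εA : A →+* K) ha i
    · rw [mono, Finsupp.prod_zero_index, mul_one, hgamma]
  have hall : ∀ z : B, GammaIn (fun n => (J (εA : A →+* K) x n).toAddSubgroup)
      (z - algebraMap K B (εB z)) := by
    intro z
    have hz : z ∈ Algebra.adjoin A (Set.range fun j : ℕ => LambdaRing.gamma (j + 1) x) := by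
      rw [hgen]; trivial
    induction hz using Algebra.adjoin_induction with
    | mem z hz =>
      obtain ⟨j, rfl⟩ := hz
      have h0 : εB (gamma (j + 1) x) = 0 := ε_gamma hεB hx (by omega)
      simp only [h0, map_zero, sub_zero]
      exact GammaIn.gamma' (K := K) hB hW hKW hxW (by omega)
    | algebraMap a =>
      have h1 : algebraMap A B a - algebraMap K B (εB (algebraMap A B a)) =
          algebraMap A B (a - algebraMap K A (εA a)) := by
        rw [hεAB, map_sub, ← IsScalarTower.algebraMap_apply K A B]
      rw [h1]
      refine haW _ ?_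
      rw [map_sub, AlgHom.commutes]
      simp
    | add z z' _ _ h h' =>
      have h1 : z + z' - algebraMap K B (εB (z + z')) =
          (z - algebraMap K B (εB z)) + (z' - algebraMap K B (εB z')) := by
        rw [map_add, map_add]; ring
      rw [h1]
      exact GammaIn.add hW h h'
    | mul z z' _ _ h h' =>
      have h1 : z * z' - algebraMap K B (εB (z * z')) =
          (z - algebraMap K B (εB z)) * (z' - algebraMap K B (εB z')) +
            (algebraMap K B (εB z) * (z' - algebraMap K B (εB z')) +
              algebraMap K B (εB z') * (z - algebraMap K B (εB z))) := by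
        rw [map_mul, map_mul]; ring
      rw [h1]
      exact GammaIn.add hW (GammaIn.mul' hB hW hKW h h')
        (GammaIn.add hW (GammaIn.smul' hB hW hKW hKB _ h') (GammaIn.smul' hB hW hKW hKB _ h))
  apply le_antisymm
  · refine gammaFil_le (εB : B →+* K) hW ?_ k
    intro z hz
    have h := hall z
    have hz' : εB z = 0 := hz
    rwa [hz', map_zero, sub_zero] at h
  · refine Ideal.span_le.2 ?_
    rintro b ⟨e, a, ha, rfl⟩
    change a ∈ gammaFil (εA : A →+* K) (k - wtt e) at ha
    change algebraMap A B a * mono x e ∈ gammaFil (εB : B →+* K) k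
    have h1 : algebraMap A B a ∈ gammaFil (εB : B →+* K) (k - wtt e) := by
      have hle : gammaFil (εA : A →+* K) (k - wtt e) ≤
          Ideal.comap (algebraMap A B) (gammaFil (εB : B →+* K) (k - wtt e)) := by
        refine Ideal.span_le.2 ?_
        rintro _ ⟨l, hl, hn, rfl⟩
        refine Ideal.subset_span ⟨l.map fun p => (p.1, algebraMap A B p.2), ?_, ?_, ?_⟩
        · intro p hp
          obtain ⟨q, hq, rfl⟩ := List.mem_map.1 hp
          change εB (algebraMap A B q.2) = 0
          rw [hεAB]
          exact hl q hq
        · simpa [List.map_map, Function.comp_def] using hn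
        · rw [map_list_prod, List.map_map, List.map_map]
          congr 1
          refine List.map_congr_left fun p _ => ?_
          simp [hgamma]
      exact hle ha
    have h2 : ∀ e, mono x e ∈ gammaFil (εB : B →+* K) (wtt e) := by
      intro e
      induction e using Finsupp.induction_linear with
      | zero =>
        have : wtt 0 = 0 := by rw [wtt, Finsupp.sum_zero_index]
        rw [this, gammaFil_zero]; trivial
      | add e e' h h' =>
        rw [mono_add, wtt_add]
        exact gammaFil_mul _ h h'
      | single i n =>
        have h4 : wtt (Finsupp.single i n) = (i + 1) * n := by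
          rw [wtt]
          exact Finsupp.sum_single_index (by simp)
        rw [h4, mono_single]
        induction n with
        | zero => rw [mul_zero, gammaFil_zero]; trivial
        | succ n ih =>
          rw [pow_succ, Nat.mul_succ]
          refine gammaFil_mul _ (ih ?_) (gammaIn_GF (εB : B →+* K) hx (i + 1))
          rw [wtt]
          exact Finsupp.sum_single_index (by simp)
    have h3 := gammaFil_mul (εB : B →+* K) h1 (h2 e)
    exact gammaFil_anti _ (by omega) h3

end Groth.Agent.S8698
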