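import Groth.Statements.S8702
import Groth.Agent.LambdaRing.K537.Newton

set_option autoImplicit false
universe u
open LambdaRing

namespace Groth.Agent.S8702

lemma ops_ext {K : Type u} [CommRing K] (L L' : LambdaRing.LambdaOps K) (h : L.lam = L'.lam) : L = L' := by
  obtain ⟨l, _, _, _⟩ := L
  obtain ⟨l', _, _, _⟩ := L'
  change l = l' at h
  subst h
  rfl

/-- Let K be a commutative ring which is an algebra over the rationals, and let ψ^k : K → K, k ≥ 1, be
additive maps with ψ^1 the identity. Then there is one and only one pre-λ-structure on K whose Adams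
operations (defined through the logarithmic derivative of λ_t) are the ψ^k for every k ≥ 1, namely
λ_t(x) = exp(Σ_{k ≥ 1} (−1)^{k−1} ψ^k(x) t^k / k): in characteristic zero, pre-λ-structures and
families of additive operations ψ^k with ψ^1 = id determine each other. (The value of the family at
k = 0 is ignored.) -/
theorem result (K : Type u) [CommRing K] [Algebra ℚ K]
    (ψ : ℕ → K →+ K) (hψ : ψ 1 = AddMonoidHom.id K) :
    ∃! L : LambdaRing.LambdaOps K, ∀ k : ℕ, 1 ≤ k → ∀ x : K, @LambdaRing.adamsOp K _ L k x = ψ k x := by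
  refine ⟨K537.Newton.opsOfAdams ψ hψ, fun k hk x => K537.Newton.adamsOp_opsOfAdams ψ hψ k hk x, ?_⟩
  intro L hL
  have h : L.lam = (K537.Newton.opsOfAdams ψ hψ).lam := by
    funext n x
    rw [@K537.Newton.lam_eq_c K _ _ L n x, @K537.Newton.lam_eq_c K _ _ (K537.Newton.opsOfAdams ψ hψ) n x]
    congr 1
    funext k
    rw [hL (k + 1) (by omega) x, K537.Newton.adamsOp_opsOfAdams ψ hψ (k + 1) (by omega) x]
  exact ops_ext _ _ h

end Groth.Agent.S8702
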