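import Groth.Statements.S8704
import Groth.Agent.LambdaRing.K537.Filt

set_option autoImplicit false
universe u v
open LambdaRing

namespace Groth.Agent.S8704

open K537.Filt

section

variable {K : Type u} [CommRing K] [LambdaRing.LambdaOps K]
    {A : Type v} [CommRing A] [LambdaRing.LambdaOps A] [Algebra K A]
    (ε : A →ₐ[K] K) (S : Set A)

/-- the generators of the `n`-th term -/
def gens (n : ℕ) : Set A :=
  {y : A | ∃ l : List (ℕ × A), (∀ p ∈ l, p.2 ∈ S) ∧ n ≤ (l.map Prod.fst).sum ∧
        y = (l.map fun p => LambdaRing.gamma p.1 (p.2 - algebraMap K A (ε p.2))).prod}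

lemma gens_anti {m n : ℕ} (h : m ≤ n) : gens ε S n ⊆ gens ε S m := by
  rintro y ⟨l, h1, h2, h3⟩
  exact ⟨l, h1, h.trans h2, h3⟩

lemma one_mem_gens : (1 : A) ∈ gens ε S 0 := ⟨[], by simp, by simp, by simp⟩

lemma mul_mem_gens {m n : ℕ} {a b : A} (ha : a ∈ gens ε S m) (hb : b ∈ gens ε S n) :
    a * b ∈ gens ε S (m + n) := by
  obtain ⟨l, h1, h2, rfl⟩ := ha
  obtain ⟨l', h1', h2', rfl⟩ := hb
  refine ⟨l ++ l', ?_, ?_, ?_⟩
  · intro p hp
    rcases List.mem_append.1 hp with h | h
    · exact h1 p h
    · exact h1' p h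
  · rw [List.map_append, List.sum_append]
    omega
  · rw [List.map_append, List.prod_append]

/-- the filtration by the spans -/
def M (n : ℕ) : Submodule K A := Submodule.span K (gens ε S n)

lemma M_isMulFilt : IsMulFilt (fun n => (M ε S n).toAddSubgroup) where
  one_mem := Submodule.subset_span (one_mem_gens ε S)
  anti := fun {m n} h => Submodule.span_mono (gens_anti ε S h)
  mul_mem := by
    intro m n a b ha hb
    have h : M ε S m * M ε S n ≤ M ε S (m + n) := by
      rw [M, M, Submodule.span_mul_span]
      refine Submodule.span_mono ?_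
      rintro _ ⟨x, hx, y, hy, rfl⟩
      exact mul_mem_gens ε S hx hy
    exact h (Submodule.mul_mem_mul ha hb)

lemma gammaIn_sub (hS : AddSubgroup.closure S = ⊤) (x : A) :
    GammaIn (fun n => (M ε S n).toAddSubgroup) (x - algebraMap K A (ε x)) := by
  have hx : x ∈ AddSubgroup.closure S := by rw [hS]; trivial
  have key : ∀ y ∈ AddSubgroup.closure S,
      GammaIn (fun n => (M ε S n).toAddSubgroup) (y - algebraMap K A (ε y)) := by
    intro y hy
    induction hy using AddSubgroup.closure_induction with
    | mem s hs =>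
      intro k
      refine Submodule.subset_span ⟨[(k, s)], ?_, ?_, ?_⟩
      · simpa using hs
      · simp
      · simp
    | zero =>
      have : (0 : A) - algebraMap K A (ε 0) = 0 := by simp
      rw [this]
      exact GammaIn.zero (M_isMulFilt ε S)
    | add a b _ _ iha ihb =>
      have : a + b - algebraMap K A (ε (a + b)) =
          (a - algebraMap K A (ε a)) + (b - algebraMap K A (ε b)) := by
        rw [map_add, map_add]; ring
      rw [this]
      exact GammaIn.add (M_isMulFilt ε S) iha ihb
    | neg a _ iha =>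
      have : -a - algebraMap K A (ε (-a)) = -(a - algebraMap K A (ε a)) := by
        rw [map_neg, map_neg]; ring
      rw [this]
      exact GammaIn.neg (M_isMulFilt ε S) iha
  exact key x hx

lemma mem_M_zero (hS : AddSubgroup.closure S = ⊤) (x : A) : x ∈ M ε S 0 := by
  have h1 := gammaIn_sub ε S hS x 1
  rw [Groth.Agent.Books.Lambda2.gamma_one] at h1
  have h2 : x - algebraMap K A (ε x) ∈ M ε S 0 := Submodule.span_mono (gens_anti ε S (Nat.zero_le 1)) h1
  have h3 : algebraMap K A (ε x) ∈ M ε S 0 := by
    rw [Algebra.algebraMap_eq_smul_one]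
    exact Submodule.smul_mem _ _ (Submodule.subset_span (one_mem_gens ε S))
  have := add_mem h2 h3
  simpa using this

end

/-- Let K and A be λ-rings in the strict sense, A an augmented K-λ-algebra with augmentation ε : A → K,
and Fil^n A its γ-filtration, the ideal generated by the products γ^{i_1}(x_1) ⋯ γ^{i_k}(x_k) with
i_1 + ⋯ + i_k ≥ n and all ε(x_r) = 0. If a subset S generates A as an abelian group, then Fil^n A,
as a K-submodule of A, is generated over K by the products γ^{i_1}(s_1 − ε(s_1)) ⋯ γ^{i_k}(s_k −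
ε(s_k)) with s_r ∈ S and i_1 + ⋯ + i_k ≥ n. -/
theorem result
    (K : Type u) [CommRing K] [LambdaRing.LambdaOps K] (hK : LambdaRing.IsSpecial K)
    (A : Type v) [CommRing A] [LambdaRing.LambdaOps A] [Algebra K A] (hA : LambdaRing.IsSpecial A)
    (ε : A →ₐ[K] K) (hε : LambdaRing.IsAugLambdaAlg K A ε)
    (S : Set A) (hS : AddSubgroup.closure S = ⊤) (n : ℕ) :
    (LambdaRing.gammaFil (ε : A →+* K) n).restrictScalars K =
      Submodule.span K {y : A | ∃ l : List (ℕ × A), (∀ p ∈ l, p.2 ∈ S) ∧ n ≤ (l.map Prod.fst).sum ∧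
        y = (l.map fun p => LambdaRing.gamma p.1 (p.2 - algebraMap K A (ε p.2))).prod} := by
  apply le_antisymm
  · have hmul : ∀ a b : A, b ∈ M ε S n → a * b ∈ M ε S n := by
      intro a b hb
      have := (M_isMulFilt ε S).mul_mem (m := 0) (n := n) (a := a) (b := b) (mem_M_zero ε S hS a) hb
      rwa [zero_add] at this
    let I : Ideal A :=
      { carrier := {b | b ∈ M ε S n}
        zero_mem' := zero_mem (M ε S n)
        add_mem' := fun {a b} ha hb => add_mem (S := Submodule K A) (s := M ε S n) ha hb
        smul_mem' := fun a b hb => hmul a b hb }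
    have hle : LambdaRing.gammaFil (ε : A →+* K) n ≤ I := by
      refine Ideal.span_le.2 ?_
      rintro y ⟨l, hl, hn, rfl⟩
      refine (M_isMulFilt ε S).anti hn (list_prod_mem (M_isMulFilt ε S) l ?_)
      intro p hp
      have h := gammaIn_sub ε S hS p.2 p.1
      have h0 : ε p.2 = 0 := hl p hp
      rwa [h0, map_zero, sub_zero] at h
    intro x hx
    exact hle hx
  · refine Submodule.span_le.2 ?_
    rintro y ⟨l, hl, hn, rfl⟩
    refine Ideal.subset_span ⟨l.map fun p => (p.1, p.2 - algebraMap K A (ε p.2)), ?_, ?_, ?_⟩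
    · intro p hp
      obtain ⟨q, hq, rfl⟩ := List.mem_map.1 hp
      simp
    · simpa [List.map_map, Function.comp_def] using hn
    · simp [List.map_map, Function.comp_def]

end Groth.Agent.S8704
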