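import Groth.Statements.S8705
import Mathlib.Tactic.Abel
import Mathlib.LinearAlgebra.Quotient.Basic
import Mathlib.LinearAlgebra.Finsupp.LSum
import Mathlib.Algebra.Module.Submodule.Lattice
-- import your own Groth.Agent.* helpers here

set_option autoImplicit false
universe u
open SGA7

namespace Groth.Agent.S8705

/-- The extension of `P` by `Q` attached to a symmetric 2-cocycle. -/
structure CExt (P Q : Type u) where
  a : Q
  p : P

theorem CExt.ext' {P Q : Type u} {x y : CExt P Q} (h : x.a = y.a) (h' : x.p = y.p) : x = y := by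
  cases x; cases y; simp_all

/-- additive group structure on the extension given by a symmetric cocycle. -/
@[reducible] def CExt.group {P Q : Type u} [AddCommGroup P] [AddCommGroup Q] (c : P → P → Q)
    (hs : ∀ p q, c p q = c q p) (hc : ∀ p q r, c (p + q) r + c p q = c p (q + r) + c q r) :
    AddCommGroup (CExt P Q) :=
  have h0 : ∀ p, c 0 p = c 0 0 := by
    intro p
    have := hc 0 0 p
    simp only [zero_add] at this
    exact (add_left_cancel this).symm
  letI iA : Add (CExt P Q) := ⟨fun x y => ⟨x.a + y.a + c x.p y.p, x.p + y.p⟩⟩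
  letI iZ : Zero (CExt P Q) := ⟨⟨-c 0 0, 0⟩⟩
  letI iN : Neg (CExt P Q) := ⟨fun x => ⟨-x.a - c x.p (-x.p) - c 0 0, -x.p⟩⟩
  have assoc : ∀ x y z : CExt P Q, x + y + z = x + (y + z) := by
    intro x y z
    apply CExt.ext'
    · change (x.a + y.a + c x.p y.p) + z.a + c (x.p + y.p) z.p
        = x.a + (y.a + z.a + c y.p z.p) + c x.p (y.p + z.p)
      have := hc x.p y.p z.p
      have h2 : c (x.p + y.p) z.p = c x.p (y.p + z.p) + c y.p z.p - c x.p y.p := by
        rw [← this]; abel
      rw [h2]; abel
    · exact add_assoc _ _ _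
  have zadd : ∀ x : CExt P Q, 0 + x = x := by
    intro x
    apply CExt.ext'
    · change -c 0 0 + x.a + c 0 x.p = x.a
      rw [h0 x.p]; abel
    · exact zero_add _
  have comm : ∀ x y : CExt P Q, x + y = y + x := by
    intro x y
    apply CExt.ext'
    · change x.a + y.a + c x.p y.p = y.a + x.a + c y.p x.p
      rw [hs x.p y.p]; abel
    · exact add_comm _ _
  have nadd : ∀ x : CExt P Q, -x + x = 0 := by
    intro x
    apply CExt.ext'
    · change (-x.a - c x.p (-x.p) - c 0 0) + x.a + c (-x.p) x.p = - c 0 0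
      rw [hs (-x.p) x.p]; abel
    · exact neg_add_cancel _
  { iA, iZ, iN with
    add_assoc := assoc
    zero_add := zadd
    add_zero := fun x => by rw [comm, zadd]
    nsmul := nsmulRec
    zsmul := zsmulRec
    neg_add_cancel := nadd
    add_comm := comm }

theorem result (P : Type u) [AddCommGroup P] :
    letI ε : (P →₀ ℤ) →ₗ[ℤ] P := Finsupp.linearCombination ℤ (fun p : P => p)
    letI d₀ : (P × P →₀ ℤ) →ₗ[ℤ] (P →₀ ℤ) := Finsupp.linearCombination ℤ
      (fun pq : P × P => Finsupp.single (pq.1 + pq.2) 1 - Finsupp.single pq.1 1 - Finsupp.single pq.2 1)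
    letI d₁ : (P × P × P →₀ ℤ) →ₗ[ℤ] (P × P →₀ ℤ) := Finsupp.linearCombination ℤ
      (fun t : P × P × P => Finsupp.single (t.1 + t.2.1, t.2.2) 1 - Finsupp.single (t.1, t.2.1 + t.2.2) 1
        + Finsupp.single (t.1, t.2.1) 1 - Finsupp.single (t.2.1, t.2.2) 1)
    letI d₁' : (P × P →₀ ℤ) →ₗ[ℤ] (P × P →₀ ℤ) := Finsupp.linearCombination ℤ
      (fun pq : P × P => Finsupp.single pq 1 - Finsupp.single (pq.2, pq.1) 1)
    Function.Surjective ε ∧ LinearMap.ker ε = LinearMap.range d₀ ∧
      LinearMap.ker d₀ = LinearMap.range d₁ ⊔ LinearMap.range d₁' := by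
  let ε : (P →₀ ℤ) →ₗ[ℤ] P := Finsupp.linearCombination ℤ (fun p : P => p)
  let d₀ : (P × P →₀ ℤ) →ₗ[ℤ] (P →₀ ℤ) := Finsupp.linearCombination ℤ
      (fun pq : P × P => Finsupp.single (pq.1 + pq.2) 1 - Finsupp.single pq.1 1 - Finsupp.single pq.2 1)
  let d₁ : (P × P × P →₀ ℤ) →ₗ[ℤ] (P × P →₀ ℤ) := Finsupp.linearCombination ℤ
      (fun t : P × P × P => Finsupp.single (t.1 + t.2.1, t.2.2) 1 - Finsupp.single (t.1, t.2.1 + t.2.2) 1
        + Finsupp.single (t.1, t.2.1) 1 - Finsupp.single (t.2.1, t.2.2) 1)
  let d₁' : (P × P →₀ ℤ) →ₗ[ℤ] (P × P →₀ ℤ) := Finsupp.linearCombination ℤ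
      (fun pq : P × P => Finsupp.single pq 1 - Finsupp.single (pq.2, pq.1) 1)
  change Function.Surjective ε ∧ LinearMap.ker ε = LinearMap.range d₀ ∧
      LinearMap.ker d₀ = LinearMap.range d₁ ⊔ LinearMap.range d₁'
  have hε : ∀ p, ε (Finsupp.single p 1) = p := fun p => by
    simp [ε, Finsupp.linearCombination_single]
  have hd₀ : ∀ p q, d₀ (Finsupp.single (p, q) 1) =
      Finsupp.single (p + q) 1 - Finsupp.single p 1 - Finsupp.single q 1 := fun p q => by
    simp [d₀, Finsupp.linearCombination_single]
  have hd₁ : ∀ p q r, d₁ (Finsupp.single (p, q, r) 1) =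
      Finsupp.single (p + q, r) 1 - Finsupp.single (p, q + r) 1
        + Finsupp.single (p, q) 1 - Finsupp.single (q, r) 1 := fun p q r => by
    simp [d₁, Finsupp.linearCombination_single]
  have hd₁' : ∀ p q, d₁' (Finsupp.single (p, q) 1) =
      Finsupp.single (p, q) 1 - Finsupp.single (q, p) 1 := fun p q => by
    simp [d₁', Finsupp.linearCombination_single]
  refine ⟨fun p => ⟨Finsupp.single p 1, hε p⟩, ?_, ?_⟩
  · apply le_antisymm
    · -- build P → ℤ[P]/range d₀
      let N := LinearMap.range d₀
      let t : P →+ ((P →₀ ℤ) ⧸ N) := AddMonoidHom.mk' (fun p => N.mkQ (Finsupp.single p 1)) (by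
        intro p q
        have h : N.mkQ (d₀ (Finsupp.single (p, q) 1)) = 0 := by
          rw [Submodule.mkQ_apply, Submodule.Quotient.mk_eq_zero]
          exact ⟨_, rfl⟩
        rw [hd₀, map_sub, map_sub, sub_sub, sub_eq_zero] at h
        exact h)
      have hcomp : t.toIntLinearMap ∘ₗ ε = N.mkQ := by
        apply Finsupp.lhom_ext'
        intro p
        apply LinearMap.ext_ring
        change t (ε (Finsupp.single p 1)) = _
        rw [hε]; rfl
      intro x hx
      have h1 : N.mkQ x = 0 := by
        rw [← hcomp]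
        change t (ε x) = 0
        rw [LinearMap.mem_ker.mp hx, map_zero]
      rwa [Submodule.mkQ_apply, Submodule.Quotient.mk_eq_zero] at h1
    · rw [LinearMap.range_le_ker_iff]
      apply Finsupp.lhom_ext'
      intro p
      apply LinearMap.ext_ring
      obtain ⟨p, q⟩ := p
      change ε (d₀ (Finsupp.single (p, q) 1)) = 0
      rw [hd₀, map_sub, map_sub, hε, hε, hε]
      abel
  · apply le_antisymm
    · let M := LinearMap.range d₁ ⊔ LinearMap.range d₁'
      let Q := (P × P →₀ ℤ) ⧸ M
      let c : P → P → Q := fun p q => M.mkQ (Finsupp.single (p, q) 1)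
      have hs : ∀ p q, c p q = c q p := by
        intro p q
        have h : M.mkQ (d₁' (Finsupp.single (p, q) 1)) = 0 := by
          rw [Submodule.mkQ_apply, Submodule.Quotient.mk_eq_zero]
          exact Submodule.mem_sup_right ⟨_, rfl⟩
        rw [hd₁', map_sub, sub_eq_zero] at h
        exact h
      have hc : ∀ p q r, c (p + q) r + c p q = c p (q + r) + c q r := by
        intro p q r
        have h : M.mkQ (d₁ (Finsupp.single (p, q, r) 1)) = 0 := by
          rw [Submodule.mkQ_apply, Submodule.Quotient.mk_eq_zero]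
          exact Submodule.mem_sup_left ⟨_, rfl⟩
        rw [hd₁, map_sub, map_add, map_sub, sub_eq_zero] at h
        change c (p + q) r - c p (q + r) + c p q = c q r at h
        rw [← h]; abel
      letI : AddCommGroup (CExt P Q) := CExt.group c hs hc
      let i : Q →+ CExt P Q := AddMonoidHom.mk' (fun a => ⟨a - c 0 0, 0⟩) (by
        intro a b
        apply CExt.ext'
        · change a + b - c 0 0 = (a - c 0 0) + (b - c 0 0) + c 0 0
          abel
        · change (0 : P) = 0 + 0
          rw [add_zero])
      have hi : Function.Injective i := by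
        intro a b h
        have : (i a).a = (i b).a := by rw [h]
        change a - c 0 0 = b - c 0 0 at this
        exact sub_left_injective this
      let S : (P →₀ ℤ) →ₗ[ℤ] CExt P Q := Finsupp.linearCombination ℤ (fun p => (⟨0, p⟩ : CExt P Q))
      have hS : ∀ p, S (Finsupp.single p 1) = ⟨0, p⟩ := fun p => by
        simp [S, Finsupp.linearCombination_single]
      have hcomp : S ∘ₗ d₀ = - (i.toIntLinearMap ∘ₗ M.mkQ) := by
        apply Finsupp.lhom_ext'
        intro p
        apply LinearMap.ext_ring
        obtain ⟨p, q⟩ := p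
        change S (d₀ (Finsupp.single (p, q) 1)) = - (i (c p q))
        rw [hd₀, map_sub, map_sub, hS, hS, hS]
        rw [eq_neg_iff_add_eq_zero, sub_sub, sub_add_eq_add_sub, sub_eq_zero]
        apply CExt.ext'
        · change 0 + (c p q - c 0 0) + c (p + q) 0 = 0 + 0 + c p q
          have h1 := hc (p + q) 0 0
          simp only [add_zero] at h1
          have h2 : c (p + q) 0 = c 0 0 := add_left_cancel h1
          rw [h2]; abel
        · change (p + q) + 0 = p + q
          rw [add_zero]
      intro x hx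
      have h1 : i (M.mkQ x) = 0 := by
        have h2 : S (d₀ x) = - (i (M.mkQ x)) := by
          have := congrArg (fun f => f x) hcomp
          exact this
        rw [LinearMap.mem_ker.mp hx, map_zero] at h2
        rw [← neg_eq_zero, ← h2]
      have h3 : M.mkQ x = 0 := hi (by rw [h1, map_zero])
      rwa [Submodule.mkQ_apply, Submodule.Quotient.mk_eq_zero] at h3
    · rw [sup_le_iff]
      constructor
      · rw [LinearMap.range_le_ker_iff]
        apply Finsupp.lhom_ext'
        intro p
        apply LinearMap.ext_ring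
        obtain ⟨p, q, r⟩ := p
        change d₀ (d₁ (Finsupp.single (p, q, r) 1)) = 0
        rw [hd₁, map_sub, map_add, map_sub, hd₀, hd₀, hd₀, hd₀, add_assoc]
        abel
      · rw [LinearMap.range_le_ker_iff]
        apply Finsupp.lhom_ext'
        intro p
        apply LinearMap.ext_ring
        obtain ⟨p, q⟩ := p
        change d₀ (d₁' (Finsupp.single (p, q) 1)) = 0
        rw [hd₁', map_sub, hd₀, hd₀, add_comm q p]
        abel

end Groth.Agent.S8705
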