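import Groth.Statements.S8708
import Groth.Agent.SGA7.K564.GrpGeneric

set_option autoImplicit false
universe u
open CategoryTheory CategoryTheory.Limits MonoidalCategory CartesianMonoidalCategory MonObj AlgebraicGeometry
open SGA7

namespace Groth.Agent.S8708

open K564.ConstTors

theorem eq_of_connected {E P : Scheme.{u}} {q : E ⟶ P} {Z : Type u} [Group Z] (c : CT q Z) {T T' : Scheme.{u}}
    [PreconnectedSpace T] [Nonempty T'] (j : T' ⟶ T) (x y : T ⟶ E) (h : x ≫ q = y ≫ q) (hj : j ≫ x = j ≫ y) :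
    x = y := by
  obtain ⟨V, h1, h2⟩ := c.dec x y h
  have htop : V 1 = ⊤ := by
    obtain ⟨t'⟩ := ‹Nonempty T'›
    have h3 := (CT.isClopen_of_dec h1 1).eq_univ
      ⟨j t', c.mem_of_comp h1 h2 j 1 (by rw [c.ρ_one, Category.comp_id, hj]) t'⟩
    exact TopologicalSpace.Opens.ext h3
  have h3 := h2 1
  rw [c.ρ_one, Category.comp_id] at h3
  have hι : IsIso (V 1).ι := by
    rw [htop]; exact inferInstanceAs (IsIso (Scheme.topIso _).hom)
  rw [cancel_epi] at h3
  exact h3.symm

theorem exists_hom (k : Type u) [Field k]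
    (Z : Type u) [Group Z] (hZ : ∀ z : Z, IsOfFinOrder z → z = 1)
    (P E G : Over (Spec (CommRingCat.of k))) [GrpObj P] [GrpObj E] [GrpObj G]
    [LocallyOfFiniteType P.hom] [ConnectedSpace ↥P.left]
    (eG : G ≅ TwC.const (Spec (CommRingCat.of k)) Z) (hG : TwC.IsConstGrp Z G eG)
    (u : G ⟶ E) (v : E ⟶ P) (hex : NonAbH1.IsExactSeq Scheme.fppfPrecoverage u v) :
      ∃ s : P ⟶ E, IsMonHom s ∧ s ≫ v = 𝟙 P := by
  obtain ⟨hu, hv, huv, hpb, hloc⟩ := hex
  let c := ofExt hG u v huv hpb
  obtain ⟨het, hsurj⟩ := c.etale_surjective hloc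
  have : LocallyOfFiniteType E.hom := by rw [← Over.w v]; infer_instance
  obtain ⟨s, hs⟩ := K564.GrpGeneric.exists_section_of_grp v c hZ
  obtain ⟨z, hz⟩ := c.exists_field k ((η[P] : 𝟙_ (Over (Spec (CommRingCat.of k))) ⟶ P).left ≫ s)
    (η[E] : 𝟙_ (Over (Spec (CommRingCat.of k))) ⟶ E).left (by
      rw [Category.assoc, hs, Category.comp_id, ← Over.comp_left, IsMonHom.one_hom])
  let g : P ⟶ E := Over.homMk (s ≫ c.ρ z) (by
    rw [← Over.w v, ← Category.assoc, Category.assoc s, c.ρ_q, hs, Category.id_comp])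
  have hg : g ≫ v = 𝟙 P := by
    apply Over.OverMorphism.ext
    rw [Over.comp_left]
    change (s ≫ c.ρ z) ≫ v.left = _
    rw [Category.assoc, c.ρ_q, hs]; rfl
  have hη : η[P] ≫ g = η[E] := by
    apply Over.OverMorphism.ext
    rw [Over.comp_left]
    change _ ≫ (s ≫ c.ρ z) = _
    rw [← Category.assoc, hz]
  have hconn : ConnectedSpace ↥(P ⊗ P).left := by
    have : GrpObj (Over.mk P.hom) := inferInstanceAs (GrpObj P)
    have := Groth.Agent.Sga3C.GrpIrr.geometricallyIrreducible_of_connectedSpace P.hom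
    have h1 : IrreducibleSpace ↥P.left := GeometricallyIrreducible.irreducibleSpace_of_subsingleton (f := P.hom)
    have h2 : IrreducibleSpace ↥(pullback P.hom P.hom) := inferInstance
    exact inferInstanceAs (ConnectedSpace ↥(pullback P.hom P.hom))
  refine ⟨g, ⟨hη, ?_⟩, hg⟩
  apply Over.OverMorphism.ext
  refine eq_of_connected c (T' := Spec (CommRingCat.of k)) (lift η[P] η[P]).left _ _ ?_ ?_
  · rw [← Over.comp_left, ← Over.comp_left]
    congr 1
    rw [Category.assoc, Category.assoc, hg, Category.comp_id, IsMonHom.mul_hom v, ← Category.assoc (g ⊗ₘ g),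
      tensorHom_comp_tensorHom, hg, id_tensorHom_id, Category.id_comp]
  · rw [← Over.comp_left, ← Over.comp_left]
    congr 1
    have h1 : ∀ (Q : Over (Spec (CommRingCat.of k))) [GrpObj Q], lift η[Q] η[Q] ≫ μ[Q] = η[Q] := by
      intro Q _
      rw [← Hom.mul_def]
      have h2 : (η[Q] : 𝟙_ (Over (Spec (CommRingCat.of k))) ⟶ Q) = 1 := by
        rw [Hom.one_def, toUnit_unique (toUnit (𝟙_ (Over (Spec (CommRingCat.of k))))) (𝟙 _), Category.id_comp]
      rw [h2, _root_.mul_one]
    rw [← Category.assoc, h1, hη, ← Category.assoc, lift_map, hη, h1]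

/-- Let k be a field, Z a group without non-trivial elements of finite order, P a connected k-group
scheme locally of finite type, G the constant k-group scheme Z_k (through the isomorphism eG), and u
: G → E, v : E → P homomorphisms of k-group schemes forming a sequence 1 → G → E → P → 1 which is
exact for the fppf topology. Then the extension is rigid and trivial: every automorphism of the
k-group scheme E compatible with u and v is the identity, and there is a homomorphism of k-group
schemes s : P → E with s followed by v equal to the identity of P. (For P not connected the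
published statement reduces extensions of P to extensions of its group of connected components; that
part is not stated.) -/
theorem result (k : Type u) [Field k]
    (Z : Type u) [Group Z] (hZ : ∀ z : Z, IsOfFinOrder z → z = 1)
    (P E G : Over (Spec (CommRingCat.of k))) [GrpObj P] [GrpObj E] [GrpObj G]
    [LocallyOfFiniteType P.hom] [ConnectedSpace ↥P.left]
    (eG : G ≅ TwC.const (Spec (CommRingCat.of k)) Z) (hG : TwC.IsConstGrp Z G eG)
    (u : G ⟶ E) (v : E ⟶ P) (hex : NonAbH1.IsExactSeq Scheme.fppfPrecoverage u v) :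
    (∀ φ : E ≅ E, IsMonHom φ.hom → u ≫ φ.hom = u → φ.hom ≫ v = v → φ.hom = 𝟙 E) ∧
      ∃ s : P ⟶ E, IsMonHom s ∧ s ≫ v = 𝟙 P := by
  refine ⟨?_, exists_hom k Z hZ P E G eG hG u v hex⟩
  obtain ⟨g, hg, hgv⟩ := exists_hom k Z hZ P E G eG hG u v hex
  obtain ⟨hu, hv, huv, hpb, hloc⟩ := hex
  let c := ofExt hG u v huv hpb
  intro φ hφ huφ hφv
  have hgφ : g ≫ φ.hom = g := by
    apply Over.OverMorphism.ext
    refine eq_of_connected c (T' := Spec (CommRingCat.of k))
      (η[P] : 𝟙_ (Over (Spec (CommRingCat.of k))) ⟶ P).left _ _ ?_ ?_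
    · rw [← Over.comp_left, ← Over.comp_left, Category.assoc, hφv]
    · rw [← Over.comp_left, ← Over.comp_left, ← Category.assoc, IsMonHom.one_hom, IsMonHom.one_hom]
  -- every point of `E` is a product
  let l : E ⟶ E ⊗ G := hpb.lift (v ≫ g) (𝟙 E) (by rw [Category.assoc, hgv, Category.comp_id, Category.id_comp])
  have hl1 : l ≫ fst E G = v ≫ g := hpb.lift_fst _ _ _
  have hl2 : l ≫ (E ◁ u) ≫ μ[E] = 𝟙 E := hpb.lift_snd _ _ _
  have h1 : 𝟙 E = (v ≫ g) * ((l ≫ snd E G) ≫ u) := by
    rw [← hl2, Hom.mul_def, ← Category.assoc]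
    congr 1
    rw [← hl1]
    apply CartesianMonoidalCategory.hom_ext <;> simp
  have h2 := congrArg (fun f => f ≫ φ.hom) h1
  simp only [Category.id_comp, MonObj.mul_comp, Category.assoc, hgφ, huφ] at h2
  rw [h2, h1]
  simp

end Groth.Agent.S8708
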