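import Groth.Statements.S8710
-- import your own Groth.Agent.* helpers here
import Groth.Agent.LoccohA.TorLES

set_option autoImplicit false
universe u
open CategoryTheory CategoryTheory.Limits
open SGA7

namespace Groth.Agent.S8710

open Groth.Agent.LoccohA.TorLES

/-- middle term vanishing from the long exact sequence -/
theorem isZero_mid {A : Type u} [CommRing A] {S : ShortComplex (ModuleCat.{u} A)} (hS : S.ShortExact)
    (N : ModuleCat.{u} A) (n : ℕ)
    (h1 : IsZero (((Tor (ModuleCat.{u} A) n).obj S.X₁).obj N))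
    (h3 : IsZero (((Tor (ModuleCat.{u} A) n).obj S.X₃).obj N)) :
    IsZero (((Tor (ModuleCat.{u} A) n).obj S.X₂).obj N) := by
  have hex := exact_map_map hS N n
  rw [ModuleCat.isZero_iff_subsingleton] at *
  constructor
  intro a b
  have key : ∀ x : ((Tor (ModuleCat.{u} A) n).obj S.X₂).obj N, x = 0 := by
    intro x
    obtain ⟨y, rfl⟩ := (hex x).1 (Subsingleton.elim _ _)
    rw [Subsingleton.elim y 0, map_zero]
  rw [key a, key b]

/-- left term vanishing from the long exact sequence -/
theorem isZero_left {A : Type u} [CommRing A] {S : ShortComplex (ModuleCat.{u} A)} (hS : S.ShortExact)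
    (N : ModuleCat.{u} A) (n : ℕ)
    (h2 : IsZero (((Tor (ModuleCat.{u} A) n).obj S.X₂).obj N))
    (h3 : IsZero (((Tor (ModuleCat.{u} A) (n + 1)).obj S.X₃).obj N)) :
    IsZero (((Tor (ModuleCat.{u} A) n).obj S.X₁).obj N) := by
  have hex := exact_δ_map hS N n
  rw [ModuleCat.isZero_iff_subsingleton] at *
  constructor
  intro a b
  have key : ∀ x : ((Tor (ModuleCat.{u} A) n).obj S.X₁).obj N, x = 0 := by
    intro x
    obtain ⟨y, rfl⟩ := (hex x).1 (Subsingleton.elim _ _)
    rw [Subsingleton.elim y 0, map_zero]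
  rw [key a, key b]

/-- Let f : B' → B be a surjective map of R-algebras with B' flat over R, g : C → B a map of R-algebras,
P = B' ×_B C their fibre product (the equalizer of f ∘ pr₁ and g ∘ pr₂ in B' × C), S an R-algebra
and n a natural number. If Tor_i^R(C, S) = 0 for 0 < i < n and Tor_i^R(B, S) = 0 for 0 < i ≤ n, then
Tor_i^R(P, S) = 0 for 0 < i < n. Here Tor_i^R(M, S) is the i-th left derived functor of M ⊗_R − on
R-modules, evaluated at S. (The published statement asks the vanishing for B only in degrees 0 < i <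
n; the published proof and the corollary following it use it in degrees 0 < i ≤ n, which this row
assumes.) -/
theorem result (R B' B C S : Type u) [CommRing R] [CommRing B'] [CommRing B]
    [CommRing C] [CommRing S] [Algebra R B'] [Algebra R B] [Algebra R C] [Algebra R S]
    (f : B' →ₐ[R] B) (hf : Function.Surjective f) (g : C →ₐ[R] B) [Module.Flat R B'] (n : ℕ)
    (hC : ∀ i : ℕ, 0 < i → i < n →
      IsZero (((Tor (ModuleCat.{u} R) i).obj (ModuleCat.of R C)).obj (ModuleCat.of R S)))
    (hB : ∀ i : ℕ, 0 < i → i ≤ n →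
      IsZero (((Tor (ModuleCat.{u} R) i).obj (ModuleCat.of R B)).obj (ModuleCat.of R S))) :
    letI P := AlgHom.equalizer (f.comp (AlgHom.fst R B' C)) (g.comp (AlgHom.snd R B' C))
    ∀ i : ℕ, 0 < i → i < n →
      IsZero (((Tor (ModuleCat.{u} R) i).obj (ModuleCat.of R ↥P)).obj (ModuleCat.of R S)) := by
  intro i hi hin
  let P := AlgHom.equalizer (f.comp (AlgHom.fst R B' C)) (g.comp (AlgHom.snd R B' C))
  -- first short exact sequence
  let a1 : ModuleCat.of R ↥P ⟶ ModuleCat.of R (B' × C) := ModuleCat.ofHom P.val.toLinearMap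
  let b1 : ModuleCat.of R (B' × C) ⟶ ModuleCat.of R B :=
    ModuleCat.ofHom (f.toLinearMap ∘ₗ LinearMap.fst R B' C - g.toLinearMap ∘ₗ LinearMap.snd R B' C)
  have w1 : a1 ≫ b1 = 0 := by
    ext x
    obtain ⟨x, hx⟩ := x
    change f x.1 - g x.2 = 0
    rw [sub_eq_zero]
    exact hx
  let S1 : ShortComplex (ModuleCat.{u} R) := ShortComplex.mk a1 b1 w1
  have hS1 : S1.ShortExact := by
    refine ShortComplex.ShortExact.mk' ?_ ?_ ?_
    · rw [ShortComplex.moduleCat_exact_iff]
      intro x hx
      change f x.1 - g x.2 = 0 at hx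
      rw [sub_eq_zero] at hx
      exact ⟨⟨x, hx⟩, rfl⟩
    · rw [ModuleCat.mono_iff_injective]
      exact Subtype.val_injective
    · rw [ModuleCat.epi_iff_surjective]
      intro y
      obtain ⟨x, rfl⟩ := hf y
      refine ⟨(x, 0), ?_⟩
      change f x - g 0 = f x
      rw [map_zero, sub_zero]
  -- second
  let a2 : ModuleCat.of R B' ⟶ ModuleCat.of R (B' × C) := ModuleCat.ofHom (LinearMap.inl R B' C)
  let b2 : ModuleCat.of R (B' × C) ⟶ ModuleCat.of R C := ModuleCat.ofHom (LinearMap.snd R B' C)
  have w2 : a2 ≫ b2 = 0 := by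
    ext x
    rfl
  let S2 : ShortComplex (ModuleCat.{u} R) := ShortComplex.mk a2 b2 w2
  have hS2 : S2.ShortExact := by
    refine ShortComplex.ShortExact.mk' ?_ ?_ ?_
    · rw [ShortComplex.moduleCat_exact_iff]
      intro x hx
      change x.2 = 0 at hx
      refine ⟨x.1, ?_⟩
      change ((x.1, 0) : B' × C) = x
      rw [← hx]
    · rw [ModuleCat.mono_iff_injective]
      intro x y h
      exact congrArg Prod.fst h
    · rw [ModuleCat.epi_iff_surjective]
      intro y
      exact ⟨(0, y), rfl⟩
  obtain ⟨j, rfl⟩ : ∃ j, i = j + 1 := ⟨i - 1, by omega⟩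
  have hB' : IsZero (((Tor (ModuleCat.{u} R) (j + 1)).obj (ModuleCat.of R B')).obj (ModuleCat.of R S)) :=
    haveI : Module.Flat R (ModuleCat.of R B') := inferInstanceAs (Module.Flat R B')
    isZero_tor_of_flat _ _ _
  have hmid := isZero_mid hS2 (ModuleCat.of R S) (j + 1) hB' (hC _ hi hin)
  exact isZero_left hS1 (ModuleCat.of R S) (j + 1) hmid (hB _ (by omega) (by omega))

end Groth.Agent.S8710
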