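import Groth.Statements.S8713
import Groth.Agent.SGA7.K445.NearbyNF
import Groth.Agent.SGA7.K445.RelDepth
import Groth.Agent.SGA7.K445.RelDepthMain
import Groth.Agent.Sga7.H752.Main
import Groth.Agent.Sga7.H752.ThmDOf
import Groth.Agent.Sga2lef.H101.FTBC
import Groth.Agent.Sga2lef.H93.FTAlg

set_option autoImplicit false
universe u
open CategoryTheory CategoryTheory.Limits AlgebraicGeometry MonObj
open SGA7

namespace Groth.Agent.S8713

/-- Let V be a strictly henselian discrete valuation ring whose residue field has characteristic zero, K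
its fraction field, Ω a separable closure of K, m ≥ 1, f : X → Spec V a morphism of finite type and
x a point of the special fibre which is isolated among the non-smooth points of its fibre
(hypothesis (a)). Suppose X has relative geometric depth at least n at x (hypothesis (b)): some open
neighbourhood of x in X is V-isomorphic to Spec(B/I) with B a smooth V-algebra of relative dimension
N and I an ideal generated by at most k elements, where n ≤ N − k. Let Osh be a strict henselisation
of the local ring of X at x and Y = Spec(Osh) ×_V Spec Ω. Then the vanishing-cycle groups at x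
vanish in degrees below n: H^i(Y, ℤ/m) = 0 for 0 < i < n, and if n ≥ 1 then Y is nonempty and
connected (ℤ/m → H⁰(Y, ℤ/m) is bijective). -/
theorem result (V K Ω : Type u) [CommRing V] [IsDomain V]
    [IsDiscreteValuationRing V] [HenselianLocalRing V]
    [IsSepClosed (IsLocalRing.ResidueField V)] [CharZero (IsLocalRing.ResidueField V)]
    [Field K] [Algebra V K] [IsFractionRing V K]
    [Field Ω] [Algebra K Ω] [IsSepClosure K Ω] [Algebra V Ω] [IsScalarTower V K Ω]
    (m : ℕ) (hm : 0 < m)
    {X : Scheme.{u}} (f : X ⟶ Spec (CommRingCat.of V)) [LocallyOfFiniteType f] [QuasiCompact f]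
    (x : ↥X) (hx : f.base x = IsLocalRing.closedPoint V)
    (U : X.Opens) (hxU : x ∈ U)
    (hisol : ∀ y : ↥X, y ∈ U → f.base y = IsLocalRing.closedPoint V → y ≠ x → y ∈ f.smoothLocus)
    (n N k : ℕ) (hnNk : n + k ≤ N)
    (B : Type u) [CommRing B] [Algebra V B]
    [SmoothOfRelativeDimension N (Spec.map (CommRingCat.ofHom (algebraMap V B)))]
    (I : Ideal B) (gens : Finset B) (hgens : gens.card ≤ k) (hI : I = Ideal.span (gens : Set B))
    (j : Spec (CommRingCat.of (B ⧸ I)) ⟶ X) [IsOpenImmersion j] (hxj : x ∈ Set.range j.base)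
    (hj : j ≫ f = Spec.map (CommRingCat.ofHom (algebraMap V (B ⧸ I))))
    (Osh : Type u) [CommRing Osh] [IsLocalRing Osh] [Algebra ↑(X.presheaf.stalk x) Osh]
    [IsLocalHom (algebraMap ↑(X.presheaf.stalk x) Osh)] [Hensel.IsStrictHenselization ↑(X.presheaf.stalk x) Osh] :
    (∀ i : ℕ, 0 < i → i < n → Subsingleton (EtCoh.H (SGA7.nearbyFibre f x Osh Ω)
        (EtCoh.const (SGA7.nearbyFibre f x Osh Ω) (ZMod m)) i)) ∧
      (0 < n → Nonempty ↥(SGA7.nearbyFibre f x Osh Ω) ∧ ConnectedSpace ↥(SGA7.nearbyFibre f x Osh Ω)) := by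
  have hsep0 : IsLocallyNoetherian (Spec (CommRingCat.of V)) := inferInstance
  have hlfp : LocallyOfFinitePresentation f := LocallyOfFinitePresentation.iff_locallyOfFiniteType.2 inferInstance
  by_cases hsm : x ∈ f.smoothLocus
  · obtain ⟨h1, h2⟩ := Groth.Agent.Sga7.H752.Main.smooth_case V K Ω f x hx Osh hsm
    exact ⟨fun i hi _ => h1 m hm i hi, fun _ => ⟨inferInstance, h2⟩⟩
  rcases Nat.eq_zero_or_pos n with rfl | hn
  · exact ⟨fun i _ hi => absurd hi (Nat.not_lt_zero i), fun h => absurd h (lt_irrefl 0)⟩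
  have hD : ∀ m : ℕ, 0 < m → Groth.Agent.Sga7.H752.DepthTensor.ThmD.{u} m := fun m hm => by
    have h0 := Groth.Agent.Sga7.H752.ThmDOf.charZero_ulift.{u}
    have : NeZero m := ⟨hm.ne'⟩
    exact Groth.Agent.Sga7.H752.ThmDOf.thmD (Groth.Agent.Sga2lef.H101.FTBC.FT_of_algebraicClosure (ULift.{u} ℚ)
      (Groth.Agent.Sga2lef.H93.FTAlg.ft (AlgebraicClosure (ULift.{u} ℚ)) m))
  let _ : Algebra V Osh := (Spec.preimage (Hens2.specOf X x Osh ≫ f)).hom.toAlgebra
  have hVO : Spec.map (CommRingCat.ofHom (algebraMap V Osh)) = Hens2.specOf X x Osh ≫ f := Spec.map_preimage _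
  have hcl := Groth.Agent.Sga7.H752.IsolClosed.isClosed_asFiber f x hx U hxU hisol hsm
  have h1 := Groth.Agent.SGA7.K445.NearbyNF.main V K Ω f x hx U hxU hisol Osh hVO n
    (fun V' _ _ _ _ ht _ m hm => Groth.Agent.SGA7.K445.RelDepthMain.depth f n N B I gens hI
      (by omega) j hj x hxj hx hcl Osh hVO m (hD m hm) V' ht)
  refine ⟨fun i hi hin => h1.1 m hm i hi hin, fun h => ?_⟩
  have h2 := h1.2 h
  exact ⟨inferInstance, h2⟩

end Groth.Agent.S8713
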