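import Groth.Statements.S8715
import Groth.Agent.SGA7.K564.TorusFactor

set_option autoImplicit false
universe u
open CategoryTheory CategoryTheory.Limits AlgebraicGeometry MonObj
open SGA7

namespace Groth.Agent.S8715

/-- Let R be a discrete valuation ring with fraction field K and closed point s, A and C commutative
group schemes over Spec R which are Néron models of their generic fibres A_K and C_K, both abelian
varieties (proper and geometrically integral over K), and u : C → A a homomorphism which is an
isogeny up to the Néron property: there are a homomorphism v : A → C and an integer n > 0 with u ∘ v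
and v ∘ u both equal to multiplication by n (for Néron models of abelian varieties this is the same
as asking the generic fibre u_K to be an isogeny, since v_K extends uniquely). Let T_A → A_s and T_C
→ C_s be maximal tori of the special fibres. Then the homomorphism u_s induced on special fibres
carries T_C into T_A through a homomorphism T_C → T_A which is an isogeny. (The companion
assertions, that u also induces isogenies on the fixed parts of the ℓ-adic Tate modules of the
generic fibres, on the ℓ-adic Tate modules of the neutral components of the special fibres, and on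
the abelian parts of the special fibres over a perfect extension of the residue field, are not
stated.) -/
theorem result (R K : Type u) [CommRing R] [IsDomain R]
    [IsDiscreteValuationRing R] [Field K] [Algebra R K] [IsFractionRing R K]
    (A C : Over (Spec (CommRingCat.of R))) [GrpObj A] [GrpObj C] [IsCommMonObj A] [IsCommMonObj C]
    (hA : SGA7.IsNeron R K A) (hC : SGA7.IsNeron R K C)
    [IsProper ((SGA7.genFib R K).obj A).hom] [GeometricallyIntegral ((SGA7.genFib R K).obj A).hom]
    [IsProper ((SGA7.genFib R K).obj C).hom] [GeometricallyIntegral ((SGA7.genFib R K).obj C).hom]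
    (u : C ⟶ A) [IsMonHom u] (v : A ⟶ C) [IsMonHom v] (n : ℕ) (hn : 0 < n)
    (huv : u ≫ v = (𝟙 C : C ⟶ C) ^ n) (hvu : v ≫ u = (𝟙 A : A ⟶ A) ^ n)
    (TA TC : Over (Spec ((Spec (CommRingCat.of R)).residueField (IsLocalRing.closedPoint R))))
    [GrpObj TA] [GrpObj TC]
    (iA : TA ⟶ Red.bc ((Spec (CommRingCat.of R)).fromSpecResidueField (IsLocalRing.closedPoint R)) A)
    (iC : TC ⟶ Red.bc ((Spec (CommRingCat.of R)).fromSpecResidueField (IsLocalRing.closedPoint R)) C)
    (hiA : Red.IsMaximalTorus iA) (hiC : Red.IsMaximalTorus iC) :
    ∃ w : TC ⟶ TA, IsMonHom w ∧ w ≫ iA = iC ≫ (Over.pullback ((Spec (CommRingCat.of R)).fromSpecResidueField (IsLocalRing.closedPoint R))).map u ∧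
      SGA7.IsIsogenyOver w := by
  let κ := (Spec (CommRingCat.of R)).residueField (IsLocalRing.closedPoint R)
  let g := (Spec (CommRingCat.of R)).fromSpecResidueField (IsLocalRing.closedPoint R)
  let s : Spec κ := IsLocalRing.closedPoint κ
  have a1 : Flat (Red.geomPt s) := inferInstance
  have a2 : Surjective (Red.geomPt s) := ⟨fun x =>
    ⟨IsLocalRing.closedPoint (AlgebraicClosure ((Spec κ).residueField s)), Subsingleton.elim _ _⟩⟩
  have a3 : QuasiCompact (Red.geomPt s) := inferInstance
  have cA : IsCommMonObj (Red.bc g A) := K564.TorusFactor.isCommMonObj_bc g A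
  have cC : IsCommMonObj (Red.bc g C) := K564.TorusFactor.isCommMonObj_bc g C
  have sA : Smooth A.hom := hA.1
  have sC : Smooth C.hom := hC.1
  have lA : LocallyOfFiniteType (Red.bc g A).hom := inferInstanceAs (LocallyOfFiniteType (pullback.snd A.hom g))
  have lC : LocallyOfFiniteType (Red.bc g C).hom := inferInstanceAs (LocallyOfFiniteType (pullback.snd C.hom g))
  have mA : IsMonHom iA := hiA.1
  have mC : IsMonHom iC := hiC.1
  have moA : Mono iA := hiA.2.1
  have moC : Mono iC := hiC.2.1
  let U : Red.bc g C ⟶ Red.bc g A := (Over.pullback g).map u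
  let V : Red.bc g A ⟶ Red.bc g C := (Over.pullback g).map v
  have hU : IsMonHom U := inferInstance
  have hV : IsMonHom V := inferInstance
  have hUV : U ≫ V = (𝟙 (Red.bc g C) : Red.bc g C ⟶ Red.bc g C) ^ n := by
    rw [← K564.TorusFactor.map_id_pow, ← huv, Functor.map_comp]
  have hVU : V ≫ U = (𝟙 (Red.bc g A) : Red.bc g A ⟶ Red.bc g A) ^ n := by
    rw [← K564.TorusFactor.map_id_pow, ← hvu, Functor.map_comp]
  obtain ⟨w, hw, hwi⟩ := K564.TorusFactor.exists_factor s iA hiA (iC ≫ U) hiC.2.2.1
  obtain ⟨w', hw', hwi'⟩ := K564.TorusFactor.exists_factor s iC hiC (iA ≫ V) hiA.2.2.1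
  refine ⟨w, hw, hwi, K564.TorusFactor.isIsogeny s hiC.2.2.1 hiA.2.2.1 w w' hn ?_ ?_⟩
  · rw [← cancel_mono iC, Category.assoc, hwi', ← Category.assoc, hwi, Category.assoc, hUV,
      MonObj.comp_pow, Category.comp_id, MonObj.pow_comp, Category.id_comp]
  · rw [← cancel_mono iA, Category.assoc, hwi, ← Category.assoc, hwi', Category.assoc, hVU,
      MonObj.comp_pow, Category.comp_id, MonObj.pow_comp, Category.id_comp]

end Groth.Agent.S8715
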