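import Groth.Statements.S8716
import Groth.Agent.SGA7.K564.CTBasic
import Groth.Agent.SGA7.K564.ExtAlg

set_option autoImplicit false
universe u
open CategoryTheory CategoryTheory.Limits MonoidalCategory CartesianMonoidalCategory MonObj AlgebraicGeometry
open SGA7

namespace Groth.Agent.S8716

open K564.ConstTors K564.ExtAlg

theorem existsUnique_mem {S T : Scheme.{u}} {Z : Type u} (f : T ⟶ ∐ (fun _ : Z => S)) (t : T) :
    ∃! z : Z, t ∈ f ⁻¹ᵁ (Sigma.ι (fun _ : Z => S) z).opensRange := by
  obtain ⟨z, y, hy⟩ := (sigmaOpenCover (fun _ : Z => S)).exists_eq (f t)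
  refine ⟨z, ⟨y, hy⟩, ?_⟩
  rintro w ⟨y', hy'⟩
  have h1 : Sigma.ι (fun _ : Z => S) w y' = Sigma.ι (fun _ : Z => S) z y := hy'.trans hy.symm
  exact congrArg Sigma.fst ((sigmaι_eq_iff (fun _ : Z => S) w z y' y).1 h1)

/-- Let k be a field, Z a commutative group without non-trivial elements of finite order, P a
commutative k-group scheme of finite type (so that its group of connected components is a finite,
hence torsion, group), G the constant k-group scheme Z_k (through the isomorphism eG), and u : G →
E, v : E → P homomorphisms of commutative k-group schemes forming a sequence 1 → G → E → P → 1 exact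
for the fppf topology. Then the extension is rigid: every automorphism of the k-group scheme E
compatible with u and v is the identity. (The published statement assumes only P locally of finite
type with torsion component group; this row takes P of finite type, the case it names.) -/
theorem result (k : Type u) [Field k]
    (Z : Type u) [CommGroup Z] (hZ : ∀ z : Z, IsOfFinOrder z → z = 1)
    (P E G : Over (Spec (CommRingCat.of k))) [GrpObj P] [GrpObj E] [GrpObj G]
    [IsCommMonObj P] [IsCommMonObj E]
    [LocallyOfFiniteType P.hom] [QuasiCompact P.hom]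
    (eG : G ≅ TwC.const (Spec (CommRingCat.of k)) Z) (hG : TwC.IsConstGrp Z G eG)
    (u : G ⟶ E) (v : E ⟶ P) (hex : NonAbH1.IsExactSeq Scheme.fppfPrecoverage u v)
    (φ : E ≅ E) [IsMonHom φ.hom] (hφu : u ≫ φ.hom = u) (hφv : φ.hom ≫ v = v) :
    φ.hom = 𝟙 E := by
  obtain ⟨hu, hv, huv, hpb, hloc⟩ := hex
  let c := ofExt hG u v huv hpb
  obtain ⟨het, hsurj⟩ := c.etale_surjective hloc
  have hmono : Mono u := mono_of_pb u v hpb
  have h1E : IsMonHom ((𝟙 E)⁻¹ : E ⟶ E) := isMonHom_inv _
  have hδ : IsMonHom (φ.hom * (𝟙 E)⁻¹ : E ⟶ E) := isMonHom_mul _ _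
  set δ : E ⟶ E := φ.hom * (𝟙 E)⁻¹ with hδdef
  have hδv : δ ≫ v = 1 := by
    rw [hδdef, MonObj.mul_comp, GrpObj.inv_comp, Category.id_comp, hφv, mul_inv_cancel]
  have huδ : u ≫ δ = 1 := by
    rw [hδdef, MonObj.comp_mul, GrpObj.comp_inv, Category.comp_id, hφu, mul_inv_cancel]
  obtain ⟨h, hh⟩ := exists_lift_of_pb u v hpb δ hδv
  have hhom : IsMonHom h := by
    constructor
    · rw [← cancel_mono u, Category.assoc, hh, IsMonHom.one_hom δ, IsMonHom.one_hom u]
    · rw [← cancel_mono u, Category.assoc, hh, IsMonHom.mul_hom δ, Category.assoc, IsMonHom.mul_hom u,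
        ← Category.assoc, tensorHom_comp_tensorHom, hh]
  have huh : u ≫ h = 1 := by
    rw [← cancel_mono u, Category.assoc, hh, huδ, one_comp]
  -- the decomposition
  let V : Z → E.left.Opens := fun z =>
    (h.left ≫ eG.hom.left) ⁻¹ᵁ (Sigma.ι (fun _ : Z => Spec (CommRingCat.of k)) z).opensRange
  have hV : ∀ e : E.left, ∃! z, e ∈ V z := existsUnique_mem _
  -- invariance
  have hinv : ∀ (w : Z) (e : E.left) (z : Z), e ∈ V z → c.ρ w e ∈ V z := by
    intro w e z he
    have h1 : ((𝟙 E) * (toUnit E ≫ cpt eG w ≫ u)⁻¹) ≫ h = h := by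
      rw [MonObj.mul_comp, Category.id_comp, GrpObj.inv_comp, Category.assoc, Category.assoc, huh,
        comp_one, comp_one, inv_one, _root_.mul_one]
    have h2 : c.ρ w ≫ h.left = h.left := congrArg (fun f => f.left) h1
    change (h.left ≫ eG.hom.left) (c.ρ w e) ∈ (Sigma.ι (fun _ : Z => Spec (CommRingCat.of k)) z).opensRange
    rw [← Scheme.Hom.comp_apply, reassoc_of% h2]
    exact he
  -- finiteness
  have hcpt : CompactSpace ↥P.left := QuasiCompact.compactSpace_of_compactSpace P.hom
  have hopen : ∀ z, IsOpen (v.left '' (V z : Set E.left)) := fun z => v.left.isOpenMap _ (V z).2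
  have hcov : (Set.univ : Set P.left) ⊆ ⋃ z, v.left '' (V z : Set E.left) := by
    intro p _
    obtain ⟨e, rfl⟩ := v.left.surjective p
    obtain ⟨z, hz, -⟩ := hV e
    exact Set.mem_iUnion.2 ⟨z, e, hz, rfl⟩
  obtain ⟨I, hI⟩ := isCompact_univ.elim_finite_subcover _ hopen hcov
  have hfin : {z : Z | ∃ e : E.left, e ∈ V z}.Finite := by
    refine (Finset.finite_toSet I).subset ?_
    rintro z ⟨e, he⟩
    obtain ⟨i, hi⟩ := Set.mem_iUnion.1 (hI (Set.mem_univ (v.left e)))
    obtain ⟨hiI, e', he', hee'⟩ := Set.mem_iUnion.1 hi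
    obtain ⟨w, hw⟩ := c.exists_ρ_eq hee'
    have h1 := hinv w e' i he'
    rw [hw] at h1
    rw [(hV e).unique he h1]
    exact hiI
  -- powers
  have hpow : ∀ (e : E.left) (z : Z), e ∈ V z → ∀ n : ℕ, ∃ e' : E.left, e' ∈ V (z ^ n) := by
    intro e z he n
    let κ := E.left.residueField e
    let T : Over (Spec (CommRingCat.of k)) := Over.mk (E.left.fromSpecResidueField e ≫ E.hom)
    let x : T ⟶ E := Over.homMk (E.left.fromSpecResidueField e) rfl
    have hx0 : ∀ t : T.left, x.left t = e := fun t => by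
      have : E.left.fromSpecResidueField e t = e := by
        have h1 : E.left.fromSpecResidueField e t ∈ Set.range (E.left.fromSpecResidueField e) := ⟨t, rfl⟩
        rw [Scheme.range_fromSpecResidueField] at h1
        exact h1
      exact this
    obtain ⟨W, hW1, hW2⟩ := const_dec (eG := eG) (x ≫ h)
    obtain ⟨t⟩ : Nonempty T.left := inferInstanceAs (Nonempty (Spec κ))
    obtain ⟨w, hw, -⟩ := hW1 t
    have hWtop : W w = ⊤ := by
      rw [eq_top_iff]
      intro t' _
      have : Subsingleton T.left := inferInstanceAs (Subsingleton (Spec κ))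
      rw [Subsingleton.elim t' t]; exact hw
    have hxh : x ≫ h = toUnit T ≫ cpt eG w := by
      apply Over.OverMorphism.ext
      have hι : IsIso (W w).ι := by
        rw [hWtop]; exact inferInstanceAs (IsIso (Scheme.topIso _).hom)
      rw [← cancel_epi (W w).ι, hW2 w]
    -- value at points
    have key : ∀ (y : T ⟶ E) (z' : Z), y ≫ h = toUnit T ≫ cpt eG z' → y.left t ∈ V z' := by
      intro y z' hy
      change (h.left ≫ eG.hom.left) (y.left t) ∈ (Sigma.ι (fun _ : Z => Spec (CommRingCat.of k)) z').opensRange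
      rw [← Scheme.Hom.comp_apply]
      have h1 : y.left ≫ h.left ≫ eG.hom.left = T.hom ≫ Sigma.ι (fun _ : Z => Spec (CommRingCat.of k)) z' := by
        rw [← Category.assoc, ← Over.comp_left, hy, Over.comp_left, Category.assoc, cpt_left_hom,
          Over.toUnit_left]
      rw [h1]
      exact ⟨T.hom t, rfl⟩
    have hwz : w = z := by
      refine (hV e).unique ?_ he
      have h1 := key x w hxh
      rw [hx0] at h1
      exact h1
    subst hwz
    have hpow' : (x ^ n) ≫ h = toUnit T ≫ cpt eG (w ^ n) := by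
      induction n with
      | zero => rw [pow_zero, pow_zero, cpt_one hG, one_comp, comp_one]
      | succ n ih =>
        rw [pow_succ, pow_succ, MonObj.mul_comp, ih, hxh, cpt_mul hG, comp_mul]
    exact ⟨_, key (x ^ n) (w ^ n) hpow'⟩
  -- conclusion
  have hV1 : V 1 = ⊤ := by
    rw [eq_top_iff]
    intro e _
    obtain ⟨z, hz, -⟩ := hV e
    have hz1 : z = 1 := by
      apply hZ
      rw [← finite_powers]
      refine hfin.subset ?_
      rintro _ ⟨n, rfl⟩
      exact hpow e z hz n
    rw [← hz1]; exact hz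
  have hh1 : h = 1 := by
    obtain ⟨W, hW1, hW2⟩ := const_dec (eG := eG) h
    have hWtop : W 1 = ⊤ := by
      rw [eq_top_iff]
      intro e _
      obtain ⟨w, hw, -⟩ := hW1 e
      have hwV : e ∈ V w := by
        have h1 : h.left e = (toUnit E ≫ cpt eG w).left e := congrArg (fun f => f ⟨e, hw⟩) (hW2 w)
        change (h.left ≫ eG.hom.left) e ∈ (Sigma.ι (fun _ : Z => Spec (CommRingCat.of k)) w).opensRange
        rw [Scheme.Hom.comp_apply, h1, ← Scheme.Hom.comp_apply, Over.comp_left, Category.assoc, cpt_left_hom]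
        exact ⟨_, rfl⟩
      have h2 : e ∈ V 1 := by rw [hV1]; trivial
      rw [(hV e).unique h2 hwV]; exact hw
    apply Over.OverMorphism.ext
    have hι : IsIso (W 1).ι := by
      rw [hWtop]; exact inferInstanceAs (IsIso (Scheme.topIso _).hom)
    rw [← cancel_epi (W 1).ι, hW2 1, cpt_one hG, comp_one]
  have hδ1 : δ = 1 := by rw [← hh, hh1, one_comp]
  rw [hδdef, mul_inv_eq_one] at hδ1
  exact hδ1

end Groth.Agent.S8716
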