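import Groth.Statements.S8717
import Groth.Agent.SGA7.K565.ConstPts
import Groth.Agent.SGA7.K565.GenConst
import Groth.Agent.SGA7.K565.SplitExact
import Groth.Agent.SGA7.K564.GrpGeneric

set_option autoImplicit false
universe u
open CategoryTheory CategoryTheory.Limits MonoidalCategory CartesianMonoidalCategory MonObj AlgebraicGeometry
open SGA7

namespace Groth.Agent.S8717

open K565

theorem smooth_const {S : Scheme.{u}} {Z : Type u} {G : Over S} (eG : G ≅ TwC.const S Z) : Smooth G.hom := by
  have h1 : Smooth (TwC.const S Z).hom := by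
    change Smooth (Sigma.desc fun _ : Z => 𝟙 S)
    rw [IsZariskiLocalAtSource.iff_of_openCover (P := @Smooth) (sigmaOpenCover (fun _ : Z => S))]
    intro z
    change Smooth (Sigma.ι (fun _ : Z => S) z ≫ Sigma.desc fun _ : Z => 𝟙 S)
    rw [Sigma.ι_desc]
    infer_instance
  rw [← Over.w eG.hom]
  infer_instance

instance smooth_tensor {S : Scheme.{u}} (A B : Over S) [Smooth A.hom] [Smooth B.hom] : Smooth (A ⊗ B).hom := by
  change Smooth (pullback.fst A.hom B.hom ≫ A.hom)
  infer_instance

/-- Let S be an irreducible scheme all of whose local rings are geometrically unibranch, ξ its generic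
point and i : Spec κ(ξ) → S the canonical morphism, Z a group without non-trivial elements of finite
order, G the constant S-group scheme Z_S (through eG), P a smooth S-group scheme, and u' : G_η → E',
v' : E' → P_η homomorphisms of group schemes over κ(ξ) forming a sequence 1 → G_η → E' → P_η → 1
exact for the fppf topology (G_η = G ×_S Spec κ(ξ), P_η likewise). Then the extension comes from S:
there are an S-group scheme E, homomorphisms u : G → E, v : E → P forming a sequence exact for the
fppf topology, and an isomorphism of group schemes E_η ≅ E' carrying u_η to u' and v_η to v'. (The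
published statement asserts that E ↦ E_η is an equivalence of categories of extensions; only
essential surjectivity is stated.) -/
theorem result (S : Scheme.{u}) [IrreducibleSpace ↥S]
    (hS : ∀ s : ↥S, CAlg2.IsGeomUnibranch ↑(S.presheaf.stalk s))
    (ξ : ↥S) (hξ : IsGenericPoint ξ (Set.univ : Set ↥S))
    (Z : Type u) [Group Z] (hZ : ∀ z : Z, IsOfFinOrder z → z = 1)
    (G P : Over S) [GrpObj G] [GrpObj P] (eG : G ≅ TwC.const S Z) (hG : TwC.IsConstGrp Z G eG) [Smooth P.hom]
    (E' : Over (Spec (S.residueField ξ))) [GrpObj E']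
    (u' : Red.bc (S.fromSpecResidueField ξ) G ⟶ E') (v' : E' ⟶ Red.bc (S.fromSpecResidueField ξ) P)
    (hex' : NonAbH1.IsExactSeq Scheme.fppfPrecoverage u' v') :
    ∃ (E : Over S) (_ : GrpObj E) (u : G ⟶ E) (v : E ⟶ P)
      (φ : Red.bc (S.fromSpecResidueField ξ) E ≅ E'),
      NonAbH1.IsExactSeq Scheme.fppfPrecoverage u v ∧ IsMonHom φ.hom ∧
        (Over.pullback (S.fromSpecResidueField ξ)).map u ≫ φ.hom = u' ∧
        φ.hom ≫ v' = (Over.pullback (S.fromSpecResidueField ξ)).map v := by
  have hGs : Smooth G.hom := smooth_const eG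
  let i := S.fromSpecResidueField ξ
  let F := Over.pullback i
  obtain ⟨hu', hv', huv', hpb', hloc'⟩ := id hex'
  let c := ((ConstPts.ofConst hG).bc i).toCT u' v' huv' hpb'
  obtain ⟨het, hsurj⟩ := c.etale_surjective hloc'
  have hPs : Smooth (Red.bc (S.fromSpecResidueField ξ) P).hom :=
    inferInstanceAs (Smooth (pullback.snd P.hom (S.fromSpecResidueField ξ)))
  have : LocallyOfFiniteType E'.hom := by rw [← Over.w v']; infer_instance
  obtain ⟨s0, hs0⟩ := K564.GrpGeneric.exists_section_of_grp (k := S.residueField ξ) v' c hZ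
  let s' : F.obj P ⟶ E' := Over.homMk s0 (by
    rw [← Over.w v', ← Category.assoc, hs0, Category.id_comp])
  obtain ⟨s, hs⟩ := SplitExact.exists_split hex' s' (Over.OverMorphism.ext hs0)
  have hinj : ∀ (T : Over S) [Smooth T.hom], TwistExt.Inj F T G := by
    intro T _ x y hxy
    apply GenConst.ext eG hS hξ T
    have h1 : ∀ x : T ⟶ G, GenConst.j ξ T ≫ x.left = (F.map x).left ≫ pullback.fst G.hom i := fun x =>
      (pullback.lift_fst _ _ _).symm
    rw [h1, h1, hxy]
  have hsur : ∀ (T : Over S) [Smooth T.hom] (x : F.obj T ⟶ F.obj G), ∃ y, F.map y = x := by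
    intro T _ x
    obtain ⟨y, hy⟩ := GenConst.exists_ext eG hS hξ T (Over.homMk (x.left ≫ pullback.fst G.hom i) (by
      have h1 : x.left ≫ pullback.snd G.hom i = pullback.snd T.hom i := Over.w x
      change (x.left ≫ pullback.fst G.hom i) ≫ G.hom = pullback.fst T.hom i ≫ T.hom
      rw [Category.assoc, pullback.condition, ← Category.assoc, h1, pullback.condition]))
    refine ⟨y, Over.OverMorphism.ext ?_⟩
    apply pullback.hom_ext
    · exact (pullback.lift_fst _ _ _).trans hy
    · exact (Over.w (F.map y)).trans (Over.w x).symm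
  obtain ⟨E, hE, u, v, σ, φ, hu, hv, hσ, hφ, h1, h2⟩ := TwistExt.exists_extension F u' v' s hs (hsur _) (hsur _)
    (hinj _) (hinj _) (hinj _) (hinj _) (hinj _)
  exact ⟨E, hE, u, v, φ, SplitExact.isExactSeq_of_split hσ, hφ, h1, h2⟩

end Groth.Agent.S8717
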