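import Groth.Statements.S8719
import Groth.Agent.Vancyc.H678.P2Lin
import Mathlib.RingTheory.Nakayama
import Mathlib.LinearAlgebra.Matrix.NonsingularInverse

set_option autoImplicit false
universe u
open VanCyc

namespace Groth.Agent.S8719

open MvPowerSeries Finsupp Matrix Groth.Agent.Ega41.MvPS Groth.Agent.Vancyc.H678.P2Lin

theorem coeff_pderiv_eq {K : Type u} [Field K] {N : ℕ} (f : MvPowerSeries (Fin N) K)
    (i l : Fin N) : MvPowerSeries.coeff (Finsupp.single l 1) (MvPowerSeries.pderiv K i f) =
      polarMatrix (quadPart f) i l := by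
  rw [MvPowerSeries.coeff_pderiv]
  unfold polarMatrix
  by_cases h : i = l
  · subst h
    rw [if_pos rfl, ← Finsupp.single_add]
    simp only [quadPart, if_true, Finsupp.single_eq_same, Nat.cast_one]
    norm_num
    rw [mul_comm]
  · rw [if_neg h, Finsupp.single_eq_of_ne h, Nat.cast_zero, zero_add, mul_one]
    split_ifs with h2
    · simp only [quadPart, if_neg h, if_pos h2]
      rw [add_comm]
    · have h3 : l < i := lt_of_le_of_ne (not_lt.1 h2) (Ne.symm h)
      simp only [quadPart, if_neg (Ne.symm h), if_pos h3]

/-- The formal computation carried out in its proof: let k be a field and f a power series in k[[x_0,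
..., x_n]] with vanishing constant and linear terms whose degree-two part is a non-degenerate
quadratic form (the Gram determinant of its polar bilinear form is a unit). Then the partial
derivatives of f generate the maximal ideal of k[[x_0, ..., x_n]] (so f together with its partial
derivatives cut out the origin with multiplicity one). -/
theorem result (k : Type u) [Field k] (n : ℕ)
    (f : MvPowerSeries (Fin (n + 1)) k) (hf : VanCyc.NondegQuadSeries f) :
    Ideal.span (Set.range fun i : Fin (n + 1) => MvPowerSeries.pderiv k i f) =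
      IsLocalRing.maximalIdeal (MvPowerSeries (Fin (n + 1)) k) := by
  classical
  obtain ⟨hlow, hdet⟩ := hf
  set P := polarMatrix (quadPart f) with hP
  have h0 : ∀ i, constantCoeff (pderiv k i f) = 0 := fun i => by
    rw [← coeff_zero_eq_constantCoeff_apply, coeff_pderiv, zero_add, hlow.2, zero_mul]
  have hlin : ∀ i, pderiv k i f - ∑ l, C (P i l) * X l ∈ varIdeal (Fin (n + 1)) k ^ 2 := by
    intro i
    rw [← noLowTerms_iff]
    refine ⟨?_, fun j => ?_⟩
    · rw [map_sub, h0, map_sum]
      simp
    · rw [map_sub, coeff_pderiv_eq, map_sum, Finset.sum_eq_single j]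
      · rw [coeff_single_mul_X, if_pos rfl, constantCoeff_C, hP, sub_self]
      · intro b _ hb
        rw [coeff_single_mul_X, if_neg hb]
      · intro h; exact absurd (Finset.mem_univ _) h
  apply le_antisymm
  · rw [Ideal.span_le]
    rintro _ ⟨i, rfl⟩
    rw [maximalIdeal_eq]
    exact mem_varIdeal_iff.2 (h0 i)
  · refine Submodule.le_of_le_smul_of_le_jacobson_bot (I := IsLocalRing.maximalIdeal _)
      ?_ (IsLocalRing.maximalIdeal_le_jacobson _) ?_
    · rw [maximalIdeal_eq]; exact varIdeal_fg
    · rw [maximalIdeal_eq, smul_eq_mul, ← pow_two]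
      change Ideal.span (Set.range X) ≤ _
      rw [Ideal.span_le]
      rintro _ ⟨l, rfl⟩
      have h1 : (X l : MvPowerSeries (Fin (n + 1)) k) =
          ∑ i, C (P⁻¹ l i) * pderiv k i f -
          ∑ i, C (P⁻¹ l i) * (pderiv k i f - ∑ m, C (P i m) * X m) := by
        have h2 : ∑ i, C (P⁻¹ l i) * (pderiv k i f - ∑ m, C (P i m) * X m) =
            ∑ i, C (P⁻¹ l i) * pderiv k i f -
              ∑ i, C (P⁻¹ l i) * ∑ m, C (P i m) * (X m : MvPowerSeries (Fin (n + 1)) k) := by
          rw [← Finset.sum_sub_distrib]
          exact Finset.sum_congr rfl fun i _ => mul_sub _ _ _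
        have h3 : ∑ i, C (P⁻¹ l i) * ∑ m, C (P i m) * (X m : MvPowerSeries (Fin (n + 1)) k) =
            X l := by
          simp only [Finset.mul_sum, ← mul_assoc, ← map_mul]
          rw [Finset.sum_comm]
          simp only [← Finset.sum_mul, ← map_sum]
          have h4 : ∀ m, ∑ i, P⁻¹ l i * P i m = (1 : Matrix _ _ k) l m := by
            intro m
            rw [← Matrix.nonsing_inv_mul P hdet]
            rfl
          simp only [h4, Matrix.one_apply]
          rw [Finset.sum_eq_single l]
          · simp
          · intro b _ hb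
            rw [if_neg (Ne.symm hb)]; simp
          · intro h; exact absurd (Finset.mem_univ _) h
        rw [h2, h3]; ring
      rw [h1]
      refine Ideal.sub_mem _ (Submodule.mem_sup_left ?_) (Submodule.mem_sup_right ?_)
      · exact Ideal.sum_mem _ fun i _ => Ideal.mul_mem_left _ _ (Ideal.subset_span ⟨i, rfl⟩)
      · exact Ideal.sum_mem _ fun i _ => Ideal.mul_mem_left _ _ (hlin i)

end Groth.Agent.S8719
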