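import Groth.Statements.S8720
import Groth.Agent.VanCyc.K4.Ser
import Mathlib.RingTheory.Nakayama
import Mathlib.LinearAlgebra.FiniteDimensional.Basic
import Mathlib.LinearAlgebra.Dimension.Constructions

set_option autoImplicit false
universe u
open VanCyc

namespace Groth.Agent.S8720

open MvPowerSeries Groth.Agent.Ega41.MvPS K4.Ser

section

variable (k : Type u) [Field k] (m : ℕ)

/-- The ideal generated by `x_0 ^ 2` and the other variables. -/
noncomputable abbrev II : Ideal (MvPowerSeries (Option (Fin m ⊕ Fin m)) k) :=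
  Ideal.span ({MvPowerSeries.X none ^ 2} ∪
        Set.range fun j : Fin m ⊕ Fin m => (MvPowerSeries.X (some j) : MvPowerSeries (Option (Fin m ⊕ Fin m)) k))

theorem X0_mem : (X none ^ 2 : MvPowerSeries (Option (Fin m ⊕ Fin m)) k) ∈ II k m :=
  Ideal.subset_span (Or.inl rfl)

theorem Xs_mem (j : Fin m ⊕ Fin m) :
    (X (some j) : MvPowerSeries (Option (Fin m ⊕ Fin m)) k) ∈ II k m :=
  Ideal.subset_span (Or.inr ⟨j, rfl⟩)

theorem mem_II_iff (g : MvPowerSeries (Option (Fin m ⊕ Fin m)) k) :
    g ∈ II k m ↔ constantCoeff g = 0 ∧ coeff (Finsupp.single none 1) g = 0 := by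
  classical
  constructor
  · intro hg
    refine Submodule.span_induction (p := fun g _ => constantCoeff g = 0 ∧
      coeff (Finsupp.single none 1) g = 0) ?_ ?_ ?_ ?_ hg
    · rintro _ (h | ⟨j, rfl⟩)
      · rw [Set.mem_singleton_iff] at h
        subst h
        refine ⟨by simp, ?_⟩
        rw [pow_two, coeff_single_mul]
        simp
      · refine ⟨by simp, ?_⟩
        rw [coeff_X, if_neg]
        intro h
        rw [Finsupp.single_left_inj one_ne_zero] at h
        exact absurd h (by simp)
    · simp
    · intro x y _ _ hx hy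
      exact ⟨by rw [map_add, hx.1, hy.1, add_zero], by rw [map_add, hx.2, hy.2, add_zero]⟩
    · intro a x _ hx
      refine ⟨by rw [smul_eq_mul, map_mul, hx.1, mul_zero], ?_⟩
      rw [smul_eq_mul, coeff_single_mul, hx.1, hx.2, mul_zero, mul_zero, add_zero]
  · rintro ⟨h0, h1⟩
    have h2 := mem_varIdeal_iff.2 h0
    rw [varIdeal, Ideal.mem_span_range_iff_exists_fun] at h2
    obtain ⟨c, hc⟩ := h2
    rw [Fintype.sum_option] at hc
    have h3 : coeff (Finsupp.single none 1) (∑ i, c (some i) * X (some i)) = 0 := by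
      rw [map_sum]
      refine Finset.sum_eq_zero fun i _ => ?_
      rw [coeff_mul_X_single, if_neg (by simp)]
    have h4 : constantCoeff (c none) = 0 := by
      rw [← hc, map_add, h3, add_zero, coeff_mul_X_single, if_pos rfl] at h1
      exact h1
    have h5 := mem_varIdeal_iff.2 h4
    rw [varIdeal, Ideal.mem_span_range_iff_exists_fun] at h5
    obtain ⟨d, hd⟩ := h5
    rw [Fintype.sum_option] at hd
    rw [← hc, ← hd]
    refine Ideal.add_mem _ ?_ (Ideal.sum_mem _ fun i _ => Ideal.mul_mem_left _ _ (Xs_mem k m i))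
    rw [add_mul]
    refine Ideal.add_mem _ ?_ (Ideal.mul_mem_right _ _
      (Ideal.sum_mem _ fun i _ => Ideal.mul_mem_left _ _ (Xs_mem k m i)))
    rw [mul_assoc, ← pow_two]
    exact Ideal.mul_mem_left _ _ (X0_mem k m)

theorem sq_le : varIdeal (Option (Fin m ⊕ Fin m)) k ^ 2 ≤ II k m := by
  intro g hg
  rw [mem_varIdeal_pow_iff] at hg
  rw [mem_II_iff]
  exact ⟨by simpa using hg 0 (by simp), hg _ (by simp)⟩

theorem sq_le' : varIdeal (Option (Fin m ⊕ Fin m)) k ^ 2 ≤
    Ideal.span {X none ^ 2} ⊔ varIdeal (Option (Fin m ⊕ Fin m)) k * II k m := by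
  rw [pow_two, Ideal.mul_le]
  intro r hr s hs
  rw [varIdeal, Ideal.mem_span_range_iff_exists_fun] at hs
  obtain ⟨c, rfl⟩ := hs
  rw [Fintype.sum_option, mul_add]
  refine Ideal.add_mem _ ?_ (Submodule.mem_sup_right (Ideal.mul_mem_mul hr
    (Ideal.sum_mem _ fun i _ => Ideal.mul_mem_left _ _ (Xs_mem k m i))))
  rw [varIdeal, Ideal.mem_span_range_iff_exists_fun] at hr
  obtain ⟨d, rfl⟩ := hr
  rw [Fintype.sum_option, add_mul]
  refine Ideal.add_mem _ (Submodule.mem_sup_left ?_) (Submodule.mem_sup_right ?_)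
  · have : d none * X none * (c none * X none) = (d none * c none) * X none ^ 2 := by ring
    rw [this]
    exact Ideal.mul_mem_left _ _ (Ideal.subset_span rfl)
  · rw [mul_comm (∑ i, d (some i) * X (some i))]
    exact Ideal.mul_mem_mul (Ideal.mul_mem_left _ _ (Ideal.subset_span ⟨none, rfl⟩))
      (Ideal.sum_mem _ fun i _ => Ideal.mul_mem_left _ _ (Xs_mem k m i))

theorem finrank_quot : Module.finrank k (MvPowerSeries (Option (Fin m ⊕ Fin m)) k ⧸ II k m) = 2 := by
  classical
  let φ : MvPowerSeries (Option (Fin m ⊕ Fin m)) k →ₗ[k] k × k :=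
    (coeff 0).prod (coeff (Finsupp.single none 1))
  have hφ : ∀ g, φ g = 0 ↔ g ∈ II k m := by
    intro g
    rw [mem_II_iff]
    change (coeff 0 g, coeff (Finsupp.single none 1) g) = 0 ↔ _
    rw [Prod.mk_eq_zero, coeff_zero_eq_constantCoeff_apply]
  have hφs : Function.Surjective φ := by
    rintro ⟨a, b⟩
    refine ⟨C a + C b * X none, ?_⟩
    change (coeff 0 _, coeff (Finsupp.single none 1) _) = _
    rw [coeff_zero_eq_constantCoeff_apply, map_add, map_add, coeff_mul_X_single, if_pos rfl]
    have : coeff (Finsupp.single (none : Option (Fin m ⊕ Fin m)) 1) (C a) = 0 := by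
      rw [coeff_C, if_neg]
      exact fun h => by simpa using DFunLike.congr_fun h none
    rw [this]
    simp
  let π : MvPowerSeries (Option (Fin m ⊕ Fin m)) k →ₗ[k]
      (MvPowerSeries (Option (Fin m ⊕ Fin m)) k ⧸ II k m) :=
    (Ideal.Quotient.mkₐ k (II k m)).toLinearMap
  have hπs : Function.Surjective π := Ideal.Quotient.mkₐ_surjective k (II k m)
  have hk : LinearMap.ker π = LinearMap.ker φ := by
    ext g
    rw [LinearMap.mem_ker, LinearMap.mem_ker, hφ]
    exact Ideal.Quotient.eq_zero_iff_mem
  rw [← (π.quotKerEquivOfSurjective hπs).finrank_eq, hk,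
    (φ.quotKerEquivOfSurjective hφs).finrank_eq, Module.finrank_prod, Module.finrank_self]

end

/-- The formal computation carried out in its proof: let k be a field of characteristic 2, m a natural
number, and f a power series over k in the variables x_0 and x_i, x_i' (i = 1, ..., m) whose terms
of degree less than 3 are exactly those of x_0^2 + x_1 x_1' + ... + x_m x_m'. Then the ideal
generated by f and all its partial derivatives is the ideal generated by x_0^2 and the x_i, x_i',
and the quotient of the power series ring by this ideal is two-dimensional over k. (Characteristic 2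
is what makes the derivative in x_0 lose its linear term.) -/
theorem result (k : Type u) [Field k] [CharP k 2] (m : ℕ)
    (f : MvPowerSeries (Option (Fin m ⊕ Fin m)) k)
    (hf : ∀ d : Option (Fin m ⊕ Fin m) →₀ ℕ, d.degree < 3 →
      MvPowerSeries.coeff d f = MvPowerSeries.coeff d
        (MvPowerSeries.X none ^ 2 +
          ∑ i : Fin m, MvPowerSeries.X (some (Sum.inl i)) * MvPowerSeries.X (some (Sum.inr i)))) :
    Ideal.span ({f} ∪ Set.range fun i : Option (Fin m ⊕ Fin m) => MvPowerSeries.pderiv k i f) =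
      Ideal.span ({MvPowerSeries.X none ^ 2} ∪
        Set.range fun j : Fin m ⊕ Fin m => (MvPowerSeries.X (some j) : MvPowerSeries (Option (Fin m ⊕ Fin m)) k)) ∧
    Module.finrank k (MvPowerSeries (Option (Fin m ⊕ Fin m)) k ⧸
      Ideal.span ({MvPowerSeries.X none ^ 2} ∪
        Set.range fun j : Fin m ⊕ Fin m => (MvPowerSeries.X (some j) : MvPowerSeries (Option (Fin m ⊕ Fin m)) k))) = 2 := by
  classical
  refine ⟨?_, finrank_quot k m⟩
  let Q : MvPowerSeries (Option (Fin m ⊕ Fin m)) k := X none ^ 2 +
    ∑ i : Fin m, X (some (Sum.inl i)) * X (some (Sum.inr i))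
  let σ : Fin m ⊕ Fin m → Fin m ⊕ Fin m := Sum.swap
  have hfQ : f - Q ∈ varIdeal (Option (Fin m ⊕ Fin m)) k ^ 3 := by
    rw [mem_varIdeal_pow_iff]
    intro d hd
    rw [map_sub, hf d hd, sub_self]
  have h2 : (2 : MvPowerSeries (Option (Fin m ⊕ Fin m)) k) = 0 := by
    have : (2 : k) = 0 := CharP.cast_eq_zero k 2
    have h3 : (2 : MvPowerSeries (Option (Fin m ⊕ Fin m)) k) = C (2 : k) := by
      rw [map_ofNat]
    rw [h3, this, map_zero]
  have hdm : ∀ i, pderiv k i (f - Q) ∈ varIdeal (Option (Fin m ⊕ Fin m)) k ^ 2 := by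
    intro i
    rw [mem_varIdeal_pow_iff]
    intro d hd
    rw [mem_varIdeal_pow_iff] at hfQ
    rw [coeff_pderiv, hfQ _ (by rw [map_add, Finsupp.degree_single]; omega), zero_mul]
  have hQ0 : pderiv k none Q = 0 := by
    simp only [Q, map_add, map_sum, Derivation.leibniz, pderiv_pow, smul_eq_mul]
    rw [Finset.sum_eq_zero]
    · simp [h2]
    · intro i _
      rw [pderiv_X_of_ne (by simp), pderiv_X_of_ne (by simp)]
      simp
  have hQl : ∀ j, pderiv k (some (Sum.inl j)) Q = X (some (Sum.inr j)) := by
    intro j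
    simp only [Q, map_add, map_sum, Derivation.leibniz, pderiv_pow, smul_eq_mul]
    rw [pderiv_X_of_ne (by simp), Finset.sum_eq_single j]
    · rw [pderiv_X_of_ne (by simp), pderiv_X_self]
      simp
    · intro i _ hi
      rw [pderiv_X_of_ne (by simp), pderiv_X_of_ne (by simpa using hi)]
      simp
    · intro h; exact absurd (Finset.mem_univ _) h
  have hQr : ∀ j, pderiv k (some (Sum.inr j)) Q = X (some (Sum.inl j)) := by
    intro j
    simp only [Q, map_add, map_sum, Derivation.leibniz, pderiv_pow, smul_eq_mul]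
    rw [pderiv_X_of_ne (by simp), Finset.sum_eq_single j]
    · rw [pderiv_X_self, pderiv_X_of_ne (by simp)]
      simp
    · intro i _ hi
      rw [pderiv_X_of_ne (i := some (Sum.inr j)) (j := some (Sum.inr i)) (by simpa using hi),
        pderiv_X_of_ne (by simp)]
      simp
    · intro h; exact absurd (Finset.mem_univ _) h
  have hfm : ∀ i, pderiv k i f = pderiv k i (f - Q) + pderiv k i Q := by
    intro i
    rw [map_sub]; ring
  have hQI : Q ∈ II k m := Ideal.add_mem _ (X0_mem k m)
    (Ideal.sum_mem _ fun i _ => Ideal.mul_mem_left _ _ (Xs_mem k m _))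
  have hle32 : varIdeal (Option (Fin m ⊕ Fin m)) k ^ 3 ≤ varIdeal (Option (Fin m ⊕ Fin m)) k ^ 2 :=
    Ideal.pow_le_pow_right (by norm_num)
  apply le_antisymm
  · rw [Ideal.span_le]
    rintro _ (h | ⟨i, rfl⟩)
    · rw [Set.mem_singleton_iff] at h
      rw [h]
      have : f = (f - Q) + Q := by ring
      rw [this]
      exact Ideal.add_mem _ (sq_le k m (hle32 hfQ)) hQI
    · change pderiv k i f ∈ II k m
      rw [hfm]
      refine Ideal.add_mem _ (sq_le k m (hdm i)) ?_
      rcases i with _ | j | j
      · rw [hQ0]; exact Ideal.zero_mem _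
      · rw [hQl]; exact Xs_mem k m _
      · rw [hQr]; exact Xs_mem k m _
  · refine Submodule.le_of_le_smul_of_le_jacobson_bot (I := IsLocalRing.maximalIdeal _)
      ?_ (IsLocalRing.maximalIdeal_le_jacobson _) ?_
    · exact Submodule.fg_span ((Set.finite_singleton _).union (Set.finite_range _))
    · rw [maximalIdeal_eq, smul_eq_mul]
      set J := Ideal.span ({f} ∪ Set.range fun i : Option (Fin m ⊕ Fin m) => pderiv k i f) with hJ
      have hX0 : (X none ^ 2 : MvPowerSeries (Option (Fin m ⊕ Fin m)) k) ∈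
          J ⊔ varIdeal (Option (Fin m ⊕ Fin m)) k * II k m := by
        have : (X none ^ 2 : MvPowerSeries (Option (Fin m ⊕ Fin m)) k) =
            f - ((f - Q) + ∑ i : Fin m, X (some (Sum.inl i)) * X (some (Sum.inr i))) := by
          simp only [Q]; ring
        rw [this]
        refine Ideal.sub_mem _ (Submodule.mem_sup_left (Ideal.subset_span (Or.inl rfl)))
          (Submodule.mem_sup_right (Ideal.add_mem _ ?_ ?_))
        · have h3 : varIdeal (Option (Fin m ⊕ Fin m)) k ^ 3 ≤
              varIdeal (Option (Fin m ⊕ Fin m)) k * II k m := by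
            rw [pow_succ']
            exact Ideal.mul_mono_right (sq_le k m)
          exact h3 hfQ
        · exact Ideal.sum_mem _ fun i _ => Ideal.mul_mem_mul (Ideal.subset_span ⟨_, rfl⟩)
            (Xs_mem k m _)
      have hsq : varIdeal (Option (Fin m ⊕ Fin m)) k ^ 2 ≤
          J ⊔ varIdeal (Option (Fin m ⊕ Fin m)) k * II k m := by
        refine (sq_le' k m).trans (sup_le ?_ le_sup_right)
        rw [Ideal.span_singleton_le_iff_mem]
        exact hX0
      rw [Ideal.span_le]
      rintro _ (h | ⟨j, rfl⟩)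
      · rw [Set.mem_singleton_iff] at h
        subst h
        exact hX0
      · change X (some j) ∈ J ⊔ varIdeal (Option (Fin m ⊕ Fin m)) k * II k m
        rcases j with j | j
        · rw [← hQr, show pderiv k (some (Sum.inr j)) Q = pderiv k (some (Sum.inr j)) f -
            pderiv k (some (Sum.inr j)) (f - Q) by rw [hfm]; ring]
          exact Ideal.sub_mem _ (Submodule.mem_sup_left (Ideal.subset_span (Or.inr ⟨_, rfl⟩)))
            (hsq (hdm _))
        · rw [← hQl, show pderiv k (some (Sum.inl j)) Q = pderiv k (some (Sum.inl j)) f -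
            pderiv k (some (Sum.inl j)) (f - Q) by rw [hfm]; ring]
          exact Ideal.sub_mem _ (Submodule.mem_sup_left (Ideal.subset_span (Or.inr ⟨_, rfl⟩)))
            (hsq (hdm _))

end Groth.Agent.S8720
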