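import Groth.Statements.S8722
import Groth.Agent.SGA7II.K571.QLin

set_option autoImplicit false
universe u v
open SGA7II

namespace Groth.Agent.S8722

/-- Let k be a separably closed field of characteristic p > 0, q = p^r with r >= 1, V a
finite-dimensional k-vector space and phi : V -> V additive with phi(c v) = c^q phi(v), semisimple
in the sense that its image spans V. Then for n >= 1 the fixed vectors of the n-th iterate of phi
are exactly the finite linear combinations of phi-fixed vectors with coefficients c satisfying
c^(q^n) = c; that is, the fixed space of phi^n is obtained from the F_q-space of phi-fixed vectors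
by extending scalars to F_{q^n}. -/
theorem result (k : Type u) [Field k] [IsSepClosed k] (p : ℕ)
    [Fact p.Prime] [CharP k p] (r : ℕ) (hr : 0 < r) (V : Type v) [AddCommGroup V] [Module k V]
    [FiniteDimensional k V] (φ : V →+ V) (hφ : ∀ (c : k) (v : V), φ (c • v) = c ^ (p ^ r) • φ v)
    (hss : Submodule.span k (Set.range φ) = ⊤) (n : ℕ) (hn : 0 < n) (v : V) :
    φ^[n] v = v ↔ ∃ (s : Finset V) (c : V → k), (∀ w ∈ s, φ w = w) ∧
      (∀ w ∈ s, c w ^ ((p ^ r) ^ n) = c w) ∧ v = ∑ w ∈ s, c w • w := by
  classical
  constructor
  · intro hv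
    obtain ⟨b, hb, hb'⟩ := Groth.Agent.S3212.result k p r hr V φ hφ hss
    refine ⟨Finset.univ.image b, Function.extend b (fun i => b.repr v i) 0, ?_, ?_, ?_⟩
    · intro w hw
      obtain ⟨i, -, rfl⟩ := Finset.mem_image.mp hw
      exact hb i
    · intro w hw
      obtain ⟨i, -, rfl⟩ := Finset.mem_image.mp hw
      rw [b.injective.extend_apply]
      have h1 : φ^[n] v = ∑ i, (b.repr v i) ^ ((p ^ r) ^ n) • b i := by
        conv_lhs => rw [← b.sum_repr v]
        rw [K571.QLin.iterate_sum]
        refine Finset.sum_congr rfl fun i _ => ?_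
        rw [K571.QLin.iterate_smul (p ^ r) φ hφ, Function.iterate_fixed (hb i) n]
      rw [hv] at h1
      conv_rhs => rw [h1]
      rw [map_sum, Finsupp.finsetSum_apply]
      simp only [map_smul, Finsupp.smul_apply, Module.Basis.repr_self, smul_eq_mul]
      rw [Finset.sum_eq_single i]
      · simp
      · intro j _ hj
        rw [Finsupp.single_eq_of_ne (Ne.symm hj), mul_zero]
      · intro h; exact absurd (Finset.mem_univ i) h
    · rw [Finset.sum_image (fun i _ j _ h => b.injective h)]
      conv_lhs => rw [← b.sum_repr v]
      refine Finset.sum_congr rfl fun i _ => ?_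
      rw [b.injective.extend_apply]
  · rintro ⟨s, c, hs, hc, rfl⟩
    rw [K571.QLin.iterate_sum]
    refine Finset.sum_congr rfl fun w hw => ?_
    rw [K571.QLin.iterate_smul (p ^ r) φ hφ, Function.iterate_fixed (hs w hw) n, hc w hw]

end Groth.Agent.S8722
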