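import Groth.Statements.S8731
import Groth.Agent.LefPen.K568.Quadric

set_option autoImplicit false
universe u
open CategoryTheory CategoryTheory.Limits AlgebraicGeometry
open LefPen

namespace Groth.Agent.S8731

/-- (iv), the assertions on the structure sheaf: let k be an algebraically closed field, n >= 1, and Q a
quadratic form in n + 2 variables whose zero scheme X = V(Q) ⊂ P^{n+1}_k is smooth over k of
relative dimension n (a smooth quadric of dimension n). Then H^i(X, O_X) = 0 for every i >= 1, and
the structure map identifies k with H^0(X, O_X). (The published item also computes H^1(X, O_X(1)),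
the canonical sheaf and the Picard group, not stated here.) -/
theorem result (k : Type u) [Field k] [IsAlgClosed k] (n : ℕ) (hn : 1 ≤ n)
    (Q : LefPen.Form (n + 1) k 2)
    [SmoothOfRelativeDimension n ((LefPen.hypIdeal Q).subschemeι ≫ CohB1.ProjSpace.toSpec (n + 1) k)] :
    (∀ i : ℕ, 1 ≤ i → Subsingleton (Coh.HH (LefPen.hypIdeal Q).subscheme
        (Coh.structureModule (LefPen.hypIdeal Q).subscheme) i)) ∧
      Function.Bijective ((LefPen.hypIdeal Q).subschemeι ≫ CohB1.ProjSpace.toSpec (n + 1) k).appTop.hom := by
  have hsm : SmoothOfRelativeDimension n (Groth.Agent.Lefpen.H718.Chart.yStr (a := fun _ : Fin 1 => 2)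
      (K568.HypCI.one Q)) := by
    change SmoothOfRelativeDimension n ((ciIdeal (a := fun _ : Fin 1 => 2) (K568.HypCI.one Q)).subschemeι ≫ _)
    rw [K568.HypCI.ciIdeal_one]
    infer_instance
  have h := K568.Quadric.main n hn (K568.HypCI.one Q)
  exact Eq.rec (motive := fun (I : (CohB1.ProjSpace (n + 1) k).IdealSheafData) _ =>
    (∀ i : ℕ, 1 ≤ i → Subsingleton (Coh.HH I.subscheme (Coh.structureModule I.subscheme) i)) ∧
      Function.Bijective (I.subschemeι ≫ CohB1.ProjSpace.toSpec (n + 1) k).appTop.hom) h
    (K568.HypCI.ciIdeal_one Q)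

end Groth.Agent.S8731
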