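import Groth.Statements.S8737
import Groth.Agent.SGA7II.K571.EvenTr
import Groth.Agent.S16651

set_option autoImplicit false
universe u v
open SGA7II

namespace Groth.Agent.S8737

/-- Let A be a commutative ring, V a free A-module of rank 2m with m >= 1, and Q a quadratic form on V
which is non-degenerate in the sense that its polar bilinear form induces a bijection V -> Hom_A(V,
A). Let Z be the centre of the even Clifford algebra C^+(Q), and regard C^+(Q) as a Z-algebra
through the inclusion of the centre. Then Z is an etale A-algebra which is finitely generated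
projective of rank 2 at every prime of A, and C^+(Q) is an Azumaya algebra over Z. (The published
statement allows V locally free of rank 2m; this row takes V free.) -/
theorem result (A : Type u) [CommRing A] (V : Type v) [AddCommGroup V] [Module A V]
    [Module.Free A V] [Module.Finite A V] (m : ℕ) (hm : 1 ≤ m) (hV : Module.finrank A V = 2 * m)
    (Q : QuadraticForm A V) (hQ : Function.Bijective (QuadraticMap.polarBilin Q)) :
    letI : Algebra ↥(Subalgebra.center A ↥(CliffordAlgebra.even Q)) ↥(CliffordAlgebra.even Q) :=
      (Subalgebra.center A ↥(CliffordAlgebra.even Q)).val.toRingHom.toAlgebra'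
        (fun c x => (Subalgebra.mem_center_iff.mp c.2 x).symm)
    Algebra.Etale A ↥(Subalgebra.center A ↥(CliffordAlgebra.even Q)) ∧
      Module.Finite A ↥(Subalgebra.center A ↥(CliffordAlgebra.even Q)) ∧
      Module.Projective A ↥(Subalgebra.center A ↥(CliffordAlgebra.even Q)) ∧
      (∀ p : PrimeSpectrum A, Module.rankAtStalk ↥(Subalgebra.center A ↥(CliffordAlgebra.even Q)) p = 2) ∧
      IsAzumaya ↥(Subalgebra.center A ↥(CliffordAlgebra.even Q)) ↥(CliffordAlgebra.even Q) := by
  have hA : Nontrivial A := by
    by_contra h
    rw [not_nontrivial_iff_subsingleton] at h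
    have h1 := Module.finrank_subsingleton (R := A) (M := V)
    omega
  let b := Module.finBasisOfFinrankEq A V hV
  let L : (ULift.{u} (Fin (2 * m)) → A) ≃ₗ[A] V := (b.reindex Equiv.ulift.symm).equivFun.symm
  let Q₀ : QuadraticForm A (ULift.{u} (Fin (2 * m)) → A) := Q.comp L.toLinearMap
  have hQ₀ : Function.Bijective (QuadraticMap.polarBilin Q₀) := by
    have h1 : ∀ x, QuadraticMap.polarBilin Q₀ x = L.dualMap (QuadraticMap.polarBilin Q (L x)) := by
      intro x
      ext y
      simp [Q₀, QuadraticMap.polar]
    have h2 : (QuadraticMap.polarBilin Q₀ : _ → _) = L.dualMap ∘ (QuadraticMap.polarBilin Q) ∘ L := funext h1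
    rw [h2]
    exact L.dualMap.bijective.comp (hQ.comp L.bijective)
  obtain ⟨⟨A', _, _, _, -, -, ⟨e⟩⟩, -⟩ := Groth.Agent.S16651.result A (ULift.{u} (Fin (2 * m)) → A) m hm (by simp) Q₀ hQ₀
  exact K571.EvenTr.main A V Q A' (2 ^ (m - 1)) Nat.one_le_two_pow
    ((Algebra.TensorProduct.congr AlgEquiv.refl (K571.EvenTr.evenEquiv L.symm (fun x => by simp [Q₀]))).trans e)

end Groth.Agent.S8737
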