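import Groth.Statements.S8738
import Groth.Agent.SGA7II.K571.Seiden

set_option autoImplicit false
universe u
open SGA7II

namespace Groth.Agent.S8738

/-- Let k be a field of characteristic zero and A a reduced Noetherian local k-algebra of Krull
dimension one, essentially of finite type over k (the local ring of a reduced curve over k at one of
its points), and let A' be the integral closure of A in its total ring of fractions (the
normalization). Then every k-derivation D of A extends to a k-derivation D' of A', i.e. D' agrees
with D on the image of A. -/
theorem result (k : Type u) [Field k] [CharZero k] (A : Type u) [CommRing A]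
    [Algebra k A] [IsReduced A] [IsNoetherianRing A] [IsLocalRing A] [Algebra.EssFiniteType k A]
    (hdim : ringKrullDim A = 1) (D : Derivation k A A) :
    ∃ D' : Derivation k ↥(integralClosure A (FractionRing A)) ↥(integralClosure A (FractionRing A)),
      ∀ a : A, (D' (algebraMap A ↥(integralClosure A (FractionRing A)) a) : FractionRing A) =
        algebraMap A (FractionRing A) (D a) := by
  letI : Algebra ℚ A := ((algebraMap k A).comp (algebraMap ℚ k)).toAlgebra
  have hfe : Algebra.FormallyEtale A (FractionRing A) := .of_isLocalization (nonZeroDivisors A)
  obtain ⟨D₁, hD₁⟩ := K571.Seiden.exists_extend k (B := FractionRing A) D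
  have hint : ∀ x : FractionRing A, IsIntegral A x → IsIntegral A (D₁ x) := by
    intro x hx
    let D₂ : Derivation ℚ (FractionRing A) (FractionRing A) :=
      Derivation.mk' (D₁.toLinearMap.toAddMonoidHom.toRatLinearMap) (fun a b => D₁.leibniz a b)
    exact K571.Seiden.isIntegral_of_derivation D₂ (fun a => ⟨D a, (hD₁ a).symm⟩) x hx
  refine ⟨Derivation.mk'
    { toFun := fun x => ⟨D₁ x.1, hint x.1 x.2⟩
      map_add' := fun x y => Subtype.ext (map_add D₁ x.1 y.1)
      map_smul' := fun c x => Subtype.ext (D₁.map_smul c x.1) }
    (fun x y => Subtype.ext (D₁.leibniz x.1 y.1)), fun a => hD₁ a⟩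

end Groth.Agent.S8738
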