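import Groth.Statements.S8748
import Groth.Agent.Adeq.K569.Ext2

set_option autoImplicit false
universe u
open CategoryTheory Limits
open Adeq

namespace Groth.Agent.S8748

/-- If `0 → F → G → H → 0` is a short exact sequence of module-valued functors on `A`-algebras and `F`,
`H` are adequate, then `G` is adequate. -/
theorem result (A : Type u) [CommRing A] (S : ShortComplex (Adeq.MVF A))
    (hS : S.ShortExact) (h₁ : Adeq.adequate A S.X₁) (h₃ : Adeq.adequate A S.X₃) : Adeq.adequate A S.X₂ := by
  have hf := hS.mono_f
  have hg := hS.epi_g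
  exact K569.Ext2.adequate_ext S.f S.g ((K569.Basic.mono_iff _).1 hf) ((K569.Basic.epi_iff _).1 hg)
    ((K569.Basic.exact_iff' S).1 hS.exact) h₁ h₃

end Groth.Agent.S8748
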