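import Groth.Statements.S8788
import Groth.Agent.Adeq.K569.CechTerm
import Groth.Agent.Adeq.K569.FpqcAd
import Groth.Agent.Adeq.K570.Stab

set_option autoImplicit false
universe u
open CategoryTheory Limits AlgebraicGeometry
open Adeq

namespace Groth.Agent.S8788

/-- For an adequate `O`-module `M` on the big fppf site of `S`, an affine object `Spec R → S` and a
faithfully flat `R`-algebra `B`, the Cech complex of `M` for the single covering map `Spec B → Spec
R`, whose degree-`n` term is `M` of the `(n+1)`-fold fibre product of `Spec B` over `Spec R` (the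
spectrum of the `(n+1)`-fold tensor power of `B` over `R`) and whose differential is the alternating
sum of the coface maps, is exact in every degree `n ≥ 1`. (Exactness of the extended complex at its
first two terms, namely that `M(Spec R)` maps isomorphically onto the kernel of the first
differential, is a separate statement and not part of this row; in degree `0` the complex without
its first term `M(Spec R)` need not be exact.) -/
theorem result (S : Scheme.{u}) (M : BigSite.Mod Scheme.fppfPrecoverage S)
    (hM : Adeq.adequateMod Scheme.fppfPrecoverage S M) (R : CommRingCat.{u}) (a : Spec R ⟶ S)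
    (B : Type u) [CommRing B] [Algebra R B] [Module.FaithfullyFlat R B] (n : ℕ) (hn : 0 < n) :
    ((cechComplexFunctor (A := AddCommGrpCat.{u + 1})
        (fun _ : PUnit.{u + 2} => (Over.mk (Spec.map (CommRingCat.ofHom (algebraMap R B))) : Over (Spec R)))).obj
      ((Over.map a).op ⋙ ((BigSite.toAbMod Scheme.fppfPrecoverage S).obj M).obj)).ExactAt n := by
  obtain ⟨n, rfl⟩ : ∃ m, n = m + 1 := ⟨n - 1, by omega⟩
  have h1 : Adeq.adequateMod Scheme.fppfPrecoverage (Spec R) ((BigSite.pullMod Scheme.fppfPrecoverage a).obj M) :=
    K570.Stab.adequateMod_pullMod (Q := K570.Local.Qf) a M hM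
  have h2 : K570.CA.CA ((BigSite.pullMod Scheme.fppfPrecoverage a).obj M).val.presheaf :=
    K569.FpqcAd.ca (Q := K570.Local.Qf) h1
  let f : Spec (CommRingCat.of B) ⟶ Spec R := Spec.map (CommRingCat.ofHom (algebraMap R B))
  have hff : Flat f ∧ Surjective f := by
    rw [flat_and_surjective_SpecMap_iff]
    change RingHom.FaithfullyFlat (algebraMap R B)
    rw [RingHom.faithfullyFlat_algebraMap_iff]
    infer_instance
  refine K569.CechTerm.exactAt_of_ex _ _ (U := Over.mk (𝟙 (Spec R))) Over.mkIdTerminal
    (Over.homMk f (Category.comp_id _)) n fun m => ?_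
  exact h2 _ (inferInstanceAs (IsAffine (Spec R))) (inferInstanceAs (IsAffine (Spec (CommRingCat.of B)))) hff.1 hff.2 m _

end Groth.Agent.S8788
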