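import Groth.Statements.S8792
import Groth.Agent.LocCoh.K164.StabH

set_option autoImplicit false
universe u
open CategoryTheory
attribute [local instance] HasDerivedCategory.standard
open LocCoh

namespace Groth.Agent.S8792

/-- Let A be a Noetherian ring with a dualizing complex, I and J ideals, M a finite A-module, s and d
naturals, and T the set of primes p with V(p) ∩ V(I) ⊆ V(J). Assume: (3) every prime p ∉ V(I) lying
in T admits some q ∈ V(p) ∩ V(J) ∩ V(I) with dim((A/p)_q) ≤ d; (4) every prime p ∉ V(I) not in T has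
depth(M_p) ≥ s or depth(M_p) + dim((A/p)_q) > d + s for all q ∈ V(p) ∩ V(J) ∩ V(I); (6) every prime
p ∉ V(I) lying in T has depth(M_p) > s. Then there is an ideal J₀ ⊆ J with V(J₀) ∩ V(I) = V(J) ∩
V(I) such that for every J' ⊆ J₀ with V(J') ∩ V(I) = V(J) ∩ V(I) and every i ≤ s the comparison map
H^i_{J₀}(M) → H^i_{J'}(M) is bijective and H^i_{J₀}(M) is annihilated by a power of J₀I for i ≤ s;
moreover for i ≤ s the comparison maps H^i_J(M) → H^i_{J₀}(M) and H^i_{J+I}(M) → H^i_J(M) are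
bijective and H^i_J(M) is annihilated by a power of I. -/
theorem result (A : Type u) [CommRing A] [IsNoetherianRing A] (hdc : ∃ ω : Dual.D A, Dual.IsDualizing A ω) (I J : Ideal A) (M : Type u) [AddCommGroup M] [Module A M] [Module.Finite A M] (s d : ℕ) (T : Set (PrimeSpectrum A)) (hT : ∀ p : PrimeSpectrum A, p ∈ T ↔ ∀ q : PrimeSpectrum A, p ≤ q → I ≤ q.asIdeal → J ≤ q.asIdeal) (h3 : ∀ p : PrimeSpectrum A, ¬ I ≤ p.asIdeal → p ∈ T → ∃ q : PrimeSpectrum A, p ≤ q ∧ J ≤ q.asIdeal ∧ I ≤ q.asIdeal ∧ Formal2.dimBetween A p.asIdeal q.asIdeal ≤ ((d : ℕ∞) : WithBot ℕ∞)) (h4 : ∀ p : PrimeSpectrum A, ¬ I ≤ p.asIdeal → p ∉ T → ∀ q : PrimeSpectrum A, p ≤ q → J ≤ q.asIdeal → I ≤ q.asIdeal → (s : ℕ∞) ≤ LocCoh.depth (Localization.AtPrime p.asIdeal) (LocalizedModule p.asIdeal.primeCompl M) ∨ (((d + s : ℕ) : ℕ∞) : WithBot ℕ∞) < ((LocCoh.depth (Localization.AtPrime p.asIdeal) (LocalizedModule p.asIdeal.primeCompl M) : ℕ∞)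 : WithBot ℕ∞) + Formal2.dimBetween A p.asIdeal q.asIdeal) (h6 : ∀ p : PrimeSpectrum A, ¬ I ≤ p.asIdeal → p ∈ T → (s : ℕ∞) < LocCoh.depth (Localization.AtPrime p.asIdeal) (LocalizedModule p.asIdeal.primeCompl M)) : ∃ (J₀ : Ideal A) (hJ₀ : J₀ ≤ J), (J₀ ≤ J ∧ PrimeSpectrum.zeroLocus ((J₀ : Ideal A) : Set A) ∩ PrimeSpectrum.zeroLocus ((I : Ideal A) : Set A) = PrimeSpectrum.zeroLocus ((J : Ideal A) : Set A) ∩ PrimeSpectrum.zeroLocus ((I : Ideal A) : Set A) ∧ (∀ (J' : Ideal A) (hJ' : J' ≤ J₀), PrimeSpectrum.zeroLocus ((J' : Ideal A) : Set A) ∩ PrimeSpectrum.zeroLocus ((I : Ideal A) : Set A) = PrimeSpectrum.zeroLocus ((J : Ideal A) : Set A) ∩ PrimeSpectrum.zeroLocus ((I : Ideal A) : Set A) → ∀ i : ℕ, i ≤ s → Function.Bijective ((Dual2.HmapOfLE hJ' i).app (ModuleCat.of A M)).hom) ∧ (∃ n : ℕ, ∀ a ∈ (J₀ * I) ^ n, ∀ i : ℕ, i ≤ s → ∀ x : LocCoh.H J₀ i M, a • x = 0)) ∧ (∀ i : ℕ, i ≤ s → Function.Bijective ((Dual2.HmapOfLE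 hJ₀ i).app (ModuleCat.of A M)).hom ∧ Function.Bijective ((Dual2.HmapOfLE (le_sup_left : J ≤ J ⊔ I) i).app (ModuleCat.of A M)).hom) ∧ ∃ n : ℕ, ∀ a ∈ I ^ n, ∀ i : ℕ, i ≤ s → ∀ x : LocCoh.H J i M, a • x = 0 := by
  obtain ⟨J₀, h1, h2, h5⟩ := K164.Stab.exists_stab hdc I J M s d T hT h3 h4
  have hcov : ∃ δ : PrimeSpectrum A → ℤ, ∀ p q : PrimeSpectrum A, p ⋖ q → δ p = δ q + 1 := by
    obtain ⟨ω, hω⟩ := hdc
    obtain ⟨δ, -, hcov⟩ := Groth.Agent.S1722.result A ω hω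
    exact ⟨δ, hcov⟩
  have hJT : ∀ p : PrimeSpectrum A, J ≤ p.asIdeal → p ∈ T := fun p hp =>
    (hT p).2 fun q hpq _ => hp.trans hpq
  have hb2 : ∀ i : ℕ, i ≤ s →
      Function.Bijective ((Dual2.HmapOfLE (le_sup_left : J ≤ J ⊔ I) i).app (ModuleCat.of A M)).hom := by
    intro i hi
    refine K164.StabH.bijective_HmapOfLE _ M s (fun p hp hp' => ?_) i hi
    exact h6 p (fun h => hp' (sup_le hp h)) (hJT p hp)
  refine ⟨J₀, h1, ⟨h1, K164.StabH.zeroLocus_eq hT h1 h2,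
    fun J' hJ' hV i hi => K164.StabH.bijective_of_stab hT h1 h5 J' hJ' hV i hi,
    K164.StabH.annihilates_of_stab hdc hT h3 h4 h2 h5⟩, fun i hi => ⟨?_, hb2 i hi⟩, ?_⟩
  · refine K164.StabH.bijective_HmapOfLE _ M s (fun p hp hp' => ?_) i hi
    have hpT := h2 p hp
    exact h6 p (fun h => hp' ((hT p).1 hpT p le_rfl h)) hpT
  · obtain ⟨n, hn⟩ := K164.StabH.exists_pow_annihilates hdc (J ⊔ I) I le_sup_right M s (by
      intro p q hp hq hpq
      have hne : p ≠ q := fun h => hp (h ▸ (le_sup_right.trans hq))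
      obtain ⟨δ, hδ⟩ := hcov
      obtain ⟨n, hn, hn'⟩ := K164.DimBtw.exists_delta_eq hδ hpq
      have hn1 : 1 ≤ n := by
        have := Groth.Agent.LoccohA.DimFun.lt_of_lt hδ (lt_of_le_of_ne hpq hne)
        omega
      rw [hn', K164.Stab.lt_add_iff]
      by_cases hpT : p ∈ T
      · exact lt_of_lt_of_le (h6 p hp hpT) le_self_add
      · rcases h4 p hp hpT q hpq (le_sup_left.trans hq) (le_sup_right.trans hq) with h7 | h7
        · by_cases htop : K164.Stab.dep p M = ⊤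
          · rw [htop, top_add]
            exact ENat.natCast_lt_top s
          · obtain ⟨e, he⟩ := ENat.ne_top_iff_exists.1 htop
            have h8 : (s : ℕ∞) ≤ K164.Stab.dep p M := h7
            rw [← he] at h8 ⊢
            have h9 : s ≤ e := by exact_mod_cast h8
            exact_mod_cast (by omega : s < e + n)
        · rw [hn', K164.Stab.lt_add_iff] at h7
          refine lt_of_le_of_lt ?_ h7
          exact_mod_cast Nat.le_add_left s d)
    refine ⟨n, fun a ha i hi x => ?_⟩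
    obtain ⟨y, rfl⟩ := (hb2 i hi).2 x
    rw [← map_smul, hn a ha i hi y, map_zero]

end Groth.Agent.S8792
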