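import Groth.Statements.S8793
import Groth.Agent.S1765
import Groth.Agent.LocCoh.K164.HatKill
import Groth.Agent.LocCoh.K164.DimBtw

set_option autoImplicit false
universe u
open CategoryTheory
attribute [local instance] HasDerivedCategory.standard
open LocCoh

namespace Groth.Agent.S8793

/-- Let A be a Noetherian ring with a dualizing complex, I and J ideals, M a finite A-module, p a prime
of A, s a natural and d a natural with cd(A, I) ≤ d. Assume p ∉ V(J) ∩ V(I), and that for all primes
p' ⊆ p and all q ∈ V(p') ∩ V(J) ∩ V(I) one has depth(M_{p'}) + dim((A/p')_q) > d + s. Assume the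
total right derived functor RΓ_J and derived I-adic completion (left adjoint to the inclusion of
derived complete objects) exist on D(A). Then there is f ∈ A with f ∉ p annihilating the cohomology
modules H^i of the derived I-adic completion of RΓ_J(M) for all i ≤ s. -/
theorem result (A : Type u) [CommRing A] [IsNoetherianRing A] (hdc : ∃ ω : Dual.D A, Dual.IsDualizing A ω) (I J : Ideal A) [DRing.HasRgammaI J] [DRing.HasDerivedCompletion I] (M : Type u) [AddCommGroup M] [Module A M] [Module.Finite A M] (p : PrimeSpectrum A) (s d : ℕ) (h2 : ¬ (J ≤ p.asIdeal ∧ I ≤ p.asIdeal)) (h3 : LocCoh.CdLE A I d) (h4 : ∀ p' : PrimeSpectrum A, p' ≤ p → ∀ q : PrimeSpectrum A, p' ≤ q → J ≤ q.asIdeal → I ≤ q.asIdeal → (((d + s : ℕ) : ℕ∞) : WithBot ℕ∞) < ((LocCoh.depth (Localization.AtPrime p'.asIdeal) (LocalizedModule p'.asIdeal.primeCompl M) : ℕ∞) : WithBot ℕ∞) + Formal2.dimBetween A p'.asIdeal q.asIdeal) : ∃ f : A, f ∉ p.asIdeal ∧ ∀ i : ℤ, i ≤ s → ∀ x : Dual.HD A ((DRing.derivedCompletion I).obj ((DRing.RgammaI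 J).obj (Dual.inD A M))).obj i, f • x = 0 := by
  have h5 : ¬ (J ⊔ I) ≤ p.asIdeal := fun h => h2 ⟨le_sup_left.trans h, le_sup_right.trans h⟩
  obtain ⟨f, hfp, hf⟩ := Groth.Agent.S1765.result A hdc (J ⊔ I) M p h5 (d + s) (by
    intro p' q hp' hq hle
    have h6 := h4 p' hp' q hle (le_sup_left.trans hq) (le_sup_right.trans hq)
    rw [K164.DimBtw.dimBetween_eq_krullDim_Icc hle] at h6
    exact_mod_cast h6)
  obtain ⟨N, hN⟩ := K164.HatKill.exists_pow_kill_hat I J M d s h3 f hf
  exact ⟨f ^ N, fun h => hfp (p.isPrime.mem_of_pow_mem N h), hN⟩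

end Groth.Agent.S8793
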