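import Groth.Statements.S8795
import Groth.Agent.LocCoh.K164.Hat8808
import Groth.Agent.LocCoh.K164.HatLoc

set_option autoImplicit false
universe u
open CategoryTheory
attribute [local instance] HasDerivedCategory.standard
open LocCoh

namespace Groth.Agent.S8795

/-- Let (A, m) be a Noetherian local ring which is I-adically complete for an ideal I and has a
dualizing complex; let d be a natural with cd(A, I) ≤ d, M a finite A-module and s a natural. Assume
that every prime p ∉ V(I) with V(p) ∩ V(I) ≠ {m} satisfies depth(M_p) ≥ s or depth(M_p) + dim(A/p) >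
d + s, and that derived I-adic completion (left adjoint to the inclusion of derived complete
objects) exists on D(A). Then there is an ideal J₀ with V(J₀) ∩ V(I) = {m} such that for every ideal
J ⊆ J₀ with V(J) ∩ V(I) = {m} whose total right derived functor RΓ_J exists, the canonical map from
RΓ_J(M) to its derived I-adic completion induces a bijection on cohomology in every degree i ≤ s.
(The identification of that completion with the completion of RΓ_m(M) is not part of this
statement.) -/
theorem result (A : Type u) [CommRing A] [IsNoetherianRing A] [IsLocalRing A] (I : Ideal A) [IsAdicComplete I A] (hdc : ∃ ω : Dual.D A, Dual.IsDualizing A ω) [DRing.HasDerivedCompletion I] (d : ℕ) (hcd : LocCoh.CdLE A I d) (M : Type u) [AddCommGroup M] [Module A M] [Module.Finite A M] (s : ℕ) (h4 : ∀ p : PrimeSpectrum A, ¬ I ≤ p.asIdeal → (∃ r : PrimeSpectrum A, p ≤ r ∧ I ≤ r.asIdeal ∧ r.asIdeal ≠ IsLocalRing.maximalIdeal A) → (s : ℕ∞) ≤ LocCoh.depth (Localization.AtPrime p.asIdeal) (LocalizedModule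 p.asIdeal.primeCompl M) ∨ (((d + s : ℕ) : ℕ∞) : WithBot ℕ∞) < ((LocCoh.depth (Localization.AtPrime p.asIdeal) (LocalizedModule p.asIdeal.primeCompl M) : ℕ∞) : WithBot ℕ∞) + ringKrullDim (A ⧸ p.asIdeal)) : ∃ J₀ : Ideal A, PrimeSpectrum.zeroLocus ((J₀ : Ideal A) : Set A) ∩ PrimeSpectrum.zeroLocus ((I : Ideal A) : Set A) = {IsLocalRing.closedPoint A} ∧ ∀ (J : Ideal A) [DRing.HasRgammaI J], J ≤ J₀ → PrimeSpectrum.zeroLocus ((J : Ideal A) : Set A) ∩ PrimeSpectrum.zeroLocus ((I : Ideal A) : Set A) = {IsLocalRing.closedPoint A} → ∀ i : ℤ, i ≤ s → Function.Bijective ((DerivedCategory.homologyFunctor (ModuleCat.{u} A) i).map (DRing.toDerivedCompletion I ((DRing.RgammaI J).obj (Dual.inD A M)))).hom := by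
  have hIm : I ≤ IsLocalRing.maximalIdeal A := by
    have h1 := IsAdicComplete.le_jacobson_bot I
    rwa [IsLocalRing.jacobson_eq_maximalIdeal ⊥ bot_ne_top] at h1
  have hcl : ∀ q : PrimeSpectrum A, IsLocalRing.maximalIdeal A ≤ q.asIdeal → q = IsLocalRing.closedPoint A :=
    fun q hq => PrimeSpectrum.ext
      ((IsLocalRing.maximalIdeal.isMaximal A).eq_of_le q.isPrime.ne_top hq).symm
  have hbt : ∀ p : PrimeSpectrum A, Formal2.dimBetween A p.asIdeal (IsLocalRing.closedPoint A).asIdeal =
      ringKrullDim (A ⧸ p.asIdeal) := by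
    intro p
    obtain ⟨ω, hω⟩ := hdc
    obtain ⟨δ, -, hcov⟩ := Groth.Agent.S1722.result A ω hω
    have hle : p ≤ IsLocalRing.closedPoint A := IsLocalRing.le_maximalIdeal p.2.ne_top
    obtain ⟨n, hn, hn'⟩ := K164.DimBtw.exists_delta_eq hcov hle
    rw [hn', (Groth.Agent.LoccohA.DimFun.dim_quotient hcov p n).2 hn]
  have hV : PrimeSpectrum.zeroLocus ((IsLocalRing.maximalIdeal A : Ideal A) : Set A) ∩
      PrimeSpectrum.zeroLocus ((I : Ideal A) : Set A) = {IsLocalRing.closedPoint A} := by
    ext p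
    constructor
    · rintro ⟨hp, -⟩
      exact hcl p hp
    · intro hp
      rw [Set.mem_singleton_iff] at hp
      subst hp
      exact ⟨le_refl (IsLocalRing.maximalIdeal A), hIm⟩
  obtain ⟨J₀, -, hJ₀, H⟩ := K164.Hat8808.main8808 A I hdc (IsLocalRing.maximalIdeal A) M s d hcd
    {p | ∀ q : PrimeSpectrum A, p ≤ q → I ≤ q.asIdeal → IsLocalRing.maximalIdeal A ≤ q.asIdeal}
    (fun p => Iff.rfl) (by
      intro p hIp hpT q hpq hmq hIq
      have hq := hcl q hmq
      subst hq
      rw [hbt p]
      apply h4 p hIp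
      simp only [Set.mem_ofPred_eq, not_forall] at hpT
      obtain ⟨r, hpr, hIr, hmr⟩ := hpT
      exact ⟨r, hpr, hIr, fun h => hmr h.ge⟩)
  rw [hV] at hJ₀
  refine ⟨J₀, hJ₀, fun J _ hJ hJV => H J hJ (hJV.trans hV.symm)⟩

end Groth.Agent.S8795
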