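import Groth.Statements.S8801
import Groth.Agent.AdicRing.K23.EtNbhd
import Groth.Agent.S1994
import Groth.Agent.S1958
import Groth.Agent.CurvesB.EtaleCompl

set_option autoImplicit false
universe u
open AdicRing

namespace Groth.Agent.S8801

/-- Let A be a Noetherian ring and I an ideal. Let C be an A-algebra of finite type and Cʰ a
henselization of the pair (C, IC), viewed as an A-algebra through C, and let J be an ideal of Cʰ.
Then there is an A-algebra B of finite type whose IB-adic completion is isomorphic as an A-algebra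
to the I(Cʰ/J)-adic completion of Cʰ/J (existence of an isomorphism only; the published statement
names no particular map). -/
theorem result (A : Type u) [CommRing A] [IsNoetherianRing A] (I : Ideal A) (C : Type u) [CommRing C] [Algebra A C] [Algebra.FiniteType A C] (Ch : Type u) [CommRing Ch] [Algebra C Ch] [Algebra A Ch] [IsScalarTower A C Ch] (hCh : Hens2.IsPairHenselization C (I.map (algebraMap A C)) Ch) (J : Ideal Ch) : ∃ (B : Type u) (_ : CommRing B) (_ : Algebra A B), Algebra.FiniteType A B ∧ Nonempty (AdicCompletion (I.map (algebraMap A B)) B ≃ₐ[A] AdicCompletion (I.map (algebraMap A (Ch ⧸ J))) (Ch ⧸ J)) := by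
  have hCN : IsNoetherianRing C := Algebra.FiniteType.isNoetherianRing A C
  set IC := I.map (algebraMap A C) with hIC
  obtain ⟨hChN, hflat, -⟩ := Groth.Agent.S1994.result C IC Ch hCh
  obtain ⟨n, b, hb⟩ := Submodule.fg_iff_exists_fin_generating_family.mp (IsNoetherian.noetherian J)
  obtain ⟨R, _, _, hR, g, b', hgb⟩ := K23.EtNbhd.exists_nbhd hCh b
  have hRet := hR.1
  let : Algebra A R := ((algebraMap C R).comp (algebraMap A C)).toAlgebra
  have : IsScalarTower A C R := IsScalarTower.of_algebraMap_eq fun _ => rfl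
  let K : Ideal R := Ideal.span (Set.range b')
  have hKJ : K ≤ J.comap g := by
    rw [Ideal.span_le]
    rintro _ ⟨i, rfl⟩
    change g (b' i) ∈ J
    rw [hgb, ← hb]
    exact Submodule.subset_span ⟨i, rfl⟩
  let gA : R →ₐ[A] Ch := g.restrictScalars A
  let φ : (R ⧸ K) →ₐ[A] Ch ⧸ J := Ideal.quotientMapₐ J gA hKJ
  have hφ : ∀ r, φ (Ideal.Quotient.mk K r) = Ideal.Quotient.mk J (g r) := fun r => rfl
  have hftR : Algebra.FiniteType A R := Algebra.FiniteType.trans (S := C) inferInstance inferInstance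
  have hftB : Algebra.FiniteType A (R ⧸ K) := inferInstance
  -- ideals
  have hI1 : I.map (algebraMap A (R ⧸ K)) = (IC.map (algebraMap C R)).map (Ideal.Quotient.mk K) := by
    rw [hIC, Ideal.map_map, Ideal.map_map]
    rfl
  have hI2 : I.map (algebraMap A (Ch ⧸ J)) = (IC.map (algebraMap C Ch)).map (Ideal.Quotient.mk J) := by
    rw [hIC, Ideal.map_map, Ideal.map_map, RingHom.comp_assoc, ← IsScalarTower.algebraMap_eq A C Ch]
    rfl
  have hle : I.map (algebraMap A (R ⧸ K)) ≤ (I.map (algebraMap A (Ch ⧸ J))).comap φ.toRingHom := by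
    rw [← Ideal.map_le_iff_le_comap, Ideal.map_map]
    have : φ.toRingHom.comp (algebraMap A (R ⧸ K)) = algebraMap A (Ch ⧸ J) := φ.comp_algebraMap
    rw [this]
  -- approximation in `Ch`
  have h58 := (Groth.Agent.S1958.result C IC Ch hCh).2
  have hsC : ∀ (m : ℕ) (y : Ch), ∃ c : C, y - algebraMap C Ch c ∈ (IC ^ m).map (algebraMap C Ch) := by
    intro m y
    obtain ⟨x, hx⟩ := (h58 m).2 (Ideal.Quotient.mk _ y)
    obtain ⟨c, rfl⟩ := Ideal.Quotient.mk_surjective x
    rw [Ideal.quotientMap_mk, eq_comm, Ideal.Quotient.eq] at hx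
    exact ⟨c, hx⟩
  have hiC : ∀ (m : ℕ) (c : C), algebraMap C Ch c ∈ (IC ^ m).map (algebraMap C Ch) → c ∈ IC ^ m := by
    intro m c hc
    have h1 : Ideal.quotientMap ((IC ^ m).map (algebraMap C Ch)) (algebraMap C Ch) Ideal.le_comap_map
        (Ideal.Quotient.mk (IC ^ m) c) = 0 := by
      rw [Ideal.quotientMap_mk]
      exact Ideal.Quotient.eq_zero_iff_mem.mpr hc
    have h2 := (h58 m).1 (h1.trans (map_zero _).symm)
    exact Ideal.Quotient.eq_zero_iff_mem.mp h2
  have hgI : ∀ (m : ℕ) (r : R), r ∈ (IC ^ m).map (algebraMap C R) →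
      g r ∈ (IC ^ m).map (algebraMap C Ch) := by
    intro m r hr
    have := Ideal.mem_map_of_mem g.toRingHom hr
    rw [Ideal.map_map] at this
    have h3 : g.toRingHom.comp (algebraMap C R) = algebraMap C Ch := g.comp_algebraMap
    rwa [h3] at this
  -- injectivity modulo `I^m`, upstairs
  have hinjR : ∀ (m : ℕ) (r : R), g r ∈ (IC ^ m).map (algebraMap C Ch) →
      r ∈ (IC ^ m).map (algebraMap C R) := by
    intro m r hr
    obtain ⟨c, hc⟩ := hR.pow_surj m r
    have h1 : algebraMap C Ch c ∈ (IC ^ m).map (algebraMap C Ch) := by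
      have h2 := hgI m _ hc
      rw [map_sub, AlgHom.commutes] at h2
      have := add_mem h2 hr
      rwa [sub_add_cancel] at this
    have h3 := Ideal.mem_map_of_mem (algebraMap C R) (hiC m c h1)
    have := sub_mem h3 hc
    rwa [sub_sub_cancel] at this
  have hinj : ∀ (m : ℕ) (x : R ⧸ K), φ.toRingHom x ∈ (I.map (algebraMap A (Ch ⧸ J))) ^ m →
      x ∈ (I.map (algebraMap A (R ⧸ K))) ^ m := by
    intro m x hx
    obtain ⟨r, rfl⟩ := Ideal.Quotient.mk_surjective x
    have hx' : Ideal.Quotient.mk J (g r) ∈ ((IC ^ m).map (algebraMap C Ch)).map (Ideal.Quotient.mk J) := by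
      rw [hI2, ← Ideal.map_pow, ← Ideal.map_pow] at hx
      exact hx
    rw [← Ideal.mem_comap, Ideal.comap_map_of_surjective _ Ideal.Quotient.mk_surjective,
      ← RingHom.ker_eq_comap_bot, Ideal.mk_ker] at hx'
    obtain ⟨u, hu, v, hv, huv⟩ := Submodule.mem_sup.mp hx'
    rw [← hb] at hv
    obtain ⟨c, hc⟩ := (Submodule.mem_span_range_iff_exists_fun Ch).mp hv
    choose d hd using fun i => hsC m (c i)
    have h1 : g (r - ∑ i, algebraMap C R (d i) * b' i) ∈ (IC ^ m).map (algebraMap C Ch) := by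
      have h2 : g (r - ∑ i, algebraMap C R (d i) * b' i) =
          u + ∑ i, (c i - algebraMap C Ch (d i)) * b i := by
        rw [map_sub, map_sum, ← huv, ← hc]
        simp only [map_mul, AlgHom.commutes, hgb, sub_mul, Finset.sum_sub_distrib, smul_eq_mul]
        ring
      rw [h2]
      exact add_mem hu (Ideal.sum_mem _ fun i _ => Ideal.mul_mem_right _ _ (hd i))
    have h3 := hinjR m _ h1
    have h4 : Ideal.Quotient.mk K r = Ideal.Quotient.mk K (r - ∑ i, algebraMap C R (d i) * b' i) := by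
      rw [Ideal.Quotient.eq, sub_sub_cancel]
      exact Ideal.sum_mem _ fun i _ => Ideal.mul_mem_left _ _ (Ideal.subset_span ⟨i, rfl⟩)
    rw [h4, hI1, ← Ideal.map_pow, ← Ideal.map_pow]
    exact Ideal.mem_map_of_mem _ h3
  have hsurj : ∀ (m : ℕ) (y : Ch ⧸ J), ∃ x : R ⧸ K,
      y - φ.toRingHom x ∈ (I.map (algebraMap A (Ch ⧸ J))) ^ m := by
    intro m y
    obtain ⟨y, rfl⟩ := Ideal.Quotient.mk_surjective y
    obtain ⟨c, hc⟩ := hsC m y
    refine ⟨Ideal.Quotient.mk K (algebraMap C R c), ?_⟩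
    change Ideal.Quotient.mk J y - Ideal.Quotient.mk J (g (algebraMap C R c)) ∈ _
    rw [AlgHom.commutes, ← map_sub, hI2, ← Ideal.map_pow, ← Ideal.map_pow]
    exact Ideal.mem_map_of_mem _ hc
  have hbij := Groth.Agent.CurvesB.EtaleCompl.complMap_bijective φ.toRingHom
    (I.map (algebraMap A (R ⧸ K))) (I.map (algebraMap A (Ch ⧸ J))) hle hinj hsurj
  refine ⟨R ⧸ K, inferInstance, inferInstance, hftB, ⟨AlgEquiv.ofBijective
    { Groth.Agent.CurvesB.EtaleCompl.complMap φ.toRingHom (I.map (algebraMap A (R ⧸ K)))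
        (I.map (algebraMap A (Ch ⧸ J))) hle with
      commutes' := fun a => ?_ } hbij⟩⟩
  change Groth.Agent.CurvesB.EtaleCompl.complMap φ.toRingHom (I.map (algebraMap A (R ⧸ K)))
        (I.map (algebraMap A (Ch ⧸ J))) hle (algebraMap A _ a) = _
  rw [IsScalarTower.algebraMap_apply A (R ⧸ K) (AdicCompletion (I.map (algebraMap A (R ⧸ K))) (R ⧸ K)),
    Groth.Agent.CurvesB.EtaleCompl.complMap_algebraMap,
    IsScalarTower.algebraMap_apply A (Ch ⧸ J)
      (AdicCompletion (I.map (algebraMap A (Ch ⧸ J))) (Ch ⧸ J))]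
  congr 1
  exact φ.commutes a

end Groth.Agent.S8801
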