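import Groth.Statements.S8802
import Groth.Agent.Algz.K572.CanonTower

set_option autoImplicit false
universe u
open CategoryTheory AlgebraicGeometry Opposite
open Algz

namespace Groth.Agent.S8802

/-- Let A be a Noetherian ring, I ⊆ 𝔞 ideals, U the complement of V(𝔞) in Spec A, and (F_n) an object of
Coh(U, IO_U), indexed here from 0. Assume: (1) there are f_1, …, f_d ∈ I such that for every point y
of U lying in V(I) the ideal IO_{U,y} is generated by the images of f_1, …, f_d and f_1, …, f_d form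
a regular sequence on the completed stalk F^∧_y over the completed local ring; (2) writing F_0 for
the first term of the system, both cohomology groups H^1(U, F_0) and H^0(U, F_0) are finitely
generated over A. Under these hypotheses the system (F_n) admits a canonical extension to all of
Spec A. -/
theorem result (A : Type u) [CommRing A] [IsNoetherianRing A] (I 𝔞 : Ideal A) (hI𝔞 : I ≤ 𝔞) (G : ℕᵒᵖ ⥤ (↑(LocCoh.puncturedOpen A 𝔞) : Scheme.{u}).Modules) (hG : Formal.IsCohFormal I G) (d : ℕ) (f : Fin d → A) (hfI : ∀ j, f j ∈ I) (h1 : ∀ (y : (↑(LocCoh.puncturedOpen A 𝔞) : Scheme.{u})), (LocCoh.puncturedOpen A 𝔞).ι.base y ∈ PrimeSpectrum.zeroLocus (R := A) I → Algz.stalkIdeal I y = Ideal.span (Set.range (fun j => Algz.toStalk A (↑(LocCoh.puncturedOpen A 𝔞) : Scheme.{u}) y (f j))) ∧ RingTheory.Sequence.IsRegular ↥(Algz.hatStalk I G y) (List.ofFn (fun j => algebraMap ((↑(LocCoh.puncturedOpen A 𝔞) : Scheme.{u}).presheaf.stalk y) (Algz.hatRing I y) (Algz.toStalk A (↑(LocCoh.puncturedOpen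 A 𝔞) : Scheme.{u}) y (f j))))) (h2 : Module.Finite A (Coh.HH (↑(LocCoh.puncturedOpen A 𝔞) : Scheme.{u}) (G.obj (op 0)) 0) ∧ Module.Finite A (Coh.HH (↑(LocCoh.puncturedOpen A 𝔞) : Scheme.{u}) (G.obj (op 0)) 1)) : Algz.CanonicallyExtends A I (LocCoh.puncturedOpen A 𝔞) G := by
  set J : Ideal A := Ideal.span (Set.range f) with hJdef
  have hJI : J ≤ I := by
    rw [hJdef, Ideal.span_le]
    rintro _ ⟨j, rfl⟩
    exact hfI j
  have hmem : ∀ y : (↑(LocCoh.puncturedOpen A 𝔞) : Scheme.{u}),
      I ≤ ((↑(LocCoh.puncturedOpen A 𝔞) ↘ Spec (CommRingCat.of A)).base y).asIdeal →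
      (LocCoh.puncturedOpen A 𝔞).ι.base y ∈ PrimeSpectrum.zeroLocus (R := A) I := fun y hy => hy
  have hJ : ∀ y : (↑(LocCoh.puncturedOpen A 𝔞) : Scheme.{u}),
      I ≤ ((↑(LocCoh.puncturedOpen A 𝔞) ↘ Spec (CommRingCat.of A)).base y).asIdeal →
      Algz.stalkIdeal I y = Algz.stalkIdeal J y := fun y hy => by
    rw [(h1 y (hmem y hy)).1, Algz.stalkIdeal, hJdef, Ideal.map_span, ← Set.range_comp]
    rfl
  have hGJ := K572.RegSys.isCohFormal_of_stalkIdeal hG hJI hJ
  have hF := ((Groth.Agent.FormalB.ModPow.isCohFormal_iff _ G).1 hGJ).2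
  have hL : Ideal.ofList (List.ofFn f).reverse = J := by
    have h3 : {r | r ∈ (List.ofFn f).reverse} = Set.range f := by
      ext x
      rw [Set.mem_ofPred_eq, List.mem_reverse, List.mem_ofFn']
    rw [Ideal.ofList, h3]
  have hreg : ∀ y : (↑(LocCoh.puncturedOpen A 𝔞) : Scheme.{u}),
      I ≤ ((↑(LocCoh.puncturedOpen A 𝔞) ↘ Spec (CommRingCat.of A)).base y).asIdeal →
      RingTheory.Sequence.IsWeaklyRegular ↥(Algz.hatStalk I G y)
        (((List.ofFn f).reverse.reverse.map (Algz.toStalk A _ y)).map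
          (algebraMap _ (Algz.hatRing I y))) := fun y hy => by
    have h := (h1 y (hmem y hy)).2.toIsWeaklyRegular
    rw [List.reverse_reverse, List.map_ofFn, List.map_ofFn]
    exact h
  have hgen := K572.RegSys.gen hG hF _ hL hJ hreg
  exact K572.CanonTower.canonicallyExtends_of_gen hG.2.1 hJI hF (hgen 0) (hgen 1) h2.1 h2.2

end Groth.Agent.S8802
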