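import Groth.Statements.S8803
import Groth.Agent.S0817
import Groth.Agent.LocCoh.K164.MLArt

set_option autoImplicit false
universe u
open CategoryTheory
open LocCoh

namespace Groth.Agent.S8803

/-- Let (A, m) be a Noetherian local ring and (M_n) an inverse system of finite A-modules. Then for
every i the inverse system H^i_m(M_n) of local cohomology modules satisfies the Mittag-Leffler
condition. -/
theorem result (A : Type u) [CommRing A] [IsNoetherianRing A] [IsLocalRing A] (Msys : ℕᵒᵖ ⥤ ModuleCat.{u} A) (hfin : ∀ n : ℕᵒᵖ, Module.Finite A (Msys.obj n)) (i : ℕ) : ARSys.IsML (Msys ⋙ localCohomology (IsLocalRing.maximalIdeal A) i) := by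
  refine K164.MLArt.isML_of_isArtinian _ (fun n => ?_)
  have := hfin (Opposite.op n)
  exact Groth.Agent.S0817.result A (Msys.obj (Opposite.op n)) i

end Groth.Agent.S8803
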