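import Groth.Statements.S8805
import Groth.Agent.AdicRing.K73.SqInd
import Groth.Agent.AlgSp.K635.FlatUnram

set_option autoImplicit false
universe u
open AdicRing

namespace Groth.Agent.S8805

open K73.SqInd K73.SqRa K73.Excis K73.SqLoc in
/-- Let A be a Noetherian ring, I ⊆ A an ideal and J ⊆ A a nilpotent ideal. Let C be a finite type
A-algebra whose structure morphism Spec C → Spec A becomes etale once restricted to the complement
of V(I), meaning that C_a is etale over A for each a ∈ I. Let B₀ be an (A/J)-algebra of finite type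
such that Spec B₀ → Spec(A/J) is etale over the complement of V(I), together with an etale algebra
map B₀ → C/JC over A inducing a bijection B₀/IB₀ → (C/JC)/I(C/JC). Then there exist an A-algebra B
of finite type, an etale algebra structure B → C over A and a surjection B → B₀ over A with kernel
JB, such that the composite B → B₀ → C/JC agrees with B → C → C/JC and Spec B → Spec A is etale over
the complement of V(I). -/
theorem result (A : Type u) [CommRing A] [IsNoetherianRing A] (I J : Ideal A) (hJ : IsNilpotent J) (C : Type u) [CommRing C] [Algebra A C] [Algebra.FiniteType A C] (hC : ∀ a ∈ I, Algebra.Etale A (Localization.Away (algebraMap A C a))) (B₀ : Type u) [CommRing B₀] [Algebra A B₀] [Algebra (A ⧸ J) B₀] [IsScalarTower A (A ⧸ J) B₀] [Algebra.FiniteType (A ⧸ J) B₀] (hB₀ : ∀ a ∈ I, Algebra.Etale (A ⧸ J) (Localization.Away (algebraMap A B₀ a))) [Algebra B₀ (C ⧸ J.map (algebraMap A C))] [IsScalarTower A B₀ (C ⧸ J.map (algebraMap A C))] [Algebra.Etale B₀ (C ⧸ J.map (algebraMap A C))] (h3 : (∀ c : (C ⧸ J.map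 (algebraMap A C)), ∃ b : B₀, algebraMap B₀ (C ⧸ J.map (algebraMap A C)) b - c ∈ I.map (algebraMap A (C ⧸ J.map (algebraMap A C)))) ∧ ∀ b : B₀, algebraMap B₀ (C ⧸ J.map (algebraMap A C)) b ∈ I.map (algebraMap A (C ⧸ J.map (algebraMap A C))) → b ∈ I.map (algebraMap A B₀)) : ∃ (B : Type u) (_ : CommRing B) (_ : Algebra A B) (_ : Algebra B C) (_ : IsScalarTower A B C) (_ : Algebra B B₀) (_ : IsScalarTower A B B₀), Algebra.FiniteType A B ∧ Algebra.Etale B C ∧ (∀ a ∈ I, Algebra.Etale A (Localization.Away (algebraMap A B a))) ∧ Function.Surjective (algebraMap B B₀) ∧ RingHom.ker (algebraMap B B₀) = J.map (algebraMap A B) ∧ ∀ b : B, algebraMap B₀ (C ⧸ J.map (algebraMap A C)) (algebraMap B B₀ b) = Ideal.Quotient.mk (J.map (algebraMap A C)) (algebraMap B C b) := by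
  obtain ⟨n, hn⟩ := hJ
  have hn' : J ^ (n + 1) = ⊥ := by rw [pow_succ, hn]; exact zero_mul J
  have t1 : ∀ a : A, IsScalarTower A (A ⧸ J) (Localization.Away (algebraMap A B₀ a)) := fun a =>
    IsScalarTower.of_algebraMap_eq fun x => by
      rw [IsScalarTower.algebraMap_apply A B₀ (Localization.Away (algebraMap A B₀ a)),
        IsScalarTower.algebraMap_apply (A ⧸ J) B₀ (Localization.Away (algebraMap A B₀ a)),
        ← IsScalarTower.algebraMap_apply A (A ⧸ J) B₀]
  have t2 : Algebra.FiniteType A B₀ := Algebra.FiniteType.trans (S := A ⧸ J) inferInstance inferInstance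
  have hI' : (I.map (algebraMap A B₀)).map (algebraMap B₀ (C ⧸ J.map (algebraMap A C))) =
      I.map (algebraMap A (C ⧸ J.map (algebraMap A C))) := by
    rw [Ideal.map_map, ← IsScalarTower.algebraMap_eq]
  obtain ⟨B, _, _, j, q, f1, f2, f3, f4, f5, f6, f7⟩ := main n (A := A) (I := I) (J := J) (C := C)
    (C₀ := C ⧸ J.map (algebraMap A C)) (B₀ := B₀)
    (p := Ideal.Quotient.mkₐ A (J.map (algebraMap A C))) (IsNoetherian.noetherian I) hn'
    Ideal.Quotient.mk_surjective (Ideal.Quotient.mkₐ_ker A _) (fun a ha => by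
      have := hC a ha
      infer_instance) (fun a ha => by
      have := hB₀ a ha
      have := t1 a
      exact EtLift.of_etale) (fun c => by
      obtain ⟨b, hb⟩ := h3.1 c
      refine ⟨b, ?_⟩
      rw [hI', ← neg_sub]
      exact neg_mem hb) (fun P hP => by
      let φ : B₀ →+* (C ⧸ J.map (algebraMap A C)) ⧸ I.map (algebraMap A (C ⧸ J.map (algebraMap A C))) :=
        (Ideal.Quotient.mk _).comp (algebraMap B₀ (C ⧸ J.map (algebraMap A C)))
      have hφ : Function.Surjective φ := by
        intro x
        obtain ⟨c, rfl⟩ := Ideal.Quotient.mk_surjective x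
        obtain ⟨b, hb⟩ := h3.1 c
        exact ⟨b, Ideal.Quotient.eq.2 hb⟩
      have h4 : P ∈ Set.range (PrimeSpectrum.comap φ) := by
        rw [range_comap_of_surjective _ _ hφ]
        have h5 : RingHom.ker φ ≤ P.asIdeal := by
          refine le_trans (fun b hb => ?_) hP
          exact h3.2 b (Ideal.Quotient.eq_zero_iff_mem.1 hb)
        exact h5
      obtain ⟨Q, rfl⟩ := h4
      exact ⟨PrimeSpectrum.comap (Ideal.Quotient.mk _) Q, by
        rw [← PrimeSpectrum.comap_comp_apply]⟩) (fun x hx => by
      rw [IsScalarTower.algebraMap_apply A (A ⧸ J) B₀]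
      change algebraMap (A ⧸ J) B₀ (Ideal.Quotient.mk J x) = 0
      rw [Ideal.Quotient.eq_zero_iff_mem.2 hx, map_zero])
  let iBC : Algebra B C := j.toRingHom.toAlgebra
  let iBB₀ : Algebra B B₀ := q.toRingHom.toAlgebra
  have t3 : IsScalarTower A B C := IsScalarTower.of_algebraMap_eq fun a => (j.commutes a).symm
  have t4 : IsScalarTower A B B₀ := IsScalarTower.of_algebraMap_eq fun a => (q.commutes a).symm
  have t5 : Module.Flat B C := f6
  have t6 : Algebra.FormallyUnramified B C := f7
  have t7 : Algebra.FiniteType B C := Algebra.FiniteType.of_restrictScalars_finiteType A B C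
  have t8 : IsNoetherianRing B := Algebra.FiniteType.isNoetherianRing A B
  have t9 : Algebra.FinitePresentation B C := Algebra.FinitePresentation.of_finiteType.1 t7
  have t10 : Algebra.FormallyEtale B C := K635.FlatUnram.formallyEtale B C
  exact ⟨B, _, _, iBC, t3, iBB₀, t4, f4, ⟨t10, t9⟩, f5, f1, f2, fun b => (f3 b).symm⟩

end Groth.Agent.S8805
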