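import Groth.Statements.S8811
import Groth.Agent.Algz.K164.MainB
import Groth.Agent.Algz.K573.BlowGeo
import Groth.Agent.Algz.K573.BlowDim
import Groth.Agent.Flat2C.BlowExist

set_option autoImplicit false
attribute [-instance] AlgebraicGeometry.specOverSpec Groth.Agent.FormalB.PpHat.overSelf CategoryTheory.catToReflQuiver
universe u
open CategoryTheory AlgebraicGeometry Opposite
open Algz

namespace Groth.Agent.S8811

/-- Algebraization for ideals with few generators; main assertion: Let A be a Noetherian ring with a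
dualizing complex, I ⊆ 𝔞 ideals, U the complement of V(𝔞) in Spec A, and (F_n) an object of Coh(U,
IO_U). Assume V(I) = V(f_1, …, f_d) for some d ≥ 1 and f_1, …, f_d ∈ A, and that either (a) (F_n)
satisfies the (d + 1, d + 2)-inequalities, or (b) for every point y of U lying in V(I) and every
prime p of the completed local ring O^∧_{U,y} not containing I·O^∧_{U,y} one has depth((F^∧_y)_p) +
dim(O^∧_{U,y}/p) + δ(y) > d + 2, where δ(y) is the distance from y to the complement of U inside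
V(I). Then (F_n) extends to Spec A. (The addendum for I-adically complete A is not stated.) -/
theorem result (A : Type u) [CommRing A] [IsNoetherianRing A] (hdc : ∃ ω : Dual.D A, Dual.IsDualizing A ω) (I 𝔞 : Ideal A) (hI𝔞 : I ≤ 𝔞) (G : ℕᵒᵖ ⥤ (↑(LocCoh.puncturedOpen A 𝔞) : Scheme.{u}).Modules) (hG : Formal.IsCohFormal I G) (d : ℕ) (hd : 1 ≤ d) (f : Fin d → A) (hV : PrimeSpectrum.zeroLocus (R := A) I = PrimeSpectrum.zeroLocus (R := A) (Set.range f)) (h3 : Algz.AbIneq A I (LocCoh.puncturedOpen A 𝔞) G (d + 1) (d + 2) ∨ ∀ (y : (↑(LocCoh.puncturedOpen A 𝔞) : Scheme.{u})) (hy : (LocCoh.puncturedOpen A 𝔞).ι.base y ∈ PrimeSpectrum.zeroLocus (R := A) I), ∀ P : PrimeSpectrum (Algz.hatRing I y), ¬ Algz.hatIdeal I y ≤ P.asIdeal → ((d + 2 : ℕ) : ℕ∞) < Algz.depthAt P ↥(Algz.hatStalk I G y) + Order.coheight P + Algz.deltaYZ A I (LocCoh.puncturedOpen A 𝔞) ⟨(LocCoh.puncturedOpen A 𝔞).ι.base y, hy⟩) : Algz.Extends I (LocCoh.puncturedOpen A 𝔞) G := by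
  have hV' : PrimeSpectrum.zeroLocus (I : Set A) =
      PrimeSpectrum.zeroLocus ((Ideal.span (Set.range f) : Ideal A) : Set A) := by
    rw [PrimeSpectrum.zeroLocus_span]; exact hV
  have hIJ : I.radical = (Ideal.span (Set.range f)).radical := (PrimeSpectrum.zeroLocus_eq_iff).1 hV'
  have hUU : LocCoh.puncturedOpen A I = LocCoh.puncturedOpen A (Ideal.span (Set.range f)) := by
    ext x
    exact not_congr (Set.ext_iff.1 hV' x)
  obtain ⟨X', b, hb⟩ : ∃ (X' : Scheme.{u}) (b : X' ⟶ Spec (CommRingCat.of A)),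
      BlowUp.IsBlowUp b (Scheme.IdealSheafData.ofIdealTop
        ((Ideal.span (Set.range f)).map (Scheme.ΓSpecIso (CommRingCat.of A)).inv.hom)) :=
    ⟨_, _, Groth.Agent.Flat2C.BlowExist.isBlowUp_b _⟩
  have hp : IsProper b := K573.BlowGeo.isProper A _ b hb (IsNoetherian.noetherian _)
  have hi := K573.BlowGeo.isIso_restrict A _ b hb
  rw [← hUU] at hi
  have hch : K164.Cov.HasCharts (Ideal.span (Set.range f)) b := fun x' => by
    obtain ⟨B, i1, i2, φ, hφ, t, h1, h2, h3, -⟩ := K573.BlowGeo.exists_chart A _ b hb x'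
    exact ⟨B, i1, i2, φ, hφ, t, h1, h2, h3⟩
  exact K164.MainB.main A hdc I _ 𝔞 hI𝔞 hIJ G hG d X' b hi hch
    (K573.BlowDim.fibre_dim A d f b hb) h3

end Groth.Agent.S8811
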