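import Groth.Statements.S8807
import Groth.Agent.S8811
import Groth.Agent.Algz.K155.CMExt

set_option autoImplicit false
attribute [-instance] AlgebraicGeometry.specOverSpec Groth.Agent.FormalB.PpHat.overSelf CategoryTheory.catToReflQuiver
universe u
open CategoryTheory AlgebraicGeometry Opposite
open Algz

namespace Groth.Agent.S8807

/-- Let (A, m) be a Noetherian local ring with a dualizing complex, I ⊆ 𝔞 ideals, U the complement of
V(𝔞) in Spec A, and (F_n) an object of Coh(U, IO_U). Assume: (2) all irreducible components of Spec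
A have the same dimension, i.e. dim(A/p) = dim A for every minimal prime p; (3) the open subscheme
Spec A ∖ V(I) is Cohen–Macaulay, i.e. A_p is a Cohen–Macaulay local ring for every prime p not
containing I; (4) I is generated by d elements; (5) dim(A/𝔞) + d + 2 < dim A; (6) for every point y
of U lying in V(I), the completed stalk F^∧_y is finite locally free outside V(I·O^∧_{U,y}): its
localization at every prime of the completed local ring O^∧_{U,y} not containing I·O^∧_{U,y} is a
finite free module. Then (F_n) extends to Spec A. (The addendum for I-adically complete A, that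
(F_n) is then the completion of a coherent module on U, is not stated.) -/
theorem result (A : Type u) [CommRing A] [IsNoetherianRing A] [IsLocalRing A] (hdc : ∃ ω : Dual.D A, Dual.IsDualizing A ω) (I 𝔞 : Ideal A) (hI𝔞 : I ≤ 𝔞) (G : ℕᵒᵖ ⥤ (↑(LocCoh.puncturedOpen A 𝔞) : Scheme.{u}).Modules) (hG : Formal.IsCohFormal I G) (h2 : ∀ p : Ideal A, p ∈ minimalPrimes A → ringKrullDim (A ⧸ p) = ringKrullDim A) (h3 : ∀ p : PrimeSpectrum A, ¬ I ≤ p.asIdeal → LocCoh.IsCohenMacaulayLocalRing (Localization.AtPrime p.asIdeal)) (d : ℕ) (h4 : ∃ f : Fin d → A, I = Ideal.span (Set.range f)) (h5 : ringKrullDim (A ⧸ 𝔞) + ((d + 2 : ℕ) : WithBot ℕ∞) < ringKrullDim A) (h6 : ∀ (y : (↑(LocCoh.puncturedOpen A 𝔞) : Scheme.{u})), (LocCoh.puncturedOpen A 𝔞).ι.base y ∈ PrimeSpectrum.zeroLocus (R := A) I → ∀ P : PrimeSpectrum (Algz.hatRing I y), ¬ Algz.hatIdeal I y ≤ P.asIdeal → Module.Finite (Localization.AtPrime P.asIdeal) (LocalizedModule P.asIdeal.primeCompl ↥(Algz.hatStalk I G y)) ∧ Module.Free (Localization.AtPrime P.asIdeal) (LocalizedModule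 P.asIdeal.primeCompl ↥(Algz.hatStalk I G y))) : Algz.Extends I (LocCoh.puncturedOpen A 𝔞) G :=
  K155.CMExt.main A hdc I 𝔞 G h2 h3 d h5 h6 h4 (fun d hd f hV h => Groth.Agent.S8811.result A hdc I 𝔞 hI𝔞 G hG d hd f hV (Or.inr h))

end Groth.Agent.S8807
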