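import Groth.Statements.S8809
import Groth.Agent.Algz.K572.ExtOne
import Groth.Agent.S0326

set_option autoImplicit false
universe u
open CategoryTheory AlgebraicGeometry Opposite
open Algz

attribute [-instance] AlgebraicGeometry.specOverSpec

namespace Groth.Agent.S8809

/-- Let (A, m) be a Noetherian local ring with a dualizing complex, f ∈ m and I = (f), U = Spec A ∖ {m}
the punctured spectrum, and (F_n) an object of Coh(U, IO_U) which satisfies the (2, 3)-inequalities.
Then (F_n) extends to Spec A. (The addendum for I-adically complete A, that (F_n) is then the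
completion of a coherent module on U, is not stated.) -/
theorem result (A : Type u) [CommRing A] [IsNoetherianRing A] [IsLocalRing A] (hdc : ∃ ω : Dual.D A, Dual.IsDualizing A ω) (f : A) (hf : f ∈ IsLocalRing.maximalIdeal A) (I : Ideal A) (hI : I = Ideal.span {f}) (G : ℕᵒᵖ ⥤ (↑(LocCoh.puncturedOpen A (IsLocalRing.maximalIdeal A)) : Scheme.{u}).Modules) (hG : Formal.IsCohFormal I G) (h4 : Algz.AbIneq A I (LocCoh.puncturedOpen A (IsLocalRing.maximalIdeal A)) G 2 3) : Algz.Extends I (LocCoh.puncturedOpen A (IsLocalRing.maximalIdeal A)) G := by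
  subst hI
  refine K572.ExtOne.extends_of_abIneq hdc _ _ ?_ ?_ G hG h4
  · rw [Ideal.span_singleton_le_iff_mem]
    exact hf
  · have h := Groth.Agent.S0326.result A {f}
    rwa [Finset.coe_singleton, Finset.card_singleton] at h

end Groth.Agent.S8809
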