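import Groth.Statements.S8810
import Groth.Agent.Algz.K572.ExtOne

set_option autoImplicit false
universe u
open CategoryTheory AlgebraicGeometry Opposite
open Algz

attribute [-instance] AlgebraicGeometry.specOverSpec

namespace Groth.Agent.S8810

/-- Algebraization in cohomological dimension 1; main assertion: Let A be a Noetherian ring with a
dualizing complex, I ⊆ 𝔞 ideals with cd(A, I) = 1, U the complement of V(𝔞) in Spec A, and (F_n) an
object of Coh(U, IO_U) satisfying the (2, 3)-inequalities. Then (F_n) extends to Spec A. (The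
addendum for I-adically complete A is not stated.) -/
theorem result (A : Type u) [CommRing A] [IsNoetherianRing A] (hdc : ∃ ω : Dual.D A, Dual.IsDualizing A ω) (I 𝔞 : Ideal A) (hI𝔞 : I ≤ 𝔞) (h1 : LocCoh.CdLE A I 1) (h0 : ¬ LocCoh.CdLE A I 0) (G : ℕᵒᵖ ⥤ (↑(LocCoh.puncturedOpen A 𝔞) : Scheme.{u}).Modules) (hG : Formal.IsCohFormal I G) (h2 : Algz.AbIneq A I (LocCoh.puncturedOpen A 𝔞) G 2 3) : Algz.Extends I (LocCoh.puncturedOpen A 𝔞) G := by
  exact K572.ExtOne.extends_of_abIneq hdc I 𝔞 hI𝔞 h1 G hG h2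

end Groth.Agent.S8810
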