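import Groth.Statements.S8818
import Groth.Agent.Algz.K572.CdOneMain

set_option autoImplicit false
universe u
open CategoryTheory AlgebraicGeometry Opposite
open Algz

namespace Groth.Agent.S8818

/-- Let A be a Noetherian ring with a dualizing complex, I ⊆ 𝔞 ideals with cd(A, I) = 1, U the
complement of V(𝔞) in Spec A, and (F_n) an object of Coh(U, IO_U). Suppose one can find an inverse
system (F''_n), each term of which is a coherent O_U-module, together with a pro-isomorphism between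
(F_n) and (F''_n), where the stalks obey the bound depth(F''_{n,y}) + δ(y) ≥ 3 for every n and every
point y of U lying in V(I), where δ(y) is the distance from y to the complement of U inside V(I) and
the depth is that of the stalk over the local ring O_{U,y}. Then (F_n) extends canonically to Spec
A. -/
theorem result (A : Type u) [CommRing A] [IsNoetherianRing A] (hdc : ∃ ω : Dual.D A, Dual.IsDualizing A ω) (I 𝔞 : Ideal A) (hI𝔞 : I ≤ 𝔞) (h1 : LocCoh.CdLE A I 1) (h0 : ¬ LocCoh.CdLE A I 0) (G : ℕᵒᵖ ⥤ (↑(LocCoh.puncturedOpen A 𝔞) : Scheme.{u}).Modules) (hG : Formal.IsCohFormal I G) (G'' : ℕᵒᵖ ⥤ (↑(LocCoh.puncturedOpen A 𝔞) : Scheme.{u}).Modules) (hcoh : ∀ n : ℕᵒᵖ, Coh.IsCoh (G''.obj n)) (hpro : Algz.IsProIsomorphic G G'') (hdepth : ∀ (n : ℕᵒᵖ) (y : (↑(LocCoh.puncturedOpen A 𝔞) : Scheme.{u})) (hy : (LocCoh.puncturedOpen A 𝔞).ι.base y ∈ PrimeSpectrum.zeroLocus (R := A) I), (3 : ℕ∞) ≤ LocCoh.depth ((↑(LocCoh.puncturedOpen A 𝔞) : Scheme.{u}).presheaf.stalk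 y) ((G''.obj n).presheaf.stalk y) + Algz.deltaYZ A I (LocCoh.puncturedOpen A 𝔞) ⟨(LocCoh.puncturedOpen A 𝔞).ι.base y, hy⟩) : Algz.CanonicallyExtends A I (LocCoh.puncturedOpen A 𝔞) G := by

  exact K572.CdOneMain.main hdc I 𝔞 hI𝔞 h1 h0 G hG G'' hcoh hpro hdepth

end Groth.Agent.S8818
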