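import Groth.Statements.S8822
import Groth.Agent.Ega4A.CompleteNoeth
import Groth.Agent.Ega1.LimitSystem

set_option autoImplicit false
universe u v
open AdicRing

namespace Groth.Agent.S8822

/-- Let A be a Noetherian ring and I an ideal. Let B be an A-algebra which is complete for the IB-adic
topology and such that B/IB is of finite type over A, and let J be an ideal of B. Then B/J is
complete for the I(B/J)-adic topology (so B/J is again an object of the same category, the finite
type condition on (B/J)/I(B/J) being immediate). -/
theorem result (A : Type u) [CommRing A] [IsNoetherianRing A] (I : Ideal A) (B : Type v) [CommRing B] [Algebra A B] [IsAdicComplete (I.map (algebraMap A B)) B] (hB : Algebra.FiniteType A (B ⧸ I.map (algebraMap A B))) (J : Ideal B) : IsAdicComplete (I.map (algebraMap A (B ⧸ J))) (B ⧸ J) := by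
  have : IsNoetherianRing (B ⧸ I.map (algebraMap A B)) := Algebra.FiniteType.isNoetherianRing A _
  have : IsNoetherianRing B :=
    Groth.Agent.Ega4A.CompleteNoeth.isNoetherianRing_of_isAdicComplete (I.map (algebraMap A B))
      (Ideal.FG.map (IsNoetherian.noetherian I) _)
  have h : IsAdicComplete (I.map (algebraMap A B)) (B ⧸ J) :=
    Groth.Agent.Ega1.LimitSystem.isAdicComplete_of_finite
  rw [IsAdicComplete.map_algebraMap_iff] at h ⊢
  exact h

end Groth.Agent.S8822
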