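import Groth.Statements.S8823
import Groth.Agent.AdicRing.K23.EtNbhd2
import Groth.Agent.S0595
import Groth.Agent.S0536
import Groth.Agent.S0525
import Groth.Agent.S0543
import Groth.Agent.S0599
import Groth.Agent.S0600
import Groth.Agent.S1994
import Groth.Agent.S2051

set_option autoImplicit false
universe u
open AdicRing
open scoped TensorProduct

namespace Groth.Agent.S8823

/-- Let A be a Noetherian G-ring and I an ideal of A. Let B and C be A-algebras of finite type, φ an
A-algebra map from the IB-adic completion of B to the IC-adic completion of C, and N ≥ 1. Then one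
can find an etale C-algebra C' for which the induced map C/IC → C'/IC' is a bijection, together with
a homomorphism of A-algebras ψ : B → C' that approximates φ to order N: given any b ∈ B, some c ∈ C
satisfies ψ(b) − c ∈ I^N C', while the image of φ(b) in C/I^N C (the N-th truncation of the
completion) coincides with the class of c. -/
theorem result (A : Type u) [CommRing A] (hA : CAlg.IsGRing A) (I : Ideal A) (B C : Type u) [CommRing B] [Algebra A B] [Algebra.FiniteType A B] [CommRing C] [Algebra A C] [Algebra.FiniteType A C] (φ : (AdicCompletion (I.map (algebraMap A B)) B) →ₐ[A] (AdicCompletion (I.map (algebraMap A C)) C)) (N : ℕ) (hN : 1 ≤ N) : ∃ (C' : Type u) (_ : CommRing C') (_ : Algebra C C') (_ : Algebra A C') (_ : IsScalarTower A C C') (_ : Algebra.Etale C C') (ψ : B →ₐ[A] C'), ((∀ c' : C', ∃ c : C, algebraMap C C' c - c' ∈ I.map (algebraMap A C')) ∧ ∀ c : C, algebraMap C C' c ∈ I.map (algebraMap A C') → c ∈ I.map (algebraMap A C)) ∧ ∀ b : B, ∃ c : C, ψ b - algebraMap C C' c ∈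 (I.map (algebraMap A C')) ^ N ∧ AdicCompletion.eval (I.map (algebraMap A C)) C N (φ (AdicCompletion.of (I.map (algebraMap A B)) B b)) = Submodule.Quotient.mk c := by
  classical
  have hCG : CAlg.IsGRing C := Groth.Agent.S0599.result A hA C
  have hCN : IsNoetherianRing C := hCG.1
  generalize hIC' : I.map (algebraMap A C) = IC at φ ⊢
  have hreg := Groth.Agent.S0600.result C hCG IC
  have hnoeth : IsNoetherianRing (AdicCompletion IC C) := Groth.Agent.S0543.result C IC
  -- extend scalars to `C`
  let φ₀ : B →ₐ[A] AdicCompletion IC C :=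
    φ.comp (IsScalarTower.toAlgHom A B (AdicCompletion (I.map (algebraMap A B)) B))
  have hφ₀ : ∀ b, φ₀ b = φ (AdicCompletion.of (I.map (algebraMap A B)) B b) := fun b => rfl
  let h₀ : C ⊗[A] B →ₐ[C] AdicCompletion IC C :=
    Algebra.TensorProduct.lift (Algebra.ofId C _) φ₀ (fun _ _ => Commute.all _ _)
  have hfp : Algebra.FinitePresentation C (C ⊗[A] B) :=
    Algebra.FinitePresentation.of_finiteType.mp inferInstance
  obtain ⟨D, _, _, hD, g, h, hgh⟩ := Groth.Agent.S0595.result C (AdicCompletion IC C) hreg (C ⊗[A] B) h₀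
  obtain ⟨Ch, _, _, hCh⟩ := Groth.Agent.S2051.result C IC
  have hhens0 : HenselianRing Ch (IC.map (algebraMap C Ch)) := hCh.1
  have hhens : HenselianRing Ch ((IC ^ N).map (algebraMap C Ch)) := by
    rw [Ideal.map_pow, ← Groth.Agent.S0525.result Ch (IC.map (algebraMap C Ch))
      ((IC.map (algebraMap C Ch)) ^ N) (Ideal.radical_pow _ (by omega)).symm]
    infer_instance
  -- the map to `C/(IC)^N → Ch/(IC)^N Ch`
  let σ : D →ₐ[C] Ch ⧸ (IC ^ N).map (algebraMap C Ch) :=
    (Ideal.quotientMapₐ ((IC ^ N).map (algebraMap C Ch)) (Algebra.ofId C Ch)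
      (Ideal.le_comap_map : IC ^ N ≤ ((IC ^ N).map (algebraMap C Ch)).comap (algebraMap C Ch))).comp
      ((AdicCompletion.evalₐ IC N).comp h)
  obtain ⟨τ, hτ⟩ := Groth.Agent.S0536.result C D Ch ((IC ^ N).map (algebraMap C Ch)) σ
  have hDfp : Algebra.FinitePresentation C D := inferInstance
  obtain ⟨C', i1, i2, hC', ψ, g', hψ⟩ := K23.EtNbhd.exists_factor hCh D τ
  have het := hC'.1
  let i3 : Algebra A C' := ((algebraMap C C').comp (algebraMap A C)).toAlgebra
  have i4 : IsScalarTower A C C' := IsScalarTower.of_algebraMap_eq fun _ => rfl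
  have hIC'' : I.map (algebraMap A C') = IC.map (algebraMap C C') := by
    rw [← hIC', Ideal.map_map]; rfl
  refine ⟨C', i1, i2, i3, i4, het, (((ψ.comp g).restrictScalars A).comp
    Algebra.TensorProduct.includeRight : B →ₐ[A] C'), ⟨fun c' => ?_, fun c hc => ?_⟩, fun b => ?_⟩
  · rw [hIC'']
    exact hC'.2.1 c'
  · rw [hIC''] at hc
    exact hC'.2.2 c hc
  · obtain ⟨c, hc⟩ := Ideal.Quotient.mk_surjective (AdicCompletion.evalₐ IC N (φ₀ b))
    refine ⟨c, ?_, ?_⟩
    · rw [hIC'', ← Ideal.map_pow]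
      apply hC'.mem_of_map_mem hCh g'
      change g' (ψ (g (1 ⊗ₜ b)) - algebraMap C C' c) ∈ _
      rw [map_sub, hψ, AlgHom.commutes, ← Ideal.Quotient.mk_eq_mk_iff_sub_mem]
      have h1 : Ideal.Quotient.mk ((IC ^ N).map (algebraMap C Ch)) (τ (g (1 ⊗ₜ b))) =
          σ (g (1 ⊗ₜ b)) := DFunLike.congr_fun hτ (g (1 ⊗ₜ b))
      have h2 : h (g (1 ⊗ₜ b)) = φ₀ b := by
        have := DFunLike.congr_fun hgh (1 ⊗ₜ[A] b)
        rw [AlgHom.comp_apply] at this
        rw [this]
        change Algebra.TensorProduct.lift _ _ _ (1 ⊗ₜ[A] b) = _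
        rw [Algebra.TensorProduct.lift_tmul, map_one, one_mul]
      rw [h1]
      change Ideal.quotientMapₐ ((IC ^ N).map (algebraMap C Ch)) (Algebra.ofId C Ch)
        (Ideal.le_comap_map : IC ^ N ≤ ((IC ^ N).map (algebraMap C Ch)).comap (algebraMap C Ch))
        (AdicCompletion.evalₐ IC N (h (g (1 ⊗ₜ b)))) = _
      rw [h2, ← hc]
      rfl
    · rw [K23.EtNbhd.eval_eq_mk_iff, hc]
      rfl

end Groth.Agent.S8823
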