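import Groth.Statements.S8824
import Groth.Agent.Algz.K164.MainB
import Groth.Agent.Algz.K573.BlowGeo

set_option autoImplicit false
attribute [-instance] AlgebraicGeometry.specOverSpec Groth.Agent.FormalB.PpHat.overSelf CategoryTheory.catToReflQuiver
universe u
open CategoryTheory AlgebraicGeometry Opposite Limits
open Algz

namespace Groth.Agent.S8824

/-- Let A be a Noetherian ring with a dualizing complex, I ⊆ 𝔞 ideals, U the complement of V(𝔞) in Spec
A, and (F_n) an object of Coh(U, IO_U). Let b : X' → Spec A be a blowing up of Spec A in the ideal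
sheaf generated by I, all of whose fibres have dimension at most d − 1 (stated as: dimension + 1 ≤
d, so that empty fibres are allowed). Assume either (a) (F_n) satisfies the (d + 1, d +
2)-inequalities, or (b) for every point y of U lying in V(I) and every prime p of the completed
local ring O^∧_{U,y} not containing I·O^∧_{U,y} one has depth((F^∧_y)_p) + dim(O^∧_{U,y}/p) + δ(y) >
d + 2, δ(y) the distance from y to the complement of U inside V(I). Then (F_n) extends to Spec A. -/
theorem result (A : Type u) [CommRing A] [IsNoetherianRing A] (hdc : ∃ ω : Dual.D A, Dual.IsDualizing A ω) (I 𝔞 : Ideal A) (hI𝔞 : I ≤ 𝔞) (G : ℕᵒᵖ ⥤ (↑(LocCoh.puncturedOpen A 𝔞) : Scheme.{u}).Modules) (hG : Formal.IsCohFormal I G) (d : ℕ) (X' : Scheme.{u}) (b : X' ⟶ (Spec (CommRingCat.of A))) (hb : BlowUp.IsBlowUp b (Scheme.IdealSheafData.ofIdealTop (I.map (Scheme.ΓSpecIso (CommRingCat.of A)).inv.hom))) (hfib : ∀ x : (Spec (CommRingCat.of A)), topologicalKrullDim ↑(pullback b ((Spec (CommRingCat.of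 A)).fromSpecResidueField x)) + 1 ≤ (d : WithBot ℕ∞)) (h3 : Algz.AbIneq A I (LocCoh.puncturedOpen A 𝔞) G (d + 1) (d + 2) ∨ ∀ (y : (↑(LocCoh.puncturedOpen A 𝔞) : Scheme.{u})) (hy : (LocCoh.puncturedOpen A 𝔞).ι.base y ∈ PrimeSpectrum.zeroLocus (R := A) I), ∀ P : PrimeSpectrum (Algz.hatRing I y), ¬ Algz.hatIdeal I y ≤ P.asIdeal → ((d + 2 : ℕ) : ℕ∞) < Algz.depthAt P ↥(Algz.hatStalk I G y) + Order.coheight P + Algz.deltaYZ A I (LocCoh.puncturedOpen A 𝔞) ⟨(LocCoh.puncturedOpen A 𝔞).ι.base y, hy⟩) : Algz.Extends I (LocCoh.puncturedOpen A 𝔞) G := by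
  have hp : IsProper b := K573.BlowGeo.isProper A I b hb (IsNoetherian.noetherian I)
  have hi := K573.BlowGeo.isIso_restrict A I b hb
  have hch : K164.Cov.HasCharts I b := fun x' => by
    obtain ⟨B, i1, i2, φ, hφ, t, h1, h2, h3, -⟩ := K573.BlowGeo.exists_chart A I b hb x'
    exact ⟨B, i1, i2, φ, hφ, t, h1, h2, h3⟩
  exact K164.MainB.main A hdc I I 𝔞 hI𝔞 rfl G hG d X' b hi hch hfib h3

end Groth.Agent.S8824
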