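import Groth.Statements.S8825
import Groth.Agent.S8804
import Groth.Agent.S0598
import Groth.Agent.S0599
import Groth.Agent.S0600
import Groth.Agent.S0543
import Groth.Agent.Flat2G.SmoothRegNorm

set_option autoImplicit false
universe u
open AdicRing

namespace Groth.Agent.S8825

/-- Let A be a Noetherian ring which is complete for the adic topology of an ideal I, let p be a
rig-closed prime of A (I ⊄ p and p is maximal among the primes not containing I), and let n ≥ 1.
Then the ring map from A/p to the restricted power series ring (A/p){x_1, …, x_n}, i.e. the I-adic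
completion of the polynomial ring (A/p)[x_1, …, x_n], is a regular ring map (flat, with Noetherian
and geometrically regular fibres). (The consequence for the fibre over the fraction field is not
stated.) -/
theorem result (A : Type u) [CommRing A] [IsNoetherianRing A] (I : Ideal A) [IsAdicComplete I A] (p : PrimeSpectrum A) (hp : ¬ I ≤ p.asIdeal ∧ ∀ q : PrimeSpectrum A, p ≤ q → ¬ I ≤ q.asIdeal → q = p) (n : ℕ) (hn : 1 ≤ n) : CAlg.IsRegularHom (A ⧸ p.asIdeal) (AdicCompletion (I.map (algebraMap A (MvPolynomial (Fin n) (A ⧸ p.asIdeal)))) (MvPolynomial (Fin n) (A ⧸ p.asIdeal))) := by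
  have h := ((Groth.Agent.S8804.result A I p).out 0 2).mp hp
  obtain ⟨hdim, hmax, hcompl⟩ := h
  have hnt : Nontrivial (A ⧸ p.asIdeal) := inferInstance
  have hloc : IsLocalRing (A ⧸ p.asIdeal) := by
    refine IsLocalRing.of_unique_max_ideal ?_
    obtain ⟨m, hm⟩ := Ideal.exists_maximal (A ⧸ p.asIdeal)
    exact ⟨m, hm, fun m' hm' => (hmax m' hm').trans (hmax m hm).symm⟩
  have hcm : IsAdicComplete (IsLocalRing.maximalIdeal (A ⧸ p.asIdeal)) (A ⧸ p.asIdeal) := by
    rw [hmax _ (IsLocalRing.maximalIdeal.isMaximal _)]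
    exact hcompl
  have hG : CAlg.IsGRing (A ⧸ p.asIdeal) := Groth.Agent.S0598.result (A ⧸ p.asIdeal)
  have hG' : CAlg.IsGRing (MvPolynomial (Fin n) (A ⧸ p.asIdeal)) :=
    Groth.Agent.S0599.result (A ⧸ p.asIdeal) hG _
  have hsm : Algebra.Smooth (A ⧸ p.asIdeal) (MvPolynomial (Fin n) (A ⧸ p.asIdeal)) := {}
  have h1 : CAlg.IsRegularHom (A ⧸ p.asIdeal) (MvPolynomial (Fin n) (A ⧸ p.asIdeal)) :=
    Groth.Agent.Flat2G.SmoothRegNorm.isRegularHom_of_smooth _ _
  have := Groth.Agent.S0543.result (MvPolynomial (Fin n) (A ⧸ p.asIdeal))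
    (I.map (algebraMap A (MvPolynomial (Fin n) (A ⧸ p.asIdeal))))
  have h2 := Groth.Agent.S0600.result (MvPolynomial (Fin n) (A ⧸ p.asIdeal)) hG'
    (I.map (algebraMap A (MvPolynomial (Fin n) (A ⧸ p.asIdeal))))
  exact Groth.Agent.CalgB.RegHom6.isRegularHom_comp h1 h2

end Groth.Agent.S8825
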