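import Groth.Statements.S8826
import Groth.Agent.AdicRing.K73.Rigid
import Groth.Agent.AdicRing.K73.Approx
import Groth.Agent.S1994
-- import your own Groth.Agent.* helpers here

set_option autoImplicit false
universe u
open AdicRing

namespace Groth.Agent.S8826

/-- Compatibility of the truncations of an element of a completion. -/
theorem eval_mono {R : Type u} [CommRing R] (J : Ideal R) {m n : ℕ} (h : m ≤ n)
    (x : AdicCompletion J R) (c : R) (hx : AdicCompletion.eval J R n x = Submodule.Quotient.mk c) :
    AdicCompletion.eval J R m x = Submodule.Quotient.mk c := by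
  have h2 : AdicCompletion.eval J R m x =
      AdicCompletion.transitionMap J R h (AdicCompletion.eval J R n x) := (x.2 h).symm
  rw [h2, hx]
  rfl


/-- Let A be a Noetherian ring and I an ideal. Let B be an A-algebra of finite type such that Spec B →
Spec A is etale over the complement of V(I) (B_a etale over A for every a ∈ I), let C be a
Noetherian A-algebra with a henselization Cʰ of the pair (C, IC), and let φ be an A-algebra map from
the IB-adic completion of B to the IC-adic completion of C. Then there is exactly one A-algebra map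
ψ : B → Cʰ which induces φ on completions, in the sense that for every n and every b ∈ B there is c
∈ C with ψ(b) − c ∈ I^n Cʰ and with the n-th truncation of φ(b) in C/I^n C equal to the class of c
(recall C/I^n C = Cʰ/I^n Cʰ). (The second assertion, that such maps factor through an etale
neighbourhood, is not stated.) -/
theorem result (A : Type u) [CommRing A] [IsNoetherianRing A] (I : Ideal A) (B : Type u) [CommRing B] [Algebra A B] [Algebra.FiniteType A B] (hB : ∀ a ∈ I, Algebra.Etale A (Localization.Away (algebraMap A B a))) (C : Type u) [CommRing C] [Algebra A C] [IsNoetherianRing C] (Ch : Type u) [CommRing Ch] [Algebra C Ch] [Algebra A Ch] [IsScalarTower A C Ch] (hCh : Hens2.IsPairHenselization C (I.map (algebraMap A C)) Ch) (φ : (AdicCompletion (I.map (algebraMap A B)) B) →ₐ[A] (AdicCompletion (I.map (algebraMap A C)) C)) : ∃! ψ : B →ₐ[A] Ch, ∀ (n : ℕ) (b : B), ∃ c : C, ψ b - algebraMap C Ch c ∈ (I.map (algebraMap A Ch)) ^ n ∧ AdicCompletion.eval (I.map (algebraMap A C)) C n (φ (AdicCompletion.of (I.map (algebraMap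 A B)) B b)) = Submodule.Quotient.mk c := by
  have hN := (Groth.Agent.S1994.result C (I.map (algebraMap A C)) Ch hCh).1
  have hflat := (Groth.Agent.S1994.result C (I.map (algebraMap A C)) Ch hCh).2.1
  have hmap : (I.map (algebraMap A C)).map (algebraMap C Ch) = I.map (algebraMap A Ch) := by
    rw [Ideal.map_map, ← IsScalarTower.algebraMap_eq]
  have hh : HenselianRing Ch (I.map (algebraMap A Ch)) := hmap ▸ hCh.1
  have hmapk : ∀ k : ℕ, ((I.map (algebraMap A C)) ^ k).map (algebraMap C Ch) =
      (I.map (algebraMap A Ch)) ^ k := by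
    intro k
    rw [Ideal.map_pow, hmap]
  -- rigidity
  obtain ⟨N0, hN0⟩ := K73.Rigid.exists_eq_of_sub_mem A I ((isNoetherianRing_iff_ideal_fg A).1 inferInstance I) B
    (fun a ha => by have := hB a ha; infer_instance) Ch hh.jac
  -- the truncations of `φ`
  have hcomp : ∀ (n : ℕ) (ψ ψ' : B →ₐ[A] Ch),
      (∀ b : B, ∃ c : C, ψ b - algebraMap C Ch c ∈ (I.map (algebraMap A Ch)) ^ n ∧
        AdicCompletion.eval (I.map (algebraMap A C)) C n
          (φ (AdicCompletion.of (I.map (algebraMap A B)) B b)) = Submodule.Quotient.mk c) →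
      (∀ b : B, ∃ c : C, ψ' b - algebraMap C Ch c ∈ (I.map (algebraMap A Ch)) ^ n ∧
        AdicCompletion.eval (I.map (algebraMap A C)) C n
          (φ (AdicCompletion.of (I.map (algebraMap A B)) B b)) = Submodule.Quotient.mk c) →
      ∀ b, ψ b - ψ' b ∈ (I.map (algebraMap A Ch)) ^ n := by
    intro n ψ ψ' h h' b
    obtain ⟨c, hc, hc2⟩ := h b
    obtain ⟨c', hc', hc2'⟩ := h' b
    have h1 : c - c' ∈ (I.map (algebraMap A C)) ^ n := by
      have := (Submodule.Quotient.eq _).1 (hc2.symm.trans hc2')
      simpa using this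
    have h2 : algebraMap C Ch (c - c') ∈ (I.map (algebraMap A Ch)) ^ n := by
      rw [← hmapk]
      exact Ideal.mem_map_of_mem _ h1
    have h3 := add_mem (sub_mem hc hc') h2
    rw [map_sub] at h3
    convert h3 using 1
    ring
  have hmono : ∀ (m n : ℕ) (hmn : m ≤ n) (ψ : B →ₐ[A] Ch),
      (∀ b : B, ∃ c : C, ψ b - algebraMap C Ch c ∈ (I.map (algebraMap A Ch)) ^ n ∧
        AdicCompletion.eval (I.map (algebraMap A C)) C n
          (φ (AdicCompletion.of (I.map (algebraMap A B)) B b)) = Submodule.Quotient.mk c) →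
      (∀ b : B, ∃ c : C, ψ b - algebraMap C Ch c ∈ (I.map (algebraMap A Ch)) ^ m ∧
        AdicCompletion.eval (I.map (algebraMap A C)) C m
          (φ (AdicCompletion.of (I.map (algebraMap A B)) B b)) = Submodule.Quotient.mk c) := by
    intro m n hmn ψ h b
    obtain ⟨c, hc, hc2⟩ := h b
    refine ⟨c, Ideal.pow_le_pow_right hmn hc, ?_⟩
    exact eval_mono _ hmn _ _ hc2
  -- approximations
  have happ : ∀ n : ℕ, ∃ ψ : B →ₐ[A] Ch, ∀ b : B, ∃ c : C,
      ψ b - algebraMap C Ch c ∈ (I.map (algebraMap A Ch)) ^ n ∧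
        AdicCompletion.eval (I.map (algebraMap A C)) C n
          (φ (AdicCompletion.of (I.map (algebraMap A B)) B b)) = Submodule.Quotient.mk c := by
    intro n
    obtain ⟨N, hnN, hN⟩ := K73.Approx.exists_approx A I B (fun a ha => by have := hB a ha; infer_instance)
      C Ch hh n
    obtain ⟨ψ, hψ⟩ := hN (((AdicCompletion.evalₐ (I.map (algebraMap A C)) N).restrictScalars A).comp
      (φ.comp (IsScalarTower.toAlgHom A B (AdicCompletion (I.map (algebraMap A B)) B))))
    refine ⟨ψ, fun b => ?_⟩
    set x := φ (AdicCompletion.of (I.map (algebraMap A B)) B b) with hx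
    obtain ⟨c, hc⟩ := Ideal.Quotient.mk_surjective (AdicCompletion.evalₐ (I.map (algebraMap A C)) N x)
    have h1 : AdicCompletion.eval (I.map (algebraMap A C)) C N x = Submodule.Quotient.mk c := by
      have h2 := AdicCompletion.factor_evalₐ_eq_eval (I := I.map (algebraMap A C)) (n := N) x (by simp)
      rw [← hc] at h2
      exact h2.symm
    refine ⟨c, hψ b c hc.symm, ?_⟩
    exact eval_mono _ hnN _ _ h1
  obtain ⟨ψ, hψ⟩ := happ N0
  refine ⟨ψ, fun n b => ?_, fun ψ' hψ' => ?_⟩
  · obtain ⟨ψ', hψ'⟩ := happ (max n N0)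
    have : ψ = ψ' := hN0 ψ ψ' (hcomp N0 ψ ψ' hψ (hmono N0 _ (le_max_right _ _) ψ' hψ'))
    rw [this]
    exact hmono n _ (le_max_left _ _) ψ' hψ' b
  · exact hN0 ψ' ψ (hcomp N0 ψ' ψ (fun b => hψ' N0 b) hψ)

end Groth.Agent.S8826
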