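import Groth.Statements.S8831
import Groth.Prelude.Def_Canon
import Groth.Agent.S8832

set_option autoImplicit false
universe u
open CategoryTheory AlgebraicGeometry Opposite
open LocCoh

namespace Groth.Agent.S8831

/-- Let (A, m) be a Noetherian local ring and U = Spec A ∖ {m} the punctured spectrum. Suppose we are
given a system (F_n), indexed inversely by n, of coherent modules on U. In each positive degree i,
the cohomology groups H^i(U, F_n) then form a Mittag-Leffler system; concretely, given any n one can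
find r ≥ n such that for all s ≥ r the image of H^i(U, F_s) → H^i(U, F_n) equals the image of H^i(U,
F_r) → H^i(U, F_n). -/
theorem result (A : Type u) [CommRing A] [IsNoetherianRing A] [IsLocalRing A] (G : ℕᵒᵖ ⥤ (↑(LocCoh.puncturedOpen A (IsLocalRing.maximalIdeal A)) : Scheme.{u}).Modules) (hG : ∀ n : ℕᵒᵖ, Coh.IsCoh (G.obj n)) (i : ℕ) (hi : 0 < i) (n : ℕ) : ∃ (r : ℕ) (hnr : n ≤ r), ∀ (s : ℕ) (hrs : r ≤ s), Set.range (Sheaf.H.map ((SheafOfModules.toSheaf _).map (G.map (homOfLE (hnr.trans hrs : n ≤ s)).op)) i) = Set.range (Sheaf.H.map ((SheafOfModules.toSheaf _).map (G.map (homOfLE (hnr : n ≤ r)).op)) i) := by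
  have hart : IsArtinian A (Coh.HH (↑(LocCoh.puncturedOpen A (IsLocalRing.maximalIdeal A)) : Scheme.{u}) (G.obj (op n)) i) :=
    Groth.Agent.S8832.result A (G.obj (op n)) (hG _) i hi
  let F : ℕ →o (Submodule A (Coh.HH (↑(LocCoh.puncturedOpen A (IsLocalRing.maximalIdeal A)) : Scheme.{u}) (G.obj (op n)) i))ᵒᵈ :=
    ⟨fun t => OrderDual.toDual (LinearMap.range (Canon.HHlin A (G.map (homOfLE (Nat.le_add_right n t)).op) i)), by
      intro s t hst
      change LinearMap.range (Canon.HHlin A (G.map (homOfLE (Nat.le_add_right n t)).op) i) ≤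
        LinearMap.range (Canon.HHlin A (G.map (homOfLE (Nat.le_add_right n s)).op) i)
      rintro _ ⟨x, rfl⟩
      refine ⟨Canon.HHlin A (G.map (homOfLE (show n + s ≤ n + t by omega)).op) i x, ?_⟩
      change Sheaf.H.map _ i (Sheaf.H.map _ i x) = Sheaf.H.map _ i x
      have e : G.map (homOfLE (show n + s ≤ n + t by omega)).op ≫ G.map (homOfLE (Nat.le_add_right n s)).op =
        G.map (homOfLE (Nat.le_add_right n t)).op := (G.map_comp _ _).symm
      rw [← Sheaf.H.map_comp_apply, ← Functor.map_comp]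
      exact congrArg (fun q => Sheaf.H.map ((SheafOfModules.toSheaf _).map q) i x) e⟩
  obtain ⟨t, ht⟩ := IsArtinian.monotone_stabilizes F
  refine ⟨n + t, Nat.le_add_right n t, fun s hrs => ?_⟩
  obtain ⟨k, rfl⟩ : ∃ k, s = n + k := ⟨s - n, by omega⟩
  have h1 : LinearMap.range (Canon.HHlin A (G.map (homOfLE (Nat.le_add_right n t)).op) i) =
      LinearMap.range (Canon.HHlin A (G.map (homOfLE (Nat.le_add_right n k)).op) i) := ht k (by omega)
  exact (congrArg SetLike.coe h1).symm

end Groth.Agent.S8831
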