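import Groth.Statements.S8833
import Groth.Agent.LocCoh.K165.GrMod

set_option autoImplicit false
universe u
open scoped BigOperators TensorProduct
open LocCoh

namespace Groth.Agent.S8833

/-- Let A be a Noetherian ring, f_1, …, f_r ∈ A and I = (f_1, …, f_r) with cd(A, I) = 1; let c ≥ 1 and
φ_j : I^c → A be A-linear maps with x = Σ_j f_j φ_j(x) for all x ∈ I^c. Let B be a Noetherian
A-algebra and N a finite B-module. Then there is c' ≥ c with the following property. Write φ_j again
for the restrictions of the φ_j to I^{c'} and let Φ be a graded A-algebra homomorphism from ⊕_{n ≥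
0} I^{nc'} to A[T_1, …, T_r] with Φ(g) = Σ_j φ_j(g) T_j for g ∈ I^{c'} (there is exactly one; it is
encoded by functions Φ_n : A → A[T_1, …, T_r] whose values on I^{nc'} are additive, A-homogeneous,
homogeneous of degree n and multiplicative across degrees, with Φ_0 the structure map and Φ_1 as
prescribed). Then for every n there is a unique B-linear map Ψ_n from the submodule I^{nc'}N of N to
N[T_1, …, T_r] = B[T_1, …, T_r] ⊗_B N with Ψ_n(g x) = Φ_n(g) ⊗ x for g ∈ I^{nc'} and x ∈ N; that is,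
the Ψ_n form the unique graded B-module map from ⊕_n I^{nc'}N to N[T_1, …, T_r] with this property.
Moreover substituting T_j ↦ f_j after Ψ_n gives back the inclusion of I^{nc'}N into N. -/
theorem result (A : Type u) [CommRing A] [IsNoetherianRing A] (r : ℕ) (f : Fin r → A) (I : Ideal A) (hI : I = Ideal.span (Set.range f)) (h1 : LocCoh.CdLE A I 1) (h0 : ¬ LocCoh.CdLE A I 0) (c : ℕ) (hc : 1 ≤ c) (φ : Fin r → (↥(I ^ c) →ₗ[A] A)) (hφ : ∀ x : ↥(I ^ c), (x : A) = ∑ j, f j * φ j x) (B : Type u) [CommRing B] [Algebra A B] [IsNoetherianRing B] (N : Type u) [AddCommGroup N] [Module B N] [Module.Finite B N] : ∃ c' : ℕ, ∃ hcc' : c ≤ c', ∀ Φ : ℕ → A → MvPolynomial (Fin r) A, ((∀ n : ℕ, ∀ g ∈ I ^ (n * c'), ∀ h ∈ I ^ (n * c'), Φ n (g + h) = Φ n g + Φ n h) ∧ (∀ (n : ℕ) (a : A), ∀ g ∈ I ^ (n * c'), Φ n (a * g) = a • Φ n g) ∧ (∀ n : ℕ, ∀ g ∈ I ^ (n * c'), (Φ n g).IsHomogeneous n) ∧ (∀ n m : ℕ, ∀ g ∈ I ^ (n * c'), ∀ h ∈ I ^ (m * c'), Φ (n + m) (g * h) = Φ n g * Φ m h) ∧ (∀ a : A, Φ 0 a =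 MvPolynomial.C a) ∧ (∀ (g : A) (hg : g ∈ I ^ c'), Φ 1 g = ∑ j, MvPolynomial.C (φ j ⟨g, Ideal.pow_le_pow_right hcc' hg⟩) * MvPolynomial.X j)) → ∀ n : ℕ, ∃ Ψ : ↥(Submodule.span B {y : N | ∃ g ∈ I ^ (n * c'), ∃ x : N, y = algebraMap A B g • x}) →ₗ[B] (MvPolynomial (Fin r) B ⊗[B] N), (∀ (g : A) (hg : g ∈ I ^ (n * c')) (x : N), Ψ ⟨algebraMap A B g • x, Submodule.subset_span ⟨g, hg, x, rfl⟩⟩ = MvPolynomial.map (algebraMap A B) (Φ n g) ⊗ₜ[B] x) ∧ (∀ y : ↥(Submodule.span B {y : N | ∃ g ∈ I ^ (n * c'), ∃ x : N, y = algebraMap A B g • x}), TensorProduct.lift ((LinearMap.lsmul B N).comp (MvPolynomial.aeval (fun j ↦ algebraMap A B (f j))).toLinearMap) (Ψ y) = (y : N)) ∧ (∀ Ψ' : ↥(Submodule.span B {y : N | ∃ g ∈ I ^ (n * c'), ∃ x : N, y = algebraMap A B g • x}) →ₗ[B] (MvPolynomial (Fin r) B ⊗[B] N), (∀ (g : A) (hg : g ∈ I ^ (n * c')) (x : N), Ψ' ⟨algebraMap A B g • x, Submodule.subset_span ⟨g, hg, x, rfl⟩⟩ = MvPolynomial.map (algebraMap A B) (Φ n g) ⊗ₜ[B] x) → Ψ' = Ψ) := by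

  classical
  let R := MvPolynomial (Fin r) B
  let P := R ⊗[B] N
  let J : Ideal R := (I.map (algebraMap A B)).map (MvPolynomial.C (σ := Fin r) (R := B))
  obtain ⟨s, hs⟩ := K165.GrMod.exists_pow_bound (R := R) (P := P) J
  refine ⟨c + s, Nat.le_add_right _ _, ?_⟩
  intro Φ hΦ n
  obtain ⟨hadd, hsmul, hhom, hmul, hzero, hone⟩ := hΦ
  let ι := ↥(I ^ (n * (c + s))) × N
  let v : ι → N := fun i => algebraMap A B i.1.1 • i.2
  let w : ι → P := fun i => MvPolynomial.map (algebraMap A B) (Φ n i.1.1) ⊗ₜ[B] i.2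
  have hset : {y : N | ∃ g ∈ I ^ (n * (c + s)), ∃ x : N, y = algebraMap A B g • x} = Set.range v := by
    ext y
    constructor
    · rintro ⟨g, hg, x, rfl⟩
      exact ⟨(⟨g, hg⟩, x), rfl⟩
    · rintro ⟨⟨g, x⟩, rfl⟩
      exact ⟨g.1, g.2, x, rfl⟩
  have hmap : ∀ (a : A) (p : MvPolynomial (Fin r) A), MvPolynomial.map (algebraMap A B) (a • p) =
      MvPolynomial.C (algebraMap A B a) * MvPolynomial.map (algebraMap A B) p := by
    intro a p
    rw [MvPolynomial.smul_eq_C_mul, map_mul, MvPolynomial.map_C]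
  -- the key identity
  have key : ∀ (a : A) (ha : a ∈ I ^ (n * (c + s))) (l : ι →₀ B),
      (MvPolynomial.C (algebraMap A B a) : R) • Finsupp.linearCombination B w l =
        MvPolynomial.map (algebraMap A B) (Φ n a) • ((1 : R) ⊗ₜ[B] Finsupp.linearCombination B v l : P) := by
    intro a ha l
    induction l using Finsupp.induction_linear with
    | zero => simp
    | add l₁ l₂ h₁ h₂ => rw [map_add, map_add, smul_add, h₁, h₂, TensorProduct.tmul_add, smul_add]
    | single i b =>
      rw [Finsupp.linearCombination_single, Finsupp.linearCombination_single, TensorProduct.tmul_smul,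
        smul_comm _ b, smul_comm _ b]
      congr 1
      change (MvPolynomial.C (algebraMap A B a) : R) •
          (MvPolynomial.map (algebraMap A B) (Φ n i.1.1) ⊗ₜ[B] i.2 : P) =
        MvPolynomial.map (algebraMap A B) (Φ n a) • ((1 : R) ⊗ₜ[B] (algebraMap A B i.1.1 • i.2) : P)
      rw [← TensorProduct.smul_tmul, TensorProduct.smul_tmul', TensorProduct.smul_tmul']
      congr 1
      have e1 : (algebraMap A B i.1.1 • (1 : R)) = MvPolynomial.C (algebraMap A B i.1.1) := by
        rw [MvPolynomial.smul_eq_C_mul, mul_one]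
      rw [smul_eq_mul, smul_eq_mul, e1, ← hmap, mul_comm (MvPolynomial.map _ _) (MvPolynomial.C _),
        ← hmap, ← hsmul n a _ i.1.2, ← hsmul n i.1.1 _ ha, mul_comm]
  have hcoef : ∀ (g : A) (hg : g ∈ I ^ (n * (c + s))),
      MvPolynomial.map (algebraMap A B) (Φ n g) ∈ J ^ (n * s) := by
    intro g hg
    have h2 := K165.GrMod.coeff_mem (Nat.le_add_right c s) φ Φ hadd hmul hzero hone n g hg
    rw [Nat.add_sub_cancel_left] at h2
    have h3 := Ideal.mem_map_of_mem (MvPolynomial.map (σ := Fin r) (algebraMap A B)) h2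
    rw [Ideal.map_map] at h3
    have h4 : (MvPolynomial.map (algebraMap A B)).comp (MvPolynomial.C (σ := Fin r) (R := A)) =
        (MvPolynomial.C (σ := Fin r) (R := B)).comp (algebraMap A B) := by
      ext a
      simp
    rw [h4, ← Ideal.map_map, Ideal.map_pow, Ideal.map_pow] at h3
    exact h3
  have hker : ∀ l : ι →₀ B, Finsupp.linearCombination B v l = 0 →
      Finsupp.linearCombination B w l = 0 := by
    intro l hl
    rcases Nat.eq_zero_or_pos n with rfl | hn
    · have h1A : (1 : A) ∈ I ^ (0 * (c + s)) := by simp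
      have h2 := key 1 h1A l
      rw [hl, TensorProduct.tmul_zero, smul_zero, map_one, map_one, one_smul] at h2
      exact h2
    · refine hs _ ?_ (n * (c + s)) ?_
      · rw [Finsupp.linearCombination_apply]
        refine Submodule.sum_mem _ fun i _ => ?_
        have h5 : w i ∈ J ^ s • (⊤ : Submodule R P) := by
          have h6 : w i = MvPolynomial.map (algebraMap A B) (Φ n i.1.1) • ((1 : R) ⊗ₜ[B] i.2 : P) := by
            rw [TensorProduct.smul_tmul', smul_eq_mul, mul_one]
          rw [h6]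
          refine Submodule.smul_mem_smul (Ideal.pow_le_pow_right (Nat.le_mul_of_pos_left s hn) ?_)
            Submodule.mem_top
          exact hcoef _ i.1.2
        have h7 : l i • w i = (MvPolynomial.C (l i) : R) • w i := by
          rw [← MvPolynomial.algebraMap_eq, algebraMap_smul]
        change l i • w i ∈ _
        rw [h7]
        exact Submodule.smul_mem _ _ h5
      · have h8 : J ^ (n * (c + s)) ≤
            LinearMap.ker (LinearMap.toSpanSingleton R P (Finsupp.linearCombination B w l)) := by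
          have h9 : J ^ (n * (c + s)) = Ideal.span (((MvPolynomial.C (σ := Fin r) (R := B)).comp
              (algebraMap A B)) '' ((I ^ (n * (c + s)) : Ideal A) : Set A)) := by
            change _ = Ideal.map _ _
            rw [Ideal.map_pow, ← Ideal.map_map]
          rw [h9]
          refine Submodule.span_le.2 ?_
          rintro _ ⟨a, ha, rfl⟩
          rw [SetLike.mem_coe, LinearMap.mem_ker, LinearMap.toSpanSingleton_apply]
          change (MvPolynomial.C (algebraMap A B a) : R) • Finsupp.linearCombination B w l = 0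
          rw [key a ha l, hl, TensorProduct.tmul_zero, smul_zero]
        intro a ha
        exact h8 ha
  obtain ⟨Ψ, hΨ⟩ := K165.GrMod.exists_on_span v w
    (Submodule.span B {y : N | ∃ g ∈ I ^ (n * (c + s)), ∃ x : N, y = algebraMap A B g • x})
    (by rw [hset]) hker
  have hext : ∀ {M : Type u} [AddCommGroup M] [Module B M]
      (α β : ↥(Submodule.span B {y : N | ∃ g ∈ I ^ (n * (c + s)), ∃ x : N,
        y = algebraMap A B g • x}) →ₗ[B] M),
      (∀ (g : A) (hg : g ∈ I ^ (n * (c + s))) (x : N),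
        α ⟨algebraMap A B g • x, Submodule.subset_span ⟨g, hg, x, rfl⟩⟩ =
        β ⟨algebraMap A B g • x, Submodule.subset_span ⟨g, hg, x, rfl⟩⟩) → α = β := by
    intro M _ _ α β h
    ext ⟨y, hy⟩
    induction hy using Submodule.span_induction with
    | mem y hy =>
      obtain ⟨g, hg, x, rfl⟩ := hy
      exact h g hg x
    | zero => exact (map_zero α).trans (map_zero β).symm
    | add a b ha hb iha ihb =>
      have : (⟨a + b, Submodule.add_mem _ ha hb⟩ : ↥(Submodule.span B {y : N |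
        ∃ g ∈ I ^ (n * (c + s)), ∃ x : N, y = algebraMap A B g • x})) = ⟨a, ha⟩ + ⟨b, hb⟩ := rfl
      rw [this, map_add, map_add, iha, ihb]
    | smul k a ha iha =>
      have : (⟨k • a, Submodule.smul_mem _ k ha⟩ : ↥(Submodule.span B {y : N |
        ∃ g ∈ I ^ (n * (c + s)), ∃ x : N, y = algebraMap A B g • x})) = k • ⟨a, ha⟩ := rfl
      rw [this, map_smul, map_smul, iha]
  have hΨ' : ∀ (g : A) (hg : g ∈ I ^ (n * (c + s))) (x : N),
      Ψ ⟨algebraMap A B g • x, Submodule.subset_span ⟨g, hg, x, rfl⟩⟩ =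
        MvPolynomial.map (algebraMap A B) (Φ n g) ⊗ₜ[B] x := fun g hg x => hΨ (⟨g, hg⟩, x) _
  refine ⟨Ψ, hΨ', ?_, ?_⟩
  · intro y
    have h10 : (TensorProduct.lift ((LinearMap.lsmul B N).comp
        (MvPolynomial.aeval (fun j ↦ algebraMap A B (f j))).toLinearMap)).comp Ψ =
        Submodule.subtype _ := by
      refine hext _ _ fun g hg x => ?_
      rw [LinearMap.comp_apply, hΨ' g hg x, TensorProduct.lift.tmul]
      change (MvPolynomial.aeval (fun j ↦ algebraMap A B (f j))
        (MvPolynomial.map (algebraMap A B) (Φ n g))) • x = algebraMap A B g • x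
      congr 1
      have h11 := K165.GrMod.aeval_eq (Nat.le_add_right c s) φ Φ hadd hmul hzero hone f hφ n g hg
      conv_rhs => rw [← h11]
      rw [MvPolynomial.aeval_def, MvPolynomial.aeval_def, MvPolynomial.eval₂_map,
        MvPolynomial.eval₂_comp_left]
      rfl
    exact LinearMap.congr_fun h10 y
  · intro Ψ' hΨ''
    exact hext _ _ fun g hg x => (hΨ'' g hg x).trans (hΨ' g hg x).symm

end Groth.Agent.S8833
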