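import Groth.Statements.S8834
import Mathlib.RingTheory.FiniteType
import Mathlib.RingTheory.Finiteness.Ideal
import Mathlib.RingTheory.Ideal.BigOperators

set_option autoImplicit false
universe u
open AdicRing

namespace Groth.Agent.S8834

/-- Let A be a Noetherian ring complete for the adic topology of an ideal I and B a Noetherian ring
complete for the adic topology of an ideal J, with an algebra map A → B sending I into the radical
of J (a continuous homomorphism of adic Noetherian topological rings; the radicals of I and J are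
the ideals of topologically nilpotent elements). Assume B/√J is of finite type over A, equivalently
over A/√I. Then B is topologically of finite type over A: there are b_1, …, b_s ∈ B such that the
A-algebra map A[x_1, …, x_s] → B with x_i ↦ b_i has dense image for the J-adic topology, that is,
for every y ∈ B and every n there is a polynomial whose value at b differs from y by an element of
J^n. -/
theorem result (A : Type u) [CommRing A] [IsNoetherianRing A] (I : Ideal A) [IsAdicComplete I A] (B : Type u) [CommRing B] [Algebra A B] [IsNoetherianRing B] (J : Ideal B) [IsAdicComplete J B] (hIJ : I.map (algebraMap A B) ≤ J.radical) (hft : Algebra.FiniteType A (B ⧸ J.radical)) : ∃ s : ℕ, ∃ b : Fin s → B, ∀ (y : B) (n : ℕ), ∃ p : MvPolynomial (Fin s) A, y - MvPolynomial.aeval b p ∈ J ^ n := by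
  obtain ⟨N, hN⟩ : ∃ N, J.radical ^ N ≤ J :=
    J.exists_radical_pow_le_of_fg (IsNoetherian.noetherian _)
  obtain ⟨r, g, hg⟩ := Algebra.FiniteType.iff_quotient_mvPolynomial''.mp hft
  obtain ⟨t, c, hc⟩ := Submodule.fg_iff_exists_fin_generating_family.mp
    (IsNoetherian.noetherian J.radical)
  choose b₀ hb₀ using fun i => Ideal.Quotient.mk_surjective (g (MvPolynomial.X i))
  let b : Fin (r + t) → B := Fin.append b₀ c
  let φ : MvPolynomial (Fin (r + t)) A →ₐ[A] B := MvPolynomial.aeval b
  -- approximation modulo `√J`
  have h1 : ∀ y : B, ∃ p, y - φ p ∈ J.radical := by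
    intro y
    obtain ⟨q, hq⟩ := hg (Ideal.Quotient.mk _ y)
    refine ⟨MvPolynomial.rename (Fin.castAdd t) q, ?_⟩
    rw [← Ideal.Quotient.mk_eq_mk_iff_sub_mem, ← hq]
    have h2 : g = (Ideal.Quotient.mkₐ A J.radical).comp (φ.comp (MvPolynomial.rename (Fin.castAdd t))) := by
      apply MvPolynomial.algHom_ext
      intro i
      rw [← hb₀]
      simp [φ, b]
    rw [h2]
    rfl
  have h3 : ∀ (m : ℕ) (y : B), ∃ p, y - φ p ∈ J.radical ^ m := by
    intro m
    induction m with
    | zero => intro y; exact ⟨0, by simp⟩
    | succ m ih =>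
      intro y
      obtain ⟨p, hp⟩ := h1 y
      rw [← hc] at hp
      obtain ⟨d, hd⟩ := (Submodule.mem_span_range_iff_exists_fun B).mp hp
      choose q hq using fun i => ih (d i)
      refine ⟨p + ∑ i, q i * MvPolynomial.X (Fin.natAdd r i), ?_⟩
      have h4 : ∀ i, φ (MvPolynomial.X (Fin.natAdd r i)) = c i := by
        intro i
        simp [φ, b]
      rw [map_add, map_sum, ← sub_sub, ← hd, ← Finset.sum_sub_distrib]
      refine Ideal.sum_mem _ fun i _ => ?_
      rw [map_mul, h4, smul_eq_mul, ← sub_mul, pow_succ]
      refine Ideal.mul_mem_mul (hq i) ?_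
      rw [← hc]
      exact Submodule.subset_span ⟨i, rfl⟩
  refine ⟨r + t, b, fun y n => ?_⟩
  obtain ⟨p, hp⟩ := h3 (N * n) y
  exact ⟨p, (pow_mul J.radical N n ▸ Ideal.pow_right_mono hN n : J.radical ^ (N * n) ≤ J ^ n) hp⟩

end Groth.Agent.S8834
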