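import Groth.Statements.S8849
import Groth.Agent.SDiv.K470.FlatAway
import Groth.Agent.Divis.RelCartier
import Groth.Agent.Divis.BlowUpFormal

set_option autoImplicit false
universe u
open CategoryTheory CategoryTheory.Limits AlgebraicGeometry TopologicalSpace
open SDiv

namespace Groth.Agent.S8849

/-- Let f : X ⟶ S be a morphism of schemes and 𝓘 the ideal sheaf of an effective Cartier divisor D ⊆ X
with D flat over S (a relative effective Cartier divisor). If f is flat at every point of X not in
D, then f is flat. -/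
theorem result {X S : Scheme.{u}} (f : X ⟶ S) (𝓘 : X.IdealSheafData)
    (hD : BlowUp.IsEffCartierIdeal 𝓘 ∧ Flat (𝓘.subschemeι ≫ f))
    (hflat : ∀ x : ↥X, x ∉ 𝓘.support → (f.stalkMap x).hom.Flat) : Flat f := by
  obtain ⟨hI, hfl⟩ := hD
  have hW : Flat (Scheme.Opens.ι (X := X) 𝓘.support.compl ≫ f) := by
    apply Flat.of_stalkMap
    intro x
    rw [Scheme.Hom.stalkMap_comp]
    exact RingHom.Flat.comp (f := (f.stalkMap x.1).hom)
      (g := ((Scheme.Opens.ι (X := X) 𝓘.support.compl).stalkMap x).hom)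
      (hflat x.1 x.2) (RingHom.Flat.of_bijective (ConcreteCategory.bijective_of_isIso _))
  rw [HasRingHomProperty.iff_exists_appLE (P := @Flat)
    (RingHom.Flat.stableUnderComposition.stableUnderCompositionWithLocalizationAway
      RingHom.Flat.holdsForLocalizationAway).left]
  intro x
  obtain ⟨U, V, hxV, e, -, k, hk, hIk⟩ := Groth.Agent.Divis.RelCartier.exists_affine_generator f hI x ⊤ trivial
  refine ⟨U, V, hxV, e, ?_⟩
  have hq := Groth.Agent.Divis.RelCartier.flat_quotMap f 𝓘 hfl U V e
  have hle : X.basicOpen k ≤ 𝓘.support.compl := by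
    intro y hy hy'
    have hyV := X.basicOpen_le k hy
    have hy'' : y ∈ 𝓘.support := hy'
    rw [Scheme.IdealSheafData.mem_support_iff_of_mem hyV, hIk, Scheme.zeroLocus_span,
      Scheme.zeroLocus_singleton] at hy''
    exact hy'' hy
  have hloc := Groth.Agent.Divis.BlowUpFormal.flat_appLE_of_flat_ι (f := f) U.2 (V.2.basicOpen k) hle
    ((X.basicOpen_le k).trans e)
  have hk' := V.2.isLocalization_basicOpen k
  letI : Algebra Γ(S, U.1) Γ(X, V.1) := (f.appLE U.1 V.1 e).hom.toAlgebra
  letI : Algebra Γ(S, U.1) Γ(X, X.basicOpen k) := (f.appLE U.1 (X.basicOpen k) ((X.basicOpen_le k).trans e)).hom.toAlgebra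
  have : IsScalarTower Γ(S, U.1) Γ(X, V.1) Γ(X, X.basicOpen k) := by
    refine IsScalarTower.of_algebraMap_eq fun r => ?_
    change (f.appLE U.1 (X.basicOpen k) _).hom r = (X.presheaf.map _).hom ((f.appLE U.1 V.1 e).hom r)
    rw [← CommRingCat.comp_apply, Scheme.Hom.appLE_map]
  have h1 : Module.Flat Γ(S, U.1) Γ(X, X.basicOpen k) := hloc
  refine K470.FlatAway.flat_of_flat_quotient_of_flat_away (Bk := Γ(X, X.basicOpen k)) k hk ?_
  rw [← hIk]
  exact hq

end Groth.Agent.S8849
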