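import Groth.Statements.S8850
import Groth.Agent.Flat2C.DisjointStep

set_option autoImplicit false
universe u
open CategoryTheory CategoryTheory.Limits AlgebraicGeometry TopologicalSpace
open SDiv

namespace Groth.Agent.S8850

/-- Let S be a scheme, X a Noetherian S-scheme, Y a proper S-scheme, U ⊆ X an open subscheme and f : U ⟶
Y a morphism compatible with the structure morphisms to S. Then there are a proper morphism p : X' ⟶
X restricting to an isomorphism over U and an S-morphism f' : X' ⟶ Y whose restriction to p⁻¹(U) is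
f composed with p. The published statement takes U dense, so that f is an S-rational map; this row
allows any open U, which its proof does not need. -/
theorem result {X Y S : Scheme.{u}} [IsNoetherian X] (a : X ⟶ S) (b : Y ⟶ S)
    [IsProper b] (U : X.Opens) (f : (U : Scheme.{u}) ⟶ Y) (hf : f ≫ b = U.ι ≫ a) :
    ∃ (X' : Scheme.{u}) (p : X' ⟶ X) (f' : X' ⟶ Y), IsProper p ∧ IsIso (p ∣_ U) ∧ f' ≫ b = p ≫ a ∧
      (p ⁻¹ᵁ U).ι ≫ f' = (p ∣_ U) ≫ f := by
  have hP : IsLocallyNoetherian (pullback a b) :=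
    LocallyOfFiniteType.isLocallyNoetherian (pullback.fst a b)
  let κ : (U : Scheme.{u}) ⟶ pullback a b := pullback.lift U.ι f hf.symm
  have hκ₁ : κ ≫ pullback.fst _ _ = U.ι := pullback.lift_fst _ _ _
  have hκ₂ : κ ≫ pullback.snd _ _ = f := pullback.lift_snd _ _ _
  let O : (pullback a b).Opens := pullback.fst a b ⁻¹ᵁ U
  have hO : Set.range κ ⊆ Set.range O.ι := by
    rw [Scheme.Opens.range_ι]
    rintro _ ⟨v, rfl⟩
    change pullback.fst a b (κ v) ∈ U
    rw [← Scheme.Hom.comp_apply, hκ₁]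
    exact v.2
  let k : (U : Scheme.{u}) ⟶ O := IsOpenImmersion.lift O.ι κ hO
  have hk : k ≫ O.ι = κ := IsOpenImmersion.lift_fac _ _ _
  have h1 : k ≫ (pullback.fst a b ∣_ U) = 𝟙 _ := by
    rw [← cancel_mono U.ι, Category.assoc, morphismRestrict_ι, ← Category.assoc, hk, hκ₁, Category.id_comp]
  have hclk : IsClosedImmersion k := by
    have h2 : IsClosedImmersion (k ≫ (pullback.fst a b ∣_ U)) := by rw [h1]; infer_instance
    exact IsClosedImmersion.of_comp k (pullback.fst a b ∣_ U)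
  have hqc : QuasiCompact κ := by rw [← hk]; infer_instance
  let p : κ.image ⟶ X := κ.imageι ≫ pullback.fst a b
  let f' : κ.image ⟶ Y := κ.imageι ≫ pullback.snd a b
  have hp₁ : κ.toImage ≫ p = U.ι := by
    simp only [p, Scheme.Hom.toImage_imageι_assoc, hκ₁]
  have hp₂ : κ.toImage ≫ f' = f := by
    simp only [f', Scheme.Hom.toImage_imageι_assoc, hκ₂]
  have hr : Set.range κ.toImage ⊆ Set.range (p ⁻¹ᵁ U).ι := by
    rw [Scheme.Opens.range_ι]
    rintro _ ⟨v, rfl⟩
    change p (κ.toImage v) ∈ U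
    rw [← Scheme.Hom.comp_apply, hp₁]
    exact v.2
  let τ : (U : Scheme.{u}) ⟶ (p ⁻¹ᵁ U : Scheme.Opens _) := IsOpenImmersion.lift (p ⁻¹ᵁ U).ι κ.toImage hr
  have hτ : τ ≫ (p ⁻¹ᵁ U).ι = κ.toImage := IsOpenImmersion.lift_fac _ _ _
  have hpr : IsProper p := by dsimp only [p]; infer_instance
  have hτi : IsIso τ := Groth.Agent.Flat2C.DisjointStep.isIso_lift_toImage κ O k hk (p ⁻¹ᵁ U) rfl τ hτ
  have hτ₁ : τ ≫ (p ∣_ U) = 𝟙 _ := by
    rw [← cancel_mono U.ι, Category.assoc, morphismRestrict_ι, ← Category.assoc, hτ, hp₁, Category.id_comp]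
  refine ⟨κ.image, p, f', hpr, ?_, ?_, ?_⟩
  · have h3 : (p ∣_ U) = inv τ := by rw [← cancel_epi τ, hτ₁, IsIso.hom_inv_id]
    rw [h3]; infer_instance
  · simp only [f', p, Category.assoc, pullback.condition]
  · rw [← cancel_epi τ, ← Category.assoc, hτ, hp₂, reassoc_of% hτ₁]

end Groth.Agent.S8850
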