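import Groth.Statements.S8853
import Groth.Agent.Divis.CartierCompl

set_option autoImplicit false
universe u
open CategoryTheory CategoryTheory.Limits AlgebraicGeometry TopologicalSpace
open SDiv

namespace Groth.Agent.S8853

/-- Let Z be a locally principal closed subscheme of a scheme S, with ideal sheaf 𝓘 generated by a
single section on some affine open neighbourhood of each point of its support, and let U be the open
complement of Z. Then the inclusion U ⟶ S is an affine morphism. -/
theorem result {S : Scheme.{u}} (𝓘 : S.IdealSheafData) (h : Curv2.IsLocPrincipal 𝓘) :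
    IsAffineHom (Scheme.Opens.ι 𝓘.support.compl) := by
  apply isAffineHom_of_forall_exists_isAffineOpen
  intro x
  by_cases hx : x ∈ 𝓘.support
  · obtain ⟨U, hxU, f, hf⟩ := h x hx
    refine ⟨U.1, hxU, U.2, ?_⟩
    rw [← (Scheme.Opens.ι (X := S) 𝓘.support.compl).isAffineOpen_iff_of_isOpenImmersion,
      Groth.Agent.Divis.CartierCompl.image_preimage_eq,
      Groth.Agent.Divis.CartierCompl.compl_support_inf_eq_basicOpen 𝓘 U f hf]
    exact U.2.basicOpen f
  · obtain ⟨U, hU, hxU, hUW⟩ := exists_isAffineOpen_mem_and_subset (U := 𝓘.support.compl) (x := x) hx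
    refine ⟨U, hxU, hU, ?_⟩
    rw [← (Scheme.Opens.ι (X := S) 𝓘.support.compl).isAffineOpen_iff_of_isOpenImmersion,
      Groth.Agent.Divis.CartierCompl.image_preimage_eq, inf_eq_right.2 (show U ≤ 𝓘.support.compl from hUW)]
    exact hU

end Groth.Agent.S8853
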