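import Groth.Statements.S8854
import Groth.Agent.Divis.UfdIdeal

set_option autoImplicit false
universe u
open SDiv

namespace Groth.Agent.S8854

/-- Let R be a Noetherian unique factorisation domain and I ⊆ R an ideal such that every associated
prime of R/I is minimal over I (R/I has no embedded primes) and every prime minimal over I has
height 1. Then I is principal: it is generated by one element. -/
theorem result (R : Type u) [CommRing R] [IsDomain R] [IsNoetherianRing R]
    [UniqueFactorizationMonoid R] (I : Ideal R)
    (h1 : ∀ p : Ideal R, p ∈ associatedPrimes R (R ⧸ I) → p ∈ I.minimalPrimes)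
    (h2 : ∀ p : Ideal R, p ∈ I.minimalPrimes → p.height = 1) :
    ∃ f : R, I = Ideal.span {f} := by
  by_cases hI : I = ⊥
  · exact ⟨0, by simp [hI]⟩
  obtain ⟨f, hf⟩ := Groth.Agent.Divis.UfdIdeal.isPrincipal_of_assoc_principal I hI (fun p hp a ha => by
    have hass : p ∈ associatedPrimes R (R ⧸ I) := by
      change IsAssociatedPrime p (R ⧸ I)
      rw [isAssociatedPrime_iff]
      refine ⟨hp, Ideal.Quotient.mk I a, ?_⟩
      ext r
      rw [ha, Submodule.mem_colon_singleton, Submodule.mem_bot, ← Ideal.Quotient.eq_zero_iff_mem,
        Algebra.smul_def, map_mul]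
      rfl
    exact UniqueFactorizationMonoid.isPrincipal_of_height_eq_one (h2 p (h1 p hass)))
  exact ⟨f, hf⟩

end Groth.Agent.S8854
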