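import Groth.Statements.S8861
import Groth.Agent.Divis.WeakAss
import Groth.Agent.Divis.EffCartier
import Groth.Agent.Fdesc.StructMod

set_option autoImplicit false
universe u
open CategoryTheory CategoryTheory.Limits AlgebraicGeometry TopologicalSpace
open SDiv

namespace Groth.Agent.S8861

/-- Let f : X ⟶ Y be a morphism of schemes and 𝓘 the ideal sheaf of an effective Cartier divisor D ⊆ Y.
If f x ∉ D for every weakly associated point x of X (weakly associated point of the structure
sheaf), then the inverse image ideal sheaf of 𝓘 on X is the ideal of an effective Cartier divisor,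
i.e. the pullback of D by f is defined. -/
theorem result {X Y : Scheme.{u}} (f : X ⟶ Y) (𝓘 : Y.IdealSheafData)
    (hD : BlowUp.IsEffCartierIdeal 𝓘)
    (h : ∀ x : ↥X, Curv2.IsWeakAssPoint (Coh.structureModule X) x → f x ∉ 𝓘.support) :
    BlowUp.IsEffCartierIdeal (𝓘.comap f) := by
  refine Groth.Agent.Divis.EffCartier.isEff_comap_of f fun x => ?_
  obtain ⟨U, hxU, a, ha, hIa⟩ := hD (f x)
  obtain ⟨V, hV, hxV, hVU⟩ := exists_isAffineOpen_mem_and_subset (U := f ⁻¹ᵁ U.1) (x := x) hxU
  have e : V ≤ f ⁻¹ᵁ U.1 := hVU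
  refine ⟨U, ⟨V, hV⟩, hxU, hxV, e, a, hIa, ?_⟩
  rw [mem_nonZeroDivisors_iff_right]
  intro t ht
  by_contra ht0
  obtain ⟨y, hy, hya, hyt⟩ := Groth.Agent.Divis.WeakAss.exists_isWeakAssPoint_of_ne_zero
    (Groth.Agent.Fdesc.StructMod.isQCoh_structureModule X) hV
    ((Groth.Agent.Fdesc.StructMod.sectionsEquiv V).symm t)
    (fun h0 => ht0 ((Groth.Agent.Fdesc.StructMod.sectionsEquiv V).symm.map_eq_zero_iff.1 h0))
  have hyU : f y ∉ 𝓘.support := h y hya
  rw [Scheme.IdealSheafData.mem_support_iff_of_mem (e hy), hIa, Scheme.zeroLocus_span,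
    Scheme.zeroLocus_singleton] at hyU
  have hfy : f y ∈ Y.basicOpen a := by simpa using hyU
  have hyu : IsUnit (X.presheaf.germ V y hy ((f.appLE U V e).hom a)) := by
    rw [← Scheme.mem_basicOpen]
    have h2 : X.basicOpen ((f.appLE U V e).hom a) = V ⊓ f ⁻¹ᵁ Y.basicOpen a := by
      simp [Scheme.Hom.appLE]
    rw [h2]
    exact ⟨hy, hfy⟩
  apply hyt
  rw [Groth.Agent.Fdesc.StructMod.germ_symm_eq_smul]
  have h1 : X.presheaf.germ V y hy t * X.presheaf.germ V y hy ((f.appLE U V e).hom a) = 0 := by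
    rw [← map_mul, ht, map_zero]
  rw [hyu.mul_left_eq_zero.1 h1, zero_smul]

end Groth.Agent.S8861
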