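import Groth.Statements.S8864
import Groth.Agent.SDiv.K471.MeroAffine

set_option autoImplicit false
universe u
open CategoryTheory CategoryTheory.Limits AlgebraicGeometry TopologicalSpace
open SDiv

namespace Groth.Agent.S8864

/-- Let X be a locally Noetherian scheme and U an affine open of X. Then K_X(U), viewed as an
O_X(U)-algebra through the canonical map r ↦ r/1, is the total ring of fractions of O_X(U): it is a
localization of O_X(U) at the monoid of nonzerodivisors. -/
theorem result (X : Scheme.{u}) [IsLocallyNoetherian X] (U : X.affineOpens) :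
    @IsLocalization Γ(X, U.1) _ (nonZeroDivisors Γ(X, U.1)) Γ(Mero.kmod X, U.1) _ (Mero.toK X U.1).toAlgebra := by
  letI := (Mero.toK X U.1).toAlgebra
  rw [isLocalization_iff]
  refine ⟨fun b => ?_, fun f => ?_, fun {a b} hab => ?_⟩
  · exact K471.MeroBasic.isUnit_toK (K471.MeroBasic.mem_regSub_of_mem U.2 b.2)
  · obtain ⟨a, b, hb, h⟩ := K471.MeroAffine.exists_mul_eq_toK U.2 f
    exact ⟨(a, ⟨b, hb⟩), (mul_comm _ _).trans h⟩
  · exact ⟨1, congrArg _ (K471.MeroBasic.toK_injective U.1 hab)⟩

end Groth.Agent.S8864
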