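import Groth.Statements.S8869
import Groth.Agent.Divis.WeakAss
import Groth.Agent.Fdesc.StructMod

set_option autoImplicit false
universe u
open CategoryTheory CategoryTheory.Limits AlgebraicGeometry TopologicalSpace
open SDiv

namespace Groth.Agent.S8869

/-- Assume X is a reduced scheme and x is a point of X. Then x is weakly associated to the structure
sheaf O_X exactly when every generization of x equals x itself; equivalently, x is a generic point
of some irreducible component of X. -/
theorem result (X : Scheme.{u}) [IsReduced X] (x : ↥X) :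
    Curv2.IsWeakAssPoint (Coh.structureModule X) x ↔ ∀ y : ↥X, y ⤳ x → y = x := by
  rw [Groth.Agent.Divis.WeakAss.isWeakAssPoint_iff]
  constructor
  · rintro ⟨m, hm0, hm⟩
    obtain ⟨r, rfl⟩ := (Groth.Agent.Fdesc.StructMod.stalkEquiv x).surjective m
    have hr0 : r ≠ 0 := fun h => hm0 (by rw [h, map_zero])
    have hr : ∀ a ∈ IsLocalRing.maximalIdeal (X.presheaf.stalk x), a * r = 0 := by
      intro a ha
      obtain ⟨n, hn⟩ := hm a ha
      rw [← map_smul, LinearEquiv.map_eq_zero_iff, smul_eq_mul] at hn
      have h1 : (a * r) ^ (n + 1) = 0 := by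
        rw [mul_pow, pow_succ a n, pow_succ r n]
        calc a ^ n * a * (r ^ n * r) = (a ^ n * r) * (a * r ^ n) := by ring
          _ = 0 := by rw [hn, zero_mul]
      exact pow_eq_zero_iff (Nat.succ_ne_zero n) |>.mp h1
    have hu : IsUnit r := by
      by_contra hnu
      have := hr r ((IsLocalRing.mem_maximalIdeal r).mpr hnu)
      exact hr0 (pow_eq_zero_iff (two_ne_zero) |>.mp ((pow_two r).trans this))
    have hmax : IsLocalRing.maximalIdeal (X.presheaf.stalk x) = ⊥ := by
      rw [eq_bot_iff]
      intro a ha
      exact (hu.mul_left_eq_zero).mp (hr a ha)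
    intro y hy
    have hy' : y ∈ Set.range (X.fromSpecStalk x) := by
      rw [Scheme.range_fromSpecStalk]; exact hy
    obtain ⟨p, rfl⟩ := hy'
    have hp : p = IsLocalRing.closedPoint (X.presheaf.stalk x) := by
      apply PrimeSpectrum.ext
      change p.asIdeal = IsLocalRing.maximalIdeal (X.presheaf.stalk x)
      refine le_antisymm (IsLocalRing.le_maximalIdeal p.isPrime.ne_top) ?_
      rw [hmax]
      exact bot_le
    rw [hp]
    exact Scheme.fromSpecStalk_closedPoint
  · intro h
    refine ⟨Groth.Agent.Fdesc.StructMod.stalkEquiv x 1, ?_, fun a ha => ?_⟩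
    · rw [Ne, LinearEquiv.map_eq_zero_iff]
      exact one_ne_zero
    · refine ⟨1, ?_⟩
      rw [← map_smul, LinearEquiv.map_eq_zero_iff, smul_eq_mul, mul_one, pow_one]
      have hnil : IsNilpotent a := by
        rw [← mem_nilradical, nilradical_eq_sInf, Ideal.mem_sInf]
        intro p hp
        have hp' : p.IsPrime := hp
        have h1 : X.fromSpecStalk x ⟨p, hp'⟩ ∈ {y | y ⤳ x} := by
          rw [← Scheme.range_fromSpecStalk]; exact ⟨_, rfl⟩
        have h2 := h _ h1
        have h3 : (⟨p, hp'⟩ : PrimeSpectrum (X.presheaf.stalk x)) = IsLocalRing.closedPoint (X.presheaf.stalk x) := by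
          have h4 : Function.Injective (X.fromSpecStalk x) :=
            (X.fromSpecStalk x).isEmbedding.injective
          apply h4
          rw [h2]
          exact Scheme.fromSpecStalk_closedPoint.symm
        have h5 : p = IsLocalRing.maximalIdeal (X.presheaf.stalk x) := congrArg PrimeSpectrum.asIdeal h3
        rw [h5]
        exact ha
      exact hnil.eq_zero

end Groth.Agent.S8869
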