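import Groth.Statements.S8866
import Groth.Agent.SDiv.K471.MeroSec
import Groth.Agent.SDiv.K471.GenPts
import Groth.Agent.S8869

set_option autoImplicit false
universe u
open CategoryTheory CategoryTheory.Limits AlgebraicGeometry TopologicalSpace
open SDiv

namespace Groth.Agent.S8866

/-- Let X be a reduced scheme in which every quasi-compact open subset has only finitely many
irreducible components, and fix an O_X-module L that is invertible. A regular meromorphic section of
L then exists. For an integral scheme this is the case of one irreducible component. -/
theorem result (X : Scheme.{u}) [IsReduced X]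
    (hfin : ∀ U : X.Opens, IsCompact (U : Set ↥X) → (irreducibleComponents ↥(U : Scheme.{u})).Finite)
    (L : X.Modules) (hL : PicF.IsInvertible L) : Mero.HasRegularMero L := by
  refine K471.MeroSec.hasRegularMero (fun t ht => (Groth.Agent.S8869.result X t).mp ht) (fun U hU => ?_) L hL
  have h1 := K471.GenPts.finite_generic (hfin U hU.isCompact)
  have h2 := h1.image (fun t : ↥(U : Scheme.{u}) => (t.1 : X))
  refine h2.subset ?_
  rintro t ⟨htU, ht⟩
  have h3 := (Groth.Agent.S8869.result X t).mp ht
  exact ⟨⟨t, htU⟩, fun y hy => K471.GenPts.generic_open (U := U) (t := ⟨t, htU⟩) h3 y hy, rfl⟩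

end Groth.Agent.S8866
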