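import Groth.Statements.S8867
import Groth.Agent.SDiv.K471.MeroSec
import Groth.Agent.SDiv.K471.GenPts
import Groth.Agent.Divis.WeakAssNoeth

set_option autoImplicit false
universe u
open CategoryTheory CategoryTheory.Limits AlgebraicGeometry TopologicalSpace
open SDiv

namespace Groth.Agent.S8867

/-- Let X be a locally Noetherian scheme with no embedded points, i.e. every associated point of O_X is
maximal among the associated points of O_X under specialization, and L an invertible O_X-module.
Then some meromorphic section of L is regular. -/
theorem result (X : Scheme.{u}) [IsLocallyNoetherian X]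
    (hne : ∀ x : ↥X, Curv2.IsAssPoint (Coh.structureModule X) x →
      ∀ y : ↥X, Curv2.IsAssPoint (Coh.structureModule X) y → y ⤳ x → y = x)
    (L : X.Modules) (hL : PicF.IsInvertible L) : Mero.HasRegularMero L := by
  refine K471.MeroSec.hasRegularMero (fun t ht y hy => ?_) (fun U hU => ?_) L hL
  · obtain ⟨η, hηy, hη⟩ := K471.GenPts.exists_generic y
    have h1 : Curv2.IsAssPoint (Coh.structureModule X) η :=
      (Groth.Agent.Divis.WeakAss.isAssPoint_iff_isWeakAssPoint _ _).mpr
        (K471.GenPts.isWeakAssPoint_of_generic hη)
    have h2 : Curv2.IsAssPoint (Coh.structureModule X) t :=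
      (Groth.Agent.Divis.WeakAss.isAssPoint_iff_isWeakAssPoint _ _).mpr ht
    have h3 := hne t h2 η h1 (hηy.trans hy)
    subst h3
    exact (hy.antisymm hηy).eq
  · have : IsNoetherianRing Γ(X, U) := IsLocallyNoetherian.component_noetherian ⟨U, hU⟩
    have : Module.Finite Γ(X, U) Γ(Coh.structureModule X, U) :=
      Module.Finite.equiv (Groth.Agent.Fdesc.StructMod.sectionsEquiv U).symm
    exact Groth.Agent.Divis.WeakAssNoeth.finite_of_affine
      (Groth.Agent.Fdesc.StructMod.isQCoh_structureModule X) hU

end Groth.Agent.S8867
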