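import Groth.Statements.S8868
import Groth.Agent.Divis.WeakAss

set_option autoImplicit false
universe u
open CategoryTheory CategoryTheory.Limits AlgebraicGeometry TopologicalSpace
open SDiv

namespace Groth.Agent.S8868

/-- Let X be a scheme and F a quasi-coherent O_X-module. Then F is zero if and only if F has no weakly
associated point. -/
theorem result (X : Scheme.{u}) (F : X.Modules) (hF : Coh.IsQCoh F) :
    IsZero F ↔ ∀ x : ↥X, ¬ Curv2.IsWeakAssPoint F x := by
  constructor
  · intro h0 x hx
    have h1 := Groth.Agent.Divis.WeakAss.mem_support_of_isWeakAssPoint hx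
    apply h1
    rw [IsZero.iff_id_eq_zero] at h0
    have key : ∀ (U : X.Opens) (s : Γ(F, U)), s = 0 := fun U s => by
      have := congr(($h0).app U s)
      simpa using this
    refine ⟨fun a b => ?_⟩
    obtain ⟨U, hU, s, rfl⟩ := TopCat.Presheaf.exists_germ_eq F.presheaf a
    obtain ⟨V, hV, t, rfl⟩ := TopCat.Presheaf.exists_germ_eq F.presheaf b
    rw [key U s, key V t, map_zero, map_zero]
  · intro h
    have h1 := Groth.Agent.Divis.WeakAss.subsingleton_of_no_isWeakAssPoint hF h
    rw [IsZero.iff_id_eq_zero]
    ext U s
    exact Subsingleton.elim _ _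

end Groth.Agent.S8868
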