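import Groth.Statements.S8870
import Groth.Agent.Divis.WeakAss
import Groth.Agent.CycB.StalkExact

set_option autoImplicit false
universe u
open CategoryTheory CategoryTheory.Limits AlgebraicGeometry TopologicalSpace
open SDiv

namespace Groth.Agent.S8870

/-- Let X be a scheme and 0 → F₁ → F₂ → F₃ → 0 a short exact sequence of quasi-coherent O_X-modules.
Then WeakAss(F₂) ⊆ WeakAss(F₁) ∪ WeakAss(F₃) and WeakAss(F₁) ⊆ WeakAss(F₂). -/
theorem result (X : Scheme.{u}) (S : ShortComplex X.Modules) (hS : S.ShortExact)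
    (h₁ : Coh.IsQCoh S.X₁) (h₂ : Coh.IsQCoh S.X₂) (h₃ : Coh.IsQCoh S.X₃) :
    (∀ x : ↥X, Curv2.IsWeakAssPoint S.X₂ x → Curv2.IsWeakAssPoint S.X₁ x ∨ Curv2.IsWeakAssPoint S.X₃ x) ∧
      (∀ x : ↥X, Curv2.IsWeakAssPoint S.X₁ x → Curv2.IsWeakAssPoint S.X₂ x) := by
  classical
  refine ⟨fun x hx => ?_, fun x hx => ?_⟩
  · obtain ⟨hinj, hex, -⟩ := Groth.Agent.CycB.StalkExact.stalkLin_shortExact S hS x
    rw [Groth.Agent.Divis.WeakAss.isWeakAssPoint_iff] at hx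
    obtain ⟨m, hm0, hm⟩ := hx
    by_cases h0 : Groth.Agent.CycB.StalkExact.stalkLin S.g x m = 0
    · left
      obtain ⟨m', rfl⟩ := (hex m).mp h0
      rw [Groth.Agent.Divis.WeakAss.isWeakAssPoint_iff]
      refine ⟨m', fun h => hm0 (by rw [h, map_zero]), fun a ha => ?_⟩
      obtain ⟨n, hn⟩ := hm a ha
      refine ⟨n, hinj ?_⟩
      rw [map_smul, hn, map_zero]
    · right
      rw [Groth.Agent.Divis.WeakAss.isWeakAssPoint_iff]
      refine ⟨_, h0, fun a ha => ?_⟩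
      obtain ⟨n, hn⟩ := hm a ha
      exact ⟨n, by rw [← map_smul, hn, map_zero]⟩
  · obtain ⟨hinj, -, -⟩ := Groth.Agent.CycB.StalkExact.stalkLin_shortExact S hS x
    rw [Groth.Agent.Divis.WeakAss.isWeakAssPoint_iff] at hx
    obtain ⟨m, hm0, hm⟩ := hx
    rw [Groth.Agent.Divis.WeakAss.isWeakAssPoint_iff]
    refine ⟨Groth.Agent.CycB.StalkExact.stalkLin S.f x m, fun h => hm0 (hinj (by rw [h, map_zero])), fun a ha => ?_⟩
    obtain ⟨n, hn⟩ := hm a ha
    exact ⟨n, by rw [← map_smul, hn, map_zero]⟩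

end Groth.Agent.S8870
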