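import Groth.Statements.S8871
import Groth.Agent.Divis.WeakAss
import Groth.Agent.SDiv.K471.StalkPrimes
import Groth.Agent.Fdesc.FinStalk
import Groth.Agent.Ega4B.DepthFinite

set_option autoImplicit false
universe u
open CategoryTheory CategoryTheory.Limits AlgebraicGeometry TopologicalSpace
open SDiv

namespace Groth.Agent.S8871

open K471.StalkPrimes

section Alg

variable {R : Type u} [CommRing R] [IsNoetherianRing R] {M : Type u} [AddCommGroup M] [Module R M]
  [Module.Finite R M]

omit [IsNoetherianRing R] in
theorem mem_support_of_mem_associatedPrimes {p : Ideal R} (hp : p ∈ associatedPrimes R M) :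
    (⟨p, hp.isPrime⟩ : PrimeSpectrum R) ∈ Module.support R M := by
  rw [Module.mem_support_iff_of_finite]
  rw [← Submodule.annihilator_top]
  exact hp.annihilator_le

theorem exists_associatedPrime_le {p : PrimeSpectrum R} (hp : p ∈ Module.support R M) :
    ∃ q ∈ associatedPrimes R M, q ≤ p.asIdeal := by
  rw [Module.mem_support_iff_of_finite] at hp
  obtain ⟨q, hq, hqp⟩ := Ideal.exists_minimalPrimes_le hp
  exact ⟨q, Module.associatedPrimes.minimalPrimes_annihilator_subset_associatedPrimes R M hq, hqp⟩

omit [IsNoetherianRing R] [Module.Finite R M] in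
theorem supportDim_le_zero_iff : Module.supportDim R M ≤ 0 ↔
    ∀ p q : PrimeSpectrum R, p ∈ Module.support R M → q ∈ Module.support R M → ¬ p < q := by
  rw [Module.supportDim, Order.krullDim_nonpos_iff_forall_isMin]
  constructor
  · intro h p q hp hq hpq
    have := h ⟨q, hq⟩
    exact this.not_lt (b := ⟨p, hp⟩) hpq
  · intro h q p hpq
    by_contra hne
    exact h p.1 q.1 p.2 q.2 (lt_of_le_not_ge hpq hne)

end Alg

/-- Let X be a locally Noetherian scheme and F a coherent O_X-module. Then F has no embedded associated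
points (every associated point of F is maximal among the associated points of F under
specialization) if and only if F has property (S_1): for every point x, depth F_x ≥ min(1, dim Supp
F_x), where dim Supp F_x is the Krull dimension of the support of the O_{X,x}-module F_x (for F_x =
0 the depth is infinite and the support empty, so the condition holds). -/
theorem result (X : Scheme.{u}) [IsLocallyNoetherian X] (F : X.Modules) (hF : Coh.IsCoh F) :
    (∀ x : ↥X, Curv2.IsAssPoint F x → ∀ y : ↥X, Curv2.IsAssPoint F y → y ⤳ x → y = x) ↔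
      ∀ x : ↥X, min (1 : WithBot ℕ∞) (Module.supportDim ↑(X.presheaf.stalk x) ↑(F.presheaf.stalk x)) ≤
        ((LocCoh.depth (X.presheaf.stalk x) (F.presheaf.stalk x) : ℕ∞) : WithBot ℕ∞) := by
  constructor
  · intro h x
    have hfin : Module.Finite (X.presheaf.stalk x) (F.presheaf.stalk x) :=
      Groth.Agent.Fdesc.FinStalk.finite_stalk_of_isCoh F hF x
    by_cases hx : Curv2.IsAssPoint F x
    · refine (min_le_right _ _).trans (le_trans (b := (0 : WithBot ℕ∞)) ?_ (by
        exact_mod_cast zero_le (a := LocCoh.depth (X.presheaf.stalk x) (F.presheaf.stalk x))))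
      rw [supportDim_le_zero_iff]
      intro p q hp hq hpq
      obtain ⟨_, ⟨U, hU, rfl⟩, hxU, -⟩ :=
        X.isBasis_affineOpens.exists_subset_of_mem_open (Set.mem_univ x) isOpen_univ
      obtain ⟨Q, hQ, hQp⟩ := exists_associatedPrime_le hp
      have hQprime : Q.IsPrime := hQ.isPrime
      obtain ⟨y, hy, hyx, hb⟩ := exists_point_of_prime hU hxU ⟨Q, hQprime⟩
      have h1 := (isAssPoint_iff hU hxU hF.1 hy _ hb).mpr hQ
      have h2 := (eq_iff_of_below hU hxU hy _ hb).mp (h x hx y h1 hyx)
      have h3 : Q = IsLocalRing.maximalIdeal (X.presheaf.stalk x) := congrArg PrimeSpectrum.asIdeal h2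
      have h4 : p.asIdeal < q.asIdeal := hpq
      exact (lt_of_le_of_lt (h3 ▸ hQp) h4).not_ge (IsLocalRing.le_maximalIdeal q.isPrime.ne_top)
    · refine (min_le_left _ _).trans ?_
      have h1 := (Groth.Agent.Ega4B.DepthFinite.one_le_depth_iff (R := X.presheaf.stalk x) (F.presheaf.stalk x)).mpr hx
      exact_mod_cast h1
  · intro h x hx y hy hyx
    have hfin : Module.Finite (X.presheaf.stalk x) (F.presheaf.stalk x) :=
      Groth.Agent.Fdesc.FinStalk.finite_stalk_of_isCoh F hF x
    have h0 : LocCoh.depth (X.presheaf.stalk x) (F.presheaf.stalk x) = 0 := by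
      by_contra hne
      exact (Groth.Agent.Ega4B.DepthFinite.one_le_depth_iff (R := X.presheaf.stalk x) (F.presheaf.stalk x)).mp
        (Order.one_le_iff_ne_zero.mpr hne) hx
    have h1 := h x
    rw [h0] at h1
    have h2 : Module.supportDim (X.presheaf.stalk x) (F.presheaf.stalk x) ≤ 0 := by
      rcases min_le_iff.mp h1 with h3 | h3
      · exact absurd h3 (by decide)
      · exact h3
    rw [supportDim_le_zero_iff] at h2
    obtain ⟨_, ⟨U, hU, rfl⟩, hxU, -⟩ :=
      X.isBasis_affineOpens.exists_subset_of_mem_open (Set.mem_univ x) isOpen_univ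
    obtain ⟨hyU, Q, hb⟩ := exists_prime_of_specializes hU hxU hyx
    rw [eq_iff_of_below hU hxU hyU Q hb]
    by_contra hne
    have h3 := (isAssPoint_iff hU hxU hF.1 hyU Q hb).mp hy
    refine h2 Q (IsLocalRing.closedPoint _) (mem_support_of_mem_associatedPrimes h3)
      (mem_support_of_mem_associatedPrimes hx) (lt_of_le_of_ne ?_ hne)
    exact IsLocalRing.le_maximalIdeal Q.isPrime.ne_top

end Groth.Agent.S8871
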