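import Groth.Statements.S8880
import Groth.Agent.SDiv.K471.NormAmple
import Groth.Agent.S2127

set_option autoImplicit false
universe u
open CategoryTheory CategoryTheory.Limits AlgebraicGeometry TopologicalSpace
open SDiv

namespace Groth.Agent.S8880

/-- Let π : X ⟶ Y be a finite morphism of schemes such that a norm of degree d exists for π, and assume
X is quasi-affine. Then Y is quasi-affine. -/
theorem result {X Y : Scheme.{u}} (π : X ⟶ Y) [IsFinite π] (d : ℕ) (hN : Nrm.HasNorm π d)
    (hX : X.IsQuasiAffine) : Y.IsQuasiAffine := by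
  obtain ⟨N⟩ := hN
  have hs : Surjective π := K471.NormAmple.surjective_of_norm N
  have hcY : CompactSpace Y := ⟨by
    rw [← π.surjective.range_eq, ← Set.image_univ]
    exact isCompact_univ.image π.continuous⟩
  refine Scheme.IsQuasiAffine.of_forall_exists_mem_basicOpen Y fun y => ?_
  obtain ⟨_, ⟨V, hV, rfl⟩, hyV, -⟩ :=
    Y.isBasis_affineOpens.exists_subset_of_mem_open (Set.mem_univ y) isOpen_univ
  obtain ⟨f, -, hf1, hf2⟩ := Groth.Agent.S2127.exists_basicOpen (X := X) (π ⁻¹ᵁ V) (π ⁻¹' {y})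
    (π.finite_preimage_singleton y) (fun x hx => by
      have hx' : π x = y := hx
      change π x ∈ V
      rw [hx']
      exact hyV)
  have hD := K471.NormAmple.basicOpen_norm N ⊤ f
  have hyD : y ∈ Y.basicOpen (N.norm ⊤ f) := by
    rw [hD, Groth.Agent.Divis.NormSheaf.mem_core]
    exact fun x hx => hf1 hx
  have hle : Y.basicOpen (N.norm ⊤ f) ≤ V := by
    rw [hD]
    exact Groth.Agent.Divis.NormSheaf.core_le π hf2
  refine ⟨N.norm ⊤ f, ?_, hyD⟩
  have h1 : Y.basicOpen (Y.presheaf.map (homOfLE (le_top : V ≤ ⊤)).op (N.norm ⊤ f)) =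
      Y.basicOpen (N.norm ⊤ f) := by
    rw [Scheme.basicOpen_res]
    exact inf_eq_right.mpr hle
  rw [← h1]
  exact hV.basicOpen _

end Groth.Agent.S8880
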