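import Groth.Statements.S8883
import Groth.Agent.S3840
import Mathlib.AlgebraicGeometry.Noetherian
import Mathlib.AlgebraicGeometry.Morphisms.UniversallyOpen

set_option autoImplicit false
universe u
open CategoryTheory CategoryTheory.Limits AlgebraicGeometry TopologicalSpace
open SDiv

namespace Groth.Agent.S8883

/-- Let φ : X ⟶ Y be flat, and quasi-compact or else locally of finite type, with every fibre an
integral scheme, where X is locally Noetherian and Y is locally Noetherian, integral and normal. If
an invertible O_X-module L becomes trivial on the scheme-theoretic fibre over the generic point of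
Y, then L is isomorphic to φ^*N with N an invertible O_Y-module. -/
theorem result {X Y : Scheme.{u}} (φ : X ⟶ Y) [IsLocallyNoetherian X]
    [IsLocallyNoetherian Y] [IsIntegral Y] (hY : Pi1.IsNormalScheme Y) [Flat φ]
    (hfib : ∀ y : ↥Y, IsIntegral (φ.fiber y)) (hφ : QuasiCompact φ ∨ LocallyOfFiniteType φ)
    (L : X.Modules) (hL : PicF.IsInvertible L)
    (hgen : Nonempty ((Scheme.Modules.pullback (φ.fiberι (genericPoint ↥Y))).obj L ≅
      Coh.structureModule (φ.fiber (genericPoint ↥Y)))) :
    ∃ N : Y.Modules, PicF.IsInvertible N ∧ Nonempty (L ≅ (Scheme.Modules.pullback φ).obj N) := by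
  have hsurj : Surjective φ := ⟨fun y => by
    have := hfib y
    obtain ⟨z⟩ : Nonempty (φ.fiber y) := inferInstance
    have hz : φ.fiberι y z ∈ φ ⁻¹' {y} := by
      rw [← φ.range_fiberι y]
      exact ⟨z, rfl⟩
    exact ⟨φ.fiberι y z, hz⟩⟩
  have hφ' : QuasiCompact φ ∨ IsOpenMap φ := by
    rcases hφ with h | h
    · exact Or.inl h
    · have : LocallyOfFinitePresentation φ :=
        LocallyOfFinitePresentation.iff_locallyOfFiniteType.mpr h
      exact Or.inr φ.isOpenMap
  obtain ⟨M, hM, ⟨e⟩⟩ := Groth.Agent.S3840.result φ hφ' hY (fun y _ => hfib y) L hL (fun η hη => by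
    have h0 : genericPoint Y = η := hη _ (genericPoint_specializes η)
    subst h0
    exact hgen)
  exact ⟨M, hM, ⟨e.symm⟩⟩

end Groth.Agent.S8883
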