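import Groth.Statements.S8887
import Groth.Agent.SDiv.K472.GenFree
import Groth.Agent.CurvesB.OmegaInv

set_option autoImplicit false
universe u
open CategoryTheory CategoryTheory.Limits AlgebraicGeometry TopologicalSpace
open SDiv

namespace Groth.Agent.S8887

/-- Let X be an integral scheme and F a quasi-coherent O_X-module of finite type, of rank r (r being the
finite dimension of the generic stalk of F as a vector space over the function field of X). Then one
can find an open subset U of X, not empty, on which the restriction of F is isomorphic to the free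
module of rank r. -/
theorem result (X : Scheme.{u}) [IsIntegral X] (F : X.Modules) (hF : Coh.IsQCoh F)
    (hft : CohB1.IsFT F) :
    ∃ U : X.Opens, (U : Set ↥X).Nonempty ∧
      Nonempty (F.restrict U.ι ≅ FlatMod.freeMod (↑U)
        (Module.finrank ↑(X.presheaf.stalk (genericPoint ↥X)) ↑(F.presheaf.stalk (genericPoint ↥X)))) := by
  obtain ⟨U, n, hx, ⟨e⟩⟩ := K472.GenFree.exists_open_free hF hft
  obtain ⟨b⟩ := Groth.Agent.CurvesB.OmegaInv.nonempty_basis_stalk e (genericPoint ↥X) hx
  have hn := Module.finrank_eq_card_basis b
  rw [Fintype.card_fin] at hn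
  rw [hn]
  exact ⟨U, ⟨_, hx⟩, ⟨e⟩⟩

end Groth.Agent.S8887
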