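import Groth.Statements.S8888
import Groth.Agent.Fdesc.PullbackStalk
import Mathlib.AlgebraicGeometry.FunctionField
import Mathlib.LinearAlgebra.Dimension.Constructions

set_option autoImplicit false
universe u
open CategoryTheory CategoryTheory.Limits AlgebraicGeometry TopologicalSpace
open SDiv

namespace Groth.Agent.S8888

/-- Let f : X ⟶ Y be a dominant morphism of integral schemes and G a quasi-coherent O_Y-module. Then the
rank of f^*G on X, the dimension of its stalk at the generic point of X over the function field of
X, equals the rank of G on Y. -/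
theorem result {X Y : Scheme.{u}} [IsIntegral X] [IsIntegral Y] (f : X ⟶ Y) [IsDominant f]
    (G : Y.Modules) (hG : Coh.IsQCoh G) :
    Module.rank ↑(X.presheaf.stalk (genericPoint ↥X)) ↑(((Scheme.Modules.pullback f).obj G).presheaf.stalk (genericPoint ↥X)) =
      Module.rank ↑(Y.presheaf.stalk (genericPoint ↥Y)) ↑(G.presheaf.stalk (genericPoint ↥Y)) := by
  have hgen : f (genericPoint ↥X) = genericPoint ↥Y := by
    have h1 : IsGenericPoint (f (genericPoint ↥X)) (Set.univ : Set ↥Y) := by
      have h2 := (genericPoint_spec ↥X).image f.continuous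
      rw [Set.image_univ, f.denseRange.closure_range] at h2
      exact h2
    exact h1.eq (genericPoint_spec ↥Y)
  have key : ∀ y : ↥Y, y = genericPoint ↥Y → Module.rank ↑(Y.presheaf.stalk y) ↑(G.presheaf.stalk y) =
      Module.rank ↑(Y.presheaf.stalk (genericPoint ↥Y)) ↑(G.presheaf.stalk (genericPoint ↥Y)) := by
    rintro y rfl
    rfl
  rw [← key _ hgen]
  have hfld : IsField (Y.presheaf.stalk (f (genericPoint ↥X))) := by
    have h1 : ∀ y : ↥Y, y = genericPoint ↥Y → IsField (Y.presheaf.stalk y) := by
      rintro y rfl
      exact Field.toIsField Y.functionField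
    exact h1 _ hgen
  have hfree : Module.Free (Y.presheaf.stalk (f (genericPoint ↥X))) (G.presheaf.stalk (f (genericPoint ↥X))) := by
    let := hfld.toField
    exact Module.Free.of_divisionRing _ _
  have hnt : Nontrivial (Y.presheaf.stalk (f (genericPoint ↥X))) := inferInstance
  let := Groth.Agent.Fdesc.PullbackStalk.stalkAlg f (genericPoint ↥X)
  rw [← (Groth.Agent.Fdesc.PullbackStalk.stalkPullbackEquiv f G (genericPoint ↥X)).rank_eq]
  have h2 := Module.rank_baseChange (R := X.presheaf.stalk (genericPoint ↥X))
    (S := Y.presheaf.stalk (f (genericPoint ↥X))) (M' := G.presheaf.stalk (f (genericPoint ↥X)))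
  rw [Cardinal.lift_id] at h2
  exact h2

end Groth.Agent.S8888
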