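import Groth.Statements.S8891
import Groth.Agent.SDiv.K472.DepthIso

set_option autoImplicit false
universe u
open CategoryTheory CategoryTheory.Limits AlgebraicGeometry TopologicalSpace
open SDiv

namespace Groth.Agent.S8891

/-- Let X be an integral locally Noetherian scheme and φ : F ⟶ G a morphism of quasi-coherent
O_X-modules with F coherent and G torsion free. Assume that for every point x either the stalk map
F_x → G_x is an isomorphism, or depth(F_x) ≥ 2 and x is not the generic point of X. Then φ is an
isomorphism. (The published statement allows the second alternative at the generic point as well;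
since the zero module has infinite depth, F = 0 and G = O_X then satisfy every hypothesis while 0 →
O_X is not an isomorphism. The general criterion this is a special case of requires x not to be
associated to G, which for torsion-free G ≠ 0 fails exactly at the generic point; so the generic
point is excluded from the second alternative here.) -/
theorem result (X : Scheme.{u}) [IsIntegral X] [IsLocallyNoetherian X] {F G : X.Modules}
    (φ : F ⟶ G) (hF : Coh.IsCoh F) (hG : Coh.IsQCoh G)
    (htf : ∀ x : ↥X, NoZeroSMulDivisors ↑(X.presheaf.stalk x) ↑(G.presheaf.stalk x))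
    (h : ∀ x : ↥X, Function.Bijective ((TopCat.Presheaf.stalkFunctor AddCommGrpCat.{u} x).map (Scheme.Modules.Hom.mapPresheaf φ)) ∨
      ((2 : ℕ∞) ≤ LocCoh.depth (X.presheaf.stalk x) (F.presheaf.stalk x) ∧ x ≠ genericPoint ↥X)) :
    IsIso φ := by
  refine K472.DepthIso.isIso_of_depth φ hF hG fun x => ?_
  rcases h x with h1 | ⟨h1, h2⟩
  · exact Or.inl h1
  · refine Or.inr ⟨h1, fun h3 => h2 ?_⟩
    rw [Groth.Agent.Divis.WeakAss.isWeakAssPoint_iff] at h3
    obtain ⟨m, hm0, hm⟩ := h3
    have := htf x
    have h4 : IsLocalRing.maximalIdeal (X.presheaf.stalk x) = ⊥ := by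
      rw [eq_bot_iff]
      intro a ha
      rw [Ideal.mem_bot]
      obtain ⟨n, hn⟩ := hm a ha
      rcases smul_eq_zero.mp hn with h5 | h5
      · exact eq_zero_of_pow_eq_zero h5
      · exact absurd h5 hm0
    obtain ⟨y, hy⟩ : genericPoint ↥X ∈ Set.range (X.fromSpecStalk x) := by
      rw [Scheme.range_fromSpecStalk]
      exact genericPoint_specializes x
    refine (Scheme.fromSpecStalk_closedPoint (x := x)).symm.trans (Eq.trans ?_ hy)
    congr 1
    apply PrimeSpectrum.ext
    change IsLocalRing.maximalIdeal (X.presheaf.stalk x) = y.asIdeal
    apply le_antisymm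
    · rw [h4]; exact bot_le
    · exact IsLocalRing.le_maximalIdeal y.2.ne_top

end Groth.Agent.S8891
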