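import Groth.Statements.S8894
import Groth.Agent.SDiv.K472.RelSliced

set_option autoImplicit false
universe u
open CategoryTheory CategoryTheory.Limits AlgebraicGeometry TopologicalSpace
open SDiv

namespace Groth.Agent.S8894

/-- Let f : X ⟶ S be flat and locally of finite presentation and i : Z ⟶ X a relative quasi-regular
immersion (quasi-regular immersion with Z flat over S). Then i is a regular immersion, and for every
g : S' ⟶ S the base change of i to X ×_S S' is a regular immersion. -/
theorem result {Z X S : Scheme.{u}} (f : X ⟶ S) [Flat f] [LocallyOfFinitePresentation f]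
    (i : Z ⟶ X) (hi : RegImm.IsRelRegularImmersion RegImm.Kind.quasi f i) :
    RegImm.IsRegularImmersion RegImm.Kind.regular i ∧
      ∀ (S' : Scheme.{u}) (g : S' ⟶ S), RegImm.IsRegularImmersion RegImm.Kind.regular (pullback.snd i (pullback.fst f g)) := by
  have hflat : ∀ z : Z, (f.stalkMap (i z)).hom.Flat := fun z => Flat.stalkMap f (i z)
  exact ⟨K472.RelSliced.isRegularImmersion hi hflat, fun S' g =>
    K472.RelSliced.isRegularImmersion_of_isPullback hi hflat (IsPullback.of_hasPullback f g)
      (IsPullback.of_hasPullback i (pullback.fst f g))⟩

end Groth.Agent.S8894
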