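import Groth.Statements.S8913
import Groth.Agent.SDiv.K474.FittBlow2

set_option autoImplicit false
universe u
open CategoryTheory CategoryTheory.Limits AlgebraicGeometry TopologicalSpace
open SDiv

namespace Groth.Agent.S8913

/-- Let X be a scheme, F a finitely presented O_X-module and U ⊆ X an open subscheme which is
scheme-theoretically dense and over which F is locally free of constant finite rank r. Then: (1)
Fit_r(F) is of finite type with support disjoint from U, so a blowing up b : X' ⟶ X of X in Fit_r(F)
is U-admissible; (2) the strict transform G of F along such b is locally free of rank r; (3) the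
kernel of the surjection b^*F ⟶ G is finitely presented and restricts to zero over b⁻¹U. This row
does not assert that b^*F and the kernel are perfect of tor dimension at most one. -/
theorem result (X : Scheme.{u}) (F : X.Modules) (hF : CohB1.IsFP F)
    (U : X.Opens) (hU : CInt.IsSchematicallyDense U) (r : ℕ) (hfree : FlatMod.IsFinLocFreeOfRank r (F.restrict U.ι)) :
    BlowUp.IsAdmissibleFor U (Fitt.sheafIdeal F r) ∧
      ∀ (X' : Scheme.{u}) (b : X' ⟶ X), BlowUp.IsBlowUp b (Fitt.sheafIdeal F r) →
        ∀ (G : X'.Modules) (π : (Scheme.Modules.pullback b).obj F ⟶ G), BlowUp.IsStrictTransform b (Fitt.sheafIdeal F r) F G π →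
          FlatMod.IsFinLocFreeOfRank r G ∧ CohB1.IsFP (kernel π) ∧ IsZero ((kernel π).restrict (b ⁻¹ᵁ U).ι) := by
  have hq := Models2.FPCoh.isQCoh_of_isFP hF
  have hft := Models2.FPCoh.isFT_of_isFP hF
  have : F.IsQuasicoherent := hq
  have hc := SDiv.K474.FittBlow.sheafIdeal_comap_of_free U.ι F hq hft r hfree
  have hd := SDiv.K474.FittBlow2.disjoint_support_of_comap_eq_top (hc.2 r le_rfl)
  refine ⟨⟨fun V => ?_, hd⟩, fun X' b hb G π hG => ?_⟩
  · have := Desc.FPSections.finitePresentation_sections V.2 hq hF
    rw [SDiv.K474.FittSheaf.sheafIdeal_ideal F hq hft]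
    exact K360.FittBasic.ideal_fg r
  have hepi := hG.1
  have h1 : FlatMod.IsFinLocFreeOfRank r G :=
    SDiv.K474.FittBlow.isFinLocFreeOfRank_strict b F hq hft r hb.1 G π hG fun j hj => by
      rw [SDiv.K474.FittBlow2.eq_bot_of_isSchematicallyDense hU (hc.1 j hj),
        Scheme.IdealSheafData.comap_bot]
  refine ⟨h1, SDiv.K474.FittBlow2.isFP_kernel ?_ h1 π,
    SDiv.K474.FittBlow2.isZero_restrict_kernel π hG.2 _ ?_⟩
  · exact SDiv.K474.FittBlow2.isFP_pullback b hF
  · rw [Set.disjoint_left]
    intro x hx hxU
    rw [Scheme.IdealSheafData.support_comap] at hx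
    exact Set.disjoint_left.1 hd hx hxU

end Groth.Agent.S8913
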