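import Groth.Statements.S8921
import Groth.Agent.SDiv.K474.ConNoeth
import Groth.Agent.SDiv.K474.LocSplit

set_option autoImplicit false
universe u
open CategoryTheory CategoryTheory.Limits AlgebraicGeometry TopologicalSpace
open SDiv

namespace Groth.Agent.S8921

/-- Let i : Z ⟶ Y and j : Y ⟶ X be immersions of schemes with X locally Noetherian, z a point of Z with
images y = i z and x, and a : i^*C_{Y/X} ⟶ C_{Z/X}, b : C_{Z/X} ⟶ C_{Z/Y} the canonical maps of
conormal sheaves. The following are equivalent: (1) i is regular near z and j is regular near y; (2)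
i and j ∘ i are regular near z; (3) j ∘ i is regular near z and the sequence 0 → i^*C_{Y/X} →
C_{Z/X} → C_{Z/Y} → 0 is split short exact over some open neighbourhood of z. Both immersions are
quasi-compact automatically, X being locally Noetherian; the quasi-compactness binders only make the
conormal sheaves available. -/
theorem result {Z Y X : Scheme.{u}} (i : Z ⟶ Y) (j : Y ⟶ X) [IsImmersion i] [IsImmersion j]
    [QuasiCompact i] [QuasiCompact j]
    (a : (Scheme.Modules.pullback i).obj (Omega.conormal j) ⟶ Omega.conormal (i ≫ j))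
    (ha : OmegaSh.IsConormalMap (i ≫ j) j (𝟙 X) i a)
    (b : (Scheme.Modules.pullback (𝟙 Z)).obj (Omega.conormal (i ≫ j)) ⟶ Omega.conormal i)
    (hb : OmegaSh.IsConormalMap i (i ≫ j) j (𝟙 Z) b)
    [IsLocallyNoetherian X] (z : ↥Z) :
    ((RegImm.IsRegularImmersionAt RegImm.Kind.regular i z ∧ RegImm.IsRegularImmersionAt RegImm.Kind.regular j (i z)) ↔
      (RegImm.IsRegularImmersionAt RegImm.Kind.regular i z ∧ RegImm.IsRegularImmersionAt RegImm.Kind.regular (i ≫ j) z)) ∧
    ((RegImm.IsRegularImmersionAt RegImm.Kind.regular i z ∧ RegImm.IsRegularImmersionAt RegImm.Kind.regular (i ≫ j) z) ↔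
      (RegImm.IsRegularImmersionAt RegImm.Kind.regular (i ≫ j) z ∧
        ∃ U : Z.Opens, z ∈ U ∧
          ∀ w : (Scheme.Modules.restrictFunctor U.ι).map a ≫ (Scheme.Modules.restrictFunctor U.ι).map ((Scheme.Modules.pullbackId Z).inv.app (Omega.conormal (i ≫ j)) ≫ b) = 0,
            Nonempty (ShortComplex.mk ((Scheme.Modules.restrictFunctor U.ι).map a) ((Scheme.Modules.restrictFunctor U.ι).map ((Scheme.Modules.pullbackId Z).inv.app (Omega.conormal (i ≫ j)) ≫ b)) w).Splitting)) := by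
  have hcz := K559.ConSeq.comp_zero ha hb
  obtain ⟨hex, hepi⟩ := K559.ConSeq.exact_epi ha hb
  have h13 : RegImm.IsRegularImmersionAt RegImm.Kind.regular (i ≫ j) z → (∃ U : Z.Opens, z ∈ U ∧
      ∀ w : (Scheme.Modules.restrictFunctor U.ι).map a ≫ (Scheme.Modules.restrictFunctor U.ι).map ((Scheme.Modules.pullbackId Z).inv.app (Omega.conormal (i ≫ j)) ≫ b) = 0,
        Nonempty (ShortComplex.mk ((Scheme.Modules.restrictFunctor U.ι).map a) ((Scheme.Modules.restrictFunctor U.ι).map ((Scheme.Modules.pullbackId Z).inv.app (Omega.conormal (i ≫ j)) ≫ b)) w).Splitting) →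
      RegImm.IsRegularImmersionAt RegImm.Kind.regular i z ∧ RegImm.IsRegularImmersionAt RegImm.Kind.regular j (i z) := by
    rintro h ⟨U, hz, hU⟩
    refine Groth.Agent.SDiv.K474.ConNoeth.regularAt_of_comp i j z h fun w hw hw' => ?_
    obtain ⟨sp⟩ := hU (by rw [← Functor.map_comp, hcz, Functor.map_zero])
    obtain ⟨r, hr, hrφ⟩ := K559.ConSplit.exists_retraction a U z hz sp.r sp.f_r
    exact K559.ConSplit.mem_of_retraction ha z r hr hrφ w hw hw'
  have h23 : RegImm.IsRegularImmersionAt RegImm.Kind.regular i z → (∃ U : Z.Opens, z ∈ U ∧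
      ∀ w : (Scheme.Modules.restrictFunctor U.ι).map a ≫ (Scheme.Modules.restrictFunctor U.ι).map ((Scheme.Modules.pullbackId Z).inv.app (Omega.conormal (i ≫ j)) ≫ b) = 0,
        Nonempty (ShortComplex.mk ((Scheme.Modules.restrictFunctor U.ι).map a) ((Scheme.Modules.restrictFunctor U.ι).map ((Scheme.Modules.pullbackId Z).inv.app (Omega.conormal (i ≫ j)) ≫ b)) w).Splitting) := by
    rintro ⟨V, hzV, hcl, rs, hrs, hker⟩
    have h1 : RegImm.Kind.h1.Seq Γ(Y, V.1) rs :=
      K473.SeqFlat.h1_of_koszul (K473.SeqFlat.koszul_of_regular hrs)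
    obtain ⟨r, c, hcV, hc⟩ : ∃ (r : ℕ) (c : Groth.Agent.SDiv.K474.ConLoc.Ch i r), c.U = V.1 ∧ True :=
      ⟨rs.length, ⟨V.1, V.2, hcl, rs.get, hker.trans (K559.KindsDesc.ofList_eq rs), fun a ha j => by
        rw [← K559.KindsDesc.ofList_eq]
        exact K559.KindsDesc.good_h1.coeff _ rs h1 a ha j⟩, rfl, trivial⟩
    obtain ⟨U, hzU, ⟨sp⟩⟩ := Groth.Agent.SDiv.K474.LocSplit.exists_splitting (T := ShortComplex.mk a
      ((Scheme.Modules.pullbackId Z).inv.app (Omega.conormal (i ≫ j)) ≫ b) hcz) hex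
      (Groth.Agent.SDiv.K474.ConLoc.isLocBasis_fN c) z (by rw [hcV]; exact hzV) (fun z' hz' =>
        Groth.Agent.SDiv.K474.ConShort.injective_φ₁ ha z' (Groth.Agent.SDiv.K474.ConShort.inf_le_mul
          ⟨V, by rw [hcV] at hz'; exact hz', hcl, rs, h1, hker⟩))
    exact ⟨U, hzU, fun w => ⟨sp⟩⟩
  refine ⟨⟨fun ⟨h1, h2⟩ => ⟨h1, Groth.Agent.SDiv.K474.ConNoeth.regularAt_comp i j z h1 h2⟩,
    fun ⟨h1, h2⟩ => h13 h2 (h23 h1)⟩, ⟨fun ⟨h1, h2⟩ => ⟨h2, h23 h1⟩, fun ⟨h1, h2⟩ => ⟨(h13 h1 h2).1, h1⟩⟩⟩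

end Groth.Agent.S8921
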