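import Groth.Statements.S8923
import Groth.Agent.CycB.DivFun
import Groth.Agent.CycB.C1Basic
import Mathlib.RingTheory.Ideal.Height

set_option autoImplicit false
universe u
open CategoryTheory CategoryTheory.Limits AlgebraicGeometry TopologicalSpace
open SDiv

namespace Groth.Agent.S8923

open Groth.Agent.CycB Groth.Agent.CycB.ModStalk Groth.Agent.CycB.C1Basic

variable {X : Scheme.{u}}

/-- A point of codimension one at which a nonzero element of the coordinate ring of an affine open of an integral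
scheme vanishes is a minimal prime of that element. -/
theorem mem_minimalPrimes [IsIntegral X] {V : X.Opens} (hV : IsAffineOpen V) {c : Γ(X, V)} (hc : c ≠ 0)
    (x : X) (hx : x ∈ V) (hdim : ringKrullDim (X.presheaf.stalk x) = 1)
    (hcx : c ∈ (hV.primeIdealOf ⟨x, hx⟩).asIdeal) :
    (hV.primeIdealOf ⟨x, hx⟩).asIdeal ∈ (Ideal.span {c}).minimalPrimes := by
  have : Nonempty V := ⟨⟨x, hx⟩⟩
  have hdom : IsDomain Γ(X, V) := inferInstance
  have hloc := hV.isLocalization_stalk ⟨x, hx⟩
  let : Algebra Γ(X, V) (X.presheaf.stalk x) := (X.presheaf.germ V x hx).hom.toAlgebra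
  have hh : (hV.primeIdealOf ⟨x, hx⟩).asIdeal.height = 1 := by
    have h1 := IsLocalization.AtPrime.ringKrullDim_eq_height (hV.primeIdealOf ⟨x, hx⟩).asIdeal
      (X.presheaf.stalk x)
    rw [hdim] at h1
    exact_mod_cast h1.symm
  refine ⟨⟨(hV.primeIdealOf ⟨x, hx⟩).2, ?_⟩, ?_⟩
  · rw [Ideal.span_le, Set.singleton_subset_iff]
    exact hcx
  · rintro q ⟨hq, hcq⟩ hqle
    by_contra hcon
    have hlt : q < (hV.primeIdealOf ⟨x, hx⟩).asIdeal := lt_of_le_not_ge hqle hcon
    have hbot : (⊥ : Ideal Γ(X, V)) < q := by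
      rw [bot_lt_iff_ne_bot]
      rintro rfl
      exact hc (by simpa using hcq (Ideal.mem_span_singleton_self c))
    have h1 := Ideal.height_add_one_le_of_lt_of_isPrime hlt
    have h2 := Ideal.height_add_one_le_of_lt_of_isPrime hbot
    rw [hh] at h1
    have h3 : (1 : ℕ∞) ≤ q.height := le_trans (by simp) h2
    have h4 : (1 : ℕ∞) + 1 ≤ 1 := le_trans (by gcongr) h1
    exact absurd h4 (by decide)


/-- Let X be an integral scheme that is locally Noetherian, L an invertible O_X-module and s a nonzero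
rational (regular meromorphic) section of L, viewed as a nonzero element of the stalk of L at the
generic point. Then the collection of prime divisors Z ⊆ X with ord_{Z,L}(s) ≠ 0, i.e. the closures
of the codimension-1 points x (dim O_{X,x} = 1) along which s has nonzero order, is locally finite
in X. -/
theorem result (X : Scheme.{u}) [IsIntegral X] [IsLocallyNoetherian X] (L : X.Modules)
    (hL : PicF.IsInvertible L) (s : Cyc.secFibre L (genericPoint ↥X)) (hs : s ≠ 0) :
    LocallyFinite (fun x : {x : ↥X // ringKrullDim ↑(X.presheaf.stalk x) = 1 ∧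
        Cyc.secOrdAt L (genericPoint ↥X) x ((genericPoint_spec ↥X).specializes (Set.mem_univ x)) s ≠ 0} => closure ({x.1} : Set ↥X)) := by
  classical
  intro y
  obtain ⟨U, hyU, t, ht⟩ := exists_isGenOn hL y
  obtain ⟨V, hV, hyV, hVU⟩ := exists_isAffineOpen_mem_and_subset (X := X) (x := y) (U := U) hyU
  obtain ⟨t', htV⟩ : ∃ t' : Γ(L, V), IsGenOn L V t' := ⟨_, ht.mono hVU⟩
  refine ⟨V, V.2.mem_nhds hyV, ?_⟩
  have hη : genericPoint ↥X ∈ V :=
    ((genericPoint_spec ↥X).specializes (Set.mem_univ y)).mem_open V.2 hyV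
  have hA : IsNoetherianRing Γ(X, V) := IsLocallyNoetherian.component_noetherian ⟨V, hV⟩
  obtain ⟨φ, rfl⟩ := exists_smul_cl (htV.isGen _ hη) s
  rw [ne_eq, smul_cl_eq_zero_iff (htV.isGen _ hη)] at hs
  obtain ⟨a, b, hb, hab⟩ := DivFun.exists_evaluation_div hV hη (X.residue _ φ)
  have ha : X.evaluation V _ hη a ≠ 0 := by
    intro h0
    apply hs
    rw [hab, h0, zero_div]
  have hc : a * b ≠ 0 := by
    intro h0
    have h1 := congrArg (X.evaluation V _ hη) h0
    rw [map_mul, map_zero] at h1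
    exact (mul_ne_zero ha hb) h1
  have hmin : (Ideal.span {a * b}).minimalPrimes.Finite := Ideal.finite_minimalPrimes_of_isNoetherianRing _ _
  let g : Ideal Γ(X, V) → X := fun P => if h : P.IsPrime then hV.fromSpec ⟨P, h⟩ else y
  refine Set.Finite.of_finite_image (f := Subtype.val) ?_ Subtype.val_injective.injOn
  refine (hmin.image g).subset ?_
  rintro _ ⟨⟨x, hdim, hord⟩, hx, rfl⟩
  have hxV : x ∈ V := (DivFun.closure_inter_nonempty_iff x V.2).mp hx
  have hsp : genericPoint ↥X ⤳ x := (genericPoint_spec ↥X).specializes (Set.mem_univ x)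
  have e : L.presheaf.germ V _ hη t' = L.presheaf.stalkSpecializes hsp (L.presheaf.germ V x hxV t') :=
    (TopCat.Presheaf.germ_stalkSpecializes_apply L.presheaf hxV hsp t').symm
  rw [e, secOrdAt_smul hL hsp (htV.isGen x hxV) _ hs] at hord
  have hmem : a * b ∈ (hV.primeIdealOf ⟨x, hxV⟩).asIdeal := by
    rw [DivFun.mem_primeIdealOf_iff]
    intro hu
    rw [map_mul] at hu
    apply hord
    rw [hab, OrdFrac.ordAt_div hsp ha hb, ← DivFun.specMap_germ hsp hxV, ← DivFun.specMap_germ hsp hxV,
      OrdFrac.ordAt_specMap_of_isUnit hsp (isUnit_of_mul_isUnit_left hu),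
      OrdFrac.ordAt_specMap_of_isUnit hsp (isUnit_of_mul_isUnit_right hu), sub_zero]
  refine ⟨(hV.primeIdealOf ⟨x, hxV⟩).asIdeal, mem_minimalPrimes hV hc x hxV hdim hmem, ?_⟩
  simp only [g]
  rw [dif_pos (hV.primeIdealOf ⟨x, hxV⟩).2]
  exact hV.fromSpec_primeIdealOf ⟨x, hxV⟩

end Groth.Agent.S8923
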