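import Groth.Statements.S8924
import Groth.Agent.Localalg.InjHull

set_option autoImplicit false
universe u v
open InjHull

namespace Groth.Agent.S8924

/-- For a submodule M of an R-module N, the inclusion of M into N is an essential injection if and only
if every nonzero element x of N has a multiple f • x which is a nonzero element of M. -/
theorem result (R : Type u) [CommRing R] (N : Type v) [AddCommGroup N] [Module R N] (M : Submodule R N) : InjHull.IsEssentialInj M.subtype ↔ ∀ x : N, x ≠ 0 → ∃ f : R, f • x ∈ M ∧ f • x ≠ 0 := by
  rw [Groth.Agent.Localalg.InjHull.isEssentialInj_iff]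
  constructor
  · rintro ⟨-, h⟩ x hx
    obtain ⟨r, hr0, hr⟩ := h x hx
    exact ⟨r, by simpa using hr, hr0⟩
  · intro h
    refine ⟨M.injective_subtype, fun x hx => ?_⟩
    obtain ⟨r, hr, hr0⟩ := h x hx
    exact ⟨r, hr0, by simpa using hr⟩

end Groth.Agent.S8924
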