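import Groth.Statements.S8926
import Mathlib.Algebra.Algebra.Epi
import Mathlib.LinearAlgebra.TensorProduct.Basic

set_option autoImplicit false
universe u
open InjHull

namespace Groth.Agent.S8926

open scoped TensorProduct

/-- Over a ring epimorphism, linearity over the source implies linearity over the target. -/
theorem smul_of_isEpi (R S : Type u) [CommRing R] [CommRing S] [Algebra R S] [Algebra.IsEpi R S]
    {X E : Type u} [AddCommGroup X] [Module S X] [Module R X] [IsScalarTower R S X]
    [AddCommGroup E] [Module S E] [Module R E] [IsScalarTower R S E] (g : X →ₗ[R] E)
    (s : S) (x : X) : g (s • x) = s • g x := by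
  let B : S ⊗[R] S →ₗ[R] E := TensorProduct.lift
    { toFun := fun a =>
        { toFun := fun b => a • g (b • x)
          map_add' := fun b c => by rw [add_smul, map_add, smul_add]
          map_smul' := fun r b => by
            rw [smul_assoc, map_smul, RingHom.id_apply, smul_comm] }
      map_add' := fun a b => by ext c; simp [add_smul]
      map_smul' := fun r a => by ext c; simp }
  have h := (Algebra.isEpi_iff_forall_one_tmul_eq R S).mp inferInstance s
  have h2 := congrArg B h
  simpa [B] using h2

/-- Suppose R → S is an epimorphism of rings and E is an S-module whose underlying R-module (via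
restriction of scalars) is injective; then E is injective as an S-module as well. -/
theorem result (R S : Type u) [CommRing R] [CommRing S] [Algebra R S] [Algebra.IsEpi R S] (E : Type u) [AddCommGroup E] [Module S E] [Module R E] [IsScalarTower R S E] [Module.Injective R E] : Module.Injective S E := by
  refine ⟨fun X Y _ _ _ _ f hf g => ?_⟩
  letI : Module R X := Module.compHom X (algebraMap R S)
  letI : Module R Y := Module.compHom Y (algebraMap R S)
  haveI : IsScalarTower R S X := IsScalarTower.of_algebraMap_smul fun _ _ => rfl
  haveI : IsScalarTower R S Y := IsScalarTower.of_algebraMap_smul fun _ _ => rfl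
  have hE : Module.Injective R E := inferInstance
  obtain ⟨h, hh⟩ := hE.out (f.restrictScalars R) hf (g.restrictScalars R)
  refine ⟨{ toFun := h, map_add' := h.map_add, map_smul' := fun s y => smul_of_isEpi R S h s y },
    hh⟩

end Groth.Agent.S8926
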