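import Groth.Statements.S8936
import Groth.Agent.Localalg.InjHull
import Mathlib.Algebra.Colimit.Module

set_option autoImplicit false
universe u v
open InjHull

namespace Groth.Agent.S8936

/-- For a directed system (E_i) of R-modules over a nonempty directed preorder and a compatible family
of essential injections M → E_i, the induced map from M to the direct limit of the E_i is an
essential injection. -/
theorem result (R : Type u) [CommRing R] (ι : Type v) [Preorder ι] [IsDirectedOrder ι] [DecidableEq ι] (i₀ : ι) (E : ι → Type v) [∀ i, AddCommGroup (E i)] [∀ i, Module R (E i)] (f : ∀ i j, i ≤ j → E i →ₗ[R] E j) [DirectedSystem E fun i j h => f i j h] (M : Type v) [AddCommGroup M] [Module R M] (g : ∀ i, M →ₗ[R] E i) (hg : ∀ i j (h : i ≤ j), f i j h ∘ₗ g i = g j) (he : ∀ i, InjHull.IsEssentialInj (g i)) : InjHull.IsEssentialInj (Module.DirectLimit.of R ι E f i₀ ∘ₗ g i₀) := by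
  classical
  haveI : Nonempty ι := ⟨i₀⟩
  have hall : ∀ i, Module.DirectLimit.of R ι E f i ∘ₗ g i = Module.DirectLimit.of R ι E f i₀ ∘ₗ g i₀ := by
    intro i
    obtain ⟨k, hik, hk⟩ := exists_ge_ge i i₀
    ext m
    rw [LinearMap.comp_apply, LinearMap.comp_apply, ← Module.DirectLimit.of_f (hij := hik),
      ← Module.DirectLimit.of_f (hij := hk)]
    have h1 := LinearMap.congr_fun (hg i k hik) m
    have h2 := LinearMap.congr_fun (hg i₀ k hk) m
    rw [LinearMap.comp_apply] at h1 h2
    rw [h1, h2]
  rw [Groth.Agent.Localalg.InjHull.isEssentialInj_iff]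
  constructor
  · rw [← LinearMap.ker_eq_bot, LinearMap.ker_eq_bot']
    intro m hm
    obtain ⟨k, hk, hk'⟩ := Module.DirectLimit.of.zero_exact hm
    have h2 := LinearMap.congr_fun (hg i₀ k hk) m
    rw [LinearMap.comp_apply, hk'] at h2
    exact (he k).injective (h2.symm.trans (map_zero _).symm)
  · intro x hx
    obtain ⟨i, y, rfl⟩ := Module.DirectLimit.exists_of x
    have hy : y ≠ 0 := by
      rintro rfl
      exact hx (map_zero _)
    obtain ⟨r, hr0, m, hm⟩ := (Groth.Agent.Localalg.InjHull.isEssentialInj_iff.mp (he i)).2 y hy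
    have h1 := LinearMap.congr_fun (hall i) m
    rw [LinearMap.comp_apply, hm, map_smul] at h1
    refine ⟨r, ?_, m, h1.symm⟩
    intro h0
    rw [h0] at h1
    have hm0 : m = 0 := by
      obtain ⟨k, hk, hk'⟩ := Module.DirectLimit.of.zero_exact h1.symm
      have h2 := LinearMap.congr_fun (hg i₀ k hk) m
      rw [LinearMap.comp_apply, hk'] at h2
      exact (he k).injective (h2.symm.trans (map_zero _).symm)
    exact hr0 (by rw [← hm, hm0, map_zero])

end Groth.Agent.S8936
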