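import Groth.Statements.S8937
import Groth.Agent.S0356
import Groth.Agent.S0012
import Groth.Agent.Flat2G.FibDimVanish
import Groth.Agent.Localalg.BlowBoundary

set_option autoImplicit false
universe u
open CategoryTheory AlgebraicGeometry
attribute [local instance] HasDerivedCategory.standard
open LocCoh

namespace Groth.Agent.S8937

theorem mem_support_idealSheaf {A : Type u} [CommRing A] (I : Ideal A) (w : Spec (CommRingCat.of A)) :
    w ∈ (Curv2.idealSheaf A I).support ↔ I ≤ w.asIdeal := by
  rw [← SetLike.mem_coe, Curv2.idealSheaf, Scheme.IdealSheafData.coe_support_ofIdealTop, Spec_zeroLocus]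
  change ((Scheme.ΓSpecIso (CommRingCat.of A)).inv.hom ⁻¹'
    (I.map (Scheme.ΓSpecIso (CommRingCat.of A)).inv.hom : Ideal _) ⊆ (w.asIdeal : Set A)) ↔ _
  have h1 : (I.map (Scheme.ΓSpecIso (CommRingCat.of A)).inv.hom).comap
      (Scheme.ΓSpecIso (CommRingCat.of A)).inv.hom = I := by
    exact Ideal.comap_map_of_bijective _
      (ConcreteCategory.bijective_of_isIso (Scheme.ΓSpecIso (CommRingCat.of A)).inv)
  constructor
  · intro h r hr
    exact h (show r ∈ (I.map (Scheme.ΓSpecIso (CommRingCat.of A)).inv.hom).comap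
      (Scheme.ΓSpecIso (CommRingCat.of A)).inv.hom by rw [h1]; exact hr)
  · intro h r hr
    apply h
    rw [← h1]
    exact hr


/-- Let A be a Noetherian ring, I an ideal and b : X → Spec A a blowing up of Spec A in I. If the fibres
of b have dimension at most d, then cd(A, I) ≤ d + 1, i.e. H^i_I(M) = 0 for all A-modules M and all
i > d + 1. -/
theorem result (A : Type u) [CommRing A] [IsNoetherianRing A] (I : Ideal A) (X : Scheme.{u}) (b : X ⟶ Spec (CommRingCat.of A)) (hb : BlowUp.IsBlowUp b (Curv2.idealSheaf A I)) (d : ℕ) (hd : Dual3.FibreDimLE b d) : LocCoh.CdLE A I (d + 1) := by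

  intro M _ _ i hi
  obtain ⟨p, rfl⟩ : ∃ p, i = p + 1 := ⟨i - 1, by omega⟩
  have hdp : d < p := by omega
  have hp : 1 ≤ p := by omega
  have hft : BlowUp.IsFiniteTypeIdeal (Curv2.idealSheaf A I) :=
    Groth.Agent.Localalg.BlowBoundary.isFiniteTypeIdeal _
  have hprop : IsProper b := Groth.Agent.Flat2C.BlowProper.isProper_of_isBlowUp hb hft
  have hsupp : ((Curv2.idealSheaf A I).support : Set (Spec (CommRingCat.of A))) =
      PrimeSpectrum.zeroLocus (R := A) (I : Set A) := by
    exact Set.ext fun w => (mem_support_idealSheaf I w)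
  let U : (Spec (CommRingCat.of A)).Opens := LocCoh.puncturedOpen A I
  have hU : (U : Set (Spec (CommRingCat.of A))) =
      ((Curv2.idealSheaf A I).support : Set (Spec (CommRingCat.of A)))ᶜ := by
    rw [hsupp]; rfl
  have hpre : b ⁻¹ᵁ U = ((Curv2.idealSheaf A I).comap b).support.compl := by
    rw [Scheme.IdealSheafData.support_comap]
    ext x
    show b x ∈ (U : Set (Spec (CommRingCat.of A))) ↔
      ¬ (b x ∈ ((Curv2.idealSheaf A I).support : Set (Spec (CommRingCat.of A))))
    rw [hU]
    rfl
  have hiso : IsIso (b ∣_ U) :=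
    Groth.Agent.Divis.BlowUpFormal.isIso_morphismRestrict_compl_support hb U (by
      rw [hU]; exact disjoint_compl_left)
  have haff : IsAffineHom (b ⁻¹ᵁ U).ι := by
    rw [hpre]
    exact Groth.Agent.Divis.CartierCompl.isAffineHom_compl hb.1
  let s : (U : Scheme.{u}) ⟶ X := inv (b ∣_ U) ≫ (b ⁻¹ᵁ U).ι
  have hs : IsAffineHom s := inferInstance
  let T : (Spec (CommRingCat.of A)).Modules := AlgebraicGeometry.tilde (R := CommRingCat.of A) (ModuleCat.of A M)
  have hT : Coh.IsQCoh T := inferInstance
  let F : (U : Scheme.{u}).Modules := T.restrict U.ι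
  have hF : Coh.IsQCoh F := inferInstance
  obtain ⟨e⟩ := Groth.Agent.S0356.result A I M p hp
  obtain ⟨e'⟩ := Groth.Agent.S0012.result s F p
  have hG : Coh.IsQCoh ((Coh.push s).obj F) :=
    Groth.Agent.Ega1.QcqsPush.isQCoh_pushforward s F hF
  have h := Groth.Agent.Flat2G.FibDimVanish.subsingleton_HH b d hd ((Coh.push s).obj F) hG p hdp
  have h' : Subsingleton (Coh.HH (U : Scheme.{u}) F p) := e'.injective.subsingleton
  exact e.symm.injective.subsingleton

end Groth.Agent.S8937
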