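import Groth.Statements.S8938
import Groth.Agent.LocCoh.K165.TorUnion
import Groth.Agent.Flat2C.ReesChart
import Groth.Agent.S1739

set_option autoImplicit false
universe u
open CategoryTheory
attribute [local instance] HasDerivedCategory.standard
open LocCoh

namespace Groth.Agent.S8938


open Groth.Agent.CycA.TorBasic in
/-- Every element of `Tor_i(A[I/a], M)` comes from `Tor_i(I ^ n, M)` for some `n`. -/
theorem exists_rep {A : Type u} [CommRing A] (I : Ideal A) (a : A) (ha : a ∈ I)
    (M : Type u) [AddCommGroup M] [Module A M] (i : ℕ) (y : DRing.Tor A i (BlowUp.affineAlgebra A I a) M) :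
    ∃ (n : ℕ) (f : ↥(I ^ n) →ₗ[A] BlowUp.affineAlgebra A I a) (y' : DRing.Tor A i (↥(I ^ n)) M),
      mapL f i M y' = y := by
  let u : Localization.Away a := IsLocalization.Away.invSelf (S := Localization.Away a) a
  have hu : algebraMap A (Localization.Away a) a * u = 1 :=
    IsLocalization.Away.mul_invSelf (S := Localization.Away a) a
  have hun : ∀ k : ℕ, algebraMap A (Localization.Away a) a ^ k * u ^ k = 1 := by
    intro k
    rw [← mul_pow, hu, one_pow]
  let f : ∀ n : ℕ, ↥(I ^ n) →ₗ[A] BlowUp.affineAlgebra A I a := fun n =>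
    { toFun := fun x => ⟨algebraMap A _ x.1 * u ^ n,
        (Groth.Agent.Flat2C.ReesChart.mem_affineAlgebra_iff I a ha _).2 ⟨n, x.1, x.2, rfl⟩⟩
      map_add' := fun x y => by
        apply Subtype.ext
        change algebraMap A (Localization.Away a) (x.1 + y.1) * u ^ n =
          algebraMap A _ x.1 * u ^ n + algebraMap A _ y.1 * u ^ n
        rw [map_add, add_mul]
      map_smul' := fun r x => by
        apply Subtype.ext
        change algebraMap A (Localization.Away a) (r * x.1) * u ^ n =
          r • (algebraMap A (Localization.Away a) x.1 * u ^ n)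
        rw [Algebra.smul_def, map_mul, mul_assoc] }
  let τ : ∀ n m : ℕ, n ≤ m → (↥(I ^ n) →ₗ[A] ↥(I ^ m)) := fun n m h =>
    { toFun := fun x => ⟨a ^ (m - n) * x.1, by
        have h1 : I ^ m = I ^ (m - n) * I ^ n := by rw [← pow_add]; congr 1; omega
        rw [h1]
        exact Ideal.mul_mem_mul (Ideal.pow_mem_pow ha _) x.2⟩
      map_add' := fun x y => Subtype.ext (mul_add _ _ _)
      map_smul' := fun r x => by
        apply Subtype.ext
        change a ^ (m - n) * (r * x.1) = r * (a ^ (m - n) * x.1)
        ring }
  obtain ⟨n, y', h⟩ := K165.TorUnion.exists_mapL (fun n => ↥(I ^ n)) (BlowUp.affineAlgebra A I a) τ f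
    (by
      intro n m h
      ext x
      change algebraMap A (Localization.Away a) (a ^ (m - n) * x.1) * u ^ m =
        algebraMap A (Localization.Away a) x.1 * u ^ n
      obtain ⟨k, rfl⟩ := Nat.exists_eq_add_of_le h
      rw [Nat.add_sub_cancel_left, map_mul, map_pow, pow_add]
      linear_combination (algebraMap A (Localization.Away a) x.1 * u ^ n) * hun k)
    (by
      intro n m k h h'
      ext x
      change a ^ (k - m) * (a ^ (m - n) * x.1) = a ^ (k - n) * x.1
      rw [← mul_assoc, ← pow_add]
      congr 2
      omega)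
    (by
      intro b
      obtain ⟨n, x, hx, h⟩ := (Groth.Agent.Flat2C.ReesChart.mem_affineAlgebra_iff I a ha b.1).1 b.2
      exact ⟨n, ⟨x, hx⟩, Subtype.ext h.symm⟩)
    (by
      intro n x hx
      have h1 : algebraMap A (Localization.Away a) x.1 * u ^ n = 0 := congrArg Subtype.val hx
      have h2 : algebraMap A (Localization.Away a) x.1 = 0 := by
        have h3 := congrArg (fun z => z * algebraMap A (Localization.Away a) a ^ n) h1
        simp only [zero_mul] at h3
        rw [← h3]
        linear_combination (-algebraMap A (Localization.Away a) x.1) * hun n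
      rw [IsLocalization.map_eq_zero_iff (Submonoid.powers a)] at h2
      obtain ⟨⟨_, k, rfl⟩, hk⟩ := h2
      refine ⟨n + k, Nat.le_add_right _ _, Subtype.ext ?_⟩
      change a ^ (n + k - n) * x.1 = 0
      rw [Nat.add_sub_cancel_left]
      exact hk)
    M i y
  exact ⟨n, f n, y', h⟩

/-- Let A be a Noetherian ring, I an ideal generated by t + 1 listed elements a_0, …, a_t, and B =
A[I/a_0] the affine blow-up algebra. Then for some integer c the ideal I^c annihilates Tor_i^A(B, M)
for all A-modules M and all i ≥ t + 1. -/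
theorem result (A : Type u) [CommRing A] [IsNoetherianRing A] (t : ℕ) (a : Fin (t + 1) → A) : ∃ c : ℕ, ∀ (M : Type u) [AddCommGroup M] [Module A M] (i : ℕ), t + 1 ≤ i → ∀ x ∈ Ideal.span (Set.range a) ^ c, ∀ y : DRing.Tor A i (BlowUp.affineAlgebra A (Ideal.span (Set.range a)) (a 0)) M, x • y = 0 := by

  classical
  obtain ⟨c, hc⟩ := Groth.Agent.S1739.rees A (Finset.univ.image a)
  have hspan : Ideal.span ((Finset.univ.image a : Finset A) : Set A) = Ideal.span (Set.range a) := by
    congr 1
    ext x
    simp
  have hcard : (Finset.univ.image a).card ≤ t + 1 := by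
    refine Finset.card_image_le.trans ?_
    simp
  rw [hspan] at hc
  refine ⟨c, fun M _ _ i hi x hx y => ?_⟩
  obtain ⟨n, f, y', rfl⟩ := exists_rep (Ideal.span (Set.range a)) (a 0)
    (Ideal.subset_span ⟨0, rfl⟩) M i y
  rw [← map_smul]
  have h1 : x • y' = 0 :=
    Groth.Agent.S1739.pow A (Ideal.span (Set.range a)) M i n x (fun z => hc M i (hcard.trans hi) x hx z) y'
  rw [h1, map_zero]

end Groth.Agent.S8938
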