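import Groth.Statements.S8939
import Groth.Agent.LocCoh.K165.TwP

set_option autoImplicit false
universe u
open LocCoh

namespace Groth.Agent.S8939

/-- Given a derivation θ of a Noetherian ring A and an ideal I, each local cohomology module H^i_I(A)
carries an additive operator D with D(a • ξ) = θ(a) • ξ + a • D(ξ) (existence only; the published
statement is for any ring and a finitely generated ideal with the local cohomology of the extended
alternating Čech complex, which for Noetherian A is the local cohomology used here). -/
theorem result (A : Type u) [CommRing A] [IsNoetherianRing A] (I : Ideal A) (θ : Derivation ℤ A A) (i : ℕ) : ∃ D : LocCoh.H I i A →+ LocCoh.H I i A, ∀ (a : A) (ξ : LocCoh.H I i A), D (a • ξ) = θ a • ξ + a • D ξ := by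
  exact K165.TwP.exists_operator θ (Groth.Agent.Localalg.LCAbs.lc I) i (ModuleCat.of A A)
    θ.toLinearMap.toAddMonoidHom (fun a m => by
      change θ (a * m) = θ a * m + a * θ m
      rw [Derivation.leibniz, smul_eq_mul, smul_eq_mul]
      ring)

end Groth.Agent.S8939
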