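import Groth.Statements.S8941
import Groth.Agent.Dual.K173.RadjTri

set_option autoImplicit false
universe u
open CategoryTheory CategoryTheory.Pretriangulated
attribute [local instance] HasDerivedCategory.standard
open Dual

namespace Groth.Agent.S8941

/-- Let A be a Noetherian local ring with normalized dualizing complex ω, f a nonzerodivisor in the
maximal ideal and B = A/(f); with R right adjoint to restriction of scalars D(B) → D(A) (so that
R(ω) is RHom_A(B, ω), a normalized dualizing complex for B), there is a distinguished triangle in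
D(A) with vertices R(ω) viewed over A, ω, ω, whose middle morphism ω → ω is multiplication by f. -/
theorem result (A : Type u) [CommRing A] [IsLocalRing A] [IsNoetherianRing A] (ω : Dual.D A) (hω : Dual.IsDualizing A ω) (hn : Dual.IsNormalized A ω) (f : A) (hf : f ∈ IsLocalRing.maximalIdeal A) (hf' : f ∈ nonZeroDivisors A) (R : Dual.D A ⥤ Dual.D (A ⧸ Ideal.span {f})) (adj : DRing.restrictD (Ideal.Quotient.mk (Ideal.span {f})) ⊣ R) : ∃ (u : (DRing.restrictD (Ideal.Quotient.mk (Ideal.span {f}))).obj (R.obj ω) ⟶ ω) (w : ω ⟶ ((DRing.restrictD (Ideal.Quotient.mk (Ideal.span {f}))).obj (R.obj ω))⟦(1 : ℤ)⟧), Triangle.mk u (f • 𝟙 ω) w ∈ distinguishedTriangles := by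
  obtain ⟨J, a, b, hJ1, hJ2, hJ3, e, hs⟩ := Groth.Agent.LoccohA.DzDual.exists_setup hω
  have h0 : (f • 𝟙 (ModuleCat.of A A)) ≫ ModuleCat.ofHom (Submodule.mkQ (Ideal.span {f})) = 0 := by
    refine ModuleCat.hom_ext (LinearMap.ext fun x => ?_)
    change Ideal.Quotient.mk (Ideal.span {f}) (f * x) = 0
    rw [Ideal.Quotient.eq_zero_iff_mem]
    exact Ideal.mul_mem_right _ _ (Ideal.mem_span_singleton_self f)
  have hS : (ShortComplex.mk (f • 𝟙 (ModuleCat.of A A))
      (ModuleCat.ofHom (Submodule.mkQ (Ideal.span {f}))) h0).ShortExact := by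
    refine ModuleCat.shortComplex_shortExact _ ?_ ?_ ?_
    · intro (x : A)
      constructor
      · intro hx
        have hx' : Ideal.Quotient.mk (Ideal.span {f}) x = 0 := hx
        rw [Ideal.Quotient.eq_zero_iff_mem, Ideal.mem_span_singleton] at hx'
        obtain ⟨y, rfl⟩ := hx'
        exact ⟨y, rfl⟩
      · rintro ⟨y, rfl⟩
        exact congrArg (fun g => g.hom y) h0
    · intro (x : A) (y : A) hxy
      exact (mul_cancel_left_mem_nonZeroDivisors hf').1 hxy
    · exact Submodule.mkQ_surjective _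
  obtain ⟨u, w, h⟩ := K173.RadjTri.exists_triangle adj (f • 𝟙 (ModuleCat.of A A)) h0 hS J e
    (e ≪≫ DerivedCategory.Q.mapIso (Groth.Agent.LoccohA.DzHom.GAiso J).symm)
  refine ⟨u, w, ?_⟩
  have h1 : Groth.Agent.LoccohA.DzHom.Gmap (f • 𝟙 (ModuleCat.of A A)) J = f • 𝟙 _ := by
    ext i g
    change (f • 𝟙 (ModuleCat.of A A)) ≫ g = f • g
    rw [Linear.smul_comp, Category.id_comp]
    rfl
  rw [h1, Functor.map_smul, CategoryTheory.Functor.map_id, Linear.smul_comp, Category.id_comp,
    Linear.comp_smul, Iso.hom_inv_id] at h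
  exact h

end Groth.Agent.S8941
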