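import Groth.Statements.S8943
import Groth.Agent.S1795
import Groth.Agent.S1820
import Groth.Agent.Dual2.K367.RingEquivD
import Mathlib.AlgebraicGeometry.Morphisms.Flat
import Mathlib.Algebra.Category.Ring.Epi
-- import your own Groth.Agent.* helpers here

set_option autoImplicit false
universe u
open CategoryTheory AlgebraicGeometry
attribute [local instance] HasDerivedCategory.standard
open Dual2

namespace Groth.Agent.S8943

open Groth.Agent.LoccohB in
/-- Let R → R′ be a homomorphism of Noetherian rings such that Spec(R′) → Spec(R) is an open immersion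
(e.g. R′ = R_f). With φ^!(K) = RHom_P(R′, K ⊗^L_R P)[n] formed from a presentation ψ : P = R[x_1, …,
x_n] → R′ (derived base change functors assumed to exist, RHom_P(R′, −) a right adjoint of
restriction of scalars), φ^!(K) is isomorphic to K ⊗^L_R R′ for every K in D(R) (existence of an
isomorphism). -/
theorem result (R R' : Type u) [CommRing R] [CommRing R'] [IsNoetherianRing R] [IsNoetherianRing R'] [Algebra R R'] (hopen : IsOpenImmersion (Spec.map (CommRingCat.ofHom (algebraMap R R')))) (n : ℕ) (ψ : MvPolynomial (Fin n) R →ₐ[R] R') (hψ : Function.Surjective ψ) [DRing.HasLBaseChange (algebraMap R (MvPolynomial (Fin n) R))] (Rψ : Dual.D (MvPolynomial (Fin n) R) ⥤ Dual.D R') (adj : DRing.restrictD ψ.toRingHom ⊣ Rψ) [DRing.HasLBaseChange (algebraMap R R')] (K : Dual.D R) : Nonempty (Dual2.shriekVia n Rψ K ≅ (DRing.LBaseChange (algebraMap R R')).obj K) := by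
  have hfl : Module.Flat R R' := by
    have h : Flat (Spec.map (CommRingCat.ofHom (algebraMap R R'))) := inferInstance
    rw [Flat.SpecMap_iff] at h
    exact RingHom.flat_algebraMap_iff.1 h
  have hft : Algebra.FiniteType R R' := Algebra.FiniteType.of_surjective ψ hψ
  have hfp : Algebra.FinitePresentation R R' := Algebra.FinitePresentation.of_finiteType.1 inferInstance
  have hmono : Mono (Spec.map (CommRingCat.ofHom (algebraMap R R'))) := inferInstance
  have hepi : Epi (CommRingCat.ofHom (algebraMap R R')) := by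
    constructor
    intro S f g hfg
    apply Spec.map_injective
    rw [← cancel_mono (Spec.map (CommRingCat.ofHom (algebraMap R R'))), ← Spec.map_comp,
      ← Spec.map_comp, hfg]
  have hepi' : Algebra.IsEpi R R' := CommRingCat.epi_iff_epi.1 hepi
  have hbij : Function.Bijective (Algebra.TensorProduct.lmul' R (S := R')).toRingHom := by
    refine ⟨hepi'.injective_lift_mul, fun x => ⟨x ⊗ₜ 1, ?_⟩⟩
    change Algebra.TensorProduct.lmul' R (x ⊗ₜ[R] (1 : R')) = x
    rw [Algebra.TensorProduct.lmul'_apply_tmul, mul_one]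
  have hL := LBC.hasLBaseChange (Algebra.TensorProduct.includeLeftRingHom : R' →+* TensorProduct R R' R')
  have hL' := LBC.hasLBaseChange (Algebra.TensorProduct.lmul' R (S := R')).toRingHom
  obtain ⟨-, ⟨e⟩⟩ := Groth.Agent.S1795.result R R' n ψ hψ Rψ adj
    (RAdj.RCoext (Algebra.TensorProduct.lmul' R (S := R')).toRingHom) (RAdj.coextAdj _)
  obtain ⟨e1⟩ := K367.RingEquivD.radj_iso_lbc_of_bijective _ hbij _
    (RAdj.coextAdj (Algebra.TensorProduct.lmul' R (S := R')).toRingHom)
  have hL3 := LBC.hasLBaseChange (RingHom.id R')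
  have e2 : Dual2.shriekVia n Rψ (Dual.inD R R) ≅ Dual.inD R' R' :=
    ((LBC.lbcId (RingHom.id R') rfl).app _).symm ≪≫
      ((LBC.lbcComp (Algebra.TensorProduct.includeLeftRingHom : R' →+* TensorProduct R R' R')
        (Algebra.TensorProduct.lmul' R (S := R')).toRingHom (RingHom.id R') (by
          ext x
          change x = Algebra.TensorProduct.lmul' R (x ⊗ₜ[R] (1 : R'))
          rw [Algebra.TensorProduct.lmul'_apply_tmul, mul_one])).app _).symm ≪≫
      (e1.app _).symm ≪≫ e
  obtain ⟨W, hW, ⟨eW⟩⟩ := LTen.exists_kproj (Dual2.shriekVia n Rψ (Dual.inD R R))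
  have := LTen.hasLTensorCx W
  obtain ⟨e3⟩ := Groth.Agent.S1820.result R R' n ψ hψ Rψ adj W ⟨eW⟩ K
  obtain ⟨e4⟩ := RelT.lten_unit_shift W 0 (eW ≪≫ e2 ≪≫ ((shiftFunctorZero _ ℤ).app _).symm)
    ((DRing.LBaseChange (algebraMap R R')).obj K)
  exact ⟨e3 ≪≫ e4 ≪≫ (shiftFunctorZero _ ℤ).app _⟩

end Groth.Agent.S8943
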