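import Groth.Statements.S8945
import Groth.Agent.Dual.K173.RadjTri
import Groth.Agent.S1749

set_option autoImplicit false
universe u
open CategoryTheory CategoryTheory.Pretriangulated
attribute [local instance] HasDerivedCategory.standard
open Dual

namespace Groth.Agent.S8945

/-- Suppose A is a Noetherian local ring with maximal ideal m and residue field κ, and that ω is a
normalized dualizing complex on A; take an ideal I ⊆ m of finite length, set B = A/I, and let E be
an injective hull of κ; with R right adjoint to restriction of scalars D(B) → D(A) (so that R(ω) =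
RHom_A(B, ω) is a normalized dualizing complex for B), there is a distinguished triangle in D(A)
with vertices R(ω) viewed over A, ω, and the module Hom_A(I, E) placed in degree 0. -/
theorem result (A : Type u) [CommRing A] [IsLocalRing A] [IsNoetherianRing A] (ω : Dual.D A) (hω : Dual.IsDualizing A ω) (hn : Dual.IsNormalized A ω) (I : Ideal A) (hI : I ≤ IsLocalRing.maximalIdeal A) (hIl : IsFiniteLength A I) (E : Type u) [AddCommGroup E] [Module A E] (e : IsLocalRing.ResidueField A →ₗ[A] E) (he : InjHull.IsInjectiveHull e) (R : Dual.D A ⥤ Dual.D (A ⧸ I)) (adj : DRing.restrictD (Ideal.Quotient.mk I) ⊣ R) : ∃ (u : (DRing.restrictD (Ideal.Quotient.mk I)).obj (R.obj ω) ⟶ ω) (v : ω ⟶ Dual.inD A (I →ₗ[A] E)) (w : Dual.inD A (I →ₗ[A] E) ⟶ ((DRing.restrictD (Ideal.Quotient.mk I)).obj (R.obj ω))⟦(1 : ℤ)⟧), Triangle.mk u v w ∈ distinguishedTriangles := by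
  obtain ⟨J, a, b, hJ1, hJ2, hJ3, e', hs⟩ := Groth.Agent.LoccohA.DzDual.exists_setup hω
  have h0 : ModuleCat.ofHom (Submodule.subtype I) ≫ ModuleCat.ofHom (Submodule.mkQ I) = 0 := by
    refine ModuleCat.hom_ext (LinearMap.ext fun x => ?_)
    exact Ideal.Quotient.eq_zero_iff_mem.2 x.2
  have hS : (ShortComplex.mk (ModuleCat.ofHom (Submodule.subtype I))
      (ModuleCat.ofHom (Submodule.mkQ I)) h0).ShortExact := by
    refine ModuleCat.shortComplex_shortExact _ ?_ ?_ ?_
    · intro (x : A)
      constructor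
      · intro hx
        have hx' : Ideal.Quotient.mk I x = 0 := hx
        rw [Ideal.Quotient.eq_zero_iff_mem] at hx'
        exact ⟨⟨x, hx'⟩, rfl⟩
      · rintro ⟨y, rfl⟩
        exact congrArg (fun g => g.hom y) h0
    · exact Submodule.subtype_injective I
    · exact Submodule.mkQ_surjective _
  obtain ⟨h1, ⟨h2⟩⟩ := Groth.Agent.S1749.result A ω hω hn E e he I hIl
  -- the cohomology of `Hom(I, J)`
  have hH (i : ℤ) := Groth.Agent.LoccohA.DzHomology.Ghomology' (ModuleCat.of A I) J i
  have hsub (i : ℤ) (hi : i ≠ 0) : Limits.IsZero ((DerivedCategory.homologyFunctor (ModuleCat.{u} A) i).obj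
      (DerivedCategory.Q.obj (Groth.Agent.LoccohA.DzHom.G (ModuleCat.of A I) J))) := by
    have h3 := h1 i hi
    have h4 : Subsingleton (Dual.inD A I ⟶ (DerivedCategory.Q.obj J)⟦i⟧) :=
      (Linear.homCongr A (Iso.refl (Dual.inD A I)) ((shiftFunctor _ i).mapIso e')).symm.toEquiv.subsingleton
    have h5 : Subsingleton ((DerivedCategory.homologyFunctor (ModuleCat.{u} A) i).obj
      (DerivedCategory.Q.obj (Groth.Agent.LoccohA.DzHom.G (ModuleCat.of A I) J))) :=
      (hH i).toEquiv.subsingleton
    exact ModuleCat.isZero_of_subsingleton _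
  have hGE : (DerivedCategory.Q.obj (Groth.Agent.LoccohA.DzHom.G (ModuleCat.of A I) J)).IsGE 0 := by
    rw [DerivedCategory.isGE_iff]
    exact fun i hi => hsub i hi.ne
  have hLE : (DerivedCategory.Q.obj (Groth.Agent.LoccohA.DzHom.G (ModuleCat.of A I) J)).IsLE 0 := by
    rw [DerivedCategory.isLE_iff]
    exact fun i hi => hsub i hi.ne'
  obtain ⟨e1⟩ := Groth.Agent.LoccohA.DzTrunc.nonempty_iso_single
    (DerivedCategory.Q.obj (Groth.Agent.LoccohA.DzHom.G (ModuleCat.of A I) J)) 0
  have e2 : (DerivedCategory.homologyFunctor (ModuleCat.{u} A) 0).obj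
      (DerivedCategory.Q.obj (Groth.Agent.LoccohA.DzHom.G (ModuleCat.of A I) J)) ≃ₗ[A]
        (I →ₗ[A] E) :=
    ((hH 0).trans ((Linear.homCongr A (Iso.refl (Dual.inD A I))
      ((shiftFunctor _ (0 : ℤ)).mapIso e' ).symm).trans
      (Linear.homCongr A (Iso.refl (Dual.inD A I)) ((shiftFunctorZero _ ℤ).app ω)))).trans h2
  obtain ⟨u, w, h⟩ := K173.RadjTri.exists_triangle adj (ModuleCat.ofHom (Submodule.subtype I))
    h0 hS J e' (Z := Dual.inD A (I →ₗ[A] E))
    ((DerivedCategory.singleFunctor (ModuleCat.{u} A) 0).mapIso e2.toModuleIso.symm ≪≫ e1.symm)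
  exact ⟨u, _, w, h⟩

end Groth.Agent.S8945
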