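import Groth.Statements.S8947
import Groth.Agent.Dual.H374.AffinePt
import Groth.Agent.Dual2.K367.ResTrdeg
-- import your own Groth.Agent.* helpers here

set_option autoImplicit false
universe u
open CategoryTheory AlgebraicGeometry
attribute [local instance] HasDerivedCategory.standard
open Dual2

namespace Groth.Agent.S8947

/-- Let R → A be a finite type map of Noetherian rings with relative dualizing complex ω_{A/R} =
φ^!(R[0]) (computed through a presentation ψ : R[x_1, …, x_n] → A as RHom_P(A, R ⊗^L_R P)[n], the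
derived base change being assumed to exist and RHom_P(A, −) being a right adjoint of restriction of
scalars). Let p be a prime of R such that R_p is Cohen–Macaulay, and r a natural number bounding the
transcendence degree of κ(q) over κ(R ∩ q) for every minimal prime q of A. Then, S denoting the
image of R ∖ p in A, the localization S⁻¹H^i(ω_{A/R}) is nonzero only if −r ≤ i, and
S⁻¹H^{−r}(ω_{A/R}) satisfies Serre's condition (S_2) as an S⁻¹A-module. -/
theorem result (R A : Type u) [CommRing R] [CommRing A] [IsNoetherianRing R] [IsNoetherianRing A] [Algebra R A] (n : ℕ) (ψ : MvPolynomial (Fin n) R →ₐ[R] A) (hψ : Function.Surjective ψ) [DRing.HasLBaseChange (algebraMap R (MvPolynomial (Fin n) R))] (Rψ : Dual.D (MvPolynomial (Fin n) R) ⥤ Dual.D A) (adj : DRing.restrictD ψ.toRingHom ⊣ Rψ) (p : Ideal R) [p.IsPrime] [LocCoh.IsCohenMacaulayLocalRing (Localization.AtPrime p)] (r : ℕ) (hr : ∀ q : PrimeSpectrum A, q.asIdeal ∈ minimalPrimes A → Dual3.resTrdeg (Spec.map (CommRingCat.ofHom (algebraMap R A)))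 q ≤ (r : Cardinal.{u})) : (∀ i : ℤ, Nontrivial (LocalizedModule (Algebra.algebraMapSubmonoid A p.primeCompl) (Dual.HD A (Dual2.shriekVia n Rψ (Dual.inD R R)) i)) → -(r : ℤ) ≤ i) ∧ LocCoh.HasSk 2 (Localization (Algebra.algebraMapSubmonoid A p.primeCompl)) (LocalizedModule (Algebra.algebraMapSubmonoid A p.primeCompl) (Dual.HD A (Dual2.shriekVia n Rψ (Dual.inD R R)) (-(r : ℤ)))) := by
  have htr : ∀ Q : Ideal A, Dual.H374.AffinePt.TrdegLE R Q r := by
    intro Q 𝔮 h𝔮 hle
    have hp : 𝔮.IsPrime := h𝔮.1.1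
    have h1 := hr ⟨𝔮, hp⟩ h𝔮
    rw [K367.ResTrdeg.resTrdeg_Spec_map R A ⟨𝔮, hp⟩] at h1
    exact h1
  have hCM : ∀ (Q : Ideal A) [Q.IsPrime],
      (∀ s ∈ Algebra.algebraMapSubmonoid A p.primeCompl, s ∉ Q) →
      LocCoh.IsCohenMacaulayLocalRing (Localization.AtPrime (Q.under R)) := by
    intro Q _ h
    refine Dual.H374.AffinePt.cm_of_le p (Q.under R) (fun x hx => ?_) inferInstance
    by_contra hxp
    exact h _ ⟨x, hxp, rfl⟩ hx
  constructor
  · intro i hi
    by_contra hlt
    rw [not_le] at hlt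
    rw [← not_subsingleton_iff_nontrivial] at hi
    apply hi
    rw [LocalizedModule.subsingleton_iff]
    intro x
    by_contra hx
    push Not at hx
    let I : Ideal A := LinearMap.ker (LinearMap.toSpanSingleton A _ x)
    have hI : ∀ s, s ∈ I ↔ s • x = 0 := fun s => Iff.rfl
    obtain ⟨Q, hQ, hIQ, hdis⟩ := Ideal.exists_le_prime_disjoint I
      (Algebra.algebraMapSubmonoid A p.primeCompl)
      (Set.disjoint_left.2 fun s hs hs' => hx s hs' ((hI s).1 hs))
    obtain ⟨s, hs, hsx⟩ := Dual.H374.AffinePt.torsion_low n ψ hψ adj Q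
      (hCM Q fun s hs hs' => Set.disjoint_left.1 hdis hs' hs) r (htr Q) i hlt x
    exact hs (hIQ ((hI s).2 hsx))
  · intro P hP
    rw [Ega4B.LocTransfer.depth_eq_of_isLocalization
        (Algebra.algebraMapSubmonoid A p.primeCompl)
        (LocalizedModule.mkLinearMap (Algebra.algebraMapSubmonoid A p.primeCompl)
          (Dual.HD A (Dual2.shriekVia n Rψ (Dual.inD R R)) (-(r : ℤ)))) P,
      Ega4B.LocTransfer.supportDim_eq_of_isLocalization
        (Algebra.algebraMapSubmonoid A p.primeCompl)
        (LocalizedModule.mkLinearMap (Algebra.algebraMapSubmonoid A p.primeCompl)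
          (Dual.HD A (Dual2.shriekVia n Rψ (Dual.inD R R)) (-(r : ℤ)))) P]
    refine le_trans (min_le_min le_rfl (Module.supportDim_le_ringKrullDim _ _)) ?_
    exact Dual.H374.AffinePt.le_depth n ψ hψ adj _ (hCM _ fun s hs hs' =>
      Ega4B.LocTransfer.notMem_of_mem (Algebra.algebraMapSubmonoid A p.primeCompl) P ⟨s, hs⟩ hs')
      r (htr _)

end Groth.Agent.S8947
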