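import Groth.Statements.S8949
import Groth.Agent.Dual.H331.GorComp
import Groth.Agent.S0342
import Groth.Agent.Ega4C.LocusFibre

set_option autoImplicit false
universe u
open scoped TensorProduct
open Goren

namespace Groth.Agent.S8949

open Groth.Agent Groth.Agent.Ega4C Groth.Agent.LoccohA

theorem gor_fibLoc_congr (A B : Type u) [CommRing A] [CommRing B] [Algebra A B]
    {r' r : Ideal B} [r'.IsPrime] [r.IsPrime] (h : r' = r) :
    LocCoh.IsGorensteinLocalRing (EGA4.FibLocRing A B r') →
      LocCoh.IsGorensteinLocalRing (EGA4.FibLocRing A B r) := by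
  subst h
  exact id

/-- The fibre local ring at a prime in terms of the tower of local rings. -/
theorem gor_iff_fibLoc (A B : Type u) [CommRing A] [CommRing B] [Algebra A B]
    (q : Ideal A) [q.IsPrime] (p : Ideal B) [p.IsPrime] [p.LiesOver q] :
    letI := Localization.AtPrime.algebraOfLiesOver q p
    (LocCoh.IsGorensteinLocalRing (EGA4.FibLocRing A B p) ↔
      LocCoh.IsGorensteinLocalRing (Localization.AtPrime p ⧸
        (IsLocalRing.maximalIdeal (Localization.AtPrime q)).map
          (algebraMap (Localization.AtPrime q) (Localization.AtPrime p)))) := by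
  let _ := Localization.AtPrime.algebraOfLiesOver q p
  refine GorBC.isGorensteinLocalRing_iff_of_ringEquiv (Ideal.quotEquivOfEq ?_)
  rw [← Localization.AtPrime.map_eq_maximalIdeal, Ideal.map_map, ← IsScalarTower.algebraMap_eq]
  congr 1
  exact (Ideal.over_def p q).symm

/-- Gorenstein fibres are preserved by composing with a regular map. For flat maps A → B → C of
Noetherian rings, if the fibres of A → B are Gorenstein rings and B → C is regular, then the fibres
of A → C are Gorenstein rings. -/
theorem result (A B C : Type u) [CommRing A] [CommRing B] [CommRing C] [IsNoetherianRing A] [IsNoetherianRing B] [IsNoetherianRing C] [Algebra A B] [Algebra B C] [Algebra A C] [IsScalarTower A B C] [Module.Flat A B] [Module.Flat B C] (hAB : ∀ (q : Ideal A) [q.IsPrime], LocCoh.IsGorensteinRing (q.Fiber B)) (hBC : CAlg.IsRegularHom B C) : ∀ (q : Ideal A) [q.IsPrime], LocCoh.IsGorensteinRing (q.Fiber C) := by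
  intro q hq
  have hN : IsNoetherianRing (q.Fiber C) := FibreTower.isNoetherianRing_fiber q
  refine { isGorensteinLocalRing_localization := fun Q hQ => ?_ }
  refine GorBC.isGorensteinLocalRing_of_ringEquiv (FibreTower.locFibreEquiv q Q).symm ?_
  have hrq := FibreTower.ctr_comap q Q
  obtain ⟨r, hr⟩ : ∃ r : Ideal C, r = FibreTower.ctr q Q := ⟨_, rfl⟩
  have hrp : r.IsPrime := by rw [hr]; infer_instance
  have hgoal : LocCoh.IsGorensteinLocalRing (EGA4.FibLocRing A C r) := by
    rw [← hr] at hrq
    let p : Ideal B := r.comap (algebraMap B C)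
    have hpq : p.comap (algebraMap A B) = q := by
      rw [← hrq, Ideal.comap_comap, ← IsScalarTower.algebraMap_eq]
    have l1 : p.LiesOver q := ⟨hpq.symm⟩
    have l2 : r.LiesOver p := ⟨rfl⟩
    have l3 : r.LiesOver q := ⟨hrq.symm⟩
    rw [gor_iff_fibLoc A C q r]
    let _ := Localization.AtPrime.algebraOfLiesOver q p
    let _ := Localization.AtPrime.algebraOfLiesOver p r
    let _ := Localization.AtPrime.algebraOfLiesOver q r
    have : IsScalarTower (Localization.AtPrime q) (Localization.AtPrime p)
        (Localization.AtPrime r) := by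
      refine IsScalarTower.of_algebraMap_eq' ?_
      apply IsLocalization.ringHom_ext q.primeCompl
      rw [RingHom.comp_assoc, ← IsScalarTower.algebraMap_eq A (Localization.AtPrime q) (Localization.AtPrime p),
        ← IsScalarTower.algebraMap_eq A (Localization.AtPrime q) (Localization.AtPrime r),
        IsScalarTower.algebraMap_eq A B (Localization.AtPrime p), ← RingHom.comp_assoc,
        ← IsScalarTower.algebraMap_eq B (Localization.AtPrime p) (Localization.AtPrime r),
        IsScalarTower.algebraMap_eq B C (Localization.AtPrime r), RingHom.comp_assoc,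
        ← IsScalarTower.algebraMap_eq A B C, ← IsScalarTower.algebraMap_eq]
    have h1 : IsLocalHom (algebraMap (Localization.AtPrime q) (Localization.AtPrime p)) :=
      Localization.isLocalHom_localRingHom q p (algebraMap A B) Ideal.LiesOver.over
    have h2 : IsLocalHom (algebraMap (Localization.AtPrime p) (Localization.AtPrime r)) :=
      Localization.isLocalHom_localRingHom p r (algebraMap B C) Ideal.LiesOver.over
    rw [Dual.H331.GorComp.gorenstein_tower_iff (Localization.AtPrime q) (Localization.AtPrime p)
      (Localization.AtPrime r) inferInstance inferInstance, ← gor_iff_fibLoc A B q p,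
      ← gor_iff_fibLoc B C p r]
    constructor
    · obtain ⟨Q', hQ', hQ'p⟩ := FibreTower.exists_prime_fibre q p hpq
      have h3 := (hAB q).isGorensteinLocalRing_localization Q'
      have h4 := GorBC.isGorensteinLocalRing_of_ringEquiv (FibreTower.locFibreEquiv q Q') h3
      exact gor_fibLoc_congr A B hQ'p h4
    · obtain ⟨Q', hQ', hQ'r⟩ := FibreTower.exists_prime_fibre p r rfl
      have hreg : IsRegularRing (p.Fiber C) :=
        LocusFibre.isRegularRing_of_isGeometricallyRegular p.ResidueField (p.Fiber C) (hBC.2 p).2
      have h3 : LocCoh.IsGorensteinLocalRing (Localization.AtPrime Q') :=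
        S0342.result (Localization.AtPrime Q')
      have h4 := GorBC.isGorensteinLocalRing_of_ringEquiv (FibreTower.locFibreEquiv p Q') h3
      exact gor_fibLoc_congr B C hQ'r h4
  subst hr
  exact hgoal

end Groth.Agent.S8949
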