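import Groth.Statements.S8952
-- import your own Groth.Agent.* helpers here
import Groth.Agent.Dual.H310.OpenBC
import Groth.Agent.Dual.H342.HypField
import Groth.Agent.Sga2lef.H96.LevelFree
import Groth.Agent.S0998
import Groth.Agent.S1766
import Groth.Agent.S1747

set_option autoImplicit false
universe u
open CategoryTheory CategoryTheory.Limits AlgebraicGeometry
attribute [local instance] HasDerivedCategory.standard
open Dual3

namespace Groth.Agent.S8952

/-- A nonempty scheme of finite type over `k` which is a scheme over `k'` forces `k' / k` finite. -/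
theorem finite_of_nonempty (k k' : Type u) [Field k] [Field k'] [Algebra k k'] (X : Scheme.{u})
    [hX : Nonempty X] (f : X ⟶ Spec (CommRingCat.of k)) [LocallyOfFiniteType f]
    (f' : X ⟶ Spec (CommRingCat.of k'))
    (hff' : f' ≫ Spec.map (CommRingCat.ofHom (algebraMap k k')) = f) : Module.Finite k k' := by
  obtain ⟨x⟩ := hX
  obtain ⟨V, hV, hxV, -⟩ := exists_isAffineOpen_mem_and_subset (x := x) (U := ⊤) trivial
  let A : CommRingCat.{u} := Γ(X, V)
  have hA : Nontrivial A := by
    have : Nonempty (V : Scheme.{u}) := ⟨⟨x, hxV⟩⟩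
    exact Scheme.component_nontrivial X V
  let ψ : CommRingCat.of k' ⟶ A := Spec.preimage (hV.fromSpec ≫ f')
  let φ : CommRingCat.of k ⟶ A := CommRingCat.ofHom (algebraMap k k') ≫ ψ
  have hφ : Spec.map φ = hV.fromSpec ≫ f := by
    rw [Spec.map_comp, Spec.map_preimage, Category.assoc, hff']
  have hφf : φ.hom.FiniteType := by
    have h1 : LocallyOfFiniteType (Spec.map φ) := by
      rw [hφ]; infer_instance
    exact (HasRingHomProperty.Spec_iff (P := @LocallyOfFiniteType)).1 h1
  obtain ⟨m, hm⟩ := Ideal.exists_maximal A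
  let := Ideal.Quotient.field m
  let q : A →+* A ⧸ m := Ideal.Quotient.mk m
  have h2 : (q.comp φ.hom).FiniteType :=
    (RingHom.FiniteType.of_surjective q Ideal.Quotient.mk_surjective).comp hφf
  have h3 : (q.comp φ.hom).Finite := RingHom.finite_iff_finiteType_of_isJacobsonRing.2 h2
  let : Algebra k (A ⧸ m) := (q.comp φ.hom).toAlgebra
  have h4 : Module.Finite k (A ⧸ m) := h3
  let g : k' →ₗ[k] (A ⧸ m) :=
    { toFun := fun x => q (ψ.hom x)
      map_add' := fun x y => by rw [map_add, map_add]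
      map_smul' := fun c x => by
        rw [Algebra.smul_def, map_mul, map_mul, RingHom.id_apply, Algebra.smul_def]
        rfl }
  refine Module.Finite.of_injective g ?_
  exact (q.comp ψ.hom).injective

/-- The right adjoint for a finite extension of fields. -/
theorem adj_field (k k' : Type u) [Field k] [Field k'] [Algebra k k'] [Module.Finite k k']
    (h : Spec (CommRingCat.of k') ⟶ Spec (CommRingCat.of k))
    (hh : h = Spec.map (CommRingCat.ofHom (algebraMap k k')))
    [DCoh.HasRpush h] (hf : DCoh.RpushPreservesQCoh h)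
    (a : DCoh.DQCoh (Spec (CommRingCat.of k)) ⥤ DCoh.DQCoh (Spec (CommRingCat.of k')))
    (adj : DCoh.RpushQ h hf ⊣ a)
    (O : DCoh.DQCoh (Spec (CommRingCat.of k)))
    (hO : Nonempty (O.obj ≅ DCoh.inD (Spec (CommRingCat.of k))
      (Coh.structureModule (Spec (CommRingCat.of k))))) :
    Nonempty ((a.obj O).obj ≅ DCoh.inD (Spec (CommRingCat.of k'))
      (Coh.structureModule (Spec (CommRingCat.of k')))) := by
  have : IsFinite h := by
    rw [hh, IsFinite.SpecMap_iff]
    exact (RingHom.finite_algebraMap (A := k) (B := k')).2 inferInstance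
  have hK := Groth.Agent.Dual.H342.HypField.hyp k (Spec (CommRingCat.of k')) h hf a adj O hO
  obtain ⟨ω, hω, ⟨e⟩⟩ := hK.exists_dual k' (𝟙 _)
  let y : Spec (CommRingCat.of k') := (⟨⊥, inferInstance⟩ : PrimeSpectrum k')
  have hsub : Subsingleton (Spec (CommRingCat.of k')) :=
    inferInstanceAs (Subsingleton (PrimeSpectrum k'))
  have hpt := hK.point k' (𝟙 _) ω e ⊥ y rfl (by
    have : ({(𝟙 (Spec (CommRingCat.of k')) : _ ⟶ _) y} : Set (Spec (CommRingCat.of k'))) = Set.univ :=
      Set.eq_univ_of_forall fun z => Subsingleton.elim _ _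
    rw [this]
    exact isClosed_univ)
  obtain ⟨n, ⟨r⟩⟩ := Groth.Agent.S1747.result k' (Dual.inD k' k') ω
    (Groth.Agent.PerfA.FieldSch.isDualizing_of_isSemisimpleRing k') hω
  have hn : n = 0 := by
    by_contra hn
    have h1 := hpt (-n) (by omega)
    let i₁ : Dual.inD k' (k' ⧸ (⊥ : Ideal k')) ≅ Dual.inD k' k' :=
      (DerivedCategory.singleFunctor (ModuleCat.{u} k') 0).mapIso
        ((Submodule.quotEquivOfEqBot (⊥ : Submodule k' k') rfl).toModuleIso)
    let i₂ : ω⟦-n⟧ ≅ Dual.inD k' k' :=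
      (shiftFunctor _ (-n)).mapIso r ≪≫ (shiftFunctorCompIsoId _ n (-n) (by omega)).app _
    have h2 : ∀ u : Dual.inD k' k' ⟶ Dual.inD k' k', u = 0 := fun u => by
      have h3 : i₁.hom ≫ u ≫ i₂.inv = 0 := h1.elim _ _
      rw [← cancel_epi i₁.hom, ← cancel_mono i₂.inv, Category.assoc, h3, comp_zero, zero_comp]
    have h4 : (𝟙 (ModuleCat.of k' k')) = 0 := by
      apply (DerivedCategory.singleFunctor (ModuleCat.{u} k') 0).map_injective
      rw [Functor.map_zero]
      exact h2 _
    have h5 := congrArg (fun v => (ModuleCat.Hom.hom v) (1 : k')) h4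
    exact one_ne_zero h5
  subst hn
  let i₃ : ω ≅ Dual.inD k' k' := r ≪≫ (shiftFunctorZero _ ℤ).app _
  let ρ : DCoh.restrictD (𝟙 (Spec (CommRingCat.of k'))) ≅ 𝟭 _ :=
    Groth.Agent.PerfA.ExactD.mapDIso (Scheme.Modules.restrictFunctorId
      (X := Spec (CommRingCat.of k'))) ≪≫ Groth.Agent.PerfA.ExactD.mapDId _
  exact ⟨ρ.symm.app _ ≪≫ e ≪≫ (DCoh.tildeD (CommRingCat.of k')).mapIso i₃ ≪≫
    (Groth.Agent.PerfA.FieldSch.restrictStructureIso k' (𝟙 _)).symm ≪≫ ρ.app _⟩

theorem result (k k' : Type u) [Field k] [Field k'] [Algebra k k'] (X : Scheme.{u}) (f : X ⟶ Spec (CommRingCat.of k)) [IsProper f] (f' : X ⟶ Spec (CommRingCat.of k')) (hff' : f' ≫ Spec.map (CommRingCat.ofHom (algebraMap k k')) = f) [DCoh.HasRpush f] (hf : DCoh.RpushPreservesQCoh f) (a : DCoh.DQCoh (Spec (CommRingCat.of k)) ⥤ DCoh.DQCoh X) (adj : DCoh.RpushQ f hf ⊣ a) [DCoh.HasRpush f'] (hf' : DCoh.RpushPreservesQCoh f') (a' : DCoh.DQCoh (Spec (CommRingCat.of k')) ⥤ DCoh.DQCoh X) (adj' : DCoh.RpushQ f'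 hf' ⊣ a') (O : DCoh.DQCoh (Spec (CommRingCat.of k))) (hO : Nonempty (O.obj ≅ DCoh.inD (Spec (CommRingCat.of k)) (Coh.structureModule (Spec (CommRingCat.of k))))) (O' : DCoh.DQCoh (Spec (CommRingCat.of k'))) (hO' : Nonempty (O'.obj ≅ DCoh.inD (Spec (CommRingCat.of k')) (Coh.structureModule (Spec (CommRingCat.of k'))))) : Nonempty ((a.obj O).obj ≅ (a'.obj O').obj) := by
  by_cases hX : IsEmpty X
  · have hz : ∀ K : DCoh.D X, IsZero K := fun K => by
      have h1 : K.IsLE (-1) := (DerivedCategory.isLE_iff K (-1)).2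
        fun i _ => Groth.Agent.Sga2lef.H96.LevelFree.isZero_of_isEmpty _
      have h2 : K.IsGE 0 := (DerivedCategory.isGE_iff K 0).2
        fun i _ => Groth.Agent.Sga2lef.H96.LevelFree.isZero_of_isEmpty _
      rw [IsZero.iff_id_eq_zero]
      exact DerivedCategory.TStructure.t.zero_of_isLE_of_isGE _ (-1) 0 (by omega) h1 h2
    exact ⟨(hz _).iso (hz _)⟩
  · rw [not_isEmpty_iff] at hX
    have hfin := finite_of_nonempty k k' X f f' hff'
    let h : Spec (CommRingCat.of k') ⟶ Spec (CommRingCat.of k) :=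
      Spec.map (CommRingCat.ofHom (algebraMap k k'))
    have := Groth.Agent.Dcoh.DerSch.hasRpush h
    have hh : DCoh.RpushPreservesQCoh h := fun K hK => S0998.result _ K hK
    have hleft : (DCoh.RpushQ h hh).IsLeftAdjoint := S1766.result _ _ h hh
    let ah := (DCoh.RpushQ h hh).rightAdjoint
    let adjh : DCoh.RpushQ h hh ⊣ ah := Adjunction.ofIsLeftAdjoint _
    obtain ⟨e⟩ := Groth.Agent.Dual.H310.OpenBC.nonempty_rightAdjComp f' h f hff' hf' hh hf
      adj' adjh adj
    obtain ⟨e₁⟩ := adj_field k k' h rfl hh ah adjh O hO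
    obtain ⟨e₂⟩ := hO'
    exact ⟨(ObjectProperty.ι _).mapIso (e.app O ≪≫
      a'.mapIso ((ObjectProperty.ι DCoh.IsQCohD).preimageIso (e₁ ≪≫ e₂.symm)))⟩

end Groth.Agent.S8952
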