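import Groth.Statements.S8953
import Groth.Agent.Disc.K576.CoextH0
import Groth.Agent.S1799
import Groth.Agent.S8943
import Groth.Agent.S1784
import Mathlib.RingTheory.FiniteType

set_option autoImplicit false
universe u
open CategoryTheory AlgebraicGeometry
open scoped TensorProduct
attribute [local instance] HasDerivedCategory.standard
open Disc

namespace Groth.Agent.S8953

open Groth.Agent.LoccohB in
/-- Let A → B be a quasi-finite map of Noetherian rings, written as a composite A → B′ → B in which the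
first map A → B′ is finite and the induced morphism Spec(B) → Spec(B′) is an open immersion, so that
ω_{B/A} = Hom_A(B′, A) ⊗_{B′} B; and let ω^•_{B/A} = φ^!(A[0]) be the algebraic relative dualizing
complex computed through a presentation ψ : A[x_1, …, x_n] → B (derived base change assumed to
exist, RHom_P(B, −) given as a right adjoint of restriction of scalars). Then there is a
(non-unique) B-linear isomorphism H^0(ω^•_{B/A}) ≅ ω_{B/A}. -/
theorem result (A B B' : Type u) [CommRing A] [CommRing B] [CommRing B'] [IsNoetherianRing A] [IsNoetherianRing B] [Algebra A B] [Algebra A B'] [Algebra B' B] [IsScalarTower A B' B] [Module.Finite A B'] (hopen : IsOpenImmersion (Spec.map (CommRingCat.ofHom (algebraMap B' B)))) (n : ℕ) (ψ : MvPolynomial (Fin n) A →ₐ[A] B) (hψ : Function.Surjective ψ) [DRing.HasLBaseChange (algebraMap A (MvPolynomial (Fin n) A))] (Rψ : Dual.D (MvPolynomial (Fin n) A) ⥤ Dual.D B) (adj : DRing.restrictD ψ.toRingHom ⊣ Rψ) : Nonempty (Dual.HD B (Dual2.shriekVia n Rψ (Dual.inD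 A A)) 0 ≃ₗ[B] (B ⊗[B'] Disc.Omega A B')) := by
  have hBfin : Algebra.FiniteType A B := Algebra.FiniteType.of_surjective ψ hψ
  have hB'ft : Algebra.FiniteType B' B := Algebra.FiniteType.of_restrictScalars_finiteType A B' B
  have hNoeth : IsNoetherianRing B' := IsNoetherianRing.of_finite A B'
  have hfl : Module.Flat B' B := by
    have h : Flat (Spec.map (CommRingCat.ofHom (algebraMap B' B))) := inferInstance
    rw [Flat.SpecMap_iff] at h
    exact RingHom.flat_algebraMap_iff.1 h
  obtain ⟨n', ψ', hψ'⟩ := Algebra.FiniteType.iff_quotient_mvPolynomial''.1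
    (inferInstance : Algebra.FiniteType A B')
  obtain ⟨m, χ, hχ⟩ := Algebra.FiniteType.iff_quotient_mvPolynomial''.1 hB'ft
  have := LBC.hasLBaseChange (algebraMap A (MvPolynomial (Fin n') A))
  have := LBC.hasLBaseChange (algebraMap B' (MvPolynomial (Fin m) B'))
  have := LBC.hasLBaseChange (algebraMap B' B)
  have hK : ∀ i : ℤ, i < 0 → Subsingleton (Dual.HD A (Dual.inD A A) i) := fun i hi =>
    K576.CoextH0.subsingleton_HD_inD A i hi
  obtain ⟨e1⟩ := Groth.Agent.S1799.result A B' B n' ψ' hψ' (RAdj.RCoext ψ'.toRingHom)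
    (RAdj.coextAdj _) m χ hχ (RAdj.RCoext χ.toRingHom) (RAdj.coextAdj _) n ψ hψ Rψ adj
    (Dual.inD A A) 0 hK
  obtain ⟨e2⟩ := Groth.Agent.S8943.result B' B hopen m χ hχ (RAdj.RCoext χ.toRingHom)
    (RAdj.coextAdj _) (Dual2.shriekVia n' (RAdj.RCoext ψ'.toRingHom) (Dual.inD A A))
  obtain ⟨e3⟩ := Groth.Agent.S1784.result A B' n' ψ' hψ' (RAdj.RCoext ψ'.toRingHom)
    (RAdj.coextAdj _) (RAdj.RCoext (algebraMap A B')) (RAdj.coextAdj _) (Dual.inD A A)
  let E := e1 ≪≫ e2 ≪≫ (DRing.LBaseChange (algebraMap B' B)).mapIso e3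
  exact ⟨((DerivedCategory.homologyFunctor (ModuleCat.{u} B) 0).mapIso E).toLinearEquiv ≪≫ₗ
    K576.CoextH0.hdFlat B' B _ 0 ≪≫ₗ
    (K576.CoextH0.omegaHD (RAdj.coextAdj (algebraMap A B'))).symm.baseChange B' B _ _⟩

end Groth.Agent.S8953
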