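import Groth.Statements.S8954
import Groth.Agent.Synt.K561.SynLci
import Groth.Agent.Synt.K561.SemiLocGen
import Groth.Agent.Models.GciLen
import Groth.Agent.Models.GciPres
import Groth.Agent.Models2.CIFlat2
-- import your own Groth.Agent.* helpers here

set_option autoImplicit false
universe u
open Synt

namespace Groth.Agent.S8954



open K561.SemiLocGen K561.SynLci

section

variable {A B : Type u} [CommRing A] [CommRing B] [Algebra A B]

theorem exists_family_of_isLCI [Module.Flat A B] {n : ℕ}
    (φ : MvPolynomial (Fin n) A →ₐ[A] B) (hφ : Function.Surjective φ)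
    (hk : LCI.IsKoszulRegularIdeal (RingHom.ker φ.toRingHom)) (q : Ideal B) [q.IsPrime] :
    ∃ a : Fin n → (RingHom.ker φ.toRingHom), ∀ y : RingHom.ker φ.toRingHom,
      ∃ t ∉ q.comap φ.toRingHom, t • y ∈ Submodule.span (MvPolynomial (Fin n) A) (Set.range a) := by
  obtain ⟨g, hg, l, hl, hlI⟩ := hk ⟨q.comap φ.toRingHom, inferInstance⟩ (Ideal.ker_le_comap φ.toRingHom)
  have hlen := Groth.Agent.Models.GciLen.length_le φ hφ g l hl hlI q hg
  obtain ⟨f, hf⟩ := Groth.Agent.Models.GciPres.exists_fin_family l n hlen
  obtain ⟨a, ha, ha'⟩ := exists_generators_of_away (RingHom.ker φ.toRingHom) g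
    (D := Localization.Away g) f (hlI.trans hf.symm)
  refine ⟨fun j => ⟨a j, ha j⟩, fun y => ?_⟩
  obtain ⟨k, hk⟩ := ha' y.1 y.2
  refine ⟨g ^ k, fun h => hg (Ideal.IsPrime.mem_of_pow_mem inferInstance _ h), ?_⟩
  have h1 := Submodule.map_span (RingHom.ker φ.toRingHom).subtype
    (Set.range fun j => (⟨a j, ha j⟩ : RingHom.ker φ.toRingHom))
  rw [← Set.range_comp] at h1
  have h2 : g ^ k * y.1 ∈ Submodule.map (RingHom.ker φ.toRingHom).subtype
      (Submodule.span (MvPolynomial (Fin n) A)
        (Set.range fun j => (⟨a j, ha j⟩ : RingHom.ker φ.toRingHom))) := by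
    rw [h1]
    exact hk
  obtain ⟨z, hz, hzy⟩ := h2
  have h3 : z = g ^ k • y := Subtype.ext hzy
  rw [← h3]
  exact hz

theorem exists_presentation_of_isLCI [IsLocalRing A] [Module.Finite A B] [Module.Flat A B]
    (h : LCI.IsLCI A B) : ∃ (n : ℕ) (F : Fin n → MvPolynomial (Fin n) A),
      Nonempty (B ≃ₐ[A] Synt.RelGCIRing A n n F) := by
  obtain ⟨-, n, φ, hφ, hk⟩ := h
  have hfg : (RingHom.ker φ.toRingHom).FG :=
    Groth.Agent.Flat2H.KoszulDescent.IsKoszulRegularIdeal.fg hk
  have hfin : Module.Finite (MvPolynomial (Fin n) A) (RingHom.ker φ.toRingHom) :=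
    Module.Finite.iff_fg.mpr hfg
  have hB : Finite (MaximalSpectrum B) := finite_maximalSpectrum A B
  have hmax : ∀ q : MaximalSpectrum B, (q.asIdeal.comap φ.toRingHom).IsMaximal := fun q => by
    have := q.isMaximal
    exact Ideal.comap_isMaximal_of_surjective φ.toRingHom hφ
  have hinj : Function.Injective fun q : MaximalSpectrum B => q.asIdeal.comap φ.toRingHom := fun q q' hq =>
    MaximalSpectrum.ext (Ideal.comap_injective_of_surjective φ.toRingHom hφ hq)
  choose a ha using fun q : MaximalSpectrum B =>
    haveI := q.isMaximal.isPrime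
    exists_family_of_isLCI φ hφ hk q.asIdeal
  obtain ⟨F, hF⟩ := exists_family (fun q : MaximalSpectrum B => q.asIdeal.comap φ.toRingHom) hmax hinj a ha
  -- the conductor
  let J : Ideal (MvPolynomial (Fin n) A) :=
    { carrier := {g | ∀ y : RingHom.ker φ.toRingHom, g • y ∈ Submodule.span (MvPolynomial (Fin n) A) (Set.range F)}
      zero_mem' := fun y => by rw [zero_smul]; exact Submodule.zero_mem _
      add_mem' := fun {a b} ha hb y => by rw [add_smul]; exact Submodule.add_mem _ (ha y) (hb y)
      smul_mem' := fun c x hx y => by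
        rw [smul_assoc]
        exact Submodule.smul_mem _ _ (hx y) }
  have hJ : J ⊔ RingHom.ker φ.toRingHom = ⊤ := by
    by_contra hne
    obtain ⟨M, hM, hle⟩ := Ideal.exists_le_maximal _ hne
    have h1 : RingHom.ker φ.toRingHom ≤ M := le_sup_right.trans hle
    have h2 : (M.map φ.toRingHom).IsMaximal :=
      (Ideal.map_eq_top_or_isMaximal_of_surjective φ.toRingHom hφ hM).resolve_left fun htop => by
        have h3 := Ideal.comap_map_of_surjective' φ.toRingHom hφ M
        rw [htop, Ideal.comap_top, sup_eq_left.mpr h1] at h3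
        exact hM.ne_top h3.symm
    have h4 : (M.map φ.toRingHom).comap φ.toRingHom = M := by
      rw [Ideal.comap_map_of_surjective' φ.toRingHom hφ M, sup_eq_left.mpr h1]
    obtain ⟨t, ht, ht'⟩ := hF ⟨_, h2⟩
    have ht2 : t ∈ J := ht'
    refine ht ?_
    change t ∈ (M.map φ.toRingHom).comap φ.toRingHom
    rw [h4]
    exact hle (Ideal.mem_sup_left ht2)
  obtain ⟨g, hg, z, hz, hgz⟩ := Submodule.mem_sup.mp ((Ideal.eq_top_iff_one _).mp hJ)
  have hφg : φ g = 1 := by
    have h5 : φ (g + z) = 1 := by rw [hgz, map_one]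
    rw [map_add] at h5
    have h6 : φ z = 0 := hz
    rwa [h6, add_zero] at h5
  let l : List (Localization.Away g) := List.ofFn fun j => algebraMap _ (Localization.Away g) (F j).1
  have hl : (RingHom.ker φ.toRingHom).map (algebraMap _ (Localization.Away g)) =
      Ideal.span {x | x ∈ l} := by
    refine le_antisymm (Ideal.map_le_iff_le_comap.mpr fun y hy => ?_) (Ideal.span_le.mpr fun x hx => ?_)
    · have h7 : g • (⟨y, hy⟩ : RingHom.ker φ.toRingHom) ∈
          Submodule.span (MvPolynomial (Fin n) A) (Set.range F) := hg ⟨y, hy⟩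
      have h8 : g * y ∈ Submodule.map (RingHom.ker φ.toRingHom).subtype
          (Submodule.span (MvPolynomial (Fin n) A) (Set.range F)) := ⟨_, h7, rfl⟩
      rw [Submodule.map_span, ← Set.range_comp] at h8
      have hu : IsUnit (algebraMap _ (Localization.Away g) g) :=
        IsLocalization.Away.algebraMap_isUnit g
      rw [Ideal.mem_comap, ← Ideal.unit_mul_mem_iff_mem _ hu, ← map_mul]
      have h9 : Ideal.span (Set.range ((RingHom.ker φ.toRingHom).subtype ∘ F)) ≤
          (Ideal.span {x | x ∈ l}).comap (algebraMap _ (Localization.Away g)) := by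
        rw [Ideal.span_le]
        rintro _ ⟨j, rfl⟩
        exact Ideal.subset_span (List.mem_ofFn.mpr ⟨j, rfl⟩)
      exact h9 h8
    · obtain ⟨j, rfl⟩ := List.mem_ofFn.mp hx
      exact Ideal.mem_map_of_mem _ (F j).2
  obtain ⟨f, ⟨e⟩⟩ := Groth.Agent.Models.GciPres.exists_presentation φ hφ g l
    (by rw [List.length_ofFn]) hl
  have hloc : IsUnit (φ g) := by rw [hφg]; exact isUnit_one
  exact ⟨n + 1, f, ⟨((IsLocalization.atUnit B (Localization.Away (φ g)) (φ g) hloc).restrictScalars A).trans e⟩⟩

end


/-- The equivalence of being finite syntomic with having a square presentation, stated over a local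
base. For a local ring A and a finite A-algebra B, the map A → B is syntomic if and only if B ≅
A[x_1, …, x_n]/(f_1, …, f_n) as A-algebras for some n and f_1, …, f_n ∈ A[x_1, …, x_n]. (The
published statement is for a finite morphism of schemes and asserts such a presentation over some
affine open neighbourhood of each point of the base; over a local base that neighbourhood is the
whole spectrum.) -/
theorem result (A B : Type u) [CommRing A] [IsLocalRing A] [CommRing B] [Algebra A B] [Module.Finite A B] : Synt.IsSyntomic A B ↔ ∃ (n : ℕ) (F : Fin n → MvPolynomial (Fin n) A), Nonempty (B ≃ₐ[A] Synt.RelGCIRing A n n F) := by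
  constructor
  · intro h
    rw [isSyntomic_iff_isLCI] at h
    obtain ⟨h1, h2⟩ := h
    exact exists_presentation_of_isLCI h2
  · rintro ⟨n, F, ⟨e⟩⟩
    have h1 : Module.Finite A (Synt.RelGCIRing A n n F) := Module.Finite.equiv e.toLinearEquiv
    have h2 : Module.Flat A (Synt.RelGCIRing A n n F) :=
      Groth.Agent.Models2.CIFlat2.flat_of_quasiFinite F
    have h3 : Module.Flat A B := Module.Flat.of_linearEquiv e.toLinearEquiv
    exact K563.Syn.isSyntomic_of_finite ((K563.Pres.HasPres.quotient F).of_algEquiv e.symm)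

end Groth.Agent.S8954
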