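import Groth.Statements.S8956
import Groth.Agent.S1819
import Groth.Agent.Ega4dB.DualMvPoly
import Groth.Agent.Dual2.K367.BCUniv
import Groth.Agent.Dual2.K367.RhomRadj
-- import your own Groth.Agent.* helpers here

set_option autoImplicit false
universe u
open CategoryTheory
attribute [local instance] HasDerivedCategory.standard
open Dual2

namespace Groth.Agent.S8956

/-- Let φ : A → B be a finite type map of Noetherian rings, ω_A a dualizing complex for A and ω_B =
φ^!(ω_A), with φ^! computed through a presentation ψ : A[x_1, …, x_n] → B (derived base change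
assumed to exist, RHom_P(B, −) a right adjoint of restriction of scalars); write D_A = RHom_A(−,
ω_A) and D_B = RHom_B(−, ω_B). For every complex K of A-modules with finite cohomology modules
(RHom_A(K, −) assumed to exist) and every complex E of B-modules representing D_A(K) ⊗^L_A B
(RHom_B(E, −) assumed to exist), φ^!(K) is isomorphic in D(B) to RHom_B(E, ω_B) = D_B(D_A(K) ⊗^L_A
B). -/
theorem result (A B : Type u) [CommRing A] [CommRing B] [IsNoetherianRing A] [IsNoetherianRing B] [Algebra A B] (n : ℕ) (ψ : MvPolynomial (Fin n) A →ₐ[A] B) (hψ : Function.Surjective ψ) [DRing.HasLBaseChange (algebraMap A (MvPolynomial (Fin n) A))] (Rψ : Dual.D (MvPolynomial (Fin n) A) ⥤ Dual.D B) (adj : DRing.restrictD ψ.toRingHom ⊣ Rψ) [DRing.HasLBaseChange (algebraMap A B)] (ω : Dual.D A) (hω : Dual.IsDualizing A ω) (K : DRing.Cx A) [DRing.HasRHomCx K] (hK : ∀ i : ℤ, Module.Finite A (Dual.HD A (DRing.toD K) i)) (E : DRing.Cx B) [DRing.HasRHomCx E] (hE : Nonempty (DRing.toD E ≅ (DRing.LBaseChange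 (algebraMap A B)).obj ((DRing.RHomCx K).obj ω))) : Nonempty (Dual2.shriekVia n Rψ (DRing.toD K) ≅ (DRing.RHomCx E).obj (Dual2.shriekVia n Rψ ω)) := by
  obtain ⟨e⟩ := hE
  have hflat : (algebraMap A (MvPolynomial (Fin n) A)).Flat :=
    (RingHom.flat_algebraMap_iff).2 inferInstance
  let i := LoccohB.FlatLBC.LBaseChangeIso (algebraMap A (MvPolynomial (Fin n) A)) hflat
  -- representatives
  let X : DRing.Cx A := DerivedCategory.Q.objPreimage ((DRing.RHomCx K).obj ω)
  let eX : DRing.toD X ≅ (DRing.RHomCx K).obj ω := DerivedCategory.Q.objObjPreimageIso _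
  let Y : DRing.Cx (MvPolynomial (Fin n) A) := DerivedCategory.Q.objPreimage
    ((DRing.LBaseChange (algebraMap A (MvPolynomial (Fin n) A))).obj (DRing.toD X))
  let eY : DRing.toD Y ≅ (DRing.LBaseChange (algebraMap A (MvPolynomial (Fin n) A))).obj
    (DRing.toD X) := DerivedCategory.Q.objObjPreimageIso _
  have hrX := LoccohB.RHomVal.hasRHomCx X
  have hrY := LoccohB.RHomVal.hasRHomCx Y
  -- biduality
  obtain ⟨hfin, hbid⟩ := S1819.result A ω hω K hK
  obtain ⟨e1⟩ := hbid X ⟨eX⟩
  have hXfin : ∀ i : ℤ, Module.Finite A (Dual.HD A (DRing.toD X) i) := fun i => by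
    have := hfin i
    exact LoccohB.ConeRes.finite_of_iso
      ((DerivedCategory.homologyFunctor (ModuleCat.{u} A) i).mapIso eX.symm) this
  -- injective amplitudes
  obtain ⟨I, a, b, hI, ⟨eI⟩⟩ := LoccohB.BidualD.exists_model ω hω
  obtain ⟨J, a', b', hJ, ⟨eJ⟩⟩ := LoccohB.BidualD.exists_model _
    (Ega4dB.DualMvPoly.isDualizing_mvPolynomial ω hω n)
  have hI1 := hI.isKInjective
  have hI2 := hI.isStrictlyLE
  have hI3 := hI.isStrictlyGE
  have hJ1 := hJ.isKInjective
  have hJ2 := hJ.isStrictlyLE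
  have hω1 : ω.IsGE a := (DerivedCategory.TStructure.t : Triangulated.TStructure (Dual.D A)).isGE_of_iso eI a
  have hω2 : LoccohB.LocHom.InjLE ω (max b b') :=
    ((LoccohB.LocHom.injLE_of_isStrictlyLE I b).of_iso eI).mono (le_max_left _ _)
  have hω3 : LoccohB.LocHom.InjLE ((LoccohB.FlatLBC.flatBC (algebraMap A (MvPolynomial (Fin n) A))
      hflat).obj ω) (max b b') :=
    ((LoccohB.LocHom.injLE_of_isStrictlyLE J b').of_iso (eJ ≪≫ i.app ω)).mono (le_max_right _ _)
  obtain ⟨e2⟩ := K367.BCUniv.nonempty_rhomBC_flat (MvPolynomial (Fin n) A) hflat X hXfin Y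
    (eY ≪≫ i.app _) ω a (max b b') hω2 hω3
  -- base change to `B`
  let _ : Algebra (MvPolynomial (Fin n) A) B := ψ.toRingHom.toAlgebra
  have := LoccohB.LBC.hasLBaseChange ψ.toRingHom
  have hcomp : algebraMap A B = ψ.toRingHom.comp (algebraMap A (MvPolynomial (Fin n) A)) := by
    ext x
    exact (ψ.commutes x).symm
  obtain ⟨e3⟩ := K367.RhomRadj.nonempty_rhom_radj ψ.toRingHom adj Y E
    (e ≪≫ (DRing.LBaseChange (algebraMap A B)).mapIso eX.symm ≪≫
      ((LoccohB.LBC.lbcComp (algebraMap A (MvPolynomial (Fin n) A)) ψ.toRingHom (algebraMap A B)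
        hcomp).app _).symm ≪≫ (DRing.LBaseChange ψ.toRingHom).mapIso eY.symm)
  obtain ⟨hs, _⟩ := K232.TriTen.isTriang_RHomCx E
  -- assemble
  let f1 : (DRing.LBaseChange (algebraMap A (MvPolynomial (Fin n) A))).obj (DRing.toD K) ≅
      (DRing.RHomCx Y).obj
        ((DRing.LBaseChange (algebraMap A (MvPolynomial (Fin n) A))).obj ω) :=
    (DRing.LBaseChange (algebraMap A (MvPolynomial (Fin n) A))).mapIso e1.symm ≪≫ i.app _ ≪≫ e2 ≪≫
      (DRing.RHomCx Y).mapIso (i.symm.app ω)
  exact ⟨(shiftFunctor (Dual.D B) (n : ℤ)).mapIso (Rψ.mapIso f1 ≪≫ e3.app _) ≪≫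
    ((DRing.RHomCx E).commShiftIso (n : ℤ)).symm.app _⟩

end Groth.Agent.S8956
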