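import Groth.Statements.S8964
import Groth.Agent.QFDual.K577.LCIFib

set_option autoImplicit false
universe u
open TensorProduct
open QFDual

namespace Groth.Agent.S8964

/-- A quasi-finite syntomic map has an invertible relative dualizing module. Let A be a Noetherian ring
and A → B a syntomic ring map (flat, of finite presentation, with fibres local complete
intersections), and suppose it factors through an intermediate ring B', with A → B' a finite map and
the induced morphism Spec B → Spec B' an open immersion, so that A → B is quasi-finite and ω_{B/A} =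
B ⊗_{B'} Hom_A(B', A). Then ω_{B/A} is an invertible B-module. (The published statement is for a
locally quasi-finite syntomic morphism of locally Noetherian schemes and the sheaf ω_{Y/X}; this row
is its form over a pair of affine opens.) -/
theorem result (A B' B : Type u) [CommRing A] [CommRing B'] [CommRing B] [IsNoetherianRing A] [Algebra A B'] [Algebra B' B] [Algebra A B] [IsScalarTower A B' B] (hf : QFDual.IsQFFactor A B' B) (hs : Synt.IsSyntomic A B) : Module.Invertible B (QFDual.omega A B' B) := by
  have := hs.1
  have := hs.2.1
  have hB : IsNoetherianRing B := Algebra.FiniteType.isNoetherianRing A B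
  refine K577.InvFib.invertible_of_forall_fibre A B' B hf ?_
  intro p _ B'₁ B₁ _ _ _ _ _ _ _ _ _ _ _ _ _ _ _ _ _ h1 h2
  have hfin : Module.Finite A B' := hf.finite
  have hC : Module.Finite p.ResidueField B'₁ := Module.Finite.equiv h1.out.equiv
  have hart : IsArtinianRing B'₁ := IsArtinianRing.of_finite p.ResidueField B'₁
  have h3 : Algebra.IsPushout B' B B'₁ B₁ := K577.FlatBC.isPushout_right h1 h2
  have ho := K577.LCIFib.isOpenImmersion_of_isPushout B' B B'₁ B₁ h3 hf.isOpenImmersion
  let e : p.Fiber B ≃ₐ[p.ResidueField] B₁ := Algebra.IsPushout.equiv A p.ResidueField B B₁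
  have h4 : Synt.IsLCIOver p.ResidueField (p.Fiber B) := hs.2.2 ⟨p, inferInstance⟩
  have hft := h4.1
  have hN : IsNoetherianRing (p.Fiber B) :=
    Algebra.FiniteType.isNoetherianRing p.ResidueField (p.Fiber B)
  have hN₁ : IsNoetherianRing B₁ := isNoetherianRing_of_ringEquiv _ e.toRingEquiv
  have hart₁ : IsArtinianRing B₁ := K577.LCIFib.isArtinianRing_of_isOpenImmersion ho
  have h5 : IsArtinianRing (p.Fiber B) := e.symm.toRingEquiv.surjective.isArtinianRing
  refine K577.LCIFib.invertible_of_gorenstein (k := p.ResidueField) ho fun q _ =>
    K577.LCIFib.isGorensteinLocalRing_of_equiv e.toRingEquiv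
      (fun q _ => K577.LCIFib.isGorensteinLocalRing_of_isLCIOver p.ResidueField (p.Fiber B) h4 q) q

end Groth.Agent.S8964
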