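import Groth.Statements.S8972
import Mathlib.RingTheory.RegularLocalRing.Polynomial
-- import your own Groth.Agent.* helpers here

set_option autoImplicit false
open Synt

namespace Groth.Agent.S8972

open MvPolynomial

/-- the zero exponent. -/
def E0 (n d : ℕ) : UnivIdx n d := ⟨fun _ => 0, by simp⟩

theorem exponent_E0 (n d : ℕ) : (E0 n d).exponent = 0 := by
  ext i; simp [E0, UnivIdx.exponent]

/-- The variables of the polynomial ring over `ℤ` isomorphic to the universal algebra. -/
abbrev Idx (n d : ℕ) : Type := {p : Fin n × UnivIdx n d // p.2 ≠ E0 n d} ⊕ Fin n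

/-- the universal polynomial without its constant coefficient, in the polynomial ring in the other variables. -/
noncomputable def tail (n d : ℕ) (i : Fin n) : MvPolynomial (Idx n d) ℤ :=
  ∑ E : {E : UnivIdx n d // E ≠ E0 n d},
    X (Sum.inl ⟨(i, E.1), E.2⟩) * E.1.exponent.prod fun j e => X (Sum.inr j) ^ e

/-- the coefficients. -/
noncomputable def coefMap (n d : ℕ) : UnivBase n d →+* MvPolynomial (Idx n d) ℤ :=
  eval₂Hom (Int.castRingHom _) fun p => if h : p.2 ≠ E0 n d then X (Sum.inl ⟨p, h⟩) else - tail n d p.1

noncomputable def bigMap (n d : ℕ) : MvPolynomial (Fin n) (UnivBase n d) →+* MvPolynomial (Idx n d) ℤ :=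
  eval₂Hom (coefMap n d) fun j => X (Sum.inr j)

theorem sum_split {M : Type*} [AddCommMonoid M] (n d : ℕ) (f : UnivIdx n d → M) :
    ∑ E, f E = f (E0 n d) + ∑ E : {E : UnivIdx n d // E ≠ E0 n d}, f E.1 := by
  classical
  rw [← Finset.add_sum_erase Finset.univ f (Finset.mem_univ (E0 n d))]
  congr 1
  rw [← Finset.sum_subtype (Finset.univ.erase (E0 n d)) (fun x => by simp) f]

theorem coefMap_X_zero (n d : ℕ) (i : Fin n) : coefMap n d (X (i, E0 n d)) = - tail n d i := by
  simp [coefMap]

theorem coefMap_X_ne (n d : ℕ) (i : Fin n) (E : UnivIdx n d) (hE : E ≠ E0 n d) :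
    coefMap n d (X (i, E)) = X (Sum.inl ⟨(i, E), hE⟩) := by
  simp [coefMap, hE]

theorem bigMap_univPoly (n d : ℕ) (i : Fin n) : bigMap n d (univPoly n d i) = 0 := by
  rw [univPoly, map_sum, sum_split]
  simp only [bigMap, coe_eval₂Hom, eval₂_monomial, exponent_E0, Finsupp.prod_zero_index, mul_one]
  rw [coefMap_X_zero, tail, neg_add_eq_zero]
  refine Finset.sum_congr rfl fun E _ => ?_
  rw [coefMap_X_ne n d i E.1 E.2]

/-- the map from the universal algebra to the polynomial ring. -/
noncomputable def fwd (n d : ℕ) : UnivAlg n d →+* MvPolynomial (Idx n d) ℤ :=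
  Ideal.Quotient.lift (univIdeal n d) (bigMap n d) (by
    intro a ha
    have : univIdeal n d ≤ RingHom.ker (bigMap n d) := by
      rw [Ideal.span_le]
      rintro _ ⟨i, rfl⟩
      exact bigMap_univPoly n d i
    exact this ha)

theorem fwd_mk (n d : ℕ) (p : MvPolynomial (Fin n) (UnivBase n d)) :
    fwd n d (UnivAlg.mk n d p) = bigMap n d p := rfl

/-- the map from the polynomial ring to the universal algebra. -/
noncomputable def back (n d : ℕ) : MvPolynomial (Idx n d) ℤ →+* UnivAlg n d :=
  (aeval (R := ℤ) (Sum.elim (fun p => UnivAlg.mk n d (C (X p.1))) fun j => UnivAlg.mk n d (X j))).toRingHom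

theorem back_inl (n d : ℕ) (p : {p : Fin n × UnivIdx n d // p.2 ≠ E0 n d}) :
    back n d (X (Sum.inl p)) = UnivAlg.mk n d (C (X p.1)) :=
  aeval_X _ _

theorem back_inr (n d : ℕ) (j : Fin n) : back n d (X (Sum.inr j)) = UnivAlg.mk n d (X j) :=
  aeval_X _ _

theorem mk_univPoly (n d : ℕ) (i : Fin n) : UnivAlg.mk n d (univPoly n d i) = 0 :=
  Ideal.Quotient.eq_zero_iff_mem.mpr (Ideal.subset_span ⟨i, rfl⟩)

theorem back_tail (n d : ℕ) (i : Fin n) : back n d (tail n d i) = - UnivAlg.mk n d (C (X (i, E0 n d))) := by
  have h := mk_univPoly n d i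
  rw [univPoly, sum_split, map_add, exponent_E0] at h
  rw [eq_neg_iff_add_eq_zero, add_comm]
  refine Eq.trans ?_ h
  congr 1
  rw [tail, map_sum, map_sum]
  refine Finset.sum_congr rfl fun E _ => ?_
  rw [map_mul, MvPolynomial.monomial_eq, map_mul]
  congr 1
  · exact back_inl n d _
  · rw [map_finsuppProd, map_finsuppProd]
    simp [back_inr]

theorem back_comp_fwd (n d : ℕ) (x : UnivAlg n d) : back n d (fwd n d x) = x := by
  obtain ⟨p, rfl⟩ : ∃ p, UnivAlg.mk n d p = x := Ideal.Quotient.mk_surjective x
  rw [fwd_mk]
  have : (back n d).comp (bigMap n d) = (UnivAlg.mk n d).toRingHom := by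
    refine MvPolynomial.ringHom_ext' ?_ ?_
    · refine MvPolynomial.ringHom_ext' (RingHom.ext_int _ _) ?_
      rintro ⟨i, E⟩
      simp only [RingHom.comp_apply, bigMap, coe_eval₂Hom, eval₂_C, AlgHom.toRingHom_eq_coe, RingHom.coe_coe]
      by_cases hE : E = E0 n d
      · subst hE
        rw [coefMap_X_zero, map_neg, back_tail, neg_neg]
      · rw [coefMap_X_ne n d i E hE]
        exact back_inl n d _
    · intro j
      simp [bigMap, back_inr]
  exact congrArg (fun f => f p) this

theorem fwd_comp_back (n d : ℕ) (x : MvPolynomial (Idx n d) ℤ) : fwd n d (back n d x) = x := by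
  have : (fwd n d).comp (back n d) = RingHom.id _ := by
    refine MvPolynomial.ringHom_ext' (RingHom.ext_int _ _) ?_
    rintro (⟨⟨i, E⟩, hE⟩ | j)
    · rw [RingHom.comp_apply, RingHom.id_apply, back_inl, fwd_mk]
      simp only [bigMap, coe_eval₂Hom, eval₂_C]
      exact coefMap_X_ne n d i E hE
    · rw [RingHom.comp_apply, RingHom.id_apply, back_inr, fwd_mk]
      simp [bigMap]
  exact congrArg (fun f => f x) this

/-- The universal algebra is a polynomial ring over the integers: solve for the constant coefficients. -/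
noncomputable def equiv (n d : ℕ) : UnivAlg n d ≃+* MvPolynomial (Idx n d) ℤ where
  toFun := fwd n d
  invFun := back n d
  left_inv := back_comp_fwd n d
  right_inv := fwd_comp_back n d
  map_mul' := map_mul _
  map_add' := map_add _

/-- Let n, d ≥ 1 and let B = A[x_1, …, x_n]/(f_1, …, f_n) be the universal algebra over A = ℤ[a_{i,E}],
f_i = Σ_E a_{i,E} x^E summed over exponent vectors E with |E| ≤ d. Then B is an integral domain and
every localization of B at a prime ideal is a regular local ring. (The published statement says that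
X_{n,d} = Spec A and the quasi-finite locus Y_{n,d} ⊆ Spec B are regular and irreducible; for A, a
polynomial ring over ℤ, this is standard, and for the open Y_{n,d} it follows from the assertion
about all of Spec B made here, which is what the printed argument shows. The published statement
also asserts that Y_{n,d} → X_{n,d} is locally quasi-finite and syntomic, an instance of the general
characterisation of quasi-finite syntomic maps; that clause is not part of this row.) -/
theorem result (n d : ℕ) (hn : 1 ≤ n) (hd : 1 ≤ d) : IsDomain (Synt.UnivAlg n d) ∧ ∀ q : PrimeSpectrum (Synt.UnivAlg n d), IsRegularLocalRing (Localization.AtPrime q.asIdeal) := by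
  refine ⟨(equiv n d).toMulEquiv.isDomain _, fun q => ?_⟩
  have : IsRegularRing (UnivAlg n d) := IsRegularRing.of_ringEquiv (equiv n d).symm
  infer_instance

end Groth.Agent.S8972
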