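import Groth.Statements.S8974
-- import your own Groth.Agent.* helpers here

set_option autoImplicit false
universe u
open Synt

namespace Groth.Agent.S8974

theorem exponent_injective (n d : ℕ) : Function.Injective (UnivIdx.exponent (n := n) (d := d)) := by
  intro E E' h
  apply Subtype.ext
  funext i
  have := DFunLike.congr_fun h i
  simp only [UnivIdx.exponent, Finsupp.equivFunOnFinite_symm_apply_apply] at this
  exact Fin.ext this

theorem exists_exponent_eq (n d : ℕ) (m : Fin n →₀ ℕ) (hm : ∑ i, m i ≤ d) :
    ∃ E : UnivIdx n d, E.exponent = m := by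
  have h1 : ∀ i, m i ≤ d := fun i => by
    refine le_trans ?_ hm
    exact Finset.single_le_sum (f := fun i => m i) (fun _ _ => Nat.zero_le _) (Finset.mem_univ i)
  refine ⟨⟨fun i => ⟨m i, Nat.lt_succ_of_le (h1 i)⟩, ?_⟩, ?_⟩
  · exact hm
  · ext i
    simp [UnivIdx.exponent]

/-- Let R be a ring, n, d ≥ 1 and g_1, …, g_n ∈ R[y_1, …, y_n] of total degree at most d. Then there is
a ring map φ : A = ℤ[a_{i,E}] → R (E running over exponent vectors with |E| ≤ d) such that applying
φ to the coefficients of the universal polynomial f_i = Σ_E a_{i,E} x^E gives g_i for each i. (The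
published statement is for a locally quasi-finite syntomic morphism of schemes and asserts, locally,
a cartesian square with the universal family; this row is its affine core: the coefficient map.) -/
theorem result (R : Type u) [CommRing R] (n d : ℕ) (hn : 1 ≤ n) (hd : 1 ≤ d) (g : Fin n → MvPolynomial (Fin n) R) (hg : ∀ i, (g i).totalDegree ≤ d) : ∃ φ : Synt.UnivBase n d →+* R, ∀ i, MvPolynomial.map φ (Synt.univPoly n d i) = g i := by
  classical
  refine ⟨MvPolynomial.eval₂Hom (Int.castRingHom R) (fun p => (g p.1).coeff p.2.exponent), fun i => ?_⟩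
  ext m
  rw [univPoly, map_sum]
  simp only [MvPolynomial.map_monomial, MvPolynomial.coe_eval₂Hom, MvPolynomial.eval₂_X, MvPolynomial.coeff_sum,
    MvPolynomial.coeff_monomial]
  by_cases hm : ∑ i, m i ≤ d
  · obtain ⟨E, rfl⟩ := exists_exponent_eq n d m hm
    rw [Finset.sum_eq_single E]
    · simp
    · intro b _ hb
      rw [if_neg]
      exact fun h => hb (exponent_injective n d h)
    · intro h
      exact absurd (Finset.mem_univ _) h
  · rw [Finset.sum_eq_zero]
    · symm
      rw [← MvPolynomial.notMem_support_iff]
      intro h
      apply hm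
      have := MvPolynomial.le_totalDegree h
      refine le_trans ?_ (le_trans this (hg i))
      rw [Finsupp.sum_fintype]
      intro; rfl
    · intro E _
      rw [if_neg]
      rintro rfl
      apply hm
      simp only [UnivIdx.exponent, Finsupp.equivFunOnFinite_symm_apply_apply]
      exact E.2

end Groth.Agent.S8974
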