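import Groth.Statements.S8973
import Groth.Agent.S8974
import Groth.Agent.Synt.K561.EtalePoint
-- import your own Groth.Agent.* helpers here

set_option autoImplicit false
open Synt

namespace Groth.Agent.S8973

open Algebra

/-- The standard presentation of the universal algebra: as many relations as variables. -/
noncomputable def pres (n d : ℕ) :
    PreSubmersivePresentation (UnivBase n d) (UnivAlg n d) (Fin n) (Fin n) :=
  show PreSubmersivePresentation (UnivBase n d)
    (MvPolynomial (Fin n) (UnivBase n d) ⧸ Ideal.span (Set.range (univPoly n d))) (Fin n) (Fin n) from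
  { Presentation.naive (v := univPoly n d) with
    map := id
    map_inj := Function.injective_id }

theorem algebraMap_pres_apply (n d : ℕ) (p : MvPolynomial (Fin n) (UnivBase n d)) :
    algebraMap (pres n d).Ring (UnivAlg n d) p = Ideal.Quotient.mk (univIdeal n d) p := by
  rfl

theorem finiteType (n d : ℕ) : Algebra.FiniteType (UnivBase n d) (UnivAlg n d) :=
  Algebra.FiniteType.of_surjective (UnivAlg.mk n d) Ideal.Quotient.mk_surjective

/-- Let n, d ≥ 1 and let B = A[x_1, …, x_n]/(f_1, …, f_n) be the universal algebra over A = ℤ[a_{i,E}],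
f_i = Σ_E a_{i,E} x^E summed over exponent vectors E with |E| ≤ d. Then there is a prime q of B at
which B is quasi-finite over A and étale over A (that is, B_q is quasi-finite and formally étale
over A). (The published statement asserts a dense open V of the quasi-finite locus Y_{n,d} ⊆ Spec B
that is étale over Spec A; as Spec B is irreducible and the étale locus is open, that amounts to the
existence of one such point, which is what is stated here and what the printed argument exhibits.) -/
theorem result (n d : ℕ) (hn : 1 ≤ n) (hd : 1 ≤ d) : ∃ q : PrimeSpectrum (Synt.UnivAlg n d), Algebra.QuasiFiniteAt (Synt.UnivBase n d) q.asIdeal ∧ Algebra.IsEtaleAt (Synt.UnivBase n d) q.asIdeal := by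
  classical
  obtain ⟨φ, hφ⟩ := Groth.Agent.S8974.result ℤ n d hn hd (fun i => MvPolynomial.X i)
    (fun i => by rw [MvPolynomial.totalDegree_X]; exact hd)
  let e : MvPolynomial (Fin n) (UnivBase n d) →+* ℤ := MvPolynomial.eval₂Hom φ 0
  have he : ∀ p, e p = MvPolynomial.eval 0 (MvPolynomial.map φ p) := fun p => by
    simp only [e, MvPolynomial.coe_eval₂Hom, MvPolynomial.eval_map]
  have hk : ∀ a ∈ univIdeal n d, e a = 0 := by
    intro a ha
    have : univIdeal n d ≤ RingHom.ker e := by
      rw [Ideal.span_le]
      rintro _ ⟨i, rfl⟩
      simp only [SetLike.mem_coe, RingHom.mem_ker]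
      rw [he, hφ]
      simp
    exact this ha
  let ev : UnivAlg n d →+* ℤ := Ideal.Quotient.lift (univIdeal n d) e hk
  obtain ⟨q, hqe⟩ : ∃ q : PrimeSpectrum (UnivAlg n d), q.asIdeal = RingHom.ker ev :=
    ⟨⟨RingHom.ker ev, RingHom.ker_isPrime ev⟩, rfl⟩
  have hq : (pres n d).jacobian ∉ q.asIdeal := by
    intro h
    rw [hqe, RingHom.mem_ker, PreSubmersivePresentation.jacobian_eq_jacobiMatrix_det] at h
    replace h : e (pres n d).jacobiMatrix.det = 0 := h
    rw [RingHom.map_det] at h
    have h2 : e.mapMatrix (pres n d).jacobiMatrix = 1 := by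
      ext i j
      simp only [RingHom.mapMatrix_apply, Matrix.map_apply]
      rw [PreSubmersivePresentation.jacobiMatrix_apply]
      change e (MvPolynomial.pderiv i (univPoly n d j)) = _
      rw [he, ← MvPolynomial.pderiv_map, hφ]
      rw [MvPolynomial.pderiv_X]
      simp only [Pi.single_apply, Matrix.one_apply]
      split_ifs with h1 h2 h2
      · simp
      · exact absurd h1.symm h2
      · exact absurd h2.symm h1
      · simp
    rw [h2, Matrix.det_one] at h
    exact one_ne_zero h
  have hE : IsEtaleAt (UnivBase n d) q.asIdeal := K561.EtalePoint.isEtaleAt (pres n d) rfl q.asIdeal hq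
  have := finiteType n d
  exact ⟨q, K561.EtalePoint.quasiFiniteAt q.asIdeal, hE⟩

end Groth.Agent.S8973
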