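import Groth.Statements.S8980
import Groth.Agent.HTop.K346.PhLocal

set_option autoImplicit false
universe u
open HTop

namespace Groth.Agent.S8980

open CategoryTheory CategoryTheory.Limits AlgebraicGeometry in
/-- A family of morphisms T_i → T, indexed by a type in the universe of T and all locally of finite
presentation, is an h covering if and only if the one-member family given by the induced morphism
from the coproduct of the T_i to T is an h covering. (The published statement also lists, as a
further equivalent condition, that some h covering refines the family; that equivalence is immediate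
from the definitions and is not restated here.) -/
theorem result {T : Scheme.{u}} (E : PreZeroHypercover.{u} T) (hE : ∀ i, LocallyOfFinitePresentation (E.f i)) : HTop.IsHCover E ↔ HTop.IsHCover (PreZeroHypercover.singleton.{0} (Sigma.desc E.f)) := by
  have hd : LocallyOfFinitePresentation (Sigma.desc E.f) := IsZariskiLocalAtSource.sigmaDesc hE
  constructor
  · rintro ⟨-, h⟩
    refine ⟨fun _ ↦ hd, K346.VStable.IsVCover.of_refinesOver h fun i ↦ ⟨PUnit.unit, Sigma.ι E.X i, ?_⟩⟩
    rw [Category.comp_id]
    exact Sigma.ι_desc _ _
  · rintro ⟨-, h⟩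
    refine ⟨hE, ?_⟩
    let F : PreZeroHypercover.{u} (∐ E.X) := ⟨E.I₀, E.X, Sigma.ι E.X⟩
    have hF : IsVCover F := by
      refine K346.PhBasic.isVCover_of_isPhCover F (K346.PhLocal.isPhCover_of_flat F (fun i ↦ ?_) (fun i ↦ ?_)
        fun x ↦ ?_)
      · exact inferInstanceAs (Flat (Sigma.ι E.X i))
      · exact inferInstanceAs (LocallyOfFinitePresentation (Sigma.ι E.X i))
      · exact (sigmaOpenCover E.X).exists_eq x
    have hB := K346.VStable.isVCover_bind _ h (fun _ ↦ F) (fun _ ↦ hF)
    refine K346.VStable.IsVCover.of_refinesOver hB ?_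
    rintro ⟨⟨⟩, i⟩
    refine ⟨i, 𝟙 _, ?_⟩
    change (𝟙 (E.X i)) ≫ E.f i = (Sigma.ι E.X i ≫ Sigma.desc E.f) ≫ 𝟙 T
    rw [Category.id_comp, Category.comp_id, Sigma.ι_desc]

end Groth.Agent.S8980
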