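import Groth.Statements.S8988
import Groth.Agent.HTop.K346.VCover
import Groth.Agent.HTop.K346.Site

set_option autoImplicit false
universe u
open HTop

namespace Groth.Agent.S8988

open CategoryTheory CategoryTheory.Limits AlgebraicGeometry Opposite in
/-- An h sheaf on schemes over S takes the same sections on an S-scheme and on any thickening of it of
finite presentation. -/
theorem result (S : Scheme.{u}) (F : HTop.ShH S) {X X' : Over S} (f : X ⟶ X') (hf : MoreMor.IsThickening f.left) [LocallyOfFinitePresentation f.left] : Function.Bijective (F.obj.map f.op) := by
  have := hf.1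
  have := hf.2
  have hm : Mono f := Over.mono_of_mono_left f
  refine K346.Site.bijective_of_isSheafFor_singleton f (K346.Site.isSheafFor_singleton_of_isHCover
    ((isSheaf_iff_isSheaf_of_type _ _).1 F.property) f ?_)
  exact ⟨fun _ ↦ inferInstanceAs (LocallyOfFinitePresentation f.left),
    K346.VCover.isVCover_of_hasValLift (PreZeroHypercover.singleton.{0} f.left)
      (fun _ ↦ inferInstanceAs (QuasiCompact f.left))
      (K346.ValLift.hasValLift_of_universallyClosed.{0} f.left)⟩

end Groth.Agent.S8988
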