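import Groth.Statements.S8991
import Groth.Agent.HTop.K346.PhBasic
import Groth.Agent.HTop.K346.Site

set_option autoImplicit false
universe u
open HTop

namespace Groth.Agent.S8991

open CategoryTheory CategoryTheory.Limits AlgebraicGeometry Opposite in
/-- A ph sheaf on schemes over S takes the same sections on an S-scheme and on any thickening of it. -/
theorem result (S : Scheme.{u}) (F : HTop.ShPh S) {X X' : Over S} (f : X ⟶ X') (hf : MoreMor.IsThickening f.left) : Function.Bijective (F.obj.map f.op) := by
  have := hf.1
  have := hf.2
  have hm : Mono f := Over.mono_of_mono_left f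
  exact K346.Site.bijective_of_isSheafFor_singleton f (K346.Site.isSheafFor_singleton_of_isPhCover
    ((isSheaf_iff_isSheaf_of_type _ _).1 F.property) f (K346.PhBasic.isPhCover_singleton f.left))

end Groth.Agent.S8991
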