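import Groth.Statements.S8992
-- import your own Groth.Agent.* helpers here

set_option autoImplicit false
universe u
open HTop

namespace Groth.Agent.S8992

/-- Elementary: in an `F_p`-algebra whose `p`-th power map is bijective, `x ^ 3 = y ^ 2` has a solution `a`. -/
theorem exists_of_perfect (p : ℕ) (hp : p.Prime) {A : Type u} [CommRing A]
    (hb : Function.Bijective fun x : A ↦ x ^ p) (x y : A) (h : x ^ 3 = y ^ 2) :
    ∃ a : A, x = a ^ 2 ∧ y = a ^ 3 := by
  obtain ⟨i, j, hij⟩ : ∃ i j : ℕ, p = 2 * i + 3 * j := by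
    rcases Nat.even_or_odd' p with ⟨k, hk | hk⟩
    · exact ⟨k, 0, by omega⟩
    · have := hp.two_le
      exact ⟨k - 1, 1, by omega⟩
  obtain ⟨a, ha⟩ := hb.2 (x ^ i * y ^ j)
  simp only at ha
  refine ⟨a, hb.1 ?_, hb.1 ?_⟩
  · simp only
    calc x ^ p = x ^ (2 * i) * (x ^ 3) ^ j := by rw [hij, pow_add, pow_mul x 3 j]
      _ = (x ^ i * y ^ j) ^ 2 := by rw [h]; ring
      _ = (a ^ 2) ^ p := by rw [← ha]; ring
  · simp only
    calc y ^ p = (y ^ 2) ^ i * y ^ (3 * j) := by rw [hij, pow_add, pow_mul y 2 i]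
      _ = (x ^ i * y ^ j) ^ 3 := by rw [← h]; ring
      _ = (a ^ 3) ^ p := by rw [← ha]; ring

/-- Uniqueness in the seminormality condition when the `p`-th power map is injective, `p` a prime. -/
theorem unique_of_injective (p : ℕ) (hp : p.Prime) {A : Type u} [CommRing A]
    (hb : Function.Injective fun x : A ↦ x ^ p) (a b : A) (h2 : a ^ 2 = b ^ 2) (h3 : a ^ 3 = b ^ 3) :
    a = b := by
  obtain ⟨i, j, hij⟩ : ∃ i j : ℕ, p = 2 * i + 3 * j := by
    rcases Nat.even_or_odd' p with ⟨k, hk | hk⟩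
    · exact ⟨k, 0, by omega⟩
    · have := hp.two_le
      exact ⟨k - 1, 1, by omega⟩
  apply hb
  simp only
  rw [hij, pow_add, pow_add, pow_mul, pow_mul, pow_mul, pow_mul, h2, h3]

/-- An algebra over the prime field with p elements is absolutely weakly normal if and only if its p-th
power map is bijective (the algebra is perfect). -/
theorem result (p : ℕ) [Fact p.Prime] (A : Type u) [CommRing A] [Algebra (ZMod p) A] : HTop.IsAWNRing A ↔ PerfectRing A p := by
  have hp : p.Prime := Fact.out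
  have hp0 : (p : A) = 0 := by
    rw [← map_natCast (algebraMap (ZMod p) A) p, ZMod.natCast_self, map_zero]
  constructor
  · intro h
    refine ⟨⟨fun a b hab ↦ ?_, fun x ↦ ?_⟩⟩
    · simp only at hab
      obtain ⟨c, -, hc⟩ := h.2 p hp (a ^ p) 0 (by rw [hp0, zero_pow hp.ne_zero, zero_mul])
      rw [hc a ⟨rfl, by rw [hp0, zero_mul]⟩, hc b ⟨hab, by rw [hp0, zero_mul]⟩]
    · obtain ⟨c, hc, -⟩ := h.2 p hp x 0 (by rw [hp0, zero_pow hp.ne_zero, zero_mul])
      exact ⟨c, hc.1.symm⟩
  · intro h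
    have hb : Function.Bijective fun x : A ↦ x ^ p := h.bijective_frobenius
    refine ⟨fun x y hxy ↦ ?_, fun q hq x y hxy ↦ ?_⟩
    · obtain ⟨a, ha⟩ := exists_of_perfect p hp hb x y hxy
      exact ⟨a, ha, fun b hb' ↦ unique_of_injective p hp hb.1 b a (hb'.1.symm.trans ha.1)
        (hb'.2.symm.trans ha.2)⟩
    · by_cases hpq : q = p
      · subst hpq
        have hy : y = 0 := by
          apply hb.1
          simp only
          rw [← hxy, hp0, zero_pow hp.ne_zero, zero_mul]
        obtain ⟨a, ha⟩ := hb.2 x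
        refine ⟨a, ⟨ha.symm, by rw [hp0, zero_mul, hy]⟩, fun b hb' ↦ hb.1 ?_⟩
        simp only at ha ⊢
        rw [ha, ← hb'.1]
      · have hu : IsUnit (q : A) := by
          have h1 : IsUnit (q : ZMod p) := by
            rw [ZMod.isUnit_iff_coprime]
            exact (Nat.coprime_primes hq hp).2 hpq
          have := h1.map (algebraMap (ZMod p) A)
          rwa [map_natCast] at this
        obtain ⟨v, hv⟩ := hu
        refine ⟨(v⁻¹ : Aˣ) * y, ⟨?_, ?_⟩, fun b hb' ↦ ?_⟩
        · have h2 : ((v : A) ^ q) * x = y ^ q := by rw [hv]; exact hxy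
          rw [mul_pow, ← h2, ← mul_assoc, ← mul_pow, Units.inv_mul, one_pow, one_mul]
        · rw [← hv, ← mul_assoc, Units.mul_inv, one_mul]
        · rw [hb'.2, ← hv, ← mul_assoc, Units.inv_mul, one_mul]

end Groth.Agent.S8992
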