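import Groth.Statements.S8993
import Groth.Agent.HTop.K344.AwnComp
import Groth.Agent.S8992
import Mathlib.FieldTheory.PerfectClosure
import Mathlib.Algebra.Algebra.ZMod

set_option autoImplicit false
universe u
open HTop

namespace Groth.Agent.S8993

open K344.UH in
theorem isUH_of (p : ℕ) [Fact p.Prime] (A : Type u) [CommRing A] [CharP A p] : IsUH (PerfectClosure.of A p) := by
  have hp : p.Prime := Fact.out
  have key : ∀ x : PerfectClosure A p, ∃ (n : ℕ) (a : A), x ^ p ^ n = PerfectClosure.of A p a := by
    intro x
    obtain ⟨⟨n, a⟩, rfl⟩ := PerfectClosure.mk_surjective A p x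
    refine ⟨n, a, ?_⟩
    rw [← PerfectClosure.iterate_frobenius_mk, iterate_frobenius]
  refine ⟨fun x ↦ ?_, fun a ha ↦ ?_, fun K _ g₁ g₂ h ↦ ?_⟩
  · obtain ⟨n, a, hn⟩ := key x
    let _ := (PerfectClosure.of A p).toAlgebra
    refine IsIntegral.of_pow (R := A) (pow_pos hp.pos n) ?_
    rw [hn]
    exact isIntegral_algebraMap (R := A)
  · rw [RingHom.mem_ker, PerfectClosure.of_apply, PerfectClosure.zero_def, PerfectClosure.mk_eq_iff] at ha
    obtain ⟨z, hz⟩ := ha
    simp only [zero_add, iterate_frobenius, zero_pow (pow_ne_zero _ hp.ne_zero)] at hz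
    exact ⟨p ^ z, hz⟩
  · have hK : CharP K p := by
      have h1 : (p : K) = 0 := by
        rw [← map_natCast (g₁.comp (PerfectClosure.of A p)), CharP.cast_eq_zero, map_zero]
      rw [← CharP.ringChar_of_prime_eq_zero hp h1]
      exact ringChar.charP K
    ext x
    obtain ⟨n, a, hn⟩ := key x
    have h2 : (g₁ x) ^ p ^ n = (g₂ x) ^ p ^ n := by
      rw [← map_pow, ← map_pow, hn]
      exact congrArg (fun r : A →+* K ↦ r a) h
    have h3 : (frobenius K p)^[n] (g₁ x) = (frobenius K p)^[n] (g₂ x) := by
      rw [iterate_frobenius, iterate_frobenius, h2]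
    exact (frobenius_inj K p).iterate n h3

/-- For a ring A of prime characteristic p, the map from A to the direct limit of A along Frobenius (the
perfect closure) is an absolute weak normalization of A. (The published statement also identifies,
over a base of characteristic p, the h sheafification of the structure sheaf on quasi-compact
quasi-separated objects with this colimit; that part is not stated here.) -/
theorem result (p : ℕ) [Fact p.Prime] (A : Type u) [CommRing A] [CharP A p] : HTop.IsRingAWN (PerfectClosure.of A p) := by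
  rw [K344.AwnComp.isRingAWN_iff]
  refine ⟨isUH_of p A, ?_⟩
  let _ : Algebra (ZMod p) (PerfectClosure A p) := ZMod.algebra _ p
  exact (Groth.Agent.S8992.result p (PerfectClosure A p)).2 inferInstance

end Groth.Agent.S8993
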