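import Groth.Statements.S8994
import Groth.Agent.S8981
import Groth.Agent.HTop.K343.Ab.SheafSq
import Groth.Agent.HTop.K347.CovD
-- import your own Groth.Agent.* helpers here

set_option autoImplicit false
universe w u
open HTop

namespace Groth.Agent.S8994

open CategoryTheory CategoryTheory.Limits AlgebraicGeometry Opposite in
/-- A presheaf of sets on schemes over S is an h sheaf if and only if it is a Zariski sheaf, satisfies
the sheaf condition for surjective flat proper morphisms of finite presentation onto affine
S-schemes, and turns into a cartesian square every almost blow up square over an affine corner X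
whose centre is cut out by at most two global sections of the structure sheaf of X. (The published
statement asks the last condition only for two explicit almost blow up squares attached to one,
respectively two, generators; this row asks it for every almost blow up square whose centre is
generated by two global sections, a condition that still follows from being an h sheaf and that
implies the published one.) -/
theorem result (S : Scheme.{u}) (F : (Over S)ᵒᵖ ⥤ Type w) : Presieve.IsSheaf (HTop.Jh S) F ↔ (Presieve.IsSheaf (Scheme.zariskiTopology.over S) F ∧ (∀ (X Y : Over S) (f : X ⟶ Y), IsAffine Y.left → Surjective f.left → Flat f.left → IsProper f.left → LocallyOfFinitePresentation f.left → Presieve.IsSheafFor F (Presieve.singleton f)) ∧ ∀ (E Z X' X : Over S) (e : E ⟶ X') (π : E ⟶ Z) (b : X' ⟶ X) (i : Z ⟶ X), IsAffine X.left → HTop.IsAlmostBlowUpSquare e.left π.left b.left i.left → (∃ f₁ f₂ : Γ(X.left, ⊤), i.left.ker = Scheme.IdealSheafData.ofIdealTop (Ideal.span {f₁, f₂})) → ∀ (t : F.obj (op Z)) (s' : F.obj (op X')), F.map π.op t = F.map e.op s' → ∃! s : F.obj (op X), F.map i.op s = t ∧ F.map b.op s = s') := by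
  constructor
  · intro hF
    have h0 := (Groth.Agent.S8981.result S F).1 hF
    exact ⟨h0.1, fun X Y f h1 h2 h3 h4 h5 => h0.2 Y X f h1 h4 h2 h5, fun E Z X' X e π b i _ hsq _ t s' hts =>
      K343.Ab.hSheaf_almostBlowUp S F hF e π b i hsq t s' hts⟩
  · rintro ⟨h1, h2, h3⟩
    exact (Groth.Agent.S8981.result S F).2 ⟨h1, fun U V f hU hp hs hf =>
      K347.CovD.isSheafFor_of_twoGen h1 h2 h3 f hU hp hs hf⟩

end Groth.Agent.S8994
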