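import Groth.Statements.S8996
import Groth.Agent.FlatMor.K255.CounitDepth
import Groth.Agent.S1177
import Groth.Agent.S19511
import Groth.Agent.Dcoh.FinLocFree
-- import your own Groth.Agent.* helpers here

set_option autoImplicit false
universe u
open FlatMor

namespace Groth.Agent.S8996

open CategoryTheory CategoryTheory.Limits AlgebraicGeometry in
/-- Over a normal Noetherian base S, a finite locally free module on a flat proper S-scheme X with f_*
O_X = O_S, which becomes free after base change to the local scheme Spec O_{S,s} at every point s of
S whose local ring has dimension at most one, is isomorphic to the pullback of a finite locally free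
module on S. (The published statement asks freeness only at the points whose local ring has
dimension exactly one; over S = Spec k, with X the projective line over k and E its twisting sheaf
O(1), that condition is empty and the conclusion fails. This row also asks freeness at the points of
dimension zero, which the proof uses and which the conclusion forces.) -/
theorem result {X S : Scheme.{u}} (f : X ⟶ S) [Flat f] [IsProper f] (hO : ∀ U : S.Opens, Function.Bijective (f.app U).hom) [IsNoetherian S] (hS : Pi1.IsNormalScheme S) (E : X.Modules) (hE : FlatMod.IsFinLocFree E) (h1 : ∀ s : S, ringKrullDim (S.presheaf.stalk s) ≤ 1 → ∃ r : ℕ, Nonempty ((Scheme.Modules.pullback (pullback.fst f (S.fromSpecStalk s))).obj E ≅ FlatMod.freeMod (pullback f (S.fromSpecStalk s)) r)) : ∃ G : S.Modules, FlatMod.IsFinLocFree G ∧ Nonempty (E ≅ (Scheme.Modules.pullback f).obj G) := by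
  have hO' : ∀ U : S.Opens, IsIso (f.app U) := fun U => (ConcreteCategory.isIso_iff_bijective (f.app U)).mpr (hO U)
  have hfp : LocallyOfFinitePresentation f := inferInstance
  have hsurj : Surjective f := by
    exact Groth.Agent.S19511.surj_of_isClosed_range f f.isClosedMap.isClosed_range hO'
  have hc : IsIso ((Scheme.Modules.pullbackPushforwardAdjunction f).counit.app E) := by
    refine Groth.Agent.FlatMor.K255.CounitDepth.isIso_counit f hO' hE fun s => ?_
    by_cases hs : ringKrullDim (S.presheaf.stalk s) ≤ 1
    · left
      obtain ⟨r, hr⟩ := h1 s hs
      obtain ⟨V, t, hV, ht⟩ := Groth.Agent.FlatMor.K255.SpreadBas.exists_nhd f hE s hr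
      exact ⟨V, r, t, hV, ht⟩
    · right
      have h2 := (hS s).1
      have h3 := (hS s).2
      exact Groth.Agent.CalgA.SerreLocal.two_le_depth_of_isIntegrallyClosed hs
  have e := asIso ((Scheme.Modules.pullbackPushforwardAdjunction f).counit.app E)
  have hq : ((Scheme.Modules.pushforward f).obj E).IsQuasicoherent :=
    (Groth.Agent.FormalB.PpFinal.isCoh_push f E (Groth.Agent.PerfA.CohSerre.isCoh_of_isFinLocFree hE)).1
  refine ⟨(Scheme.Modules.pushforward f).obj E, ?_, ⟨e.symm⟩⟩
  exact Groth.Agent.S1177.result f _ (Groth.Agent.Dcoh.FinLocFree.isFinLocFree_of_iso e.symm hE)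

end Groth.Agent.S8996
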