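import Groth.Statements.S8998
import Groth.Agent.FlatMor.K255.PureLoc
import Groth.Agent.S1248
import Groth.Agent.Flat2B.EtaleNhd
-- import your own Groth.Agent.* helpers here

set_option autoImplicit false
universe u
open FlatMor

namespace Groth.Agent.S8998

open IsLocalRing in

/-- For an affine finite type morphism Spec B → Spec A: if the local ring of A at the prime p is
Noetherian, then a finite B-module is pure along the fibre over p if and only if it is universally
pure along it. -/
theorem result {A B : Type u} [CommRing A] [CommRing B] [Algebra A B] [Algebra.FiniteType A B] (N : Type u) [AddCommGroup N] [Module B N] [Module.Finite B N] (p : Ideal A) [p.IsPrime] [IsNoetherianRing (Localization.AtPrime p)] : FlatCA.IsPureAlong A B N p ↔ FlatCA.IsUnivPureAlong A B N p := by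
  constructor
  · intro h
    have hmp : (maximalIdeal (Localization.AtPrime p)).LiesOver p :=
      Flat2B.EtaleNhd.liesOver_maximalIdeal_atPrime p
    refine FlatMor.K255.PureLoc.isUnivPureAlong_of_not_hasImpurity_henselization' (Localization.AtPrime p) N p ?_
    intro h5
    have h6 := S1248.result N p h5
    rw [Flat2A.ImpurityBC.hasImpurity_iff] at h6
    obtain ⟨A₃, _, _, s', s, _, _, hs, ⟨_, het⟩, himp3⟩ := h6
    exact (Flat2A.ImpurityBC.isPureAlong_iff p).mp h A₃ s' s het himp3
  · exact Flat2A.Impurity.isPureAlong_of_isUnivPureAlong N

end Groth.Agent.S8998
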