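import Groth.Statements.S9001
import Groth.Agent.S0589
-- import your own Groth.Agent.* helpers here

set_option autoImplicit false
universe u
open FlatMor

namespace Groth.Agent.S9001

open IsLocalRing TensorProduct in
/-- A direct sum of finite modules: finitely many elements lie in a finite direct summand. -/
theorem exists_finite_summand {R N : Type u} [CommRing R] [AddCommGroup N] [Module R N] {ι : Type u}
    [DecidableEq ι] (K : ι → Submodule R N) (hK : DirectSum.IsInternal K) (hfin : ∀ i, Module.Finite R (K i))
    (T : Finset N) : ∃ P Q : Submodule R N, IsCompl P Q ∧ Module.Finite R P ∧ (T : Set N) ⊆ P := by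
  classical
  have hind := hK.submodule_iSupIndep
  have htop : (⨆ i, K i) = ⊤ := hK.submodule_iSup_eq_top
  have key : ∀ x : N, ∃ s : Finset ι, x ∈ ⨆ i ∈ s, K i := by
    intro x
    have hx : x ∈ ⨆ i, K i := by rw [htop]; trivial
    exact Submodule.mem_iSup_iff_exists_finset.mp hx
  choose s hs using key
  let F : Finset ι := T.biUnion s
  refine ⟨⨆ i ∈ F, K i, ⨆ i ∈ (F : Set ι)ᶜ, K i, ⟨?_, ?_⟩, ?_, ?_⟩
  · exact hind.disjoint_biSup_biSup' (s := (F : Set ι)) (t := (F : Set ι)ᶜ) disjoint_compl_right F.finite_toSet
  · rw [codisjoint_iff, eq_top_iff, ← htop]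
    refine iSup_le fun i => ?_
    by_cases hi : i ∈ F
    · exact le_sup_of_le_left (le_biSup K hi)
    · exact le_sup_of_le_right (le_biSup (s := ((F : Set ι)ᶜ)) K hi)
  · rw [Module.Finite.iff_fg]
    exact Submodule.fg_biSup F K fun i _ => Module.Finite.iff_fg.mp (hfin i)
  · intro x hx
    have h1 : (⨆ i ∈ s x, K i) ≤ ⨆ i ∈ F, K i :=
      biSup_mono fun i hi => Finset.mem_biUnion.mpr ⟨x, hx, hi⟩
    exact h1 (hs x)

open IsLocalRing TensorProduct in
theorem eq_zero_of_smul_eq_zero {R S : Type u} [CommRing R] [IsLocalRing R] [CommRing S] [Algebra R S] (N : Type u)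
    [AddCommGroup N] [Module S N] [Module R N] [IsScalarTower R S N] {ι : Type u}
    [DecidableEq ι] (K : ι → Submodule R N) (hK : DirectSum.IsInternal K) (hfin : ∀ i, Module.Finite R (K i))
    (M : Type u) [AddCommGroup M] [Module R M] (h : S) (hh : 1 - h ∈ (maximalIdeal R).map (algebraMap R S))
    (x : N ⊗[R] M) (hx : h • x = 0) : x = 0 := by
  classical
  -- a finite set of elements of `N` supporting `x`
  obtain ⟨T, hT⟩ : ∃ T : Finset N, ∀ P : Submodule R N, (T : Set N) ⊆ P →
      x ∈ LinearMap.range (P.subtype.rTensor M) := by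
    clear hx
    induction x with
    | zero => exact ⟨∅, fun P _ => Submodule.zero_mem _⟩
    | tmul n m => exact ⟨{n}, fun P hP => ⟨(⟨n, hP (by simp)⟩ : P) ⊗ₜ m, by simp⟩⟩
    | add x y ihx ihy =>
      obtain ⟨T₁, h₁⟩ := ihx
      obtain ⟨T₂, h₂⟩ := ihy
      refine ⟨T₁ ∪ T₂, fun P hP => Submodule.add_mem _ (h₁ P ?_) (h₂ P ?_)⟩
      · exact fun a ha => hP (by simp [Finset.mem_coe.mp ha])
      · exact fun a ha => hP (by simp [Finset.mem_coe.mp ha])
  obtain ⟨P, Q, hPQ, hP, hTP⟩ := exists_finite_summand K hK hfin T
  obtain ⟨x', rfl⟩ := hT P hTP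
  let π : N →ₗ[R] P := P.projectionOnto Q hPQ
  have hπ : ∀ p : P, π p = p := fun p => Submodule.projectionOnto_apply_left hPQ p
  let hN : N →ₗ[R] N := (LinearMap.lsmul S N h).restrictScalars R
  let v : P →ₗ[R] P := π ∘ₗ hN ∘ₗ P.subtype
  -- the action of `m S` lands in `m N`
  have hmS : ∀ g ∈ (maximalIdeal R).map (algebraMap R S), ∀ n : N, g • n ∈ maximalIdeal R • (⊤ : Submodule R N) := by
    intro g hg
    refine Submodule.span_induction (p := fun g _ => ∀ n : N, g • n ∈ maximalIdeal R • (⊤ : Submodule R N))
      ?_ ?_ ?_ ?_ hg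
    · rintro _ ⟨a, ha, rfl⟩ n
      rw [algebraMap_smul]
      exact Submodule.smul_mem_smul ha trivial
    · intro n
      rw [zero_smul]
      exact Submodule.zero_mem _
    · intro a b _ _ ha hb n
      rw [add_smul]
      exact Submodule.add_mem _ (ha n) (hb n)
    · intro s a _ ha n
      rw [smul_eq_mul, mul_comm, mul_smul]
      exact ha (s • n)
  have hv : LinearMap.range v ⊔ maximalIdeal R • (⊤ : Submodule R P) = ⊤ := by
    rw [eq_top_iff]
    intro y _
    have h1 : y = v y + π ((1 - h) • (y : N)) := by
      have : v y = π (h • (y : N)) := rfl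
      rw [this, ← map_add, ← add_smul, add_sub_cancel, one_smul, hπ]
    rw [h1]
    refine Submodule.add_mem_sup ⟨y, rfl⟩ ?_
    have h2 : π ((1 - h) • (y : N)) ∈ (maximalIdeal R • (⊤ : Submodule R N)).map π :=
      Submodule.mem_map_of_mem (hmS _ hh _)
    rw [Submodule.map_smul''] at h2
    exact Submodule.smul_mono le_rfl le_top h2
  have hvs : Function.Surjective v := by
    rw [← LinearMap.range_eq_top]
    refine top_le_iff.mp (Submodule.le_of_le_smul_of_le_jacobson_bot (I := maximalIdeal R) hP.fg_top
      (IsLocalRing.maximalIdeal_le_jacobson ⊥) (by rw [hv]))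
  have hvb : Function.Bijective v := ⟨OrzechProperty.injective_of_surjective_endomorphism v hvs, hvs⟩
  have h3 : (v.rTensor M) x' = 0 := by
    have h4 : (v.rTensor M) x' = (π.rTensor M) ((hN.rTensor M) ((P.subtype.rTensor M) x')) := by
      rw [LinearMap.rTensor_comp, LinearMap.rTensor_comp]
      rfl
    have h5 : ∀ z : N ⊗[R] M, (hN.rTensor M) z = h • z := by
      intro z
      induction z with
      | zero => simp
      | tmul n m => rfl
      | add a b ha hb => rw [map_add, ha, hb, smul_add]
    rw [h4, h5, hx, map_zero]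
  have h6 : Function.Injective (v.rTensor M) := by
    let e : P ≃ₗ[R] P := LinearEquiv.ofBijective v hvb
    exact (LinearEquiv.rTensor M e).injective
  have h7 : x' = 0 := h6 (by rw [h3, map_zero])
  rw [h7, map_zero]


open IsLocalRing TensorProduct in
/-- Over a henselian local ring R with maximal ideal m, for an R-algebra S and an S-module N which is
countably generated and Mittag-Leffler as an R-module, every associated prime q of the S-module N
⊗_R M (M any R-module) satisfies q + mS ≠ S. (Associated primes are taken here in the sense of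
primes equal to the radical of the annihilator of some element, a larger set than the annihilators
of elements used in the published statement; the published argument goes through once the chosen
element of q is replaced by a suitable power of it, so the row states this slightly stronger form.) -/
theorem result {R S : Type u} [CommRing R] [HenselianLocalRing R] [CommRing S] [Algebra R S] (N : Type u) [AddCommGroup N] [Module S N] [Module R N] [IsScalarTower R S N] (hcg : CAlg.IsCountablyGenerated R N) (hML : CAlg.IsMittagLeffler R N) (M : Type u) [AddCommGroup M] [Module R M] (q : Ideal S) [q.IsPrime] (hq : q ∈ associatedPrimes S (N ⊗[R] M)) : q ⊔ (maximalIdeal R).map (algebraMap R S) ≠ ⊤ := by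
  classical
  obtain ⟨ι, K, hK, hKfp⟩ := S0589.result R N hcg hML
  intro htop
  obtain ⟨hqp, x, hx⟩ := hq
  obtain ⟨f, hf, g, hg, hfg⟩ := Submodule.mem_sup.mp (htop ▸ (Submodule.mem_top : (1 : S) ∈ (⊤ : Ideal S)))
  have h1 : f ∈ (Submodule.colon (⊥ : Submodule S (N ⊗[R] M)) {x}).radical := by rw [← hx]; exact hf
  obtain ⟨k, hk⟩ := h1
  rw [Submodule.mem_colon_singleton, Submodule.mem_bot] at hk
  have hx0 : x = 0 := by
    refine eq_zero_of_smul_eq_zero N K hK (fun i => inferInstance) M (f ^ k) ?_ x hk
    have h2 : f = 1 - g := by rw [← hfg]; ring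
    have h3 : (1 - f) ∣ (1 - f ^ k) := by
      have := sub_dvd_pow_sub_pow 1 f k
      rwa [one_pow] at this
    refine Ideal.mem_of_dvd _ h3 ?_
    rw [h2, sub_sub_cancel]
    exact hg
  apply hqp.ne_top
  rw [hx, hx0, eq_top_iff]
  intro a _
  apply Ideal.le_radical
  rw [Submodule.mem_colon_singleton, smul_zero]
  exact Submodule.zero_mem _

end Groth.Agent.S9001
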