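import Groth.Statements.S9003
import Groth.Agent.FlatMor.K225.Final

set_option autoImplicit false
universe u
attribute [local instance] HasDerivedCategory.standard
open FlatMor

namespace Groth.Agent.S9003

open CategoryTheory CategoryTheory.Limits AlgebraicGeometry in
/-- Over A = lim A_n, a limit of rings along surjections with locally nilpotent kernels, for X proper
flat of finite presentation over A with truncations X_n = X ×_A A_n, every system of pseudo-coherent
objects K_n of D(O_{X_n}) whose derived pullbacks to X_n recover K_n up to given isomorphisms comes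
from a pseudo-coherent object of D(O_X) by derived pullback, up to isomorphism for each n. (The
compatibility of these isomorphisms with the transition isomorphisms is not stated. The derived
pullback functors are the prelude's total left derived functors of module pullback, whose existence
is carried as hypotheses.) -/
theorem result {A : Type u} [CommRing A] (A' : ℕ → Type u) [∀ n, CommRing (A' n)] (φ : ∀ n, A' (n + 1) →+* A' n) (π : ∀ n, A →+* A' n) (hlim : FlatCA.IsRingLimit A A' φ π) (hsurj : ∀ n, Function.Surjective (φ n)) (hnil : ∀ n, ∀ x ∈ RingHom.ker (φ n), IsNilpotent x) {X : Scheme.{u}} (f : X ⟶ Spec (CommRingCat.of A)) [IsProper f] [Flat f] [LocallyOfFinitePresentation f] (Xn : ℕ → Scheme.{u}) (j : ∀ n, Xn n ⟶ X) (g : ∀ n, Xn n ⟶ Spec (CommRingCat.of (A' n))) (hpb : ∀ n, IsPullback (j n) (g n) f (Spec.map (CommRingCat.ofHom (π n)))) (ι : ∀ n, Xn n ⟶ Xn (n + 1)) (hιj : ∀ n, ι n ≫ j (n + 1) = j n) (hιg : ∀ n, ι n ≫ g (n + 1) = g n ≫ Spec.map (CommRingCat.ofHom (φ n))) [∀ n, DCoh.HasLpull (ι n)] [∀ n, DCoh.HasLpull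 (j n)] (K : ∀ n, DCoh.D (Xn n)) (hK : ∀ n (m : ℤ), DCoh.IsPseudoCoherentD m (K n)) (e : ∀ n, (DCoh.Lpull (ι n)).obj (K (n + 1)) ≅ K n) : ∃ L : DCoh.D X, (∀ m : ℤ, DCoh.IsPseudoCoherentD m L) ∧ ∀ n, Nonempty ((DCoh.Lpull (j n)).obj L ≅ K n) := by
  exact K225.Final.main hlim hsurj hnil hpb hιj hιg K hK e

end Groth.Agent.S9003
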