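import Groth.Statements.S9007
-- import your own Groth.Agent.* helpers here

set_option autoImplicit false
universe u
open FlatMor

namespace Groth.Agent.S9007

open CategoryTheory CategoryTheory.Limits AlgebraicGeometry in
/-- For a morphism f of compactifications of X over a quasi-compact quasi-separated S whose source
contains X as a dense open, the preimage under f of the image of X in the target is the image of X
in the source. -/
theorem result {X S : Scheme.{u}} [CompactSpace S] [QuasiSeparatedSpace S] (p : X ⟶ S) [IsSeparated p] [QuasiCompact p] [LocallyOfFiniteType p] {Y Y' : Scheme.{u}} (j : X ⟶ Y) (q : Y ⟶ S) [IsOpenImmersion j] [IsProper q] (h : j ≫ q = p) (j' : X ⟶ Y') (q' : Y' ⟶ S) [IsOpenImmersion j'] [IsProper q'] (h' : j' ≫ q' = p) (f : Y' ⟶ Y) (hf : f ≫ q = q') (hfj : j' ≫ f = j) (hd : Dense (Set.range j'.base)) : f ⁻¹ᵁ j.opensRange = j'.opensRange := by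
  have hsep : IsSeparated (f ≫ q) := by rw [hf]; infer_instance
  have hfs : IsSeparated f := IsSeparated.of_comp f q
  have hle : j'.opensRange ≤ f ⁻¹ᵁ j.opensRange := by
    rintro _ ⟨x, rfl⟩
    refine ⟨x, ?_⟩
    rw [← hfj]
    rfl
  let U : Y.Opens := j.opensRange
  let s : X ⟶ (f ⁻¹ᵁ U).toScheme := IsOpenImmersion.lift (f ⁻¹ᵁ U).ι j' (by
    rw [Scheme.Opens.range_ι]
    exact hle)
  have hs : s ≫ (f ⁻¹ᵁ U).ι = j' := IsOpenImmersion.lift_fac _ _ _
  have hcomp : s ≫ (f ∣_ U) = j.isoOpensRange.hom := by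
    rw [← cancel_mono U.ι, Category.assoc, morphismRestrict_ι, reassoc_of% hs, hfj]
    exact (Scheme.Hom.isoOpensRange_hom_ι j).symm
  have hci : IsClosedImmersion (s ≫ (f ∣_ U)) := by rw [hcomp]; infer_instance
  have hsc : IsClosedImmersion s := IsClosedImmersion.of_comp s (f ∣_ U)
  have hclosed : IsClosed (Set.range s.base) := s.isClosedEmbedding.isClosed_range
  apply le_antisymm _ hle
  intro y hy
  have hmem : (⟨y, hy⟩ : (f ⁻¹ᵁ U).toScheme) ∈ Set.range s.base := by
    refine hclosed.closure_subset (mem_closure_iff.mpr ?_)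
    intro V hV hyV
    have hVo : IsOpen ((f ⁻¹ᵁ U).ι.base '' V) := (f ⁻¹ᵁ U).ι.isOpenEmbedding.isOpenMap V hV
    obtain ⟨_, ⟨z, hz, rfl⟩, ⟨x, hx⟩⟩ := hd.inter_open_nonempty _ hVo ⟨_, ⟨_, hyV, rfl⟩⟩
    refine ⟨z, hz, x, ?_⟩
    apply (f ⁻¹ᵁ U).ι.isOpenEmbedding.injective
    rw [← hx, ← hs]
    rfl
  obtain ⟨x, hx⟩ := hmem
  refine ⟨x, ?_⟩
  rw [← hs]
  change (f ⁻¹ᵁ U).ι.base (s.base x) = y
  rw [hx]
  rfl

end Groth.Agent.S9007
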