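import Groth.Statements.S9008
import Groth.Agent.Flat2A.ImpurityBC
import Groth.Agent.Flat2B.NhdBasic
import Groth.Agent.Flat2B.RelAss
-- import your own Groth.Agent.* helpers here

set_option autoImplicit false
universe u
open FlatMor

namespace Groth.Agent.S9008

open TensorProduct in
attribute [local instance] Algebra.TensorProduct.rightAlgebra in

/-- For Spec B → Spec A affine of finite type: a finite B-module is universally pure along the fibre
over a prime p of A exactly when every base change of it along a ring map A → A' is pure along the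
fibre over every prime of A' above p. -/
theorem result {A B : Type u} [CommRing A] [CommRing B] [Algebra A B] [Algebra.FiniteType A B] (N : Type u) [AddCommGroup N] [Module B N] [Module.Finite B N] (p : Ideal A) [p.IsPrime] : FlatCA.IsUnivPureAlong A B N p ↔ ∀ (A' B' N' : Type u) [CommRing A'] [CommRing B'] [Algebra A A'] [Algebra B B'] [Algebra A' B'] [Algebra A B'] [IsScalarTower A B B'] [IsScalarTower A A' B'] [Algebra.IsPushout A B A' B'] [AddCommGroup N'] [Module B' N'] [Module B N'] [IsScalarTower B B' N'] (g : N →ₗ[B] N'), IsBaseChange B' g → ∀ (p' : Ideal A') [p'.IsPrime], p'.LiesOver p → FlatCA.IsPureAlong A' B' N' p' := by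
  constructor
  · intro h A' B' N' _ _ _ _ _ _ _ _ _ _ _ _ _ g hg p' _ hover
    have : Algebra.FiniteType A' B' := Flat2B.RelAss.finiteType_of_isPushout (A₁ := A) (B₁ := B)
    rw [Flat2A.ImpurityBC.isPureAlong_iff]
    intro A₂ _ _ t' t _ _ het himp
    letI : Algebra A A₂ := ((algebraMap A' A₂).comp (algebraMap A A')).toAlgebra
    haveI : IsScalarTower A A' A₂ := .of_algebraMap_eq' rfl
    rw [Flat2A.ImpurityBC.imp_baseChange_iff (A := A) (B := B) inferInstance g hg] at himp
    have h1 : t.LiesOver p' := het.2.1
    have h2 : t.LiesOver p := Ideal.LiesOver.trans t p' p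
    exact (Flat2A.ImpurityBC.isUnivPureAlong_iff p).mp h A₂ t' t h2 himp
  · intro h
    rw [Flat2A.ImpurityBC.isUnivPureAlong_iff]
    intro A₂ _ _ t' t _ _ hover himp
    have h1 := h A₂ (A₂ ⊗[A] B) ((A₂ ⊗[A] B) ⊗[B] N) (TensorProduct.mk B (A₂ ⊗[A] B) N 1)
      (TensorProduct.isBaseChange _ _ _) t hover
    rw [Flat2A.ImpurityBC.isPureAlong_iff] at h1
    refine h1 A₂ t' t (Flat2B.NhdBasic.refl t) ?_
    rw [Flat2A.ImpurityBC.imp_baseChange_iff (A := A) (B := B) inferInstance
      (TensorProduct.mk B (A₂ ⊗[A] B) N 1) (TensorProduct.isBaseChange _ _ _)]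
    exact himp

end Groth.Agent.S9008
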