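import Groth.Statements.S9009
import Groth.Agent.FlatMor.K256.FibreOpen
import Groth.Agent.FlatMor.K256.DimLT

set_option autoImplicit false
universe u
open FlatMor

namespace Groth.Agent.S9009

open CategoryTheory CategoryTheory.Limits AlgebraicGeometry in
/-- For f : X → S locally of finite type and a finite type quasi-coherent O_X-module F, the non-flat
locus of F in every fibre has dimension less than n if and only if every point where F is not flat
over S has residue field of transcendence degree less than n over the residue field of its image.
(The non-flat locus of the fibre over s is taken with the subspace topology from X, which is that of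
the fibre. The published statement adds that when these conditions hold they continue to hold after
any base change S' → S; this row states only the equivalence.) -/
theorem result {X S : Scheme.{u}} (f : X ⟶ S) [LocallyOfFiniteType f] (F : X.Modules) [Coh.IsQCoh F] (hF : CohB1.IsFT F) (n : ℕ) : (∀ s : S, topologicalKrullDim {x : X // f.base x = s ∧ ¬ FlatMod.IsFlatOverAt f F x} < n) ↔ ∀ x : X, ¬ FlatMod.IsFlatOverAt f F x → ∀ [Algebra (S.residueField (f.base x)) (X.residueField x)], algebraMap (S.residueField (f.base x)) (X.residueField x) = (f.residueFieldMap x).hom → Algebra.trdeg (S.residueField (f.base x)) (X.residueField x) < n := by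
  have hset : ∀ s : S, topologicalKrullDim {x : X // f.base x = s ∧ ¬ FlatMod.IsFlatOverAt f F x} =
      topologicalKrullDim ↑(f ⁻¹' {s} ∩ {x | ¬ FlatMod.IsFlatOverAt f F x}) := fun s => rfl
  constructor
  · intro h x hx _ hal
    have h1 := (K256.FibreOpen.dim_lt_iff f {x | ¬ FlatMod.IsFlatOverAt f F x} (f.base x)
      (K256.FibreOpen.isClosed_nonflat_fiber f F hF _) n).1 ((hset _).symm.trans_lt (h (f.base x))) x hx rfl
    have h2 : Groth.Agent.CycB.RelDim.rtd f x =
        Algebra.trdeg (S.residueField (f.base x)) (X.residueField x) := by
      change Groth.Agent.CycB.TrdegAlg.trd (f.residueFieldMap x).hom = _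
      rw [← hal]
      exact Groth.Agent.CycB.TrdegAlg.trd_algebraMap
    rw [← h2]
    exact h1
  · intro h s
    rw [hset]
    refine (K256.FibreOpen.dim_lt_iff f {x | ¬ FlatMod.IsFlatOverAt f F x} s
      (K256.FibreOpen.isClosed_nonflat_fiber f F hF _) n).2 fun x hx _ => ?_
    letI : Algebra (S.residueField (f.base x)) (X.residueField x) := (f.residueFieldMap x).hom.toAlgebra
    exact h x hx rfl

end Groth.Agent.S9009
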