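import Groth.Statements.S9010
import Groth.Agent.S8981
import Groth.Agent.HTop.K347.LimMain
-- import your own Groth.Agent.* helpers here

set_option autoImplicit false
universe u
open HTop

namespace Groth.Agent.S9010

open CategoryTheory CategoryTheory.Limits AlgebraicGeometry in
/-- Over a base scheme of prime characteristic p, the rule sending a scheme X over the base to the
inverse limit of its global sections along the p-th power map is a sheaf on the big h site. -/
theorem result (p : ℕ) [Fact p.Prime] (S : Scheme.{u}) (hS : (p : Γ(S, ⊤)) = 0) : Presieve.IsSheaf (HTop.Jh S) (HTop.frobLimPresheaf p S) := by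
  exact (Groth.Agent.S8981.result S _).2 ⟨K347.LimFpqc.isSheaf_zariski p, fun U V f hU h1 h2 h3 =>
    K347.LimMain.isSheafFor p S hS f hU h1 h2 h3⟩

end Groth.Agent.S9010
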