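import Groth.Statements.S9011
import Groth.Agent.Flat2A.ResInj
import Groth.Agent.Flat2A.UnivInj

set_option autoImplicit false
universe u
open FlatMor

namespace Groth.Agent.S9011

open IsLocalRing in
/-- For a local ring R with maximal ideal m, an R-algebra S with S/mS Noetherian and an S-module N with
N/mN finite over S/mS which is projective as an R-module, every element of S that is a
nonzerodivisor on N/mN acts R-universally injectively on N, and the map from N to its localization
at all such elements is R-universally injective. -/
theorem result {R S : Type u} [CommRing R] [IsLocalRing R] [CommRing S] [Algebra R S] (N : Type u) [AddCommGroup N] [Module S N] [Module R N] [IsScalarTower R S N] [IsNoetherianRing ((maximalIdeal R).Fiber S)] [Module.Finite ((maximalIdeal R).Fiber S) (FlatCA.fiberMod (maximalIdeal R) S N)] [Module.Projective R N] : (∀ s ∈ FlatCA.nzdFiber R S N, FlatCA.UnivInj R ((LinearMap.lsmul S N s).restrictScalars R)) ∧ FlatCA.UnivInj R ((LocalizedModule.mkLinearMap (FlatCA.nzdFiber R S N) N).restrictScalars R) := by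
  have key : ∀ s ∈ FlatCA.nzdFiber R S N, FlatCA.UnivInj R ((LinearMap.lsmul S N s).restrictScalars R) := by
    intro s hs
    have h1 : Function.Injective (((LinearMap.lsmul S N s).restrictScalars R).rTensor
        (maximalIdeal R).ResidueField) := by
      rw [injective_iff_map_eq_zero]
      intro z hz
      have h2 : ∀ z : TensorProduct R N (maximalIdeal R).ResidueField,
          (((LinearMap.lsmul S N s).restrictScalars R).rTensor (maximalIdeal R).ResidueField) z = s • z := by
        intro z
        induction z using TensorProduct.induction_on with
        | zero => rw [map_zero, smul_zero]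
        | tmul x y => rfl
        | add a b ha hb => rw [map_add, smul_add, ha, hb]
      rw [h2] at hz
      have h3 : s • (Flat2A.ResInj.fiberModEquiv (S := S) (maximalIdeal R) N).symm z = 0 := by
        rw [← map_smul, hz, map_zero]
      have h4 := hs _ h3
      exact (LinearEquiv.map_eq_zero_iff _).1 h4
    intro Q _ _
    refine Flat2A.ResInj.lTensor_injective_of_projective _ ?_ Q
    rw [← Flat2A.ResInj.lTensor_residueField_injective_iff]
    exact (LinearMap.lTensor_inj_iff_rTensor_inj _ _).2 h1
  refine ⟨key, ?_⟩
  have h1 : FlatCA.UnivInj R ((TensorProduct.mk S (Localization (FlatCA.nzdFiber R S N)) N 1).restrictScalars R) := by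
    refine Flat2A.UnivInj.univInj_mk_of_forall N ?_
    intro Q _ _ x hx
    have h2 := (IsLocalization.map_algebraMap_ne_top_iff_disjoint (FlatCA.nzdFiber R S N)
      (Localization (FlatCA.nzdFiber R S N)) (Flat2A.UnivInj.ann S x)).not
    rw [not_not] at h2
    have h3 := h2.mp hx
    rw [Set.not_disjoint_iff] at h3
    obtain ⟨s, hs, hs'⟩ := h3
    have h4 := key s hs
    rw [Flat2A.UnivInj.univInj_smul_iff] at h4
    exact h4 Q x ((Flat2A.UnivInj.mem_ann x s).mp hs')
  intro Q _ _
  have h5 := h1 Q
  let e := (LocalizedModule.equivTensorProduct (FlatCA.nzdFiber R S N) N)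
  have h6 : (TensorProduct.mk S (Localization (FlatCA.nzdFiber R S N)) N 1).restrictScalars R =
      (e.restrictScalars R).toLinearMap ∘ₗ
        ((LocalizedModule.mkLinearMap (FlatCA.nzdFiber R S N) N).restrictScalars R) := by
    ext n
    simp [e, Localization.mk_one]
  rw [h6, LinearMap.lTensor_comp] at h5
  exact Function.Injective.of_comp (f := ((e.restrictScalars R).toLinearMap).lTensor Q) h5

end Groth.Agent.S9011
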