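import Groth.Statements.S9013
import Groth.Agent.FlatMor.K256.FlatStage

set_option autoImplicit false
universe u
open FlatMor

namespace Groth.Agent.S9013

open CategoryTheory CategoryTheory.Limits AlgebraicGeometry Opposite in
/-- For f : X → S quasi-compact and locally of finite presentation and F a quasi-coherent O_X-module of
finite presentation, the functor F_flat on schemes over S (one point on T when F_T is flat over T,
empty otherwise; the subfunctor of the final functor generated by that condition) is limit
preserving: its value on a directed limit of affine schemes over S is the colimit of its values. -/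
theorem result {X S : Scheme.{u}} (f : X ⟶ S) [QuasiCompact f] [LocallyOfFinitePresentation f]
    (F : X.Modules) [Coh.IsQCoh F] (hF : CohB1.IsFP F) :
    AlgSp.IsLimitPreserving
      (FlatFun.genPSp S (fun T => FlatMod.IsFlatOver (PicF.XTproj f T) (FGA.ET f F T))) := by
  refine K256.LimPres.isLimitPreserving_genPSp _
    (fun T T₀ g h x => K256.ModBC.flatOverAt_stable f g F x (h _)) ?_
  intro I _ _ D c hc hD hT h
  have hlfp : ∀ T : Over S, LocallyOfFinitePresentation (PicF.XTproj f T) := by
    intro T
    unfold PicF.XTproj
    infer_instance
  have hop : ∀ T : Over S, IsOpen {x | FlatMod.IsFlatOverAt (PicF.XTproj f T) (FGA.ET f F T) x} :=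
    fun T => by
      have := hlfp T
      exact Groth.Agent.Flat2G.FlatLocus.isOpen_flatLocus _ _
        (Groth.Agent.FormalA.PullbackQC.isQCoh_pullback _ _ inferInstance)
        (Groth.Agent.FormalA.PullbackQC.isFP_pullback _ _ hF)
  obtain ⟨i, hi⟩ := K256.LimPres.exists_stage f c hc hD hT (fun i => ⟨_, hop (D.obj i)⟩)
    (fun {i j} a x hx => K256.ModBC.flatOverAt_stable f (D.map a) F x hx)
    (fun x => K256.FlatStage.exists_stage_flatAt f F inferInstance hF c hc hD hT x (h x))
  exact ⟨i, fun x => show x ∈ (⟨_, hop (D.obj i)⟩ : (PicF.XT f (D.obj i)).Opens) by rw [hi]; trivial⟩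

end Groth.Agent.S9013
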