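import Groth.Statements.S9017
import Groth.Agent.FlatMor.K256.GenSheaf
import Groth.Agent.FlatMor.K256.ModBC

set_option autoImplicit false
universe u
open FlatMor

namespace Groth.Agent.S9017

open CategoryTheory CategoryTheory.Limits AlgebraicGeometry Opposite in
/-- For f : X → S, a homomorphism u : F → G of quasi-coherent O_X-modules, a scheme T over S and an fpqc
covering family of S-morphisms T_i → T, the base change u_T on X_T = X ×_S T is injective (a
monomorphism in the abelian category of O-modules) if and only if u_{T_i} is injective for every i.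
(Injectivity of u_T is not preserved by arbitrary base change, so this variant is a sheaf condition
on coverings rather than a subfunctor of the final functor.) -/
theorem result {X S : Scheme.{u}} (f : X ⟶ S) {F G : X.Modules} [Coh.IsQCoh F] [Coh.IsQCoh G] (u : F ⟶ G)
    (T : Over S) {ι : Type u} (Ti : ι → Over S) (g : ∀ i, Ti i ⟶ T)
    (hcov : Presieve.ofArrows (fun i => (Ti i).left) (fun i => (g i).left) ∈ Scheme.fpqcPrecoverage T.left) :
    Mono ((Scheme.Modules.pullback (pullback.fst f T.hom)).map u) ↔
      ∀ i, Mono ((Scheme.Modules.pullback (pullback.fst f (Ti i).hom)).map u) := by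
  have hfl : ∀ i, Flat (g i).left := fun i =>
    K256.GenSheaf.flat_of_mem_fpqcPrecoverage hcov (Presieve.ofArrows.mk i)
  constructor
  · intro h i
    have := hfl i
    have := K256.ModBC.flat_XTmap f (g i)
    have := Groth.Agent.Sga67.FlatPre.mono_pullback_map (PicF.XTmap f (g i)) (K256.ModBC.uT f u T)
    exact (K256.ModBC.mono_XT f (g i) u).1 this
  · intro h
    refine K256.StalkPull.mono_of_cover _ fun x => ?_
    obtain ⟨Y, g', y, hg', hy⟩ :=
      K256.GenSheaf.exists_of_mem_fpqcPrecoverage hcov ((PicF.XTproj f T).base x)
    obtain ⟨i⟩ := hg'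
    obtain ⟨x', hx', -⟩ := K256.ModBC.exists_lift f (g i) x y hy
    have := hfl i
    exact ⟨_, PicF.XTmap f (g i), x', K256.ModBC.flat_XTmap f (g i), hx',
      (K256.ModBC.mono_XT f (g i) u).2 (h i)⟩

end Groth.Agent.S9017
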