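import Groth.Statements.S9020
import Groth.Agent.S4789
import Groth.Agent.FlatMor.K256.LimPres
import Groth.Agent.FormalA.PullbackQC

set_option autoImplicit false
universe u
open FlatMor

namespace Groth.Agent.S9020

open CategoryTheory CategoryTheory.Limits AlgebraicGeometry Opposite in
/-- For f : X → S quasi-compact and a homomorphism u : F → G of quasi-coherent O_X-modules with F of
finite type and G of finite presentation, the functor F_iso (one point on T when the base change u_T
on X ×_S T is an isomorphism, empty otherwise; the subfunctor of the final functor generated by that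
condition) is limit preserving. -/
theorem result {X S : Scheme.{u}} (f : X ⟶ S) [QuasiCompact f] {F G : X.Modules} [Coh.IsQCoh F] [Coh.IsQCoh G]
    (hF : CohB1.IsFT F) (hG : CohB1.IsFP G) (u : F ⟶ G) :
    AlgSp.IsLimitPreserving (FlatFun.genPSp S (fun T => IsIso ((Scheme.Modules.pullback (pullback.fst f T.hom)).map u))) := by
  refine K256.LimPres.isLimitPreserving_genPSp _ (fun T T₀ g h => K256.ModBC.isIso_stable f g u h) ?_
  intro I _ _ D c hc hD hT h
  obtain ⟨hcX⟩ := K256.LimPres.isLimit_XTcone f c hc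
  obtain ⟨i₀⟩ := IsCofiltered.nonempty (C := I)
  have h1 := K256.LimPres.isAffineHom_XTD f D hD
  have h2 : CompactSpace ((K256.LimPres.XTD f D).obj i₀) := by
    have := hD i₀
    exact K256.LimPres.compactSpace_XT f (D.obj i₀)
  let F₀ : ((K256.LimPres.XTD f D).obj i₀).Modules := FGA.ET f F (D.obj i₀)
  let G₀ : ((K256.LimPres.XTD f D).obj i₀).Modules := FGA.ET f G (D.obj i₀)
  let u₀ : F₀ ⟶ G₀ := K256.ModBC.uT f u (D.obj i₀)
  have h3 : Coh.IsQCoh F₀ := Groth.Agent.FormalA.PullbackQC.isQCoh_pullback _ _ inferInstance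
  have h4 : Coh.IsQCoh G₀ := Groth.Agent.FormalA.PullbackQC.isQCoh_pullback _ _ inferInstance
  have h5 : CohB1.IsFT F₀ := Groth.Agent.FormalA.PullbackQC.isFT_pullback _ _ hF
  have h6 : CohB1.IsFP G₀ := Groth.Agent.FormalA.PullbackQC.isFP_pullback _ _ hG
  obtain ⟨j, φ, hj⟩ := (Groth.Agent.S4789.result (K256.LimPres.XTD f D) (K256.LimPres.XTcone f c) hcX i₀
    h5 h6 u₀).1 ((K256.ModBC.isIso_XT f (c.π.app i₀) u).2 h)
  exact ⟨j, (K256.ModBC.isIso_XT f (D.map φ) u).1 hj⟩

end Groth.Agent.S9020
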