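import Groth.Statements.S9022
import Groth.Agent.FlatMor.K256.HpRep
import Groth.Agent.FlatMor.K256.ReprSheaf
import Groth.Agent.Models2.FPCoh

set_option autoImplicit false
universe u
open FlatMor

namespace Groth.Agent.S9022

open CategoryTheory CategoryTheory.Limits AlgebraicGeometry Opposite in
/-- For f : X → S smooth with geometrically irreducible fibres, F a quasi-coherent O_X-module of finite
presentation and p ≥ 0, the functor H_p on schemes over S (one point on T when F_T is free of rank p
near the generic point of every fibre of X ×_S T → T, empty otherwise; the subfunctor of the final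
functor generated by that condition) is limit preserving. -/
theorem result {X S : Scheme.{u}} (f : X ⟶ S) [Smooth f] [GeometricallyIrreducible f] (F : X.Modules) [Coh.IsQCoh F]
    (hF : CohB1.IsFP F) (p : ℕ) :
    AlgSp.IsLimitPreserving (FlatFun.genPSp S (fun T => FlatFun.FreeAtGenericPts (PicF.XTproj f T) (FGA.ET f F T) p)) := by
  obtain ⟨Z, h1, ⟨h2⟩, h3⟩ := K256.HpRep.main (p := p) (f := f) inferInstance
    (Groth.Agent.Models2.FPCoh.isFT_of_isFP hF)
  obtain ⟨h4, -, -⟩ := h3 hF
  have hst : ∀ ⦃T T₀ : Over S⦄ (_ : T ⟶ T₀), K256.HpStab.P f F p T₀ → K256.HpStab.P f F p T :=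
    fun T T₀ g h => K256.HpStab.stable g h
  exact K256.ReprSheaf.isLimitPreserving _ hst Z (K256.GenRepr.nonempty_hom_iff _ hst Z h2)

end Groth.Agent.S9022
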