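import Groth.Statements.S9025
import Groth.Agent.FlatMor.K256.WeilClosed
import Groth.Agent.S1219

set_option autoImplicit false
universe u
open FlatMor

namespace Groth.Agent.S9025

open CategoryTheory CategoryTheory.Limits AlgebraicGeometry Opposite in
/-- For X = Spec B and S = Spec A affine (purity of a morphism is available here only in ring form), let
A → B be a flat ring map of finite presentation such that the structure sheaf of X = Spec B is pure
relative to S = Spec A, and let i : Y → Spec B be a closed immersion (a closed subscheme Y of X).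
Then the Weil restriction functor of Y along X → S, the functor on schemes over S with one point on
T when the base change Y_T → X_T of i is an isomorphism and empty otherwise (the subfunctor of the
final functor generated by that condition), is representable by a scheme Z over S whose structure
morphism Z → S is a closed immersion. If moreover Y → S is locally of finite presentation (hence of
finite presentation) then Z → S is locally of finite presentation. -/
theorem result {A B : Type u} [CommRing A] [CommRing B] [Algebra A B] [Algebra.FinitePresentation A B] [Module.Flat A B]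
    (hpure : FlatCA.IsPure A B B) {Y : Scheme.{u}} (i : Y ⟶ Spec (CommRingCat.of B)) [IsClosedImmersion i] :
    ∃ Z : Over (Spec (CommRingCat.of A)), IsClosedImmersion Z.hom ∧
      Nonempty ((FlatFun.genPSp (Spec (CommRingCat.of A)) (fun T =>
        IsIso (pullback.snd i (pullback.fst (Spec.map (CommRingCat.ofHom (algebraMap A B))) T.hom)))).RepresentableBy Z) ∧
      (LocallyOfFinitePresentation (i ≫ Spec.map (CommRingCat.ofHom (algebraMap A B))) →
        LocallyOfFinitePresentation Z.hom) := by
  have hproj : Module.Projective A B := (Groth.Agent.S1219.result B).2 hpure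
  obtain ⟨J, e, he⟩ := IsClosedImmersion.Spec_iff.1 ‹IsClosedImmersion i›
  let q : Spec (CommRingCat.of B) ⟶ Spec (CommRingCat.of A) := Spec.map (CommRingCat.ofHom (algebraMap A B))
  have hP : ∀ T : Over (Spec (CommRingCat.of A)), IsIso (pullback.snd i (pullback.fst q T.hom)) ↔
      ∃ l : pullback q T.hom ⟶ Y, l ≫ i = pullback.fst q T.hom :=
    fun T => K256.WeilClosed.isIso_snd_iff i _
  have hl : ∀ T : Over (Spec (CommRingCat.of A)), (∃ l : pullback q T.hom ⟶ Y, l ≫ i = pullback.fst q T.hom) ↔
      ∀ b ∈ J, (K256.WeilClosed.rm (pullback.fst q T.hom) ⊤).hom b = 0 := by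
    intro T
    rw [← K256.WeilClosed.factor_iff]
    constructor
    · rintro ⟨l, hl⟩
      exact ⟨l ≫ e.hom, by rw [Category.assoc, ← he, hl]⟩
    · rintro ⟨l, hl⟩
      exact ⟨l ≫ e.inv, by rw [Category.assoc, he, e.inv_hom_id_assoc, hl]⟩
  refine ⟨K256.WeilClosed.ZJ A J, inferInstance, ?_, fun hfp => ?_⟩
  · refine K256.GenRepr.nonempty_representableBy _ ?_ _ ?_
    · intro T T₀ g h
      rw [hP] at h ⊢
      obtain ⟨l, hl⟩ := h
      refine ⟨pullback.lift (pullback.fst _ _) (pullback.snd _ _ ≫ g.left) ?_ ≫ l, ?_⟩
      · rw [Category.assoc, Over.w g, pullback.condition]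
      · rw [Category.assoc, hl, pullback.lift_fst]
    · intro T
      rw [K256.WeilClosed.nonempty_hom_ZJ_iff_of_isPullback J T (IsPullback.of_hasPullback q T.hom), hP, hl]
  · refine K256.WeilClosed.locallyOfFinitePresentation_ZJ J ?_
    have h1 : LocallyOfFinitePresentation
        (Spec.map (CommRingCat.ofHom (Ideal.Quotient.mk J)) ≫ q) := by
      have h2 : Spec.map (CommRingCat.ofHom (Ideal.Quotient.mk J)) ≫ q = e.inv ≫ (i ≫ q) := by
        rw [he, Category.assoc, e.inv_hom_id_assoc]
      rw [h2]
      infer_instance
    have h3 : Spec.map (CommRingCat.ofHom (Ideal.Quotient.mk J)) ≫ q =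
        Spec.map (CommRingCat.ofHom ((Ideal.Quotient.mk J).comp (algebraMap A B))) := by
      rw [← Spec.map_comp]
      rfl
    rw [h3, HasRingHomProperty.Spec_iff (P := @LocallyOfFinitePresentation)] at h1
    have h4 : Algebra.FinitePresentation A (B ⧸ J) := by
      have h5 : algebraMap A (B ⧸ J) = (Ideal.Quotient.mk J).comp (algebraMap A B) := rfl
      rw [← RingHom.finitePresentation_algebraMap, h5]
      exact h1
    have h6 := Algebra.FinitePresentation.ker_fG_of_surjective (Ideal.Quotient.mkₐ A J) Ideal.Quotient.mk_surjective
    have h7 : RingHom.ker (Ideal.Quotient.mkₐ A J).toRingHom = J := Ideal.mk_ker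
    rwa [h7] at h6

end Groth.Agent.S9025
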