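import Groth.Statements.S9027
import Groth.Agent.FlatMor.K256.SrcPull
import Groth.Agent.FlatMor.K256.DimLT

set_option autoImplicit false
universe u
open FlatMor

namespace Groth.Agent.S9027

open CategoryTheory CategoryTheory.Limits AlgebraicGeometry Opposite in
/-- For f : X → S locally of finite type, F a quasi-coherent O_X-module of finite type, an etale
morphism h : X' → X and n ≥ 0, the functor F_n of F over S is a subfunctor of the functor F_n of the
pullback h^*F on X' over S: for every scheme T over S, if the base change F_T on X ×_S T is flat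
over T in dimensions ≥ n (transcendence-degree form) then so is the base change of h^*F on X' ×_S T. -/
theorem result {X X' S : Scheme.{u}} (f : X ⟶ S) [LocallyOfFiniteType f] (F : X.Modules) [Coh.IsQCoh F] (hF : CohB1.IsFT F)
    (h : X' ⟶ X) [Etale h] (n : ℕ) (T : Over S)
    (hT : FlatFun.DimFibresLT n (PicF.XTproj f T)
        {x | ¬ FlatMod.IsFlatOverAt (PicF.XTproj f T) (FGA.ET f F T) x}) :
    FlatFun.DimFibresLT n (PicF.XTproj (h ≫ f) T)
        {x | ¬ FlatMod.IsFlatOverAt (PicF.XTproj (h ≫ f) T) (FGA.ET (h ≫ f) ((Scheme.Modules.pullback h).obj F) T) x} := by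
  intro x hx
  have h1 : ¬ FlatMod.IsFlatOverAt (PicF.XTproj f T) (FGA.ET f F T) ((K256.SrcPull.kT f h T).base x) :=
    fun h2 => hx ((K256.SrcPull.flatOverAt_iff f h T F x).2 h2)
  have h2 : Groth.Agent.CycB.RelDim.rtd (PicF.XTproj f T) ((K256.SrcPull.kT f h T).base x) < n :=
    hT _ h1
  have := K256.SrcPull.etale_kT f h T
  have h4 := K256.DimLT.rtd_etale_comp (K256.SrcPull.kT f h T) (PicF.XTproj f T) x
  rw [K256.SrcPull.kT_snd] at h4
  change Groth.Agent.CycB.RelDim.rtd (PicF.XTproj (h ≫ f) T) x < n
  rw [h4]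
  exact h2

end Groth.Agent.S9027
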