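import Groth.Statements.S9028
import Groth.Agent.FlatMor.K256.RelAssX
import Groth.Agent.FlatMor.K256.SrcPull
import Groth.Agent.FlatMor.K256.DimLT
import Groth.Agent.FlatMor.K256.DimFun
import Groth.Agent.Ega4fib.H172.FibDimBC

set_option autoImplicit false
universe u
open FlatMor

namespace Groth.Agent.S9028

open CategoryTheory CategoryTheory.Limits AlgebraicGeometry Opposite in
/-- For f : X → S locally of finite type, F a quasi-coherent O_X-module of finite type, an etale
morphism h : X' → X whose image contains every point of the relative assassin of F over S, and n ≥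
0, the functors F_n of F and of h^*F agree: for every scheme T over S, if the base change of h^*F on
X' ×_S T is flat over T in dimensions ≥ n then so is the base change F_T on X ×_S T (the other
implication holds without the hypothesis on the image). -/
theorem result {X X' S : Scheme.{u}} (f : X ⟶ S) [LocallyOfFiniteType f] (F : X.Modules) [Coh.IsQCoh F] (hF : CohB1.IsFT F)
    (h : X' ⟶ X) [Etale h] (hAss : MoreMor.relAss f F ⊆ Set.range h.base) (n : ℕ) (T : Over S)
    (hT : FlatFun.DimFibresLT n (PicF.XTproj (h ≫ f) T)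
        {x | ¬ FlatMod.IsFlatOverAt (PicF.XTproj (h ≫ f) T) (FGA.ET (h ≫ f) ((Scheme.Modules.pullback h).obj F) T) x}) :
    FlatFun.DimFibresLT n (PicF.XTproj f T)
        {x | ¬ FlatMod.IsFlatOverAt (PicF.XTproj f T) (FGA.ET f F T) x} := by
  intro x hx
  have hlft := K256.DimFun.locallyOfFiniteType_XTproj f T
  obtain ⟨ξ, hξ1, hξ2, hξ3, hξ4⟩ := K256.RelAssX.exists_relAss_of_not_flatAt (PicF.XTproj f T)
    (FGA.ET f F T) (Groth.Agent.FormalA.PullbackQC.isQCoh_pullback _ _ inferInstance)
    (Groth.Agent.FormalA.PullbackQC.isFT_pullback _ _ hF) x hx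
  obtain ⟨y, hy⟩ := hAss (K256.RelAssX.relAss_map (IsPullback.of_hasPullback f T.hom) F inferInstance ξ hξ1)
  obtain ⟨ξ', h1, -, -⟩ := K256.RtdBC.exists_over (K256.SrcPull.isPullback_kT f h T) ξ y hy.symm
  have h2 : Groth.Agent.CycB.RelDim.rtd (PicF.XTproj (h ≫ f) T) ξ' < n := hT ξ' (fun h3 => hξ4 (by
    rw [← h1]
    exact (K256.SrcPull.flatOverAt_iff f h T F ξ').1 h3))
  have := K256.SrcPull.etale_kT f h T
  have h4 := K256.DimLT.rtd_etale_comp (K256.SrcPull.kT f h T) (PicF.XTproj f T) ξ'
  rw [K256.SrcPull.kT_snd, h1] at h4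
  rw [h4] at h2
  exact (Groth.Agent.VarietyA.LocDim.rtd_le_of_specializes _ hξ2 hξ3).trans_lt h2

end Groth.Agent.S9028
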