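import Groth.Statements.S9029
import Groth.Agent.FlatMor.K250.GenFree
import Groth.Agent.Models2.FPCoh
import Groth.Agent.FormalA.PullbackQC

set_option autoImplicit false
universe u
open FlatMor

namespace Groth.Agent.S9029


open AlgebraicGeometry CategoryTheory Limits in
theorem isPullback_XTmap {X S : Scheme.{u}} (f : X ⟶ S) {T T' : Over S} (g : T' ⟶ T) :
    IsPullback (PicF.XTmap f g) (PicF.XTproj f T') (PicF.XTproj f T) g.left := by
  have h1 : IsPullback (pullback.fst f T'.hom) (pullback.snd f T'.hom) f T'.hom :=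
    IsPullback.of_hasPullback _ _
  have h2 : IsPullback (pullback.fst f T.hom) (pullback.snd f T.hom) f T.hom :=
    IsPullback.of_hasPullback _ _
  refine IsPullback.of_right ?_ ?_ h2
  · rw [Over.w g, FGA.XTmap_fst]
    exact h1
  · exact pullback.lift_snd _ _ _

open AlgebraicGeometry CategoryTheory Limits K582.RankStrat in
theorem exists_bound {X : Scheme.{u}} [CompactSpace X] (F : X.Modules) (hq : Coh.IsQCoh F)
    (hft : CohB1.IsFT F) : ∃ c : ℕ, ∀ x : X, fib F x ≤ c := by
  obtain ⟨n, hn⟩ := isCompact_univ.elim_directed_cover (fun n : ℕ => {x : X | fib F x ≤ n})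
    (fun n => isOpen_fib_le F hq hft n)
    (fun x _ => Set.mem_iUnion.2 ⟨fib F x, (le_rfl : fib F x ≤ fib F x)⟩)
    (fun a b => ⟨max a b, fun x (hx : fib F x ≤ a) => le_trans hx (le_max_left a b),
      fun x (hx : fib F x ≤ b) => le_trans hx (le_max_right a b)⟩)
  exact ⟨n, fun x => hn trivial⟩

open AlgebraicGeometry CategoryTheory Limits in
/-- Restriction of `F_T` to the inverse image of an open subscheme. -/
noncomputable def etRestrict {X S : Scheme.{u}} (f : X ⟶ S) (F : X.Modules) (T : Over S) (V : T.left.Opens)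
    (j : PicF.XT f (Over.mk (V.ι ≫ T.hom)) ⟶ PicF.XT f T) [IsOpenImmersion j]
    (hj : j = PicF.XTmap f (Over.homMk V.ι rfl : Over.mk (V.ι ≫ T.hom) ⟶ T)) :
    (FGA.ET f F T).restrict j ≅ FGA.ET f F (Over.mk (V.ι ≫ T.hom)) :=
  (Scheme.Modules.restrictFunctorIsoPullback j).app _ ≪≫
    (Scheme.Modules.pullbackCongr hj).app _ ≪≫ FGA.ETiso f F _

open CategoryTheory CategoryTheory.Limits AlgebraicGeometry Opposite in
/-- Let X → S be a morphism of affine schemes which is smooth of relative dimension d with geometrically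
irreducible fibres, and F a quasi-coherent O_X-module of finite presentation. Then the functor F_d
(F_T flat over T in dimensions ≥ d) is the disjoint union, as a sheaf, of the functors H_p for p =
0, …, c for some c ≥ 0: there is c such that for every scheme T over S, the base change F_T on X ×_S
T is flat over T in dimensions ≥ d (every point where it is not flat over T has residue field of
transcendence degree less than d over that of its image) if and only if every point of T has an open
neighbourhood V in T and an integer p ≤ c such that F_V is free of rank p on a neighbourhood of the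
generic point of every fibre of X ×_S V → V. -/
theorem result {X S : Scheme.{u}} [IsAffine X] [IsAffine S] (f : X ⟶ S) (d : ℕ) [SmoothOfRelativeDimension d f]
    [GeometricallyIrreducible f] (F : X.Modules) [Coh.IsQCoh F] (hF : CohB1.IsFP F) :
    ∃ c : ℕ, ∀ T : Over S,
      (FlatFun.DimFibresLT d (PicF.XTproj f T)
        {x | ¬ FlatMod.IsFlatOverAt (PicF.XTproj f T) (FGA.ET f F T) x}) ↔
      ∀ t : T.left, ∃ (V : T.left.Opens) (p : ℕ), t ∈ V ∧ p ≤ c ∧
        FlatFun.FreeAtGenericPts (PicF.XTproj f (Over.mk (V.ι ≫ T.hom)))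
          (FGA.ET f F (Over.mk (V.ι ≫ T.hom))) p := by
  have hqc : Coh.IsQCoh F := ‹_›
  obtain ⟨c, hc⟩ := exists_bound F hqc (Models2.FPCoh.isFT_of_isFP hF)
  refine ⟨c, fun T => ?_⟩
  have hst := smoothOfRelativeDimension_isStableUnderBaseChange (n := d)
  have hsm : SmoothOfRelativeDimension d (PicF.XTproj f T) :=
    MorphismProperty.of_isPullback (P := @SmoothOfRelativeDimension d)
      (IsPullback.of_hasPullback f T.hom) inferInstance
  have hsm' : Smooth (PicF.XTproj f T) := SmoothOfRelativeDimension.smooth d _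
  have hgi : ∀ T : Over S, GeometricallyIrreducible (PicF.XTproj f T) := fun T =>
    inferInstanceAs (GeometricallyIrreducible (pullback.snd f T.hom))
  have hqT : Coh.IsQCoh (FGA.ET f F T) := FormalA.PullbackQC.isQCoh_pullback _ F hqc
  have hFT : CohB1.IsFP (FGA.ET f F T) := FormalA.PullbackQC.isFP_pullback _ F hF
  rw [K250.GenFree.dimFibresLT_iff_generic (PicF.XTproj f T) d (FGA.ET f F T)]
  have hopen : ∀ V : T.left.Opens, ∃ j : PicF.XT f (Over.mk (V.ι ≫ T.hom)) ⟶ PicF.XT f T,
      IsOpenImmersion j ∧ IsPullback j (PicF.XTproj f (Over.mk (V.ι ≫ T.hom))) (PicF.XTproj f T) V.ι ∧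
      j = PicF.XTmap f (Over.homMk V.ι rfl : Over.mk (V.ι ≫ T.hom) ⟶ T) := by
    intro V
    have H : IsPullback (PicF.XTmap f (Over.homMk V.ι rfl : Over.mk (V.ι ≫ T.hom) ⟶ T))
        (PicF.XTproj f (Over.mk (V.ι ≫ T.hom))) (PicF.XTproj f T) V.ι :=
      isPullback_XTmap f (Over.homMk V.ι rfl : Over.mk (V.ι ≫ T.hom) ⟶ T)
    exact ⟨_, MorphismProperty.of_isPullback (P := @IsOpenImmersion) H.flip inferInstance, H, rfl⟩
  constructor
  · intro h t
    obtain ⟨x, hxt, hx⟩ := K250.GenFree.exists_genericPt (PicF.XTproj f T) t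
    obtain ⟨p, hp⟩ := K250.GenFree.exists_near (PicF.XTproj f T) hqT hFT hx (h x hx)
    obtain ⟨V, hV, hall⟩ := K250.GenFree.exists_open (PicF.XTproj f T) hp
    refine ⟨V, p, hxt ▸ hV, ?_, ?_⟩
    · rw [← K250.GenFree.fib_eq_of_near hqT hp]
      exact (K582.RankStrat.fib_pullback F _ hqc x).trans_le (hc _)
    · intro t'
      obtain ⟨j, hj, H, hje⟩ := hopen V
      obtain ⟨x', hxt', hx'⟩ := K250.GenFree.exists_genericPt
        (PicF.XTproj f (Over.mk (V.ι ≫ T.hom))) t'
      refine ⟨x', hxt', hx', ?_⟩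
      refine K250.GenFree.near_of_iso (etRestrict f F T V j hje)
        ((K250.GenFree.near_restrict_iff j _ p x').2 (hall (j x') ?_
          ((K250.GenFree.isGenericPt_iff_of_isPullback H x').1 hx')))
      rw [← Scheme.Hom.comp_apply, H.w, Scheme.Hom.comp_apply]
      exact (PicF.XTproj f (Over.mk (V.ι ≫ T.hom)) x').2
  · intro h x hx
    obtain ⟨V, p, htV, -, hV⟩ := h (PicF.XTproj f T x)
    obtain ⟨x', hxt', hx', hn⟩ := hV ⟨PicF.XTproj f T x, htV⟩
    obtain ⟨j, hj, H, hje⟩ := hopen V
    have hn' := (K250.GenFree.near_restrict_iff j _ p x').1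
      (K250.GenFree.near_of_iso (etRestrict f F T V j hje).symm hn)
    have hg := (K250.GenFree.isGenericPt_iff_of_isPullback H x').1 hx'
    have hqe : PicF.XTproj f T (j x') = PicF.XTproj f T x := by
      rw [← Scheme.Hom.comp_apply, H.w, Scheme.Hom.comp_apply]
      exact congrArg V.ι hxt'
    have e : j x' = x := ((hg x hqe.symm).antisymm (hx (j x') hqe)).eq
    rw [← e]
    exact K250.GenFree.isFlatOverAt_of_near (PicF.XTproj f T) hn'

end Groth.Agent.S9029
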