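import Groth.Statements.S9032
import Groth.Agent.FlatMor.K257.FlatHens

set_option autoImplicit false
universe u
open FlatMor

namespace Groth.Agent.S9032

open CategoryTheory CategoryTheory.Limits AlgebraicGeometry Opposite in
/-- Let A be a henselian local ring, s the closed point of S = Spec A, f : X → S a morphism locally of
finite type, F a quasi-coherent O_X-module of finite type and E a subset of the closed fibre X_s.
Then there is a closed subscheme Z = V(I) of S with the following property: for every morphism of
pointed schemes (T, t) → (S, s), the base change F_T on X_T = X ×_S T is T-flat at each point over t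
whose image in X lies in E if and only if Spec(O_{T,t}) → S factors through Z, that is, the map A →
O_{T,t} sends I to zero. Assume in addition that the morphism f is locally finitely presented, that
the module F is finitely presented, and that the subset E is both quasi-compact and closed; in that
case the closed immersion Z → S is finitely presented, meaning the ideal I is finitely generated. -/
theorem result {A : Type u} [CommRing A] [HenselianLocalRing A] {X : Scheme.{u}} (f : X ⟶ Spec (CommRingCat.of A))
    [LocallyOfFiniteType f] (F : X.Modules) [Coh.IsQCoh F] (hF : CohB1.IsFT F)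
    (E : Set X) (hE : ∀ x ∈ E, f.base x = IsLocalRing.closedPoint A) :
    ∃ I : Ideal A,
      (∀ (T : Scheme.{u}) (g : T ⟶ Spec (CommRingCat.of A)) (t : T), g.base t = IsLocalRing.closedPoint A →
        ((∀ x' : ↑(pullback f g), (pullback.snd f g).base x' = t → (pullback.fst f g).base x' ∈ E →
            FlatMod.IsFlatOverAt (pullback.snd f g) ((Scheme.Modules.pullback (pullback.fst f g)).obj F) x') ↔
          ∀ a ∈ I, (T.presheaf.germ ⊤ t trivial).hom
            (g.appTop.hom ((Scheme.ΓSpecIso (CommRingCat.of A)).inv.hom a)) = 0)) ∧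
      (LocallyOfFinitePresentation f → CohB1.IsFP F → IsClosed E → IsCompact E → I.FG) := by
  have hqc : Coh.IsQCoh F := inferInstance
  choose I hI hfg using fun (x : E) => K257.FlatHens.exists_ideal_point f F hqc hF x.1 (hE x.1 x.2)
  refine ⟨⨆ x : E, I x, ?_, ?_⟩
  · intro T g t ht
    constructor
    · intro H
      let κ : A →+* T.presheaf.stalk t := (T.presheaf.germ ⊤ t trivial).hom.comp
        (g.appTop.hom.comp (Scheme.ΓSpecIso (CommRingCat.of A)).inv.hom)
      have h1 : (⨆ x : E, I x) ≤ RingHom.ker κ := by
        refine iSup_le fun x a ha => ?_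
        exact (hI x T g t ht).1 (fun x' hx' hx'' => H x' hx' (hx'' ▸ x.2)) a ha
      exact fun a ha => h1 ha
    · intro H x' hx' hxE
      exact (hI ⟨_, hxE⟩ T g t ht).2 (fun a ha => H a (Submodule.mem_iSup_of_mem _ ha)) x' hx' rfl
  · intro hlfp hfp _ hEk
    by_cases htop : ∃ x : E, I x = ⊤
    · obtain ⟨x, hx⟩ := htop
      have h1 : (⨆ x : E, I x) = ⊤ := top_le_iff.1 (hx ▸ le_iSup I x)
      rw [h1]
      exact ⟨{1}, by simp⟩
    push Not at htop
    have key : ∀ x : E, ∃ U : X.Opens, x.1 ∈ U ∧ ∀ y : E, y.1 ∈ U → I y ≤ I x := fun x =>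
      K257.FlatHens.exists_open_le f F hqc hfp E hE I hI x (htop x)
    choose U hxU hU using key
    obtain ⟨s, hs⟩ := hEk.elim_finite_subcover (fun x : E => (U x : Set X)) (fun x => (U x).2)
      (fun x hx => Set.mem_iUnion.2 ⟨⟨x, hx⟩, hxU ⟨x, hx⟩⟩)
    have h2 : (⨆ x : E, I x) = ⨆ x ∈ s, I x := by
      apply le_antisymm
      · refine iSup_le fun y => ?_
        obtain ⟨x, hx⟩ := Set.mem_iUnion.1 (hs y.2)
        obtain ⟨hxs, hyx⟩ := Set.mem_iUnion.1 hx
        exact (hU x y hyx).trans (le_iSup₂_of_le x hxs le_rfl)
      · exact iSup₂_le fun x _ => le_iSup I x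
    rw [h2]
    exact Submodule.fg_biSup s I fun x _ => hfg x hlfp hfp

end Groth.Agent.S9032
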