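import Groth.Statements.S9038

set_option autoImplicit false
universe u
open Topology
open CohTop

namespace Groth.Agent.S9038

theorem exists_finset_cover {X : Type u} [TopologicalSpace X] {κ : Type u} {Y : κ → Type u}
    [∀ j, TopologicalSpace (Y j)] (g : ∀ j, Y j → X)
    (hcov' : ∀ (x : X), ∃ (t : Finset κ) (E : ∀ j, Set (Y j)),
      (∀ j ∈ t, IsCompact (E j)) ∧ (⋃ j ∈ t, g j '' E j) ∈ 𝓝 x)
    (K : Set X) (hK : IsCompact K) :
    ∃ (t : Finset κ) (E : ∀ j, Set (Y j)),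
      (∀ j ∈ t, IsCompact (E j)) ∧ K ⊆ (⋃ j ∈ t, g j '' E j) := by
  classical
  refine hK.induction_on (p := fun K => ∃ (t : Finset κ) (E : ∀ j, Set (Y j)),
      (∀ j ∈ t, IsCompact (E j)) ∧ K ⊆ (⋃ j ∈ t, g j '' E j)) ?_ ?_ ?_ ?_
  · exact ⟨∅, fun _ => ∅, by simp, by simp⟩
  · rintro s t hst ⟨t', E, hE, h⟩
    exact ⟨t', E, hE, hst.trans h⟩
  · rintro s t ⟨t₁, E₁, hE₁, h₁⟩ ⟨t₂, E₂, hE₂, h₂⟩
    refine ⟨t₁ ∪ t₂, fun j => (if j ∈ t₁ then E₁ j else ∅) ∪ (if j ∈ t₂ then E₂ j else ∅), ?_, ?_⟩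
    · intro j _
      refine IsCompact.union ?_ ?_
      · split_ifs with h
        · exact hE₁ j h
        · exact isCompact_empty
      · split_ifs with h
        · exact hE₂ j h
        · exact isCompact_empty
    · rintro x (hx | hx)
      · obtain ⟨j, hj, y, hy, rfl⟩ := by simpa using h₁ hx
        refine Set.mem_iUnion₂.2 ⟨j, Finset.mem_union_left _ hj, y, Or.inl ?_, rfl⟩
        simpa [hj] using hy
      · obtain ⟨j, hj, y, hy, rfl⟩ := by simpa using h₂ hx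
        refine Set.mem_iUnion₂.2 ⟨j, Finset.mem_union_right _ hj, y, Or.inr ?_, rfl⟩
        simpa [hj] using hy
  · intro x _
    obtain ⟨t, E, hE, h⟩ := hcov' x
    exact ⟨_, mem_nhdsWithin_of_mem_nhds h, t, E, hE, subset_rfl⟩

/-- In the category of Hausdorff locally quasi-compact spaces, call a family of continuous maps f_i :
X_i → X a qc covering when every point of X has a neighbourhood of the form ⋃_{i ∈ t} f_i(E_i) with
t a finite set of indices and E_i ⊆ X_i quasi-compact. If (f_i : X_i → X) is a qc covering and for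
each i the family (g_{ij} : X_{ij} → X_i)_j is a qc covering, then the family of composites X_{ij} →
X, indexed by the pairs (i, j), is a qc covering. -/
theorem result
    {B : Type u} [TopologicalSpace B] [T2Space B] [LocallyCompactSpace B]
    {ι : Type u} {X : ι → Type u} [∀ i, TopologicalSpace (X i)] [∀ i, T2Space (X i)]
    [∀ i, LocallyCompactSpace (X i)]
    (f : ∀ i, X i → B) (hf : ∀ i, Continuous (f i))
    (hcov : ∀ x : B, ∃ (t : Finset ι) (E : ∀ i, Set (X i)),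
      (∀ i ∈ t, IsCompact (E i)) ∧ (⋃ i ∈ t, f i '' E i) ∈ 𝓝 x)
    {κ : ι → Type u} {Y : ∀ i, κ i → Type u} [∀ i j, TopologicalSpace (Y i j)] [∀ i j, T2Space (Y i j)]
    [∀ i j, LocallyCompactSpace (Y i j)]
    (g : ∀ i j, Y i j → X i) (hg : ∀ i j, Continuous (g i j))
    (hcov' : ∀ (i : ι) (x : X i), ∃ (t : Finset (κ i)) (E : ∀ j, Set (Y i j)),
      (∀ j ∈ t, IsCompact (E j)) ∧ (⋃ j ∈ t, g i j '' E j) ∈ 𝓝 x) :
    ∀ x : B, ∃ (t : Finset (Σ i, κ i)) (E : ∀ p : (Σ i, κ i), Set (Y p.1 p.2)),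
      (∀ p ∈ t, IsCompact (E p)) ∧ (⋃ p ∈ t, f p.1 '' (g p.1 p.2 '' E p)) ∈ 𝓝 x := by
  classical
  intro x
  obtain ⟨t, E, hE, hx⟩ := hcov x
  have key : ∀ i, ∃ (s : Finset (κ i)) (F : ∀ j, Set (Y i j)),
      i ∈ t → (∀ j ∈ s, IsCompact (F j)) ∧ E i ⊆ (⋃ j ∈ s, g i j '' F j) := by
    intro i
    by_cases hi : i ∈ t
    · obtain ⟨s, F, h⟩ := exists_finset_cover (g i) (hcov' i) (E i) (hE i hi)
      exact ⟨s, F, fun _ => h⟩
    · exact ⟨∅, fun _ => ∅, fun h => absurd h hi⟩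
  choose s F hsF using key
  refine ⟨t.sigma s, fun p => F p.1 p.2, ?_, ?_⟩
  · rintro ⟨i, j⟩ hp
    rw [Finset.mem_sigma] at hp
    exact (hsF i hp.1).1 j hp.2
  · refine Filter.mem_of_superset hx ?_
    intro y hy
    obtain ⟨i, hi, z, hz, rfl⟩ := by simpa using hy
    obtain ⟨j, hj, w, hw, rfl⟩ := by simpa using (hsF i hi).2 hz
    exact Set.mem_iUnion₂.2 ⟨⟨i, j⟩, Finset.mem_sigma.2 ⟨hi, hj⟩, _, ⟨w, hw, rfl⟩, rfl⟩

end Groth.Agent.S9038
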