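import Groth.Statements.S9044
import Groth.Agent.ModSite.K293.WidePb

set_option autoImplicit false
universe u
open CategoryTheory CategoryTheory.Limits Opposite
open ModSite

namespace Groth.Agent.S9044

open Groth.Agent.CohtopB Groth.Agent.CohtopB.ModPush in
/-- Cech complexes of the inverse image of an injective sheaf of modules are exact in positive degrees. -/
theorem isZero_homology {C D : Type u} [SmallCategory C] [SmallCategory D]
    {J : GrothendieckTopology C} {K : GrothendieckTopology D} (u : D ⥤ C)
    [u.IsContinuous K J] (hfib : PreservesLimitsOfShape WalkingCospan (u.sheafPullback (Type u) K J))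
    (R : Sheaf J RingCat.{u}) (I : SheafOfModules.{u} R)
    [Injective I] {X' X : Sheaf K (Type u)} (f : X' ⟶ X)
    (n : ℕ) : IsZero ((CohCx.cechNerveCx ((CohSite.push J K u).obj ((SheafOfModules.toSheaf R).obj I)) f).homology
      (n + 1)) := by
  rw [NerveHK.isZero_homology_cechNerveCx_iff]
  have h1 : PreservesLimitsOfShape WalkingCospan (Γ (J := J) (K := K) u) :=
    comp_preservesLimitsOfShape _ _
  have h1' := fun n => K293.WidePb.preservesLimit_wideCospan (Γ (J := J) (K := K) u) (Arrow.mk f) n
  have h2 := exactAt_free R.obj (Arrow.mk f) (Γ (J := J) (K := K) u) n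
  have h3 := injective_under R I
  exact homExact_transfer (Arrow.mk f).cechNerve ((Γ (J := J) u) ⋙ PresheafOfModules.free R.obj)
    (NerveHK.ZSh K) (theta u R I) (fun g x => thetaEquiv_naturality u R I g x) n
    (CechCrit.homExact_of_injective _ _ n h2)

/-- Suppose the functor of sites u : C → D is both continuous and cocontinuous (sites with fibre
products; u sends coverings to coverings and commutes with fibre products), g the associated
morphism of topoi (g⁻¹ is precomposition with u, and g_! on sheaves of sets is the sheaf pullback
along u), O_D a sheaf of rings on D and I an injective O_D-module. If g_! commutes with fibre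
products then the abelian sheaf g⁻¹ I is totally acyclic. Stated for a sheaf of commutative rings
O_D. -/
theorem result
    {C : Type u} [SmallCategory C] [HasPullbacks C] (J : GrothendieckTopology C)
    {D : Type u} [SmallCategory D] [HasPullbacks D] (K : GrothendieckTopology D)
    (u : C ⥤ D) (hu : CoverPreserving J K u) [PreservesLimitsOfShape WalkingCospan u]
    [u.IsContinuous J K] [u.IsCocontinuous J K]
    (hfib : PreservesLimitsOfShape WalkingCospan (u.sheafPullback (Type u) J K))
    (O_D : Sheaf K CommRingCat.{u}) (I : ModSite.Mod O_D) (hI : Injective I) :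
    CohCx.IsTotallyAcyclic ((u.sheafPushforwardContinuous AddCommGrpCat.{u} J K).obj (ModSite.toAb I)) := by
  intro L p
  exact Groth.Agent.CohtopB.NerveHK.subsingleton_HK_of_cech J (fun _ => True) (fun _ _ f => Epi f)
    (fun _ _ _ h => h) (fun _ _ _ _ _ _ => trivial)
    (fun L _ {M N} g _ b => Groth.Agent.CohtopB.EpiSheaf.exists_cover_lift J g b) _
    (fun L' L f _ _ n => isZero_homology u hfib (ModSite.ringSh O_D) I f n) L trivial p

end Groth.Agent.S9044
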