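import Groth.Statements.S9048
import Groth.Agent.CohtopA.ModExt
import Groth.Agent.SiteCmp.K578.Der
import Mathlib.Algebra.Category.Grp.Adjunctions
import Mathlib.CategoryTheory.Abelian.GrothendieckCategory.EnoughInjectives

set_option autoImplicit false
universe u
open CategoryTheory CategoryTheory.Limits Opposite
open ModSite

namespace Groth.Agent.S9048

section

variable {C : Type u} [SmallCategory C] {J : GrothendieckTopology C} (O : Sheaf J CommRingCat.{u})

/-- The free module on a presheaf of sets, sheafified: left adjoint of the underlying presheaf of sets. -/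
noncomputable def adj1 :
    PresheafOfModules.free (ringSh O).obj ⋙ ModSite.sheafify O ⊣
      (SheafOfModules.forget (ringSh O) ⋙ PresheafOfModules.restrictScalars (𝟙 (ringSh O).obj)) ⋙
        PresheafOfModules.toPresheaf (ringSh O).obj ⋙
          (Functor.whiskeringRight _ _ _).obj (forget Ab) :=
  (PresheafOfModules.freeAdjunction (ringSh O).obj).comp
    (PresheafOfModules.sheafificationAdjunction (𝟙 (ringSh O).obj))

variable (J) in
/-- The free abelian sheaf on a presheaf of sets. -/
noncomputable def adj2 :
    (Functor.whiskeringRight Cᵒᵖ _ _).obj AddCommGrpCat.free.{u} ⋙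
        presheafToSheaf J AddCommGrpCat.{u} ⊣
      sheafToPresheaf J AddCommGrpCat.{u} ⋙ (Functor.whiskeringRight _ _ _).obj (forget Ab) :=
  (AddCommGrpCat.adj.whiskerRight _).comp (sheafificationAdjunction J AddCommGrpCat.{u})

/-- The underlying presheaf of sets of a module. -/
noncomputable abbrev und (M : ModSite.Mod O) : Cᵒᵖ ⥤ Type u :=
  (sheafToPresheaf J AddCommGrpCat.{u} ⋙ (Functor.whiskeringRight _ _ _).obj (forget Ab)).obj
    ((SheafOfModules.toSheaf (ringSh O)).obj M)

/-- The underlying map of presheaves of sets. -/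
noncomputable abbrev undMap {M N : ModSite.Mod O} (g : M ⟶ N) : und O M ⟶ und O N :=
  (sheafToPresheaf J AddCommGrpCat.{u} ⋙ (Functor.whiskeringRight _ _ _).obj (forget Ab)).map
    ((SheafOfModules.toSheaf (ringSh O)).map g)

/-- Maps out of the free module. -/
noncomputable def e1 (K : Cᵒᵖ ⥤ Type u) (M : ModSite.Mod O) :
    ((ModSite.sheafify O).obj ((PresheafOfModules.free (ModSite.ringSh O).obj).obj K) ⟶ M) ≃
      (K ⟶ und O M) :=
  (adj1 O).homEquiv K M

theorem e1_naturality (K : Cᵒᵖ ⥤ Type u) {M N : ModSite.Mod O}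
    (f : (ModSite.sheafify O).obj ((PresheafOfModules.free (ModSite.ringSh O).obj).obj K) ⟶ M)
    (g : M ⟶ N) : e1 O K N (f ≫ g) = e1 O K M f ≫ undMap O g :=
  (adj1 O).homEquiv_naturality_right f g

/-- Maps out of the free module and out of the free abelian sheaf. -/
noncomputable def e (K : Cᵒᵖ ⥤ Type u) (M : ModSite.Mod O) :
    ((ModSite.sheafify O).obj ((PresheafOfModules.free (ModSite.ringSh O).obj).obj K) ⟶ M) ≃
      ((presheafToSheaf J AddCommGrpCat.{u}).obj (K ⋙ AddCommGrpCat.free.{u}) ⟶
        (SheafOfModules.toSheaf (ringSh O)).obj M) :=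
  (e1 O K M).trans ((adj2 J).homEquiv K ((SheafOfModules.toSheaf (ringSh O)).obj M)).symm

theorem e_naturality (K : Cᵒᵖ ⥤ Type u) {M N : ModSite.Mod O}
    (f : (ModSite.sheafify O).obj ((PresheafOfModules.free (ModSite.ringSh O).obj).obj K) ⟶ M)
    (g : M ⟶ N) :
    e O K N (f ≫ g) = e O K M f ≫ (SheafOfModules.toSheaf (ringSh O)).map g := by
  dsimp only [e, Equiv.trans_apply]
  rw [e1_naturality]
  exact (adj2 J).homEquiv_naturality_right_symm _ _

theorem bij (K : Cᵒᵖ ⥤ Type u) (M : ModSite.Mod O) :
    Function.Bijective (fun (f : (ModSite.sheafify O).obj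
      ((PresheafOfModules.free (ModSite.ringSh O).obj).obj K) ⟶ M) =>
        e O K _ (𝟙 _) ≫ (SheafOfModules.toSheaf (ringSh O)).map f) := by
  have : (fun (f : (ModSite.sheafify O).obj
      ((PresheafOfModules.free (ModSite.ringSh O).obj).obj K) ⟶ M) =>
        e O K _ (𝟙 _) ≫ (SheafOfModules.toSheaf (ringSh O)).map f) = e O K M := by
    funext f
    rw [← e_naturality, Category.id_comp]
  rw [this]
  exact (e O K M).bijective

end

/-- On a ringed site (C, O), for a sheaf of sets K and an O-module F with underlying abelian sheaf F_ab,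
the cohomology groups H^p(K, F) computed on Mod(O) — the derived functors of F ↦ Mor(K, F), i.e. the
Ext groups out of the free O-module O[K] on K — agree with H^p(K, F_ab) computed on abelian sheaves.
Stated as the existence of a group isomorphism; the Ext groups of Mod(O) are an instance hypothesis. -/
theorem result
    {C : Type u} [SmallCategory C] {J : GrothendieckTopology C} (O : Sheaf J CommRingCat.{u})
    [HasExt.{u} (ModSite.Mod O)] (K : Sheaf J (Type u)) (F : ModSite.Mod O) (p : ℕ) :
    Nonempty (Abelian.Ext ((ModSite.sheafify O).obj ((PresheafOfModules.free (ModSite.ringSh O).obj).obj K.obj)) F p ≃+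
      CohCx.HK K (ModSite.toAb F) p) := by
  have := K578.Der.enoughInjectives O
  have := CohtopA.ModExt.toSheaf_preservesFiniteColimits (ringSh O)
  exact ⟨CohtopA.ExtAdj.extOfHomEquiv (SheafOfModules.toSheaf (ringSh O)) (e O K.obj _ (𝟙 _))
    (bij O K.obj)
    (fun I _ n => subsingleton_of_forall_eq 0
      (fun x => CohtopA.ModExt.ext_toSheaf_eq_zero (R := ringSh O) I n
        (CohtopA.TFree.tf_free J _) x)) F p⟩

end Groth.Agent.S9048
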