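import Groth.Statements.S9063
import Groth.Agent.SiteCmp.K578.TorsDer
import Groth.Agent.SiteCmp.K578.TorsSh
import Groth.Agent.SiteCmp.K578.TorsInj
import Groth.Agent.S0476
import Groth.Prelude.Def_CohSite

set_option autoImplicit false
universe u
open CategoryTheory CategoryTheory.Limits Opposite
attribute [local instance] HasDerivedCategory.standard
open SiteCmp

namespace Groth.Agent.S9063

/-- Let C be a site and A ⊂ Ab(C) the Serre subcategory of torsion abelian sheaves. Then the functor
from D(A) to D_A(C) gives an equivalence: the canonical functor D(A) → D(Ab(C)) induced by the exact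
inclusion is fully faithful, and a complex lies in its essential image exactly when every cohomology
sheaf of it is torsion. That torsion abelian sheaves form a Serre subcategory is carried as an
instance hypothesis. -/
theorem result
    {C : Type u} [SmallCategory C] (J : GrothendieckTopology C)
    [(SiteCmp.torsionSh J).IsSerreClass] :
    (WSerre.toDerived (SiteCmp.torsionSh J)).Full ∧ (WSerre.toDerived (SiteCmp.torsionSh J)).Faithful ∧
      ∀ K : DerivedCategory (Sheaf J AddCommGrpCat.{u}),
        WSerre.cohIn (SiteCmp.torsionSh J) K ↔ (WSerre.toDerived (SiteCmp.torsionSh J)).essImage K := by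
  have hG : IsGrothendieckAbelian.{u} (Sheaf J AddCommGrpCat.{u}) :=
    Sheaf.isGrothendieckAbelian_of_essentiallySmall _ _
  have hL : (SiteCmp.torsionSh J).ι.IsLeftAdjoint := K578.TorsSh.exists_rightAdjoint
  let adj := Adjunction.ofIsLeftAdjoint (SiteCmp.torsionSh J).ι
  have hR : (SiteCmp.torsionSh J).ι.rightAdjoint.Additive := adj.right_adjoint_additive
  have hres : ∀ M : CochainComplex (Sheaf J AddCommGrpCat.{u}) ℤ, ∃ (I : CochainComplex _ ℤ) (f : M ⟶ I),
      I.IsKInjective ∧ QuasiIso f ∧ ∀ n, Injective (I.X n) := by
    intro M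
    obtain ⟨I, f, h1, h2, -, h4⟩ := Groth.Agent.S0476.result M
    exact ⟨I, f, h1, h2, h4⟩
  refine K578.TorsDer.main (SiteCmp.torsionSh J) adj (fun K => ?_) hres K578.TorsSh.torsion_of_nsmul
    K578.TorsInj.epi_nsmul K578.TorsInj.isZero_of_torsion
  obtain ⟨I, f, h1, h2, -⟩ := hres K
  exact ⟨I, f, h1, h2⟩

end Groth.Agent.S9063
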