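import Groth.Statements.S9104
import Groth.Agent.ModSite.K295.InvRing

set_option autoImplicit false
universe u
open CategoryTheory
open ModSite

namespace Groth.Agent.S9104

/-- Part (1): for a morphism of ringed sites f : (C, O_C) → (D, O_D) between small sites with
commutative structure sheaves (only the underlying morphism of topoi is used): if (D, O_D) is a
locally ringed site then C equipped with the pulled-back sheaf of rings f⁻¹O_D is a locally ringed
site. -/
theorem result {C D : Type u} [SmallCategory C] [SmallCategory D] {J : GrothendieckTopology C}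
    {K : GrothendieckTopology D} {O_C : Sheaf J CommRingCat.{u}} {O_D : Sheaf K CommRingCat.{u}}
    (f : ModSite.RMor O_C O_D) (hD : ModSite.IsLocallyRinged K O_D) : ModSite.IsLocallyRinged J f.invRing := by
  open K780.CovFlat K295.CommaSite K295.InvRing Opposite in
  refine ⟨fun U t => ?_, fun U h01 => ?_⟩
  · refine (exists_iv t).bind ?_
    rintro U' h ⟨V, c, s, hs⟩
    obtain ⟨S, hS, H⟩ := hD.1 V s
    refine (loc_of_mem c hS).mono ?_
    rintro U'' h' ⟨V', c', g, w, hg⟩
    have e : f.invRing.obj.map (h' ≫ h).op t = iv f c' (O_D.obj.map g.op s) := by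
      rw [← iv_res c c' h' g w, ← hs, op_comp, Functor.map_comp]
      rfl
    rcases H g hg with H | H
    · left
      have := H.map (iv f c')
      change IsUnit (f.invRing.obj.map (h' ≫ h).op t)
      rw [e]
      exact this
    · right
      have := H.map (iv f c')
      change IsUnit (f.invRing.obj.map (h' ≫ h).op (1 - t))
      rw [map_sub, map_one, e, ← map_one (iv f c'), ← map_sub]
      convert this using 2
      exact ((O_D.obj.map g.op).hom.map_sub 1 s).trans (by rw [map_one]) |>.symm
  · have h : Loc J U (fun _ _ => False) := by
      refine (Fact.out (p := IsCF f.fn J)).term U |>.bind ?_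
      rintro U' h ⟨V, ⟨c⟩⟩
      have e : iv f c 0 = iv f c 1 := by
        rw [map_zero, map_one]
        have := congrArg (f.invRing.obj.map h.op).hom h01
        rwa [map_zero, map_one] at this
      refine (eq_iv c 0 1 e).bind ?_
      rintro U'' h' ⟨V', c', g, w, hg⟩
      have hg' : (0 : O_D.obj.obj (op V')) = 1 := by
        have h1 := (O_D.obj.map g.op).hom.map_zero
        have h2 := (O_D.obj.map g.op).hom.map_one
        exact h1.symm.trans (hg.trans h2)
      refine (loc_of_mem c' (hD.2 V' hg')).mono ?_
      rintro U3 h3 ⟨V3, c3, g3, w3, hg3⟩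
      exact hg3
    obtain ⟨S, hS, H⟩ := h
    refine J.superset_covering ?_ hS
    intro U' h hh
    exact (H h hh).elim

end Groth.Agent.S9104
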