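import Groth.Statements.S9109
import Groth.Agent.CohSite.K298.ExactSh

set_option autoImplicit false
universe u
open CategoryTheory CategoryTheory.Limits
open CohSite

namespace Groth.Agent.S9109

/-- Part (1): on a small site (C, J) with a point p: the skyscraper functor p_* from abelian groups to
abelian sheaves on C (right adjoint to the stalk functor at p; its value on A is the sheaf U ↦ ∏_{x
∈ p⁻¹U} A) is exact. As a right adjoint it preserves limits; the statement here is that it also
preserves finite colimits. -/
theorem result {C : Type u} [SmallCategory C] {J : GrothendieckTopology C}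
    (p : GrothendieckTopology.Point.{u} J) :
    PreservesFiniteColimits (p.skyscraperSheafFunctor (A := AddCommGrpCat.{u})) := by
  let F := p.skyscraperSheafFunctor (A := AddCommGrpCat.{u})
  have : PreservesLimitsOfSize.{0, 0} F := (p.skyscraperSheafAdjunction (A := AddCommGrpCat.{u})).rightAdjoint_preservesLimits
  have : PreservesFiniteLimits F := PreservesLimitsOfSize.preservesFiniteLimits _
  have : F.Additive := Functor.additive_of_preserves_binary_products _
  have : F.PreservesEpimorphisms := ⟨by
    intro M N f hf
    apply K298.ExactSh.epi_of_locallySurjective_app
    intro U
    have h1 : Epi ((F.map f).hom.app (Opposite.op U)) := by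
      let α : (Discrete.functor fun _ : p.fiber.obj U => M) ⟶ (Discrete.functor fun _ : p.fiber.obj U => N) :=
        Discrete.natTrans (fun _ => f)
      have h2 : ∀ x, Epi (α.app x) := fun x => hf
      have h3 : Epi α := NatTrans.epi_of_epi_app α
      have h4 : HasExactLimitsOfShape (Discrete (p.fiber.obj U)) AddCommGrpCat.{u} := inferInstance
      have h5 := h4.preservesFiniteColimits
      exact inferInstanceAs (Epi (lim.map α))
    exact (AddCommGrpCat.epi_iff_surjective _).1 h1⟩
  exact K298.ExactSh.preservesFiniteColimits_of_epi F

end Groth.Agent.S9109
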