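import Groth.Statements.S9111
import Groth.Agent.ModSite.K295.FlatCov

set_option autoImplicit false
universe u
open CategoryTheory CategoryTheory.Limits
open ModSite

namespace Groth.Agent.S9111

/-- Let C be a small category and O a presheaf of commutative rings on C. If 0 → F'' → F' → F → 0 is a
short exact sequence of presheaves of O-modules whose right-hand term F is flat (the sectionwise
tensor product functor - ⊗_{p,O} F is exact), then for every presheaf of O-modules G the tensored
sequence 0 → F'' ⊗_{p,O} G → F' ⊗_{p,O} G → F ⊗_{p,O} G → 0 is short exact. The instance binder (the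
functor - ⊗_{p,O} G preserves zero morphisms) always holds and is only needed to form the complex. -/
theorem result {C : Type u} [SmallCategory C] (O : Cᵒᵖ ⥤ CommRingCat.{u})
    (S : ShortComplex (PresheafOfModules.{u} (O ⋙ forget₂ CommRingCat.{u} RingCat.{u}))) (hS : S.ShortExact)
    (hF : PreservesFiniteLimits (MonoidalCategory.tensorRight S.X₃) ∧ PreservesFiniteColimits (MonoidalCategory.tensorRight S.X₃))
    (G : PresheafOfModules.{u} (O ⋙ forget₂ CommRingCat.{u} RingCat.{u})) [(MonoidalCategory.tensorRight G).PreservesZeroMorphisms] :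
    (S.map (MonoidalCategory.tensorRight G)).ShortExact := by
  have h1 := hF.1
  have h3 : ∀ ⦃X Y : Groth.Agent.Dcoh.MonW.PM O⦄ (f : X ⟶ Y), Mono f →
      Mono (MonoidalCategory.whiskerLeft S.X₃ f) :=
    (K295.AbsFlat.flat_iff_left S.X₃).1 (fun X Y f hf =>
      inferInstanceAs (Mono ((MonoidalCategory.tensorRight S.X₃).map f)))
  have h4 := K295.PTens.preservesFiniteLimits_tensorRight (K295.FlatCov.freeP G)
    (K295.FlatCov.flat_freeP G)
  have hP : K295.AbsFlat.Flat (K295.FlatCov.freeP G) := fun X Y f hf =>
    inferInstanceAs (Mono ((MonoidalCategory.tensorRight (K295.FlatCov.freeP G)).map f))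
  exact K295.AbsFlat.shortExact_whiskerRight S hS h3 G (K295.FlatCov.freePπ G) hP
    ((S.map (MonoidalCategory.tensorRight G)).zero)

end Groth.Agent.S9111
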