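import Groth.Statements.S9113
import Groth.Agent.ModSite.K295.ShriekStalk

set_option autoImplicit false
universe u
open CategoryTheory
open ModSite

namespace Groth.Agent.S9113

open CategoryTheory.Limits in
/-- On a small ringed site (C, O) with O commutative: let U be an object, G an O_U-module on the
localised site C/U and p a point of the site. The points of C/U lying over p correspond to the
elements x of the fibre of p at U, and the stalk of the extension by zero j_{U!}G at p is isomorphic
to the direct sum over these points of the stalks of G. Stated for the underlying abelian groups,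
existence of an isomorphism only. -/
theorem result {C : Type u} [SmallCategory C] {J : GrothendieckTopology C}
    (O : Sheaf J CommRingCat.{u}) (U : C) (G : ModSite.Mod (O.over U))
    (p : GrothendieckTopology.Point.{u} J) :
    Nonempty (ModSite.stalkAb p ((ModSite.extZero O U).obj G) ≅ ∐ fun x : p.fiber.obj U => ModSite.stalkAb (p.over x) G) := by
  let T : ModSite.Mod O ⥤ AddCommGrpCat.{u} :=
    SheafOfModules.toSheaf (ModSite.ringSh O) ⋙ p.sheafFiber (A := AddCommGrpCat.{u})
  let M : PresheafOfModules.{u} (Sga4A.ModShriek.rover (ModSite.ringSh O).obj U) := G.val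
  let e1 : T.obj ((ModSite.extZero O U).obj G) ≅ T.obj ((S3087.model J U (ModSite.ringSh O)).obj G) :=
    T.mapIso ((S3087.isoModel (J := J) (X := U) (A := ModSite.ringSh O) (ModSite.extZeroAdj O U)).app G)
  let e2 : T.obj ((S3087.model J U (ModSite.ringSh O)).obj G) ≅
      p.presheafFiber.obj (Sga4A.ModShriek.shAb M) :=
    (p.presheafToSheafCompSheafFiberIso AddCommGrpCat.{u}).app (Sga4A.ModShriek.shAb M)
  exact ⟨e1 ≪≫ e2 ≪≫ K295.ShriekStalk.iso p M⟩

end Groth.Agent.S9113
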