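import Groth.Statements.S9119
import Groth.Agent.CohSite.K298.ConstSec
import Mathlib.RingTheory.Flat.Tensor

set_option autoImplicit false
universe u
open CategoryTheory Opposite
open CohSite

namespace Groth.Agent.S9119

/-- Let Λ be a coherent commutative ring, i.e. every finitely generated ideal of Λ is finitely presented
as a Λ-module, and let M be a flat Λ-module. Then for every object U the Λ-module M̲(U) of sections
over U of the constant sheaf on M is flat. -/
theorem result {C : Type u} [SmallCategory C] (J : GrothendieckTopology C)
    (Λ : Type u) [CommRing Λ] (hΛ : ∀ I : Ideal Λ, I.FG → Module.FinitePresentation Λ I)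
    (M : Type u) [AddCommGroup M] [Module Λ M] [Module.Flat Λ M] (U : C) :
    Module.Flat Λ (((constantSheaf J (ModuleCat.{u} Λ)).obj (ModuleCat.of Λ M)).obj.obj (op U)) := by
  let G := K298.ConstSec.Γ J U (ModuleCat.{u} Λ)
  change Module.Flat Λ (G.obj (ModuleCat.of Λ M))
  rw [Module.Flat.iff_lTensor_injective]
  intro I hI
  have := hΛ I hI
  have h1 : Function.Injective (I.subtype.lTensor M) := Module.Flat.lTensor_preserves_injective_linearMap _
    I.injective_subtype
  have h2 : Mono (ModuleCat.ofHom (I.subtype.lTensor M)) := (ModuleCat.mono_iff_injective _).2 h1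
  have h3 : Mono (G.map (ModuleCat.ofHom (I.subtype.lTensor M))) := inferInstance
  have h4 : Function.Injective (G.map (ModuleCat.ofHom (I.subtype.lTensor M))).hom :=
    (ModuleCat.mono_iff_injective _).1 h3
  rw [injective_iff_map_eq_zero]
  intro x hx
  apply (injective_iff_map_eq_zero _).1 (K298.ConstSec.comp_bijective Λ G M I).1
  apply (injective_iff_map_eq_zero _).1 h4
  rw [← K298.ConstSec.comp_naturality, hx, map_zero]

end Groth.Agent.S9119
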