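import Groth.Statements.S9121
import Groth.Agent.CohSite.K298.ExactSh
import Groth.Agent.CohSite.K298.PullForget

set_option autoImplicit false
universe u
open CategoryTheory CategoryTheory.Limits
open CohSite

namespace Groth.Agent.S9121

/-- Part (1): for the morphism of topoi f : Sh(C) → Sh(D) attached to a continuous functor u : D ⥤ C
between small sites whose induced pullback of sheaves of sets is exact (f_* is restriction along u):
if f_* transforms epimorphisms of sheaves of sets into epimorphisms, then f_* on abelian sheaves is
exact; being a right adjoint it preserves finite limits, and the statement is that it also preserves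
finite colimits. -/
theorem result {C D : Type u} [SmallCategory C] [SmallCategory D]
    (J : GrothendieckTopology C) (K : GrothendieckTopology D) (u : D ⥤ C) [u.IsContinuous K J]
    [PreservesFiniteLimits (u.sheafPullback (Type u) K J)]
    [(u.sheafPushforwardContinuous (Type u) K J).PreservesEpimorphisms] :
    PreservesFiniteColimits (u.sheafPushforwardContinuous AddCommGrpCat.{u} K J) := by
  let P := u.sheafPushforwardContinuous AddCommGrpCat.{u} K J
  have h0 : PreservesFiniteLimits P := K298.PullForget.preservesFiniteLimits_push u K J AddCommGrpCat.{u}
  have : P.Additive := ⟨fun {X Y f g} => rfl⟩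
  have : P.PreservesEpimorphisms := ⟨by
    intro F G φ hφ
    have h1 : Sheaf.IsLocallySurjective φ := (Sheaf.isLocallySurjective_iff_epi' AddCommGrpCat.{u} φ).2 hφ
    have h2 : Epi ((sheafCompose J (forget AddCommGrpCat.{u})).map φ) := inferInstance
    have h3 : Epi ((u.sheafPushforwardContinuous (Type u) K J).map
      ((sheafCompose J (forget AddCommGrpCat.{u})).map φ)) := inferInstance
    have h4 : Epi ((sheafCompose K (forget AddCommGrpCat.{u})).map (P.map φ)) := h3
    exact (sheafCompose K (forget AddCommGrpCat.{u})).epi_of_epi_map h4⟩
  exact K298.ExactSh.preservesFiniteColimits_of_epi P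

end Groth.Agent.S9121
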