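import Groth.Statements.S9127
import Groth.Agent.CAlg.K68.Cat

set_option autoImplicit false
universe u
open CAlg

namespace Groth.Agent.S9127

/-- A Noetherian ring is catenary if and only if its quotient by every minimal prime is catenary. -/
theorem result (R : Type u) [CommRing R] [IsNoetherianRing R] :
    CAlg.IsCatenary R ↔ ∀ p ∈ minimalPrimes R, CAlg.IsCatenary (R ⧸ p) := by
  exact K68.Cat.isCatenary_iff_forall_quotient_minimalPrimes R

end Groth.Agent.S9127
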