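import Groth.Statements.S9129
import Groth.Agent.Flat2D.CMFlatArt
import Groth.Agent.Ega41.DimFlat
import Groth.Agent.CAlg.K68.Dim

set_option autoImplicit false
universe u
open CAlg

namespace Groth.Agent.S9129

/-- Suppose R → S is a flat local homomorphism between Noetherian local rings, with R Cohen–Macaulay.
Assume either that S is finite over R or that the Krull dimension of S is at most that of R. Then
the two rings have equal dimension and S is itself Cohen–Macaulay. -/
theorem result (R S : Type u) [CommRing R] [CommRing S]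
    [LocCoh.IsCohenMacaulayLocalRing R] [IsNoetherianRing S] [IsLocalRing S] [Algebra R S]
    [IsLocalHom (algebraMap R S)] [Module.Flat R S]
    (h : Module.Finite R S ∨ ringKrullDim S ≤ ringKrullDim R) :
    LocCoh.IsCohenMacaulayLocalRing S ∧ ringKrullDim R = ringKrullDim S := by
  have hne : (IsLocalRing.maximalIdeal R).map (algebraMap R S) ≠ ⊤ :=
    (IsLocalRing.map_maximalIdeal_lt_top (algebraMap R S)).ne
  have hnt : Nontrivial (S ⧸ (IsLocalRing.maximalIdeal R).map (algebraMap R S)) :=
    Ideal.Quotient.nontrivial_iff.mpr hne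
  have hloc : IsLocalRing (S ⧸ (IsLocalRing.maximalIdeal R).map (algebraMap R S)) :=
    IsLocalRing.of_surjective' (Ideal.Quotient.mk _) Ideal.Quotient.mk_surjective
  have hadd := Groth.Agent.Ega41.DimFlat.ringKrullDim_eq_add_of_flat (A := R) (B := S)
  have h0 : ringKrullDim (S ⧸ (IsLocalRing.maximalIdeal R).map (algebraMap R S)) = 0 := by
    rcases h with h | h
    · let : Field (R ⧸ IsLocalRing.maximalIdeal R) := Ideal.Quotient.field _
      have : Module.Finite (R ⧸ IsLocalRing.maximalIdeal R)
          (S ⧸ (IsLocalRing.maximalIdeal R).map (algebraMap R S)) :=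
        Module.Finite.of_restrictScalars_finite R _ _
      have : IsArtinianRing (S ⧸ (IsLocalRing.maximalIdeal R).map (algebraMap R S)) :=
        isArtinian_of_tower (R ⧸ IsLocalRing.maximalIdeal R) inferInstance
      exact ringKrullDimZero_iff_ringKrullDim_eq_zero.1 inferInstance
    · rw [hadd] at h
      obtain ⟨a, ha⟩ := K68.Dim.exists_nat R
      obtain ⟨b, hb⟩ := K68.Dim.exists_nat (S ⧸ (IsLocalRing.maximalIdeal R).map (algebraMap R S))
      rw [ha, hb] at h
      rw [hb]
      have h1 : a + b ≤ a := by exact_mod_cast h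
      have h2 : b = 0 := by omega
      rw [h2]
      rfl
  have hart : IsArtinianRing (S ⧸ (IsLocalRing.maximalIdeal R).map (algebraMap R S)) :=
    isArtinianRing_iff_isNoetherianRing_krullDimLE_zero.2 ⟨inferInstance,
      ringKrullDimZero_iff_ringKrullDim_eq_zero.2 h0⟩
  refine ⟨Groth.Agent.Flat2D.CMFlatArt.isCM_of_flat_of_isArtinian_fibre R S, ?_⟩
  rw [hadd, h0, add_zero]

end Groth.Agent.S9129
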