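import Groth.Statements.S9135
import Groth.Agent.Smoothlim.GenFin

set_option autoImplicit false
universe u
open CAlg

namespace Groth.Agent.S9135

/-- Let R → S be of finite type and p a minimal prime of R over which only finitely many primes of S
lie. Then for some g ∈ R outside p the localized map R_g → S_g is finite. -/
theorem result (R S : Type u) [CommRing R] [CommRing S]
    [Algebra R S] [Algebra.FiniteType R S] (p : Ideal R) (hp : p ∈ minimalPrimes R)
    (hfin : (p.primesOver S).Finite) :
    ∃ g : R, g ∉ p ∧ (Localization.awayMap (algebraMap R S) g).Finite := by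
  have hpp : p.IsPrime := Ideal.minimalPrimes_isPrime hp
  have hfin' : (PrimeSpectrum.comap (algebraMap R S) ⁻¹' {⟨p, hpp⟩}).Finite := by
    refine Set.Finite.of_finite_image (f := PrimeSpectrum.asIdeal) (hfin.subset ?_)
      (fun _ _ _ _ h => PrimeSpectrum.ext h)
    rintro _ ⟨q, hq, rfl⟩
    exact ⟨q.2, ⟨(congrArg PrimeSpectrum.asIdeal hq).symm⟩⟩
  obtain ⟨g, hg, h⟩ := Groth.Agent.Smoothlim.GenFin.exists_almostIntegral_eq_top p hp hfin'
  exact ⟨g, hg, Groth.Agent.Smoothlim.GenFin.finite_awayMap_of_almostIntegral h⟩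

end Groth.Agent.S9135
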