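import Groth.Statements.S9136
import Groth.Agent.CAlg.K68.OrdDegree
import Groth.Agent.CycB.OrdNorm

set_option autoImplicit false
universe u
open CAlg

namespace Groth.Agent.S9136

section
variable (A B K L : Type u)
    [CommRing A] [IsDomain A] [IsNoetherianRing A] 
    [CommRing B] [IsDomain B] [Algebra A B] [FaithfulSMul A B] 
    [Field K] [Field L] [Algebra A K] [IsFractionRing A K] [Algebra B L] [IsFractionRing B L]
    [Algebra K L] [Algebra A L] [IsScalarTower A K L] [IsScalarTower A B L] [FiniteDimensional K L]

include K L

theorem isAlgebraic : Algebra.IsAlgebraic A B := by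
  have h1 : Algebra.IsAlgebraic K L := inferInstance
  have h2 : Algebra.IsAlgebraic A L := (IsFractionRing.comap_isAlgebraic_iff (A := A) (K := K) (C := L)).mpr h1
  constructor
  intro b
  exact (isAlgebraic_algebraMap_iff (IsFractionRing.injective B L)).mp (h2.isAlgebraic (algebraMap B L b))

theorem finite_maximalSpectrum [IsLocalRing A] (hdim : ringKrullDim A = 1) :
    Finite (MaximalSpectrum B) := by
  have hk1 : Ring.KrullDimLE 1 A := K68.KAk.krullDimLE_one hdim.le
  have halg := isAlgebraic A B K L
  have h := (K68.KAk.primesOver_maximal A B K L hdim).2.1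
  have hfin : ((IsLocalRing.maximalIdeal A).primesOver B ∪ {⊥}).Finite := h.union (Set.finite_singleton _)
  have := hfin.to_subtype
  refine Finite.of_injective (β := ↥((IsLocalRing.maximalIdeal A).primesOver B ∪ {(⊥ : Ideal B)}))
    (fun m => ⟨m.asIdeal, ?_⟩) ?_
  · by_cases hm : m.asIdeal = ⊥
    · right; exact hm
    · left
      have hm' := m.isMaximal.isPrime
      obtain ⟨y, hy, hy0⟩ := Submodule.exists_mem_ne_zero_of_ne_bot hm
      have h1 : m.asIdeal.comap (algebraMap A B) ≠ ⊥ :=
        Ideal.comap_ne_bot_of_algebraic_mem hy0 hy (halg.isAlgebraic y)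
      have h2 : (m.asIdeal.comap (algebraMap A B)).IsMaximal :=
        Ideal.IsPrime.isMaximal_of_ne_bot (Ideal.IsPrime.comap _) h1
      exact ⟨hm', ⟨(IsLocalRing.eq_maximalIdeal h2).symm⟩⟩
  · intro m m' hm
    exact MaximalSpectrum.ext (congrArg Subtype.val hm)

theorem exists_free : ∃ f : (Fin (Module.finrank K L) → A) →ₗ[A] B, Function.Injective f ∧
    ∀ y : B, ∃ s : A, s ≠ 0 ∧ s • y ∈ LinearMap.range f := by
  let b := Module.finBasis K L
  obtain ⟨d, hd⟩ := IsLocalization.exist_integer_multiples_of_finite (nonZeroDivisors B)
    (fun i => b i)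
  choose c hc using hd
  have hd0 : algebraMap B L d ≠ 0 := by
    rw [Ne, IsFractionRing.to_map_eq_zero_iff]
    exact nonZeroDivisors.coe_ne_zero d
  have hinj : Function.Injective (algebraMap B L) := IsFractionRing.injective B L
  let f : (Fin (Module.finrank K L) → A) →ₗ[A] B := Fintype.linearCombination A c
  have hf : ∀ a : Fin (Module.finrank K L) → A,
      algebraMap B L (f a) = algebraMap B L d * ∑ i, (algebraMap A K (a i)) • b i := by
    intro a
    simp only [f, Fintype.linearCombination_apply, map_sum, Algebra.smul_def, map_mul, hc,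
      Finset.mul_sum]
    refine Finset.sum_congr rfl fun i _ => ?_
    rw [← IsScalarTower.algebraMap_apply A B L, IsScalarTower.algebraMap_apply A K L]
    ring
  refine ⟨f, ?_, ?_⟩
  · rw [injective_iff_map_eq_zero]
    intro a ha
    have h1 := hf a
    rw [ha, map_zero, eq_comm, mul_eq_zero] at h1
    have h2 := Fintype.linearIndependent_iff.mp b.linearIndependent _ (h1.resolve_left hd0)
    ext i
    exact (IsFractionRing.to_map_eq_zero_iff (K := K)).mp (h2 i)
  · intro y
    set z : L := (algebraMap B L d)⁻¹ * algebraMap B L y with hz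
    obtain ⟨s, hs⟩ := IsLocalization.exist_integer_multiples_of_finite (nonZeroDivisors A)
      (fun i => b.repr z i)
    choose a ha using hs
    refine ⟨s, nonZeroDivisors.coe_ne_zero s, a, ?_⟩
    apply hinj
    rw [hf]
    have h3 : ∑ i, (algebraMap A K (a i)) • b i = algebraMap A L s * z := by
      have h4 := b.sum_repr z
      conv_rhs => rw [← h4]
      rw [Finset.mul_sum]
      refine Finset.sum_congr rfl fun i _ => ?_
      rw [ha i, Algebra.smul_def, Algebra.smul_def (b.repr z i)]
      change algebraMap K L ((s : A) • _) * _ = _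
      rw [Algebra.smul_def, map_mul, ← IsScalarTower.algebraMap_apply A K L, mul_assoc]
    rw [h3, Algebra.smul_def, map_mul, ← IsScalarTower.algebraMap_apply A B L, hz]
    field_simp

end

/-- Let A ⊆ B be a finite type extension of domains, A Noetherian local of dimension one, with
compatible fraction fields K ⊆ L and L finite over K. Then B has finitely many maximal ideals, and
for a nonzero x in the maximal ideal of A the sum over the maximal ideals m of B of (length of B/m
over A, i.e. the residue degree) times (length of B_m / x B_m over B_m) is at most the degree of L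
over K times the length of A/xA; equality holds exactly when B is a finite A-module. -/
theorem result (A B K L : Type u)
    [CommRing A] [IsDomain A] [IsNoetherianRing A] [IsLocalRing A] (hdim : ringKrullDim A = 1)
    [CommRing B] [IsDomain B] [Algebra A B] [FaithfulSMul A B] [Algebra.FiniteType A B]
    [Field K] [Field L] [Algebra A K] [IsFractionRing A K] [Algebra B L] [IsFractionRing B L]
    [Algebra K L] [Algebra A L] [IsScalarTower A K L] [IsScalarTower A B L] [FiniteDimensional K L]
    (x : A) (hx : x ∈ IsLocalRing.maximalIdeal A) (hx0 : x ≠ 0) :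
    Finite (MaximalSpectrum B) ∧
      (∑ᶠ m : MaximalSpectrum B,
          Module.length A (B ⧸ m.asIdeal) *
            Module.length (Localization.AtPrime m.asIdeal)
              (Localization.AtPrime m.asIdeal ⧸
                Ideal.span ({algebraMap A (Localization.AtPrime m.asIdeal) x} : Set _)) ≤
        (Module.finrank K L : ℕ∞) * Module.length A (A ⧸ Ideal.span ({x} : Set A))) ∧
      ((∑ᶠ m : MaximalSpectrum B,
          Module.length A (B ⧸ m.asIdeal) *
            Module.length (Localization.AtPrime m.asIdeal)
              (Localization.AtPrime m.asIdeal ⧸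
                Ideal.span ({algebraMap A (Localization.AtPrime m.asIdeal) x} : Set _)) =
        (Module.finrank K L : ℕ∞) * Module.length A (A ⧸ Ideal.span ({x} : Set A))) ↔ Module.Finite A B) := by
  have hk1 : Ring.KrullDimLE 1 A := K68.KAk.krullDimLE_one hdim.le
  have hfinmax := finite_maximalSpectrum A B K L hdim
  have hflA := K68.KAk.isArtinian_quotient A B K L hdim x hx0
  have hflB : IsFiniteLength B (B ⧸ Ideal.span {algebraMap A B x}) := by
    rw [isFiniteLength_iff_isNoetherian_isArtinian] at hflA ⊢
    exact ⟨isNoetherian_of_tower A hflA.1, isArtinian_of_tower A hflA.2⟩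
  have hsum : (∑ᶠ m : MaximalSpectrum B,
          Module.length A (B ⧸ m.asIdeal) *
            Module.length (Localization.AtPrime m.asIdeal)
              (Localization.AtPrime m.asIdeal ⧸
                Ideal.span ({algebraMap A (Localization.AtPrime m.asIdeal) x} : Set _))) =
      Module.length A (B ⧸ Ideal.span {algebraMap A B x}) := by
    classical
    let _ := Fintype.ofFinite (MaximalSpectrum B)
    rw [finsum_eq_sum_of_fintype, Groth.Agent.CycB.SemiLocalLen.length_eq_sum A B hflB]
    refine Finset.sum_congr rfl fun m _ => ?_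
    rw [Groth.Agent.CycB.OrdNorm.length_loc_quotient_span, Ring.ord,
      IsScalarTower.algebraMap_apply A B (Localization.AtPrime m.asIdeal)]
  have hcoker : Module.length A (B ⧸ Ideal.span {algebraMap A B x}) =
      Module.length A (B ⧸ LinearMap.range (x • (LinearMap.id : B →ₗ[A] B))) := by
    refine LinearEquiv.length_eq ?_
    exact (Submodule.quotEquivOfEq (LinearMap.range (x • (LinearMap.id : B →ₗ[A] B)))
      ((Ideal.span {algebraMap A B x}).restrictScalars A) (by
      ext z
      simp only [LinearMap.mem_range, LinearMap.smul_apply, LinearMap.id_apply,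
        Submodule.restrictScalars_mem, Ideal.mem_span_singleton']
      exact ⟨fun ⟨y, hy⟩ => ⟨y, by rw [mul_comm, ← Algebra.smul_def]; exact hy⟩,
        fun ⟨y, hy⟩ => ⟨y, by rw [Algebra.smul_def, mul_comm]; exact hy⟩⟩)).symm
  obtain ⟨f, hf, hs⟩ := exists_free A B K L
  have hle : Module.length A (B ⧸ LinearMap.range (x • (LinearMap.id : B →ₗ[A] B))) ≤
      (Module.finrank K L : ℕ∞) * Module.length A (A ⧸ Ideal.span ({x} : Set A)) := by
    let j : B →ₗ[A] L := (IsScalarTower.toAlgHom A B L).toLinearMap
    have hj : Function.Injective j := FaithfulSMul.algebraMap_injective B L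
    let e : B ≃ₗ[A] LinearMap.range j := LinearEquiv.ofInjective j hj
    rw [Groth.Agent.Ega4dA.LenDim1.range_smul_id]
    refine le_trans ?_ (Groth.Agent.Ega2.KrullAkizuki.length_submodule_vectorSpace (K := K) x hx0 _
      L rfl (LinearMap.range j))
    exact Module.length_le_of_surjective
      (Groth.Agent.Ega2.KrullAkizuki.mapQ x e.symm.toLinearMap)
      (Groth.Agent.Ega2.KrullAkizuki.mapQ_surjective x _ e.symm.surjective)
  rw [hsum, hcoker]
  refine ⟨hfinmax, hle, ?_, ?_⟩
  · intro h
    exact K68.OrdDegree.finite_of_length_eq hx0 hx _ f hf hs h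
  · intro h
    exact K68.OrdDegree.length_eq_mul hx0 _ f hf hs

end Groth.Agent.S9136
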