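import Groth.Statements.S9137
import Groth.Agent.Ega41.NoethNorm
import Groth.Agent.Flat2A.LocDevModel
import Mathlib.RingTheory.ZariskisMainTheorem

set_option autoImplicit false
universe u
open CAlg

namespace Groth.Agent.S9137

theorem quasiFinite_quotient (R S : Type u) [CommRing R] [CommRing S]
    [IsLocalRing R] [IsLocalRing S] [Algebra R S] [IsLocalHom (algebraMap R S)]
    [Algebra.EssFiniteType R S]
    (hres : Module.Finite (IsLocalRing.ResidueField R) (IsLocalRing.ResidueField S))
    (hdim : ringKrullDim (S ⧸ (IsLocalRing.maximalIdeal R).map (algebraMap R S)) = 0) :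
    Algebra.QuasiFinite R (S ⧸ (IsLocalRing.maximalIdeal R).map (algebraMap R S)) := by
  have hle : (IsLocalRing.maximalIdeal R).map (algebraMap R S) ≤ IsLocalRing.maximalIdeal S :=
    ((IsLocalRing.local_hom_TFAE (algebraMap R S)).out 0 2).mp ‹IsLocalHom (algebraMap R S)›
  set I := (IsLocalRing.maximalIdeal R).map (algebraMap R S) with hI
  have : Nontrivial (S ⧸ I) := Ideal.Quotient.nontrivial_iff.mpr
    (ne_top_of_le_ne_top (IsLocalRing.maximalIdeal.isMaximal S).ne_top hle)
  have : IsLocalRing (S ⧸ I) :=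
    IsLocalRing.of_surjective' (Ideal.Quotient.mk I) Ideal.Quotient.mk_surjective
  let : Field (R ⧸ IsLocalRing.maximalIdeal R) := Ideal.Quotient.field _
  have : Algebra.EssFiniteType (R ⧸ IsLocalRing.maximalIdeal R) (S ⧸ I) :=
    Algebra.EssFiniteType.quotient_map R S _
  have : IsNoetherianRing (S ⧸ I) :=
    Algebra.EssFiniteType.isNoetherianRing (R ⧸ IsLocalRing.maximalIdeal R) (S ⧸ I)
  have : Ring.KrullDimLE 0 (S ⧸ I) := (Ring.krullDimLE_iff).mpr (by simpa using hdim.le)
  have : IsArtinianRing (S ⧸ I) := isArtinianRing_iff_isNoetherianRing_krullDimLE_zero.mpr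
    ⟨inferInstance, inferInstance⟩
  have : IsLocalHom (Ideal.Quotient.mk I) :=
    .of_surjective _ Ideal.Quotient.mk_surjective
  have h1 : Module.Finite R (IsLocalRing.ResidueField S) := by
    have : Module.Finite R (IsLocalRing.ResidueField R) := inferInstance
    exact Module.Finite.trans (IsLocalRing.ResidueField R) _
  have h2 : Module.Finite R (IsLocalRing.ResidueField (S ⧸ I)) := by
    have : IsLocalHom (Ideal.Quotient.mkₐ R I) := 
      ⟨fun a ha => IsLocalHom.map_nonunit (f := Ideal.Quotient.mk I) a ha⟩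
    refine Module.Finite.of_surjective (M := IsLocalRing.ResidueField S)
      (IsLocalRing.ResidueField.mapAlgHom (Ideal.Quotient.mkₐ R I)).toLinearMap ?_
    intro y
    obtain ⟨y, rfl⟩ := IsLocalRing.residue_surjective y
    obtain ⟨y, rfl⟩ := Ideal.Quotient.mk_surjective y
    exact ⟨IsLocalRing.residue S y, IsLocalRing.ResidueField.mapAlgHom_residue _ _⟩
  have h3 : Module.Finite (R ⧸ IsLocalRing.maximalIdeal R) (IsLocalRing.ResidueField (S ⧸ I)) :=
    Module.Finite.of_restrictScalars_finite R _ _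
  have h4 : Module.Finite (R ⧸ IsLocalRing.maximalIdeal R) (S ⧸ I) :=
    Groth.Agent.Ega41.NoethNorm.finite_of_isArtinianRing h3
  have h5 : Module.Finite R (S ⧸ I) := Module.Finite.trans (R ⧸ IsLocalRing.maximalIdeal R) _
  infer_instance

theorem concl (R S : Type u) [CommRing R] [CommRing S] [IsLocalRing S] [Algebra R S]
    (S₀ : Subalgebra R S) 
    (hloc : IsLocalization.AtPrime S ((IsLocalRing.maximalIdeal S).comap (algebraMap S₀ S)))
    (S' : Subalgebra R S₀) (hfg : (Subalgebra.toSubmodule S').FG) (r : S')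
    (hr : r.1 ∉ (IsLocalRing.maximalIdeal S).comap (algebraMap S₀ S))
    (hbij : Function.Bijective (Localization.awayMap S'.val.toRingHom r)) :
    ∃ (S' : Type u) (_ : CommRing S') (_ : Algebra R S') (_ : Algebra S' S) (_ : IsScalarTower R S' S)
      (q : Ideal S') (_ : q.IsPrime), Module.Finite R S' ∧ IsLocalization.AtPrime S q := by
  have hfin : Module.Finite R S' := ⟨(Submodule.fg_top _).mpr hfg⟩
  have hunit : ∀ s : S₀, s ∉ (IsLocalRing.maximalIdeal S).comap (algebraMap S₀ S) ↔
      IsUnit (s : S) := fun s => by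
    change ¬ ((s : S) ∈ IsLocalRing.maximalIdeal S) ↔ _
    rw [IsLocalRing.mem_maximalIdeal, mem_nonunits_iff, not_not]
  have hsurj := Localization.awayMap_surjective_iff.mp hbij.2
  refine ⟨S', inferInstance, inferInstance, ((algebraMap S₀ S).comp S'.val.toRingHom).toAlgebra,
    IsScalarTower.of_algebraMap_eq fun _ => rfl,
    (IsLocalRing.maximalIdeal S).comap ((algebraMap S₀ S).comp S'.val.toRingHom), 
    Ideal.IsPrime.comap _, hfin, ?_⟩
  let _ : Algebra S' S := ((algebraMap S₀ S).comp S'.val.toRingHom).toAlgebra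
  have hmap : ∀ s : S', algebraMap S' S s = ((s : S₀) : S) := fun _ => rfl
  have hru : IsUnit ((r : S₀) : S) := (hunit _).mp hr
  have hmem : ∀ a : S₀, ∃ (b : S') (m : ℕ), (b : S₀) = (r : S₀) ^ m * a := fun a => hsurj a
  have hprime : ∀ s : S', s ∈ ((IsLocalRing.maximalIdeal S).comap
      ((algebraMap S₀ S).comp S'.val.toRingHom)).primeCompl ↔ IsUnit ((s : S₀) : S) :=
    fun s => hunit (s : S₀)
  refine ⟨?_, ?_, ?_⟩
  · rintro ⟨s, hs⟩
    exact (hunit _).mp hs
  · intro z
    obtain ⟨⟨a, s⟩, h⟩ := IsLocalization.surj 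
      ((IsLocalRing.maximalIdeal S).comap (algebraMap S₀ S)).primeCompl z
    obtain ⟨a', m, ha⟩ := hmem a
    obtain ⟨s', n, hs⟩ := hmem s
    have hsu : IsUnit ((s : S₀) : S) := (hunit _).mp s.2
    have hs2 : ((s' : S₀) : S) = ((r : S₀) : S) ^ n * ((s : S₀) : S) := by
      rw [hs]; push_cast; ring
    have ha2 : ((a' : S₀) : S) = ((r : S₀) : S) ^ m * (a : S) := by
      rw [ha]; push_cast; ring
    refine ⟨⟨r ^ n * a', ⟨r ^ m * s', (hprime _).mpr ?_⟩⟩, ?_⟩
    · push_cast
      rw [hs2]
      exact (hru.pow m).mul ((hru.pow n).mul hsu)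
    · rw [hmap, hmap]
      push_cast
      rw [hs2, ha2]
      have h' : z * ((s : S₀) : S) = (a : S) := h
      linear_combination ((r : S₀) : S) ^ n * ((r : S₀) : S) ^ m * h'
  · intro x y hxy
    obtain ⟨c, hc⟩ := IsLocalization.exists_of_eq
      (M := ((IsLocalRing.maximalIdeal S).comap (algebraMap S₀ S)).primeCompl) 
      (x := (x : S₀)) (y := (y : S₀)) (S := S) hxy
    obtain ⟨c', m, hc'⟩ := hmem c
    have hcu : IsUnit ((c : S₀) : S) := (hunit _).mp c.2
    refine ⟨⟨c', (hprime _).mpr ?_⟩, ?_⟩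
    · rw [hc']
      push_cast
      exact (hru.pow m).mul hcu
    · refine Subtype.ext ?_
      push_cast
      rw [hc', mul_assoc, hc, ← mul_assoc]

/-- Let R → S be a local ring homomorphism between local rings, essentially of finite type, such that
the residue field of S is finite over that of R and S/m_R S has dimension zero. Then S is, as an
R-algebra, the localization of a finite R-algebra at a prime. -/
theorem result (R S : Type u) [CommRing R] [CommRing S]
    [IsLocalRing R] [IsLocalRing S] [Algebra R S] [IsLocalHom (algebraMap R S)]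
    [Algebra.EssFiniteType R S]
    (hres : Module.Finite (IsLocalRing.ResidueField R) (IsLocalRing.ResidueField S))
    (hdim : ringKrullDim (S ⧸ (IsLocalRing.maximalIdeal R).map (algebraMap R S)) = 0) :
    ∃ (S' : Type u) (_ : CommRing S') (_ : Algebra R S') (_ : Algebra S' S) (_ : IsScalarTower R S' S)
      (q : Ideal S') (_ : q.IsPrime), Module.Finite R S' ∧ IsLocalization.AtPrime S q := by
  obtain ⟨S₀, -, hft, hloc⟩ := Groth.Agent.Flat2A.LocDev.exists_model R S ∅ Set.finite_empty
  set q₀ : Ideal S₀ := (IsLocalRing.maximalIdeal S).comap (algebraMap S₀ S) with hq₀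
  have hunder : q₀.under R = IsLocalRing.maximalIdeal R := by
    rw [hq₀, Ideal.under, Ideal.comap_comap]
    change Ideal.comap (algebraMap R S) _ = _
    exact ((IsLocalRing.local_hom_TFAE (algebraMap R S)).out 0 4).mp ‹IsLocalHom (algebraMap R S)›
  have hwq : Algebra.WeaklyQuasiFiniteAt R q₀ := by
    rw [Algebra.weaklyQuasiFiniteAt_iff, hunder]
    have := quasiFinite_quotient R S hres hdim
    let e : S ≃ₐ[S₀] Localization.AtPrime q₀ := IsLocalization.algEquiv q₀.primeCompl S _
    let e' : S ≃ₐ[R] Localization.AtPrime q₀ := e.restrictScalars R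
    refine (Algebra.QuasiFinite.iff_of_algEquiv (Ideal.quotientEquivAlg
      ((IsLocalRing.maximalIdeal R).map (algebraMap R S)) 
      ((IsLocalRing.maximalIdeal R).map (algebraMap R (Localization.AtPrime q₀))) e' ?_)).mp this
    rw [Ideal.map_map]
    congr 1
    exact e'.toAlgHom.comp_algebraMap.symm
  obtain ⟨S', hfg, r, hr, hbij⟩ :=
    Algebra.QuasiFiniteAt.exists_fg_and_exists_notMem_and_awayMap_bijective (R := R) q₀
  exact concl R S S₀ hloc S' hfg r hr hbij

end Groth.Agent.S9137
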