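import Groth.Statements.S9138
import Groth.Agent.CAlg.K68.ComplFin
import Mathlib.RingTheory.QuasiFinite.Basic

set_option autoImplicit false
universe u
open CAlg

namespace Groth.Agent.S9138

open TensorProduct in
theorem finite_quotient (R S : Type u) [CommRing R] [CommRing S] [IsLocalRing R] [Algebra R S]
    (hfib : Module.Finite (IsLocalRing.maximalIdeal R).ResidueField
      ((IsLocalRing.maximalIdeal R).Fiber S)) :
    Module.Finite R (S ⧸ (IsLocalRing.maximalIdeal R).map (algebraMap R S)) := by
  let e : (IsLocalRing.maximalIdeal R).Fiber S ≃ₐ[R]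
      S ⧸ (IsLocalRing.maximalIdeal R).map (algebraMap R S) :=
    (Algebra.TensorProduct.congr (.symm <| .ofBijective _
      (Ideal.bijective_algebraMap_quotient_residueField (IsLocalRing.maximalIdeal R))) .refl).trans <|
    (Algebra.TensorProduct.comm _ _ _).trans
    ((Algebra.TensorProduct.quotIdealMapEquivTensorQuot S
      (IsLocalRing.maximalIdeal R)).symm.restrictScalars _)
  have h1 : Module.Finite R (IsLocalRing.maximalIdeal R).ResidueField := by
    exact Module.Finite.of_surjective (Algebra.linearMap (R ⧸ IsLocalRing.maximalIdeal R) 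
      (IsLocalRing.maximalIdeal R).ResidueField |>.restrictScalars R) 
      (Ideal.bijective_algebraMap_quotient_residueField (IsLocalRing.maximalIdeal R)).2
  have : Module.Finite R ((IsLocalRing.maximalIdeal R).Fiber S) :=
    .trans (IsLocalRing.maximalIdeal R).ResidueField _
  exact .of_surjective e.toLinearMap e.surjective

theorem exists_pow_le (R S : Type u) [CommRing R] [CommRing S] [IsLocalRing R] [IsLocalRing S]
    [Algebra R S] [hfin : Module.Finite R (S ⧸ (IsLocalRing.maximalIdeal R).map (algebraMap R S))]
    (h : (IsLocalRing.maximalIdeal R).map (algebraMap R S) ≤ IsLocalRing.maximalIdeal S) :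
    ∃ N, IsLocalRing.maximalIdeal S ^ N ≤ (IsLocalRing.maximalIdeal R).map (algebraMap R S) := by
  set I := (IsLocalRing.maximalIdeal R).map (algebraMap R S) with hI
  have : Nontrivial (S ⧸ I) := Ideal.Quotient.nontrivial_iff.mpr
    (ne_top_of_le_ne_top (IsLocalRing.maximalIdeal.isMaximal S).ne_top h)
  have : IsLocalRing (S ⧸ I) :=
    IsLocalRing.of_surjective' (Ideal.Quotient.mk I) Ideal.Quotient.mk_surjective
  let _ : Field (R ⧸ IsLocalRing.maximalIdeal R) := Ideal.Quotient.field _
  have h4 : Module.Finite (R ⧸ IsLocalRing.maximalIdeal R) (S ⧸ I) :=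
    Module.Finite.of_restrictScalars_finite R _ _
  have h5 : IsArtinianRing (S ⧸ I) := IsArtinianRing.of_finite (R ⧸ IsLocalRing.maximalIdeal R) _
  obtain ⟨N, hN⟩ := IsArtinianRing.isNilpotent_jacobson_bot (R := S ⧸ I)
  rw [IsLocalRing.jacobson_eq_maximalIdeal ⊥ bot_ne_top] at hN
  refine ⟨N, fun x hx => ?_⟩
  rw [← Ideal.Quotient.eq_zero_iff_mem]
  have h6 : (IsLocalRing.maximalIdeal S).map (Ideal.Quotient.mk I) ≤
      IsLocalRing.maximalIdeal (S ⧸ I) :=
    IsLocalRing.le_maximalIdeal (by
      intro h7
      have h8 := Ideal.comap_map_of_surjective (Ideal.Quotient.mk I)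
        Ideal.Quotient.mk_surjective (IsLocalRing.maximalIdeal S)
      rw [h7, Ideal.comap_top, ← RingHom.ker_eq_comap_bot, Ideal.mk_ker, sup_eq_left.mpr h] at h8
      exact (IsLocalRing.maximalIdeal.isMaximal S).ne_top h8.symm)
  have h7 : Ideal.Quotient.mk I x ∈ IsLocalRing.maximalIdeal (S ⧸ I) ^ N := by
    refine Ideal.pow_right_mono h6 N ?_
    rw [← Ideal.map_pow]
    exact Ideal.mem_map_of_mem _ hx
  rw [hN] at h7
  simpa using h7

/-- Let R → S be a local ring homomorphism between local rings with finitely generated maximal ideals m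
and n, such that S/mS is a finite-dimensional κ(m)-vector space. Then (1) the canonical ring map
from the mS-adic completion of S to the n-adic completion of S is bijective, and (2) the induced
ring map from the m-adic completion of R to the n-adic completion of S is finite. (The hypotheses h
and h' record the inclusion mS ⊆ n, which holds for any local homomorphism; they are the arguments
the completion maps take.) -/
theorem result (R S : Type u) [CommRing R] [CommRing S]
    [IsLocalRing R] [IsLocalRing S] [Algebra R S] [IsLocalHom (algebraMap R S)]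
    (hm : (IsLocalRing.maximalIdeal R).FG) (hn : (IsLocalRing.maximalIdeal S).FG)
    (hfib : Module.Finite (IsLocalRing.maximalIdeal R).ResidueField ((IsLocalRing.maximalIdeal R).Fiber S))
    (h : (IsLocalRing.maximalIdeal R).map (algebraMap R S) ≤ IsLocalRing.maximalIdeal S)
    (h' : ((IsLocalRing.maximalIdeal R).map (algebraMap R S)).map (RingHom.id S) ≤ IsLocalRing.maximalIdeal S) :
    Function.Bijective (FSch.complMap ((IsLocalRing.maximalIdeal R).map (algebraMap R S))
        (IsLocalRing.maximalIdeal S) (RingHom.id S) h') ∧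
      (FSch.complMap (IsLocalRing.maximalIdeal R) (IsLocalRing.maximalIdeal S) (algebraMap R S) h).Finite := by
  have hfin := finite_quotient R S hfib
  obtain ⟨N, hN⟩ := exists_pow_le R S h
  exact ⟨K68.ComplFin.bijective_complMap_id _ _ h' N hN,
    K68.ComplFin.finite_complMap _ _ h N hN⟩

end Groth.Agent.S9138
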