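import Groth.Statements.S9141
import Groth.Agent.Synt.K561.GCI
-- import your own Groth.Agent.* helpers here

set_option autoImplicit false
universe u
open Synt

namespace Groth.Agent.S9141

/-- For a finite type algebra S over a field k and g ∈ S, the localization S_g is a global (resp. local)
complete intersection over k whenever S is. -/
theorem result (k S : Type u) [Field k] [CommRing S] [Algebra k S]
    [Algebra.FiniteType k S] (g : S) :
    (Synt.IsGlobalCI k S → Synt.IsGlobalCI k (Localization.Away g)) ∧
      (Synt.IsLCIOver k S → Synt.IsLCIOver k (Localization.Away g)) := by
  refine ⟨fun h => K561.GCI.isGlobalCI_away h g _, fun h => ⟨?_, fun p => ?_⟩⟩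
  · exact Algebra.FiniteType.trans ‹_› (IsLocalization.finiteType_of_monoid_fg (Submonoid.powers g) _)
  · obtain ⟨x, hx, hc⟩ := h.2 (PrimeSpectrum.comap (algebraMap S (Localization.Away g)) p)
    refine ⟨algebraMap S (Localization.Away g) x, hx, ?_⟩
    let T := Localization.Away (algebraMap S (Localization.Away g) x)
    let f : Localization.Away x →ₐ[S] T := IsLocalization.liftAlgHom (M := Submonoid.powers x)
      (f := Algebra.ofId S T) (by
        rintro ⟨_, n, rfl⟩
        rw [map_pow]
        refine IsUnit.pow _ ?_
        rw [Algebra.ofId_apply, IsScalarTower.algebraMap_apply S (Localization.Away g) T]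
        exact IsLocalization.Away.algebraMap_isUnit _)
    let : Algebra (Localization.Away x) T := f.toRingHom.toAlgebra
    have : IsScalarTower S (Localization.Away x) T := IsScalarTower.of_algebraMap_eq fun y => (f.commutes y).symm
    have : IsScalarTower k (Localization.Away x) T := by
      refine IsScalarTower.of_algebraMap_eq fun y => ?_
      rw [IsScalarTower.algebraMap_apply k S T, IsScalarTower.algebraMap_apply S (Localization.Away x) T,
        ← IsScalarTower.algebraMap_apply k S (Localization.Away x)]
    have : IsLocalization.Away (algebraMap S (Localization.Away x) g) T :=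
      IsLocalization.Away.commutes (Localization.Away x) (Localization.Away g) T x g
    exact K561.GCI.isGlobalCI_away hc (algebraMap S (Localization.Away x) g) T

end Groth.Agent.S9141
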