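import Groth.Statements.S9143
import Groth.Agent.Synt.K562.FieldCI3

set_option autoImplicit false
universe u
open Synt

namespace Groth.Agent.S9143

open K562.FieldCI K562.FieldDim IsLocalRing

/-- A local algebra essentially of finite type is the localization of a finite type algebra at a prime. -/
theorem exists_atPrime (k S : Type u) [Field k] [CommRing S] [IsLocalRing S] [Algebra k S]
    [Algebra.EssFiniteType k S] : ∃ (A : Type u) (_ : CommRing A) (_ : Algebra k A) (a : Ideal A) (_ : a.IsPrime),
      Algebra.FiniteType k A ∧ Nonempty (S ≃ₐ[k] Localization.AtPrime a) := by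
  let A := Algebra.EssFiniteType.subalgebra k S
  let a : Ideal A := (maximalIdeal S).comap (algebraMap A S)
  have ha : a.IsPrime := inferInstance
  have h1 : Algebra.EssFiniteType.submonoid k S = a.primeCompl := by
    ext x
    change IsUnit (algebraMap A S x) ↔ ¬ (algebraMap A S x ∈ maximalIdeal S)
    rw [mem_maximalIdeal, mem_nonunits_iff, not_not]
  have h2 : IsLocalization.AtPrime S a := by
    have : IsLocalization (Algebra.EssFiniteType.submonoid k S) S := inferInstance
    rw [h1] at this
    exact this
  refine ⟨A, inferInstance, inferInstance, a, ha, inferInstance, ⟨?_⟩⟩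
  exact (IsLocalization.algEquiv a.primeCompl S (Localization.AtPrime a)).restrictScalars k

theorem exists_globalCI (k S : Type u) [Field k] [CommRing S] [IsLocalRing S] [Algebra k S]
    [Algebra.EssFiniteType k S] (h : Pi1.IsCompleteIntersection S) :
    ∃ (A : Type u) (_ : CommRing A) (_ : Algebra k A) (a : Ideal A) (_ : a.IsPrime),
      Algebra.FiniteType k A ∧ Synt.IsGlobalCI k A ∧ Nonempty (S ≃ₐ[k] Localization.AtPrime a) := by
  obtain ⟨A, _, _, a, ha, hft, ⟨e⟩⟩ := exists_atPrime k S
  have h1 : Pi1.IsCompleteIntersection (Localization.AtPrime a) :=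
    Groth.Agent.Ega4dB.CITransport.isCompleteIntersection_of_ringEquiv e.toRingEquiv h
  obtain ⟨g, hg, hgci⟩ := exists_isGlobalCI_away k a h1
  have disj : Disjoint (Submonoid.powers g : Set A) a := by
    rw [Set.disjoint_left]
    rintro _ ⟨m, rfl⟩ hm
    exact hg (Ideal.IsPrime.mem_of_pow_mem inferInstance m hm)
  have hprime : (a.map (algebraMap A (Localization.Away g))).IsPrime :=
    IsLocalization.isPrime_of_isPrime_disjoint (Submonoid.powers g) _ _ inferInstance disj
  have hcomap : (a.map (algebraMap A (Localization.Away g))).comap (algebraMap A (Localization.Away g)) = a :=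
    IsLocalization.under_map_of_isPrime_disjoint (Submonoid.powers g) (Localization.Away g)
        inferInstance disj
  have h3 := IsLocalization.isLocalization_isLocalization_atPrime_isLocalization (Submonoid.powers g)
    (Localization.AtPrime (a.map (algebraMap A (Localization.Away g)))) (a.map (algebraMap A (Localization.Away g)))
  have h4 : IsLocalization.AtPrime (Localization.AtPrime (a.map (algebraMap A (Localization.Away g)))) a := by
    have h5 : ((a.map (algebraMap A (Localization.Away g))).comap (algebraMap A (Localization.Away g))).primeCompl =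
        a.primeCompl := by
      ext x
      change ¬ (x ∈ (a.map (algebraMap A (Localization.Away g))).comap (algebraMap A (Localization.Away g))) ↔ ¬ (x ∈ a)
      rw [hcomap]
    have h6 : IsLocalization ((a.map (algebraMap A (Localization.Away g))).comap
      (algebraMap A (Localization.Away g))).primeCompl
      (Localization.AtPrime (a.map (algebraMap A (Localization.Away g)))) := h3
    rw [h5] at h6
    exact h6
  have hft' : Algebra.FiniteType A (Localization.Away g) :=
    IsLocalization.finiteType_of_monoid_fg (Submonoid.powers g) _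
  refine ⟨Localization.Away g, inferInstance, inferInstance, a.map (algebraMap A (Localization.Away g)), hprime,
    Algebra.FiniteType.trans hft hft', hgci, ⟨e.trans ?_⟩⟩
  exact (IsLocalization.algEquiv a.primeCompl (Localization.AtPrime a)
    (Localization.AtPrime (a.map (algebraMap A (Localization.Away g))))).restrictScalars k

/-- For a local k-algebra S which is essentially of finite type over a field k, being a complete
intersection over k is equivalent to each of: (2) whenever a regular local ring R, essentially of
finite type over k, maps onto S by a surjective k-algebra map, the kernel is generated by a regular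
sequence; (3) some regular local ring R, essentially of finite type over k, maps onto S by a
surjective k-algebra map whose kernel is generated by a list of dim R − dim S elements (stated as
dim R = dim S + the length of the list); (4) S is isomorphic over k to a localization at a prime of
a global complete intersection over k; (5) the same with a local complete intersection over k. -/
theorem result (k S : Type u) [Field k] [CommRing S]
    [IsLocalRing S] [Algebra k S] [Algebra.EssFiniteType k S] :
    (Synt.IsCIOver k S ↔
        ∀ (R : Type u) [CommRing R] [IsRegularLocalRing R] [Algebra k R], Algebra.EssFiniteType k R →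
          ∀ π : R →ₐ[k] S, Function.Surjective π →
            ∃ rs : List R, RingTheory.Sequence.IsRegular R rs ∧ RingHom.ker π.toRingHom = Ideal.ofList rs) ∧
      (Synt.IsCIOver k S ↔
        ∃ (R : Type u) (_ : CommRing R) (_ : IsRegularLocalRing R) (_ : Algebra k R),
          Algebra.EssFiniteType k R ∧ ∃ π : R →ₐ[k] S, Function.Surjective π ∧
            ∃ rs : List R, RingHom.ker π.toRingHom = Ideal.ofList rs ∧
              ringKrullDim R = ringKrullDim S + (rs.length : WithBot ℕ∞)) ∧
      (Synt.IsCIOver k S ↔
        ∃ (A : Type u) (_ : CommRing A) (_ : Algebra k A) (a : Ideal A) (_ : a.IsPrime),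
          Algebra.FiniteType k A ∧ Synt.IsGlobalCI k A ∧ Nonempty (S ≃ₐ[k] Localization.AtPrime a)) ∧
      (Synt.IsCIOver k S ↔
        ∃ (A : Type u) (_ : CommRing A) (_ : Algebra k A) (a : Ideal A) (_ : a.IsPrime),
          Synt.IsLCIOver k A ∧ Nonempty (S ≃ₐ[k] Localization.AtPrime a)) := by
  refine ⟨⟨?_, ?_⟩, ⟨?_, ?_⟩, ⟨?_, ?_⟩, ⟨?_, ?_⟩⟩
  · intro h R _ _ _ _ π hπ
    rw [isCIOver_iff, Groth.Agent.S2842.isCompleteIntersection_iff_of_surjective π.toRingHom hπ] at h
    obtain ⟨rs, hreg, hrs⟩ := h
    exact ⟨rs, hreg, hrs.symm⟩
  · intro h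
    obtain ⟨n, Q, hQ, π, hπ⟩ := exists_surjective_of_essFiniteType k S
    obtain ⟨rs, hreg, hrs⟩ := h (Localization.AtPrime Q) inferInstance π hπ
    rw [isCIOver_iff, Groth.Agent.S2842.isCompleteIntersection_iff_of_surjective π.toRingHom hπ]
    exact ⟨rs, hreg, hrs.symm⟩
  · intro h
    obtain ⟨n, Q, hQ, π, hπ⟩ := exists_surjective_of_essFiniteType k S
    rw [isCIOver_iff, Groth.Agent.S2842.isCompleteIntersection_iff_of_surjective π.toRingHom hπ] at h
    obtain ⟨rs, hreg, hrs⟩ := h
    refine ⟨Localization.AtPrime Q, inferInstance, inferInstance, inferInstance, inferInstance, π, hπ, rs,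
      hrs.symm, ?_⟩
    rw [← ringKrullDim_add_length_eq_ringKrullDim_of_isRegular rs hreg, hrs,
      ringKrullDim_eq_of_ringEquiv (RingHom.quotientKerEquivOfSurjective (f := π.toRingHom) hπ)]
  · rintro ⟨R, _, _, _, -, π, hπ, rs, hker, hdim⟩
    rw [isCIOver_iff, Groth.Agent.S2842.isCompleteIntersection_iff_of_surjective π.toRingHom hπ]
    refine ⟨rs, Groth.Agent.Models.CMSeq.isRegular_of_ringKrullDim_le rs ?_ ?_, hker.symm⟩
    · intro r hr
      have h1 : r ∈ RingHom.ker π.toRingHom := by
        rw [hker]
        exact Ideal.subset_span hr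
      exact le_maximalIdeal (RingHom.ker_ne_top _) h1
    · rw [hdim, ← hker, ringKrullDim_eq_of_ringEquiv
        (RingHom.quotientKerEquivOfSurjective (f := π.toRingHom) hπ)]
  · intro h
    exact exists_globalCI k S ((isCIOver_iff k S).mp h)
  · rintro ⟨A, _, _, a, ha, hft, hgci, ⟨e⟩⟩
    rw [isCIOver_iff]
    exact Groth.Agent.Ega4dB.CITransport.isCompleteIntersection_of_ringEquiv e.symm.toRingEquiv
      (isCI_atPrime_of_isGlobalCI k hgci a)
  · intro h
    obtain ⟨A, _, _, a, ha, hft, hgci, he⟩ := exists_globalCI k S ((isCIOver_iff k S).mp h)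
    exact ⟨A, inferInstance, inferInstance, a, ha, (isLCIOver_iff k A).mpr
      ⟨hft, fun q _ => isCI_atPrime_of_isGlobalCI k hgci q⟩, he⟩
  · rintro ⟨A, _, _, a, ha, hlci, ⟨e⟩⟩
    rw [isCIOver_iff]
    exact Groth.Agent.Ega4dB.CITransport.isCompleteIntersection_of_ringEquiv e.symm.toRingEquiv
      (((isLCIOver_iff k A).mp hlci).2 a)

end Groth.Agent.S9143
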