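import Groth.Statements.S9144
import Groth.Agent.Synt.K562.FieldCI4

set_option autoImplicit false
universe u
open Synt

namespace Groth.Agent.S9144

/-- For a finite type algebra S over a field k and a prime q of S, the local ring S_q is a complete
intersection over k if and only if some basic open neighbourhood S_g (g ∉ q) is a local complete
intersection over k, if and only if some S_g (g ∉ q) is a global complete intersection over k. -/
theorem result (k S : Type u) [Field k] [CommRing S] [Algebra k S]
    [Algebra.FiniteType k S] (q : Ideal S) [q.IsPrime] :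
    (Synt.IsCIOver k (Localization.AtPrime q) ↔ ∃ g : S, g ∉ q ∧ Synt.IsLCIOver k (Localization.Away g)) ∧
      (Synt.IsCIOver k (Localization.AtPrime q) ↔
        ∃ g : S, g ∉ q ∧ Synt.IsGlobalCI k (Localization.Away g)) := by
  have h1 : Synt.IsCIOver k (Localization.AtPrime q) → ∃ g : S, g ∉ q ∧ Synt.IsGlobalCI k (Localization.Away g) :=
    fun h => K562.FieldCI.exists_isGlobalCI_away k q ((K562.FieldCI.isCIOver_iff k _).mp h)
  have h2 : ∀ g : S, Synt.IsGlobalCI k (Localization.Away g) → Synt.IsLCIOver k (Localization.Away g) := by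
    intro g hg
    have : Algebra.FiniteType S (Localization.Away g) :=
      IsLocalization.finiteType_of_monoid_fg (Submonoid.powers g) _
    exact (K562.FieldCI.isLCIOver_iff k _).mpr ⟨Algebra.FiniteType.trans (S := S) inferInstance this,
      fun Q _ => K562.FieldCI.isCI_atPrime_of_isGlobalCI k hg Q⟩
  have h3 : (∃ g : S, g ∉ q ∧ Synt.IsLCIOver k (Localization.Away g)) → Synt.IsCIOver k (Localization.AtPrime q) := by
    rintro ⟨g, hg, hl⟩
    rw [K562.FieldCI.isCIOver_iff]
    have disj : Disjoint (Submonoid.powers g : Set S) q := by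
      rw [Set.disjoint_left]
      rintro _ ⟨m, rfl⟩ hm
      exact hg (Ideal.IsPrime.mem_of_pow_mem inferInstance m hm)
    have hprime : (q.map (algebraMap S (Localization.Away g))).IsPrime :=
      IsLocalization.isPrime_of_isPrime_disjoint (Submonoid.powers g) _ _ inferInstance disj
    rw [← K562.FieldCI.isCI_atPrime_comap_iff (Submonoid.powers g)
      (q.map (algebraMap S (Localization.Away g))) q
      (IsLocalization.under_map_of_isPrime_disjoint (Submonoid.powers g) (Localization.Away g)
        inferInstance disj).symm]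
    exact ((K562.FieldCI.isLCIOver_iff k _).mp hl).2 _
  refine ⟨⟨fun h => ?_, h3⟩, ⟨h1, fun ⟨g, hg, hl⟩ => h3 ⟨g, hg, h2 g hl⟩⟩⟩
  obtain ⟨g, hg, hl⟩ := h1 h
  exact ⟨g, hg, h2 g hl⟩

end Groth.Agent.S9144
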