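import Groth.Statements.S9145
import Groth.Agent.Synt.K562.FieldCI4

set_option autoImplicit false
universe u
open Synt

namespace Groth.Agent.S9145

/-- A finite type algebra S over a field k is a local complete intersection over k if and only if all
its local rings at primes (equivalently, at maximal ideals) are complete intersections over k. -/
theorem result (k S : Type u) [Field k] [CommRing S] [Algebra k S]
    [Algebra.FiniteType k S] :
    (Synt.IsLCIOver k S ↔ ∀ p : PrimeSpectrum S, Synt.IsCIOver k (Localization.AtPrime p.asIdeal)) ∧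
      (Synt.IsLCIOver k S ↔
        ∀ m : MaximalSpectrum S, Synt.IsCIOver k (Localization.AtPrime m.asIdeal)) := by
  constructor
  · rw [K562.FieldCI.isLCIOver_iff]
    constructor
    · rintro ⟨-, h⟩ p
      exact (K562.FieldCI.isCIOver_iff k _).mpr (h p.asIdeal)
    · intro h
      exact ⟨inferInstance, fun q hq => (K562.FieldCI.isCIOver_iff k _).mp (h ⟨q, hq⟩)⟩
  · rw [K562.FieldCI.isLCIOver_iff_forall_isMaximal]
    constructor
    · rintro ⟨-, h⟩ m
      exact (K562.FieldCI.isCIOver_iff k _).mpr (h m.asIdeal)
    · intro h
      exact ⟨inferInstance, fun m hm => (K562.FieldCI.isCIOver_iff k _).mp (h ⟨m, hm⟩)⟩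

end Groth.Agent.S9145
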