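import Groth.Statements.S9155
import Groth.Agent.Diff16.K586.DiffOp

set_option autoImplicit false
universe u
open Diff16

namespace Groth.Agent.S9155

open scoped TensorProduct

/-- A differential operator of order at most k between modules over B (relative to A → B) has exactly
one extension to the localized modules over S⁻¹B that is again a differential operator of order at
most k (relative to A → S⁻¹B), compatible with the localization maps. -/
theorem result (A B : Type u) [CommRing A] [CommRing B] [Algebra A B]
    (S : Submonoid B) (M N : Type u) [AddCommGroup M] [Module B M] [Module A M] [IsScalarTower A B M]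
    [AddCommGroup N] [Module B N] [Module A N] [IsScalarTower A B N] (k : ℕ) (D : M →ₗ[A] N)
    (hD : Diff16.IsDiffOpLE A B M N k D) :
    ∃! E : LocalizedModule S M →ₗ[A] LocalizedModule S N,
      Diff16.IsDiffOpLE A (Localization S) (LocalizedModule S M) (LocalizedModule S N) k E ∧
        E ∘ₗ (LocalizedModule.mkLinearMap S M).restrictScalars A =
          (LocalizedModule.mkLinearMap S N).restrictScalars A ∘ₗ D := by
  have hU : Algebra.FormallyEtale B (Localization S) := Algebra.FormallyEtale.of_isLocalization S
  have hbc : IsBaseChange (Localization S) (LocalizedModule.mkLinearMap S M) :=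
    IsLocalizedModule.isBaseChange S (Localization S) _
  have hD1 := K586.DiffOp.isDiffOpLE_comp_linear (R := A) (LocalizedModule.mkLinearMap S N) k D hD
  obtain ⟨D', hD', h1⟩ := K586.DiffOp.exists_extension (S' := Localization S) k _ hD1
  let e : Localization S ⊗[B] M ≃ₗ[Localization S] LocalizedModule S M := hbc.equiv
  have he : ∀ m, e.symm (LocalizedModule.mkLinearMap S M m) = 1 ⊗ₜ m := by
    intro m
    rw [LinearEquiv.symm_apply_eq]
    exact (hbc.equiv_tmul 1 m).symm ▸ (one_smul _ _).symm
  refine ⟨D' ∘ₗ (e.symm.toLinearMap.restrictScalars A), ⟨?_, ?_⟩, ?_⟩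
  · exact K586.DiffOp.isDiffOpLE_precomp_linear (R := A) (S := Localization S) e.symm.toLinearMap k D' hD'
  · ext m
    show D' (e.symm _) = _
    erw [he, h1]
  · rintro E ⟨hE, hE1⟩
    rw [← sub_eq_zero]
    refine K586.DiffOp.eq_zero_of_formallyUnramified (S := B) (LocalizedModule.mkLinearMap S M) ?_ k _
      (K586.DiffOp.isDiffOpLE_sub k _ _ hE
        (K586.DiffOp.isDiffOpLE_precomp_linear (R := A) (S := Localization S) e.symm.toLinearMap k D' hD')) ?_
    · rw [eq_top_iff]
      rintro x -
      refine hbc.inductionOn x _ (zero_mem _) (fun m => Submodule.subset_span ⟨m, rfl⟩)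
        (fun s n hn => Submodule.smul_mem _ _ hn) (fun a b ha hb => add_mem ha hb)
    · intro m
      have h2 : E (LocalizedModule.mkLinearMap S M m) = LocalizedModule.mkLinearMap S N (D m) :=
        LinearMap.congr_fun hE1 m
      have h3 : (D' ∘ₗ (e.symm.toLinearMap.restrictScalars A)) (LocalizedModule.mkLinearMap S M m) =
          LocalizedModule.mkLinearMap S N (D m) := by
        show D' (e.symm _) = _
        erw [he, h1]
        rfl
      rw [LinearMap.sub_apply, h2, h3, sub_self]

end Groth.Agent.S9155
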