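import Groth.Statements.S9158
import Groth.Agent.CAlg.K68.GenFreeRedLoc

set_option autoImplicit false
universe u
open CAlg

namespace Groth.Agent.S9158

/-- Generic freeness over a reduced ring: let R → S be of finite type with R reduced and M a finite
S-module. There is a dense open subset U of Spec R such that each point of U lies in a basic open
D(f) ⊆ U with M_f and S_f free over R_f, S_f of finite presentation over R_f, and M_f of finite
presentation over S_f. -/
theorem result (R S : Type u) [CommRing R] [IsReduced R] [CommRing S]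
    [Algebra R S] [Algebra.FiniteType R S] (M : Type u) [AddCommGroup M] [Module S M] [Module R M]
    [IsScalarTower R S M] [Module.Finite S M] :
    ∃ U : Set (PrimeSpectrum R), IsOpen U ∧ Dense U ∧ ∀ u ∈ U, ∃ f : R, f ∉ u.asIdeal ∧
      (PrimeSpectrum.basicOpen f : Set (PrimeSpectrum R)) ⊆ U ∧
      Module.Free (Localization.Away f) (LocalizedModule (Submonoid.powers f) M) ∧
      Module.Free (Localization.Away f) (LocalizedModule (Submonoid.powers f) S) ∧
      (Localization.awayMap (algebraMap R S) f).FinitePresentation ∧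
      Module.FinitePresentation (Localization.Away (algebraMap R S f))
        (LocalizedModule (Submonoid.powers (algebraMap R S f)) M) := by
  classical
  obtain ⟨n, φ, hφ⟩ := Algebra.FiniteType.iff_quotient_mvPolynomial''.mp
    (inferInstance : Algebra.FiniteType R S)
  let _ : Algebra (MvPolynomial (Fin n) R) S := φ.toRingHom.toAlgebra
  have hPS : Function.Surjective (algebraMap (MvPolynomial (Fin n) R) S) := hφ
  have _ : IsScalarTower R (MvPolynomial (Fin n) R) S :=
    IsScalarTower.of_algebraMap_eq fun r => (φ.commutes r).symm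
  let _ : Module (MvPolynomial (Fin n) R) M := Module.compHom M φ.toRingHom
  have _ : IsScalarTower (MvPolynomial (Fin n) R) S M := ⟨fun p s m => by
    rw [Algebra.smul_def, mul_smul]; rfl⟩
  have _ : IsScalarTower R (MvPolynomial (Fin n) R) M := ⟨fun r p m => by
    change φ (r • p) • m = r • (φ p • m)
    rw [map_smul, smul_assoc]⟩
  have hfinS : Module.Finite (MvPolynomial (Fin n) R) S :=
    Module.Finite.of_surjective (Algebra.linearMap (MvPolynomial (Fin n) R) S) hPS
  have hfinM : Module.Finite (MvPolynomial (Fin n) R) M := Module.Finite.trans S M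
  obtain ⟨m, s, hs⟩ := Module.Finite.exists_fin (R := MvPolynomial (Fin n) R) (M := M)
  -- good denominators
  let good : R → Prop := fun f =>
      Module.Free (Localization.Away f) (LocalizedModule (Submonoid.powers f) M) ∧
      Module.Free (Localization.Away f) (LocalizedModule (Submonoid.powers f) S) ∧
      (Localization.awayMap (algebraMap R S) f).FinitePresentation ∧
      Module.FinitePresentation (Localization.Away (algebraMap R S f))
        (LocalizedModule (Submonoid.powers (algebraMap R S f)) M)
  have key : ∀ g : R, g ≠ 0 → ∃ f : R, f ≠ 0 ∧ g ∣ f ∧ good f := by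
    intro g hg
    obtain ⟨f₁, hf₁, hgf₁, hfree, I₀, hI₀, hfg, hsat⟩ := K68.GenFreeRed.exists_good_of_cyclic'
      (M := S) (Algebra.linearMap (MvPolynomial (Fin n) R) S) hPS g hg
    obtain ⟨f, hf, hf₁f, hM⟩ := K68.GenFreeRed.exists_good m M s hs f₁ hf₁
    refine ⟨f, hf, hgf₁.trans hf₁f, hM.1.free, (hfree.of_dvd hf₁f).free, ?_, ?_⟩
    · refine K68.GenFreeRed.awayMap_finitePresentation φ hφ f I₀ (fun x hx => hI₀ hx) hfg ?_
      intro x hx
      obtain ⟨k, hk⟩ := hsat x hx
      obtain ⟨c, rfl⟩ := hf₁f
      refine ⟨k, ?_⟩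
      rw [mul_pow, mul_comm, mul_smul, Algebra.smul_def]
      exact I₀.mul_mem_left _ hk
    · have h := hM.2.finitePresentation hPS
      have e : algebraMap (MvPolynomial (Fin n) R) S (algebraMap R _ f) = algebraMap R S f :=
        φ.commutes f
      rw [e] at h
      exact h
  refine ⟨⋃ f ∈ {f : R | good f}, (PrimeSpectrum.basicOpen f : Set (PrimeSpectrum R)), ?_, ?_, ?_⟩
  · exact isOpen_biUnion fun f _ => (PrimeSpectrum.basicOpen f).isOpen
  · rw [PrimeSpectrum.isTopologicalBasis_basic_opens.dense_iff]
    rintro _ ⟨g, rfl⟩ hg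
    have hg0 : g ≠ 0 := by
      rintro rfl
      simp at hg
    obtain ⟨f, hf0, ⟨c, rfl⟩, hf⟩ := key g hg0
    have hne : (PrimeSpectrum.basicOpen (g * c) : Set (PrimeSpectrum R)).Nonempty := by
      rw [Set.nonempty_iff_ne_empty]
      intro h
      have h2 : PrimeSpectrum.basicOpen (g * c) = ⊥ := by
        ext1; exact h
      rw [PrimeSpectrum.basicOpen_eq_bot_iff] at h2
      exact hf0 h2.eq_zero
    obtain ⟨x, hx⟩ := hne
    refine ⟨x, ?_, Set.mem_biUnion (x := g * c) hf hx⟩
    have := PrimeSpectrum.basicOpen_mul_le_left g c hx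
    exact this
  · intro u hu
    obtain ⟨f, hf, hu⟩ := Set.mem_iUnion₂.mp hu
    exact ⟨f, hu, Set.subset_biUnion_of_mem (u := fun f : R =>
      (PrimeSpectrum.basicOpen f : Set (PrimeSpectrum R))) hf, hf⟩

end Groth.Agent.S9158
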