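import Groth.Statements.S9163
-- import your own Groth.Agent.* helpers here

set_option autoImplicit false
universe u
open CAlg

namespace Groth.Agent.S9163

/-- If S is integral over R, then any finitely many elements of R and of S lie in a pair R₀ ⊆ R, S₀ ⊆ S
with R₀ a finite type ℤ-subalgebra, S₀ an R₀-subalgebra of S, and S₀ finite as an R₀-module; so R →
S is the directed colimit of finite maps between finite type ℤ-algebras. -/
theorem result (R S : Type u) [CommRing R] [CommRing S] [Algebra R S]
    [Algebra.IsIntegral R S] (E : Finset R) (F : Finset S) :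
    ∃ (R₀ : Subalgebra ℤ R) (S₀ : Subalgebra R₀ S), Algebra.FiniteType ℤ R₀ ∧ (E : Set R) ⊆ R₀ ∧
      (F : Set S) ⊆ S₀ ∧ Module.Finite R₀ S₀ := by
  classical
  have h : ∀ s : S, ∃ p : Polynomial R, p.Monic ∧ Polynomial.eval₂ (algebraMap R S) s p = 0 :=
    fun s => Algebra.IsIntegral.isIntegral (R := R) s
  choose p hp hps using h
  let G : Finset R := E ∪ F.biUnion (fun s => (p s).coeffs)
  let R₀ : Subalgebra ℤ R := Algebra.adjoin ℤ (G : Set R)
  have hG : (G : Set R) ⊆ R₀ := Algebra.subset_adjoin
  refine ⟨R₀, Algebra.adjoin R₀ (F : Set S), ?_, ?_, Algebra.subset_adjoin, ?_⟩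
  · exact (Subalgebra.fg_iff_finiteType R₀).mp ⟨G, rfl⟩
  · exact fun x hx => hG (by simp only [G, Finset.coe_union]; exact Or.inl hx)
  · have hint : ∀ s ∈ F, IsIntegral R₀ s := by
      intro s hs
      have hl : p s ∈ Polynomial.lifts (algebraMap R₀ R) := by
        rw [Polynomial.lifts_iff_coeff_lifts]
        intro n
        by_cases hn : (p s).coeff n = 0
        · rw [hn]; exact ⟨0, map_zero _⟩
        · refine ⟨⟨(p s).coeff n, hG ?_⟩, rfl⟩
          simp only [G, Finset.coe_union, Finset.coe_biUnion]
          exact Or.inr (Set.mem_biUnion hs (Polynomial.coeff_mem_coeffs hn))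
      obtain ⟨q, hq, -, hqm⟩ := Polynomial.lifts_and_natDegree_eq_and_monic hl (hp s)
      refine ⟨q, hqm, ?_⟩
      rw [← hps s, ← hq, Polynomial.eval₂_map]
      rfl
    have : (Algebra.adjoin R₀ (F : Set S)).toSubmodule.FG := fg_adjoin_of_finite F.finite_toSet hint
    exact Module.Finite.iff_fg.mpr this

end Groth.Agent.S9163
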