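import Groth.Statements.S9164
-- import your own Groth.Agent.* helpers here
import Groth.Agent.IntTh.K712.Lattice

set_option autoImplicit false
universe u
open CAlg

namespace Groth.Agent.S9164

/-- Let R be a one-dimensional Noetherian local domain with fraction field K and V a finite-dimensional
K-vector space; a lattice is a finitely generated R-submodule of V spanning V over K. (1) For a
lattice M and an R-submodule M' ⊇ M: M' is a lattice iff M'/M has finite length over R iff M' is
finitely generated. (2) For a lattice M and M' ⊆ M: M' is a lattice iff M/M' has finite length. (3)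
The intersection of two lattices is a lattice. (The published statement also asserts that the sum M
+ M' of two lattices is a lattice and two identities between lengths of quotients of nested
lattices; this row states (1), (2) and the intersection half of (3).) -/
theorem result (R K V : Type u) [CommRing R] [IsDomain R]
    [IsNoetherianRing R] [IsLocalRing R] (hdim : ringKrullDim R = 1) [Field K] [Algebra R K]
    [IsFractionRing R K] [AddCommGroup V] [Module K V] [Module R V] [IsScalarTower R K V]
    [FiniteDimensional K V] (M : Submodule R V) [Submodule.IsLattice K M] :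
    (∀ M' : Submodule R V, M ≤ M' →
        (Submodule.IsLattice K M' ↔ Module.length R (M' ⧸ Submodule.comap M'.subtype M) ≠ ⊤) ∧
          (Submodule.IsLattice K M' ↔ M'.FG)) ∧
      (∀ M' : Submodule R V, M' ≤ M →
        (Submodule.IsLattice K M' ↔ Module.length R (M ⧸ Submodule.comap M.subtype M') ≠ ⊤)) ∧
      ∀ M' : Submodule R V, Submodule.IsLattice K M' → Submodule.IsLattice K (M ⊓ M') := by
  have hK1 : Ring.KrullDimLE 1 R := by
    rw [Ring.KrullDimLE, Order.krullDimLE_iff]
    exact hdim.le
  -- a module of finite length is killed by a nonzero element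
  have hkill : ∀ (Q : Type u) [AddCommGroup Q] [Module R Q], Module.length R Q ≠ ⊤ →
      ∃ b : R, b ≠ 0 ∧ ∀ x : Q, b • x = 0 := by
    intro Q _ _ hQ
    obtain ⟨hN, hA⟩ := isFiniteLength_iff_isNoetherian_isArtinian.mp (Module.length_ne_top_iff.mp hQ)
    obtain ⟨a, ham, ha0⟩ : ∃ a ∈ IsLocalRing.maximalIdeal R, a ≠ 0 := by
      by_contra hcon
      push Not at hcon
      have h1 : IsLocalRing.maximalIdeal R = ⊥ := (Submodule.eq_bot_iff _).mpr hcon
      have h2 : IsField R := IsLocalRing.isField_iff_maximalIdeal_eq.mpr h1
      letI := h2.toField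
      rw [ringKrullDim_eq_zero_of_field] at hdim
      exact absurd hdim (by norm_num)
    let F : ℕ →o (Submodule R Q)ᵒᵈ :=
      ⟨fun n => OrderDual.toDual ((Ideal.span {a ^ n}) • (⊤ : Submodule R Q)), by
        intro i j hij
        change (Ideal.span {a ^ j}) • (⊤ : Submodule R Q) ≤ (Ideal.span {a ^ i}) • (⊤ : Submodule R Q)
        refine Submodule.smul_mono_left ?_
        rw [Ideal.span_singleton_le_span_singleton]
        exact pow_dvd_pow _ hij⟩
    obtain ⟨n, hn⟩ := IsArtinian.monotone_stabilizes F
    have h3 : (Ideal.span {a ^ n}) • (⊤ : Submodule R Q) =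
        (Ideal.span {a ^ (n + 1)}) • (⊤ : Submodule R Q) := hn (n + 1) (Nat.le_succ n)
    have h4 : (Ideal.span {a ^ n}) • (⊤ : Submodule R Q) = ⊥ := by
      refine Submodule.eq_bot_of_le_smul_of_le_jacobson_bot (IsLocalRing.maximalIdeal R) _
        (IsNoetherian.noetherian _) ?_ (IsLocalRing.maximalIdeal_le_jacobson _)
      conv_lhs => rw [h3]
      rw [← Submodule.smul_assoc]
      refine Submodule.smul_mono_left ?_
      rw [Ideal.span_singleton_le_iff_mem, smul_eq_mul, pow_succ']
      exact Ideal.mul_mem_mul ham (Ideal.mem_span_singleton_self _)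
    refine ⟨a ^ n, pow_ne_zero _ ha0, fun x => ?_⟩
    have h5 : a ^ n • x ∈ (Ideal.span {a ^ n}) • (⊤ : Submodule R Q) :=
      Submodule.smul_mem_smul (Ideal.mem_span_singleton_self _) trivial
    rw [h4] at h5
    exact h5
  have hfg : ∀ M' : Submodule R V, M ≤ M' → M'.FG → Submodule.IsLattice K M' := fun M' h h' =>
    Submodule.IsLattice.of_le_of_isLattice_of_fg K h h'
  refine ⟨fun M' hM' => ⟨⟨fun h => ?_, fun h => ?_⟩, ⟨fun h => h.fg, hfg M' hM'⟩⟩,
    fun M' hM' => ⟨fun h => ?_, fun h => ?_⟩, fun M' h => K712.Lattice.isLattice_inf M M'⟩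
  · exact K712.Lattice.len_ne_top (K := K) M' M h.fg
  · refine hfg M' hM' ?_
    obtain ⟨hN, -⟩ := isFiniteLength_iff_isNoetherian_isArtinian.mp (Module.length_ne_top_iff.mp h)
    have h1 : Module.Finite R (M' ⧸ Submodule.comap M'.subtype M) := inferInstance
    have h2 : Module.Finite R (Submodule.comap M'.subtype M) :=
      Module.Finite.equiv (Submodule.comapSubtypeEquivOfLe hM').symm
    have h3 : Module.Finite R M' := Module.Finite.of_submodule_quotient (Submodule.comap M'.subtype M)
    exact Module.Finite.iff_fg.mp h3
  · exact K712.Lattice.len_ne_top (K := K) M M' (Submodule.IsLattice.fg)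
  · obtain ⟨b, hb0, hb⟩ := hkill _ h
    refine K712.Lattice.isLattice_of_smul_mem ?_ fun v => ?_
    · have : IsNoetherian R ↥M' := isNoetherian_of_le hM'
      rw [← Module.Finite.iff_fg]
      infer_instance
    · obtain ⟨a, ha, hav⟩ := K712.Lattice.exists_smul_mem (K := K) M v
      refine ⟨b * a, mul_ne_zero hb0 ha, ?_⟩
      have h1 := hb (Submodule.Quotient.mk ⟨a • v, hav⟩)
      rw [← Submodule.Quotient.mk_smul, Submodule.Quotient.mk_eq_zero, Submodule.mem_comap] at h1
      rw [mul_smul]
      exact h1

end Groth.Agent.S9164
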