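import Groth.Statements.S9166
-- import your own Groth.Agent.* helpers here
import Groth.Agent.Flat2D.NilpAlg
import Groth.Agent.Flat2G.ZMTAlg
import Mathlib.RingTheory.FinitePresentation
import Mathlib.RingTheory.Nakayama

set_option autoImplicit false
universe u
open CAlg

namespace Groth.Agent.S9166

/-- Let I be an ideal of a ring R, S → S' a surjective homomorphism of R-algebras with S of finite type
and S' of finite presentation over R, and q a prime of S containing IS. Assume S'_q is flat over R
and that S_q/IS_q → S'_q/IS'_q is an isomorphism, which for a surjection says: every element of the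
kernel of S → S' maps into I·S_q. Then for some g ∉ q the localized map S_g → S'_g is bijective. -/
theorem result (R S S' : Type u) [CommRing R] [CommRing S]
    [CommRing S'] [Algebra R S] [Algebra R S'] [Algebra.FiniteType R S] [Algebra.FinitePresentation R S']
    (I : Ideal R) (f : S →ₐ[R] S') (hf : Function.Surjective f) (q : Ideal S) [q.IsPrime]
    (hq : I.map (algebraMap R S) ≤ q)
    (hker : ∀ j : S, f j = 0 →
      algebraMap S (Localization.AtPrime q) j ∈ I.map (algebraMap R (Localization.AtPrime q)))
    (hflat : letI : Module S S' := f.toRingHom.toModule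
      Module.Flat R (LocalizedModule q.primeCompl S')) :
    ∃ g : S, g ∉ q ∧ Function.Bijective (Localization.awayMap f.toRingHom g) := by
  classical
  letI : Module S S' := f.toRingHom.toModule
  have htower : IsScalarTower R S S' := ⟨fun a b c => by
    change f (a • b) * c = a • (f b * c)
    rw [map_smul, smul_mul_assoc]⟩
  -- the kernel is finitely generated
  have hJ : (RingHom.ker f.toRingHom).FG := by
    have hft : Algebra.FiniteType R S := inferInstance
    obtain ⟨n, g, hg⟩ := Algebra.FiniteType.iff_quotient_mvPolynomial''.mp hft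
    have h1 := Algebra.FinitePresentation.ker_fg_of_mvPolynomial (f.comp g) (hf.comp hg)
    have h2 : RingHom.ker f.toRingHom =
        (RingHom.ker (f.comp g).toRingHom).map g.toRingHom := by
      apply le_antisymm
      · intro x hx
        obtain ⟨y, rfl⟩ := hg x
        exact Ideal.mem_map_of_mem g.toRingHom hx
      · rw [Ideal.map_le_iff_le_comap]
        intro x hx
        exact hx
    rw [h2]
    exact h1.map _
  let Sq := Localization.AtPrime q
  let N := LocalizedModule q.primeCompl S'
  let f' : S →ₗ[S] S' :=
    { toFun := f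
      map_add' := map_add f
      map_smul' := fun a b => map_mul f a b }
  let φ : Sq →ₗ[S] N := IsLocalizedModule.map q.primeCompl (Algebra.linearMap S Sq)
    (LocalizedModule.mkLinearMap q.primeCompl S') f'
  have hφs : Function.Surjective φ := IsLocalizedModule.map_surjective q.primeCompl _ _ f' hf
  have hφ : ∀ s : S, φ (algebraMap S Sq s) = LocalizedModule.mkLinearMap q.primeCompl S' (f s) :=
    fun s => IsLocalizedModule.map_apply q.primeCompl (Algebra.linearMap S Sq)
      (LocalizedModule.mkLinearMap q.primeCompl S') f' s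
  let K : Ideal Sq := (RingHom.ker f.toRingHom).map (algebraMap S Sq)
  have hker1 : ∀ x : Sq, φ x = 0 → x ∈ K := by
    intro x hx
    obtain ⟨a, s, rfl⟩ := IsLocalization.exists_mk'_eq q.primeCompl x
    have h1 : φ (algebraMap S Sq a) = 0 := by
      have : algebraMap S Sq a = (s : S) • IsLocalization.mk' Sq a s := by
        rw [Algebra.smul_def, mul_comm, IsLocalization.mk'_spec]
      rw [this, map_smul, hx, smul_zero]
    rw [hφ] at h1
    obtain ⟨u, hu⟩ := (IsLocalizedModule.eq_zero_iff q.primeCompl
      (LocalizedModule.mkLinearMap q.primeCompl S')).mp h1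
    have h2 : (u : S) * a ∈ RingHom.ker f.toRingHom := by
      rw [RingHom.mem_ker]
      change f ((u : S) * a) = 0
      rw [map_mul]
      exact hu
    have h3 : IsLocalization.mk' Sq a s = IsLocalization.mk' Sq 1 (u * s) *
        algebraMap S Sq ((u : S) * a) := by
      have h4 := IsLocalization.mk'_spec Sq (1 : S) (u * s)
      rw [map_one] at h4
      rw [IsLocalization.mk'_eq_iff_eq_mul]
      rw [Submonoid.coe_mul, map_mul] at h4
      rw [map_mul]
      linear_combination (-algebraMap S Sq a) * h4
    rw [h3]
    exact Ideal.mul_mem_left _ _ (Ideal.mem_map_of_mem _ h2)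
  have hker2 : ∀ x ∈ K, φ x = 0 := by
    intro x hx
    refine Submodule.span_induction (p := fun x _ => φ x = 0) ?_ (map_zero φ) ?_ ?_ hx
    · rintro _ ⟨j, hj, rfl⟩
      have : f j = 0 := hj
      rw [hφ, this, map_zero]
    · intro x y _ _ hx hy
      rw [map_add, hx, hy, add_zero]
    · intro a x _ hx
      obtain ⟨b, s, rfl⟩ := IsLocalization.exists_mk'_eq q.primeCompl a
      have h1 : (s : S) • φ (IsLocalization.mk' Sq b s • x) = 0 := by
        rw [← map_smul]
        have : (s : S) • (IsLocalization.mk' Sq b s • x) = b • x := by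
          rw [smul_eq_mul, Algebra.smul_def, Algebra.smul_def, ← mul_assoc,
            mul_comm (algebraMap S Sq s), IsLocalization.mk'_spec]
        rw [this, map_smul, hx, smul_zero]
      exact IsLocalizedModule.smul_injective (LocalizedModule.mkLinearMap q.primeCompl S') s
        (h1.trans (smul_zero _).symm)
  have hKI : K ≤ I.map (algebraMap R Sq) := by
    rw [Ideal.map_le_iff_le_comap]
    intro j hj
    exact hker j hj
  have hflat' : Module.Flat R N := hflat
  have h4 := Groth.Agent.Flat2D.NilpAlg.ker_inf_smul_top I (φ.restrictScalars R) hφs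
  have h5 : K ≤ (IsLocalRing.maximalIdeal Sq) • K := by
    intro x hx
    have hx1 : x ∈ LinearMap.ker (φ.restrictScalars R) ⊓ I • ⊤ := by
      refine ⟨hker2 x hx, ?_⟩
      rw [Ideal.smul_top_eq_map]
      exact hKI hx
    have hx2 := h4 hx1
    refine Submodule.smul_induction_on hx2 ?_ ?_
    · intro r hr n hn
      have : r • n = (algebraMap R Sq r) • n := by rw [algebraMap_smul]
      rw [this]
      refine Submodule.smul_mem_smul ?_ (hker1 n hn)
      rw [IsScalarTower.algebraMap_apply R S Sq, ← Localization.AtPrime.map_eq_maximalIdeal]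
      exact Ideal.mem_map_of_mem _ (hq (Ideal.mem_map_of_mem _ hr))
    · intro x y hx hy
      exact Submodule.add_mem _ hx hy
  have h6 : K = ⊥ := Submodule.eq_bot_of_le_smul_of_le_jacobson_bot
    (IsLocalRing.maximalIdeal Sq) K (hJ.map _) h5 (IsLocalRing.maximalIdeal_le_jacobson _)
  have h7 : ∀ j ∈ RingHom.ker f.toRingHom, ∃ u : q.primeCompl, (u : S) * j = 0 := by
    intro j hj
    have h8 : algebraMap S Sq j ∈ K := Ideal.mem_map_of_mem _ hj
    rw [h6, Ideal.mem_bot] at h8
    exact (IsLocalization.map_eq_zero_iff q.primeCompl Sq j).mp h8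
  obtain ⟨t, ht⟩ := hJ
  have h9 : ∀ j : S, ∃ u : q.primeCompl, j ∈ t → (u : S) * j = 0 := by
    intro j
    by_cases hj : j ∈ t
    · obtain ⟨u, hu⟩ := h7 j (ht ▸ Ideal.subset_span hj)
      exact ⟨u, fun _ => hu⟩
    · exact ⟨1, fun h => absurd h hj⟩
  choose u hu using h9
  have hgJ : ∀ j ∈ RingHom.ker f.toRingHom, ((∏ j ∈ t, u j : q.primeCompl) : S) * j = 0 := by
    intro j hj
    rw [← ht] at hj
    refine Submodule.span_induction
      (p := fun j _ => ((∏ j ∈ t, u j : q.primeCompl) : S) * j = 0) ?_ (mul_zero _) ?_ ?_ hj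
    · intro j hj
      rw [← Finset.prod_erase_mul _ _ hj, Submonoid.coe_mul, mul_assoc, hu j hj, mul_zero]
    · intro x y _ _ hx hy
      rw [mul_add, hx, hy, add_zero]
    · intro a x _ hx
      rw [smul_eq_mul, mul_left_comm, hx, mul_zero]
  refine ⟨((∏ j ∈ t, u j : q.primeCompl) : S), (∏ j ∈ t, u j : q.primeCompl).2, ?_⟩
  refine Groth.Agent.Flat2G.ZMTAlg.awayMap_bijective f.toRingHom hf _ ?_
  intro x hx
  exact ⟨1, by rw [pow_one]; exact hgJ x hx⟩

end Groth.Agent.S9166
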