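import Groth.Statements.S9167
-- import your own Groth.Agent.* helpers here
import Groth.Agent.CAlg.K69.FPLift
import Mathlib.Algebra.Module.LocalizedModule.Basic

set_option autoImplicit false
universe u
open CAlg

namespace Groth.Agent.S9167

/-- With R' = S⁻¹(R/I), every finitely presented R'-module is of the form S⁻¹(M/IM) for some finitely
presented R-module M. -/
theorem result (R : Type u) [CommRing R] (I : Ideal R)
    (S : Submonoid R) (M' : Type u) [AddCommGroup M']
    [Module (Localization (S.map (Ideal.Quotient.mk I))) M']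
    [Module.FinitePresentation (Localization (S.map (Ideal.Quotient.mk I))) M'] :
    ∃ (M : Type u) (_ : AddCommGroup M) (_ : Module R M), Module.FinitePresentation R M ∧
      Nonempty (LocalizedModule (S.map (Ideal.Quotient.mk I)) (M ⧸ (I • ⊤ : Submodule R M))
        ≃ₗ[Localization (S.map (Ideal.Quotient.mk I))] M') := by
  letI : Module (R ⧸ I) M' :=
    Module.compHom M' (algebraMap (R ⧸ I) (Localization (S.map (Ideal.Quotient.mk I))))
  have : IsScalarTower (R ⧸ I) (Localization (S.map (Ideal.Quotient.mk I))) M' := ⟨fun a b x => by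
    rw [Algebra.smul_def, mul_smul]; rfl⟩
  obtain ⟨M₀, _, _, f, hfp, hf⟩ := Groth.Agent.CalgB.EssFP.exists_module_model (M := M')
    (B := Localization (S.map (Ideal.Quotient.mk I))) (S.map (Ideal.Quotient.mk I))
  obtain ⟨M, _, _, hM, ⟨e⟩⟩ := K69.FPLift.exists_quotient_lift I M₀
  refine ⟨M, inferInstance, inferInstance, hM, ⟨?_⟩⟩
  have h1 : IsLocalizedModule (S.map (Ideal.Quotient.mk I)) (f.comp e.toLinearMap) :=
    IsLocalizedModule.of_linearEquiv_right _ _ _
  exact (IsLocalizedModule.iso (S.map (Ideal.Quotient.mk I))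
    (f.comp e.toLinearMap)).extendScalarsOfIsLocalization (S.map (Ideal.Quotient.mk I))
      (Localization (S.map (Ideal.Quotient.mk I)))

end Groth.Agent.S9167
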