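import Groth.Statements.S9168
-- import your own Groth.Agent.* helpers here
import Groth.Agent.CAlg.K69.LocSub

set_option autoImplicit false
universe u
open CAlg

namespace Groth.Agent.S9168

/-- For a local homomorphism of local rings R → S and finite subsets E ⊆ R, F ⊆ S there are local
subrings R₀ ⊆ R and S₀ ⊆ S containing E and F, with R → S mapping R₀ into S₀, such that the
inclusions and the induced map R₀ → S₀ are local homomorphisms, R₀ is essentially of finite type
over ℤ and S₀ is essentially of finite type over R₀. (So R → S is the directed colimit of such R₀ →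
S₀.) -/
theorem result (R S : Type u) [CommRing R] [CommRing S] [IsLocalRing R]
    [IsLocalRing S] [Algebra R S] [IsLocalHom (algebraMap R S)] (E : Finset R) (F : Finset S) :
    ∃ (R₀ : Subring R) (S₀ : Subring S) (h : ∀ x ∈ R₀, algebraMap R S x ∈ S₀),
      (E : Set R) ⊆ R₀ ∧ (F : Set S) ⊆ S₀ ∧ ∃ (_ : IsLocalRing R₀) (_ : IsLocalRing S₀),
        IsLocalHom R₀.subtype ∧ IsLocalHom S₀.subtype ∧
          IsLocalHom ((algebraMap R S).restrict R₀ S₀ h) ∧
          (algebraMap ℤ R₀).EssFiniteType ∧ ((algebraMap R S).restrict R₀ S₀ h).EssFiniteType := by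
  let R₁ : Subalgebra ℤ R := K69.LocSub.loc (Algebra.adjoin ℤ (E : Set R))
  let R₀ : Subring R := R₁.toSubring
  let S₁ : Subalgebra R₀ S := K69.LocSub.loc (Algebra.adjoin R₀ (F : Set S))
  let S₀ : Subring S := S₁.toSubring
  have h : ∀ x ∈ R₀, algebraMap R S x ∈ S₀ := fun x hx => S₁.algebraMap_mem ⟨x, hx⟩
  have hR : IsLocalHom R₀.subtype := ⟨fun x hx => K69.LocSub.isUnit_of_isUnit (k := ℤ) x hx⟩
  have hS : IsLocalHom S₀.subtype := ⟨fun x hx => K69.LocSub.isUnit_of_isUnit (k := R₀) x hx⟩
  refine ⟨R₀, S₀, h, fun x hx => K69.LocSub.le_loc _ (Algebra.subset_adjoin hx),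
    fun x hx => K69.LocSub.le_loc _ (Algebra.subset_adjoin hx), R₀.subtype.domain_isLocalRing,
    S₀.subtype.domain_isLocalRing, hR, hS, ?_, ?_, ?_⟩
  · refine ⟨fun x hx => ?_⟩
    apply hR.map_nonunit
    have h1 : IsUnit (algebraMap R S (x : R)) := hx.map S₀.subtype
    exact (isUnit_map_iff (algebraMap R S) (x : R)).mp h1
  · exact RingHom.essFiniteType_algebraMap.mpr (K69.LocSub.essFiniteType (k := ℤ) E)
  · exact RingHom.essFiniteType_algebraMap.mpr (K69.LocSub.essFiniteType (k := R₀) F)

end Groth.Agent.S9168
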