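import Groth.Statements.S9169
import Groth.Agent.Synt.K563.SynNhd

set_option autoImplicit false
universe u
open Synt

namespace Groth.Agent.S9169

open TensorProduct in
/-- Let R → S be a ring map and q a prime of S lying over p; write Q for the prime of the fibre ring
κ(p) ⊗ S that pulls back to q. Equivalent: (1) some basic open neighbourhood S_g of q is syntomic
over R; (2) some S_g is isomorphic over R to a relative global complete intersection; (3) some S_g
is of finite presentation over R, the local ring S_q is flat over R (equivalently over R_p), and the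
fibre local ring (κ(p) ⊗ S)_Q is a complete intersection over κ(p). Stated as (1) ↔ (2) and (1) ↔
(3). -/
theorem result (R S : Type u) [CommRing R] [CommRing S] [Algebra R S]
    (p : Ideal R) [p.IsPrime] (q : Ideal S) [q.IsPrime] [q.LiesOver p]
    (Q : Ideal (p.Fiber S)) [Q.IsPrime]
    (hQ : Q.comap (Algebra.TensorProduct.includeRight.toRingHom) = q) :
    ((∃ g : S, g ∉ q ∧ Synt.IsSyntomic R (Localization.Away g)) ↔
        ∃ g : S, g ∉ q ∧ ∃ (n c : ℕ) (F : Fin c → MvPolynomial (Fin n) R), Synt.IsRelGCI R n c F ∧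
          Nonempty (Localization.Away g ≃ₐ[R] Synt.RelGCIRing R n c F)) ∧
      ((∃ g : S, g ∉ q ∧ Synt.IsSyntomic R (Localization.Away g)) ↔
        ∃ g : S, g ∉ q ∧ Algebra.FinitePresentation R (Localization.Away g) ∧
          Module.Flat R (Localization.AtPrime q) ∧
          Synt.IsCIOver p.ResidueField (Localization.AtPrime Q)) := by
  have hctr : Groth.Agent.Ega4C.FibreTower.ctr p Q = q := hQ
  have hloc : IsLocalRing (EGA4.FibLocRing R S q) := K563.SynNhd.isLocalRing_fib q
  have h1 : (∃ g : S, g ∉ q ∧ Synt.IsSyntomic R (Localization.Away g)) ↔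
      ∃ g ∉ q, Synt.IsSyntomic R (Localization.Away g) := Iff.rfl
  refine ⟨⟨fun h => ?_, ?_⟩, ⟨fun h => ?_, ?_⟩⟩
  · obtain ⟨⟨g, hg, h2⟩, h3, h4⟩ := (K563.SynNhd.exists_isSyntomic_iff q).mp h
    obtain ⟨a, ha, n, c, F, -, hF, he⟩ := K563.SynNhd.exists_relGCI_of_away q g hg h4
    exact ⟨a, ha, n, c, F, hF, he⟩
  · rintro ⟨g, hg, n, c, F, hF, ⟨e⟩⟩
    exact ⟨g, hg, K563.SynNhd.isSyntomic_of_relGCI hF e⟩
  · obtain ⟨g, hg, hs⟩ := h
    obtain ⟨-, h3, h4⟩ := (K563.SynNhd.exists_isSyntomic_iff q).mp ⟨g, hg, hs⟩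
    refine ⟨g, hg, hs.2.1, h3, ?_⟩
    have hg' : ((1 : p.ResidueField) ⊗ₜ[R] g : p.Fiber S) ∉ Q := by
      intro hmem
      apply hg
      rw [← hQ]
      exact hmem
    obtain ⟨Q', hQ', hQQ'⟩ := K563.SynNhd.exists_prime_away _ Q hg'
    obtain ⟨e⟩ := K563.SynNhd.nonempty_atPrime_away _ Q' Q hQQ'
    have hfp : Algebra.FinitePresentation R (Localization.Away g) := hs.2.1
    have hft : Algebra.FiniteType p.ResidueField (p.Fiber (Localization.Away g)) := inferInstance
    have hft2 : Algebra.FiniteType p.ResidueField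
        (Localization.Away ((1 : p.ResidueField) ⊗ₜ[R] g : p.Fiber S)) :=
      hft.equiv (K562.Rel.fiberAway p g)
    have hess : Algebra.EssFiniteType p.ResidueField (Localization.AtPrime Q') := by
      have : Algebra.EssFiniteType (Localization.Away ((1 : p.ResidueField) ⊗ₜ[R] g : p.Fiber S))
        (Localization.AtPrime Q') := Algebra.EssFiniteType.of_isLocalization _ Q'.primeCompl
      exact Algebra.EssFiniteType.comp p.ResidueField
        (Localization.Away ((1 : p.ResidueField) ⊗ₜ[R] g : p.Fiber S)) _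
    exact K563.CIOver.isCIOver_iff.mpr
      ⟨(Algebra.EssFiniteType.iff_of_algEquiv (e.restrictScalars p.ResidueField)).mpr hess,
        (K563.SynNhd.isCI_atPrime_fiber_iff p Q q hctr).mpr h4⟩
  · rintro ⟨g, hg, h2, h3, h4⟩
    refine (K563.SynNhd.exists_isSyntomic_iff q).mpr ⟨⟨g, hg, h2⟩, h3, ?_⟩
    exact (K563.SynNhd.isCI_atPrime_fiber_iff p Q q hctr).mp (K563.CIOver.isCI_of_isCIOver h4)

end Groth.Agent.S9169
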