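import Groth.Statements.S9171
import Groth.Agent.Synt.K562.FieldCI3

set_option autoImplicit false
universe u
open Synt

namespace Groth.Agent.S9171

open K562.FieldCI K562.FieldDim Groth.Agent.VarietyB.DimRing

theorem aux (k : Type u) [Field k] (n : ℕ)
    (I : Ideal (MvPolynomial (Fin n) k)) (q : Ideal (MvPolynomial (Fin n) k ⧸ I)) [q.IsPrime]
    (Q : Ideal (MvPolynomial (Fin n) k)) [Q.IsPrime] (hQ : Q = q.comap (Ideal.Quotient.mk I)) (c : ℕ)
    (hc : (c : ℕ∞) + q.height = Q.height) :
    ((∃ g : MvPolynomial (Fin n) k ⧸ I, g ∉ q ∧ Synt.IsGlobalCI k (Localization.Away g)) ↔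
        ∃ s : Finset (Localization.AtPrime Q), s.card = c ∧
          Ideal.span (s : Set _) =
            I.map (algebraMap _ (Localization.AtPrime Q))) ∧
      ((∃ g : MvPolynomial (Fin n) k ⧸ I, g ∉ q ∧ Synt.IsGlobalCI k (Localization.Away g)) ↔
        ∃ rs : List (Localization.AtPrime Q),
          RingTheory.Sequence.IsRegular (Localization.AtPrime Q) rs ∧
          Ideal.ofList rs =
            I.map (algebraMap _ (Localization.AtPrime Q))) := by
  classical
  have hIQ : I ≤ Q := by
    rw [hQ]
    intro x hx
    rw [Ideal.mem_comap, Ideal.Quotient.eq_zero_iff_mem.mpr hx]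
    exact zero_mem _
  have hqQ : Q.map (Ideal.Quotient.mk I) = q := by
    rw [hQ, Ideal.map_comap_of_surjective _ Ideal.Quotient.mk_surjective]
  have hdimq : ringKrullDim (Localization.AtPrime Q ⧸ I.map (algebraMap _ (Localization.AtPrime Q))) =
      (q.height : WithBot ℕ∞) := by
    rw [ringKrullDim_atPrime_quotient _ _ hIQ, hqQ]
  have hImax : I.map (algebraMap _ (Localization.AtPrime Q)) ≤
      IsLocalRing.maximalIdeal (Localization.AtPrime Q) := by
    rw [← Localization.AtPrime.map_eq_maximalIdeal]
    exact Ideal.map_mono hIQ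
  have hqtop : q.height ≠ ⊤ := Ideal.height_ne_top (Ideal.IsPrime.ne_top ‹_›)
  -- (A) → (C)
  have hAC : (∃ g : MvPolynomial (Fin n) k ⧸ I, g ∉ q ∧ Synt.IsGlobalCI k (Localization.Away g)) →
      ∃ rs : List (Localization.AtPrime Q),
          RingTheory.Sequence.IsRegular (Localization.AtPrime Q) rs ∧
          Ideal.ofList rs = I.map (algebraMap _ (Localization.AtPrime Q)) := by
    rintro ⟨g, hg, hgci⟩
    have disj : Disjoint (Submonoid.powers g : Set (MvPolynomial (Fin n) k ⧸ I)) q := by
      rw [Set.disjoint_left]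
      rintro _ ⟨m, rfl⟩ hm
      exact hg (Ideal.IsPrime.mem_of_pow_mem inferInstance m hm)
    have hprime : (q.map (algebraMap _ (Localization.Away g))).IsPrime :=
      IsLocalization.isPrime_of_isPrime_disjoint (Submonoid.powers g) _ _ inferInstance disj
    have h1 := isCI_atPrime_of_isGlobalCI k hgci (q.map (algebraMap _ (Localization.Away g)))
    rw [isCI_atPrime_comap_iff (Submonoid.powers g) (q.map (algebraMap _ (Localization.Away g))) q
      (IsLocalization.under_map_of_isPrime_disjoint (Submonoid.powers g) (Localization.Away g)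
        inferInstance disj).symm,
      Groth.Agent.S2842.isCompleteIntersection_iff_of_surjective
      (Localization.localRingHom Q q (Ideal.Quotient.mk I) hQ)
      (localRingHom_surjective _ _ _ hQ Ideal.Quotient.mk_surjective)] at h1
    obtain ⟨rs, hreg, hrs⟩ := h1
    rw [ker_localRingHom _ _ _ hQ Ideal.Quotient.mk_surjective, Ideal.mk_ker] at hrs
    exact ⟨rs, hreg, hrs⟩
  -- (C) → (A)
  have hCA : (∃ rs : List (Localization.AtPrime Q),
          RingTheory.Sequence.IsRegular (Localization.AtPrime Q) rs ∧
          Ideal.ofList rs = I.map (algebraMap _ (Localization.AtPrime Q))) →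
      (∃ g : MvPolynomial (Fin n) k ⧸ I, g ∉ q ∧ Synt.IsGlobalCI k (Localization.Away g)) := by
    rintro ⟨rs, hreg, hrs⟩
    obtain ⟨h, hhQ, hh⟩ := exists_isGlobalCI_away_of_isRegular k I Q hIQ rs hreg hrs
    exact ⟨Ideal.Quotient.mk I h, fun hm => hhQ (by rw [hQ]; exact hm), hh⟩
  -- (C) → (B)
  have hCB : (∃ rs : List (Localization.AtPrime Q),
          RingTheory.Sequence.IsRegular (Localization.AtPrime Q) rs ∧
          Ideal.ofList rs = I.map (algebraMap _ (Localization.AtPrime Q))) →
      ∃ s : Finset (Localization.AtPrime Q), s.card = c ∧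
          Ideal.span (s : Set _) = I.map (algebraMap _ (Localization.AtPrime Q)) := by
    rintro ⟨rs, hreg, hrs⟩
    have h1 := length_add_height k I Q hIQ rs hreg hrs
    rw [hqQ, ← hc] at h1
    have h2 : rs.length = c := by
      have := ENat.add_left_injective_of_ne_top hqtop h1
      exact_mod_cast this
    have hspan : Ideal.span (rs.toFinset : Set (Localization.AtPrime Q)) =
        I.map (algebraMap _ (Localization.AtPrime Q)) := by
      rw [← hrs, Ideal.ofList]
      congr 1
      ext x
      simp
    refine ⟨rs.toFinset, le_antisymm (h2 ▸ List.toFinset_card_le rs) ?_, hspan⟩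
    have h3 := ringKrullDim_le_ringKrullDim_quotient_add_card (R := Localization.AtPrime Q) rs.toFinset (by
      intro x hx
      have hx' : x ∈ I.map (algebraMap _ (Localization.AtPrime Q)) := by
        rw [← hspan]
        exact Ideal.subset_span hx
      rw [IsLocalRing.ringJacobson_eq_maximalIdeal]
      exact hImax hx')
    rw [hspan, hdimq, IsLocalization.AtPrime.ringKrullDim_eq_height Q, ← hc] at h3
    obtain ⟨b, hb⟩ : ∃ b : ℕ, q.height = b := ⟨q.height.toNat, (ENat.natCast_toNat hqtop).symm⟩
    rw [hb] at h3
    have h4 : c + b ≤ b + rs.toFinset.card := by exact_mod_cast h3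
    omega
  -- (B) → (C)
  have hBC : (∃ s : Finset (Localization.AtPrime Q), s.card = c ∧
          Ideal.span (s : Set _) = I.map (algebraMap _ (Localization.AtPrime Q))) →
      ∃ rs : List (Localization.AtPrime Q),
          RingTheory.Sequence.IsRegular (Localization.AtPrime Q) rs ∧
          Ideal.ofList rs = I.map (algebraMap _ (Localization.AtPrime Q)) := by
    rintro ⟨s, hs, hspan⟩
    have h1 : Ideal.ofList s.toList = I.map (algebraMap _ (Localization.AtPrime Q)) := by
      rw [← hspan, Ideal.ofList]
      congr 1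
      ext x
      simp
    refine ⟨s.toList, Groth.Agent.Models.CMSeq.isRegular_of_ringKrullDim_le _ ?_ ?_, h1⟩
    · intro x hx
      apply hImax
      rw [← h1]
      exact Ideal.subset_span hx
    · rw [h1, hdimq, IsLocalization.AtPrime.ringKrullDim_eq_height Q, ← hc, Finset.length_toList, hs, add_comm]
      exact le_of_eq rfl
  exact ⟨⟨fun h => hCB (hAC h), fun h => hCA (hBC h)⟩, ⟨hAC, hCA⟩⟩

/-- Let S = k[x_1, …, x_n]/I over a field k, q a prime of S, q' the corresponding prime of the
polynomial ring and c the integer with c + ht(q) = ht(q'). Equivalent: (1) S_g is a global complete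
intersection over k for some g ∉ q; (2) the extension of I to the local ring k[x]_{q'} is generated
by c elements; (5) that extension is generated by a regular sequence. Stated as (1) ↔ (2) and (1) ↔
(5). -/
theorem result (k : Type u) [Field k] (n : ℕ)
    (I : Ideal (MvPolynomial (Fin n) k)) (q : Ideal (MvPolynomial (Fin n) k ⧸ I)) [q.IsPrime] (c : ℕ)
    (hc : (c : ℕ∞) + q.height = (q.comap (Ideal.Quotient.mk I)).height) :
    ((∃ g : MvPolynomial (Fin n) k ⧸ I, g ∉ q ∧ Synt.IsGlobalCI k (Localization.Away g)) ↔
        ∃ s : Finset (Localization.AtPrime (q.comap (Ideal.Quotient.mk I))), s.card = c ∧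
          Ideal.span (s : Set _) =
            I.map (algebraMap _ (Localization.AtPrime (q.comap (Ideal.Quotient.mk I))))) ∧
      ((∃ g : MvPolynomial (Fin n) k ⧸ I, g ∉ q ∧ Synt.IsGlobalCI k (Localization.Away g)) ↔
        ∃ rs : List (Localization.AtPrime (q.comap (Ideal.Quotient.mk I))),
          RingTheory.Sequence.IsRegular (Localization.AtPrime (q.comap (Ideal.Quotient.mk I))) rs ∧
          Ideal.ofList rs =
            I.map (algebraMap _ (Localization.AtPrime (q.comap (Ideal.Quotient.mk I))))) := by
  exact aux k n I q _ rfl c hc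

end Groth.Agent.S9171
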