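import Groth.Statements.S9175
-- import your own Groth.Agent.* helpers here
import Groth.Agent.CAlg.K69.QFAffine2

set_option autoImplicit false
universe u
open CAlg

namespace Groth.Agent.S9175

/-- Let R → S be of finite type, q a prime of S over p, and Q the prime of the fibre ring κ(p) ⊗ S
pulling back to q. If Spec(κ(p) ⊗ S) has local dimension n at Q (the relative dimension of S over R
at q is n), then some S_g with g ∉ q admits an R-algebra map from the polynomial ring R[t_1, …, t_n]
which is of finite type and quasi-finite. -/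
theorem result (R S : Type u) [CommRing R] [CommRing S]
    [Algebra R S] [Algebra.FiniteType R S] (p : Ideal R) [p.IsPrime] (q : Ideal S) [q.IsPrime] [q.LiesOver p]
    (Q : PrimeSpectrum (p.Fiber S))
    (hQ : Q.asIdeal.comap (Algebra.TensorProduct.includeRight.toRingHom) = q) (n : ℕ)
    (hdim : FlatMor.localDim (PrimeSpectrum (p.Fiber S)) Q = (n : WithBot ℕ∞)) :
    ∃ g : S, g ∉ q ∧ ∃ φ : MvPolynomial (Fin n) R →ₐ[R] Localization.Away g,
      φ.toRingHom.FiniteType ∧ φ.toRingHom.QuasiFinite := by
  open Groth.Agent.CycB.TrdegAlg in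
  have hfin : trd (Ideal.quotientMap q (algebraMap R S) (Ideal.over_def q p).le) < Cardinal.aleph0 := by
    refine trd_quotientMap_lt_aleph0 (algebraMap R S) ?_ p q (Ideal.over_def q p).le
    exact RingHom.finiteType_algebraMap.mpr inferInstance
  obtain ⟨r, hr⟩ := Cardinal.lt_aleph0.mp hfin
  obtain ⟨g, φ, hg, -, hφ⟩ := K69.QFAffine.exists_quasiFinite p q n r Q hQ hdim hr
  refine ⟨g, hg, φ, ?_, hφ⟩
  have h : (φ.toRingHom.comp (algebraMap R (MvPolynomial (Fin n) R))).FiniteType := by
    have : φ.toRingHom.comp (algebraMap R (MvPolynomial (Fin n) R)) =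
      algebraMap R (Localization.Away g) := φ.comp_algebraMap
    rw [this]
    exact RingHom.finiteType_algebraMap.mpr inferInstance
  exact RingHom.FiniteType.of_comp_finiteType h

end Groth.Agent.S9175
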