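import Groth.Statements.S9176
-- import your own Groth.Agent.* helpers here
import Groth.Agent.Ega4fib.H172.FibDimConstr
import Groth.Agent.Dual.H319.FibDim
import Groth.Agent.Algz.K574.NisOps

set_option autoImplicit false
universe u
open CAlg

namespace Groth.Agent.S9176

/-- For a ring map R → S of finite presentation and n ≥ 0, the set of primes q of S whose fibre
Spec(κ(p) ⊗ S), p = q ∩ R, has local dimension at most n at the point over q is open and
quasi-compact in Spec S. -/
theorem result (R S : Type u) [CommRing R]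
    [CommRing S] [Algebra R S] [Algebra.FinitePresentation R S] (n : ℕ) :
    IsOpen {q : PrimeSpectrum S | ∀ Q : PrimeSpectrum ((q.asIdeal.under R).Fiber S),
        Q.asIdeal.comap (Algebra.TensorProduct.includeRight.toRingHom) = q.asIdeal →
          FlatMor.localDim (PrimeSpectrum ((q.asIdeal.under R).Fiber S)) Q ≤ (n : WithBot ℕ∞)} ∧
      IsCompact {q : PrimeSpectrum S | ∀ Q : PrimeSpectrum ((q.asIdeal.under R).Fiber S),
        Q.asIdeal.comap (Algebra.TensorProduct.includeRight.toRingHom) = q.asIdeal →
          FlatMor.localDim (PrimeSpectrum ((q.asIdeal.under R).Fiber S)) Q ≤ (n : WithBot ℕ∞)} := by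
  let φ : CommRingCat.of R ⟶ CommRingCat.of S := CommRingCat.ofHom (algebraMap R S)
  have hfp : φ.hom.FinitePresentation := RingHom.finitePresentation_algebraMap.mpr inferInstance
  have hE : {q : PrimeSpectrum S | ∀ Q : PrimeSpectrum ((q.asIdeal.under R).Fiber S),
        Q.asIdeal.comap (Algebra.TensorProduct.includeRight.toRingHom) = q.asIdeal →
          FlatMor.localDim (PrimeSpectrum ((q.asIdeal.under R).Fiber S)) Q ≤ (n : WithBot ℕ∞)} =
      {x : PrimeSpectrum S | FlatMor.fibreDimAt (AlgebraicGeometry.Spec.map φ) x ≤ n} := by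
    ext q
    simp only [Set.mem_setOf_eq]
    have key : ∀ Q : PrimeSpectrum ((q.asIdeal.under R).Fiber S),
        Q.asIdeal.comap (Algebra.TensorProduct.includeRight.toRingHom : S →+* _) = q.asIdeal →
          FlatMor.fibreDimAt (AlgebraicGeometry.Spec.map φ) q =
          FlatMor.localDim (PrimeSpectrum ((q.asIdeal.under R).Fiber S)) Q := fun Q hQ =>
      Groth.Agent.Dual.H319.FibDim.fibreDimAt_spec ⟨q.asIdeal.under R, inferInstance⟩ Q q hQ.symm
    constructor
    · intro h
      let P : PrimeSpectrum R := ⟨q.asIdeal.under R, inferInstance⟩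
      let Q := PrimeSpectrum.preimageEquivFiber R S P ⟨q, rfl⟩
      have hQ : Q.asIdeal.comap Algebra.TensorProduct.includeRight.toRingHom = q.asIdeal :=
        congrArg (fun z => z.1.asIdeal)
          ((PrimeSpectrum.preimageEquivFiber R S P).symm_apply_apply ⟨q, rfl⟩)
      rw [key Q hQ]
      exact h Q hQ
    · intro h Q hQ
      rw [← key Q hQ]
      exact h
  rw [hE]
  have hlft : AlgebraicGeometry.LocallyOfFiniteType (AlgebraicGeometry.Spec.map φ) := by
    rw [AlgebraicGeometry.HasRingHomProperty.Spec_iff (P := @AlgebraicGeometry.LocallyOfFiniteType)]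
    exact RingHom.FiniteType.of_finitePresentation hfp
  refine ⟨Groth.Agent.S0402.result (AlgebraicGeometry.Spec.map φ) n, ?_⟩
  have hc := Groth.Agent.Ega4fib.H172.FibDimConstr.isConstructible_fibreDimAt_le_Spec φ hfp n
  exact K574.Nis.isCompact_of_isConstructible (X := PrimeSpectrum S) hc

end Groth.Agent.S9176
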