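import Groth.Statements.S9177
-- import your own Groth.Agent.* helpers here
import Groth.Agent.CAlg.K69.DirLim

set_option autoImplicit false
universe u
open CAlg

namespace Groth.Agent.S9177

open TensorProduct in
/-- Let R = colim R_i be a directed colimit of A-algebras (compatible transition maps), B and C
A-algebras. (1) If B is of finite type over A, two A-algebra maps B → C whose base changes to R
coincide already have equal base changes to some R_i. (2) If C is of finite type over A and u : B →
C has surjective base change to R, then its base change to some R_i is surjective. (The A-algebra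
structure on R is through any stage R_l; it does not depend on l.) -/
theorem result {ι : Type u} [Preorder ι]
    [Nonempty ι] [IsDirectedOrder ι] (G : ι → Type u) [∀ i, CommRing (G i)]
    (f : ∀ i j, i ≤ j → G i →+* G j) [DirectedSystem G (fun i j h => f i j h)]
    (A : Type u) [CommRing A] [∀ i, Algebra A (G i)]
    (hf : ∀ i j (h : i ≤ j), (f i j h).comp (algebraMap A (G i)) = algebraMap A (G j)) (l : ι)
    (B C : Type u) [CommRing B] [CommRing C] [Algebra A B] [Algebra A C] :
    letI : Algebra A (Ring.DirectLimit G (fun i j h => f i j h)) :=
      ((Ring.DirectLimit.of G (fun i j h => f i j h) l).comp (algebraMap A (G l))).toAlgebra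
    (Algebra.FiniteType A B → ∀ u u' : B →ₐ[A] C,
        Algebra.TensorProduct.map (AlgHom.id A (Ring.DirectLimit G (fun i j h => f i j h))) u =
            Algebra.TensorProduct.map (AlgHom.id A (Ring.DirectLimit G (fun i j h => f i j h))) u' →
          ∃ i : ι, Algebra.TensorProduct.map (AlgHom.id A (G i)) u =
            Algebra.TensorProduct.map (AlgHom.id A (G i)) u') ∧
      (Algebra.FiniteType A C → ∀ u : B →ₐ[A] C,
        Function.Surjective
            (Algebra.TensorProduct.map (AlgHom.id A (Ring.DirectLimit G (fun i j h => f i j h))) u) →
          ∃ i : ι, Function.Surjective (Algebra.TensorProduct.map (AlgHom.id A (G i)) u)) := by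
  letI : Algebra A (Ring.DirectLimit G (fun i j h => f i j h)) :=
      ((Ring.DirectLimit.of G (fun i j h => f i j h) l).comp (algebraMap A (G l))).toAlgebra
  let f' : ∀ i j, i ≤ j → G i →ₐ[A] G j := fun i j h =>
    { toRingHom := f i j h
      commutes' := fun a => RingHom.congr_fun (hf i j h) a }
  have hds : DirectedSystem G (fun i j h => f' i j h) :=
    ⟨fun i x => DirectedSystem.map_self (f := fun i j h => f i j h) x,
      fun k j i hij hjk x => DirectedSystem.map_map (f := fun i j h => f i j h) hij hjk x⟩
  let ψ : ∀ i, G i →ₐ[A] (Ring.DirectLimit G (fun i j h => f i j h)) := fun i =>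
    { toRingHom := Ring.DirectLimit.of G (fun i j h => f i j h) i
      commutes' := fun a => by
        obtain ⟨k, h1, h2⟩ := exists_ge_ge i l
        change Ring.DirectLimit.of G (fun i j h => f i j h) i (algebraMap A (G i) a) =
          Ring.DirectLimit.of G (fun i j h => f i j h) l (algebraMap A (G l) a)
        rw [← Ring.DirectLimit.of_f (f := fun i j h => f i j h) h1,
          ← Ring.DirectLimit.of_f (f := fun i j h => f i j h) h2]
        congr 1
        exact (RingHom.congr_fun (hf i k h1) a).trans (RingHom.congr_fun (hf l k h2) a).symm }
  have hψ : ∀ i j (h : i ≤ j) x, ψ j (f' i j h x) = ψ i x := fun i j h x =>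
    Ring.DirectLimit.of_f (f := fun i j h => f i j h) h x
  have hs : ∀ r : Ring.DirectLimit G (fun i j h => f i j h), ∃ i x, ψ i x = r := fun r =>
    Ring.DirectLimit.exists_of r
  have hi : ∀ i x, ψ i x = 0 → ∃ (j : ι) (h : i ≤ j), f' i j h x = 0 := fun i x hx =>
    Ring.DirectLimit.of.zero_exact (f' := fun i j h => f i j h) hx
  exact ⟨fun hB u u' h => K69.DirLim.exists_eq f' ψ hψ hs hi u u' h,
    fun hC u h => K69.DirLim.exists_surjective f' ψ hψ hs hi u h⟩

end Groth.Agent.S9177
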