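import Groth.Statements.S9178
-- import your own Groth.Agent.* helpers here
import Groth.Agent.CAlg.K69.Conormal

set_option autoImplicit false
universe u
open CAlg

namespace Groth.Agent.S9178

/-- For ring maps A → B → C with A → C surjective, writing I = ker(A → C) and J = ker(B → C), the
sequence I/I² → J/J² → C ⊗_B Ω_{B/A} → 0 is exact. Stated: the image of I/I² in J/J² is exactly the
kernel of J/J² → C ⊗_B Ω_{B/A} (surjectivity of the latter map is the standard conormal sequence for
the surjection B → C). -/
theorem result (A B C : Type u) [CommRing A] [CommRing B]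
    [CommRing C] [Algebra A B] [Algebra B C] [Algebra A C] [IsScalarTower A B C]
    (hAC : Function.Surjective (algebraMap A C))
    (h : RingHom.ker (algebraMap A C) ≤ (RingHom.ker (algebraMap B C)).comap (Algebra.ofId A B)) :
    Function.Exact
      (Ideal.mapCotangent (RingHom.ker (algebraMap A C)) (RingHom.ker (algebraMap B C)) (Algebra.ofId A B) h)
      (KaehlerDifferential.kerCotangentToTensor A B C) := by
  intro x
  obtain ⟨⟨j, hj⟩, rfl⟩ := Ideal.toCotangent_surjective _ x
  rw [KaehlerDifferential.kerCotangentToTensor_toCotangent]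
  constructor
  · intro h0
    obtain ⟨i, hi, h1⟩ := K69.Conormal.exists_of_mem_L hAC
      (K69.Conormal.mem_L_of_one_tmul_D_eq_zero hAC hj h0)
    refine ⟨Ideal.toCotangent _ ⟨i, hi⟩, ?_⟩
    rw [Ideal.mapCotangent_toCotangent]
    symm
    rw [Ideal.toCotangent_eq]
    exact h1
  · rintro ⟨y, hy⟩
    obtain ⟨⟨i, hi⟩, rfl⟩ := Ideal.toCotangent_surjective _ y
    rw [Ideal.mapCotangent_toCotangent] at hy
    have h2 := KaehlerDifferential.kerCotangentToTensor_toCotangent A B C ⟨j, hj⟩
    rw [← hy, KaehlerDifferential.kerCotangentToTensor_toCotangent] at h2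
    rw [← h2]
    have h3 : KaehlerDifferential.D A B (Algebra.ofId A B i) = 0 :=
      Derivation.map_algebraMap (KaehlerDifferential.D A B) i
    rw [h3, TensorProduct.tmul_zero]

end Groth.Agent.S9178
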