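import Groth.Statements.S9179
-- import your own Groth.Agent.* helpers here
import Groth.Agent.Proet.Ind

set_option autoImplicit false
universe u
open CategoryTheory CategoryTheory.Limits
open CAlg

namespace Groth.Agent.S9179

/-- An R-algebra of finite type is the colimit of a filtered system of finitely presented R-algebras
whose transition maps are all surjective. -/
theorem result (R A : Type u) [CommRing R] [CommRing A]
    [Algebra R A] [Algebra.FiniteType R A] :
    ∃ (I : Type u) (_ : SmallCategory I) (_ : IsFiltered I) (D : I ⥤ Under (CommRingCat.of R))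
      (c : Cocone D) (_ : IsColimit c),
      (∀ i, (D.obj i).hom.hom.FinitePresentation) ∧
      (∀ (i j : I) (φ : i ⟶ j), Function.Surjective (D.map φ).right.hom) ∧
      Nonempty (c.pt ≅ Under.mk (CommRingCat.ofHom (algebraMap R A))) := by
  classical
  have hft : Algebra.FiniteType R A := inferInstance
  obtain ⟨n, f, hf⟩ := Algebra.FiniteType.iff_quotient_mvPolynomial''.mp hft
  let P : Type u := MvPolynomial (Fin n) R
  let I : Type u := {J : Ideal P // J.FG ∧ J ≤ RingHom.ker f.toRingHom}
  have hdir : IsDirectedOrder I := ⟨fun a b => ⟨⟨a.1 ⊔ b.1, Submodule.FG.sup a.2.1 b.2.1, sup_le a.2.2 b.2.2⟩,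
    le_sup_left (a := a.1) (b := b.1), le_sup_right (a := a.1) (b := b.1)⟩⟩
  have hne : Nonempty I := ⟨⟨⊥, Submodule.fg_bot, bot_le⟩⟩
  have hfil : IsFiltered I := inferInstance
  let D : I ⥤ Under (CommRingCat.of R) :=
    { obj := fun J => Under.mk (CommRingCat.ofHom (algebraMap R (P ⧸ J.1)))
      map := fun {J K} h => Under.homMk (CommRingCat.ofHom (Ideal.Quotient.factor (leOfHom h)))
        (by ext x; rfl)
      map_id := fun J => by
        ext x
        obtain ⟨x, rfl⟩ := Ideal.Quotient.mk_surjective x
        rfl
      map_comp := fun {J K L} h h' => by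
        ext x
        obtain ⟨x, rfl⟩ := Ideal.Quotient.mk_surjective x
        rfl }
  let c : Cocone D :=
    { pt := Under.mk (CommRingCat.ofHom (algebraMap R A))
      ι := { app := fun J => Under.homMk (CommRingCat.ofHom
              (Ideal.Quotient.lift J.1 f.toRingHom (fun a ha => J.2.2 ha)))
                (by
                  ext x
                  exact f.commutes x)
             naturality := fun J K h => by
              ext x
              obtain ⟨x, rfl⟩ := Ideal.Quotient.mk_surjective x
              rfl } }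
  obtain ⟨hc⟩ := Groth.Agent.Proet.Ind.isColimit_under D c (by
    intro x
    obtain ⟨y, hy⟩ := hf x
    exact ⟨hne.some, Ideal.Quotient.mk _ y, hy⟩) (by
    intro J x y hxy
    obtain ⟨x, rfl⟩ := Ideal.Quotient.mk_surjective x
    obtain ⟨y, rfl⟩ := Ideal.Quotient.mk_surjective y
    have h1 : f x = f y := hxy
    have h2 : x - y ∈ RingHom.ker f.toRingHom := by
      rw [RingHom.mem_ker, map_sub, sub_eq_zero]; exact h1
    refine ⟨⟨J.1 ⊔ Ideal.span {x - y}, Submodule.FG.sup J.2.1 ⟨{x - y}, by simp⟩, sup_le J.2.2 ?_⟩,
      homOfLE (le_sup_left (a := J.1)), ?_⟩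
    · rw [Ideal.span_singleton_le_iff_mem]; exact h2
    · change Ideal.Quotient.mk _ x = Ideal.Quotient.mk _ y
      rw [Ideal.Quotient.eq]
      exact Ideal.mem_sup_right (Ideal.mem_span_singleton_self _))
  refine ⟨I, inferInstance, hfil, D, c, hc, ?_, ?_, ⟨Iso.refl _⟩⟩
  · intro J
    have h1 : Algebra.FinitePresentation R (P ⧸ J.1) := Algebra.FinitePresentation.quotient J.2.1
    exact RingHom.finitePresentation_algebraMap.mpr h1
  · intro J K h x
    obtain ⟨x, rfl⟩ := Ideal.Quotient.mk_surjective x
    exact ⟨Ideal.Quotient.mk _ x, rfl⟩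

end Groth.Agent.S9179
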