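import Groth.Statements.S9180
-- import your own Groth.Agent.* helpers here
import Groth.Agent.LoccohA.CplCutoff
import Groth.Agent.CalgC.LocalDimBC

set_option autoImplicit false
universe u
open CAlg

namespace Groth.Agent.S9180

open TensorProduct in
/-- Let S be of finite type over a field k, K an extension field of k, S_K = S ⊗_k K, q a prime of S
whose residue field has transcendence degree r over k, and q_K a prime of S_K lying over q whose
residue field has transcendence degree r_K over K. Then the local ring at q_K of the fibre of S →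
S_K over q has dimension dim (S_K)_{q_K} − dim S_q = r − r_K (stated additively), and there is a
prime of S_K over q for which this dimension is zero. -/
theorem result (k S K : Type u) [Field k] [CommRing S] [Algebra k S]
    [Algebra.FiniteType k S] [Field K] [Algebra k K] (q : Ideal S) [q.IsPrime] (r : ℕ)
    (hr : Algebra.trdeg k q.ResidueField = r) (qK : Ideal (S ⊗[k] K)) [qK.IsPrime] [qK.LiesOver q]
    (rK : ℕ)
    (hrK : letI : Algebra K (S ⊗[k] K) := Algebra.TensorProduct.rightAlgebra
      Algebra.trdeg K qK.ResidueField = rK) :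
    ringKrullDim (EGA4.FibLocRing S (S ⊗[k] K) qK) + ringKrullDim (Localization.AtPrime q) =
        ringKrullDim (Localization.AtPrime qK) ∧
      ringKrullDim (EGA4.FibLocRing S (S ⊗[k] K) qK) + (rK : WithBot ℕ∞) = (r : WithBot ℕ∞) ∧
      ∃ (q' : Ideal (S ⊗[k] K)) (_ : q'.IsPrime), q'.LiesOver q ∧
        ringKrullDim (EGA4.FibLocRing S (S ⊗[k] K) q') = 0 := by

  letI algK : Algebra K (S ⊗[k] K) := Algebra.TensorProduct.rightAlgebra
  have hNS : IsNoetherianRing S := Algebra.FiniteType.isNoetherianRing k S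
  let c : K ⊗[k] S ≃ₐ[K] S ⊗[k] K := Algebra.TensorProduct.commRight k K S
  have hft : Algebra.FiniteType K (S ⊗[k] K) := Algebra.FiniteType.equiv inferInstance c
  have hNS' : IsNoetherianRing (S ⊗[k] K) := Algebra.FiniteType.isNoetherianRing K _
  have hcomap : qK.comap (algebraMap S (S ⊗[k] K)) = q := (Ideal.LiesOver.over (p := q) (P := qK)).symm
  have e1 := Groth.Agent.LoccohA.CplDepth.height_eq_add_fib S (S ⊗[k] K) qK
  have hht : (qK.comap (algebraMap S (S ⊗[k] K))).height = q.height := by rw [hcomap]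
  rw [hht] at e1
  obtain ⟨d, hd⟩ := Groth.Agent.LoccohA.CplDepth.exists_dim_fib S (S ⊗[k] K) qK
  have hqp : qK.IsPrime := inferInstance
  -- local dimensions
  let Q : Ideal (K ⊗[k] S) := qK.comap c.toRingEquiv
  have hQp : Q.IsPrime := Ideal.comap_isPrime _ _
  have hQc : Q.comap (Algebra.TensorProduct.includeRight.toRingHom : S →+* K ⊗[k] S) = q := by
    rw [← hcomap]
    ext x
    rfl
  have e2 := Groth.Agent.CalgC.LocalDimBC.localDim_baseChange (K := K) q Q hQc
  rw [Groth.Agent.CalgC.LocalDim.localDim_eq_height_add K Q,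
    Groth.Agent.CalgC.LocalDim.localDim_eq_height_add k q] at e2
  have e3 : Q.height = qK.height := RingEquiv.height_comap c.toRingEquiv qK
  have e4 : ringKrullDim ((K ⊗[k] S) ⧸ Q) = ringKrullDim ((S ⊗[k] K) ⧸ qK) :=
    Groth.Agent.CalgC.LocalDimBC.ringKrullDim_quotient_comap c.toRingEquiv.toRingHom
      c.toRingEquiv.surjective qK
  rw [e3, e4, Groth.Agent.CalgC.LocalDim.ringKrullDim_quotient_eq_of_trdeg K qK rK hrK,
    Groth.Agent.CalgC.LocalDim.ringKrullDim_quotient_eq_of_trdeg k q r hr] at e2
  obtain ⟨a, ha⟩ := ENat.ne_top_iff_exists.mp (Ideal.height_ne_top_of_isPrime (I := q))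
  obtain ⟨b, hb⟩ := ENat.ne_top_iff_exists.mp (Ideal.height_ne_top_of_isPrime (I := qK))
  refine ⟨?_, ?_, ?_⟩
  · rw [IsLocalization.AtPrime.ringKrullDim_eq_height q (Localization.AtPrime q),
      IsLocalization.AtPrime.ringKrullDim_eq_height qK (Localization.AtPrime qK), e1, add_comm]
  · rw [← ha, ← hb, hd] at e1
    rw [← ha, ← hb] at e2
    rw [hd]
    have k1 : b = a + d := by exact_mod_cast e1
    have k2 : b + rK = a + r := by exact_mod_cast e2
    have k3 : d + rK = r := by omega
    exact_mod_cast k3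
  · have hne : q.map (algebraMap S (S ⊗[k] K)) ≤ qK := by
      rw [Ideal.map_le_iff_le_comap, hcomap]
    obtain ⟨q', hq', hle⟩ := Ideal.exists_minimalPrimes_le hne
    have hq'p : q'.IsPrime := hq'.1.1
    have hc' : q'.comap (algebraMap S (S ⊗[k] K)) = q := by
      refine le_antisymm ?_ ?_
      · rw [← hcomap]; exact Ideal.comap_mono hle
      · exact Ideal.map_le_iff_le_comap.mp hq'.1.2
    refine ⟨q', hq'p, ⟨hc'.symm⟩, ?_⟩
    apply Groth.Agent.LoccohA.CplDepth.ringKrullDim_fib_eq_zero
    have := hq'
    rwa [← hc'] at this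

end Groth.Agent.S9180
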