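import Groth.Statements.S9181
-- import your own Groth.Agent.* helpers here
import Groth.Agent.CAlg.K69.QFAffine2

set_option autoImplicit false
universe u
open CAlg

namespace Groth.Agent.S9181

/-- Let R → S be of finite type, q a prime of S over p, Q the prime of κ(p) ⊗ S over q, with the fibre
of local dimension n at Q and κ(q) of transcendence degree r over κ(p). Then for some f ∉ p and g ∉
q there is an R-algebra map φ : R_f[x_1, …, x_n] → S_g, of finite type and quasi-finite, such that
the inverse image of q S_g under φ is the ideal generated by p and the variables x_{r+1}, …, x_n. -/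
theorem result (R S : Type u) [CommRing R] [CommRing S]
    [Algebra R S] [Algebra.FiniteType R S] (p : Ideal R) [p.IsPrime] (q : Ideal S) [q.IsPrime] [q.LiesOver p]
    [Algebra (Localization.AtPrime p) (Localization.AtPrime q)]
    [Localization.AtPrime.IsLiesOverAlgebra p q] (Q : PrimeSpectrum (p.Fiber S))
    (hQ : Q.asIdeal.comap (Algebra.TensorProduct.includeRight.toRingHom) = q) (n r : ℕ)
    (hdim : FlatMor.localDim (PrimeSpectrum (p.Fiber S)) Q = (n : WithBot ℕ∞))
    (hr : Algebra.trdeg p.ResidueField q.ResidueField = r) :
    ∃ (f : R) (g : S), f ∉ p ∧ g ∉ q ∧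
      ∃ φ : MvPolynomial (Fin n) (Localization.Away f) →ₐ[R] Localization.Away g,
        φ.toRingHom.FiniteType ∧ φ.toRingHom.QuasiFinite ∧
        (q.map (algebraMap S (Localization.Away g))).comap φ =
          p.map (algebraMap R (MvPolynomial (Fin n) (Localization.Away f))) ⊔
            Ideal.span (Set.range fun i : {i : Fin n // r ≤ (i : ℕ)} =>
              (MvPolynomial.X (i : Fin n) : MvPolynomial (Fin n) (Localization.Away f))) := by
  open Groth.Agent.CycB.TrdegAlg in
  have hr' : trd (Ideal.quotientMap q (algebraMap R S) (Ideal.over_def q p).le) = r := by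
    rw [← K69.QFAffine.trd_residueField p q (algebraMap p.ResidueField q.ResidueField), trd_algebraMap,
      hr]
    intro a
    rw [← IsScalarTower.algebraMap_apply R S q.ResidueField,
      ← IsScalarTower.algebraMap_apply R p.ResidueField q.ResidueField]
  obtain ⟨g, φ, hg, hc, hφ⟩ := K69.QFAffine.exists_quasiFinite p q n r Q hQ hdim hr'
  let e₁ : R ≃ₐ[R] Localization.Away (1 : R) := IsLocalization.atOne R (Localization.Away (1 : R))
  let e : MvPolynomial (Fin n) R ≃ₐ[R] MvPolynomial (Fin n) (Localization.Away (1 : R)) :=
    MvPolynomial.mapAlgEquiv (Fin n) e₁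
  have hesurj : Function.Surjective (e.symm.toAlgHom.toRingHom) := e.symm.surjective
  refine ⟨1, g, p.primeCompl.one_mem, hg, φ.comp e.symm.toAlgHom, ?_, ?_, ?_⟩
  · have h : (φ.toRingHom.comp (algebraMap R (MvPolynomial (Fin n) R))).FiniteType := by
      have : φ.toRingHom.comp (algebraMap R (MvPolynomial (Fin n) R)) =
        algebraMap R (Localization.Away g) := φ.comp_algebraMap
      rw [this]
      exact RingHom.finiteType_algebraMap.mpr inferInstance
    exact (RingHom.FiniteType.of_comp_finiteType h).comp (RingHom.FiniteType.of_surjective _ hesurj)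
  · exact hφ.comp (RingHom.QuasiFinite.of_finite (RingHom.Finite.of_surjective _ hesurj))
  · have h1 : (q.map (algebraMap S (Localization.Away g))).comap (φ.comp e.symm.toAlgHom) =
        ((q.map (algebraMap S (Localization.Away g))).comap φ.toRingHom).comap
          e.toRingEquiv.symm := rfl
    rw [h1, hc, Ideal.comap_symm, Ideal.map_sup]
    congr 1
    · change Ideal.map e.toRingEquiv.toRingHom (Ideal.map MvPolynomial.C p) = _
      rw [Ideal.map_map]
      congr 1
      refine RingHom.ext fun a => ?_
      change e (algebraMap R (MvPolynomial (Fin n) R) a) = _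
      rw [e.commutes]
    · rw [Ideal.map_span]
      congr 1
      ext z
      simp only [Set.mem_image, Set.mem_setOf_eq, Set.mem_range, Subtype.exists, e]
      constructor
      · rintro ⟨_, ⟨i, hi, rfl⟩, rfl⟩
        exact ⟨i, hi, by simp⟩
      · rintro ⟨i, hi, rfl⟩
        exact ⟨_, ⟨i, hi, rfl⟩, by simp⟩

end Groth.Agent.S9181
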