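import Groth.Statements.S9182
-- import your own Groth.Agent.* helpers here
import Groth.Agent.CAlg.K69.TwoTermLoc
import Mathlib.Algebra.Module.LocalizedModule.Basic
import Mathlib.RingTheory.Localization.BaseChange

set_option autoImplicit false
universe u
open CAlg

namespace Groth.Agent.S9182

/-- For presentations α : R[x_1, …, x_n] → S and β : R[y_1, …, y_m] → S_g (g ∈ S) with kernels I and J,
the S_g-modules (I/I²)_g ⊕ S_g^m and J/J² ⊕ S_g^n are isomorphic. -/
theorem result (R S : Type u) [CommRing R] [CommRing S] [Algebra R S]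
    (g : S) (n m : ℕ) (α : MvPolynomial (Fin n) R →ₐ[R] S) (hα : Function.Surjective α)
    (β : MvPolynomial (Fin m) R →ₐ[R] Localization.Away g) (hβ : Function.Surjective β) :
    Nonempty ((LocalizedModule (Submonoid.powers g) (Algebra.Extension.ofSurjective α hα).Cotangent ×
        (Fin m → Localization.Away g)) ≃ₗ[Localization.Away g]
      ((Algebra.Extension.ofSurjective β hβ).Cotangent × (Fin n → Localization.Away g))) := by
  let P := Algebra.Extension.ofSurjective α hα
  let P' := Algebra.Extension.ofSurjective β hβ
  have : Algebra.FormallySmooth R P.Ring :=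
    inferInstanceAs (Algebra.FormallySmooth R (MvPolynomial (Fin n) R))
  have : Algebra.FormallySmooth R P'.Ring :=
    inferInstanceAs (Algebra.FormallySmooth R (MvPolynomial (Fin m) R))
  obtain ⟨Q, hQ, ⟨e1⟩, ⟨e2⟩⟩ := K69.TwoTermLoc.exists_localization (T := Localization.Away g)
    (Submonoid.powers g) P
  obtain ⟨e3⟩ := K69.TwoTerm.nonempty_cotangent_equiv_of_formallySmooth Q P'
  obtain ⟨e4⟩ := K69.TwoTermLoc.nonempty_cotangentSpace_equiv m β hβ
  obtain ⟨e5⟩ := K69.TwoTermLoc.nonempty_cotangentSpace_equiv n α hα
  let e6 : LocalizedModule (Submonoid.powers g) P.Cotangent ≃ₗ[Localization.Away g]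
      TensorProduct S (Localization.Away g) P.Cotangent := LocalizedModule.equivTensorProduct _ _
  let e7 : TensorProduct S (Localization.Away g) (Fin n → S) ≃ₗ[Localization.Away g]
      (Fin n → Localization.Away g) := TensorProduct.piScalarRight S (Localization.Away g)
        (Localization.Away g) (Fin n)
  exact ⟨((e6.trans e1).prodCongr e4.symm).trans (e3.trans ((LinearEquiv.refl _ _).prodCongr
    (e2.symm.trans ((LinearEquiv.baseChange S (Localization.Away g) _ _ e5).trans e7))))⟩

end Groth.Agent.S9182
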