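import Groth.Statements.S9185
import Groth.Agent.Diff16.K586.DiffOp

set_option autoImplicit false
universe u
open Diff16

namespace Groth.Agent.S9185

open scoped TensorProduct

/-- compatibility of the action with linear maps -/
lemma act_comp {R S : Type u} [CommRing R] [CommRing S] [Algebra R S]
    {M N P : Type u} [AddCommGroup M] [Module R M] [Module S M] [IsScalarTower R S M]
    [AddCommGroup N] [Module R N] [Module S N] [IsScalarTower R S N]
    [AddCommGroup P] [Module R P] [Module S P] [IsScalarTower R S P] (g : N →ₗ[S] P)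
    (φ : M →ₗ[R] N) (t : S ⊗[R] S) (m : M) :
    K586.DiffOp.act R S S M P t ((g.restrictScalars R) ∘ₗ φ) m =
      g (K586.DiffOp.act R S S M N t φ m) := by
  induction t with
  | zero => simp
  | add x y hx hy => rw [map_add, LinearMap.add_apply, LinearMap.add_apply, hx, hy, map_add,
      LinearMap.add_apply, LinearMap.add_apply, map_add]
  | tmul a b => simp


/-- For a ring map R → S, an S-module M and k ≥ 0 there is an S-module P together with a differential
operator D : M → P of order at most k (relative to R → S) such that every differential operator of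
order at most k from M to an S-module N is α ∘ D for a unique S-linear map α : P → N; that is,
differential operators of order ≤ k out of M are represented by P. (Target modules N are taken in
the same universe.) -/
theorem result (R S : Type u) [CommRing R] [CommRing S] [Algebra R S] (M : Type u)
    [AddCommGroup M] [Module S M] [Module R M] [IsScalarTower R S M] (k : ℕ) :
    ∃ (P : Type u) (_ : AddCommGroup P) (_ : Module S P) (_ : Module R P) (_ : IsScalarTower R S P)
      (D : M →ₗ[R] P), Diff16.IsDiffOpLE R S M P k D ∧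
        ∀ (N : Type u) [AddCommGroup N] [Module S N] [Module R N] [IsScalarTower R S N] (D' : M →ₗ[R] N),
          Diff16.IsDiffOpLE R S M N k D' → ∃! α : P →ₗ[S] N, α.restrictScalars R ∘ₗ D = D' := by
  let I := K586.DiffOp.diag R S S
  let ι : M →ₗ[R] S ⊗[R] M := TensorProduct.mk R S M 1
  let W : Submodule S (S ⊗[R] M) :=
    Submodule.span S {x | ∃ t ∈ I ^ (k + 1), ∃ m : M, x = K586.DiffOp.act R S S M (S ⊗[R] M) t ι m}
  refine ⟨(S ⊗[R] M) ⧸ W, inferInstance, inferInstance, inferInstance, inferInstance,
    (W.mkQ.restrictScalars R) ∘ₗ ι, ?_, ?_⟩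
  · refine K586.DiffOp.isDiffOpLE_of_act_eq_zero (S' := S) k _ fun t ht => ?_
    ext m
    rw [act_comp, LinearMap.zero_apply, Submodule.mkQ_apply, Submodule.Quotient.mk_eq_zero]
    exact Submodule.subset_span ⟨t, ht, m, rfl⟩
  · intro N _ _ _ _ D' hD'
    have h0 := K586.DiffOp.act_eq_zero_of_isDiffOpLE S k D' hD'
    let L : S ⊗[R] M →ₗ[S] N := TensorProduct.AlgebraTensorModule.lift
      ((LinearMap.lsmul S (M →ₗ[R] N)).flip D')
    have hL : ∀ (a : S) (m : M), L (a ⊗ₜ m) = a • D' m := fun a m => rfl
    have hLι : (L.restrictScalars R) ∘ₗ ι = D' := by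
      ext m
      show L (1 ⊗ₜ m) = _
      rw [hL, one_smul]
    have hW : W ≤ LinearMap.ker L := by
      rw [Submodule.span_le]
      rintro _ ⟨t, ht, m, rfl⟩
      rw [SetLike.mem_coe, LinearMap.mem_ker, ← act_comp, hLι, h0 t ht, LinearMap.zero_apply]
    refine ⟨W.liftQ L hW, ?_, ?_⟩
    · ext m
      show L (1 ⊗ₜ m) = _
      rw [hL, one_smul]
    · intro β hβ
      apply Submodule.linearMap_qext
      ext m
      have h1 : β (W.mkQ (1 ⊗ₜ m)) = D' m := LinearMap.congr_fun hβ m
      show β (W.mkQ (1 ⊗ₜ m)) = L (1 ⊗ₜ m)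
      rw [h1, hL, one_smul]

end Groth.Agent.S9185
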