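import Groth.Statements.S9196
import Groth.Agent.Lim.K340.DimLocus
import Groth.Agent.Ega4fib.H172.FibDimConstr
import Groth.Agent.FibDim.K582.RelDim

set_option autoImplicit false
universe u
open CategoryTheory AlgebraicGeometry
open Lim

namespace Groth.Agent.S9196

/-- Let S = lim S_i be a cofiltered limit of schemes with affine transition morphisms, S_{i₀} a
quasi-compact quasi-separated stage, f₀ : X₀ → Y₀ a morphism of quasi-compact quasi-separated
schemes over S_{i₀}, and f : X → Y its base change along S → S_{i₀} (base changes expressed by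
pullback squares). Let d be a natural number. If f₀ is locally of finite presentation and f has
relative dimension d (every irreducible component of every fibre of f has dimension d), then for
some index i over i₀ the base change f_i : X_i → Y_i of f₀ along S_i → S_{i₀} has relative dimension
d. -/
theorem result {I : Type u} [SmallCategory I] [IsCofiltered I]
    (D : I ⥤ Scheme.{u}) (c : Limits.Cone D) (hc : Limits.IsLimit c)
    [∀ (i j : I) (f : i ⟶ j), IsAffineHom (D.map f)] (i₀ : I) [CompactSpace (D.obj i₀)]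
    [QuasiSeparatedSpace (D.obj i₀)] {X₀ Y₀ : Scheme.{u}} (f₀ : X₀ ⟶ Y₀) (g₀ : Y₀ ⟶ D.obj i₀)
    [CompactSpace X₀] [QuasiSeparatedSpace X₀] [CompactSpace Y₀] [QuasiSeparatedSpace Y₀]
    [LocallyOfFinitePresentation f₀] (d : ℕ)
    {X Y : Scheme.{u}} (f : X ⟶ Y) (g : Y ⟶ c.pt) (qY : Y ⟶ Y₀) (qX : X ⟶ X₀)
    (hY : IsPullback qY g g₀ (c.π.app i₀)) (hX : IsPullback qX f f₀ qY) (hd : Cyc.HasRelDim f d) :
    ∃ (i : I) (φ : i ⟶ i₀) (Xi Yi : Scheme.{u}) (fi : Xi ⟶ Yi) (gi : Yi ⟶ D.obj i) (pY : Yi ⟶ Y₀)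
      (pX : Xi ⟶ X₀), IsPullback pY gi g₀ (D.map φ) ∧ IsPullback pX fi f₀ pY ∧ Cyc.HasRelDim fi d := by
  have hf : LocallyOfFinitePresentation f := MorphismProperty.of_isPullback hX inferInstance
  rw [K582.FibRelDim.hasRelDim_iff] at hd
  obtain ⟨i, φ, Xi, Yi, fi, gi, pY, pX, h1, h2, h3⟩ :=
    K340.Locus.exists_of_isOpen (Q := @LocallyOfFinitePresentation)
      (fun {X _} (f : X ⟶ _) (x : X) ↦ FlatMor.fibreDimAt f x = d)
      (.inr fun f hf ↦ by
        have : LocallyOfFinitePresentation f := hf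
        exact Groth.Agent.Ega4fib.H172.FibDimConstr.isLocallyConstructible_fibreDimAt_eq f d)
      (K340.DimLocus.bc_fibreDimAt' (· = (d : WithBot ℕ∞))) D c hc i₀ f₀ g₀ inferInstance f g qY qX hY hX hd
  have hfi : LocallyOfFinitePresentation fi := MorphismProperty.of_isPullback h2 inferInstance
  exact ⟨i, φ, Xi, Yi, fi, gi, pY, pX, h1, h2, (K582.FibRelDim.hasRelDim_iff fi d).mpr h3⟩

end Groth.Agent.S9196
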