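import Groth.Statements.S9201
import Groth.Agent.CalgA.LimAffine

set_option autoImplicit false
universe u
open CategoryTheory AlgebraicGeometry
open Lim

namespace Groth.Agent.S9201

set_option backward.isDefEq.respectTransparency false in
/-- Let S be a quasi-separated scheme and X = lim X_i a cofiltered limit of S-schemes X_i (a diagram
with a compatible family of structure maps to S) whose transition morphisms are closed immersions,
every X_i quasi-compact, quasi-separated and locally of finite type over S; the structure map X → S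
is the composite X → X_{i₀} → S for any index i₀. If X → S is an immersion, then X_i → S is an
immersion for all i beyond some index i₁. -/
theorem result {I : Type u} [SmallCategory I] [IsCofiltered I] (S : Scheme.{u}) [QuasiSeparatedSpace S]
    (D : I ⥤ Scheme.{u}) (t : D ⟶ (Functor.const I).obj S) (c : Limits.Cone D) (hc : Limits.IsLimit c)
    [∀ (i j : I) (a : i ⟶ j), IsClosedImmersion (D.map a)]
    [∀ i, CompactSpace (D.obj i)] [∀ i, QuasiSeparatedSpace (D.obj i)]
    [∀ i, LocallyOfFiniteType (t.app i)] (i₀ : I)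
    [IsImmersion (c.π.app i₀ ≫ t.app i₀)] :
    ∃ i₁ : I, ∀ (i : I) (_ : i ⟶ i₁), IsImmersion (t.app i) := by
  have hA : ∀ {i j : I} (φ : i ⟶ j), IsAffineHom (D.map φ) := fun {i j} φ ↦ inferInstance
  have : CompactSpace c.pt := Scheme.compactSpace_of_isLimit D c hc
  let g : c.pt ⟶ S := c.π.app i₀ ≫ t.app i₀
  have hgi : IsImmersion g := ‹_›
  have htj {i j : I} (φ : i ⟶ j) : D.map φ ≫ t.app j = t.app i := by simp
  -- a quasi-compact open `V` of `S` through which `g` factors as a closed immersion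
  obtain ⟨V, hVc, hgV, hcl⟩ : ∃ V : S.Opens, IsCompact (V : Set S) ∧ g ⁻¹ᵁ V = ⊤ ∧
      ∀ (g' : c.pt ⟶ (V : Scheme.{u})), g' ≫ V.ι = g → IsClosedImmersion g' := by
    have hr : IsCompact (Set.range g) := isCompact_range g.continuous
    obtain ⟨V, hVc, h1, h2⟩ : ∃ V : S.Opens, IsCompact (V : Set S) ∧ Set.range g ⊆ V ∧
        V ≤ g.coborderRange := by
      have hx (x : Set.range g) : ∃ W : S.Opens, IsAffineOpen W ∧ x.1 ∈ W ∧ W ≤ g.coborderRange := by
        obtain ⟨W, hW, hxW, hW'⟩ := S.isBasis_affineOpens.exists_subset_of_mem_open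
          (show x.1 ∈ (g.coborderRange : Set S) from subset_coborder x.2) g.coborderRange.2
        obtain ⟨W, hW, rfl⟩ := hW
        exact ⟨W, hW, hxW, hW'⟩
      choose W hW hxW hW' using hx
      obtain ⟨s, hs⟩ := hr.elim_finite_subcover (fun x ↦ (W x : Set S)) (fun x ↦ (W x).isOpen)
        (fun x hx ↦ Set.mem_iUnion.mpr ⟨⟨x, hx⟩, hxW ⟨x, hx⟩⟩)
      refine ⟨⨆ x ∈ s, W x, ?_, ?_, ?_⟩
      · simp only [TopologicalSpace.Opens.coe_iSup]
        exact s.isCompact_biUnion fun x _ ↦ (hW x).isCompact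
      · simpa only [TopologicalSpace.Opens.coe_iSup] using! hs
      · exact iSup₂_le fun x _ ↦ hW' x
    refine ⟨V, hVc, ?_, fun g' hg' ↦ ?_⟩
    · refine top_le_iff.mp fun x _ ↦ h1 ⟨x, rfl⟩
    · have h3 : IsPreimmersion (g' ≫ V.ι) := by rw [hg']; infer_instance
      have h4 : IsPreimmersion g' := .of_comp g' V.ι
      refine .of_isPreimmersion _ ?_
      have h5 : Set.range g' = V.ι ⁻¹' closure (Set.range g) := by
        ext y
        constructor
        · rintro ⟨x, rfl⟩
          refine subset_closure ⟨x, ?_⟩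
          rw [← hg']; rfl
        · intro hy
          have h6 : V.ι y ∈ coborder (Set.range g) := h2 y.2
          have h7 : V.ι y ∈ Set.range g := by
            by_contra h8
            exact h6 ⟨hy, h8⟩
          obtain ⟨x, hx⟩ := h7
          refine ⟨x, V.ι.isOpenEmbedding.injective ?_⟩
          rw [← hx, ← hg']; rfl
      rw [h5]
      exact isClosed_closure.preimage V.ι.continuous
  obtain ⟨j, φ, hφ⟩ := exists_map_eq_top D c hc (t.app i₀ ⁻¹ᵁ V) (by
    rw [← Scheme.Hom.comp_preimage]; exact hgV)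
  have htop (ψ : Over j) : Set.range (t.app ψ.left) ⊆ Set.range V.ι := by
    rw [Scheme.Opens.range_ι]
    rintro _ ⟨x, rfl⟩
    have h1 : D.map ψ.hom x ∈ D.map φ ⁻¹ᵁ t.app i₀ ⁻¹ᵁ V := by rw [hφ]; trivial
    have h2 : t.app ψ.left x = t.app i₀ (D.map φ (D.map ψ.hom x)) := by
      rw [← htj (ψ.hom ≫ φ), D.map_comp]; rfl
    rw [h2]; exact h1
  let t' : Over.forget j ⋙ D ⟶ (Functor.const (Over j)).obj (V : Scheme.{u}) :=
    { app ψ := IsOpenImmersion.lift V.ι (t.app ψ.left) (htop ψ)
      naturality ψ ψ' a := by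
        rw [← cancel_mono V.ι]
        simp }
  have ht' (ψ : Over j) : t'.app ψ ≫ V.ι = t.app ψ.left := IsOpenImmersion.lift_fac _ _ _
  have : CompactSpace (V : Scheme.{u}) := isCompact_iff_compactSpace.mp hVc
  have : QuasiSeparatedSpace (V : Scheme.{u}) :=
    (isQuasiSeparated_iff_quasiSeparatedSpace _ V.2).mp (.of_quasiSeparatedSpace _)
  have h1 : ∀ {i k : Over j} (φ : i ⟶ k), IsClosedImmersion ((Over.forget j ⋙ D).map φ) :=
    fun {i k} φ ↦ inferInstanceAs (IsClosedImmersion (D.map φ.left))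
  have h2 (i : Over j) : CompactSpace ((Over.forget j ⋙ D).obj i) :=
    inferInstanceAs (CompactSpace (D.obj i.left))
  have h3 (i : Over j) : QuasiSeparatedSpace ((Over.forget j ⋙ D).obj i) :=
    inferInstanceAs (QuasiSeparatedSpace (D.obj i.left))
  have h4 (i : Over j) : LocallyOfFiniteType (t'.app i) := by
    have : LocallyOfFiniteType (t'.app i ≫ V.ι) := by rw [ht']; infer_instance
    exact locallyOfFiniteType_of_comp _ V.ι
  have hc' : Limits.IsLimit (c.whisker (Over.forget j)) :=
    (Functor.Initial.isLimitWhiskerEquiv (Over.forget j) c).symm hc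
  have h5 : IsClosedImmersion ((c.whisker (Over.forget j)).π.app (Over.mk (𝟙 j)) ≫
      t'.app (Over.mk (𝟙 j))) := by
    apply hcl
    rw [Category.assoc, ht']
    change c.π.app j ≫ t.app j = _
    rw [← htj φ, ← Category.assoc, c.w]
  obtain ⟨i, _, hi⟩ := CalgA.LimAffine.exists_isClosedImmersion_of_isLimit (Over.forget j ⋙ D)
    (c.whisker (Over.forget j)) hc' t' (Over.mk (𝟙 j))
  refine ⟨i.left, fun i' ψ ↦ ?_⟩
  have h6 : t.app i' = D.map ψ ≫ t'.app i ≫ V.ι := by rw [ht', htj]
  rw [h6]
  infer_instance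

end Groth.Agent.S9201
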