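import Groth.Statements.S9203
import Groth.Agent.S0593
import Groth.Agent.Sga1.SigmaFinite

set_option autoImplicit false
universe u v
open CategoryTheory AlgebraicGeometry
open Lim

namespace Groth.Agent.S9203

/-- Suppose a scheme X is covered, as a topological space, by finitely many closed subschemes each of
which is affine: there are closed immersions Z_k → X, indexed by a finite type, with each Z_k affine
and whose images cover X. Then X is affine. -/
theorem result (X : Scheme.{u}) {κ : Type v} [Finite κ]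
    (Z : κ → Scheme.{u}) (ι : ∀ k, Z k ⟶ X) [∀ k, IsClosedImmersion (ι k)] [∀ k, IsAffine (Z k)]
    (hcov : ∀ x : X, ∃ k, x ∈ Set.range (ι k).base) : IsAffine X := by
  obtain ⟨n, ⟨e⟩⟩ := Finite.exists_equiv_fin κ
  let e' : ULift.{u} (Fin n) ≃ κ := Equiv.ulift.trans e.symm
  let Z' : ULift.{u} (Fin n) → Scheme.{u} := fun k ↦ Z (e' k)
  let ι' : ∀ k, Z' k ⟶ X := fun k ↦ ι (e' k)
  have : ∀ k, UniversallyClosed (ι' k) := fun k ↦ inferInstance
  have := Sga1.SigmaFinite.universallyClosed_sigmaDesc ι'
  have : Surjective (Limits.Sigma.desc ι') := by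
    refine Surjective.sigmaDesc_of_union_range_eq_univ ?_
    refine Set.eq_univ_of_forall fun x ↦ ?_
    obtain ⟨k, z, hz⟩ := hcov x
    refine Set.mem_iUnion.mpr ⟨e'.symm k, ?_⟩
    have h1 : ∀ k' : κ, k = k' → x ∈ Set.range (ι k') := by
      rintro k' rfl; exact ⟨z, hz⟩
    exact h1 _ (e'.apply_symm_apply k).symm
  exact S0593.result (∐ Z') X (Limits.Sigma.desc ι')

end Groth.Agent.S9203
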