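import Groth.Statements.S9205
import Groth.Agent.Ega43.UnivClosedAffine

set_option autoImplicit false
universe u
open CategoryTheory CategoryTheory.Limits AlgebraicGeometry
open Lim

namespace Groth.Agent.S9205

/-- Let f : X → S be a quasi-compact morphism of schemes. Then: f is universally closed if and only if,
whenever g : S' → S is a morphism locally of finite presentation, the projection X ×_S S' → S' is a
closed map; and f is universally closed if and only if for every natural number n the base change X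
×_S A^n_S → A^n_S to affine n-space over S is closed. -/
theorem result {X S : Scheme.{u}} (f : X ⟶ S) [QuasiCompact f] :
    (UniversallyClosed f ↔ ∀ (S' : Scheme.{u}) (g : S' ⟶ S), LocallyOfFinitePresentation g →
        IsClosedMap (pullback.snd f g).base) ∧
      (UniversallyClosed f ↔ ∀ n : ℕ, IsClosedMap (pullback.snd f (𝔸(ULift.{u} (Fin n); S) ↘ S)).base) := by
  have key : (∀ n : ℕ, IsClosedMap (pullback.snd f (𝔸(ULift.{u} (Fin n); S) ↘ S)).base) →
      UniversallyClosed f := by
    intro h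
    refine Ega43.UnivClosedAffine.universallyClosed_of_isClosedMap_affineSpace f fun n _ ↦ ?_
    obtain ⟨m, ⟨e⟩⟩ := Finite.exists_equiv_fin n
    let e' : ULift.{u} (Fin m) ≃ n := Equiv.ulift.trans e.symm
    let r : 𝔸(n; S) ⟶ 𝔸(ULift.{u} (Fin m); S) := AffineSpace.reindex e' S
    let r' : 𝔸(ULift.{u} (Fin m); S) ⟶ 𝔸(n; S) := AffineSpace.reindex e'.symm S
    have hrr' : r ≫ r' = 𝟙 _ := by
      refine AffineSpace.hom_ext (by simp [r, r']) (fun i ↦ ?_)
      simp [r, r']
    have hr'r : r' ≫ r = 𝟙 _ := by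
      refine AffineSpace.hom_ext (by simp [r, r']) (fun i ↦ ?_)
      simp [r, r']
    have hr : IsIso r := ⟨r', hrr', hr'r⟩
    have hr' : IsIso r' := ⟨r, hr'r, hrr'⟩
    have sq1 : IsPullback (𝔸(n; X) ↘ X) (AffineSpace.map n f) f (𝔸(n; S) ↘ S) :=
      (AffineSpace.isPullback_map f).flip
    have sq2 : IsPullback (pullback.fst f (𝔸(ULift.{u} (Fin m); S) ↘ S))
        (pullback.snd f (𝔸(ULift.{u} (Fin m); S) ↘ S) ≫ r') f (𝔸(n; S) ↘ S) := by
      have h1 := IsPullback.of_hasPullback f (𝔸(ULift.{u} (Fin m); S) ↘ S)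
      have h2 : IsPullback (𝟙 X) f f (𝟙 S) := IsPullback.of_horiz_isIso ⟨by simp⟩
      have h3 : r' ≫ 𝔸(n; S) ↘ S = 𝔸(ULift.{u} (Fin m); S) ↘ S := by simp [r']
      refine IsPullback.of_iso h1 (Iso.refl _) (Iso.refl _) (asIso r') (Iso.refl _) ?_ ?_ ?_ ?_
      · simp
      · simp
      · simp
      · simp [h3]
    let φ := sq1.isoIsPullback _ _ sq2
    have hφ : φ.hom ≫ (pullback.snd f (𝔸(ULift.{u} (Fin m); S) ↘ S) ≫ r') = AffineSpace.map n f :=
      sq1.isoIsPullback_hom_snd _ _ sq2
    rw [← hφ]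
    have c1 : IsClosedMap φ.hom := φ.hom.homeomorph.isClosedMap
    have c2 : IsClosedMap r' := r'.homeomorph.isClosedMap
    have c3 : IsClosedMap (pullback.snd f (𝔸(ULift.{u} (Fin m); S) ↘ S)) := h m
    have := (c2.comp c3).comp c1
    simpa using! this
  have hbc : UniversallyClosed f → ∀ (S' : Scheme.{u}) (g : S' ⟶ S), IsClosedMap (pullback.snd f g).base := by
    intro h S' g
    exact (pullback.snd f g).isClosedMap
  refine ⟨⟨fun h S' g _ ↦ hbc h S' g, fun h ↦ key fun n ↦ h _ _ inferInstance⟩,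
    fun h n ↦ hbc h _ _, key⟩

end Groth.Agent.S9205
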