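import Groth.Statements.S9206
import Groth.Agent.Smoothlim.ImmersionStage
import Groth.Agent.Lim.K341.EvalLE

set_option autoImplicit false
universe u
open CategoryTheory AlgebraicGeometry
open Lim

namespace Groth.Agent.S9206

/-- Let S = lim S_i be a cofiltered limit of schemes with affine transition morphisms and let s be a
point of S with images s_i in S_i. Then the residue field κ(s) is the colimit of the residue fields
κ(s_i): every element of κ(s) is the image of an element of κ(s_i) for some i under the map of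
residue fields induced by S → S_i (the maps κ(s_i) → κ(s) being injective, this says that the
canonical map from the colimit is an isomorphism). -/
theorem result {I : Type u} [SmallCategory I] [IsCofiltered I]
    (D : I ⥤ Scheme.{u}) (c : Limits.Cone D) (hc : Limits.IsLimit c)
    [∀ (i j : I) (f : i ⟶ j), IsAffineHom (D.map f)] (s : c.pt) (a : c.pt.residueField s) :
    ∃ (i : I) (b : (D.obj i).residueField ((c.π.app i).base s)), ((c.π.app i).residueFieldMap s).hom b = a := by
  have hA : ∀ {i j : I} (φ : i ⟶ j), IsAffineHom (D.map φ) := fun {i j} φ ↦ inferInstance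
  obtain ⟨a, rfl⟩ := c.pt.residue_surjective s a
  obtain ⟨U, hsU, t, rfl⟩ := c.pt.presheaf.exists_germ_eq a
  obtain ⟨_, ⟨_, ⟨i, V, hV, rfl⟩, rfl⟩, hsV, hVU⟩ :=
    (isBasis_preimage_isAffineOpen D c hc).exists_subset_of_mem_open hsU U.isOpen
  obtain ⟨k, a, t', ht'⟩ := Smoothlim.ImmersionStage.exists_appLE_eq D c hc hV
    (c.pt.presheaf.map (homOfLE hVU).op t)
  have hk : (c.π.app k).base s ∈ D.map a ⁻¹ᵁ V := by
    have h1 : D.map a ((c.π.app k) s) = c.π.app i s := by
      rw [← c.w a]; rfl
    change D.map a ((c.π.app k) s) ∈ V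
    rw [h1]; exact hsV
  refine ⟨k, (D.obj k).evaluation (D.map a ⁻¹ᵁ V) _ hk t', ?_⟩
  refine (K341.EvalLE.evaluation_appLE_apply (c.π.app k) (D.map a ⁻¹ᵁ V) (c.π.app i ⁻¹ᵁ V)
        (Smoothlim.ImmersionStage.preimage_eq D c a V).ge s hsV hk t').trans ?_
  rw [ht']
  simp only [Scheme.evaluation, CommRingCat.hom_comp, RingHom.comp_apply]
  exact congrArg (c.pt.residue s).hom (TopCat.Presheaf.germ_res_apply _ _ _ _ _)

end Groth.Agent.S9206
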