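import Groth.Statements.S9207
import Groth.Agent.Smoothlim.LimDescend

set_option autoImplicit false
universe u
open CategoryTheory CategoryTheory.Limits AlgebraicGeometry
open Lim

namespace Groth.Agent.S9207

set_option backward.isDefEq.respectTransparency false in
/-- Let S = lim S_i be a cofiltered limit of quasi-compact quasi-separated schemes with affine
transition morphisms, let i be an index and T → S_i a morphism of schemes with T quasi-compact. If
the fibre product T ×_{S_i} S is empty, then T ×_{S_i} S_{i'} is empty for some index i' over i (and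
then for every index over i'). -/
theorem result {I : Type u} [SmallCategory I] [IsCofiltered I]
    (D : I ⥤ Scheme.{u}) (c : Limits.Cone D) (hc : Limits.IsLimit c)
    [∀ (i j : I) (f : i ⟶ j), IsAffineHom (D.map f)] [∀ i, CompactSpace (D.obj i)]
    [∀ i, QuasiSeparatedSpace (D.obj i)] (i : I) {T : Scheme.{u}} (a : T ⟶ D.obj i) [CompactSpace T]
    (h : IsEmpty ↥(pullback a (c.π.app i))) :
    ∃ (i' : I) (φ : i' ⟶ i), IsEmpty ↥(pullback a (D.map φ)) := by
  have : ∀ {i j : I} (φ : i ⟶ j), IsAffineHom (D.map φ) := fun {i j} φ ↦ inferInstance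
  let E : Over i ⥤ Scheme.{u} := Smoothlim.LimBase.pbDiag D i a
  let cE : Cone E := Smoothlim.LimBase.pbCone i a c (pullback.fst a (c.π.app i))
    (pullback.snd a (c.π.app i)) (IsPullback.of_hasPullback _ _).toCommSq
  have hcE : IsLimit cE := Smoothlim.LimBase.isLimitPbCone i a c hc _ _ (IsPullback.of_hasPullback _ _)
  have hE' : ∀ {φ ψ : Over i} (h : φ ⟶ ψ), IsAffineHom (E.map h) :=
    fun h ↦ Smoothlim.LimBase.isAffineHom_pbDiag_map D i a h
  have hfst (φ : Over i) : IsAffineHom (pullback.fst a (D.map φ.hom)) :=
    MorphismProperty.pullback_fst _ _ inferInstance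
  have hc1 (φ : Over i) : CompactSpace (E.obj φ) :=
    QuasiCompact.compactSpace_of_compactSpace (pullback.fst a (D.map φ.hom))
  by_contra hcon
  push Not at hcon
  have hne (φ : Over i) : Nonempty (E.obj φ) := hcon φ.left φ.hom
  have := Scheme.nonempty_of_isLimit E cE hcE
  exact not_isEmpty_iff.mpr this h

end Groth.Agent.S9207
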