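import Groth.Statements.S9209
import Groth.Agent.Lim.K341.DvrTests

set_option autoImplicit false
universe u
open CategoryTheory CategoryTheory.Limits AlgebraicGeometry
open Lim

namespace Groth.Agent.S9209

/-- Let S be a locally Noetherian scheme, f : X → S a separated morphism of finite type and h : U → X a
morphism of finite type whose image is dense in X. Suppose that for every discrete valuation ring A
with fraction field K and every commutative square formed by a morphism Spec K → U → X and a
morphism Spec A → S, there is a morphism Spec A → X making the resulting diagram commute. Then f is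
proper. -/
theorem result {X S U : Scheme.{u}} [IsLocallyNoetherian S] (f : X ⟶ S)
    [IsSeparated f] [LocallyOfFiniteType f] [QuasiCompact f] (h : U ⟶ X) [LocallyOfFiniteType h] [QuasiCompact h]
    (hd : DenseRange h.base)
    (H : ∀ (A : Type u) [CommRing A] [IsDomain A] [IsDiscreteValuationRing A]
      (u : Spec (CommRingCat.of (FractionRing A)) ⟶ U) (y : Spec (CommRingCat.of A) ⟶ S),
      u ≫ h ≫ f = Spec.map (CommRingCat.ofHom (algebraMap A (FractionRing A))) ≫ y →
        ∃ l : Spec (CommRingCat.of A) ⟶ X, l ≫ f = y ∧ Spec.map (CommRingCat.ofHom (algebraMap A (FractionRing A))) ≫ l = u ≫ h) :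
    IsProper f := by
  refine K341.DvrCore.isProper_of_tests f (fun K _ ε ↦ K341.DvrTests.ThruTest h K ε)
    (K341.DvrTests.tests_thruTest h hd) ?_
  rintro K _ ε ⟨u, rfl⟩ R _ _ _ _ _ y hy
  let e : CommRingCat.of K ⟶ CommRingCat.of (FractionRing R) :=
    CommRingCat.ofHom ((FractionRing.algEquiv R K).symm : K →+* FractionRing R)
  let e' : CommRingCat.of (FractionRing R) ⟶ CommRingCat.of K :=
    CommRingCat.ofHom ((FractionRing.algEquiv R K) : FractionRing R →+* K)
  have he : Spec.map (CommRingCat.ofHom (algebraMap R (FractionRing R))) =
      Spec.map e ≫ Spec.map (CommRingCat.ofHom (algebraMap R K)) := by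
    rw [← Spec.map_comp]
    congr 1
    ext r
    exact ((FractionRing.algEquiv R K).symm.commutes r).symm
  have he' : Spec.map (CommRingCat.ofHom (algebraMap R K)) =
      Spec.map e' ≫ Spec.map (CommRingCat.ofHom (algebraMap R (FractionRing R))) := by
    rw [← Spec.map_comp]
    congr 1
    ext r
    exact ((FractionRing.algEquiv R K).commutes r).symm
  have hee' : Spec.map e' ≫ Spec.map e = 𝟙 _ := by
    rw [← Spec.map_comp, ← Spec.map_id]
    congr 1
    ext r
    exact (FractionRing.algEquiv R K).apply_symm_apply r
  obtain ⟨l, hl1, hl2⟩ := H R (Spec.map e ≫ u) y (by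
    rw [he, Category.assoc, Category.assoc, hy]
    simp only [Category.assoc])
  refine ⟨l, hl1, ?_⟩
  rw [he', Category.assoc, hl2, Category.assoc, ← Category.assoc, hee', Category.id_comp]

end Groth.Agent.S9209
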