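import Groth.Statements.S9210
import Groth.Agent.Lim.K341.DvrTests

set_option autoImplicit false
universe u
open CategoryTheory CategoryTheory.Limits AlgebraicGeometry
open Lim

namespace Groth.Agent.S9210

/-- Let S be a locally Noetherian scheme, f : X → S a morphism locally of finite type and h : U → X a
morphism of finite type whose image is dense in X. Suppose that for every discrete valuation ring A
with fraction field K and every commutative square formed by a morphism Spec K → U → X and a
morphism Spec A → S, there is at most one morphism Spec A → X making the resulting diagram commute.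
Then f is separated. -/
theorem result {X S U : Scheme.{u}} [IsLocallyNoetherian S] (f : X ⟶ S)
    [LocallyOfFiniteType f] (h : U ⟶ X) [LocallyOfFiniteType h] [QuasiCompact h] (hd : DenseRange h.base)
    (H : ∀ (A : Type u) [CommRing A] [IsDomain A] [IsDiscreteValuationRing A]
      (u : Spec (CommRingCat.of (FractionRing A)) ⟶ U) (y : Spec (CommRingCat.of A) ⟶ S),
      u ≫ h ≫ f = Spec.map (CommRingCat.ofHom (algebraMap A (FractionRing A))) ≫ y →
        ∀ l₁ l₂ : Spec (CommRingCat.of A) ⟶ X, l₁ ≫ f = y → Spec.map (CommRingCat.ofHom (algebraMap A (FractionRing A))) ≫ l₁ = u ≫ h →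
          l₂ ≫ f = y → Spec.map (CommRingCat.ofHom (algebraMap A (FractionRing A))) ≫ l₂ = u ≫ h → l₁ = l₂) :
    IsSeparated f := by
  refine K341.DvrCore.isSeparated_of_tests f (fun K _ ε ↦ K341.DvrTests.ThruTest h K ε)
    (K341.DvrTests.tests_thruTest h hd) ?_
  rintro K _ ε ⟨u, rfl⟩ R _ _ _ _ _ l₁ l₂ hl h₁ h₂
  let e : CommRingCat.of K ⟶ CommRingCat.of (FractionRing R) :=
    CommRingCat.ofHom ((FractionRing.algEquiv R K).symm : K →+* FractionRing R)
  have he : Spec.map (CommRingCat.ofHom (algebraMap R (FractionRing R))) =
      Spec.map e ≫ Spec.map (CommRingCat.ofHom (algebraMap R K)) := by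
    rw [← Spec.map_comp]
    congr 1
    ext r
    exact ((FractionRing.algEquiv R K).symm.commutes r).symm
  refine H R (Spec.map e ≫ u) (l₁ ≫ f) ?_ l₁ l₂ rfl ?_ hl.symm ?_
  · rw [he, Category.assoc, Category.assoc, ← Category.assoc u, ← h₁]
    simp only [Category.assoc]
  · rw [he, Category.assoc, Category.assoc, h₁]
  · rw [he, Category.assoc, Category.assoc, h₂]

end Groth.Agent.S9210
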