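import Groth.Statements.S9211
import Groth.Agent.Lim.K341.DvrTests

set_option autoImplicit false
universe u
open CategoryTheory CategoryTheory.Limits AlgebraicGeometry
open Lim

namespace Groth.Agent.S9211

/-- Let S be a locally Noetherian scheme and f : X → S a morphism locally of finite type. Then f is
separated if and only if the following uniqueness holds: for every generic point η of an irreducible
component of X, every discrete valuation ring A contained in the residue field κ(η) with fraction
field κ(η) (a valuation subring of κ(η) which is a discrete valuation ring), and every pair of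
morphisms Spec A → X with the same composite to S and both restricting on Spec κ(η) to the canonical
morphism Spec κ(η) → X, the two morphisms coincide. -/
theorem result {X S : Scheme.{u}} [IsLocallyNoetherian S] (f : X ⟶ S)
    [LocallyOfFiniteType f] :
    IsSeparated f ↔ ∀ (η : X), closure {η} ∈ irreducibleComponents (X : Type u) →
      ∀ (A : ValuationSubring (X.residueField η)), IsDiscreteValuationRing A →
        ∀ l₁ l₂ : Spec (CommRingCat.of A) ⟶ X, l₁ ≫ f = l₂ ≫ f →
          Spec.map (CommRingCat.ofHom A.subtype) ≫ l₁ = X.fromSpecResidueField η →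
          Spec.map (CommRingCat.ofHom A.subtype) ≫ l₂ = X.fromSpecResidueField η → l₁ = l₂ := by
  constructor
  · intro hf η _ A hA l₁ l₂ h h₁ h₂
    exact K341.DvrCore.lift_unique (K := X.residueField η) f l₁ l₂ h (h₁.trans h₂.symm)
  · intro H
    refine K341.DvrCore.isSeparated_of_tests f (fun K _ ε ↦ K341.DvrTests.GenTest X K ε)
      (K341.DvrTests.tests_genTest X) ?_
    rintro K _ ε ⟨η, hη, φ, hφ, rfl⟩ R _ _ _ _ _ l₁ l₂ h h₁ h₂
    obtain ⟨A, e, hA, he⟩ := K341.DvrTests.exists_valuationSubring
      (asIso (inv φ)).commRingCatIsoToRingEquiv R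
    let e' : CommRingCat.of R ⟶ CommRingCat.of A := CommRingCat.ofHom (e : R →+* A)
    have he' : e' ≫ CommRingCat.ofHom A.subtype = CommRingCat.ofHom (algebraMap R K) ≫ inv φ := by
      ext r
      exact he r
    have hiso : IsIso e' := by
      have : e' = (RingEquiv.toCommRingCatIso e).hom := rfl
      rw [this]; infer_instance
    have hl (l : Spec (CommRingCat.of R) ⟶ X) (hl : Spec.map (CommRingCat.ofHom (algebraMap R K)) ≫ l =
        Spec.map φ ≫ X.fromSpecResidueField η) :
        Spec.map (CommRingCat.ofHom A.subtype) ≫ Spec.map e' ≫ l = X.fromSpecResidueField η := by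
      rw [← Category.assoc, ← Spec.map_comp, he', Spec.map_comp, Category.assoc, hl,
        ← Category.assoc, ← Spec.map_comp, IsIso.hom_inv_id, Spec.map_id]
      exact Category.id_comp _
    have key := H η hη A hA (Spec.map e' ≫ l₁) (Spec.map e' ≫ l₂)
      (by rw [Category.assoc, Category.assoc, h]) (hl l₁ h₁) (hl l₂ h₂)
    have : IsIso (Spec.map e') := inferInstance
    exact (cancel_epi (Spec.map e')).mp key

end Groth.Agent.S9211
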