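import Groth.Statements.S9212
import Groth.Agent.S9211

set_option autoImplicit false
universe u
open CategoryTheory CategoryTheory.Limits AlgebraicGeometry
open Lim

namespace Groth.Agent.S9212

/-- Let S be a locally Noetherian scheme and f : X → S a morphism of finite type. Then f is proper if
and only if: for every generic point η of an irreducible component of X, every discrete valuation
ring A contained in the residue field κ(η) with fraction field κ(η) (a valuation subring of κ(η)
which is a discrete valuation ring), and every morphism Spec A → S whose restriction to Spec κ(η) is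
the canonical morphism Spec κ(η) → X followed by f, there is exactly one morphism Spec A → X over S
restricting to the canonical morphism on Spec κ(η). -/
theorem result {X S : Scheme.{u}} [IsLocallyNoetherian S] (f : X ⟶ S)
    [LocallyOfFiniteType f] [QuasiCompact f] :
    IsProper f ↔ ∀ (η : X), closure {η} ∈ irreducibleComponents (X : Type u) →
      ∀ (A : ValuationSubring (X.residueField η)), IsDiscreteValuationRing A →
        ∀ y : Spec (CommRingCat.of A) ⟶ S,
          Spec.map (CommRingCat.ofHom A.subtype) ≫ y = X.fromSpecResidueField η ≫ f →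
          ∃! l : Spec (CommRingCat.of A) ⟶ X,
            l ≫ f = y ∧ Spec.map (CommRingCat.ofHom A.subtype) ≫ l = X.fromSpecResidueField η := by
  constructor
  · intro hf η _ A hA y hy
    obtain ⟨l, hl1, hl2⟩ := K341.DvrCore.lift_exists (K := X.residueField η) (R := A) f
      (X.fromSpecResidueField η) y hy.symm
    refine ⟨l, ⟨hl1, hl2⟩, ?_⟩
    rintro l' ⟨h1, h2⟩
    exact K341.DvrCore.lift_unique (K := X.residueField η) f l' l (h1.trans hl1.symm)
      (h2.trans hl2.symm)
  · intro H
    have hs : IsSeparated f := by
      rw [S9211.result f]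
      intro η hη A hA l₁ l₂ h h₁ h₂
      exact (H η hη A hA (l₁ ≫ f) (by rw [← Category.assoc, h₁])).unique ⟨rfl, h₁⟩ ⟨h.symm, h₂⟩
    refine K341.DvrCore.isProper_of_tests f (fun K _ ε ↦ K341.DvrTests.GenTest X K ε)
      (K341.DvrTests.tests_genTest X) ?_
    rintro K _ ε ⟨η, hη, φ, hφ, rfl⟩ R _ _ _ _ _ y hy
    obtain ⟨A, e, hA, he⟩ := K341.DvrTests.exists_valuationSubring
      (asIso (inv φ)).commRingCatIsoToRingEquiv R
    let e' : CommRingCat.of R ⟶ CommRingCat.of A := CommRingCat.ofHom (e : R →+* A)
    have he' : e' ≫ CommRingCat.ofHom A.subtype = CommRingCat.ofHom (algebraMap R K) ≫ inv φ := by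
      ext r
      exact he r
    have hiso : IsIso e' := by
      have : e' = (RingEquiv.toCommRingCatIso e).hom := rfl
      rw [this]; infer_instance
    have hφφ : Spec.map (inv φ) ≫ Spec.map φ = 𝟙 _ := by
      rw [← Spec.map_comp, IsIso.hom_inv_id, Spec.map_id]
    have hy' : Spec.map (CommRingCat.ofHom A.subtype) ≫ Spec.map e' ≫ y =
        X.fromSpecResidueField η ≫ f := by
      rw [← Category.assoc, ← Spec.map_comp, he', Spec.map_comp, Category.assoc, hy,
        Category.assoc, ← Category.assoc (Spec.map (inv φ)), hφφ]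
      exact Category.id_comp _
    obtain ⟨l, ⟨hl1, hl2⟩, -⟩ := H η hη A hA (Spec.map e' ≫ y) hy'
    refine ⟨inv (Spec.map e') ≫ l, ?_, ?_⟩
    · rw [Category.assoc, hl1, IsIso.inv_hom_id_assoc]
    · obtain ⟨σ, hσ⟩ : ∃ σ : CommRingCat.of A ⟶ X.residueField η, σ = CommRingCat.ofHom A.subtype :=
        ⟨_, rfl⟩
      have h2 : Spec.map σ ≫ l = X.fromSpecResidueField η := by rw [hσ]; exact hl2
      have h3 : e' ≫ σ = CommRingCat.ofHom (algebraMap R K) ≫ inv φ := by rw [hσ]; exact he'
      have h1 : Spec.map (CommRingCat.ofHom (algebraMap R K)) = Spec.map φ ≫ Spec.map σ ≫ Spec.map e' := by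
        rw [← Spec.map_comp, h3, ← Spec.map_comp, Category.assoc, IsIso.inv_hom_id,
          Category.comp_id]
      rw [h1, Category.assoc, Category.assoc, IsIso.hom_inv_id_assoc, h2]

end Groth.Agent.S9212
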