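import Groth.Statements.S9219
import Groth.Agent.Smoothlim.LimDescend

set_option autoImplicit false
universe u
open CategoryTheory CategoryTheory.Limits AlgebraicGeometry
open Lim

namespace Groth.Agent.S9219

set_option backward.isDefEq.respectTransparency false in
/-- Let S = lim S_i be a cofiltered limit of schemes with affine transition morphisms (the S_i are not
assumed quasi-compact or quasi-separated), i an index, and X_i → S_i, Y_i → S_i morphisms locally of
finite presentation with X_i, Y_i quasi-compact and quasi-separated; let X be the base change of X_i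
to S (a pullback square). If two S_i-morphisms f_i, g_i : X_i → Y_i have the same base change to S
(equivalently, the same composite with X → X_i), then for some index j over i their base changes to
S_j agree, i.e. they have the same composite with X_i ×_{S_i} S_j → X_i. This is the faithfulness
part of the equivalence between the colimit of the categories of quasi-compact quasi-separated
schemes locally of finite presentation over the S_i and the corresponding category over S. -/
theorem result {I : Type u} [SmallCategory I] [IsCofiltered I]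
    (D : I ⥤ Scheme.{u}) (c : Limits.Cone D) (hc : Limits.IsLimit c)
    [∀ (i j : I) (f : i ⟶ j), IsAffineHom (D.map f)] (i : I)
    {Xi Yi : Scheme.{u}} (xi : Xi ⟶ D.obj i) (yi : Yi ⟶ D.obj i)
    [CompactSpace Xi] [QuasiSeparatedSpace Xi] [LocallyOfFinitePresentation xi]
    [CompactSpace Yi] [QuasiSeparatedSpace Yi] [LocallyOfFinitePresentation yi]
    {X : Scheme.{u}} (qX : X ⟶ Xi) (pX : X ⟶ c.pt) (hX : IsPullback qX pX xi (c.π.app i))
    (fi gi : Xi ⟶ Yi) (hfi : fi ≫ yi = xi) (hgi : gi ≫ yi = xi) (h : qX ≫ fi = qX ≫ gi) :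
    ∃ (j : I) (φ : j ⟶ i), pullback.fst xi (D.map φ) ≫ fi = pullback.fst xi (D.map φ) ≫ gi := by
  have : ∀ {i j : I} (φ : i ⟶ j), IsAffineHom (D.map φ) := fun {i j} φ ↦ inferInstance
  let E : Over i ⥤ Scheme.{u} := Smoothlim.LimBase.pbDiag D i xi
  let cE : Cone E := Smoothlim.LimBase.pbCone i xi c qX pX hX.toCommSq
  have hcE : IsLimit cE := Smoothlim.LimBase.isLimitPbCone i xi c hc qX pX hX
  have hE' : ∀ {φ ψ : Over i} (h : φ ⟶ ψ), IsAffineHom (E.map h) :=
    fun h ↦ Smoothlim.LimBase.isAffineHom_pbDiag_map D i xi h
  have hfst (φ : Over i) : IsAffineHom (pullback.fst xi (D.map φ.hom)) :=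
    MorphismProperty.pullback_fst _ _ inferInstance
  have hc1 (φ : Over i) : CompactSpace (E.obj φ) :=
    QuasiCompact.compactSpace_of_compactSpace (pullback.fst xi (D.map φ.hom))
  let t : E ⟶ (Functor.const (Over i)).obj (D.obj i) :=
    { app φ := pullback.fst xi (D.map φ.hom) ≫ xi
      naturality φ ψ h := by simp [E] }
  have hcp (φ : Over i) : cE.π.app φ ≫ pullback.fst xi (D.map φ.hom) = qX := by
    simp [cE]
  obtain ⟨k, hk, e⟩ := Scheme.exists_hom_comp_eq_comp_of_locallyOfFiniteType E t yi cE hcE
    (i := Over.mk (𝟙 i)) (pullback.fst xi (D.map (𝟙 i)) ≫ fi) (pullback.fst xi (D.map (𝟙 i)) ≫ gi)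
    (by simp [t, hfi]) (by simp [t, hgi])
    (by
      have := hcp (Over.mk (𝟙 i))
      simp only [Over.mk_hom] at this
      rw [reassoc_of% this, reassoc_of% this, h])
  refine ⟨k.left, k.hom, ?_⟩
  simpa [E] using e

end Groth.Agent.S9219
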