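import Groth.Statements.S9221
import Groth.Agent.S0787
import Groth.Agent.S0020
import Groth.Agent.Ega1.SuppTensorMod
import Groth.Agent.Smoothlim.ProperDescend

set_option autoImplicit false
universe u
open CategoryTheory AlgebraicGeometry
open Lim

namespace Groth.Agent.S9221

/-- Let S = lim S_i be a cofiltered limit of schemes with affine transition morphisms, S_{i₀} a
quasi-compact quasi-separated stage, f₀ : X₀ → Y₀ a morphism of quasi-compact quasi-separated
schemes over S_{i₀}, and f : X → Y its base change along S → S_{i₀} (base changes expressed by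
pullback squares). Let F₀ be a quasi-coherent O_{X₀}-module of finite type, with pullbacks F to X
and F_i to X_i, and assume f₀ is locally of finite type. If the support of F (a closed subset of X,
taken with its reduced structure; equivalently the scheme-theoretic support of F) is proper over Y,
then for some index i over i₀, with f_i : X_i → Y_i the base change of f₀ along S_i → S_{i₀}, the
support of F_i is proper over Y_i. -/
theorem result {I : Type u} [SmallCategory I] [IsCofiltered I]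
    (D : I ⥤ Scheme.{u}) (c : Limits.Cone D) (hc : Limits.IsLimit c)
    [∀ (i j : I) (f : i ⟶ j), IsAffineHom (D.map f)] (i₀ : I) [CompactSpace (D.obj i₀)]
    [QuasiSeparatedSpace (D.obj i₀)] {X₀ Y₀ : Scheme.{u}} (f₀ : X₀ ⟶ Y₀) (g₀ : Y₀ ⟶ D.obj i₀)
    [CompactSpace X₀] [QuasiSeparatedSpace X₀] [CompactSpace Y₀] [QuasiSeparatedSpace Y₀]
    [LocallyOfFiniteType f₀] (F₀ : X₀.Modules) [Coh.IsQCoh F₀] (hF₀ : CohB1.IsFT F₀)
    {X Y : Scheme.{u}} (f : X ⟶ Y) (g : Y ⟶ c.pt) (qY : Y ⟶ Y₀) (qX : X ⟶ X₀)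
    (hY : IsPullback qY g g₀ (c.π.app i₀)) (hX : IsPullback qX f f₀ qY) (hF : ClSub.IsProperOver f (CohB1.support ((Scheme.Modules.pullback qX).obj F₀))) :
    ∃ (i : I) (φ : i ⟶ i₀) (Xi Yi : Scheme.{u}) (fi : Xi ⟶ Yi) (gi : Yi ⟶ D.obj i) (pY : Yi ⟶ Y₀)
      (pX : Xi ⟶ X₀), IsPullback pY gi g₀ (D.map φ) ∧ IsPullback pX fi f₀ pY ∧ ClSub.IsProperOver fi (CohB1.support ((Scheme.Modules.pullback pX).obj F₀)) := by
  have hZ : IsClosed (CohB1.support F₀) := Groth.Agent.S0020.result X₀ F₀ hF₀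
  have hsupp : ∀ {W : Scheme.{u}} (p : W ⟶ X₀),
      CohB1.support ((Scheme.Modules.pullback p).obj F₀) = p ⁻¹' CohB1.support F₀ := fun p =>
    Groth.Agent.Ega1.SuppTensorMod.isFT_pullback_support p F₀ hF₀
  obtain ⟨T₀, ι, hι, hιr⟩ : ∃ (T₀ : Scheme.{u}) (ι : T₀ ⟶ X₀), IsClosedImmersion ι ∧
      Set.range ι = CohB1.support F₀ :=
    ⟨_, Groth.Agent.FormalA.ProperOver.redι _ hZ, inferInstance,
      Groth.Agent.FormalA.ProperOver.range_redι _ hZ⟩
  have hrange : ∀ {W : Scheme.{u}} (p : W ⟶ X₀), Set.range (Limits.pullback.snd ι p) =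
      CohB1.support ((Scheme.Modules.pullback p).obj F₀) := by
    intro W p
    rw [hsupp, Scheme.Pullback.range_snd, hιr]
  have hT₁ : CompactSpace T₀ := QuasiCompact.compactSpace_of_compactSpace ι
  have hT₂ : QuasiSeparatedSpace T₀ := quasiSeparatedSpace_of_quasiSeparated ι
  have hf : LocallyOfFiniteType f := MorphismProperty.of_isPullback hX.flip.flip inferInstance
  have h1 : IsProper (Limits.pullback.snd ι qX ≫ f) :=
    ((Groth.Agent.S0787.result f _ (by rw [hsupp]; exact hZ.preimage qX.continuous)).2.1 hF) _ _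
      inferInstance (hrange qX)
  have h2 : IsPullback (Limits.pullback.fst ι qX) (Limits.pullback.snd ι qX ≫ f) (ι ≫ f₀) qY :=
    (IsPullback.of_hasPullback ι qX).paste_vert hX
  obtain ⟨i, φ, hi⟩ := Groth.Agent.Smoothlim.LimBase.exists_descend
    Groth.Agent.Smoothlim.LimBase.descendsAffine_isProper D c hc i₀ (ι ≫ f₀) g₀ _ g qY _ hY h2
    ⟨⟨inferInstance, inferInstance⟩, inferInstance⟩ h1
  refine ⟨i, φ, _, _, _, _, _, _, IsPullback.of_hasPullback g₀ (D.map φ),
    IsPullback.of_hasPullback f₀ (Limits.pullback.fst g₀ (D.map φ)), ?_⟩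
  refine (Groth.Agent.S0787.result _ _ (by rw [hsupp]; exact hZ.preimage (Scheme.Hom.continuous _))).1.2
    ⟨_, Limits.pullback.snd ι (Limits.pullback.fst f₀ (Limits.pullback.fst g₀ (D.map φ))), inferInstance,
      hrange _, ?_⟩
  have h3 := (IsPullback.of_hasPullback ι (Limits.pullback.fst f₀ (Limits.pullback.fst g₀ (D.map φ)))).paste_vert
    (IsPullback.of_hasPullback f₀ (Limits.pullback.fst g₀ (D.map φ)))
  have h4 := IsPullback.of_hasPullback (ι ≫ f₀) (Limits.pullback.fst g₀ (D.map φ))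
  have h5 : Limits.pullback.snd ι (Limits.pullback.fst f₀ (Limits.pullback.fst g₀ (D.map φ))) ≫
      Limits.pullback.snd f₀ (Limits.pullback.fst g₀ (D.map φ)) =
      (h3.isoIsPullback _ _ h4).hom ≫ Limits.pullback.snd (ι ≫ f₀) (Limits.pullback.fst g₀ (D.map φ)) := by
    rw [IsPullback.isoIsPullback_hom_snd]
  rw [h5]
  infer_instance

end Groth.Agent.S9221
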