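import Groth.Statements.S9225
-- import your own Groth.Agent.* helpers here
import Groth.Agent.Ega4A.RegDer

set_option autoImplicit false
universe u
open CAlg

namespace Groth.Agent.S9225

/-- Let R be a regular ring, f an element of R and D a derivation of R such that the image of D(f) in
R/(f) is a unit. Then R/(f) is a regular ring. -/
theorem result (R : Type u) [CommRing R] [IsRegularRing R]
    (f : R) (D : Derivation ℤ R R)
    (hD : IsUnit (Ideal.Quotient.mk (Ideal.span {f}) (D f))) :
    IsRegularRing (R ⧸ Ideal.span ({f} : Set R)) := by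
  rw [isRegularRing_iff]
  intro q hq
  refine Groth.Agent.Ega4A.RegDer.isRegularLocalRing_of_surjective_of_derivation
    (Ideal.Quotient.mk (Ideal.span {f})) Ideal.Quotient.mk_surjective f ?_ q ?_ D inferInstance ?_
  · rw [Ideal.Quotient.eq_zero_iff_mem]
    exact Ideal.mem_span_singleton_self f
  · intro h hh
    refine ⟨1, ?_, ?_⟩
    · rw [map_one]
      exact fun h => hq.ne_top ((Ideal.eq_top_iff_one _).mpr h)
    · rw [one_mul]
      exact Ideal.Quotient.eq_zero_iff_mem.mp hh
  · exact fun h => hq.ne_top (Ideal.eq_top_of_isUnit_mem _ h hD)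

end Groth.Agent.S9225
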