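import Groth.Statements.S9226
-- import your own Groth.Agent.* helpers here
import Groth.Agent.CAlg.K69.RegPar
import Mathlib.LinearAlgebra.Matrix.NonsingularInverse

set_option autoImplicit false
universe u
open CAlg

namespace Groth.Agent.S9226

/-- Let R be a regular local ring, m ≥ 1, f_1, ..., f_m elements of the maximal ideal, and D_1, ..., D_m
derivations of R such that the determinant of the matrix (D_i(f_j)) is a unit of R. Then R/(f_1,
..., f_m) is a regular local ring and f_1, ..., f_m is a regular sequence on R. -/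
theorem result (R : Type u) [CommRing R]
    [IsRegularLocalRing R] (m : ℕ) (hm : 1 ≤ m) (f : Fin m → R)
    (hf : ∀ i, f i ∈ IsLocalRing.maximalIdeal R) (D : Fin m → Derivation ℤ R R)
    (hdet : IsUnit (Matrix.det (Matrix.of (fun i j : Fin m => D i (f j))))) :
    IsRegularLocalRing (R ⧸ Ideal.span (Set.range f)) ∧
      RingTheory.Sequence.IsRegular R (List.ofFn f) := by
  apply K69.RegPar.isRegular_of_independent f hf
  intro c hc
  have key : ∀ (δ : Derivation ℤ R R) (x : R), x ∈ IsLocalRing.maximalIdeal R ^ 2 →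
      δ x ∈ IsLocalRing.maximalIdeal R := by
    intro δ x hx
    rw [pow_two] at hx
    refine Submodule.mul_induction_on hx ?_ ?_
    · intro a ha b hb
      rw [Derivation.leibniz]
      exact (IsLocalRing.maximalIdeal R).add_mem (Ideal.mul_mem_right _ _ ha)
        (Ideal.mul_mem_right _ _ hb)
    · intro x y hx hy
      rw [map_add]
      exact (IsLocalRing.maximalIdeal R).add_mem hx hy
  have h1 : ∀ i, ∑ j, D i (f j) * c j ∈ IsLocalRing.maximalIdeal R := by
    intro i
    have h2 := key (D i) _ hc
    rw [map_sum] at h2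
    have h3 : ∑ j, D i (c j * f j) = ∑ j, D i (f j) * c j + ∑ j, f j * D i (c j) := by
      rw [← Finset.sum_add_distrib]
      refine Finset.sum_congr rfl fun j _ => ?_
      rw [Derivation.leibniz, smul_eq_mul, smul_eq_mul, mul_comm (c j)]
    rw [h3] at h2
    exact (Submodule.add_mem_iff_left _ (Ideal.sum_mem _ fun j _ =>
      Ideal.mul_mem_right _ _ (hf j))).mp h2
  intro i
  have h4 : ((Matrix.of (fun i j : Fin m => D i (f j)))⁻¹ *
      (Matrix.of (fun i j : Fin m => D i (f j)))) = 1 := Matrix.nonsing_inv_mul _ hdet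
  have h5 : ((Matrix.of (fun i j : Fin m => D i (f j)))⁻¹).mulVec
      ((Matrix.of (fun i j : Fin m => D i (f j))).mulVec c) = c := by
    rw [Matrix.mulVec_mulVec, h4, Matrix.one_mulVec]
  rw [← h5]
  change ∑ k, ((Matrix.of (fun i j : Fin m => D i (f j)))⁻¹) i k *
    ((Matrix.of (fun i j : Fin m => D i (f j))).mulVec c) k ∈ IsLocalRing.maximalIdeal R
  exact Ideal.sum_mem _ fun k _ => Ideal.mul_mem_left _ _ (h1 k)

end Groth.Agent.S9226
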