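import Groth.Statements.S9227
-- import your own Groth.Agent.* helpers here
import Groth.Agent.S9225
import Mathlib.RingTheory.Derivation.MapCoeffs
import Mathlib.RingTheory.RegularLocalRing.Polynomial

set_option autoImplicit false
universe u
open CAlg

namespace Groth.Agent.S9227

/-- Let R be a regular ring, f an element of R and D a derivation of R with D(f) a unit of R. Then for
every polynomial p with integer coefficients the ring R[z]/(p(z) - f) is regular; in particular
R[z]/(z^n - f) is regular for every n ≥ 1. -/
theorem result (R : Type u) [CommRing R]
    [IsRegularRing R] (f : R) (D : Derivation ℤ R R) (hD : IsUnit (D f)) (p : Polynomial ℤ) :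
    IsRegularRing (Polynomial R ⧸
      Ideal.span ({Polynomial.map (Int.castRingHom R) p - Polynomial.C f} : Set (Polynomial R))) := by
  let D' : Derivation ℤ (Polynomial R) (Polynomial R) :=
    PolynomialModule.equivPolynomialSelf.compDer D.mapCoeffs
  have hC : ∀ x : R, D' (Polynomial.C x) = Polynomial.C (D x) := by
    intro x
    simp [D']
  have hp : D' (Polynomial.map (Int.castRingHom R) p) = 0 := by
    induction p using Polynomial.induction_on' with
    | add a b ha hb => rw [Polynomial.map_add, map_add, ha, hb, add_zero]
    | monomial n a =>
      rw [Polynomial.map_monomial]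
      simp [D']
  have h6 : D' (Polynomial.map (Int.castRingHom R) p - Polynomial.C f) =
      - Polynomial.C (D f) := by
    rw [map_sub, hp, hC, zero_sub]
  have h7 : IsUnit (Ideal.Quotient.mk (Ideal.span ({Polynomial.map (Int.castRingHom R) p -
      Polynomial.C f} : Set (Polynomial R)))
        (D' (Polynomial.map (Int.castRingHom R) p - Polynomial.C f))) := by
    rw [h6]
    exact ((hD.map Polynomial.C).neg).map _
  exact S9225.result (Polynomial R) _ D' h7

end Groth.Agent.S9227
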