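import Groth.Statements.S9229
import Groth.Agent.S2684
import Groth.Agent.S2632
import Groth.Agent.S2629
import Groth.Agent.S2636
import Groth.Agent.S4754
import Groth.Agent.UnramA.Unibranch

set_option autoImplicit false
universe u
open EGA4

namespace Groth.Agent.S9229

/-- A domain is equidimensional. -/
theorem isEquidim_of_isDomain (R : Type u) [CommRing R] [IsDomain R] : EGA4.IsEquidim R := by
  intro p hp
  have h1 : p = ⊥ := by
    rw [IsDomain.minimalPrimes_eq_singleton_bot] at hp
    exact hp
  subst h1
  exact ringKrullDim_eq_of_ringEquiv (RingEquiv.quotientBot R)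

/-- A ring whose reduction is a domain is equidimensional. -/
theorem isEquidim_of_isDomain_red (R : Type u) [CommRing R] (h : IsDomain (R ⧸ nilradical R)) :
    EGA4.IsEquidim R := by
  intro p hp
  have hnp : (nilradical R).IsPrime := (Ideal.Quotient.isDomain_iff_prime _).mp h
  have hpp : p.IsPrime := hp.1.1
  have h1 : nilradical R ≤ p := nilradical_le_prime p
  have h2 : p = nilradical R := le_antisymm (hp.2 ⟨hnp, bot_le⟩ h1) h1
  rw [h2, ringKrullDim_quotient]
  have h : PrimeSpectrum.zeroLocus (nilradical R : Set R) = Set.univ := by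
    rw [Set.eq_univ_iff_forall]
    exact fun P => nilradical_le_prime P.asIdeal
  rw [h, ringKrullDim]
  exact Order.krullDim_eq_of_orderIso OrderIso.Set.univ

/-- A Noetherian local ring A whose formal fibres are geometrically normal and which is unibranch (a
normal local ring, say) is universally catenary. -/
theorem result (A : Type u) [CommRing A]
    [IsLocalRing A] [IsNoetherianRing A] (hA : EGA4.HasGeomNormalFormalFibres A)
    (hu : CAlg2.IsUnibranch A) : CAlg.IsUniversallyCatenary A := by
  have hdom : IsDomain (A ⧸ nilradical A) := hu.1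
  have hnt : Nontrivial (A ⧸ nilradical A) := inferInstance
  have hnp : (nilradical A).IsPrime := (Ideal.Quotient.isDomain_iff_prime _).mp hdom
  have h1 : EGA4.HasGeomNormalFormalFibres (A ⧸ nilradical A) :=
    Groth.Agent.S4754.result A hA (nilradical A)
  have h2 : CAlg2.IsUnibranch (A ⧸ nilradical A) :=
    (Groth.Agent.UnramA.Unibranch.isUnibranch_iff (A ⧸ nilradical A)
      (FractionRing (A ⧸ nilradical A))).mpr hu.2
  have h3 : IsDomain (EGA4.Cpl (A ⧸ nilradical A)) :=
    (Groth.Agent.S2684.result (A ⧸ nilradical A) h1).1.mpr h2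
  have h4 : EGA4.IsFormallyEquidim (A ⧸ nilradical A) := isEquidim_of_isDomain _
  have h5 : EGA4.IsFormallyEquidim A := by
    rw [Groth.Agent.S2629.result A]
    refine ⟨isEquidim_of_isDomain_red A hdom, fun p _ hp => ?_⟩
    have h6 : nilradical A ≤ p := nilradical_le_prime p
    have h7 : p = nilradical A := le_antisymm (hp.2 ⟨hnp, bot_le⟩ h6) h6
    subst h7
    exact h4
  refine Groth.Agent.S2636.result A fun p _ => ?_
  exact ((Groth.Agent.S2632.result A h5).2 p).mp (isEquidim_of_isDomain _)


end Groth.Agent.S9229
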