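import Groth.Statements.S9230
import Groth.Agent.EGA4.K114.NormHomWE
import Groth.Agent.S2636
import Groth.Agent.S2641
import Groth.Agent.S2811
import Groth.Agent.Vancyc.H690.HensFree

set_option autoImplicit false
universe u
open EGA4

namespace Groth.Agent.S9230

/-- For a Noetherian local ring A whose formal fibres are geometrically normal, every henselization S of
A is universally catenary. -/
theorem result (A S : Type u) [CommRing A]
    [IsLocalRing A] [IsNoetherianRing A] [CommRing S] [IsLocalRing S] [Algebra A S]
    [IsLocalHom (algebraMap A S)] [Hensel.IsHenselization A S]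
    (hA : EGA4.HasGeomNormalFormalFibres A) : CAlg.IsUniversallyCatenary S := by
  obtain ⟨hS, -⟩ := K114.NormHomWE.exists_cpl_algEquiv_of_isHenselization A S
  have hfib : EGA4.HasGeomNormalFormalFibres S :=
    K114.NormHomWE.hasGeomNormalFormalFibres_of_isHenselization A S hA
  have hhens : HenselianLocalRing S := Hensel.IsHenselization.henselian (R := A)
  apply Groth.Agent.S2636.result
  intro p hp
  have hle : p ≤ IsLocalRing.maximalIdeal S := IsLocalRing.le_maximalIdeal hp.ne_top
  have hhq : HenselianLocalRing (S ⧸ p) :=
    Groth.Agent.Vancyc.H690.HensFree.henselianLocalRing_quotient p hle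
  have hfq : EGA4.HasGeomNormalFormalFibres (S ⧸ p) := Groth.Agent.S2641.result S hfib (S ⧸ p)
  have hdom : IsDomain (EGA4.Cpl (S ⧸ p)) := Groth.Agent.S2811.result (S ⧸ p) hfq
  exact Groth.Agent.Ega4A.CatenaryDim.isEquidim_of_isDomain _

end Groth.Agent.S9230
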