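import Groth.Statements.S9231
-- import your own Groth.Agent.* helpers here
import Groth.Agent.CAlg.K69.CplUnique
import Groth.Agent.Sga3C.FlatOfComp
import Mathlib.RingTheory.AdicCompletion.AsTensorProduct

set_option autoImplicit false
universe u
open CAlg

namespace Groth.Agent.S9231

/-- For a local ring map A → B between Noetherian local rings, let ψ be the induced map from the
completion of A at its maximal ideal to that of B (here: a ring map of the completions whose
composite with A → A^ is the composite A → B → B^; since A is Noetherian such a map is unique, hence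
is the canonical one). Then ψ is flat exactly when A → B is flat. -/
theorem result (A B : Type u) [CommRing A] [CommRing B] [IsLocalRing A]
    [IsLocalRing B] [IsNoetherianRing A] [IsNoetherianRing B] [Algebra A B]
    [IsLocalHom (algebraMap A B)]
    (ψ : AdicCompletion (IsLocalRing.maximalIdeal A) A →+* AdicCompletion (IsLocalRing.maximalIdeal B) B)
    (hψ : ψ.comp (algebraMap A (AdicCompletion (IsLocalRing.maximalIdeal A) A)) =
      (algebraMap B (AdicCompletion (IsLocalRing.maximalIdeal B) B)).comp (algebraMap A B)) :
    ψ.Flat ↔ (algebraMap A B).Flat := by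
  constructor
  · intro h
    have hN := Groth.Agent.Ega4A.CplFlat.isNoetherianRing_cpl B
    algebraize [ψ]
    have h1 : Module.Flat A (AdicCompletion (IsLocalRing.maximalIdeal A) A) := inferInstance
    have h4 : IsScalarTower A (AdicCompletion (IsLocalRing.maximalIdeal A) A)
        (AdicCompletion (IsLocalRing.maximalIdeal B) B) :=
      IsScalarTower.of_algebraMap_eq fun x => (RingHom.congr_fun hψ x).symm
    have h2 : Module.Flat A (AdicCompletion (IsLocalRing.maximalIdeal B) B) :=
      Module.Flat.trans A (AdicCompletion (IsLocalRing.maximalIdeal A) A)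
        (AdicCompletion (IsLocalRing.maximalIdeal B) B)
    have h5 : Module.FaithfullyFlat B (AdicCompletion (IsLocalRing.maximalIdeal B) B) :=
      Module.FaithfullyFlat.of_flat_of_isLocalHom
    rw [RingHom.flat_algebraMap_iff]
    exact Groth.Agent.Sga3C.FlatOfComp.module_flat_of_comp A B
      (AdicCompletion (IsLocalRing.maximalIdeal B) B)
  · intro h
    have h1 : Module.Flat A B := (RingHom.flat_algebraMap_iff).mp h
    have h2 := Groth.Agent.Ega4A.CplFlat.flat_cplMap A B
    rwa [K69.CplUnique.eq_of_comp ψ _ hψ (Groth.Agent.Ega4A.CplFlat.cplMap_comp_algebraMap A B)]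

end Groth.Agent.S9231
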