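import Groth.Statements.S9245
-- import your own Groth.Agent.* helpers here
import Groth.Agent.CAlg.K69.EtaleLoc

set_option autoImplicit false
universe u
open CAlg

namespace Groth.Agent.S9245

/-- For an étale ring map A → B and a prime q of B with contraction p in A, the localization A_p is a
Noetherian ring exactly when the localization B_q is. -/
theorem result (A B : Type u) [CommRing A] [CommRing B]
    [Algebra A B] [Algebra.Etale A B] (q : Ideal B) [q.IsPrime] :
    IsNoetherianRing (Localization.AtPrime (Ideal.comap (algebraMap A B) q)) ↔
      IsNoetherianRing (Localization.AtPrime q) := by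
  have : q.LiesOver (Ideal.comap (algebraMap A B) q) := ⟨rfl⟩
  exact K69.EtaleLoc.isNoetherianRing_iff A B _ q

end Groth.Agent.S9245
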