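import Groth.Statements.S9247
-- import your own Groth.Agent.* helpers here
import Groth.Agent.S2821
import Mathlib.RingTheory.PicardGroup

set_option autoImplicit false
universe u
open CAlg

namespace Groth.Agent.S9247

/-- For a regular local ring R and an element f of R, the Picard group of R_f is trivial. -/
theorem result (R : Type u) [CommRing R]
    [IsRegularLocalRing R] (f : R) : Subsingleton (CommRing.Pic (Localization.Away f)) := by
  obtain ⟨h1, h2⟩ := S2821.result R
  by_cases hf : f = 0
  · subst hf
    have : Subsingleton (Localization.Away (0 : R)) :=
      IsLocalization.subsingleton (M := Submonoid.powers (0 : R)) (Submonoid.mem_powers _)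
    have : Finite (MaximalSpectrum (Localization.Away (0 : R))) := by
      have : IsEmpty (MaximalSpectrum (Localization.Away (0 : R))) :=
        ⟨fun m => m.2.ne_top (Subsingleton.elim _ _)⟩
      infer_instance
    infer_instance
  · have hle : Submonoid.powers f ≤ nonZeroDivisors R :=
      powers_le_nonZeroDivisors_of_noZeroDivisors hf
    have : IsDomain (Localization.Away f) := IsLocalization.isDomain_localization hle
    have : IsGCDMonoid (Localization.Away f) := inferInstance
    infer_instance

end Groth.Agent.S9247
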