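import Groth.Statements.S9248
import Groth.Agent.AlgSp.K647.ValPic
import Mathlib.RingTheory.PicardGroup
import Mathlib.RingTheory.TensorProduct.Quotient

set_option autoImplicit false
universe u
open CAlg

namespace Groth.Agent.S9248

/-- Let R be a valuation ring, K its field of fractions and κ its residue field, and let A be a local
ring with a flat, local homomorphism R → A essentially of finite type such that κ ⊗_R A is a regular
ring. Then K ⊗_R A has trivial Picard group. -/
theorem result (R A : Type u) [CommRing R] [IsDomain R]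
    [ValuationRing R] [CommRing A] [IsLocalRing A] [Algebra R A] [IsLocalHom (algebraMap R A)]
    [Module.Flat R A] [Algebra.EssFiniteType R A]
    (hreg : IsRegularRing (TensorProduct R (IsLocalRing.ResidueField R) A)) :
    Subsingleton (CommRing.Pic (TensorProduct R (FractionRing R) A)) := by
  let m := IsLocalRing.maximalIdeal R
  -- the closed fibre
  have hne : m.map (algebraMap R A) ≠ ⊤ := by
    intro h
    have h1 : m.map (algebraMap R A) ≤ IsLocalRing.maximalIdeal A := by
      rw [Ideal.map_le_iff_le_comap]
      intro x hx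
      rw [Ideal.mem_comap, IsLocalRing.mem_maximalIdeal, mem_nonunits_iff]
      exact fun h => (IsLocalRing.mem_maximalIdeal x).1 hx (isUnit_of_map_unit (algebraMap R A) x h)
    exact (IsLocalRing.maximalIdeal.isMaximal A).ne_top (top_le_iff.1 (h ▸ h1))
  have : Nontrivial (A ⧸ m.map (algebraMap R A)) := Ideal.Quotient.nontrivial_iff.2 hne
  have hloc : IsLocalRing (A ⧸ m.map (algebraMap R A)) :=
    IsLocalRing.of_surjective' (Ideal.Quotient.mk _) Ideal.Quotient.mk_surjective
  let e : (A ⧸ m.map (algebraMap R A)) ≃+* TensorProduct R (IsLocalRing.ResidueField R) A :=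
    (Algebra.TensorProduct.quotIdealMapEquivTensorQuot A m).toRingEquiv.trans
      (Algebra.TensorProduct.comm R A (R ⧸ m)).toRingEquiv
  have hr0 : IsRegularRing (A ⧸ m.map (algebraMap R A)) := IsRegularRing.of_ringEquiv e.symm
  have hr : IsRegularLocalRing (A ⧸ m.map (algebraMap R A)) :=
    IsRegularLocalRing.of_isRegularRing_of_isLocalRing _
  have hdom : (m.map (algebraMap R A)).IsPrime := by
    have := Groth.Agent.S0558.result (A ⧸ m.map (algebraMap R A))
    exact (Ideal.Quotient.isDomain_iff_prime _).1 this
  have hA : IsDomain A := K647.ValPic.isDomain (V := R) hdom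
  -- the generic fibre as a localization of `A`
  let B := TensorProduct R (FractionRing R) A
  letI : Algebra A B := Algebra.TensorProduct.rightAlgebra
  let M := Algebra.algebraMapSubmonoid A (nonZeroDivisors R)
  have hB : IsLocalization M B := IsLocalization.tensorRight (R := R) (S := A) (A := FractionRing R) (nonZeroDivisors R)
  have hM : M ≤ nonZeroDivisors A := by
    rintro _ ⟨v, hv, rfl⟩
    exact mem_nonZeroDivisors_of_ne_zero (K647.ValPic.algebraMap_ne_zero (nonZeroDivisors.ne_zero hv))
  have hBd : IsDomain B := IsLocalization.isDomain_of_le_nonZeroDivisors B hM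
  change Subsingleton (CommRing.Pic B)
  rw [CommRing.Pic.subsingleton_iff]
  intro L _ _ hL
  obtain ⟨I, ⟨f⟩⟩ := Module.Invertible.exists_linearEquiv_ideal B L
  have hI : I ≠ ⊥ := by
    rintro rfl
    have : Subsingleton L := f.toEquiv.subsingleton
    have h1 := (Module.Invertible.linearEquiv B L).symm.toEquiv.subsingleton
    exact not_subsingleton B h1
  let J := I.comap (algebraMap A B)
  have hJI : J.map (algebraMap A B) = I := IsLocalization.map_comap M B I
  obtain ⟨g, hg, hJ⟩ := K647.ValPic.isPrincipal_of_saturated (V := R) hr B J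
    (by rintro h; rw [h, Ideal.map_bot] at hJI; exact hI hJI.symm)
    (fun v a hv h => by
      have hu : IsUnit (algebraMap A B (algebraMap R A v)) :=
        IsLocalization.map_units B (⟨algebraMap R A v, v, mem_nonZeroDivisors_of_ne_zero hv, rfl⟩ : M)
      have h1 : algebraMap A B (algebraMap R A v) * algebraMap A B a ∈ I := by rw [← map_mul]; exact h
      exact (I.unit_mul_mem_iff_mem hu).1 h1)
    (by rw [hJI]; exact Module.Projective.of_equiv f)
  have hI' : I = Ideal.span {algebraMap A B g} := by
    rw [← hJI, hJ, Ideal.map_span, Set.image_singleton]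
  have hg' : algebraMap A B g ≠ 0 := by
    intro h
    rw [hI', h, Ideal.span_singleton_eq_bot.2 rfl] at hI
    exact hI rfl
  let e2 : B ≃ₗ[B] I := (LinearEquiv.toSpanNonzeroSingleton B B _ hg') ≪≫ₗ LinearEquiv.ofEq _ _ hI'.symm
  exact Module.Free.of_equiv (e2 ≪≫ₗ f.symm)

end Groth.Agent.S9248
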