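import Groth.Statements.S9249
import Groth.Agent.Flat2D.CMFlatArt
import Groth.Agent.Sga3C.CMDescent
import Groth.Agent.S0543
import Mathlib.RingTheory.AdicCompletion.LocalRing
import Mathlib.RingTheory.AdicCompletion.AsTensorProduct

set_option autoImplicit false
universe u
open CAlg

namespace Groth.Agent.S9249

/-- A Noetherian local ring is Cohen-Macaulay if and only if its completion is. -/
theorem result (A : Type u) [CommRing A] [IsLocalRing A]
    [IsNoetherianRing A] :
    LocCoh.IsCohenMacaulayLocalRing A ↔
      LocCoh.IsCohenMacaulayLocalRing (AdicCompletion (IsLocalRing.maximalIdeal A) A) := by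
  have hN : IsNoetherianRing (AdicCompletion (IsLocalRing.maximalIdeal A) A) :=
    Groth.Agent.S0543.result A _
  have hflat : Module.Flat A (AdicCompletion (IsLocalRing.maximalIdeal A) A) :=
    AdicCompletion.flat_of_isNoetherian _
  constructor
  · intro h
    have hmax : ((IsLocalRing.maximalIdeal A).map
        (algebraMap A (AdicCompletion (IsLocalRing.maximalIdeal A) A))).IsMaximal := by
      rw [← AdicCompletion.maximalIdeal_eq_map]
      infer_instance
    have hart : IsArtinianRing (AdicCompletion (IsLocalRing.maximalIdeal A) A ⧸
        (IsLocalRing.maximalIdeal A).map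
          (algebraMap A (AdicCompletion (IsLocalRing.maximalIdeal A) A))) := by
      let _ := Ideal.Quotient.field ((IsLocalRing.maximalIdeal A).map
        (algebraMap A (AdicCompletion (IsLocalRing.maximalIdeal A) A)))
      infer_instance
    exact Groth.Agent.Flat2D.CMFlatArt.isCM_of_flat_of_isArtinian_fibre A _
  · intro h
    exact Groth.Agent.Sga3C.CMDescent.isCohenMacaulayLocalRing_of_flat
      (B := AdicCompletion (IsLocalRing.maximalIdeal A) A)

end Groth.Agent.S9249
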