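import Groth.Statements.S9250
import Groth.Agent.CalgB.RegHom6

set_option autoImplicit false
universe u
open CAlg

namespace Groth.Agent.S9250

/-- Let R → S be a regular ring map with S Noetherian and R regular. Then S is regular. -/
theorem result (R S : Type u) [CommRing R] [CommRing S] [Algebra R S]
    [IsRegularRing R] [IsNoetherianRing S] (h : CAlg.IsRegularHom R S) : IsRegularRing S := by
  have := h.1
  apply Groth.Agent.CalgB.RegHom1.isRegularRing_of_flat_of_fiber (A := R)
  intro p _
  exact (Groth.Agent.CalgB.RegHom6.FieldFib.of_isRegularHom h) p.ResidueField inferInstance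

end Groth.Agent.S9250
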