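import Groth.Statements.S9252
import Groth.Agent.PP16.K653.CotBC
import Groth.Agent.PP16.K653.QuotDesc
import Groth.Agent.S3826
import Groth.Agent.Ega4late.H516.CanonMap
import Groth.Agent.Ega4late.H519.SymBC

set_option autoImplicit false
universe u
attribute [local instance] HasDerivedCategory.standard
open CategoryTheory
open PP16

namespace Groth.Agent.S9252

open TensorProduct Groth.Agent.Ega4late.H516.CanonMap Groth.Agent.Ega4late.H519.SymBC in
theorem exists_compat (A B : Type u) [CommRing A] [CommRing B] [Algebra A B] (I : Ideal A)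
    (ι : Type u) [Fintype ι] (x : SymmetricPower A ι I.Cotangent) :
    ∃ y : ↥((I ^ (Fintype.card ι)).restrictScalars A : Submodule A A),
      canonJ A I ι x = qJ A I (Fintype.card ι) y ∧
      canonJ B (I.map (algebraMap A B)) ι (symMap (K653.CotBC.cotMap A B I) x) =
        qJ B (I.map (algebraMap A B)) (Fintype.card ι)
          ⟨algebraMap A B y, by
            have := Ideal.mem_map_of_mem (algebraMap A B) y.2
            rw [Submodule.restrictScalars_mem, ← Ideal.map_pow]; exact this⟩ := by
  have hspan : Submodule.span A (Set.range fun b : ι → I =>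
      SymmetricPower.tprod A (fun i => I.toCotangent (b i))) = ⊤ := by
    rw [← Submodule.ker_mkQ (Submodule.span A (Set.range fun b : ι → I =>
      SymmetricPower.tprod A (fun i => I.toCotangent (b i)))), LinearMap.ker_eq_top]
    refine Groth.Agent.Ega4late.H516.SymPow.hom_ext_on_span
      (fun b => I.toCotangent b) (by rw [← LinearMap.coe_range, I.toCotangent_range]; simp)
      fun b => ?_
    rw [LinearMap.zero_apply, Submodule.mkQ_apply, Submodule.Quotient.mk_eq_zero]
    exact Submodule.subset_span ⟨b, rfl⟩
  have hx : x ∈ Submodule.span A (Set.range fun b : ι → I =>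
      SymmetricPower.tprod A (fun i => I.toCotangent (b i))) := by
    rw [hspan]; trivial
  induction hx using Submodule.span_induction with
  | mem x hx =>
    obtain ⟨b, rfl⟩ := hx
    refine ⟨⟨∏ i, (b i : A), Groth.Agent.Ega4late.H516.CanonGen.prod_univ_mem _
      (fun i => (b i : A)) (fun i => (b i).2)⟩, canonJ_tprod A I b, ?_⟩
    dsimp only
    rw [symMap_tprod]
    refine (canonJ_tprod B (I.map (algebraMap A B)) (fun i => K653.CotBC.idealMap A B I (b i))).trans ?_
    change qJ B (I.map (algebraMap A B)) (Fintype.card ι) ⟨_, _⟩ = _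
    congr 1
    apply Subtype.ext
    change ∏ i, algebraMap A B (b i) = algebraMap A B (∏ i, (b i : A))
    rw [map_prod]
  | zero =>
    refine ⟨0, by simp, ?_⟩
    rw [map_zero, map_zero, eq_comm, qJ_eq_zero_iff]
    simp
  | add x y _ _ h1 h2 =>
    obtain ⟨a, ha, ha'⟩ := h1
    obtain ⟨b, hb, hb'⟩ := h2
    refine ⟨a + b, by rw [map_add, map_add, ha, hb], ?_⟩
    rw [map_add, map_add, ha', hb', ← map_add]
    congr 1
    apply Subtype.ext
    simp
  | smul c x _ h1 =>
    obtain ⟨a, ha, ha'⟩ := h1
    refine ⟨c • a, by rw [map_smul, map_smul, ha], ?_⟩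
    rw [symMap_smul, map_smul, ha', ← map_smul]
    congr 1
    apply Subtype.ext
    change algebraMap A B c * algebraMap A B a = algebraMap A B (c * a)
    rw [map_mul]

open TensorProduct Groth.Agent.Ega4late.H516.CanonMap Groth.Agent.Ega4late.H519.SymBC in
theorem symGr_descends (A B : Type u) [CommRing A] [CommRing B] [Algebra A B]
    [Module.FaithfullyFlat A B] (I : Ideal A)
    (h : SymGrBijective B (I.map (algebraMap A B))) : SymGrBijective A I := by
  rw [symGrBijective_iff] at h ⊢
  intro ι _ _
  rw [injective_iff_map_eq_zero]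
  intro x hx
  obtain ⟨y, h1, h2⟩ := exists_compat A B I ι x
  have h3 : symMap (R' := B) (K653.CotBC.cotMap A B I) x = 0 := by
    apply h ι
    rw [h2, map_zero, qJ_eq_zero_iff]
    rw [h1, qJ_eq_zero_iff] at hx
    rw [← Ideal.map_pow]
    exact Ideal.mem_map_of_mem _ hx
  have hbc := K653.CotBC.isBaseChange_cotMap A B I
  have h4 : (1 : B) ⊗ₜ[A] x = 0 := by
    apply (symBC (ι := ι) hbc).injective
    rw [symBC_tmul, h3, smul_zero, map_zero]
  exact Module.FaithfullyFlat.tensorProduct_mk_injective (A := A) (B := B)
    (SymmetricPower A ι I.Cotangent) (by rw [map_zero]; exact h4)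

/-- Let A → B be faithfully flat and I an ideal of A. If IB is a quasi-regular ideal of B then I is a
quasi-regular ideal of A. -/
theorem result (A B : Type u) [CommRing A] [CommRing B]
    [Algebra A B] [Module.FaithfullyFlat A B] (I : Ideal A)
    (h : PP16.IsLocallyQuasiRegular B (Ideal.map (algebraMap A B) I)) :
    PP16.IsLocallyQuasiRegular A I := by
  rw [Groth.Agent.S3826.result] at h ⊢
  obtain ⟨hfg, hproj, hsym⟩ := h
  have hfgI : I.FG := by
    exact Ideal.FG.of_FG_map_of_faithfullyFlat hfg
  refine ⟨hfgI, ?_, symGr_descends A B I hsym⟩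
  have hfin : Module.Finite (B ⧸ I.map (algebraMap A B)) (I.map (algebraMap A B)).Cotangent := by
    have h1 : Module.Finite B (I.map (algebraMap A B)) := Module.Finite.iff_fg.2 hfg
    have h2 : Module.Finite B (I.map (algebraMap A B)).Cotangent :=
      Module.Finite.of_surjective _ (I.map (algebraMap A B)).toCotangent_surjective
    exact Module.Finite.of_restrictScalars_finite B _ _
  exact K653.QuotDesc.descend I (K653.CotBC.cotMap A B I) (K653.CotBC.isBaseChange_cotMap A B I)

end Groth.Agent.S9252
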