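import Groth.Statements.S9255
import Groth.Agent.Ega4A.J0Basic
import Groth.Agent.S0389
import Groth.Agent.CalgB.RegHom4

set_option autoImplicit false
universe u
open EGA4

namespace Groth.Agent.S9255

/-- Let R be a Noetherian domain and R → S an injective ring map of finite type with S a domain. If the
regular locus of Spec S contains a nonempty open subset, then the regular locus of Spec R contains a
nonempty open subset. -/
theorem result (R S : Type u) [CommRing R]
    [IsDomain R] [IsNoetherianRing R] [CommRing S] [IsDomain S] [Algebra R S] [Algebra.FiniteType R S]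
    (hinj : Function.Injective (algebraMap R S))
    (hS : ∃ U : Set (PrimeSpectrum S), IsOpen U ∧ U.Nonempty ∧ U ⊆ EGA4.regLocus S) :
    ∃ U : Set (PrimeSpectrum R), IsOpen U ∧ U.Nonempty ∧ U ⊆ EGA4.regLocus R := by
  obtain ⟨U, hU, ⟨x, hx⟩, hUreg⟩ := hS
  obtain ⟨_, ⟨g, rfl⟩, hxg, hgU⟩ :=
    PrimeSpectrum.isTopologicalBasis_basic_opens.exists_subset_of_mem_open hx hU
  have hg0 : g ≠ 0 := by
    rintro rfl
    simp at hxg
  have hNS : IsNoetherianRing S := Algebra.FiniteType.isNoetherianRing R S
  have hreg : IsRegularRing (Localization.Away g) :=
    Ega4A.J0Basic.isRegularRing_away_of_basicOpen_subset S g (hgU.trans hUreg)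
  have hle : Submonoid.powers g ≤ nonZeroDivisors S :=
    powers_le_nonZeroDivisors_of_noZeroDivisors hg0
  have hdT : IsDomain (Localization.Away g) := IsLocalization.isDomain_localization hle
  have hinj' : Function.Injective (algebraMap R (Localization.Away g)) := by
    rw [IsScalarTower.algebraMap_eq R S (Localization.Away g)]
    exact (IsLocalization.injective (Localization.Away g) hle).comp hinj
  have hft : Algebra.FiniteType S (Localization.Away g) :=
    IsLocalization.finiteType_of_monoid_fg (Submonoid.powers g) _
  have hft' : Algebra.FiniteType R (Localization.Away g) :=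
    Algebra.FiniteType.trans (S := S) inferInstance inferInstance
  obtain ⟨f, hf0, hfree, -⟩ :=
    Groth.Agent.S0389.result (R := R) (S := Localization.Away g) (M := Localization.Away g)
  have hfT : algebraMap R (Localization.Away g) f ≠ 0 := by
    intro h0
    exact hf0 (hinj' (by rw [h0, map_zero]))
  -- `T ⊗ R_f` is a localization of `T`
  have hloc : IsLocalization (Algebra.algebraMapSubmonoid (Localization.Away g) (Submonoid.powers f))
      (TensorProduct R (Localization.Away g) (Localization.Away f)) :=
    IsLocalization.tensor (R := R) (S := Localization.Away g) (A := Localization.Away f)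
      (Submonoid.powers f)
  have hreg2 : IsRegularRing (TensorProduct R (Localization.Away g) (Localization.Away f)) :=
    CalgB.RegHom1.isRegularRing_of_isLocalization
      (Algebra.algebraMapSubmonoid (Localization.Away g) (Submonoid.powers f)) _
  have hnt : Nontrivial (TensorProduct R (Localization.Away g) (Localization.Away f)) := by
    have hle2 : Algebra.algebraMapSubmonoid (Localization.Away g) (Submonoid.powers f) ≤
        nonZeroDivisors (Localization.Away g) := by
      rintro _ ⟨_, ⟨n, rfl⟩, rfl⟩
      apply mem_nonZeroDivisors_of_ne_zero
      simp only [map_pow]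
      exact pow_ne_zero _ hfT
    exact (IsLocalization.injective
      (TensorProduct R (Localization.Away g) (Localization.Away f)) hle2).nontrivial
  let e := (Algebra.TensorProduct.comm R (Localization.Away g) (Localization.Away f)).toRingEquiv
  have hreg3 : IsRegularRing (TensorProduct R (Localization.Away f) (Localization.Away g)) :=
    IsRegularRing.of_ringEquiv e
  have hnt3 : Nontrivial (TensorProduct R (Localization.Away f) (Localization.Away g)) :=
    e.injective.nontrivial
  have hff : Module.FaithfullyFlat (Localization.Away f)
      (TensorProduct R (Localization.Away f) (Localization.Away g)) := inferInstance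
  have hregR : IsRegularRing (Localization.Away f) :=
    CalgB.RegHom4.isRegularRing_of_faithfullyFlat (Localization.Away f)
      (TensorProduct R (Localization.Away f) (Localization.Away g))
  refine ⟨PrimeSpectrum.basicOpen f, (PrimeSpectrum.basicOpen f).isOpen, ⟨⟨⊥, inferInstance⟩, ?_⟩,
    Ega4A.J0Basic.basicOpen_subset_regLocus R f⟩
  simp [hf0]

end Groth.Agent.S9255
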