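import Groth.Statements.S9260
import Mathlib.Algebra.MvPolynomial.Basic
import Mathlib.Algebra.MvPolynomial.Eval
import Mathlib.Algebra.Polynomial.Eval.Degree
import Mathlib.Algebra.Polynomial.BigOperators
import Mathlib.Algebra.Polynomial.Monic
import Mathlib.RingTheory.Ideal.Quotient.Basic
import Mathlib.LinearAlgebra.Finsupp.LinearCombination

set_option autoImplicit false
universe u
open CAlg

namespace Groth.Agent.S9260

private theorem exists_lift (A R : Type u) [CommRing A] [CommRing R] [Algebra A R] (ι : Type u)
    (a : MvPolynomial ι R) (ha : ∀ m, a.coeff m ∈ Set.range (algebraMap A R)) :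
    ∃ b : MvPolynomial ι A, MvPolynomial.map (algebraMap A R) b = a := by
  choose b hb using ha
  refine ⟨∑ m ∈ a.support, MvPolynomial.monomial m (b m), ?_⟩
  rw [map_sum]
  conv_rhs => rw [a.as_sum]
  refine Finset.sum_congr rfl fun m _ ↦ ?_
  rw [MvPolynomial.map_monomial, hb]

private theorem eval_mem (A : Type u) [CommRing A] (J : Ideal A) (ι : Type u)
    (b : MvPolynomial ι A) (hb : MvPolynomial.constantCoeff b = 0) (f : ι → A) (hf : ∀ i, f i ∈ J) :
    MvPolynomial.eval f b ∈ J := by
  rw [← Ideal.Quotient.eq_zero_iff_mem]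
  have h1 : (Ideal.Quotient.mk J).comp (MvPolynomial.eval f) =
      (Ideal.Quotient.mk J).comp MvPolynomial.constantCoeff := by
    refine MvPolynomial.ringHom_ext (fun r ↦ by simp) fun i ↦ ?_
    simpa using Ideal.Quotient.eq_zero_iff_mem.mpr (hf i)
  have h2 := RingHom.congr_fun h1 b
  rw [RingHom.comp_apply, RingHom.comp_apply, hb, map_zero] at h2
  exact h2

private theorem exists_coeff (A R G : Type u) [CommRing A]
    [CommRing R] [Algebra A R] [Group G] [Fintype G] [MulSemiringAction G R] [SMulCommClass G A R]
    [Algebra.IsInvariant A R G] (J : Ideal A) (x : R) (hx : x ∈ Ideal.map (algebraMap A R) J)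
    (i : ℕ) (hi : i < Fintype.card G) :
    ∃ c ∈ J, algebraMap A R c = (∏ σ : G, (Polynomial.X - Polynomial.C (σ • x))).coeff i := by
  classical
  -- write `x = ∑ r_k f_k`
  obtain ⟨ι, _, r, f, hf, hxs⟩ : ∃ (ι : Type u) (_ : Fintype ι) (r : ι → R) (f : ι → A),
      (∀ k, f k ∈ J) ∧ x = ∑ k, r k * algebraMap A R (f k) := by
    rw [Ideal.map, Ideal.span, Finsupp.mem_span_image_iff_linearCombination] at hx
    obtain ⟨l, hl, rfl⟩ := hx
    refine ⟨l.support, inferInstance, fun k ↦ l k, fun k ↦ k, fun k ↦ ?_, ?_⟩
    · exact (Finsupp.mem_supported R l).mp hl k.2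
    · rw [Finsupp.linearCombination_apply, Finsupp.sum, ← Finset.sum_coe_sort l.support]
      rfl
  -- the universal polynomial
  let S := MvPolynomial ι R
  let y : G → S := fun σ ↦ ∑ k, MvPolynomial.C (σ • r k) * MvPolynomial.X k
  let F : Polynomial S := ∏ σ : G, (Polynomial.X - Polynomial.C (y σ))
  let act : G → (S →+* S) := fun σ ↦ MvPolynomial.map (MulSemiringAction.toRingHom G R σ)
  have hact : ∀ σ τ, act σ (y τ) = y (σ * τ) := by
    intro σ τ
    simp only [act, y, map_sum]
    refine Finset.sum_congr rfl fun k _ ↦ ?_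
    rw [map_mul, MvPolynomial.map_C, MvPolynomial.map_X, MulSemiringAction.toRingHom_apply, mul_smul]
  have hF : ∀ σ, F.map (act σ) = F := by
    intro σ
    simp only [F, Polynomial.map_prod, Polynomial.map_sub, Polynomial.map_X, Polynomial.map_C, hact]
    exact Fintype.prod_equiv (Equiv.mulLeft σ) _ _ fun τ ↦ rfl
  have hFi : ∀ σ, act σ (F.coeff i) = F.coeff i := by
    intro σ
    conv_rhs => rw [← hF σ]
    rw [Polynomial.coeff_map]
  obtain ⟨b, hb⟩ := exists_lift A R ι (F.coeff i) (by
    intro m
    obtain ⟨a, ha⟩ := Algebra.IsInvariant.isInvariant (A := A) (G := G) ((F.coeff i).coeff m) (by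
      intro σ
      have := congr_arg (MvPolynomial.coeff m) (hFi σ)
      rwa [MvPolynomial.coeff_map] at this)
    exact ⟨a, ha⟩)
  -- constant coefficient
  have hconst : MvPolynomial.constantCoeff (F.coeff i) = 0 := by
    have h1 : F.map (MvPolynomial.constantCoeff : S →+* R) = Polynomial.X ^ Fintype.card G := by
      simp only [F, Polynomial.map_prod, Polynomial.map_sub, Polynomial.map_X, Polynomial.map_C]
      have : ∀ σ, MvPolynomial.constantCoeff (y σ) = 0 := by
        intro σ
        simp [y]
      simp [this, Finset.prod_const, Finset.card_univ]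
    have h2 := congr_arg (fun p ↦ Polynomial.coeff p i) h1
    simp only [Polynomial.coeff_map, Polynomial.coeff_X_pow, if_neg hi.ne] at h2
    exact h2
  let b' : MvPolynomial ι A := b - MvPolynomial.C (MvPolynomial.constantCoeff b)
  have hb' : MvPolynomial.map (algebraMap A R) b' = F.coeff i := by
    simp only [b', map_sub, MvPolynomial.map_C, hb]
    have : algebraMap A R (MvPolynomial.constantCoeff b) = 0 := by
      rw [← hconst, ← hb, MvPolynomial.constantCoeff_map]
    rw [this, map_zero, sub_zero]
  refine ⟨MvPolynomial.eval f b', eval_mem A J ι b' (by simp [b']) f hf, ?_⟩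
  have h3 : algebraMap A R (MvPolynomial.eval f b') =
      MvPolynomial.eval (fun k ↦ algebraMap A R (f k)) (MvPolynomial.map (algebraMap A R) b') := by
    exact MvPolynomial.map_eval _ _ _
  rw [h3, hb']
  have h4 : F.map (MvPolynomial.eval (fun k ↦ algebraMap A R (f k)) : S →+* R) =
      ∏ σ : G, (Polynomial.X - Polynomial.C (σ • x)) := by
    simp only [F, Polynomial.map_prod, Polynomial.map_sub, Polynomial.map_X, Polynomial.map_C]
    refine Finset.prod_congr rfl fun σ _ ↦ ?_
    congr 2
    simp only [y, map_sum, map_mul, MvPolynomial.eval_C, MvPolynomial.eval_X]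
    rw [hxs, Finset.smul_sum]
    refine Finset.sum_congr rfl fun k _ ↦ ?_
    rw [smul_mul', smul_algebraMap]
  rw [← h4, Polynomial.coeff_map]

/-- Suppose a finite group G with n elements acts on a ring R by ring automorphisms, A → R is a ring map
compatible with the action whose image contains the invariants (so that A maps onto R^G), J is an
ideal of A, and x lies in JR. Then ∏_σ (T - σ(x)) is the image of a monic polynomial over A of
degree at most n whose coefficients below degree n all lie in J. (The published statement takes A =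
R^G and a polynomial of degree n; this row allows any such A mapping onto R^G and asks degree at
most n, which is the same when A is nonzero.) -/
theorem result (A R G : Type u) [CommRing A]
    [CommRing R] [Algebra A R] [Group G] [Fintype G] [MulSemiringAction G R] [SMulCommClass G A R]
    [Algebra.IsInvariant A R G] (J : Ideal A) (x : R) (hx : x ∈ Ideal.map (algebraMap A R) J) :
    ∃ P : Polynomial A, P.Monic ∧ P.natDegree ≤ Fintype.card G ∧
      (∀ i : ℕ, i < Fintype.card G → P.coeff i ∈ J) ∧
      Polynomial.map (algebraMap A R) P = ∏ σ : G, (Polynomial.X - Polynomial.C (σ • x)) := by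
  classical
  have key := fun i (hi : i < Fintype.card G) ↦ exists_coeff A R G J x hx i hi
  choose c hcJ hc using key
  let P : Polynomial A := Polynomial.X ^ Fintype.card G +
    ∑ i : Fin (Fintype.card G), Polynomial.C (c i i.2) * Polynomial.X ^ (i : ℕ)
  have hdeg : (∑ i : Fin (Fintype.card G), Polynomial.C (c i i.2) * Polynomial.X ^ (i : ℕ)).degree
      < (Fintype.card G : WithBot ℕ) := by
    refine lt_of_le_of_lt (Polynomial.degree_sum_le _ _) ?_
    rw [Finset.sup_lt_iff (WithBot.bot_lt_coe _)]
    intro i _
    refine lt_of_le_of_lt (Polynomial.degree_C_mul_X_pow_le _ _) ?_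
    exact_mod_cast i.2
  have hcoeff : ∀ i (hi : i < Fintype.card G), P.coeff i = c i hi := by
    intro i hi
    simp only [P, Polynomial.coeff_add, Polynomial.coeff_X_pow, Polynomial.finsetSum_coeff,
      Polynomial.coeff_C_mul]
    rw [if_neg hi.ne, zero_add, Finset.sum_eq_single ⟨i, hi⟩]
    · simp
    · intro b _ hb
      rw [if_neg, mul_zero]
      rintro rfl
      exact hb rfl
    · simp
  have hmonic : P.Monic := by
    exact Polynomial.monic_X_pow_add hdeg
  have hnat : P.natDegree ≤ Fintype.card G := by
    refine Polynomial.natDegree_le_of_degree_le ?_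
    refine (Polynomial.degree_add_le _ _).trans ?_
    exact max_le (Polynomial.degree_X_pow_le _) hdeg.le
  refine ⟨P, hmonic, hnat, fun i hi ↦ by rw [hcoeff i hi]; exact hcJ i hi, ?_⟩
  rcases subsingleton_or_nontrivial R with hR | hR
  · exact Subsingleton.elim _ _
  ext i
  rw [Polynomial.coeff_map]
  rcases lt_trichotomy i (Fintype.card G) with hi | rfl | hi
  · rw [hcoeff i hi, hc i hi]
  · have h1 : P.coeff (Fintype.card G) = 1 := by
      simp only [P, Polynomial.coeff_add, Polynomial.coeff_X_pow, if_true]
      rw [Polynomial.coeff_eq_zero_of_degree_lt hdeg, add_zero]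
    rw [h1, map_one]
    have h2 : (∏ σ : G, (Polynomial.X - Polynomial.C (σ • x))).Monic :=
      Polynomial.monic_prod_of_monic _ _ fun σ _ ↦ Polynomial.monic_X_sub_C _
    have h3 : (∏ σ : G, (Polynomial.X - Polynomial.C (σ • x))).natDegree = Fintype.card G := by
      rw [Polynomial.natDegree_prod_of_monic _ _ fun σ _ ↦ Polynomial.monic_X_sub_C _]
      simp
    rw [← h3]
    exact h2.symm
  · rw [Polynomial.coeff_eq_zero_of_natDegree_lt (hnat.trans_lt hi), map_zero,
      Polynomial.coeff_eq_zero_of_natDegree_lt]
    rw [Polynomial.natDegree_prod_of_monic _ _ fun σ _ ↦ Polynomial.monic_X_sub_C _]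
    simpa using hi

end Groth.Agent.S9260
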