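import Groth.Statements.S9261
import Mathlib.LinearAlgebra.TensorProduct.Pi
import Mathlib.RingTheory.Flat.Basic
import Mathlib.RingTheory.TensorProduct.Maps

set_option autoImplicit false
universe u
open CAlg

namespace Groth.Agent.S9261

/-- Let G be a finite group acting on a ring R, S = R^G its ring of invariants (here: S → R injective
with image the invariants) and A a flat S-algebra. Then the map A → A ⊗_S R is injective with image
the invariants of G acting on A ⊗_S R through the second factor; that is, A → (A ⊗_S R)^G is an
isomorphism. -/
theorem result (S R A G : Type u) [CommRing S] [CommRing R] [Algebra S R]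
    [FaithfulSMul S R] [Group G] [Finite G] [MulSemiringAction G R] [SMulCommClass G S R]
    [Algebra.IsInvariant S R G] [CommRing A] [Algebra S A] [Module.Flat S A] :
    Function.Injective (algebraMap A (TensorProduct S A R)) ∧
      ∀ x : TensorProduct S A R,
        (∀ σ : G, Algebra.TensorProduct.map (AlgHom.id S A) (MulSemiringAction.toAlgHom S R σ) x = x) →
          x ∈ Set.range (algebraMap A (TensorProduct S A R)) := by
  classical
  have := Fintype.ofFinite G
  let ψ : S →ₗ[S] R := Algebra.linearMap S R
  have hψ : Function.Injective ψ := FaithfulSMul.algebraMap_injective S R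
  let φ : R →ₗ[S] (G → R) :=
    LinearMap.pi fun σ ↦ (MulSemiringAction.toAlgHom S R σ).toLinearMap - LinearMap.id
  have hex : Function.Exact ψ φ := by
    intro r
    constructor
    · intro h
      obtain ⟨a, ha⟩ := Algebra.IsInvariant.isInvariant (A := S) (G := G) r fun σ ↦ by
        have := congr_fun h σ
        simpa [φ, sub_eq_zero] using this
      exact ⟨a, ha⟩
    · rintro ⟨a, rfl⟩
      ext σ
      simp [φ, ψ, smul_algebraMap]
  have hinj : Function.Injective (ψ.lTensor A) := Module.Flat.lTensor_preserves_injective_linearMap ψ hψ
  have hexA := Module.Flat.lTensor_exact A hex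
  have hcomp : ∀ a : A, algebraMap A (TensorProduct S A R) a =
      ψ.lTensor A ((TensorProduct.rid S A).symm a) := by
    intro a
    rw [TensorProduct.rid_symm_apply, LinearMap.lTensor_tmul, Algebra.TensorProduct.algebraMap_apply]
    simp [ψ]
  refine ⟨?_, ?_⟩
  · intro a b h
    rw [hcomp, hcomp] at h
    exact (TensorProduct.rid S A).symm.injective (hinj h)
  · intro x hx
    have h1 : ∀ z : TensorProduct S A R, ∀ σ : G,
        TensorProduct.piRight S S A (fun _ : G ↦ R) (φ.lTensor A z) σ =
        Algebra.TensorProduct.map (AlgHom.id S A) (MulSemiringAction.toAlgHom S R σ) z - z := by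
      intro z σ
      induction z with
      | zero => simp
      | add a b ha hb =>
        rw [map_add, map_add, Pi.add_apply, ha, hb, map_add]
        abel
      | tmul a r =>
        rw [LinearMap.lTensor_tmul, TensorProduct.piRight_apply, TensorProduct.piRightHom_tmul,
          Algebra.TensorProduct.map_tmul]
        simp [φ, TensorProduct.tmul_sub]
    have h2 : φ.lTensor A x = 0 := by
      apply (TensorProduct.piRight S S A (fun _ : G ↦ R)).injective
      rw [map_zero]
      ext σ
      rw [h1, hx σ, sub_self]
      rfl
    obtain ⟨y, hy⟩ := (hexA x).mp h2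
    refine ⟨TensorProduct.rid S A y, ?_⟩
    rw [hcomp, LinearEquiv.symm_apply_apply, hy]

end Groth.Agent.S9261
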