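import Groth.Statements.S9262
import Groth.Agent.S0511
import Groth.Agent.S0512
import Groth.Agent.S0513
import Groth.Agent.S0540
import Groth.Agent.S0541
import Groth.Agent.S2743
import Groth.Agent.S0558
import Mathlib.RingTheory.DiscreteValuationRing.TFAE

set_option autoImplicit false
universe u
open Hensel

namespace Groth.Agent.S9262

/-- A Noetherian local ring is a DVR iff it is regular local of dimension one. -/
theorem dvr_iff (A : Type u) [CommRing A] [IsLocalRing A] [IsNoetherianRing A] :
    (∃ _ : IsDomain A, IsDiscreteValuationRing A) ↔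
      (IsRegularLocalRing A ∧ ringKrullDim A = 1) := by
  constructor
  · rintro ⟨_, _⟩
    exact ⟨inferInstance, IsDiscreteValuationRing.ringKrullDim_eq_one A⟩
  · rintro ⟨h1, h2⟩
    have hD : IsDomain A := Groth.Agent.S0558.result A
    refine ⟨hD, ?_⟩
    rw [← IsLocalRing.finrank_CotangentSpace_eq_one_iff]
    have h3 := (IsRegularLocalRing.iff_finrank_cotangentSpace A).mp h1
    rw [h2] at h3
    exact_mod_cast h3

/-- Let R be a Noetherian local ring with henselization S and strict henselization T. Then R is a
discrete valuation ring exactly when S is one, and exactly when T is one. -/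
theorem result (R S T : Type u)
    [CommRing R] [IsLocalRing R] [IsNoetherianRing R] [CommRing S] [IsLocalRing S] [Algebra R S]
    [IsLocalHom (algebraMap R S)] [Hensel.IsHenselization R S] [CommRing T] [IsLocalRing T]
    [Algebra R T] [IsLocalHom (algebraMap R T)] [Hensel.IsStrictHenselization R T] :
    ((∃ _ : IsDomain R, IsDiscreteValuationRing R) ↔ (∃ _ : IsDomain S, IsDiscreteValuationRing S)) ∧
      ((∃ _ : IsDomain R, IsDiscreteValuationRing R) ↔
        (∃ _ : IsDomain T, IsDiscreteValuationRing T)) := by
  have hS : IsNoetherianRing S := (Groth.Agent.S0511.result R S).mp inferInstance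
  have hT : IsNoetherianRing T := (Groth.Agent.S0540.result R T).mp inferInstance
  rw [dvr_iff R, dvr_iff S, dvr_iff T, ← Groth.Agent.S0513.result R S, Groth.Agent.S0512.result R S,
    Groth.Agent.S2743.result R T, Groth.Agent.S0541.result R T]
  exact ⟨Iff.rfl, Iff.rfl⟩

end Groth.Agent.S9262
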