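import Groth.Statements.S9271
import Groth.Agent.S9270
import Mathlib.RingTheory.Smooth.Fiber
import Mathlib.RingTheory.Smooth.Locus
import Mathlib.RingTheory.Smooth.Flat
import Mathlib.RingTheory.TensorProduct.Quotient

set_option autoImplicit false
universe u
open CAlg

namespace Groth.Agent.S9271

/-- Suppose A' → B' is a flat ring map of finite presentation (smooth maps being one example), and let I
be a locally nilpotent ideal of A', with A = A'/I and B = B'/IB'. Let f'_1, ..., f'_r be elements of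
B' whose images f_1, ..., f_r in B form a quasi-regular sequence with B/(f_1, ..., f_r) smooth over
A. Then B'/(f'_1, ..., f'_r) is smooth over A'. -/
theorem result (A' B' : Type u) [CommRing A']
    [CommRing B'] [Algebra A' B'] [Module.Flat A' B'] [Algebra.FinitePresentation A' B']
    (I : Ideal A') (hI : ∀ x ∈ I, IsNilpotent x) (r : ℕ) (f' : Fin r → B')
    (hq : CAlgX.IsQuasiRegular
      (fun i => Ideal.Quotient.mk (Ideal.map (algebraMap A' B') I) (f' i)))
    (hsm : Algebra.Smooth (A' ⧸ I)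
      ((B' ⧸ Ideal.map (algebraMap A' B') I) ⧸
        Ideal.span (Set.range (fun i => Ideal.Quotient.mk (Ideal.map (algebraMap A' B') I) (f' i))))) :
    Algebra.Smooth A' (B' ⧸ Ideal.span (Set.range f')) := by
  have hfl : Module.Flat A' (B' ⧸ Ideal.span (Set.range f')) :=
    Groth.Agent.S9270.result A' B' I hI r f' hq inferInstance
  have hfp : Algebra.FinitePresentation A' (B' ⧸ Ideal.span (Set.range f')) :=
    Algebra.FinitePresentation.quotient ⟨(Set.finite_range f').toFinset, by simp⟩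
  rw [Algebra.smooth_iff]
  refine ⟨?_, hfp⟩
  rw [← Algebra.smoothLocus_eq_univ_iff, Set.eq_univ_iff_forall]
  intro q
  let p : Ideal A' := q.asIdeal.under A'
  have hqp : q.asIdeal.LiesOver p := ⟨rfl⟩
  have hIp : ∀ x ∈ I, algebraMap A' p.ResidueField x = 0 := fun x hx ↦ by
    obtain ⟨n, hn⟩ := hI x hx
    have h1 : (algebraMap A' p.ResidueField x) ^ n = 0 := by rw [← map_pow, hn, map_zero]
    exact IsReduced.eq_zero _ ⟨n, h1⟩
  let _ : Algebra (A' ⧸ I) p.ResidueField := (Ideal.Quotient.lift I (algebraMap A' p.ResidueField) hIp).toAlgebra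
  have : IsScalarTower A' (A' ⧸ I) p.ResidueField := .of_algebraMap_eq fun x ↦ rfl
  let J₁ := Ideal.map (algebraMap A' B') I
  let J₂ := Ideal.span (Set.range f')
  have hJ₂ : Ideal.span (Set.range (fun i => Ideal.Quotient.mk J₁ (f' i))) =
      J₂.map (Ideal.Quotient.mkₐ A' J₁) := by
    rw [Ideal.map_span, ← Set.range_comp]
    rfl
  have hJ₁ : J₁.map (Ideal.Quotient.mkₐ A' J₂) = I.map (algebraMap A' (B' ⧸ J₂)) := by
    have : algebraMap A' (B' ⧸ J₂) = (Ideal.Quotient.mk J₂).comp (algebraMap A' B') := rfl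
    rw [this, ← Ideal.map_map]
    rfl
  let e₀ : ((B' ⧸ J₁) ⧸ Ideal.span (Set.range (fun i => Ideal.Quotient.mk J₁ (f' i)))) ≃ₐ[A']
      ((B' ⧸ J₂) ⧸ I.map (algebraMap A' (B' ⧸ J₂))) :=
    ((Ideal.quotientEquivAlgOfEq A' hJ₂).trans (DoubleQuot.quotQuotEquivCommₐ A' J₁ J₂)).trans
      (Ideal.quotientEquivAlgOfEq A' hJ₁)
  let e₁ : ((B' ⧸ J₁) ⧸ Ideal.span (Set.range (fun i => Ideal.Quotient.mk J₁ (f' i)))) ≃ₐ[A' ⧸ I]
      ((B' ⧸ J₂) ⧸ I.map (algebraMap A' (B' ⧸ J₂))) :=
    AlgEquiv.extendScalarsOfSurjective Ideal.Quotient.mk_surjective e₀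
  have h1 : Algebra.FormallySmooth p.ResidueField (TensorProduct (A' ⧸ I) p.ResidueField
      ((B' ⧸ J₁) ⧸ Ideal.span (Set.range (fun i => Ideal.Quotient.mk J₁ (f' i))))) := inferInstance
  let e₂ : TensorProduct (A' ⧸ I) p.ResidueField
      ((B' ⧸ J₁) ⧸ Ideal.span (Set.range (fun i => Ideal.Quotient.mk J₁ (f' i)))) ≃ₐ[p.ResidueField]
      TensorProduct A' p.ResidueField (B' ⧸ J₂) :=
    (Algebra.TensorProduct.congr (AlgEquiv.refl (R := p.ResidueField) (A₁ := p.ResidueField))
      (e₁.trans (Algebra.TensorProduct.quotIdealMapEquivQuotTensor (B' ⧸ J₂) I))).trans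
    (Algebra.TensorProduct.cancelBaseChange A' (A' ⧸ I) p.ResidueField p.ResidueField (B' ⧸ J₂))
  have h2 : Algebra.FormallySmooth p.ResidueField (TensorProduct A' p.ResidueField (B' ⧸ J₂)) :=
    Algebra.FormallySmooth.of_equiv (A := TensorProduct (A' ⧸ I) p.ResidueField
      ((B' ⧸ J₁) ⧸ Ideal.span (Set.range (fun i => Ideal.Quotient.mk J₁ (f' i))))) e₂
  have h3 : Algebra.FormallySmooth p.ResidueField (p.Fiber (B' ⧸ J₂)) := h2
  exact Algebra.IsSmoothAt.of_formallySmooth_fiber p q.asIdeal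

end Groth.Agent.S9271
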