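import Groth.Statements.S9272
-- import your own Groth.Agent.* helpers here
import Groth.Agent.CAlgX.K581.QRegBC

set_option autoImplicit false
universe u
open CAlgX

namespace Groth.Agent.S9272

open TensorProduct K581.QRegBC

/-- powers of the base-changed ideal die in `A' ⊗ B/Jⁿ`. -/
theorem lTensor_mkQ_eq_zero {A B A' : Type u} [CommRing A] [CommRing B]
    [CommRing A'] [Algebra A B] [Algebra A A'] (J : Ideal B) (n : ℕ) (x : A' ⊗[A] B)
    (hx : x ∈ (J.map (Algebra.TensorProduct.includeRight : B →ₐ[A] A' ⊗[A] B)) ^ n) :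
    (((Submodule.mkQ (J ^ n)).restrictScalars A).lTensor A') x = 0 := by
  let F : A' ⊗[A] B →ₐ[A] A' ⊗[A] (B ⧸ J ^ n) :=
    Algebra.TensorProduct.map (AlgHom.id A A') (Ideal.Quotient.mkₐ A (J ^ n))
  have hF : ∀ y, F y = (((Submodule.mkQ (J ^ n)).restrictScalars A).lTensor A') y := by
    intro y
    induction y using TensorProduct.induction_on with
    | zero => simp
    | add x y hx hy => rw [map_add, map_add, hx, hy]
    | tmul a b => simp [F]
  rw [← hF]
  rw [← Ideal.map_pow] at hx
  have : (J ^ n).map (Algebra.TensorProduct.includeRight : B →ₐ[A] A' ⊗[A] B) ≤ RingHom.ker F := by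
    rw [Ideal.map_le_iff_le_comap]
    intro b hb
    change F (1 ⊗ₜ b) = 0
    have h0 : Ideal.Quotient.mkₐ A (J ^ n) b = 0 := Ideal.Quotient.eq_zero_iff_mem.mpr hb
    simp only [F, Algebra.TensorProduct.map_tmul, h0, TensorProduct.tmul_zero]
  exact this hx

/-- Let A → B and A → A' be ring maps and B' = A' ⊗_A B. If f_1, ..., f_r is a quasi-regular sequence in
B with B/(f_1, ..., f_r) flat over A, then the images of the f_i in B' form a quasi-regular
sequence. -/
theorem result (A B A' : Type u) [CommRing A] [CommRing B]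
    [CommRing A'] [Algebra A B] [Algebra A A'] (r : ℕ) (f : Fin r → B)
    (hflat : Module.Flat A (B ⧸ Ideal.span (Set.range f))) (hq : CAlgX.IsQuasiRegular f) :
    CAlgX.IsQuasiRegular (fun i => ((1 : A') ⊗ₜ[A] f i : TensorProduct A A' B)) := by
  classical
  intro n P hP hPJ
  let J : Ideal B := Ideal.span (Set.range f)
  let J' : Ideal (A' ⊗[A] B) :=
    Ideal.span (Set.range (fun i => ((1 : A') ⊗ₜ[A] f i : TensorProduct A A' B)))
  have hJ' : J' = J.map (Algebra.TensorProduct.includeRight : B →ₐ[A] A' ⊗[A] B) := by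
    rw [Ideal.map_span, ← Set.range_comp]
    rfl
  obtain ⟨l, hl, hl2⟩ := exists_lam f n hq
  have hlA : Function.Injective ((l.restrictScalars A).lTensor A') := by
    have h1 : Module.Flat A (B ⧸ J ^ n) := flat_quotient_pow f hflat hq n
    let g := Submodule.mapQ (J ^ (n + 1)) (J ^ n) (LinearMap.id (R := B))
      (Ideal.pow_le_pow_right (Nat.le_succ n))
    refine LinearMap.lTensor_injective_of_exact_of_flat (g.restrictScalars A) ?_
      (l.restrictScalars A) hl (factor_exact f l hl2) A'
    intro y
    obtain ⟨r, rfl⟩ := Submodule.mkQ_surjective _ y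
    exact ⟨Submodule.mkQ _ r, rfl⟩
  let e := TensorProduct.piRight A A A' (fun _ : D r n => B)
  have he : ∀ (x : A' ⊗[A] (D r n → B)), (((mu f n).restrictScalars A).lTensor A') x =
      mu (fun i => ((1 : A') ⊗ₜ[A] f i : TensorProduct A A' B)) n (e x) := by
    have hmon : ∀ d : D r n, mon (fun i => ((1 : A') ⊗ₜ[A] f i : TensorProduct A A' B)) d.1 =
        (1 : A') ⊗ₜ[A] mon f d.1 := by
      intro d
      have h2 := MvPolynomial.eval₂_comp_left
        (Algebra.TensorProduct.includeRight : B →ₐ[A] A' ⊗[A] B).toRingHom (RingHom.id B) f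
        (MvPolynomial.monomial d.1 (1 : B))
      simp only [mon, MvPolynomial.eval_monomial, one_mul]
      have h3 : ∀ b : B, (1 : A') ⊗ₜ[A] b =
        (Algebra.TensorProduct.includeRight : B →ₐ[A] A' ⊗[A] B) b := fun b => rfl
      simp only [h3]
      rw [map_finsuppProd]
      simp only [map_pow]
    intro x
    induction x using TensorProduct.induction_on with
    | zero => simp
    | add x y hx hy => rw [map_add, hx, hy, map_add, map_add]
    | tmul a b =>
      rw [LinearMap.lTensor_tmul]
      change a ⊗ₜ[A] (mu f n b) = _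
      rw [mu_apply, mu_apply, TensorProduct.tmul_sum]
      refine Finset.sum_congr rfl fun d _ => ?_
      rw [hmon]
      simp [e]
  obtain ⟨w, hw⟩ := e.surjective (fun d => P.coeff d.1)
  have h1 : (((mu f n).restrictScalars A).lTensor A') w ∈ J' ^ (n + 1) := by
    rw [he, hw, ← eval_poly, poly_coeff n hP]
    exact hPJ
  rw [hJ'] at h1
  have h2 := lTensor_mkQ_eq_zero J (n + 1) _ h1
  have h3 : ((l.restrictScalars A).lTensor A') (((rho f n).restrictScalars A).lTensor A' w) = 0 := by
    rw [← LinearMap.comp_apply, ← LinearMap.lTensor_comp] at h2 ⊢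
    rw [← h2]
    congr 2
    ext b
    exact hl2 _
  have h4 : ((rho f n).restrictScalars A).lTensor A' w = 0 := by
    apply hlA
    rw [h3, map_zero]
  have hex := lTensor_exact A' (f := (LinearMap.ker ((rho f n).restrictScalars A)).subtype)
    (g := (rho f n).restrictScalars A)
    (LinearMap.exact_subtype_ker_map _) (rho_surjective f n)
  obtain ⟨y, rfl⟩ := (hex w).mp h4
  have h5 : ∀ (d : D r n), e ((LinearMap.lTensor A'
      (LinearMap.ker ((rho f n).restrictScalars A)).subtype) y) d ∈ J' := by
    intro d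
    clear h4 h3 h2 h1 hw
    induction y using TensorProduct.induction_on with
    | zero => rw [map_zero, map_zero]; exact zero_mem J'
    | add x y hx hy => rw [map_add, map_add]; exact add_mem hx hy
    | tmul a b =>
      obtain ⟨b, hb⟩ := b
      have hb' : b d ∈ J := (mem_ker_rho f n b).mp hb d
      have h6 : e ((LinearMap.lTensor A'
          (LinearMap.ker ((rho f n).restrictScalars A)).subtype) (a ⊗ₜ[A] ⟨b, hb⟩)) d =
          (a ⊗ₜ[A] (1 : B)) * ((Algebra.TensorProduct.includeRight : B →ₐ[A] A' ⊗[A] B) (b d)) := by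
        rw [LinearMap.lTensor_tmul]
        change e (a ⊗ₜ[A] b) d = _
        simp [e]
      rw [h6, hJ']
      exact Ideal.mul_mem_left _ _ (Ideal.mem_map_of_mem _ hb')
  intro d
  by_cases hd : d.degree = n
  · have h7 := h5 ⟨d, hd⟩
    rw [hw] at h7
    exact h7
  · rw [hP.coeff_eq_zero hd]
    exact zero_mem _

end Groth.Agent.S9272
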