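import Groth.Statements.S9273
-- import your own Groth.Agent.* helpers here
import Mathlib.RingTheory.Flat.Equalizer
import Mathlib.LinearAlgebra.TensorProduct.Pi

set_option autoImplicit false
universe u
open CAlgX

namespace Groth.Agent.S9273

open TensorProduct

/-- The span of trivial relations. -/
noncomputable def triv {R : Type u} [CommRing R] {c : ℕ} (f : Fin c → R) :
    Submodule R (Fin c → R) :=
  Submodule.span R {v : Fin c → R | ∃ i j : Fin c, v = Pi.single i (f j) - Pi.single j (f i)}

lemma one_tmul_mem {A B A' : Type u} [CommRing A] [CommRing B]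
    [CommRing A'] [Algebra A B] [Algebra A A'] {r : ℕ} (f : Fin r → B) {n : Fin r → B}
    (hn : n ∈ triv f) :
    (fun i => ((1 : A') ⊗ₜ[A] n i : TensorProduct A A' B)) ∈
      triv (fun i => ((1 : A') ⊗ₜ[A] f i : TensorProduct A A' B)) := by
  refine Submodule.span_induction (p := fun n _ =>
    (fun i => ((1 : A') ⊗ₜ[A] n i : TensorProduct A A' B)) ∈
      triv (fun i => ((1 : A') ⊗ₜ[A] f i : TensorProduct A A' B))) ?_ ?_ ?_ ?_ hn
  · rintro _ ⟨i, j, rfl⟩
    refine Submodule.subset_span ⟨i, j, ?_⟩
    funext k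
    simp only [Pi.sub_apply, TensorProduct.tmul_sub]
    congr 1
    · by_cases h : k = i
      · subst h; simp
      · simp [h]
    · by_cases h : k = j
      · subst h; simp
      · simp [h]
  · have : (fun i => ((1 : A') ⊗ₜ[A] (0 : Fin r → B) i : TensorProduct A A' B)) = 0 := by
      funext i; simp
    rw [this]
    exact zero_mem _
  · intro x y _ _ hx hy
    have : (fun i => ((1 : A') ⊗ₜ[A] (x + y) i : TensorProduct A A' B)) =
      (fun i => ((1 : A') ⊗ₜ[A] x i : TensorProduct A A' B)) +
      (fun i => ((1 : A') ⊗ₜ[A] y i : TensorProduct A A' B)) := by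
      funext i; simp [TensorProduct.tmul_add]
    rw [this]
    exact add_mem hx hy
  · intro b x _ hx
    have : (fun i => ((1 : A') ⊗ₜ[A] (b • x) i : TensorProduct A A' B)) =
      ((1 : A') ⊗ₜ[A] b : TensorProduct A A' B) •
      (fun i => ((1 : A') ⊗ₜ[A] x i : TensorProduct A A' B)) := by
      funext i; simp
    rw [this]
    exact Submodule.smul_mem _ _ hx

/-- Let A → B and A → A' be ring maps and B' = A' ⊗_A B. If f_1, ..., f_r is an H_1-regular sequence in
B with B/(f_1, ..., f_r) flat over A, then the images of the f_i in B' form an H_1-regular sequence. -/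
theorem result (A B A' : Type u) [CommRing A] [CommRing B]
    [CommRing A'] [Algebra A B] [Algebra A A'] (r : ℕ) (f : Fin r → B)
    (hflat : Module.Flat A (B ⧸ Ideal.span (Set.range f))) (hq : CAlgX.IsH1Regular f) :
    CAlgX.IsH1Regular (fun i => ((1 : A') ⊗ₜ[A] f i : TensorProduct A A' B)) := by
  intro a ha
  let J : Ideal B := Ideal.span (Set.range f)
  let φB : (Fin r → B) →ₗ[B] B := Fintype.linearCombination B f
  have hφB : ∀ b, φB b = ∑ i, b i * f i := fun b => by
    simp [φB, Fintype.linearCombination_apply]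
  let φ : (Fin r → B) →ₗ[A] B := φB.restrictScalars A
  have hφJ : ∀ b, φB b ∈ J := fun b => by
    rw [hφB]
    exact Ideal.sum_mem _ fun i _ => Ideal.mul_mem_left _ _ (Ideal.subset_span ⟨i, rfl⟩)
  let φ' : (Fin r → B) →ₗ[A] J := (φB.codRestrict J hφJ).restrictScalars A
  have hφ's : Function.Surjective φ' := by
    rintro ⟨y, hy⟩
    obtain ⟨c, hc⟩ := Ideal.mem_span_range_iff_exists_fun.mp hy
    exact ⟨c, Subtype.ext (by change φB c = y; rw [hφB, hc])⟩
  let ι : J →ₗ[A] B := (Submodule.subtype J).restrictScalars A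
  have hι : Function.Injective ι := Subtype.val_injective
  let q : B →ₗ[A] (B ⧸ J) := (Submodule.mkQ J).restrictScalars A
  have hιinj : Function.Injective (ι.lTensor A') := by
    have : Module.Flat A (B ⧸ J) := hflat
    refine LinearMap.lTensor_injective_of_exact_of_flat q (Submodule.mkQ_surjective J) ι hι ?_ A'
    intro x
    constructor
    · intro hx
      have : x ∈ J := (Submodule.Quotient.mk_eq_zero J).mp hx
      exact ⟨⟨x, this⟩, rfl⟩
    · rintro ⟨y, rfl⟩
      exact (Submodule.Quotient.mk_eq_zero J).mpr y.2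
  let e := TensorProduct.piRight A A A' (fun _ : Fin r => B)
  have he : ∀ (x : A' ⊗[A] (Fin r → B)), (φ.lTensor A') x =
      ∑ i, (e x) i * ((1 : A') ⊗ₜ[A] f i : TensorProduct A A' B) := by
    intro x
    induction x using TensorProduct.induction_on with
    | zero => simp
    | add x y hx hy => rw [map_add, hx, hy, map_add, ← Finset.sum_add_distrib]; simp [add_mul]
    | tmul a b =>
      have : φ b = ∑ i, b i * f i := hφB b
      rw [LinearMap.lTensor_tmul, this, TensorProduct.tmul_sum]
      refine Finset.sum_congr rfl fun i _ => ?_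
      simp [e]
  obtain ⟨x, rfl⟩ := e.surjective a
  have h1 : (φ.lTensor A') x = 0 := by rw [he, ha]
  have h2 : (φ'.lTensor A') x = 0 := by
    apply hιinj
    rw [map_zero, ← LinearMap.comp_apply, ← LinearMap.lTensor_comp]
    exact h1
  have hex := lTensor_exact A' (f := (LinearMap.ker φ').subtype) (g := φ')
    (LinearMap.exact_subtype_ker_map φ') hφ's
  obtain ⟨y, rfl⟩ := (hex x).mp h2
  change e _ ∈ triv _
  clear h2 h1 ha
  induction y using TensorProduct.induction_on with
  | zero => simp
  | add x y hx hy => rw [map_add, map_add]; exact add_mem hx hy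
  | tmul a n =>
    obtain ⟨n, hn⟩ := n
    have hn0 : ∑ i, n i * f i = 0 := by
      have h3 : φ' n = 0 := hn
      have : ((φ' n : J) : B) = 0 := by rw [h3]; rfl
      rw [← hφB]; exact this
    have hn1 : n ∈ triv f := hq n hn0
    have h4 := one_tmul_mem (A' := A') (A := A) f hn1
    have h5 : e ((LinearMap.lTensor A' (LinearMap.ker φ').subtype) (a ⊗ₜ[A] ⟨n, hn⟩)) =
        (a ⊗ₜ[A] (1 : B) : TensorProduct A A' B) •
          (fun i => ((1 : A') ⊗ₜ[A] n i : TensorProduct A A' B)) := by
      funext i
      simp [e]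
    rw [h5]
    exact Submodule.smul_mem _ _ h4

end Groth.Agent.S9273
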