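import Groth.Statements.S9275
import Mathlib.RingTheory.RingHom.Etale
import Mathlib.RingTheory.LocalProperties.Basic

set_option autoImplicit false
universe u
open EtAlg

namespace Groth.Agent.S9275

theorem etale_of_mem_span (A B : Type u) [CommRing A] [CommRing B] [Algebra A B]
    (T : Set B) (hT : ∀ h ∈ T, Algebra.Etale A (Localization.Away h)) (g : B)
    (hg : g ∈ Ideal.span T) : Algebra.Etale A (Localization.Away g) := by
  rw [← RingHom.etale_algebraMap]
  apply RingHom.Etale.ofLocalizationSpanTarget.ofIsLocalization RingHom.Etale.respectsIso _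
    (algebraMap B (Localization.Away g) '' T)
  · rw [← Ideal.map_span, Ideal.eq_top_iff_one]
    exact (Ideal.eq_top_iff_one _).1 (Ideal.eq_top_of_isUnit_mem _ (Ideal.mem_map_of_mem _ hg)
      (IsLocalization.Away.algebraMap_isUnit g))
  · rintro ⟨_, h, hh, rfl⟩
    have := hT h hh
    let Th := Localization.Away (algebraMap B (Localization.Away h) g)
    have h1 : IsLocalization.Away (h * g) Th := inferInstance
    have hg1 : IsUnit (algebraMap B Th g) := by
      rw [IsScalarTower.algebraMap_apply B (Localization.Away h) Th]
      exact IsLocalization.Away.algebraMap_isUnit _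
    let _ : Algebra (Localization.Away g) Th :=
      (IsLocalization.Away.lift (S := Localization.Away g) g hg1).toAlgebra
    have : IsScalarTower B (Localization.Away g) Th := IsScalarTower.of_algebraMap_eq (fun x => by
      rw [RingHom.algebraMap_toAlgebra, IsLocalization.Away.lift_eq])
    have : IsLocalization.Away (algebraMap B (Localization.Away g) h) Th :=
      IsLocalization.Away.commutes (Localization.Away g) (Localization.Away h) Th g h
    refine ⟨Th, inferInstance, inferInstance, ‹_›, ?_⟩
    have : Algebra.Etale A Th := inferInstance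
    have h2 : ((algebraMap (Localization.Away g) Th).comp (algebraMap A (Localization.Away g))) =
        algebraMap A Th := by
      rw [IsScalarTower.algebraMap_eq A B (Localization.Away g), ← RingHom.comp_assoc,
        ← IsScalarTower.algebraMap_eq B (Localization.Away g) Th, ← IsScalarTower.algebraMap_eq]
    rw [h2, RingHom.etale_algebraMap]
    exact this

/-- Let A → B be a ring map and J an ideal of B such that A → B is étale at every prime of V(J), in the
sense that every prime q ⊇ J has some h ∉ q with A → B_h étale. Then there is g ∈ B mapping to a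
unit of B/J such that A → B_g is étale. -/
theorem result (A B : Type u) [CommRing A] [CommRing B]
    [Algebra A B] (J : Ideal B)
    (h : ∀ (q : Ideal B) [q.IsPrime], J ≤ q → ∃ h : B, h ∉ q ∧ Algebra.Etale A (Localization.Away h)) :
    ∃ g : B, IsUnit (Ideal.Quotient.mk J g) ∧ Algebra.Etale A (Localization.Away g) := by
  let T : Set B := {h | Algebra.Etale A (Localization.Away h)}
  have htop : J ⊔ Ideal.span T = ⊤ := by
    by_contra hne
    obtain ⟨m, hm, hle⟩ := Ideal.exists_le_maximal _ hne
    have := hm.isPrime
    obtain ⟨h0, h1, h2⟩ := h m (le_sup_left.trans hle)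
    exact h1 (hle (Ideal.mem_sup_right (Ideal.subset_span h2)))
  obtain ⟨j, hj, g, hg, hjg⟩ := Submodule.mem_sup.1 ((Ideal.eq_top_iff_one _).1 htop)
  refine ⟨g, ?_, etale_of_mem_span A B T (fun _ h => h) g hg⟩
  have : Ideal.Quotient.mk J g = 1 := by
    rw [← map_one (Ideal.Quotient.mk J), ← hjg, map_add, Ideal.Quotient.eq_zero_iff_mem.2 hj,
      zero_add]
  rw [this]; exact isUnit_one

end Groth.Agent.S9275
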