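import Groth.Statements.S9278
import Groth.Agent.CAlgX.K581.McCoy

set_option autoImplicit false
universe u
open CAlgX

namespace Groth.Agent.S9278

/-- Let R be a Noetherian local ring and φ : R^m → R^n a map of finite free modules with matrix M. Then
φ is injective if and only if the rank of M is m and the determinantal ideal I(M) is the unit ideal
or contains a nonzerodivisor. -/
theorem result (R : Type u) [CommRing R]
    [IsLocalRing R] [IsNoetherianRing R] (m n : ℕ) (M : Matrix (Fin n) (Fin m) R) :
    Function.Injective (Matrix.mulVecLin M) ↔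
      CAlgX.matrixRank M = m ∧ (CAlgX.detIdeal M = ⊤ ∨ ∃ a ∈ CAlgX.detIdeal M, IsRegular a) := by
  rw [K581.McCoy.injective_iff_rank M]
  refine and_congr_right fun _ => ⟨fun h => ?_, fun h => ?_⟩
  · obtain ⟨a, ha, ha'⟩ := K581.McCoy.exists_nonZeroDivisor _ h
    exact Or.inr ⟨a, ha, isRegular_iff_mem_nonZeroDivisors.2 ha'⟩
  · rcases h with h | ⟨a, ha, ha'⟩
    · refine K581.McCoy.annihilator_eq_bot_of_mem (a := 1) ?_ (Submonoid.one_mem _)
      rw [h]; trivial
    · exact K581.McCoy.annihilator_eq_bot_of_mem ha (isRegular_iff_mem_nonZeroDivisors.1 ha')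

end Groth.Agent.S9278
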