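import Groth.Statements.S9280
import Groth.Agent.S2617
import Groth.Agent.S2625
import Groth.Agent.CalgA.NagataFinite
import Groth.Agent.CalgA.NagataBasic
import Groth.Agent.EGA4.K114.DimOne

set_option autoImplicit false
universe u
open EGA4

namespace Groth.Agent.S9280

/-- A Nagata ring of dimension 1 is J-2, that is, every finite type algebra over it has open regular
locus. -/
theorem result (R : Type u) [CommRing R] (hR : CAlg.IsNagata R)
    (hdim : ringKrullDim R = 1) : EGA4.IsJ2 R := by
  have hNR : IsNoetherianRing R := hR.1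
  rw [Groth.Agent.S2617.result]
  intro A' _ _ _ hfin
  have hNA' : IsNoetherianRing A' := IsNoetherianRing.of_finite R A'
  have hN2 : CAlg.IsN2 A' := CalgA.NagataFinite.isN2_of_isNagata_of_finite hR A'
  have hN1 : CAlg.IsN1 A' := CalgA.NagataBasic.isN1_of_isN2 hN2
  have hd : ringKrullDim A' ≤ 1 := by
    rw [← hdim]
    exact K114.DimOne.ringKrullDim_le_of_isIntegral
  refine ⟨EGA4.norLocus A', Groth.Agent.S2625.result A' hN1, ⟨⟨⊥, inferInstance⟩, ?_⟩, ?_⟩
  · have hbot : (⊥ : Ideal A').primeCompl ≤ nonZeroDivisors A' := fun x hx => by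
      apply mem_nonZeroDivisors_of_ne_zero
      rintro rfl
      exact hx (Ideal.zero_mem _)
    have hbot' : (⊥ : Ideal A').primeCompl = nonZeroDivisors A' := by
      ext x
      simp [Ideal.primeCompl]
    have : IsFractionRing A' (Localization.AtPrime (⊥ : Ideal A')) := by
      change IsLocalization (nonZeroDivisors A') (Localization (⊥ : Ideal A').primeCompl)
      rw [← hbot']
      infer_instance
    let : Field (Localization.AtPrime (⊥ : Ideal A')) := IsFractionRing.toField A'
    exact ⟨inferInstance, inferInstance⟩
  · intro q hq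
    obtain ⟨h1, h2⟩ := hq
    have h3 : ringKrullDim (Localization.AtPrime q.asIdeal) ≤ 1 := by
      refine le_trans ?_ hd
      rw [IsLocalization.AtPrime.ringKrullDim_eq_height q.asIdeal]
      exact Ideal.height_le_ringKrullDim_of_ne_top q.2.ne_top
    exact K114.DimOne.isRegular_of_normal _ h3

end Groth.Agent.S9280
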