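import Groth.Statements.S9282
import Groth.Agent.CAlg.K70.AdicH1

set_option autoImplicit false
universe u
open CAlg

namespace Groth.Agent.S9282

/-- Let A → B be a local ring map between Noetherian local rings that is formally smooth for the adic
topology of the maximal ideal of B, and write K for the residue field of B. In the Jacobi–Zariski
sequence attached to A → B → K, the map from H_1(NL_{K/A}) to H_1(NL_{K/B}), which is m_B/m_B^2, is
injective; the remaining terms are exact in general, so that sequence starts with a zero. -/
theorem result (A B : Type u) [CommRing A]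
    [CommRing B] [IsLocalRing A] [IsLocalRing B] [IsNoetherianRing A] [IsNoetherianRing B]
    [Algebra A B] [IsLocalHom (algebraMap A B)]
    (hfs : CAlgX.IsAdicFormallySmooth A B (IsLocalRing.maximalIdeal B)) :
    Function.Injective
      (Algebra.H1Cotangent.map A B (IsLocalRing.ResidueField B) (IsLocalRing.ResidueField B)) := by
  refine K70.AdicH1.map_injective_of_lift IsLocalRing.residue_surjective
    fun E _ _ π hπ hker ↦ ?_
  let e := Ideal.quotientKerAlgEquivOfSurjective hπ
  obtain ⟨χ, hχ⟩ := hfs E (RingHom.ker π) hker
    (e.symm.toAlgHom.comp (IsScalarTower.toAlgHom A B (IsLocalRing.ResidueField B))) (by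
      refine ⟨1, fun x hx ↦ ?_⟩
      rw [pow_one] at hx
      have h1 : (IsScalarTower.toAlgHom A B (IsLocalRing.ResidueField B)) x = 0 :=
        (IsLocalRing.residue_eq_zero_iff x).mpr hx
      rw [AlgHom.comp_apply, h1, map_zero])
  refine ⟨χ, AlgHom.ext fun b ↦ ?_⟩
  have h2 := congrArg (fun g : B →ₐ[A] E ⧸ RingHom.ker π ↦ e (g b)) hχ
  have h3 : e (e.symm (IsScalarTower.toAlgHom A B (IsLocalRing.ResidueField B) b)) =
    IsScalarTower.toAlgHom A B (IsLocalRing.ResidueField B) b := AlgEquiv.apply_symm_apply _ _
  exact h2.trans h3

end Groth.Agent.S9282
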