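import Groth.Statements.S9283

set_option autoImplicit false
universe u
open CAlg

namespace Groth.Agent.S9283

/-- Let R be an auto-associated ring, that is, a local ring whose maximal ideal is weakly associated to
R: some nonzero x ∈ R is killed by a power of every element of the maximal ideal. Then every proper
finitely generated ideal of R has a nonzero annihilator. -/
theorem result (R : Type u) [CommRing R] [IsLocalRing R]
    (h : ∃ x : R, x ≠ 0 ∧ ∀ f ∈ IsLocalRing.maximalIdeal R, ∃ n : ℕ, f ^ n * x = 0)
    (I : Ideal R) (hI : I.FG) (hI' : I ≠ ⊤) : I.annihilator ≠ ⊥ := by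
  obtain ⟨x, hx0, hx⟩ := h
  obtain ⟨s, hs⟩ := hI
  have hIm : I ≤ IsLocalRing.maximalIdeal R := IsLocalRing.le_maximalIdeal hI'
  have key : ∀ t : Finset R, (∀ f ∈ t, f ∈ IsLocalRing.maximalIdeal R) →
      ∃ y : R, y ≠ 0 ∧ (∀ f ∈ t, f * y = 0) ∧ ∃ a : R, y = a * x := by
    classical
    intro t
    induction t using Finset.induction_on with
    | empty => exact fun _ ↦ ⟨x, hx0, by simp, 1, by simp⟩
    | insert f t hf ih =>
      intro h
      obtain ⟨y, hy0, hy, a, ha⟩ := ih fun g hg ↦ h g (Finset.mem_insert_of_mem hg)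
      have hex : ∃ n : ℕ, f ^ n * y = 0 := by
        obtain ⟨n, hn⟩ := hx f (h f (Finset.mem_insert_self f t))
        exact ⟨n, by rw [ha, mul_left_comm, hn, mul_zero]⟩
      have hn0 : Nat.find hex ≠ 0 := by
        intro h0
        apply hy0
        have := Nat.find_spec hex
        rwa [h0, pow_zero, one_mul] at this
      obtain ⟨n, hn⟩ := Nat.exists_eq_succ_of_ne_zero hn0
      refine ⟨f ^ n * y, Nat.find_min hex (by omega), ?_, f ^ n * a, by rw [ha, mul_assoc]⟩
      intro g hg
      rcases Finset.mem_insert.mp hg with rfl | hg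
      · have := Nat.find_spec hex
        rw [hn, Nat.succ_eq_add_one, pow_succ'] at this
        rw [← mul_assoc, this]
      · rw [mul_left_comm, hy g hg, mul_zero]
  obtain ⟨y, hy0, hy, -⟩ := key s fun f hf ↦ hIm (hs ▸ Ideal.subset_span hf)
  intro h0
  apply hy0
  have : y ∈ I.annihilator := by
    rw [← hs, Submodule.mem_annihilator_span]
    rintro ⟨f, hf⟩
    rw [smul_eq_mul, mul_comm]
    exact hy f hf
  rwa [h0, Ideal.mem_bot] at this

end Groth.Agent.S9283
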