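import Groth.Statements.S9285

set_option autoImplicit false
universe u
open CAlg

namespace Groth.Agent.S9285

/-- A ring R has the property that every proper finitely generated ideal has a nonzero annihilator if
and only if every injective linear map R → R^n admits a retraction. -/
theorem result (R : Type u) [CommRing R] :
    (∀ I : Ideal R, I.FG → I ≠ ⊤ → I.annihilator ≠ ⊥) ↔
      ∀ (n : ℕ) (u : R →ₗ[R] (Fin n → R)), Function.Injective u →
        ∃ v : (Fin n → R) →ₗ[R] R, v.comp u = LinearMap.id := by
  constructor
  · intro h n u hu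
    let I : Ideal R := Ideal.span (Set.range (u 1))
    have hI : I = ⊤ := by
      by_contra hne
      refine h I ⟨(Set.finite_range (u 1)).toFinset, by simp [I]⟩ hne ?_
      rw [eq_bot_iff]
      intro r hr
      rw [Submodule.mem_annihilator] at hr
      rw [Ideal.mem_bot]
      apply hu
      rw [map_zero]
      ext i
      have h1 : u r = r • u 1 := by rw [← map_smul, smul_eq_mul, mul_one]
      rw [h1, Pi.smul_apply, Pi.zero_apply]
      exact hr _ (Ideal.subset_span ⟨i, rfl⟩)
    have h1 : (1 : R) ∈ I := by rw [hI]; trivial
    obtain ⟨c, hc⟩ := (Submodule.mem_span_range_iff_exists_fun R).mp h1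
    refine ⟨∑ i, c i • LinearMap.proj i, ?_⟩
    ext
    simpa using hc
  · intro h I hI hne h0
    obtain ⟨n, a, ha⟩ := Submodule.fg_iff_exists_fin_generating_family.mp hI
    obtain ⟨v, hv⟩ := h n (LinearMap.toSpanSingleton R _ a) (by
      rw [injective_iff_map_eq_zero]
      intro r hr
      rw [LinearMap.toSpanSingleton_apply] at hr
      have : r ∈ I.annihilator := by
        rw [← ha, Submodule.mem_annihilator_span]
        rintro ⟨_, i, rfl⟩
        exact congr_fun hr i
      rwa [h0, Ideal.mem_bot] at this)
    apply hne
    rw [Ideal.eq_top_iff_one]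
    have h1 := LinearMap.congr_fun hv 1
    rw [LinearMap.comp_apply, LinearMap.toSpanSingleton_apply, one_smul, LinearMap.id_apply] at h1
    rw [← h1, LinearMap.pi_apply_eq_sum_univ v a]
    refine sum_mem fun i _ ↦ ?_
    rw [smul_eq_mul]
    refine Ideal.mul_mem_right _ _ ?_
    rw [← ha]
    exact Submodule.subset_span ⟨i, rfl⟩

end Groth.Agent.S9285
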