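import Groth.Statements.S9286
import Groth.Agent.S9285
import Mathlib.RingTheory.Finiteness.Cardinality
import Mathlib.LinearAlgebra.Quotient.Basic
import Mathlib.RingTheory.Finiteness.Prod
import Mathlib.Algebra.Module.Projective

set_option autoImplicit false
universe u
open CAlg

namespace Groth.Agent.S9286

private theorem exists_retraction_one {R : Type u} [CommRing R]
    (hP : (∀ I : Ideal R, I.FG → I ≠ ⊤ → I.annihilator ≠ ⊥)) (M : Type u) [AddCommGroup M]
    [Module R M] [Module.Finite R M] [Module.Projective R M] (u : R →ₗ[R] M)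
    (hu : Function.Injective u) : ∃ v : M →ₗ[R] R, v.comp u = LinearMap.id := by
  obtain ⟨k, s, hs⟩ := Module.Finite.exists_fin' R M
  obtain ⟨i, hi⟩ := Module.projective_lifting_property s LinearMap.id hs
  have hii : Function.Injective i := by
    intro x y h
    rw [← LinearMap.id_apply (R := R) x, ← LinearMap.id_apply (R := R) y, ← hi,
      LinearMap.comp_apply, LinearMap.comp_apply, h]
  obtain ⟨v, hv⟩ := (Groth.Agent.S9285.result R).mp hP k (i ∘ₗ u) (hii.comp hu)
  exact ⟨v ∘ₗ i, by rw [← hv]; rfl⟩

private theorem exists_retraction {R : Type u} [CommRing R]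
    (hP : (∀ I : Ideal R, I.FG → I ≠ ⊤ → I.annihilator ≠ ⊥)) (m : ℕ) :
    ∀ (M : Type u) [AddCommGroup M] [Module R M] [Module.Finite R M] [Module.Projective R M]
      (u : (Fin m → R) →ₗ[R] M), Function.Injective u →
      ∃ v : M →ₗ[R] (Fin m → R), v.comp u = LinearMap.id := by
  induction m with
  | zero =>
    intro M _ _ _ _ u _
    refine ⟨0, ?_⟩
    ext i
    exact i.elim0
  | succ m ih =>
    intro M _ _ _ _ u hu
    -- the first coordinate line
    let j : R →ₗ[R] (Fin (m + 1) → R) := LinearMap.single R (fun _ ↦ R) 0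
    let c : (Fin m → R) →ₗ[R] (Fin (m + 1) → R) :=
      LinearMap.pi fun i ↦ Fin.cases 0 (fun k ↦ LinearMap.proj k) i
    have hc0 : ∀ y, c y 0 = 0 := fun y ↦ rfl
    have hcs : ∀ y k, c y (Fin.succ k) = y k := fun y k ↦ rfl
    have hj0 : ∀ r, j r 0 = r := fun r ↦ by simp [j]
    have hjs : ∀ r k, j r (Fin.succ k) = 0 := fun r k ↦ by simp [j]
    have hdec : ∀ x : Fin (m + 1) → R, x = j (x 0) + c (fun k ↦ x k.succ) := by
      intro x
      ext i
      refine Fin.cases ?_ (fun k ↦ ?_) i
      · rw [Pi.add_apply, hj0, hc0, add_zero]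
      · rw [Pi.add_apply, hjs, hcs, zero_add]
    have hji : Function.Injective j := by
      intro a b h
      rw [← hj0 a, ← hj0 b, h]
    obtain ⟨v₀, hv₀⟩ := exists_retraction_one hP M (u ∘ₗ j) (hu.comp hji)
    have hv₀' : ∀ r, v₀ (u (j r)) = r := fun r ↦ LinearMap.congr_fun hv₀ r
    let Q := LinearMap.ker v₀
    let π : M →ₗ[R] Q := LinearMap.codRestrict _ (LinearMap.id - (u ∘ₗ j) ∘ₗ v₀) (by
      intro x
      rw [LinearMap.mem_ker]
      simp [hv₀'])
    have hπ : ∀ x, ((π x : Q) : M) = x - u (j (v₀ x)) := fun x ↦ rfl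
    have : Module.Finite R Q := Module.Finite.of_surjective π (by
      rintro ⟨x, hx⟩
      refine ⟨x, Subtype.ext ?_⟩
      rw [hπ, LinearMap.mem_ker.mp hx, map_zero, map_zero, sub_zero])
    have : Module.Projective R Q := Module.Projective.of_split Q.subtype π (by
      ext x : 1
      apply Subtype.ext
      rw [LinearMap.comp_apply, hπ]
      simp)
    let u' : (Fin m → R) →ₗ[R] Q := π ∘ₗ u ∘ₗ c
    have hu' : Function.Injective u' := by
      rw [injective_iff_map_eq_zero]
      intro y hy
      have h1 := congr_arg Subtype.val hy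
      change u (c y) - u (j (v₀ (u (c y)))) = 0 at h1
      rw [sub_eq_zero] at h1
      have h2 := hu h1
      ext k
      rw [← hcs y k, h2, hjs]
      rfl
    obtain ⟨v', hv'⟩ := ih Q u' hu'
    have hv'' : ∀ y, v' (π (u (c y))) = y := fun y ↦ LinearMap.congr_fun hv' y
    refine ⟨j ∘ₗ v₀ ∘ₗ (LinearMap.id - u ∘ₗ c ∘ₗ v' ∘ₗ π) + c ∘ₗ v' ∘ₗ π, ?_⟩
    refine LinearMap.ext fun x ↦ ?_
    have h1 : π (u x) = π (u (c fun k ↦ x k.succ)) := by
      apply Subtype.ext
      rw [hπ, hπ]
      conv_lhs => rw [hdec x]
      simp only [map_add, hv₀']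
      abel
    have h2 : v' (π (u x)) = fun k ↦ x k.succ := by rw [h1, hv'']
    have h3 : u x - u (c fun k ↦ x k.succ) = u (j (x 0)) := by
      conv_lhs => rw [hdec x]
      simp only [map_add]
      have : (fun k : Fin m ↦ (j (x 0) + c fun k ↦ x k.succ) k.succ) = fun k ↦ x k.succ := by
        ext k
        rw [Pi.add_apply, hjs, hcs, zero_add]
      rw [this]
      abel
    simp only [LinearMap.comp_apply, LinearMap.add_apply, LinearMap.sub_apply, LinearMap.id_apply]
    rw [h2, h3, hv₀', ← hdec x]

/-- Let R be a ring in which every proper finitely generated ideal has a nonzero annihilator. Given an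
injective R-linear map u : N → M, where both N and M are finite and projective over R, the quotient
Coker(u) = M/u(N) is again projective as an R-module. -/
theorem result (R : Type u) [CommRing R]
    (hP : (∀ I : Ideal R, I.FG → I ≠ ⊤ → I.annihilator ≠ ⊥))
    (N M : Type u) [AddCommGroup N] [Module R N] [Module.Finite R N] [Module.Projective R N]
    [AddCommGroup M] [Module R M] [Module.Finite R M] [Module.Projective R M]
    (u : N →ₗ[R] M) (hu : Function.Injective u) :
    Module.Projective R (M ⧸ LinearMap.range u) := by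
  classical
  obtain ⟨m, s, hs⟩ := Module.Finite.exists_fin' R N
  obtain ⟨i, hi⟩ := Module.projective_lifting_property s LinearMap.id hs
  have hsi : ∀ n, s (i n) = n := fun n ↦ LinearMap.congr_fun hi n
  let N' := LinearMap.ker s
  -- the retraction `R^m → N'`
  let t : (Fin m → R) →ₗ[R] N' := LinearMap.codRestrict _ (LinearMap.id - i ∘ₗ s) (by
    intro x
    rw [LinearMap.mem_ker]
    simp [hsi])
  have ht : ∀ x, ((t x : N') : Fin m → R) = x - i (s x) := fun x ↦ rfl
  have : Module.Finite R N' := Module.Finite.of_surjective t (by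
    rintro ⟨x, hx⟩
    refine ⟨x, Subtype.ext ?_⟩
    rw [ht, LinearMap.mem_ker.mp hx, map_zero, sub_zero])
  have : Module.Projective R N' := Module.Projective.of_split N'.subtype t (by
    ext x : 1
    apply Subtype.ext
    rw [LinearMap.comp_apply, ht]
    simp)
  let e : (Fin m → R) →ₗ[R] M × N' := (u ∘ₗ s).prod t
  have he : Function.Injective e := by
    rw [injective_iff_map_eq_zero]
    intro x hx
    have h1 : u (s x) = 0 := congr_arg Prod.fst hx
    have h2 : t x = 0 := congr_arg Prod.snd hx
    have h3 : s x = 0 := hu (by rw [h1, map_zero])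
    have h4 := congr_arg Subtype.val h2
    rw [ht, h3, map_zero, sub_zero] at h4
    exact h4
  obtain ⟨w, hw⟩ := exists_retraction hP m (M × N') e he
  let v : M →ₗ[R] N := s ∘ₗ w ∘ₗ LinearMap.inl R M N'
  have hv : ∀ n, v (u n) = n := by
    intro n
    have h1 : e (i n) = (u n, 0) := by
      refine Prod.ext ?_ ?_
      · change u (s (i n)) = u n
        rw [hsi]
      · apply Subtype.ext
        change ((t (i n) : N') : Fin m → R) = 0
        rw [ht, hsi, sub_self]
    change s (w (u n, 0)) = n
    rw [← h1]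
    have := LinearMap.congr_fun hw (i n)
    rw [LinearMap.comp_apply, LinearMap.id_apply] at this
    rw [this, hsi]
  refine Module.Projective.of_split
    ((LinearMap.range u).liftQ (LinearMap.id - u ∘ₗ v) ?_) (LinearMap.range u).mkQ ?_
  · rintro _ ⟨n, rfl⟩
    rw [LinearMap.mem_ker]
    simp [hv]
  · ext x
    simp only [LinearMap.comp_apply, Submodule.mkQ_apply, Submodule.liftQ_apply, LinearMap.sub_apply,
      LinearMap.id_apply, map_sub]
    have : (Submodule.Quotient.mk (u (v x)) : M ⧸ LinearMap.range u) = 0 :=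
      (Submodule.Quotient.mk_eq_zero _).mpr ⟨_, rfl⟩
    rw [this, sub_zero]

end Groth.Agent.S9286
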