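import Groth.Statements.S9288
import Groth.Agent.CAlg.K70.DiffBasis
import Groth.Agent.S2036

set_option autoImplicit false
universe u
open CAlg

namespace Groth.Agent.S9288

/-- Let k be a field of positive characteristic p and (A, m, K) a Noetherian local k-algebra which is
geometrically regular over k. Let F ⊆ K be a subfield containing k, finitely generated over k, and φ
: k[y_1, ..., y_m] → A a k-algebra map such that each y_i maps into F (modulo m) and such that the
differentials of the images of y_1, ..., y_m form a basis of Ω_{F/k}. Let 𝔭 be the inverse image of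
m in k[y_1, ..., y_m]. Then A is flat over k[y_1, ..., y_m] (equivalently over its localization at
𝔭, since A is local) and A/𝔭A is a regular local ring. -/
theorem result (p : ℕ)
    [Fact p.Prime] (k : Type u) [Field k] [CharP k p] (A : Type u) [CommRing A] [IsLocalRing A]
    [IsNoetherianRing A] [Algebra k A] (hA : CAlg.IsGeometricallyRegular k A)
    (F : IntermediateField k (IsLocalRing.ResidueField A)) (hF : F.FG) (m : ℕ)
    (φ : MvPolynomial (Fin m) k →ₐ[k] A)
    (hφ : ∀ i : Fin m, IsLocalRing.residue A (φ (MvPolynomial.X i)) ∈ F)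
    (hb : LinearIndependent F
        (fun i : Fin m => KaehlerDifferential.D k F ⟨IsLocalRing.residue A (φ (MvPolynomial.X i)), hφ i⟩) ∧
      Submodule.span F (Set.range
        (fun i : Fin m => KaehlerDifferential.D k F ⟨IsLocalRing.residue A (φ (MvPolynomial.X i)), hφ i⟩)) = ⊤) :
    letI := φ.toRingHom.toAlgebra
    Module.Flat (MvPolynomial (Fin m) k) A ∧
      IsRegularLocalRing (A ⧸ Ideal.map φ.toRingHom
        (Ideal.comap φ.toRingHom (IsLocalRing.maximalIdeal A))) := by
  have hfs : CAlgX.IsAdicFormallySmooth k A (IsLocalRing.maximalIdeal A) :=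
    (Groth.Agent.S2036.result p).mp hA
  have hreg : IsRegularLocalRing A := by
    have h1 : IsRegularRing (TensorProduct k k A) := hA k inferInstance
    have h2 : IsRegularRing A := IsRegularRing.of_ringEquiv (Algebra.TensorProduct.lid k A).toRingEquiv
    exact IsRegularLocalRing.of_isRegularRing_of_isLocalRing _
  refine K70.DiffBasis.flat_and_regular hfs φ fun f hf i ↦ ?_
  -- the images of the `y_i` in `F`
  set y : Fin m → F := fun i ↦ ⟨IsLocalRing.residue A (φ (MvPolynomial.X i)), hφ i⟩ with hy
  have h1 : ∀ g : MvPolynomial (Fin m) k,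
      algebraMap F (IsLocalRing.ResidueField A) (MvPolynomial.aeval y g) = IsLocalRing.residue A (φ g) := by
    intro g
    rw [← MvPolynomial.aeval_algebraMap_apply]
    exact (congrArg (fun G : MvPolynomial (Fin m) k →ₐ[k] IsLocalRing.ResidueField A ↦ G g)
      (MvPolynomial.aeval_unique ((IsScalarTower.toAlgHom k A (IsLocalRing.ResidueField A)).comp φ))).symm
  have h2 : MvPolynomial.aeval y f = 0 := by
    apply (algebraMap F (IsLocalRing.ResidueField A)).injective
    rw [h1, map_zero]
    exact (IsLocalRing.residue_eq_zero_iff _).mpr hf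
  have h3 := K70.DiffBasis.derivation_aeval (KaehlerDifferential.D k F) y f
  rw [h2, map_zero] at h3
  have h4 := (Fintype.linearIndependent_iff.mp hb.1) _ h3.symm i
  rw [← IsLocalRing.residue_eq_zero_iff, ← h1]
  exact (congrArg _ h4).trans (map_zero _)

end Groth.Agent.S9288
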