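import Groth.Statements.S9291
import Mathlib.RingTheory.Etale.Basic
import Mathlib.RingTheory.Localization.Away.Basic
import Mathlib.RingTheory.Localization.Ideal
import Mathlib.Tactic.LinearCombination

set_option autoImplicit false
universe u
open EtAlg

namespace Groth.Agent.S9291

/-- Let A be a ring, I an ideal and u a unit of A/I. Then there is an étale ring map A → A' such that
A/I → A'/IA' is an isomorphism, together with a unit of A' mapping to the image of u. -/
theorem result (A : Type u) [CommRing A] (I : Ideal A) (u : (A ⧸ I)ˣ) :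
    ∃ (A' : Type u) (_ : CommRing A') (_ : Algebra A A'), Algebra.Etale A A' ∧
      Function.Bijective (Ideal.quotientMap (Ideal.map (algebraMap A A') I) (algebraMap A A')
        Ideal.le_comap_map) ∧
      ∃ u' : A'ˣ, Ideal.Quotient.mk (Ideal.map (algebraMap A A') I) (u' : A') =
        Ideal.quotientMap (Ideal.map (algebraMap A A') I) (algebraMap A A') Ideal.le_comap_map
          (u : A ⧸ I) := by
  obtain ⟨a, ha⟩ := Ideal.Quotient.mk_surjective (u : A ⧸ I)
  obtain ⟨b, hb⟩ := Ideal.Quotient.mk_surjective ((u⁻¹ : (A ⧸ I)ˣ) : A ⧸ I)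
  have hab : a * b - 1 ∈ I := by
    rw [← Ideal.Quotient.eq_zero_iff_mem, map_sub, map_mul, ha, hb, map_one, Units.mul_inv,
      sub_self]
  -- `a b = 1 + i`
  have hpow : ∀ n : ℕ, a ^ n * b ^ n - 1 ∈ I := by
    intro n
    rw [← Ideal.Quotient.eq_zero_iff_mem, map_sub, map_mul, map_pow, map_pow, ha, hb, map_one,
      ← mul_pow, Units.mul_inv, one_pow, sub_self]
  let A' := Localization.Away a
  have hunit : IsUnit (algebraMap A A' a) := IsLocalization.Away.algebraMap_isUnit a
  refine ⟨A', inferInstance, inferInstance, Algebra.Etale.of_isLocalizationAway a, ⟨?_, ?_⟩,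
    hunit.unit, ?_⟩
  · rw [injective_iff_map_eq_zero]
    intro x hx
    obtain ⟨x, rfl⟩ := Ideal.Quotient.mk_surjective x
    rw [Ideal.quotientMap_mk, Ideal.Quotient.eq_zero_iff_mem,
      IsLocalization.algebraMap_mem_map_algebraMap_iff (Submonoid.powers a)] at hx
    obtain ⟨_, ⟨n, rfl⟩, hs⟩ := hx
    rw [Ideal.Quotient.eq_zero_iff_mem]
    have h1 : b ^ n * (a ^ n * x) ∈ I := I.mul_mem_left _ hs
    have h2 : (a ^ n * b ^ n - 1) * x ∈ I := I.mul_mem_right _ (hpow n)
    have : x = b ^ n * (a ^ n * x) - (a ^ n * b ^ n - 1) * x := by ring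
    rw [this]; exact I.sub_mem h1 h2
  · intro y
    obtain ⟨y, rfl⟩ := Ideal.Quotient.mk_surjective y
    obtain ⟨n, x, hx⟩ := IsLocalization.Away.surj a y
    refine ⟨Ideal.Quotient.mk I (x * b ^ n), ?_⟩
    rw [Ideal.quotientMap_mk, Ideal.Quotient.eq]
    have h1 : algebraMap A A' (a ^ n * b ^ n - 1) ∈ I.map (algebraMap A A') :=
      Ideal.mem_map_of_mem _ (hpow n)
    have : algebraMap A A' (x * b ^ n) - y = y * algebraMap A A' (a ^ n * b ^ n - 1) := by
      rw [map_mul, ← hx, map_sub, map_mul, map_one, map_pow, map_pow]; ring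
    rw [this]; exact Ideal.mul_mem_left _ _ h1
  · rw [← ha, Ideal.quotientMap_mk]
    rfl

end Groth.Agent.S9291
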