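import Groth.Statements.S9292
import Groth.Agent.CalgB.EtaleNbhd
import Mathlib.RingTheory.Etale.Pi
import Mathlib.RingTheory.Idempotents

set_option autoImplicit false
universe u
open EtAlg

namespace Groth.Agent.S9292

/-- the algebra map `A^n → S` attached to a complete system of orthogonal idempotents. -/
noncomputable def piHom (A : Type u) [CommRing A] (S : Type u) [CommRing S] [Algebra A S]
    (n : ℕ) (e : Fin n → S) (he : CompleteOrthogonalIdempotents e) : (Fin n → A) →ₐ[A] S where
  toFun a := ∑ i, algebraMap A S (a i) * e i
  map_one' := by simp only [Pi.one_apply, map_one, one_mul, he.complete]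
  map_mul' a b := by
    rw [Finset.sum_mul_sum]
    simp only [Pi.mul_apply, map_mul]
    refine Finset.sum_congr rfl fun i _ => ?_
    rw [Finset.sum_eq_single i]
    · have := (he.idem i).eq
      linear_combination -(algebraMap A S (a i) * algebraMap A S (b i)) * this
    · intro j _ hj
      have := he.ortho hj.symm
      linear_combination (algebraMap A S (a i) * algebraMap A S (b j)) * this
    · intro h; exact absurd (Finset.mem_univ i) h
  map_zero' := by simp
  map_add' a b := by
    simp only [Pi.add_apply, map_add, add_mul, Finset.sum_add_distrib]
  commutes' r := by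
    simp only [Pi.algebraMap_apply, Algebra.algebraMap_self, RingHom.id_apply]
    rw [← Finset.mul_sum, he.complete, mul_one]

theorem piHom_single (A : Type u) [CommRing A] (S : Type u) [CommRing S] [Algebra A S]
    (n : ℕ) (e : Fin n → S) (he : CompleteOrthogonalIdempotents e) (j : Fin n) :
    piHom A S n e he (Pi.single j 1) = e j := by
  change ∑ i, algebraMap A S ((Pi.single j (1 : A) : Fin n → A) i) * e i = e j
  rw [Finset.sum_eq_single j]
  · simp
  · intro i _ hi
    rw [Pi.single_eq_of_ne hi, map_zero, zero_mul]
  · intro h; exact absurd (Finset.mem_univ j) h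

/-- Let A be a ring, I an ideal, and e_1, ..., e_n a complete system of orthogonal idempotents of A/I
(equivalently a finite disjoint open covering of Spec(A/I)). Then one can find an A-algebra A' that
is étale over A, such that the induced map A/I → A'/IA' is bijective, together with a complete
system of orthogonal idempotents of A' lifting the e_j. -/
theorem result (A : Type u) [CommRing A] (I : Ideal A)
    (n : ℕ) (e : Fin n → A ⧸ I) (he : CompleteOrthogonalIdempotents e) :
    ∃ (A' : Type u) (_ : CommRing A') (_ : Algebra A A'), Algebra.Etale A A' ∧
      Function.Bijective (Ideal.quotientMap (Ideal.map (algebraMap A A') I) (algebraMap A A')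
        Ideal.le_comap_map) ∧
      ∃ e' : Fin n → A', CompleteOrthogonalIdempotents e' ∧
        ∀ j, Ideal.Quotient.mk (Ideal.map (algebraMap A A') I) (e' j) =
          Ideal.quotientMap (Ideal.map (algebraMap A A') I) (algebraMap A A') Ideal.le_comap_map
            (e j) := by
  have : Algebra.Etale A (Fin n → A) := inferInstance
  have : Algebra.Smooth A (Fin n → A) := inferInstance
  obtain ⟨A', _, _, h1, h2, τ, hτ⟩ :=
    CalgB.EtaleNbhd.exists_etale_lift_section_of_smooth (B := Fin n → A) I (piHom A (A ⧸ I) n e he)
  refine ⟨A', inferInstance, inferInstance, h1, h2, fun j => τ (Pi.single j 1), ?_, ?_⟩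
  · have := (CompleteOrthogonalIdempotents.single (fun _ : Fin n => A)).map τ.toRingHom
    exact this
  · intro j
    rw [hτ, piHom_single]
    rfl

end Groth.Agent.S9292
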