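import Groth.Statements.S9294
import Groth.Agent.CalgB.RegHom6

set_option autoImplicit false
universe u
open CAlg

namespace Groth.Agent.S9294

open TensorProduct Groth.Agent.CalgB.RegHom6

/-- If A → B and B → C are regular ring maps and every fibre ring of the composite A → C is Noetherian,
the composite is regular. -/
theorem result (A B C : Type u) [CommRing A] [CommRing B] [CommRing C]
    [Algebra A B] [Algebra B C] [Algebra A C] [IsScalarTower A B C]
    (hAB : CAlg.IsRegularHom A B) (hBC : CAlg.IsRegularHom B C)
    (hN : ∀ (p : Ideal A) [p.IsPrime], IsNoetherianRing (p.Fiber C)) :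
    CAlg.IsRegularHom A C := by
  rw [isRegularHom_iff] at *
  have := hAB.1
  have := hBC.1
  refine ⟨Module.Flat.trans A B C, hAB.2.comp' hBC.2 fun K _ _ hK ↦ ?_⟩
  let p : Ideal A := RingHom.ker (algebraMap A K)
  have hp : p.IsPrime := RingHom.ker_isPrime _
  let f : p.ResidueField →ₐ[A] K := Ideal.ResidueField.liftₐ p (Algebra.ofId A K) le_rfl (by
    intro x hx
    have hx' : algebraMap A K x ≠ 0 := fun h0 ↦ hx h0
    exact (isUnit_iff_ne_zero.mpr hx'))
  let _ : Algebra p.ResidueField K := f.toRingHom.toAlgebra
  have : IsScalarTower A p.ResidueField K := .of_algebraMap_eq fun x ↦ (f.commutes x).symm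
  have : Algebra.EssFiniteType p.ResidueField K := Algebra.EssFiniteType.of_comp A _ _
  have h0 : IsNoetherianRing (p.ResidueField ⊗[A] C) := hN p
  have h1 : IsNoetherianRing (K ⊗[p.ResidueField] (p.ResidueField ⊗[A] C)) :=
    isNoetherianRing_tensor _ _ _
  exact isNoetherianRing_of_ringEquiv _
    (Algebra.TensorProduct.cancelBaseChange A p.ResidueField K K C).toRingEquiv

end Groth.Agent.S9294
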