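import Groth.Statements.S9298
import Groth.Agent.CAlg.K302.AlgzIdeal

set_option autoImplicit false
universe u
open CAlg

namespace Groth.Agent.S9298

theorem aux {A : Type u} [CommRing A] [IsNoetherianRing A] (I : Ideal A) (B : Type u) [CommRing B] [Algebra A B]
    [Algebra.FiniteType A B] (𝔞 : Ideal B) (h𝔞 : 𝔞 = Ideal.map (algebraMap A B) I) (C : Type u) [CommRing C]
    (π : AdicCompletion 𝔞 B →+* C) (hπ : Function.Surjective π) (c : ℕ)
    (hJ : (𝔞.map (algebraMap B (AdicCompletion 𝔞 B))) ^ c * RingHom.ker π ≤ RingHom.ker π ^ 2) :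
    ∃ (D : Type u) (_ : CommRing D) (_ : Algebra A D), Algebra.FiniteType A D ∧
      ∃ e : C ≃+* AdicCompletion (Ideal.map (algebraMap A D) I) D,
        ∀ a : A, e (π (algebraMap B _ (algebraMap A B a))) =
          algebraMap D _ (algebraMap A D a) := by
  classical
  have hBn : IsNoetherianRing B := Algebra.FiniteType.isNoetherianRing A B
  have hCP : K730.CP 𝔞 (AdicCompletion 𝔞 B) := K730.CP.of_adicCompletion 𝔞 (IsNoetherian.noetherian _)
  have hSn := hCP.isNoetherianRing
  obtain ⟨R', _, _, _, _, hR', hbij, hCP', J', hJ'⟩ := K302.AlgzIdeal.exists_etale_ideal 𝔞 (AdicCompletion 𝔞 B) hCP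
    (RingHom.ker π) c hJ
  let _ : Algebra A R' := ((algebraMap B R').comp (algebraMap A B)).toAlgebra
  have : IsScalarTower A B R' := IsScalarTower.of_algebraMap_eq fun _ => rfl
  have hft : Algebra.FiniteType A R' := Algebra.FiniteType.trans (S := B) inferInstance inferInstance
  let q : R' ⧸ J' →+* AdicCompletion 𝔞 B ⧸ RingHom.ker π :=
    Ideal.quotientMap _ (algebraMap R' (AdicCompletion 𝔞 B)) (by rw [← hJ']; exact Ideal.le_comap_map)
  let _ : Algebra (R' ⧸ J') (AdicCompletion 𝔞 B ⧸ RingHom.ker π) := q.toAlgebra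
  have hq : ∀ a : R', algebraMap (R' ⧸ J') (AdicCompletion 𝔞 B ⧸ RingHom.ker π) (Ideal.Quotient.mk J' a) =
      Ideal.Quotient.mk _ (algebraMap R' (AdicCompletion 𝔞 B) a) := fun a => rfl
  have h1 := K302.AlgzIdeal.cp_quotient hCP' J' (RingHom.ker π) hJ' hq
  have hI : Ideal.map (algebraMap R' (R' ⧸ J')) (Ideal.map (algebraMap B R') 𝔞) =
      Ideal.map (algebraMap A (R' ⧸ J')) I := by
    rw [h𝔞, Ideal.map_map, Ideal.map_map]
    rfl
  rw [hI] at h1
  obtain ⟨e, he⟩ := h1.exists_ringEquiv
  refine ⟨R' ⧸ J', inferInstance, inferInstance,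
    Algebra.FiniteType.of_surjective (Ideal.Quotient.mkₐ A J') (Ideal.Quotient.mkₐ_surjective A J'),
    (RingHom.quotientKerEquivOfSurjective hπ).symm.trans e.symm, fun a => ?_⟩
  rw [RingEquiv.trans_apply, RingEquiv.symm_apply_eq, he]
  have h2 : (RingHom.quotientKerEquivOfSurjective hπ).symm (π (algebraMap B _ (algebraMap A B a))) =
      Ideal.Quotient.mk (RingHom.ker π) (algebraMap B _ (algebraMap A B a)) := by
    rw [RingEquiv.symm_apply_eq]
    rfl
  rw [h2]
  change _ = Ideal.Quotient.mk _ (algebraMap R' (AdicCompletion 𝔞 B) (algebraMap B R' (algebraMap A B a)))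
  rw [← IsScalarTower.algebraMap_apply B R' (AdicCompletion 𝔞 B)]

/-- Let A be a Noetherian ring, I an ideal, B a finite type A-algebra and B^ its I-adic completion. Let
π be a surjective ring map from B^ to C, with kernel J, and suppose some power I^c (c ≥ 0) kills the
conormal module J/J^2. Then, compatibly with the maps from A, C is isomorphic to the I-adic
completion of some finite type A-algebra. -/
theorem result (A : Type u) [CommRing A]
    [IsNoetherianRing A] (I : Ideal A) (B : Type u) [CommRing B] [Algebra A B] [Algebra.FiniteType A B]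
    (C : Type u) [CommRing C]
    (π : AdicCompletion (Ideal.map (algebraMap A B) I) B →+* C) (hπ : Function.Surjective π) (c : ℕ)
    (hJ : Ideal.map ((algebraMap B (AdicCompletion (Ideal.map (algebraMap A B) I) B)).comp
        (algebraMap A B)) I ^ c * RingHom.ker π ≤ RingHom.ker π ^ 2) :
    ∃ (D : Type u) (_ : CommRing D) (_ : Algebra A D), Algebra.FiniteType A D ∧
      ∃ e : C ≃+* AdicCompletion (Ideal.map (algebraMap A D) I) D,
        ∀ a : A, e (π (algebraMap B _ (algebraMap A B a))) =
          algebraMap D _ (algebraMap A D a) := by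
  exact aux I B _ rfl C π hπ c (by rw [Ideal.map_map]; exact hJ)

end Groth.Agent.S9298
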