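import Groth.Statements.S9300
import Mathlib.RingTheory.Ideal.Maximal
import Mathlib.RingTheory.Spectrum.Prime.Basic

set_option autoImplicit false
universe u
open CAlg

namespace Groth.Agent.S9300

/-- Let A and B be domains and A → B a ring map for which the generic point of Spec(A) has a unique
preimage in Spec(B). Then every nonzero ideal of B has nonzero preimage in A. -/
theorem result (A B : Type u) [CommRing A] [IsDomain A]
    [CommRing B] [IsDomain B] (φ : A →+* B)
    (h : ∃! q : PrimeSpectrum B, Ideal.comap φ q.asIdeal = ⊥) (J : Ideal B) (hJ : J ≠ ⊥) :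
    Ideal.comap φ J ≠ ⊥ := by
  intro hJ0
  obtain ⟨q, hq, huniq⟩ := h
  have hinj : Function.Injective φ := by
    rw [injective_iff_map_eq_zero]
    intro a ha
    have : a ∈ Ideal.comap φ q.asIdeal := by
      rw [Ideal.mem_comap, ha]
      exact zero_mem _
    rwa [hq] at this
  have hbot : Ideal.comap φ (⊥ : Ideal B) = ⊥ := by
    ext a
    rw [Ideal.mem_comap, Ideal.mem_bot, Ideal.mem_bot, map_eq_zero_iff φ hinj]
  have hq0 : (⟨⊥, Ideal.isPrime_bot⟩ : PrimeSpectrum B) = q := huniq _ hbot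
  have hdisj : Disjoint (J : Set B) ((nonZeroDivisors A).map φ : Set B) := by
    rw [Set.disjoint_left]
    rintro _ hx ⟨a, ha, rfl⟩
    have h1 : a ∈ Ideal.comap φ J := hx
    rw [hJ0] at h1
    exact (nonZeroDivisors.ne_zero ha) h1
  obtain ⟨P, hP, hJP, hPd⟩ := Ideal.exists_le_prime_disjoint J ((nonZeroDivisors A).map φ) hdisj
  have hP0 : Ideal.comap φ P = ⊥ := by
    rw [eq_bot_iff]
    intro a ha
    by_contra h0
    exact Set.disjoint_left.1 hPd ha ⟨a, mem_nonZeroDivisors_of_ne_zero h0, rfl⟩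
  have h2 : (⟨P, hP⟩ : PrimeSpectrum B) = ⟨⊥, Ideal.isPrime_bot⟩ := (huniq _ hP0).trans hq0.symm
  have h3 : P = ⊥ := congrArg PrimeSpectrum.asIdeal h2
  exact hJ (eq_bot_iff.2 (h3 ▸ hJP))

end Groth.Agent.S9300
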