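import Groth.Statements.S9302
import Mathlib.RingTheory.Henselian
import Mathlib.Algebra.Polynomial.Identities
import Mathlib.CategoryTheory.Limits.ConcreteCategory.Basic
import Mathlib.Algebra.Category.Ring.Limits
import Mathlib.Tactic.LinearCombination

set_option autoImplicit false
universe u
open CategoryTheory
open EtAlg

namespace Groth.Agent.S9302

open Polynomial

/-- the lift of an approximate simple root is unique. -/
theorem root_unique {A : Type u} [CommRing A] (I : Ideal A) (hI : I ≤ Ideal.jacobson ⊥) (f : A[X])
    (a₀ a b : A) (ha : f.IsRoot a) (hb : f.IsRoot b) (ha0 : a - a₀ ∈ I) (hb0 : b - a₀ ∈ I)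
    (hu : IsUnit (Ideal.Quotient.mk I (f.derivative.eval a₀))) : a = b := by
  obtain ⟨c, hc⟩ := Polynomial.binomExpansion f b (a - b)
  rw [add_sub_cancel, ha.eq_zero, hb.eq_zero, zero_add] at hc
  have hab : a - b ∈ I := by
    have : a - b = (a - a₀) - (b - a₀) := by ring
    rw [this]; exact I.sub_mem ha0 hb0
  have h1 : (a - b) * (f.derivative.eval b + c * (a - b)) = 0 := by linear_combination -hc
  have h2 : IsUnit (f.derivative.eval b + c * (a - b)) := by
    have h3 : Ideal.Quotient.mk I (f.derivative.eval b + c * (a - b)) =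
        Ideal.Quotient.mk I (f.derivative.eval a₀) := by
      rw [Ideal.Quotient.eq]
      have h4 : f.derivative.eval b - f.derivative.eval a₀ ∈ I := by
        obtain ⟨d, hd⟩ := Polynomial.evalSubFactor f.derivative b a₀
        rw [hd]; exact I.mul_mem_left _ hb0
      have h5 : c * (a - b) ∈ I := I.mul_mem_left _ hab
      have : f.derivative.eval b + c * (a - b) - f.derivative.eval a₀ =
        (f.derivative.eval b - f.derivative.eval a₀) + c * (a - b) := by ring
      rw [this]; exact I.add_mem h4 h5
    rw [← h3] at hu
    obtain ⟨v, hv⟩ := hu.exists_right_inv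
    obtain ⟨v, rfl⟩ := Ideal.Quotient.mk_surjective v
    rw [← map_mul, ← map_one (Ideal.Quotient.mk I), Ideal.Quotient.eq] at hv
    have h6 := (Ideal.mem_jacobson_bot.1 (hI hv)) 1
    rw [mul_one, sub_add_cancel] at h6
    exact isUnit_of_mul_isUnit_left h6
  exact sub_eq_zero.1 ((h2.mul_left_eq_zero).1 h1)

section lim

variable {J : Type u} [Preorder J] (F : J ⥤ CommRingCat.{u})

/-- compatible families. -/
def sections : Subring (∀ j, F.obj j) where
  carrier := {a | ∀ (i j : J) (φ : i ⟶ j), (F.map φ).hom (a i) = a j}
  mul_mem' := fun ha hb i j φ => by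
    simp only [Pi.mul_apply, map_mul]; rw [ha i j φ, hb i j φ]
  add_mem' := fun ha hb i j φ => by
    simp only [Pi.add_apply, map_add]; rw [ha i j φ, hb i j φ]
  one_mem' := fun i j φ => by simp only [Pi.one_apply, map_one]
  zero_mem' := fun i j φ => by simp only [Pi.zero_apply, map_zero]
  neg_mem' := fun ha i j φ => by
    simp only [Pi.neg_apply, map_neg]; rw [ha i j φ]

theorem exists_elt (a : ∀ j, F.obj j) (ha : ∀ (i j : J) (φ : i ⟶ j), (F.map φ).hom (a i) = a j) :
    ∃ x : (Limits.limit F : CommRingCat.{u}), ∀ j, (Limits.limit.π F j).hom x = a j := by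
  let c : Limits.Cone F :=
    { pt := CommRingCat.of (sections F)
      π :=
        { app := fun j => CommRingCat.ofHom ((Pi.evalRingHom (fun j => (F.obj j : Type u)) j).comp
            (sections F).subtype)
          naturality := fun i j φ => by
            apply CommRingCat.hom_ext
            apply RingHom.ext
            intro x
            exact (x.2 i j φ).symm } }
  refine ⟨(Limits.limit.lift F c).hom (⟨a, ha⟩ : sections F), fun j => ?_⟩
  have h := Limits.limit.lift_π c j
  have h2 := congrArg (fun g => g.hom (⟨a, ha⟩ : sections F)) h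
  exact h2

theorem elt_ext (x y : (Limits.limit F : CommRingCat.{u}))
    (h : ∀ j, (Limits.limit.π F j).hom x = (Limits.limit.π F j).hom y) : x = y :=
  Limits.Concrete.limit_ext F x y h

theorem compat (x : (Limits.limit F : CommRingCat.{u})) (i j : J) (φ : i ⟶ j) :
    (F.map φ).hom ((Limits.limit.π F i).hom x) = (Limits.limit.π F j).hom x := by
  have h := Limits.limit.w F φ
  exact congrArg (fun g => g.hom x) h

end lim

/-- Henselian pairs are preserved under limits: for an inverse system (A_j, I_j) of henselian pairs over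
a preordered set J, the limit A = lim A_j with the ideal I = lim I_j (elements all of whose
projections lie in the I_j) is a henselian pair. -/
theorem result (J : Type u) [Preorder J] (F : J ⥤ CommRingCat.{u})
    (I : ∀ j : J, Ideal (F.obj j))
    (hI : ∀ (i j : J) (φ : i ⟶ j), Ideal.map (F.map φ).hom (I i) ≤ I j)
    (h : ∀ j : J, HenselianRing (F.obj j) (I j)) :
    HenselianRing ((Limits.limit F : CommRingCat.{u}) : Type u)
      (⨅ j : J, Ideal.comap (Limits.limit.π F j).hom (I j)) := by
  have hmem : ∀ x : (Limits.limit F : CommRingCat.{u}),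
      x ∈ (⨅ j : J, Ideal.comap (Limits.limit.π F j).hom (I j)) ↔
        ∀ j, (Limits.limit.π F j).hom x ∈ I j := by
    intro x
    rw [Ideal.mem_iInf]
    exact Iff.rfl
  constructor
  · intro x hx
    rw [Ideal.mem_jacobson_bot]
    intro y
    rw [hmem] at hx
    have hu : ∀ j, IsUnit ((Limits.limit.π F j).hom (x * y + 1)) := by
      intro j
      rw [map_add, map_mul, map_one]
      exact Ideal.mem_jacobson_bot.1 ((h j).jac (hx j)) _
    obtain ⟨z, hz⟩ := exists_elt F (fun j => ((hu j).unit⁻¹ : (F.obj j)ˣ)) (by
      intro i j φ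
      have h1 : (F.map φ).hom ((Limits.limit.π F i).hom (x * y + 1)) =
        (Limits.limit.π F j).hom (x * y + 1) := compat F _ i j φ
      have h2 := congrArg (F.map φ).hom ((hu i).mul_val_inv)
      rw [map_mul, map_one, h1] at h2
      have h3 := (hu j).mul_val_inv
      exact (hu j).mul_left_cancel (h2.trans h3.symm))
    refine IsUnit.of_mul_eq_one z (elt_ext F _ _ (fun j => ?_))
    rw [map_mul, hz, map_one]
    exact (hu j).mul_val_inv
  · intro f hf a₀ h0 hu
    rw [hmem] at h0
    have hev : ∀ (g : ((Limits.limit F : CommRingCat.{u}) : Type u)[X]) (a : (Limits.limit F : CommRingCat.{u})) (j : J),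
        (g.map (Limits.limit.π F j).hom).eval ((Limits.limit.π F j).hom a) =
          (Limits.limit.π F j).hom (g.eval a) := by
      intro g a j
      rw [Polynomial.eval_map, Polynomial.eval₂_at_apply]
    have huj : ∀ j, IsUnit (Ideal.Quotient.mk (I j)
        ((f.map (Limits.limit.π F j).hom).derivative.eval ((Limits.limit.π F j).hom a₀))) := by
      intro j
      rw [Polynomial.derivative_map, hev]
      obtain ⟨v, hv⟩ := hu.exists_right_inv
      obtain ⟨v, rfl⟩ := Ideal.Quotient.mk_surjective v
      rw [← map_mul, ← map_one (Ideal.Quotient.mk _), Ideal.Quotient.eq, hmem] at hv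
      have hvj := hv j
      rw [map_sub, map_mul, map_one, ← Ideal.Quotient.eq, map_mul, map_one] at hvj
      exact IsUnit.of_mul_eq_one _ hvj
    choose a ha1 ha2 using fun j => (h j).is_henselian (f.map (Limits.limit.π F j).hom)
      (hf.map _) ((Limits.limit.π F j).hom a₀) (by rw [hev]; exact h0 j) (huj j)
    obtain ⟨x, hx⟩ := exists_elt F a (by
      intro i j φ
      have hcomp : (F.map φ).hom.comp (Limits.limit.π F i).hom = (Limits.limit.π F j).hom :=
        RingHom.ext fun x => compat F x i j φ
      apply root_unique (I j) (h j).jac (f.map (Limits.limit.π F j).hom)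
        ((Limits.limit.π F j).hom a₀) _ _ _ (ha1 j) _ (ha2 j) (huj j)
      · have h1 := (ha1 i).map (f := (F.map φ).hom)
        rwa [Polynomial.map_map, hcomp] at h1
      · have h1 := hI i j φ (Ideal.mem_map_of_mem _ (ha2 i))
        rwa [map_sub, compat] at h1)
    refine ⟨x, ?_, ?_⟩
    · apply elt_ext
      intro j
      rw [← hev, map_zero, hx]
      exact ha1 j
    · rw [hmem]
      intro j
      rw [map_sub, hx]
      exact ha2 j

end Groth.Agent.S9302
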