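import Groth.Statements.S9306
import Groth.Agent.EtRam.K585.BaseChangeMain

set_option autoImplicit false
universe u
open EtRam

namespace Groth.Agent.S9306

open TensorProduct in
/-- Let A → B be an injective local homomorphism of discrete valuation rings with fraction fields K ⊆ L,
and let K' be a finite separable extension of K that is unramified relative to A. Then every field F
onto which K' ⊗_K L surjects is, as an extension of L, unramified relative to B. (The published
statement also records that K' ⊗_K L is a finite product of fields, whose factors are these F; this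
row does not state that part.) -/
theorem result (A B K L K' : Type u) [CommRing A] [IsDomain A]
    [IsDiscreteValuationRing A] [CommRing B] [IsDomain B] [IsDiscreteValuationRing B] [Algebra A B]
    [IsLocalHom (algebraMap A B)] (hinj : Function.Injective (algebraMap A B))
    [Field K] [Field L] [Field K'] [Algebra A K] [IsFractionRing A K] [Algebra B L] [IsFractionRing B L]
    [Algebra K L] [Algebra A L] [IsScalarTower A K L] [IsScalarTower A B L]
    [Algebra K K'] [FiniteDimensional K K'] [Algebra.IsSeparable K K']
    (h : EtRam.IsUnramifiedExt A ((algebraMap K K').comp (algebraMap A K)))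
    (F : Type u) [Field F] [Algebra (K' ⊗[K] L) F] (hF : Function.Surjective (algebraMap (K' ⊗[K] L) F)) :
    EtRam.IsUnramifiedExt B ((algebraMap (K' ⊗[K] L) F).comp
      ((Algebra.TensorProduct.includeRight : L →ₐ[K] K' ⊗[K] L).toRingHom.comp (algebraMap B L))) := by
  let _ : Algebra L F := ((algebraMap (K' ⊗[K] L) F).comp
    (Algebra.TensorProduct.includeRight : L →ₐ[K] K' ⊗[K] L).toRingHom).toAlgebra
  let _ : Algebra K' F := ((algebraMap (K' ⊗[K] L) F).comp
    (Algebra.TensorProduct.includeLeft : K' →ₐ[K] K' ⊗[K] L).toRingHom).toAlgebra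
  let _ : Algebra K F := ((algebraMap L F).comp (algebraMap K L)).toAlgebra
  have t1 : IsScalarTower K L F := IsScalarTower.of_algebraMap_eq' rfl
  have t2 : IsScalarTower K K' F := IsScalarTower.of_algebraMap_eq fun x =>
    congrArg (algebraMap (K' ⊗[K] L) F)
      (((Algebra.TensorProduct.includeRight : L →ₐ[K] K' ⊗[K] L).commutes x).trans
        ((Algebra.TensorProduct.includeLeft : K' →ₐ[K] K' ⊗[K] L).commutes x).symm)
  have hcomp : ∀ a : A, algebraMap B L (algebraMap A B a) = algebraMap K L (algebraMap A K a) := by
    intro a
    rw [← IsScalarTower.algebraMap_apply A B L, ← IsScalarTower.algebraMap_apply A K L]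
  have hF' : Function.Surjective (Algebra.TensorProduct.lift (Algebra.ofId L F)
      (IsScalarTower.toAlgHom K K' F) (fun _ _ => .all _ _) : L ⊗[K] K' →ₐ[L] F) := by
    intro y
    obtain ⟨t, rfl⟩ := hF y
    refine ⟨Algebra.TensorProduct.comm K K' L t, ?_⟩
    have h1 : ((Algebra.TensorProduct.lift (Algebra.ofId L F)
        (IsScalarTower.toAlgHom K K' F) (fun _ _ => .all _ _) : L ⊗[K] K' →ₐ[L] F).toRingHom.comp
        (Algebra.TensorProduct.comm K K' L).toRingHom) = algebraMap (K' ⊗[K] L) F := by
      apply Algebra.TensorProduct.ringHom_ext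
      · ext x
        change (Algebra.TensorProduct.lift (Algebra.ofId L F)
          (IsScalarTower.toAlgHom K K' F) (fun _ _ => .all _ _) : L ⊗[K] K' →ₐ[L] F)
            ((1 : L) ⊗ₜ[K] x) = algebraMap (K' ⊗[K] L) F (x ⊗ₜ[K] 1)
        rw [Algebra.TensorProduct.lift_tmul, map_one, one_mul]
        rfl
      · ext x
        change (Algebra.TensorProduct.lift (Algebra.ofId L F)
          (IsScalarTower.toAlgHom K K' F) (fun _ _ => .all _ _) : L ⊗[K] K' →ₐ[L] F)
            (x ⊗ₜ[K] (1 : K')) = algebraMap (K' ⊗[K] L) F ((1 : K') ⊗ₜ[K] x)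
        rw [Algebra.TensorProduct.lift_tmul, map_one, mul_one]
        rfl
    exact DFunLike.congr_fun h1 t
  exact (K585.RamBaseChangeMain.core A B K L K' F hcomp hF').1 h

end Groth.Agent.S9306
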