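import Groth.Statements.S9312
import Mathlib.RingTheory.TensorProduct.MvPolynomial
import Mathlib.LinearAlgebra.TensorProduct.RightExactness
import Mathlib.Algebra.Polynomial.Lifts

set_option autoImplicit false
universe u
open CAlg

namespace Groth.Agent.S9312

open Polynomial TensorProduct

section key

variable (R G : Type u) [CommRing R] [Group G] [Fintype G] [MulSemiringAction G R]

/-- The action of `σ` on the coefficients of a polynomial. -/
noncomputable def act (τ : Type*) (σ : G) : MvPolynomial τ R →+* MvPolynomial τ R :=
  MvPolynomial.map (MulSemiringAction.toRingHom G R σ)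

/-- The inclusion of polynomials with invariant coefficients. -/
noncomputable def inc (τ : Type*) : MvPolynomial τ (FixedPoints.subring R G) →+* MvPolynomial τ R :=
  MvPolynomial.map (algebraMap (FixedPoints.subring R G) R)

omit [Fintype G] in
theorem inc_injective (τ : Type*) : Function.Injective (inc R G τ) :=
  MvPolynomial.map_injective _ Subtype.coe_injective

omit [Fintype G] in
theorem mem_range_inc (τ : Type*) (p : MvPolynomial τ R) (hp : ∀ σ : G, act R G τ σ p = p) :
    p ∈ (inc R G τ).range := by
  change p ∈ Set.range (MvPolynomial.map (algebraMap (FixedPoints.subring R G) R))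
  rw [MvPolynomial.mem_range_map_iff_coeffs_subset]
  intro r hr
  obtain ⟨d, hd⟩ := MvPolynomial.mem_coeffs_iff.1 hr |>.imp fun _ h => h.2
  rw [hd]
  refine ⟨⟨p.coeff d, fun σ => ?_⟩, rfl⟩
  have := congrArg (MvPolynomial.coeff d) (hp σ)
  rw [act, MvPolynomial.coeff_map] at this
  exact this

theorem exists_lift (τ : Type*) (β : MvPolynomial τ R) :
    ∃ F : (MvPolynomial τ (FixedPoints.subring R G))[X], F.Monic ∧
      F.map (inc R G τ) = ∏ σ : G, (X - C (act R G τ σ β)) := by
  have hmon : (∏ σ : G, (X - C (act R G τ σ β))).Monic := Polynomial.monic_prod_of_monic _ _ fun σ _ => Polynomial.monic_X_sub_C _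
  have hl : (∏ σ : G, (X - C (act R G τ σ β))) ∈ Polynomial.lifts (inc R G τ) := by
    rw [Polynomial.lifts_iff_coeff_lifts]
    intro i
    obtain ⟨x, hx⟩ := mem_range_inc R G τ ((∏ σ : G, (X - C (act R G τ σ β))).coeff i) (by
      intro ρ
      have h : (∏ σ : G, (X - C (act R G τ σ β))).map (act R G τ ρ) =
          ∏ σ : G, (X - C (act R G τ σ β)) := by
        rw [Polynomial.map_prod]
        refine Fintype.prod_equiv (Equiv.mulLeft ρ) _ _ fun σ => ?_
        rw [Polynomial.map_sub, Polynomial.map_X, Polynomial.map_C, Equiv.coe_mulLeft, act, act, act,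
          MvPolynomial.map_map]
        congr 3
        have : (MulSemiringAction.toRingHom G R ρ).comp (MulSemiringAction.toRingHom G R σ) =
            MulSemiringAction.toRingHom G R (ρ * σ) := by
          ext r
          simp [mul_smul]
        rw [this]
      have h2 := congrArg (fun q => Polynomial.coeff q i) h
      simpa only [Polynomial.coeff_map] using h2)
    exact ⟨x, hx⟩
  obtain ⟨q, hq, -, hqm⟩ := Polynomial.lifts_and_natDegree_eq_and_monic hl hmon
  exact ⟨q, hqm, hq⟩

end key

variable (R G A : Type u) [CommRing R] [Group G] [Fintype G]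
    [MulSemiringAction G R] [CommRing A] [Algebra (FixedPoints.subring R G) A]

/-- The presentation of `A` over the invariants. -/
noncomputable def pr : MvPolynomial A (FixedPoints.subring R G) →ₐ[FixedPoints.subring R G] A :=
  MvPolynomial.aeval id

/-- The presentation of `A ⊗ R` over `R`. -/
noncomputable def prR : MvPolynomial A R →+* A ⊗[FixedPoints.subring R G] R :=
  MvPolynomial.eval₂Hom (Algebra.TensorProduct.includeRight : R →ₐ[FixedPoints.subring R G] _).toRingHom
    (fun a => a ⊗ₜ 1)

omit [Fintype G] in
theorem pr_surjective : Function.Surjective (pr R G A) := fun a => ⟨MvPolynomial.X a, by simp [pr]⟩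

omit [Fintype G] in
theorem prR_surjective : Function.Surjective (prR R G A) := by
  intro z
  induction z using TensorProduct.induction_on with
  | zero => exact ⟨0, map_zero _⟩
  | add x y hx hy =>
    obtain ⟨x, rfl⟩ := hx
    obtain ⟨y, rfl⟩ := hy
    exact ⟨x + y, map_add _ _ _⟩
  | tmul a r =>
    refine ⟨MvPolynomial.X a * MvPolynomial.C r, ?_⟩
    simp [prR]

omit [Fintype G] in
theorem prR_act (σ : G) (z : MvPolynomial A R) :
    prR R G A (act R G A σ z) = Algebra.TensorProduct.map (AlgHom.id (FixedPoints.subring R G) A)
        (MulSemiringAction.toAlgHom (FixedPoints.subring R G) R σ) (prR R G A z) := by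
  have : (prR R G A).comp (act R G A σ) =
      (Algebra.TensorProduct.map (AlgHom.id (FixedPoints.subring R G) A)
        (MulSemiringAction.toAlgHom (FixedPoints.subring R G) R σ)).toRingHom.comp (prR R G A) := by
    apply MvPolynomial.ringHom_ext
    · intro r
      simp [prR, act]
    · intro a
      simp [prR, act]
  exact congrArg (fun f : MvPolynomial A R →+* _ => f z) this

omit [Fintype G] in
theorem prR_inc (z : MvPolynomial A (FixedPoints.subring R G)) :
    prR R G A (inc R G A z) = algebraMap A (A ⊗[FixedPoints.subring R G] R) (pr R G A z) := by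
  have : (prR R G A).comp (inc R G A) =
      (algebraMap A (A ⊗[FixedPoints.subring R G] R)).comp (pr R G A).toRingHom := by
    apply MvPolynomial.ringHom_ext
    · intro r
      simp [prR, inc, pr]
    · intro a
      simp [prR, inc, pr]
  exact congrArg (fun f : MvPolynomial A (FixedPoints.subring R G) →+* _ => f z) this

omit [Fintype G] in
theorem ker_prR (z : MvPolynomial A R) (hz : prR R G A z = 0) :
    z ∈ (RingHom.ker (pr R G A)).map (inc R G A) := by
  let e := MvPolynomial.algebraTensorAlgEquiv (σ := A) (FixedPoints.subring R G) R
  have h1 : ∀ w : R ⊗[FixedPoints.subring R G] MvPolynomial A (FixedPoints.subring R G),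
      prR R G A (e w) = Algebra.TensorProduct.comm (FixedPoints.subring R G) R A
        (Algebra.TensorProduct.map (AlgHom.id (FixedPoints.subring R G) R) (pr R G A) w) := by
    intro w
    induction w using TensorProduct.induction_on with
    | zero => simp only [map_zero]
    | add x y hx hy => simp only [map_add, hx, hy]
    | tmul r p =>
      change prR R G A (MvPolynomial.algebraTensorAlgEquiv (FixedPoints.subring R G) R (r ⊗ₜ p)) = _
      rw [MvPolynomial.algebraTensorAlgEquiv_tmul, MvPolynomial.smul_eq_C_mul, map_mul]
      have h2 : prR R G A (MvPolynomial.map (algebraMap (FixedPoints.subring R G) R) p) = _ :=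
        prR_inc R G A p
      rw [h2]
      simp [prR]
  let w := e.symm z
  have hw : e w = z := e.apply_symm_apply z
  have h2 : Algebra.TensorProduct.map (AlgHom.id (FixedPoints.subring R G) R) (pr R G A) w = 0 := by
    have := h1 w
    rw [hw, hz] at this
    exact (map_eq_zero_iff _ (AlgEquiv.injective _)).1 this.symm
  have h3 : w ∈ RingHom.ker (Algebra.TensorProduct.map (AlgHom.id (FixedPoints.subring R G) R) (pr R G A)) := h2
  rw [Algebra.TensorProduct.lTensor_ker _ (pr_surjective R G A)] at h3
  have h4 : (RingHom.ker (pr R G A)).map (Algebra.TensorProduct.includeRight :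
      MvPolynomial A (FixedPoints.subring R G) →ₐ[FixedPoints.subring R G]
        R ⊗[FixedPoints.subring R G] MvPolynomial A (FixedPoints.subring R G)) ≤
      ((RingHom.ker (pr R G A)).map (inc R G A)).comap (e : _ →+* MvPolynomial A R) := by
    rw [Ideal.map_le_iff_le_comap]
    intro k hk
    rw [Ideal.mem_comap, Ideal.mem_comap]
    have h5 : (e : _ →+* MvPolynomial A R) ((Algebra.TensorProduct.includeRight :
      MvPolynomial A (FixedPoints.subring R G) →ₐ[FixedPoints.subring R G]
        R ⊗[FixedPoints.subring R G] MvPolynomial A (FixedPoints.subring R G)) k) = inc R G A k := by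
      change MvPolynomial.algebraTensorAlgEquiv (FixedPoints.subring R G) R (1 ⊗ₜ k) = _
      rw [MvPolynomial.algebraTensorAlgEquiv_tmul, one_smul]
      rfl
    rw [h5]
    exact Ideal.mem_map_of_mem _ hk
  have h5 := h4 h3
  rw [Ideal.mem_comap] at h5
  have h6 : (e : R ⊗[FixedPoints.subring R G] MvPolynomial A (FixedPoints.subring R G) →+*
    MvPolynomial A R) w = z := hw
  rwa [h6] at h5

/-- Let a finite group G with n elements act on a ring R by ring automorphisms, with invariant ring R^G,
and let A be an algebra over R^G; G acts on A ⊗ R through the factor R. (1) For every G-invariant b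
∈ A ⊗ R there is a monic polynomial over A whose image in (A ⊗ R)[T] is (T - b)^n. (2) For every a
in the kernel of A → A ⊗ R, all coefficients of (T - a)^n below degree n vanish, that is (T - a)^n =
T^n in A[T]. -/
theorem result (R G A : Type u) [CommRing R] [Group G] [Fintype G]
    [MulSemiringAction G R] [CommRing A] [Algebra (FixedPoints.subring R G) A] :
    (∀ b : TensorProduct (FixedPoints.subring R G) A R,
      (∀ σ : G, Algebra.TensorProduct.map (AlgHom.id (FixedPoints.subring R G) A)
        (MulSemiringAction.toAlgHom (FixedPoints.subring R G) R σ) b = b) →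
      ∃ P : Polynomial A, P.Monic ∧
        Polynomial.map (algebraMap A (TensorProduct (FixedPoints.subring R G) A R)) P =
          (Polynomial.X - Polynomial.C b) ^ Fintype.card G) ∧
    (∀ a : A, algebraMap A (TensorProduct (FixedPoints.subring R G) A R) a = 0 →
      ∀ i : ℕ, i < Fintype.card G → ((Polynomial.X - Polynomial.C a) ^ Fintype.card G).coeff i = 0) := by
  constructor
  · intro b hb
    obtain ⟨β, rfl⟩ := prR_surjective R G A b
    obtain ⟨F, hF, hFm⟩ := exists_lift R G A β
    refine ⟨F.map (pr R G A).toRingHom, hF.map _, ?_⟩
    have h1 : (algebraMap A (A ⊗[FixedPoints.subring R G] R)).comp (pr R G A).toRingHom =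
        (prR R G A).comp (inc R G A) := RingHom.ext fun z => (prR_inc R G A z).symm
    rw [Polynomial.map_map, h1, ← Polynomial.map_map, hFm, Polynomial.map_prod]
    rw [← Finset.card_univ, ← Finset.prod_const]
    refine Finset.prod_congr rfl fun σ _ => ?_
    rw [Polynomial.map_sub, Polynomial.map_X, Polynomial.map_C, prR_act, hb]
  · intro a ha i hi
    -- lift `a` to the variable
    have hz : prR R G A (MvPolynomial.X a) = 0 := by
      rw [prR, MvPolynomial.coe_eval₂Hom, MvPolynomial.eval₂_X]
      exact ha
    have hmem := ker_prR R G A _ hz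
    rw [Ideal.map, Submodule.mem_span_set'] at hmem
    obtain ⟨m, f, g, hfg⟩ := hmem
    choose g' hg' hgg using fun j => (g j).2
    let β : MvPolynomial (A ⊕ Fin m) R :=
      ∑ j, MvPolynomial.rename Sum.inl (f j) * MvPolynomial.X (Sum.inr j)
    obtain ⟨F, hF, hFm⟩ := exists_lift R G (A ⊕ Fin m) β
    -- the two evaluations
    let ev : (S : Type u) → [CommRing S] → (Fin m → MvPolynomial A S) →
      (MvPolynomial (A ⊕ Fin m) S →+* MvPolynomial A S) := fun S _ t =>
        (MvPolynomial.aeval (Sum.elim MvPolynomial.X t)).toRingHom
    have hev : ∀ (t : Fin m → MvPolynomial A (FixedPoints.subring R G)),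
        (inc R G A).comp (ev (FixedPoints.subring R G) t) =
          (ev R (fun j => inc R G A (t j))).comp (inc R G (A ⊕ Fin m)) := by
      intro t
      apply MvPolynomial.ringHom_ext
      · intro r
        simp [ev, inc]
      · rintro (a | j)
        · simp [ev, inc]
        · simp [ev, inc]
    have hevact : ∀ (t : Fin m → MvPolynomial A (FixedPoints.subring R G)) (σ : G)
        (z : MvPolynomial (A ⊕ Fin m) R),
        ev R (fun j => inc R G A (t j)) (act R G _ σ z) = act R G A σ (ev R (fun j => inc R G A (t j)) z) := by
      intro t σ z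
      have : (ev R (fun j => inc R G A (t j))).comp (act R G _ σ) =
          (act R G A σ).comp (ev R (fun j => inc R G A (t j))) := by
        apply MvPolynomial.ringHom_ext
        · intro r
          simp [ev, act]
        · rintro (a | j)
          · simp [ev, act]
          · have h3 : (MulSemiringAction.toRingHom G R σ).comp (algebraMap (FixedPoints.subring R G) R) =
                algebraMap (FixedPoints.subring R G) R := by
              ext r
              exact r.2 σ
            simp [ev, act, inc, MvPolynomial.map_map, h3]
      exact congrArg (fun f : MvPolynomial (A ⊕ Fin m) R →+* _ => f z) this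
    have hevβ : ∀ (t : Fin m → MvPolynomial A (FixedPoints.subring R G)),
        ev R (fun j => inc R G A (t j)) β = ∑ j, f j * inc R G A (t j) := by
      intro t
      simp only [β, map_sum, map_mul]
      refine Finset.sum_congr rfl fun j _ => ?_
      simp only [ev, AlgHom.toRingHom_eq_coe, RingHom.coe_coe, MvPolynomial.aeval_X, Sum.elim_inr,
        MvPolynomial.aeval_rename]
      congr 1
      have h5 : (Sum.elim MvPolynomial.X (fun j => inc R G A (t j)) : A ⊕ Fin m → MvPolynomial A R) ∘ Sum.inl =
        MvPolynomial.X := rfl
      rw [h5, MvPolynomial.aeval_X_left, AlgHom.id_apply]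
    have hFev : ∀ (t : Fin m → MvPolynomial A (FixedPoints.subring R G)),
        (F.map (ev _ t)).map (inc R G A) = ∏ σ : G, (X - C (act R G A σ (∑ j, f j * inc R G A (t j)))) := by
      intro t
      rw [Polynomial.map_map, hev, ← Polynomial.map_map, hFm, Polynomial.map_prod]
      refine Finset.prod_congr rfl fun σ _ => ?_
      rw [Polynomial.map_sub, Polynomial.map_X, Polynomial.map_C, hevact, hevβ]
    have hE0 : F.map (ev _ 0) = X ^ Fintype.card G := by
      apply Polynomial.map_injective _ (inc_injective R G A)
      have := hFev 0
      rw [this]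
      simp
    have hE1 : F.map (ev _ g') = (X - C (MvPolynomial.X a)) ^ Fintype.card G := by
      apply Polynomial.map_injective _ (inc_injective R G A)
      rw [hFev g', Polynomial.map_pow, Polynomial.map_sub, Polynomial.map_X, Polynomial.map_C]
      have h6 : ∑ j, f j * inc R G A (g' j) = MvPolynomial.X a := by
        rw [← hfg]
        refine Finset.sum_congr rfl fun j _ => ?_
        rw [hgg, smul_eq_mul]
      rw [h6, ← Finset.card_univ, ← Finset.prod_const]
      refine Finset.prod_congr rfl fun σ _ => ?_
      simp [act, inc]
    have hcomp : (pr R G A).toRingHom.comp (ev _ g') = (pr R G A).toRingHom.comp (ev _ 0) := by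
      apply MvPolynomial.ringHom_ext
      · intro r
        simp [ev]
      · rintro (a | j)
        · simp [ev]
        · have h7 : pr R G A (g' j) = 0 := hg' j
          simp [ev, h7]
    have hfin : (X - C a) ^ Fintype.card G = (X : A[X]) ^ Fintype.card G := by
      have h8 := congrArg (Polynomial.map (pr R G A).toRingHom) hE1
      have h9 := congrArg (Polynomial.map (pr R G A).toRingHom) hE0
      rw [Polynomial.map_map] at h8 h9
      rw [hcomp, h9] at h8
      simp only [Polynomial.map_pow, Polynomial.map_sub, Polynomial.map_X, Polynomial.map_C] at h8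
      rw [h8]
      simp [pr]
    rw [hfin, Polynomial.coeff_X_pow, if_neg hi.ne]

end Groth.Agent.S9312
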