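import Groth.Statements.S9313
import Mathlib.RingTheory.ZariskisMainTheorem
import Mathlib.RingTheory.Ideal.GoingUp

set_option autoImplicit false
universe u
open CAlg

namespace Groth.Agent.S9313

/-- For a subalgebra `B₀` of `B`, the ideal of elements `g` of `B₀` such that `B₀[1/g] = B[1/g]`. -/
def denomIdeal {A : Type*} {B : Type*} [CommRing A] [CommRing B] [Algebra A B]
    (B₀ : Subalgebra A B) : Ideal B₀ :=
  ⨅ x : B, Ideal.radical (R := B₀)
    ((1 : Submodule B₀ B).comap (LinearMap.toSpanSingleton B₀ B x))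

theorem mem_denomIdeal {A : Type*} {B : Type*} [CommRing A] [CommRing B] [Algebra A B]
    (B₀ : Subalgebra A B) (g : B₀) :
    g ∈ denomIdeal B₀ ↔ ∀ x : B, ∃ n : ℕ, (g : B) ^ n * x ∈ B₀ := by
  rw [denomIdeal, Submodule.mem_iInf]
  refine forall_congr' fun x => ?_
  rw [Ideal.mem_radical_iff]
  refine exists_congr fun n => ?_
  rw [Submodule.mem_comap, LinearMap.toSpanSingleton_apply, Submodule.mem_one]
  constructor
  · rintro ⟨y, hy⟩
    have : (g : B) ^ n * x = (y : B) := by
      rw [show ((y : B)) = algebraMap B₀ B y from rfl, hy]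
      simp [Algebra.smul_def]
    rw [this]
    exact y.2
  · intro h
    refine ⟨⟨_, h⟩, ?_⟩
    simp [Algebra.smul_def]

/-- Uniform denominators for elements of `IB`. -/
theorem exists_pow_mul_mem_map {A : Type*} {B : Type*} [CommRing A] [CommRing B] [Algebra A B]
    (B₀ : Subalgebra A B) (I : Ideal A) (g : B₀) (hg : ∀ x : B, ∃ n : ℕ, (g : B) ^ n * x ∈ B₀)
    (y : B) (hy : y ∈ I.map (algebraMap A B)) :
    ∃ n : ℕ, ∃ z ∈ I.map (algebraMap A B₀), (z : B) = (g : B) ^ n * y := by
  rw [Ideal.map, Ideal.span] at hy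
  induction hy using Submodule.span_induction with
  | mem x h =>
    obtain ⟨a, ha, rfl⟩ := h
    exact ⟨0, algebraMap A B₀ a, Ideal.mem_map_of_mem _ ha, by simp⟩
  | zero => exact ⟨0, 0, Ideal.zero_mem _, by simp⟩
  | add x y _ _ hx hy =>
    obtain ⟨n, z, hz, hzx⟩ := hx
    obtain ⟨m, w, hw, hwy⟩ := hy
    refine ⟨n + m, g ^ m * z + g ^ n * w, add_mem (Ideal.mul_mem_left _ _ hz)
      (Ideal.mul_mem_left _ _ hw), ?_⟩
    push_cast
    rw [hzx, hwy]
    ring
  | smul a x _ hx =>
    obtain ⟨n, z, hz, hzx⟩ := hx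
    obtain ⟨m, hm⟩ := hg a
    refine ⟨n + m, ⟨_, hm⟩ * z, Ideal.mul_mem_left _ _ hz, ?_⟩
    push_cast
    rw [hzx, smul_eq_mul]
    ring

/-- Zariski's main theorem at the primes of the finite factor. -/
theorem zmp {A B : Type u} [CommRing A] [CommRing B] [Algebra A B] [Algebra.FiniteType A B]
    (I : Ideal A) (e₀ : B) (he : e₀ * (1 - e₀) ∈ I.map (algebraMap A B))
    (hfin : Module.Finite A ((B ⧸ I.map (algebraMap A B)) ⧸
      Ideal.span {1 - Ideal.Quotient.mk (I.map (algebraMap A B)) e₀}))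
    (q : Ideal B) [q.IsPrime] (hIq : I.map (algebraMap A B) ≤ q) (heq : 1 - e₀ ∈ q) :
    Algebra.ZariskisMainProperty A q := by
  have : Algebra.WeaklyQuasiFiniteAt A q := by
    rw [Algebra.weaklyQuasiFiniteAt_iff]
    have hsub : (I.map (algebraMap A B)).map (algebraMap B (Localization.AtPrime q)) ≤
        (q.under A).map (algebraMap A (Localization.AtPrime q)) := by
      rw [Ideal.map_map, ← IsScalarTower.algebraMap_eq]
      refine Ideal.map_mono ?_
      intro a ha
      exact hIq (Ideal.mem_map_of_mem _ ha)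
    let g : B →ₐ[A] (Localization.AtPrime q ⧸ (q.under A).map (algebraMap A (Localization.AtPrime q))) :=
      (Ideal.Quotient.mkₐ A _).comp (IsScalarTower.toAlgHom A B (Localization.AtPrime q))
    have hg : ∀ a : B, a ∈ I.map (algebraMap A B) → g a = 0 := by
      intro a ha
      exact Ideal.Quotient.eq_zero_iff_mem.2 (hsub (Ideal.mem_map_of_mem _ ha))
    have hunit : ∀ s : B, s ∉ q → IsUnit (g s) := by
      intro s hs
      exact (IsLocalization.map_units (Localization.AtPrime q) (⟨s, hs⟩ : q.primeCompl)).map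
        (Ideal.Quotient.mk _)
    have he0q : e₀ ∉ q := by
      intro h
      have : (1 : B) ∈ q := by
        have := q.add_mem heq h
        rwa [sub_add_cancel] at this
      exact (inferInstance : q.IsPrime).ne_top ((Ideal.eq_top_iff_one q).2 this)
    have hge : g (1 - e₀) = 0 := by
      have h1 := hg _ he
      rw [map_mul] at h1
      exact ((hunit e₀ he0q).mul_right_eq_zero).1 h1
    let f₁ : (B ⧸ I.map (algebraMap A B)) →ₐ[A] _ := Ideal.Quotient.liftₐ (I.map (algebraMap A B)) g hg
    let f : ((B ⧸ I.map (algebraMap A B)) ⧸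
      Ideal.span {1 - Ideal.Quotient.mk (I.map (algebraMap A B)) e₀}) →ₐ[A] _ :=
      Ideal.Quotient.liftₐ _ f₁ (by
        intro a ha
        have h2 : Ideal.span {1 - Ideal.Quotient.mk (I.map (algebraMap A B)) e₀} ≤ RingHom.ker f₁ := by
          rw [Ideal.span_le, Set.singleton_subset_iff]
          exact hge
        exact h2 ha)
    refine Algebra.QuasiFinite.of_forall_exists_mul_mem_range f ?_
    intro x
    obtain ⟨x, rfl⟩ := Ideal.Quotient.mk_surjective x
    obtain ⟨b, s, rfl⟩ := IsLocalization.exists_mk'_eq q.primeCompl x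
    refine ⟨Ideal.Quotient.mk _ (Ideal.Quotient.mk _ (s : B)), hunit s s.2,
      Ideal.Quotient.mk _ (Ideal.Quotient.mk _ b), ?_⟩
    change g b = Ideal.Quotient.mk _ _ * g s
    change Ideal.Quotient.mk _ (algebraMap B (Localization.AtPrime q) b) =
      Ideal.Quotient.mk _ _ * Ideal.Quotient.mk _ (algebraMap B (Localization.AtPrime q) s)
    rw [← map_mul, IsLocalization.mk'_spec]
  exact Algebra.ZariskisMainProperty.of_finiteType_of_weaklyQuasiFiniteAt _

/-- Let A be a ring with an ideal I and A → B a ring map of finite type, and suppose B/IB = C_1 × C_2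
(given by an idempotent e of B/IB with C_1 = (B/IB)/(1 - e)) where C_1 is finite over A/I. Writing
B' for the integral closure of A in B, some g ∈ B' has idempotent image in B'/IB' lifting e (so
B'/IB' = C_1' × C_2' compatibly with the decomposition of B/IB), and the map B'_g → B_g is an
isomorphism (whence C_1' = C_1). -/
theorem result (A B : Type u) [CommRing A] [CommRing B]
    [Algebra A B] [Algebra.FiniteType A B] (I : Ideal A) (e : B ⧸ Ideal.map (algebraMap A B) I)
    (he : IsIdempotentElem e)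
    (hfin : Module.Finite (A ⧸ I) ((B ⧸ Ideal.map (algebraMap A B) I) ⧸ Ideal.span {1 - e})) :
    ∃ g : integralClosure A B,
      IsIdempotentElem (Ideal.Quotient.mk (Ideal.map (algebraMap A (integralClosure A B)) I) g) ∧
      Ideal.Quotient.mk (Ideal.map (algebraMap A B) I) (g : B) = e ∧
      Function.Bijective (algebraMap (Localization.Away g)
        (Localization (Algebra.algebraMapSubmonoid B (Submonoid.powers g)))) := by
  obtain ⟨e₀, rfl⟩ := Ideal.Quotient.mk_surjective e
  set IB : Ideal B := Ideal.map (algebraMap A B) I with hIB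
  have he0 : e₀ * (1 - e₀) ∈ IB := by
    rw [← Ideal.Quotient.eq_zero_iff_mem, map_mul, map_sub, map_one, mul_sub, mul_one, he.eq, sub_self]
  set C := (B ⧸ IB) ⧸ Ideal.span {1 - Ideal.Quotient.mk IB e₀} with hC
  have hfinA : Module.Finite A C := by
    obtain ⟨s, hs⟩ := hfin.1
    refine ⟨s, ?_⟩
    rw [eq_top_iff]
    intro x _
    have hx : x ∈ Submodule.span (A ⧸ I) (s : Set C) := hs ▸ Submodule.mem_top
    induction hx using Submodule.span_induction with
    | mem x h => exact Submodule.subset_span h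
    | zero => exact Submodule.zero_mem _
    | add x y _ _ hx hy => exact Submodule.add_mem _ (hx trivial) (hy trivial)
    | smul a x _ hx =>
      obtain ⟨a, rfl⟩ := Ideal.Quotient.mk_surjective a
      have h1 : (Ideal.Quotient.mk I a) • x = a • x := by
        obtain ⟨x, rfl⟩ := Ideal.Quotient.mk_surjective x
        obtain ⟨x, rfl⟩ := Ideal.Quotient.mk_surjective x
        rfl
      rw [h1]
      exact Submodule.smul_mem _ _ (hx trivial)
  let π : B →ₐ[A] C := (Ideal.Quotient.mkₐ A _).comp (Ideal.Quotient.mkₐ A IB)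
  have hπ : Function.Surjective π := Ideal.Quotient.mk_surjective.comp Ideal.Quotient.mk_surjective
  let B' := integralClosure A B
  let φ : B' →ₐ[A] C := π.comp B'.val
  let K : Ideal B' := RingHom.ker φ
  have hπI : ∀ x ∈ IB, π x = 0 := by
    intro x hx
    change Ideal.Quotient.mk _ (Ideal.Quotient.mk IB x) = 0
    rw [Ideal.Quotient.eq_zero_iff_mem.2 hx, map_zero]
  have hπe : π (1 - e₀) = 0 := by
    change Ideal.Quotient.mk _ (Ideal.Quotient.mk IB (1 - e₀)) = 0
    rw [Ideal.Quotient.eq_zero_iff_mem, map_sub, map_one]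
    exact Ideal.mem_span_singleton_self _
  have hJK : denomIdeal B' ⊔ K = ⊤ := by
    by_contra hne
    obtain ⟨P, hP, hle⟩ := Ideal.exists_le_maximal _ hne
    have hPprime := hP.isPrime
    let _ : Algebra B' C := φ.toRingHom.toAlgebra
    have : IsScalarTower A B' C := IsScalarTower.of_algebraMap_eq fun x => (φ.commutes x).symm
    have hint' : Algebra.IsIntegral B' C := Algebra.IsIntegral.tower_top (R := A)
    obtain ⟨Q, -, hQ, hQP⟩ := Ideal.exists_ideal_over_prime_of_isIntegral P (⊥ : Ideal C) (by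
      intro x hx
      exact hle (le_sup_right (a := denomIdeal B') hx))
    have hzm : Algebra.ZariskisMainProperty A (Q.comap π) := by
      have : (Q.comap π).IsPrime := Ideal.comap_isPrime _ _
      refine zmp I e₀ he0 hfinA (Q.comap π) (fun x hx => ?_) ?_
      · rw [Ideal.mem_comap, hπI x hx]
        exact Q.zero_mem
      · rw [Ideal.mem_comap, hπe]
        exact Q.zero_mem
    obtain ⟨r, hrq, hr, hrx⟩ := Algebra.zariskisMainProperty_iff.1 hzm
    have h2 : (⟨r, hr⟩ : B') ∈ P :=
      hle (le_sup_left (b := K) ((mem_denomIdeal B' _).mpr hrx))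
    rw [← hQP] at h2
    exact hrq h2
  obtain ⟨b₁, hb₁, k, hk, hbk⟩ := Submodule.mem_sup.mp (hJK ▸ Submodule.mem_top : (1 : B') ∈ _)
  have hb₁' := (mem_denomIdeal B' _).mp hb₁
  have hφb₁ : π (b₁ : B) = 1 := by
    have h1 : φ b₁ + φ k = 1 := by rw [← map_add, hbk, map_one]
    have h2 : φ k = 0 := hk
    rw [h2, add_zero] at h1
    exact h1
  -- an element of `B` killed by `π` and multiplied by `e₀` is in `IB`
  have hkey : ∀ x : B, π x = 0 → e₀ * x ∈ IB := by
    intro x hx
    have h1 : Ideal.Quotient.mk IB x ∈ Ideal.span {1 - Ideal.Quotient.mk IB e₀} :=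
      Ideal.Quotient.eq_zero_iff_mem.1 hx
    obtain ⟨y, hy⟩ := Ideal.mem_span_singleton'.1 h1
    rw [← Ideal.Quotient.eq_zero_iff_mem, map_mul, ← hy]
    have h2 : Ideal.Quotient.mk IB e₀ * (1 - Ideal.Quotient.mk IB e₀) = 0 := by
      rw [mul_sub, mul_one, he.eq, sub_self]
    calc Ideal.Quotient.mk IB e₀ * (y * (1 - Ideal.Quotient.mk IB e₀)) =
        y * (Ideal.Quotient.mk IB e₀ * (1 - Ideal.Quotient.mk IB e₀)) := by ring
      _ = 0 := by rw [h2, mul_zero]
  obtain ⟨N, hN⟩ := hb₁' e₀
  let h₀ : B' := ⟨_, hN⟩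
  let g₁ : B' := b₁ * h₀
  have hg₁ : (g₁ : B) = (b₁ : B) ^ (N + 1) * e₀ := by
    simp only [g₁, h₀]
    push_cast
    ring
  have hg₁D : g₁ ∈ denomIdeal B' := Ideal.mul_mem_right _ _ hb₁
  have hg₁D' := (mem_denomIdeal B' _).mp hg₁D
  have hg₁e : Ideal.Quotient.mk IB (g₁ : B) = Ideal.Quotient.mk IB e₀ := by
    rw [Ideal.Quotient.mk_eq_mk_iff_sub_mem, hg₁]
    have h1 : e₀ * ((b₁ : B) ^ (N + 1) - 1) ∈ IB := hkey _ (by rw [map_sub, map_pow, hφb₁, one_pow, map_one, sub_self])
    convert h1 using 1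
    ring
  have hg₁idem : (g₁ : B) * (g₁ : B) - (g₁ : B) ∈ IB := by
    rw [← Ideal.Quotient.eq_zero_iff_mem, map_sub, map_mul, hg₁e, he.eq, sub_self]
  obtain ⟨m, z, hz, hzk⟩ := exists_pow_mul_mem_map B' I g₁ hg₁D' _ hg₁idem
  have hz' : z = g₁ ^ m * (g₁ * g₁ - g₁) := by
    apply Subtype.ext
    push_cast
    exact hzk
  have hstep : ∀ j : ℕ, g₁ ^ (m + 1 + j) - g₁ ^ (m + 1) ∈ I.map (algebraMap A B') := by
    intro j
    induction j with
    | zero => simp
    | succ j ih =>
      have h1 : g₁ ^ j * z ∈ I.map (algebraMap A B') := Ideal.mul_mem_left _ _ hz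
      have := add_mem ih h1
      rw [hz'] at this
      convert this using 1
      ring
  let g : B' := g₁ ^ (m + 1)
  have hgD : ∀ x : B, ∃ n : ℕ, (g : B) ^ n * x ∈ B' := by
    have : g ∈ denomIdeal B' := by
      simp only [g, pow_succ]
      exact Ideal.mul_mem_left _ _ hg₁D
    exact (mem_denomIdeal B' _).mp this
  refine ⟨g, ?_, ?_, ?_⟩
  · rw [IsIdempotentElem, ← map_mul, Ideal.Quotient.mk_eq_mk_iff_sub_mem]
    have := hstep (m + 1)
    convert this using 1
    simp only [g]
    ring
  · simp only [g]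
    push_cast
    rw [map_pow, hg₁e]
    exact he.pow_succ_eq m
  · constructor
    · exact localizationAlgebra_injective _ _ Subtype.coe_injective
    · intro x
      obtain ⟨b, s, rfl⟩ := IsLocalization.exists_mk'_eq (Algebra.algebraMapSubmonoid B (Submonoid.powers g)) x
      obtain ⟨s, hs⟩ := s
      obtain ⟨_, ⟨j, rfl⟩, rfl⟩ := hs
      obtain ⟨n, hn⟩ := hgD b
      refine ⟨IsLocalization.mk' (M := Submonoid.powers g) _ (⟨_, hn⟩ : B') ⟨g ^ (n + j), ⟨n + j, rfl⟩⟩, ?_⟩
      rw [localizationAlgebraMap_def, IsLocalization.map_mk', IsLocalization.mk'_eq_iff_eq]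
      congr 1
      change ((g ^ j : B') : B) * ((g : B) ^ n * b) = ((g ^ (n + j) : B') : B) * b
      push_cast
      ring

end Groth.Agent.S9313
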