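import Groth.Statements.S9315
import Groth.Agent.CAlg.K72.AdicLocal
-- import your own Groth.Agent.* helpers here

set_option autoImplicit false
universe u
open CAlg

namespace Groth.Agent.S9315

open IsLocalRing in
/-- Let `R → S` be a local homomorphism of local rings (no Noetherian hypothesis). Then `R → S` is
formally smooth for the adic topology of the maximal ideal of `S` if and only if the following
lifting property holds: for every local ring `A` with a local structure map `R → A`, every ideal `J`
of `A` of square zero such that some power of the maximal ideal of `A` is zero, and every local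
`R`-algebra homomorphism `ψ : S → A/J` inducing a bijection on residue fields, there is an
`R`-algebra homomorphism `S → A` lifting `ψ`. -/
theorem result {R S : Type u} [CommRing R] [CommRing S]
    [IsLocalRing R] [IsLocalRing S] [Algebra R S] [IsLocalHom (algebraMap R S)] :
    CAlgX.IsAdicFormallySmooth R S (maximalIdeal S) ↔
      ∀ (A : Type u) [CommRing A] [IsLocalRing A] [Algebra R A] [IsLocalHom (algebraMap R A)]
        (J : Ideal A), J ^ 2 = ⊥ → (∃ n : ℕ, maximalIdeal A ^ n = ⊥) →
        ∀ [IsLocalRing (A ⧸ J)] (ψ : S →ₐ[R] A ⧸ J) [IsLocalHom ψ.toRingHom],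
          Function.Bijective (ResidueField.map ψ.toRingHom) →
          ∃ χ : S →ₐ[R] A, (Ideal.Quotient.mkₐ R J).comp χ = ψ := by
  constructor
  · intro h A _ _ _ _ J hJ hn _ ψ _ _
    exact K72.AdicLocal.exists_lift_of_local h A J hJ hn ψ
  · intro H
    apply K72.AdicLocal.isAdicFormallySmooth_of_local
    intro C _ _ _ _ J hJ2 hJm _ hn ψ hψ _
    have hnt : Nontrivial (C ⧸ J) := Ideal.Quotient.nontrivial_iff.mpr
      (fun h => IsLocalRing.maximalIdeal.isMaximal C |>.ne_top (top_le_iff.mp (h ▸ hJm)))
    have hl : IsLocalRing (C ⧸ J) := IsLocalRing.of_surjective' (Ideal.Quotient.mk J) Ideal.Quotient.mk_surjective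
    have hψl : IsLocalHom ψ.toRingHom := IsLocalHom.of_surjective _ hψ
    exact H C J hJ2 hn ψ (K72.AdicLocal.bijective_residue _ hψ)

end Groth.Agent.S9315
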