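import Groth.Statements.S9316
import Groth.Agent.CAlg.K72.AdicLocal
import Groth.Agent.CAlg.K72.AdicSmall
import Mathlib.RingTheory.HopkinsLevitzki
-- import your own Groth.Agent.* helpers here

set_option autoImplicit false
universe u
open CAlg

namespace Groth.Agent.S9316

open IsLocalRing in
/-- Let `R → S` be a local homomorphism of local rings with `S` Noetherian. Then `R → S` is formally
smooth for the adic topology of the maximal ideal of `S` if and only if lifts exist along small
extensions: for every Artinian local ring `A` with a local structure map `R → A`, every ideal `J` of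
`A` of square zero which has length one as an `A`-module, and every local `R`-algebra homomorphism
`ψ : S → A/J` inducing a bijection on residue fields, there is an `R`-algebra homomorphism `S → A`
lifting `ψ`. -/
theorem result {R S : Type u} [CommRing R] [CommRing S]
    [IsLocalRing R] [IsLocalRing S] [IsNoetherianRing S] [Algebra R S] [IsLocalHom (algebraMap R S)] :
    CAlgX.IsAdicFormallySmooth R S (maximalIdeal S) ↔
      ∀ (A : Type u) [CommRing A] [IsLocalRing A] [IsArtinianRing A] [Algebra R A]
        [IsLocalHom (algebraMap R A)] (J : Ideal A), J ^ 2 = ⊥ → Module.length A J = 1 →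
        ∀ [IsLocalRing (A ⧸ J)] (ψ : S →ₐ[R] A ⧸ J) [IsLocalHom ψ.toRingHom],
          Function.Bijective (ResidueField.map ψ.toRingHom) →
          ∃ χ : S →ₐ[R] A, (Ideal.Quotient.mkₐ R J).comp χ = ψ := by
  constructor
  · intro h A _ _ _ _ _ J hJ _ _ ψ _ _
    have hn : ∃ n : ℕ, maximalIdeal A ^ n = ⊥ := by
      have h1 := IsArtinianRing.isNilpotent_jacobson_bot (R := A)
      rw [IsLocalRing.jacobson_eq_maximalIdeal ⊥ bot_ne_top] at h1
      exact h1
    exact K72.AdicLocal.exists_lift_of_local h A J hJ hn ψ
  · intro H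
    apply K72.AdicLocal.isAdicFormallySmooth_of_local
    intro C _ _ _ _ J hJ2 hJm hmJ hn ψ hψ _
    have htors : Module.IsTorsionBySet C J (maximalIdeal C : Set C) := by
      rintro ⟨x, hx⟩ ⟨a, ha⟩
      apply Subtype.ext
      have h1 : a * x ∈ maximalIdeal C * J := Ideal.mul_mem_mul ha hx
      rw [hmJ] at h1
      exact h1
    letI : Module (ResidueField C) J := htors.module
    have htow : IsScalarTower C (ResidueField C) J := ⟨fun c k x => by
      obtain ⟨d, rfl⟩ := residue_surjective k
      change (c * d) • x = c • (d • x)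
      rw [mul_smul]⟩
    refine K72.AdicSmall.exists_lift (κ := ResidueField C) residue_surjective
      (fun x hx => (residue_eq_zero_iff x).mpr (hJm hx)) hJ2 ψ hψ ?_
    intro K hK hcov
    apply Groth.Agent.Ega41.AdicRed.exists_lift_of_quotient (Ideal.Quotient.factorₐ R hK)
      (Ideal.Quotient.factor_surjective hK) ψ
    have hKm : K ≤ maximalIdeal C := hK.trans hJm
    have hnt : Nontrivial (C ⧸ K) := Ideal.Quotient.nontrivial_iff.mpr
      (fun h => (IsLocalRing.maximalIdeal.isMaximal C).ne_top (top_le_iff.mp (h ▸ hKm)))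
    have hntJ : Nontrivial (C ⧸ J) := Ideal.Quotient.nontrivial_iff.mpr
      (fun h => (IsLocalRing.maximalIdeal.isMaximal C).ne_top (top_le_iff.mp (h ▸ hJm)))
    have hlK : IsLocalRing (C ⧸ K) := IsLocalRing.of_surjective' (Ideal.Quotient.mk K) Ideal.Quotient.mk_surjective
    have hlJ : IsLocalRing (C ⧸ J) := IsLocalRing.of_surjective' (Ideal.Quotient.mk J) Ideal.Quotient.mk_surjective
    have hlhK : IsLocalHom (Ideal.Quotient.mk K) := IsLocalHom.of_surjective _ Ideal.Quotient.mk_surjective
    have hlhJ : IsLocalHom (Ideal.Quotient.mk J) := IsLocalHom.of_surjective _ Ideal.Quotient.mk_surjective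
    have hlRK : IsLocalHom (algebraMap R (C ⧸ K)) := by
      have : algebraMap R (C ⧸ K) = (Ideal.Quotient.mk K).comp (algebraMap R C) := rfl
      rw [this]
      infer_instance
    let q : C ⧸ K →ₐ[R] C ⧸ J := Ideal.Quotient.factorₐ R hK
    have hq : Function.Surjective q := Ideal.Quotient.factor_surjective hK
    let N : Ideal (C ⧸ K) := RingHom.ker q
    have hmemN : ∀ x : C, Ideal.Quotient.mk K x ∈ N ↔ x ∈ J := by
      intro x
      rw [RingHom.mem_ker]
      exact Ideal.Quotient.eq_zero_iff_mem
    have hcomapN : N.comap (Ideal.Quotient.mk K) = J := by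
      ext x
      exact hmemN x
    have hN2 : N ^ 2 = ⊥ := by
      rw [pow_two, eq_bot_iff, Ideal.mul_le]
      intro x hx y hy
      obtain ⟨x, rfl⟩ := Ideal.Quotient.mk_surjective x
      obtain ⟨y, rfl⟩ := Ideal.Quotient.mk_surjective y
      have h1 : x * y ∈ J ^ 2 := by
        rw [pow_two]
        exact Ideal.mul_mem_mul ((hmemN x).mp hx) ((hmemN y).mp hy)
      rw [hJ2, Ideal.mem_bot] at h1
      rw [Ideal.mem_bot, ← map_mul, h1, map_zero]
    -- `N` is simple
    have hatom : IsAtom N := by
      refine ⟨fun h => ?_, fun L hL => ?_⟩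
      · apply hcov.ne
        rw [← hcomapN, h]
        ext x
        rw [Ideal.mem_comap, Ideal.mem_bot, Ideal.Quotient.eq_zero_iff_mem]
      · have h1 : L.comap (Ideal.Quotient.mk K) < J := by
          refine lt_of_le_of_ne ?_ ?_
          · rw [← hcomapN]; exact Ideal.comap_mono hL.le
          · intro h
            apply hL.ne
            rw [← Ideal.map_comap_of_surjective _ (Ideal.Quotient.mk_surjective (I := K)) L, h, ← hcomapN,
              Ideal.map_comap_of_surjective _ Ideal.Quotient.mk_surjective]
        have h2 : K ≤ L.comap (Ideal.Quotient.mk K) := by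
          intro x hx
          rw [Ideal.mem_comap, Ideal.Quotient.eq_zero_iff_mem.mpr hx]
          exact L.zero_mem
        have h3 : L.comap (Ideal.Quotient.mk K) = K := by
          by_contra hne
          exact hcov.2 (lt_of_le_of_ne h2 (Ne.symm hne)) h1
        rw [← Ideal.map_comap_of_surjective _ (Ideal.Quotient.mk_surjective (I := K)) L, h3]
        exact Ideal.map_quotient_self K
    have hsimple : IsSimpleModule (C ⧸ K) N := isSimpleModule_iff_isAtom.mpr hatom
    have hlen : Module.length (C ⧸ K) N = 1 := Module.length_eq_one _ _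
    -- the Artinian property
    have hartJ : IsArtinianRing (C ⧸ J) := by
      have h1 : IsNoetherianRing (C ⧸ J) := isNoetherianRing_of_surjective S (C ⧸ J) ψ.toRingHom hψ
      rw [isArtinianRing_iff_isNilpotent_maximalIdeal]
      obtain ⟨n, hn⟩ := hn
      refine ⟨n, ?_⟩
      have h2 : maximalIdeal (C ⧸ J) ≤ (maximalIdeal C).map (Ideal.Quotient.mk J) := by
        intro x hx
        obtain ⟨x, rfl⟩ := Ideal.Quotient.mk_surjective x
        apply Ideal.mem_map_of_mem
        rw [IsLocalRing.mem_maximalIdeal, mem_nonunits_iff] at hx ⊢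
        exact fun hu => hx (hu.map _)
      change maximalIdeal (C ⧸ J) ^ n = ⊥
      rw [eq_bot_iff]
      refine (Ideal.pow_right_mono h2 n).trans ?_
      rw [← Ideal.map_pow, hn, Ideal.map_bot]
    have hartN : IsArtinianRing ((C ⧸ K) ⧸ N) := by
      let e : ((C ⧸ K) ⧸ N) ≃ₐ[R] C ⧸ J := Ideal.quotientKerAlgEquivOfSurjective hq
      exact (e.symm.surjective).isArtinianRing
    have hartK : IsArtinianRing (C ⧸ K) := by
      have h1 : IsArtinian (C ⧸ K) ((C ⧸ K) ⧸ N) :=
        isArtinian_of_surjective_algebraMap (R := (C ⧸ K) ⧸ N) Ideal.Quotient.mk_surjective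
      have h2 : IsArtinian (C ⧸ K) N := inferInstance
      exact isArtinian_of_range_eq_ker (Submodule.subtype N) (Submodule.mkQ N) (by simp)
    -- the residue fields
    have hloc : IsLocalRing ((C ⧸ K) ⧸ N) := by
      have hnt' : Nontrivial ((C ⧸ K) ⧸ N) := Ideal.Quotient.nontrivial_iff.mpr (by
        intro h
        have h1 : (1 : C) ∈ J := by
          rw [← hmemN, h]; exact Submodule.mem_top
        exact (IsLocalRing.maximalIdeal.isMaximal C).ne_top ((Ideal.eq_top_iff_one _).mpr (hJm h1)))
      exact IsLocalRing.of_surjective' (Ideal.Quotient.mk N) Ideal.Quotient.mk_surjective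
    let ψ' : S →ₐ[R] (C ⧸ K) ⧸ N :=
      ((Ideal.quotientKerAlgEquivOfSurjective hq).symm : (C ⧸ J) →ₐ[R] _).comp ψ
    have hψ' : Function.Surjective ψ' := (Ideal.quotientKerAlgEquivOfSurjective hq).symm.surjective.comp hψ
    have hlψ' : IsLocalHom ψ'.toRingHom := IsLocalHom.of_surjective _ hψ'
    exact H (C ⧸ K) N hN2 hlen ψ' (K72.AdicLocal.bijective_residue ψ'.toRingHom hψ')

end Groth.Agent.S9316
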