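import Groth.Statements.S9321
import Groth.Agent.CAlg.K72.AdicPower
import Groth.Agent.CalgA.H1Union
import Mathlib.FieldTheory.Perfect
import Mathlib.RingTheory.MvPowerSeries.Inverse
-- import your own Groth.Agent.* helpers here

set_option autoImplicit false
open CAlg

namespace Groth.Agent.S9321

/-- Let `K` be a field of characteristic zero and `n ≥ 0`. Then `ℚ → K[[x_1, …, x_n]]` is formally
smooth for the adic topology of the maximal ideal of the power series ring. (`K` is taken in the
lowest universe, where `ℚ` lives.) -/
theorem result (K : Type) [Field K] [CharZero K] (n : ℕ) :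
    CAlgX.IsAdicFormallySmooth ℚ (MvPowerSeries (Fin n) K)
      (IsLocalRing.maximalIdeal (MvPowerSeries (Fin n) K)) := by
  have hfs : Algebra.FormallySmooth ℚ K := Groth.Agent.CalgA.H1Union.formallySmooth_of_perfectField ℚ K
  refine K72.AdicPower.mvPowerSeries (⊥ : Ideal K) (K72.AdicPower.of_formallySmooth ⊥) n _ ?_ ?_
  · rw [Ideal.map_bot]; exact bot_le
  · intro i
    rw [IsLocalRing.mem_maximalIdeal, mem_nonunits_iff, MvPowerSeries.isUnit_iff_constantCoeff,
      MvPowerSeries.constantCoeff_X]
    exact not_isUnit_zero

end Groth.Agent.S9321
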