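import Groth.Statements.S9323
import Groth.Agent.CAlg.K72.AdicPower
import Groth.Agent.Ega41.CohenLift
import Mathlib.RingTheory.MvPowerSeries.Inverse
-- import your own Groth.Agent.* helpers here

set_option autoImplicit false
open CAlg

namespace Groth.Agent.S9323

/-- Let `Λ` be a Cohen ring (a complete discrete valuation ring whose maximal ideal is generated by a
prime number) and `n ≥ 0`. Then `ℤ → Λ[[x_1, …, x_n]]` is formally smooth for the adic topology of
the maximal ideal of the power series ring. (`Λ` is taken in the lowest universe, where `ℤ` lives.) -/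
theorem result (Λ : Type) [CommRing Λ] [IsLocalRing Λ]
    (hΛ : CAlg.IsCohenRing Λ) (n : ℕ) :
    CAlgX.IsAdicFormallySmooth ℤ (MvPowerSeries (Fin n) Λ)
      (IsLocalRing.maximalIdeal (MvPowerSeries (Fin n) Λ)) := by
  obtain ⟨hdom, hdvr, hcomp, p, hp, hmax⟩ := hΛ
  haveI : Fact p.Prime := ⟨hp⟩
  have hp0 : (p : Λ) ≠ 0 := by
    intro h0
    rw [h0, Ideal.span_singleton_eq_bot.mpr rfl] at hmax
    exact IsDiscreteValuationRing.not_a_field Λ hmax
  have hflat : Module.Flat ℤ Λ := Groth.Agent.Ega41.CohenLift.flat_int_of_cohen p Λ hmax hp0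
  have hs := Groth.Agent.Ega41.CohenLift.formallySmooth_cohen_mod p Λ hmax
  -- `ℤ → Λ` is formally smooth for the `p`-adic topology
  have hΛ' : CAlgX.IsAdicFormallySmooth ℤ Λ (IsLocalRing.maximalIdeal Λ) := by
    intro A _ _ J hJ ψ ⟨k, hk⟩
    refine Groth.Agent.Ega41.FlatNilp.exists_lift_of_pow (Ideal.span {(p : ℤ)}) hs J ⟨2, hJ⟩ (2 * k) ?_ ψ
    have h1 : ((Ideal.span {(p : ℤ)}) ^ k).map (algebraMap ℤ A) ≤ J := by
      rw [Ideal.span_singleton_pow, Ideal.map_span, Set.image_singleton, Ideal.span_singleton_le_iff_mem]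
      rw [← Ideal.Quotient.eq_zero_iff_mem]
      have h2 : Ideal.Quotient.mk J (algebraMap ℤ A ((p : ℤ) ^ k)) = ψ (algebraMap ℤ Λ ((p : ℤ) ^ k)) :=
        (ψ.commutes ((p : ℤ) ^ k)).symm
      rw [h2]
      apply hk
      rw [map_pow]
      apply Ideal.pow_mem_pow
      rw [hmax]
      simpa using Ideal.mem_span_singleton_self (p : Λ)
    rw [mul_comm, pow_mul, Ideal.map_pow, eq_bot_iff, ← hJ]
    exact Ideal.pow_right_mono h1 2
  refine K72.AdicPower.mvPowerSeries (IsLocalRing.maximalIdeal Λ) hΛ' n _ ?_ ?_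
  · rw [Ideal.map_le_iff_le_comap]
    intro x hx
    rw [Ideal.mem_comap, IsLocalRing.mem_maximalIdeal, mem_nonunits_iff,
      MvPowerSeries.isUnit_iff_constantCoeff, MvPowerSeries.constantCoeff_C]
    exact (IsLocalRing.mem_maximalIdeal x).mp hx
  · intro i
    rw [IsLocalRing.mem_maximalIdeal, mem_nonunits_iff, MvPowerSeries.isUnit_iff_constantCoeff,
      MvPowerSeries.constantCoeff_X]
    exact not_isUnit_zero

end Groth.Agent.S9323
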