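import Groth.Statements.S9325
import Groth.Agent.CAlg.K72.H1Inf
-- import your own Groth.Agent.* helpers here

set_option autoImplicit false
universe u
open CAlg

namespace Groth.Agent.S9325

/-- Let `A` be a ring and `I ⊆ J` ideals of `A` such that the ideal `J/I` of `A/I` is `H_1`-regular: for
every prime `𝔮` of `A/I` containing `J/I` there is `g ∉ 𝔮` such that the extension of `J/I` to
`(A/I)_g` is generated by an `H_1`-regular sequence (a finite sequence all of whose linear relations
are combinations of the trivial ones). Then `I ∩ J² = I J`. -/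
theorem result {A : Type u} [CommRing A] (I J : Ideal A)
    (hIJ : I ≤ J)
    (h : ∀ (𝔮 : Ideal (A ⧸ I)) [𝔮.IsPrime], J.map (Ideal.Quotient.mk I) ≤ 𝔮 →
      ∃ g : A ⧸ I, g ∉ 𝔮 ∧ ∃ (c : ℕ) (f : Fin c → Localization.Away g),
        CAlgX.IsH1Regular f ∧
          Ideal.span (Set.range f) =
            (J.map (Ideal.Quotient.mk I)).map (algebraMap (A ⧸ I) (Localization.Away g))) :
    I ⊓ J ^ 2 = I * J := by
  apply le_antisymm
  · intro x hx
    by_contra hnot
    -- a maximal ideal containing the annihilator of `x` modulo `I J`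
    let C : Ideal A := (I * J).colon (Ideal.span {x} : Set A)
    have hC : ∀ a : A, a ∈ C ↔ a * x ∈ I * J := by
      intro a
      constructor
      · intro ha
        exact Submodule.mem_colon.mp ha x (Ideal.mem_span_singleton_self x)
      · intro ha
        refine Submodule.mem_colon.mpr ?_
        intro y hy
        obtain ⟨b, rfl⟩ := Ideal.mem_span_singleton'.mp hy
        have : a • (b * x) = b * (a * x) := by rw [smul_eq_mul]; ring
        rw [this]
        exact Ideal.mul_mem_left _ _ ha
    have hCtop : C ≠ ⊤ := by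
      intro hC1
      apply hnot
      have := (hC 1).mp (hC1 ▸ Submodule.mem_top)
      rwa [one_mul] at this
    obtain ⟨m, hm, hCm⟩ := Ideal.exists_le_maximal C hCtop
    have hmp : m.IsPrime := hm.isPrime
    by_cases hJm : J ≤ m
    · have hIm : I ≤ m := hIJ.trans hJm
      have hker : RingHom.ker (Ideal.Quotient.mk I) ≤ m := by rw [Ideal.mk_ker]; exact hIm
      have hq : (m.map (Ideal.Quotient.mk I)).IsPrime :=
        Ideal.map_isPrime_of_surjective Ideal.Quotient.mk_surjective hker
      obtain ⟨g, hg, c, f, hf, hspan⟩ := h (m.map (Ideal.Quotient.mk I)) (Ideal.map_mono hJm)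
      obtain ⟨g, rfl⟩ := Ideal.Quotient.mk_surjective g
      let π : A →+* Localization.Away (Ideal.Quotient.mk I g) :=
        (algebraMap (A ⧸ I) (Localization.Away (Ideal.Quotient.mk I g))).comp (Ideal.Quotient.mk I)
      have hloc : K72.H1Inf.Loc I π g := by
        refine ⟨?_, ?_, ?_, ?_⟩
        · intro y hy
          have h1 : algebraMap (A ⧸ I) (Localization.Away (Ideal.Quotient.mk I g)) (Ideal.Quotient.mk I y) =
            algebraMap (A ⧸ I) _ 0 := by rw [map_zero]; exact hy
          obtain ⟨⟨_, n, rfl⟩, hn⟩ := (IsLocalization.eq_iff_exists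
            (Submonoid.powers (Ideal.Quotient.mk I g)) _).mp h1
          refine ⟨n, ?_⟩
          rw [mul_zero] at hn
          rw [← Ideal.Quotient.eq_zero_iff_mem, map_mul, map_pow]
          exact hn
        · intro b
          obtain ⟨⟨a, ⟨_, n, rfl⟩⟩, hn⟩ := IsLocalization.surj (Submonoid.powers (Ideal.Quotient.mk I g)) b
          obtain ⟨a, rfl⟩ := Ideal.Quotient.mk_surjective a
          refine ⟨n, a, ?_⟩
          have h2 : b * algebraMap (A ⧸ I) (Localization.Away (Ideal.Quotient.mk I g))
              (Ideal.Quotient.mk I g ^ n) = π a := hn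
          rw [map_pow] at h2
          rw [mul_comm]
          exact h2
        · intro y hy
          change algebraMap _ _ (Ideal.Quotient.mk I y) = 0
          rw [Ideal.Quotient.eq_zero_iff_mem.mpr hy, map_zero]
        · exact IsLocalization.Away.algebraMap_isUnit (Ideal.Quotient.mk I g)
      rw [Ideal.map_map] at hspan
      obtain ⟨n, hn⟩ := hloc.main hIJ f hf hspan hx.1 hx.2
      have hgm : g ^ n ∈ m := hCm ((hC _).mpr hn)
      exact hg (Ideal.mem_map_of_mem _ (hmp.mem_of_pow_mem n hgm))
    · obtain ⟨s, hsJ, hsm⟩ := Set.not_subset.mp hJm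
      apply hsm
      apply hCm
      rw [hC, mul_comm s x]
      exact Ideal.mul_mem_mul hx.1 hsJ
  · rw [le_inf_iff, pow_two]
    exact ⟨Ideal.mul_le_left, Ideal.mul_mono_left hIJ⟩

end Groth.Agent.S9325
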