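import Groth.Statements.S9337
import Groth.Agent.FtPts.K585.Basic

set_option autoImplicit false
universe u
open FtPts

namespace Groth.Agent.S9337

open AlgebraicGeometry CategoryTheory in
/-- Let k be a field and f : Spec k → S a morphism of schemes with image point u. Then f is locally of
finite type if and only if some affine open U ∋ u of S has u as a closed point and the residue field
of Spec k (that is, k) is finite over κ(u). -/
theorem result (S : Scheme.{u}) (k : Type u) [Field k] (f : Spec (CommRingCat.of k) ⟶ S) :
    LocallyOfFiniteType f ↔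
      ∃ U : S.Opens, IsAffineOpen U ∧ ∃ hu : f.base (IsLocalRing.closedPoint k) ∈ U,
        IsClosed ({⟨f.base (IsLocalRing.closedPoint k), hu⟩} : Set ↥U) ∧
          (f.residueFieldMap (IsLocalRing.closedPoint k)).hom.Finite := by
  let z : Spec (CommRingCat.of k) := IsLocalRing.closedPoint k
  have hsub : Subsingleton (Spec (CommRingCat.of k)) :=
    inferInstanceAs (Subsingleton (PrimeSpectrum k))
  constructor
  · intro h
    obtain ⟨U, hU, hu, hcl⟩ := K585.FtPtsBasic.exists_isClosed_of_locallyOfFiniteType S
      (CommRingCat.of k) (Field.toIsField k) f z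
    refine ⟨U, hU, hu, hcl, ?_⟩
    change (f.residueFieldMap z).hom.Finite
    rw [← K585.QFinBasic.isClosed_asFiber_iff]
    have : Subsingleton (f.fiber (f z)) := (f.fiberι (f z)).isEmbedding.injective.subsingleton
    exact isClosed_discrete _
  · rintro ⟨U, hU, hu, hcl, hfin⟩
    have h1 := K585.FtPtsBasic.locallyOfFiniteType_of_isClosed S (f z) U hu hcl
    have h2 := Scheme.Hom.SpecMap_residueFieldMap_fromSpecResidueField f z
    have h3 : IsFinite (Spec.map (f.residueFieldMap z)) := by
      rw [IsFinite.SpecMap_iff]; exact hfin
    have h4 : LocallyOfFiniteType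
        ((Spec (CommRingCat.of k)).fromSpecResidueField z ≫ f) := by
      rw [← h2]; infer_instance
    have h5 : IsClosedImmersion ((Spec (CommRingCat.of k)).fromSpecResidueField z) :=
      isClosed_singleton_iff_isClosedImmersion.mp (isClosed_discrete _)
    have h6 : Surjective ((Spec (CommRingCat.of k)).fromSpecResidueField z) :=
      ⟨fun w => ⟨IsLocalRing.closedPoint _, Subsingleton.elim _ _⟩⟩
    have h7 : IsIso ((Spec (CommRingCat.of k)).fromSpecResidueField z) :=
      isIso_of_isClosedImmersion_of_surjective _
    have h8 : f = inv ((Spec (CommRingCat.of k)).fromSpecResidueField z) ≫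
        ((Spec (CommRingCat.of k)).fromSpecResidueField z ≫ f) := by simp
    rw [h8]
    infer_instance

end Groth.Agent.S9337
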