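import Groth.Statements.S9338
import Groth.Agent.FtPts.K585.Basic
import Groth.Agent.FtPts.K585.Artin

set_option autoImplicit false
universe u
open FtPts

namespace Groth.Agent.S9338

open AlgebraicGeometry CategoryTheory in
/-- For an Artinian local ring A with residue field κ, a morphism f : Spec A → S is (locally) of finite
type exactly when the composite Spec κ → Spec A → S is. -/
theorem result (S : Scheme.{u}) (A : Type u) [CommRing A] [IsArtinianRing A] [IsLocalRing A]
    (f : Spec (CommRingCat.of A) ⟶ S) :
    LocallyOfFiniteType f ↔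
      LocallyOfFiniteType (Spec.map (CommRingCat.ofHom (IsLocalRing.residue A)) ≫ f) := by
  constructor
  · intro h
    have : IsClosedImmersion (Spec.map (CommRingCat.ofHom (IsLocalRing.residue A))) :=
      IsClosedImmersion.spec_of_surjective _ (IsLocalRing.residue_surjective)
    infer_instance
  · intro h
    let z : Spec (CommRingCat.of A) := IsLocalRing.closedPoint A
    obtain ⟨_, ⟨U, hU, rfl⟩, hzU, -⟩ :=
      S.isBasis_affineOpens.exists_subset_of_mem_open (Set.mem_univ (f z)) isOpen_univ
    have hoi : IsOpenImmersion hU.fromSpec := hU.isOpenImmersion_fromSpec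
    have hsub : Subsingleton (Spec (CommRingCat.of A)) :=
      inferInstanceAs (Subsingleton (PrimeSpectrum A))
    let g : Spec (CommRingCat.of A) ⟶ Spec Γ(S, U) := IsOpenImmersion.lift hU.fromSpec f (by
      rw [hU.range_fromSpec]
      rintro _ ⟨w, rfl⟩
      rw [Subsingleton.elim w z]
      exact hzU)
    have hg : g ≫ hU.fromSpec = f := IsOpenImmersion.lift_fac _ _ _
    obtain ⟨φ, hφ⟩ := Spec.map_surjective g
    have hgt : LocallyOfFiniteType
        (Spec.map (CommRingCat.ofHom (IsLocalRing.residue A)) ≫ g) := by
      have : LocallyOfFiniteType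
        ((Spec.map (CommRingCat.ofHom (IsLocalRing.residue A)) ≫ g) ≫ hU.fromSpec) := by
        rw [Category.assoc, hg]; exact h
      exact locallyOfFiniteType_of_comp _ hU.fromSpec
    rw [← hφ, ← Spec.map_comp, HasRingHomProperty.Spec_iff (P := @LocallyOfFiniteType),
      CommRingCat.hom_comp, CommRingCat.hom_ofHom] at hgt
    have key : φ.hom.FiniteType := K585.FtPtsArtin.finiteType_of_residue φ.hom hgt
    have hgt' : LocallyOfFiniteType g := by
      rw [← hφ, HasRingHomProperty.Spec_iff (P := @LocallyOfFiniteType)]
      exact key
    rw [← hg]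
    infer_instance

end Groth.Agent.S9338
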