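import Groth.Statements.S9340
import Groth.Agent.FtPts.K585.Basic
import Groth.Agent.S9339

set_option autoImplicit false
universe u
open FtPts

namespace Groth.Agent.S9340

open AlgebraicGeometry CategoryTheory in
/-- A surjective morphism locally of finite type maps the set of finite type points of the source onto
the set of finite type points of the target. -/
theorem result {T S : Scheme.{u}} (f : T ⟶ S) [LocallyOfFiniteType f] [Surjective f] :
    f.base '' {t : ↑T | LocallyOfFiniteType (T.fromSpecResidueField t)} =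
      {s : ↑S | LocallyOfFiniteType (S.fromSpecResidueField s)} := by
  refine Set.Subset.antisymm (Groth.Agent.S9339.result f) ?_
  intro s hs
  have hs' : LocallyOfFiniteType (S.fromSpecResidueField s) := hs
  obtain ⟨t₀, rfl⟩ := f.surjective s
  have hJ : JacobsonSpace (f.fiber (f t₀)) := inferInstance
  obtain ⟨x, -, hx⟩ := nonempty_inter_closedPoints (Z := (Set.univ : Set (f.fiber (f t₀))))
    ⟨f.asFiber t₀, trivial⟩ isClosed_univ.isLocallyClosed
  have hx' : IsClosedImmersion ((f.fiber (f t₀)).fromSpecResidueField x) :=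
    isClosed_singleton_iff_isClosedImmersion.mp hx
  have h1 := K585.QFinBasic.locallyOfFiniteType_fiber f (f t₀)
  have h2 : LocallyOfFiniteType
      (((f.fiber (f t₀)).fromSpecResidueField x ≫ f.fiberι (f t₀)) ≫ f) := by
    rw [Category.assoc, Scheme.Hom.fiber_fac]
    infer_instance
  have h3 : LocallyOfFiniteType ((f.fiber (f t₀)).fromSpecResidueField x ≫ f.fiberι (f t₀)) :=
    locallyOfFiniteType_of_comp _ f
  obtain ⟨U, hU, ht, h⟩ := K585.FtPtsBasic.exists_isClosed_of_locallyOfFiniteType T
    _ (Field.toIsField _) ((f.fiber (f t₀)).fromSpecResidueField x ≫ f.fiberι (f t₀))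
    (IsLocalRing.closedPoint _)
  have h4 := K585.FtPtsBasic.locallyOfFiniteType_of_isClosed T _ U ht h
  have h5 : ((f.fiber (f t₀)).fromSpecResidueField x ≫ f.fiberι (f t₀))
      (IsLocalRing.closedPoint _) = f.fiberι (f t₀) x := by
    rw [Scheme.Hom.comp_apply, Scheme.fromSpecResidueField_apply]
  rw [h5] at h4
  refine ⟨f.fiberι (f t₀) x, h4, ?_⟩
  have h6 : f.fiberι (f t₀) x ∈ Set.range (f.fiberι (f t₀)) := ⟨x, rfl⟩
  rw [Scheme.Hom.range_fiberι] at h6
  exact h6

end Groth.Agent.S9340
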