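import Groth.Statements.S9342
import Groth.Agent.FtPts.K585.Basic

set_option autoImplicit false
universe u
open FtPts

namespace Groth.Agent.S9342

open AlgebraicGeometry CategoryTheory in
/-- The finite type points of a scheme S are exactly the points that are closed in some affine open
neighbourhood. -/
theorem result (S : Scheme.{u}) (s : S) :
    LocallyOfFiniteType (S.fromSpecResidueField s) ↔
      ∃ U : S.Opens, IsAffineOpen U ∧ ∃ hs : s ∈ U, IsClosed ({⟨s, hs⟩} : Set ↥U) := by
  constructor
  · intro h
    have h1 := K585.FtPtsBasic.exists_isClosed_of_locallyOfFiniteType S (S.residueField s)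
      (Field.toIsField _) (S.fromSpecResidueField s) (IsLocalRing.closedPoint _)
    rwa [Scheme.fromSpecResidueField_apply] at h1
  · rintro ⟨U, hU, hs, h⟩
    exact K585.FtPtsBasic.locallyOfFiniteType_of_isClosed S s U hs h

end Groth.Agent.S9342
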