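import Groth.Statements.S9343
import Groth.Agent.Sga3C.GenPts
import Mathlib.AlgebraicGeometry.PullbackCarrier

set_option autoImplicit false
universe u
open Dom

namespace Groth.Agent.S9343

open AlgebraicGeometry CategoryTheory in
/-- The base change of a quasi-compact dominant morphism f : X → S along a morphism g : S' → S along
which generalizations lift is dominant. -/
theorem result {X S X' S' : Scheme.{u}} (f : X ⟶ S) [QuasiCompact f] [IsDominant f]
    (g : S' ⟶ S) (g' : X' ⟶ X) (f' : X' ⟶ S') (hsq : IsPullback g' f' f g) (hg : GeneralizingMap g.base) :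
    IsDominant f' := by
  have hqc : QuasiCompact f' := MorphismProperty.of_isPullback hsq ‹_›
  constructor
  intro y
  obtain ⟨η, hη, hηy⟩ := Groth.Agent.Sga3C.GenPts.exists_mem_genericPoints_specializes y
  have hmax : ∀ z, z ⤳ g η → z = g η := by
    intro z hz
    obtain ⟨w, hw, hwz⟩ := hg hz
    rw [← hwz, Groth.Agent.Sga3C.GenPts.eq_of_specializes_of_mem_genericPoints hη w hw]
  obtain ⟨x, hx⟩ := Groth.Agent.Sga3C.GenPts.mem_range_of_mem_closure_range f (g η)
    (f.denseRange _) hmax
  obtain ⟨z, hz1, hz2⟩ := Scheme.exists_preimage_of_isPullback hsq x η hx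
  exact hηy.mem_closed isClosed_closure (subset_closure ⟨z, hz2⟩)

end Groth.Agent.S9343
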