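import Groth.Statements.S9344
import Mathlib.AlgebraicGeometry.PullbackCarrier

set_option autoImplicit false
universe u
open Dom

namespace Groth.Agent.S9344

open AlgebraicGeometry CategoryTheory in
/-- The base change of a dominant morphism f : X → S along an open morphism g : S' → S is dominant. -/
theorem result {X S X' S' : Scheme.{u}} (f : X ⟶ S) [IsDominant f]
    (g : S' ⟶ S) (g' : X' ⟶ X) (f' : X' ⟶ S') (hsq : IsPullback g' f' f g) (hg : IsOpenMap g.base) :
    IsDominant f' := by
  constructor
  intro y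
  rw [mem_closure_iff]
  intro U hU hyU
  obtain ⟨_, ⟨u, huU, rfl⟩, x, hx⟩ := f.denseRange.inter_open_nonempty (g.base '' U) (hg U hU)
    ⟨_, y, hyU, rfl⟩
  obtain ⟨z, hz1, hz2⟩ := Scheme.exists_preimage_of_isPullback hsq x u hx
  exact ⟨u, huU, z, hz2⟩

end Groth.Agent.S9344
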