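import Groth.Statements.S9345
import Groth.Agent.Sga3C.GenPts

set_option autoImplicit false
universe u
open Dom

namespace Groth.Agent.S9345

open AlgebraicGeometry CategoryTheory in
/-- For a morphism f : X → S whose source has only finitely many irreducible components, the image of f
is dense exactly when it contains the generic point of each irreducible component of S, and then S
too has finitely many. -/
theorem result {X S : Scheme.{u}} (f : X ⟶ S)
    (hX : (irreducibleComponents (↑X : Type u)).Finite) :
    (IsDominant f ↔ ∀ s : ↑S, closure {s} ∈ irreducibleComponents (↑S : Type u) → s ∈ Set.range f.base) ∧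
      (IsDominant f → (irreducibleComponents (↑S : Type u)).Finite) := by
  have key : IsDominant f → ∀ s : S, s ∈ genericPoints S →
      ∃ Z ∈ irreducibleComponents X, f '' Z ⊆ closure {s} ∧ s ∈ closure (f '' Z) := by
    intro hf s hs
    have h1 : (Set.univ : Set S) ⊆ ⋃ Z ∈ irreducibleComponents X, closure (f '' Z) := by
      rw [← f.denseRange.closure_range]
      refine closure_minimal ?_ (hX.isClosed_biUnion fun _ _ => isClosed_closure)
      rintro _ ⟨x, rfl⟩
      simp only [Set.mem_iUnion]
      exact ⟨irreducibleComponent x, irreducibleComponent_mem_irreducibleComponents x,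
        subset_closure ⟨x, mem_irreducibleComponent, rfl⟩⟩
    obtain ⟨Z, hZ, hsZ⟩ : ∃ Z ∈ irreducibleComponents X, s ∈ closure (f '' Z) := by
      have := h1 (Set.mem_univ s)
      simpa only [Set.mem_iUnion, exists_prop] using this
    refine ⟨Z, hZ, ?_, hsZ⟩
    have hirr : IsIrreducible (closure (f '' Z)) :=
      (hZ.1.image f f.continuous.continuousOn).closure
    have h2 : closure {s} ⊆ closure (f '' Z) :=
      isClosed_closure.closure_subset_iff.mpr (Set.singleton_subset_iff.mpr hsZ)
    exact subset_closure.trans ((show closure {s} ∈ irreducibleComponents S from hs).2 hirr h2)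
  have key2 : IsDominant f → ∀ s : S, s ∈ genericPoints S →
      ∃ x : X, x ∈ genericPoints X ∧ f x = s := by
    intro hf s hs
    obtain ⟨Z, hZ, hZ1, hZ2⟩ := key hf s hs
    obtain ⟨x, hx⟩ := QuasiSober.sober hZ.1 (isClosed_of_mem_irreducibleComponents Z hZ)
    refine ⟨x, ?_, ?_⟩
    · change closure {x} ∈ irreducibleComponents X
      rw [hx.def]; exact hZ
    · apply Groth.Agent.Sga3C.GenPts.eq_of_specializes_of_mem_genericPoints hs
      rw [specializes_iff_mem_closure]
      have h3 : f '' Z ⊆ closure {f x} := by
        rintro _ ⟨z, hz, rfl⟩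
        have : x ⤳ z := hx.specializes hz
        exact (this.map f.continuous).mem_closure
      exact closure_minimal h3 isClosed_closure hZ2
  refine ⟨⟨fun hf s hs => ?_, fun h => ?_⟩, fun hf => ?_⟩
  · obtain ⟨x, -, hx⟩ := key2 hf s hs
    exact ⟨x, hx⟩
  · constructor
    intro y
    obtain ⟨η, hη, hηy⟩ := Groth.Agent.Sga3C.GenPts.exists_mem_genericPoints_specializes y
    exact hηy.mem_closed isClosed_closure (subset_closure (h η hη))
  · refine (hX.image (fun Z => closure (f '' Z))).subset ?_
    intro W hW
    obtain ⟨s, hs⟩ := QuasiSober.sober hW.1 (isClosed_of_mem_irreducibleComponents W hW)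
    have hs' : s ∈ genericPoints S := by
      change closure {s} ∈ irreducibleComponents S
      rw [hs.def]; exact hW
    obtain ⟨Z, hZ, hZ1, hZ2⟩ := key hf s hs'
    refine ⟨Z, hZ, ?_⟩
    change closure (f '' Z) = W
    rw [← hs.def]
    exact Set.Subset.antisymm (closure_minimal hZ1 isClosed_closure)
      (isClosed_closure.closure_subset_iff.mpr (Set.singleton_subset_iff.mpr hZ2))

end Groth.Agent.S9345
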