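import Groth.Statements.S9348
import Mathlib.AlgebraicGeometry.PullbackCarrier

set_option autoImplicit false
universe u
open Dom

namespace Groth.Agent.S9348

open AlgebraicGeometry CategoryTheory in
/-- Let f : X → Y be a morphism and g : Y' → Y open and surjective. If the base change f' : X ×_Y Y' →
Y' of f is quasi-compact, then so is f. -/
theorem result {X Y X' Y' : Scheme.{u}} (f : X ⟶ Y) (g : Y' ⟶ Y) [Surjective g]
    (hg : IsOpenMap g.base) (g' : X' ⟶ X) (f' : X' ⟶ Y') (hsq : IsPullback g' f' f g) [QuasiCompact f'] :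
    QuasiCompact f := by
  refine (quasiCompact_iff_forall_isAffineOpen (f := f)).mpr fun V hV => ?_
  obtain ⟨t, ht⟩ : ∃ t : Set Y', IsCompact t ∧ IsOpen t ∧ g '' t = (V : Set Y) := by
    have h1 : ∀ y : V, ∃ W : Y'.Opens, IsAffineOpen W ∧ (W : Set Y') ⊆ g ⁻¹' (V : Set Y) ∧
        (y : Y) ∈ g '' (W : Set Y') := by
      intro y
      obtain ⟨z, hz⟩ := g.surjective y
      obtain ⟨_, ⟨W, hW, rfl⟩, hzW, hW'⟩ :=
        Y'.isBasis_affineOpens.exists_subset_of_mem_open
          (show z ∈ (g ⁻¹ᵁ V : Y'.Opens) by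
            change g z ∈ V; rw [hz]; exact y.2) (g ⁻¹ᵁ V).isOpen
      exact ⟨W, hW, hW', z, hzW, hz⟩
    choose W hW hWV hyW using h1
    obtain ⟨s, hs⟩ := hV.isCompact.elim_finite_subcover (fun y : V => g '' (W y : Set Y'))
      (fun y => hg _ (W y).isOpen) (fun y hy => Set.mem_iUnion.mpr ⟨⟨y, hy⟩, hyW ⟨y, hy⟩⟩)
    refine ⟨⋃ y ∈ s, (W y : Set Y'), s.isCompact_biUnion fun y _ => (hW y).isCompact,
      isOpen_biUnion fun y _ => (W y).isOpen, Set.Subset.antisymm ?_ ?_⟩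
    · rintro _ ⟨z, hz, rfl⟩
      simp only [Set.mem_iUnion] at hz
      obtain ⟨y, hy, hz⟩ := hz
      exact hWV y hz
    · intro y hy
      have := hs hy
      simp only [Set.mem_iUnion] at this
      obtain ⟨w, hw, z, hz, hzy⟩ := this
      exact ⟨z, Set.mem_biUnion hw hz, hzy⟩
  have h2 : (f ⁻¹ᵁ V : Set X) = g' '' (f' ⁻¹' t) := by
    ext x
    constructor
    · intro hx
      have hx' : f x ∈ (V : Set Y) := hx
      rw [← ht.2.2] at hx'
      obtain ⟨z, hz, hzx⟩ := hx'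
      obtain ⟨w, hw1, hw2⟩ := Scheme.exists_preimage_of_isPullback hsq x z hzx.symm
      exact ⟨w, by rw [Set.mem_preimage, hw2]; exact hz, hw1⟩
    · rintro ⟨w, hw, rfl⟩
      change f (g' w) ∈ (V : Set Y)
      rw [← Scheme.Hom.comp_apply, hsq.w, Scheme.Hom.comp_apply, ← ht.2.2]
      exact ⟨_, hw, rfl⟩
  rw [h2]
  exact (f'.isCompact_preimage (U := ⟨t, ht.2.1⟩) ht.1).image g'.continuous

end Groth.Agent.S9348
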