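import Groth.Statements.S9360
import Groth.Agent.SchDense.K586.Reduced

set_option autoImplicit false
universe u
open SchDense

namespace Groth.Agent.S9360

open AlgebraicGeometry CategoryTheory in
/-- Let U ⊆ X be a reduced open subscheme. Then the scheme-theoretic closure of U in X is X if and only
if U is scheme-theoretically dense in X (for every open W the scheme-theoretic closure of U ∩ W in W
is W); and in that case X is reduced. -/
theorem result (X : Scheme.{u}) (U : X.Opens) [IsReduced (↑U : Scheme.{u})] :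
    (IsSchemeTheoreticallyDominant U.ι ↔
        ∀ W : X.Opens, IsSchemeTheoreticallyDominant (X.homOfLE (inf_le_right : U ⊓ W ≤ W))) ∧
      (IsSchemeTheoreticallyDominant U.ι → IsReduced X) := by
  refine ⟨⟨fun h W => ?_, fun h => ?_⟩, fun h => K586.Reduced.isReduced_of_ker_eq_bot U.ι h.1⟩
  · have hX := K586.Reduced.isReduced_of_ker_eq_bot U.ι h.1
    have hd := K586.Reduced.isDominant_of_ker_eq_bot U.ι h.1
    refine K586.Reduced.ker_homOfLE_inf_eq_bot U W ?_
    have h2 := hd.1
    rwa [DenseRange, Scheme.Opens.range_ι] at h2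
  · have h1 : IsSchemeTheoreticallyDominant (X.homOfLE (inf_le_right : U ⊓ ⊤ ≤ ⊤)) := h ⊤
    have h00 : IsIso (⊤ : X.Opens).ι := (Scheme.topIso X).isIso_hom
    have h0 : IsSchemeTheoreticallyDominant (⊤ : X.Opens).ι := inferInstance
    have h2 : IsIso (X.homOfLE (inf_le_left : U ⊓ ⊤ ≤ U)) := by
      have : U ⊓ ⊤ = U := inf_top_eq U
      exact (X.isoOfEq this).isIso_hom
    have h3 : IsSchemeTheoreticallyDominant
        (X.homOfLE (inf_le_right : U ⊓ ⊤ ≤ ⊤) ≫ (⊤ : X.Opens).ι) := inferInstance
    rw [Scheme.homOfLE_ι] at h3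
    constructor
    rw [← Scheme.Hom.ker_comp_of_isIso (X.homOfLE (inf_le_left : U ⊓ ⊤ ≤ U)) U.ι,
      Scheme.homOfLE_ι]
    exact h3.1

end Groth.Agent.S9360
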