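import Groth.Statements.S9368
import Groth.Agent.Synt.K563.FieldSch

set_option autoImplicit false
universe u
open Synt

namespace Groth.Agent.S9368

open AlgebraicGeometry CategoryTheory in
/-- For X locally of finite type over a field k with structure morphism p, the following are equivalent:
(1) p is syntomic; (2) every x ∈ X has an affine open neighbourhood whose coordinate ring is a
global complete intersection over k; (3) each stalk O_{X,x} is a complete intersection ring over k
(k-algebra structures induced by p). -/
theorem result (k : Type u) [Field k] (X : Scheme.{u}) (p : X ⟶ Spec (CommRingCat.of k)) [LocallyOfFiniteType p] :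
    [Synt.IsSyntomicMor p,
      ∀ x : ↑X, ∃ U : X.affineOpens, x ∈ U.1 ∧
        letI := ((Scheme.ΓSpecIso (CommRingCat.of k)).inv ≫ p.appLE ⊤ U.1 le_top).hom.toAlgebra
        Synt.IsGlobalCI k Γ(X, U.1),
      ∀ x : ↑X,
        letI := ((Scheme.ΓSpecIso (CommRingCat.of k)).inv ≫ p.appLE ⊤ ⊤ le_top ≫ X.presheaf.germ ⊤ x trivial).hom.toAlgebra
        Synt.IsCIOver k (X.presheaf.stalk x)].TFAE := by
  have h1 := K563.SchDict2.isSyntomicMor_over_field_iff p
  tfae_have 1 → 2 := fun h => K563.FieldSch.exists_globalCI k p (h1.mp h)
  tfae_have 2 → 1 := by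
    intro h
    refine h1.mpr fun x => ?_
    obtain ⟨U, hx, hU⟩ := h x
    exact K563.FieldSch.isCI_of_globalCI k p U.2 hU x hx
  tfae_have 1 ↔ 3 :=
    h1.trans (forall_congr' fun x => (K563.FieldSch.isCIOver_stalk_iff k p x).symm)
  tfae_finish

end Groth.Agent.S9368
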