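import Groth.Statements.S9380
import Groth.Agent.Ega2.H278.AlgOf
import Groth.Agent.EGA2.K35.GammaIso

set_option autoImplicit false
universe u
open QAff

namespace Groth.Agent.S9380

open AlgebraicGeometry CategoryTheory in
/-- A quasi-compact quasi-separated morphism f : X → S is quasi-affine if and only if the canonical
S-morphism X → Spec_S(f_*O_X) (the one inducing the comparison map on direct-image algebras) exists
as a quasi-compact open immersion. -/
theorem result {X S : Scheme.{u}} (f : X ⟶ S) [QuasiCompact f] [QuasiSeparated f] :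
    MoreMor.IsQuasiAffineHom f ↔
      ∃ (c : X ⟶ (RelSpec.QCAlg.directImage f).spec) (e : c ≫ (RelSpec.QCAlg.directImage f).π = f),
        (RelSpec.QCAlg.directImage f).gammaMap = AffAlg.algHom (RelSpec.QCAlg.directImage f).π f c e ∧
          QuasiCompact c ∧ IsOpenImmersion c := by
  have hc : (RelSpec.QCAlg.directImage f).π.c ≫ (RelSpec.QCAlg.directImage f).gammaMap = f.c :=
    (RelSpec.QCAlg.directImage f).π_c_gammaMap
  have hiso : IsIso (RelSpec.QCAlg.directImage f).gammaMap := K35.GammaIso.isIso_gammaMap _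
  constructor
  · intro h
    obtain ⟨⟨c, e⟩, hce⟩ := Groth.Agent.Ega2.H278.AlgOf.surjective (RelSpec.QCAlg.directImage f).π f
      ⟨(RelSpec.QCAlg.directImage f).gammaMap, hc⟩
    have hce' : AffAlg.algHom (RelSpec.QCAlg.directImage f).π f c e =
      (RelSpec.QCAlg.directImage f).gammaMap := congrArg Subtype.val hce
    refine ⟨c, e, hce'.symm, ?_, ?_⟩
    · have : QuasiCompact (c ≫ (RelSpec.QCAlg.directImage f).π) := by rw [e]; infer_instance
      exact QuasiCompact.of_comp c (RelSpec.QCAlg.directImage f).π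
    · have hV : ∀ V : S.affineOpens, IsOpenImmersion ((f ⁻¹ᵁ V.1).ι ≫ c) := by
        intro V
        rw [Groth.Agent.Ega2.H278.AlgOf.ι_comp_eq_loc (RelSpec.QCAlg.directImage f).π f c e V, hce']
        have h1 : Scheme.IsQuasiAffine (f ⁻¹ᵁ V.1 : Scheme.{u}) := h.2 V.1 V.2
        have h2 : IsIso ((RelSpec.QCAlg.directImage f).gammaMap.app (Opposite.op V.1)) := inferInstance
        have h3 : IsOpenImmersion (f ⁻¹ᵁ V.1).toSpecΓ := by
          unfold Scheme.Opens.toSpecΓ
          infer_instance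
        unfold Groth.Agent.Ega2.H278.AlgOf.loc
        have h4 : IsOpenImmersion (Spec.map
            ((RelSpec.QCAlg.directImage f).gammaMap.app (Opposite.op V.1))) := inferInstance
        have h5 : IsOpenImmersion (V.2.preimage (RelSpec.QCAlg.directImage f).π).fromSpec := inferInstance
        exact MorphismProperty.comp_mem _ _ _ h3 (MorphismProperty.comp_mem _ _ _ h4 h5)
      refine IsZariskiLocalAtTarget.of_iSup_eq_top (P := @IsOpenImmersion)
        (fun V : S.affineOpens => (RelSpec.QCAlg.directImage f).π ⁻¹ᵁ V.1) ?_ ?_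
      · have := (.comap (iSup_affineOpens_eq_top S) (RelSpec.QCAlg.directImage f).π.base.hom :
          TopologicalSpace.IsOpenCover _)
        exact this
      · intro V
        have h6 : IsOpenImmersion ((c ⁻¹ᵁ ((RelSpec.QCAlg.directImage f).π ⁻¹ᵁ V.1)).ι ≫ c) := by
          have h7 : c ⁻¹ᵁ ((RelSpec.QCAlg.directImage f).π ⁻¹ᵁ V.1) = f ⁻¹ᵁ V.1 := by
            rw [← Scheme.Hom.comp_preimage, e]
          rw [h7]
          exact hV V
        rw [← morphismRestrict_ι] at h6
        exact IsOpenImmersion.of_comp _ (((RelSpec.QCAlg.directImage f).π ⁻¹ᵁ V.1).ι)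
  · rintro ⟨c, e, -, hq, ho⟩
    refine ⟨inferInstance, fun V hV => ?_⟩
    have h7 : c ⁻¹ᵁ ((RelSpec.QCAlg.directImage f).π ⁻¹ᵁ V) = f ⁻¹ᵁ V := by
      rw [← Scheme.Hom.comp_preimage, e]
    rw [← h7]
    have h8 : IsAffineOpen ((RelSpec.QCAlg.directImage f).π ⁻¹ᵁ V) := hV.preimage _
    have h9 : IsAffine (((RelSpec.QCAlg.directImage f).π ⁻¹ᵁ V : (RelSpec.QCAlg.directImage f).spec.Opens) :
      Scheme.{u}) := h8
    have h10 : CompactSpace (c ⁻¹ᵁ ((RelSpec.QCAlg.directImage f).π ⁻¹ᵁ V) : Scheme.{u}) :=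
      isCompact_iff_compactSpace.mp (c.isCompact_preimage h8.isCompact)
    exact Scheme.IsQuasiAffine.of_isImmersion (c ∣_ ((RelSpec.QCAlg.directImage f).π ⁻¹ᵁ V))

end Groth.Agent.S9380
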