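import Groth.Statements.S9385
import Groth.Agent.SchDense.K586.Reduced

set_option autoImplicit false
universe u
open SchDense

namespace Groth.Agent.S9385

open AlgebraicGeometry CategoryTheory in
/-- Let h : Z → X be an immersion, and suppose that either Z is reduced or h is quasi-compact. Write Z̄
⊆ X for the scheme-theoretic image of h. Then Z → Z̄ is an open immersion identifying Z with a
scheme-theoretically dense (in the for-every-open sense) and topologically dense open subscheme of
Z̄. -/
theorem result {Z X : Scheme.{u}} (h : Z ⟶ X) [IsImmersion h]
    (hyp : QuasiCompact h ∨ IsReduced Z) :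
    ∃ hI : IsOpenImmersion h.toImage,
      (∀ W : h.image.Opens, IsSchemeTheoreticallyDominant
          (h.image.homOfLE (inf_le_right : @Scheme.Hom.opensRange _ _ h.toImage hI ⊓ W ≤ W))) ∧
        DenseRange h.toImage.base := by
  have hdom := K586.Reduced.isSchemeTheoreticallyDominant_toImage h
  rcases hyp with hqc | hred
  · have hI : IsOpenImmersion h.toImage := inferInstance
    refine ⟨hI, fun W => ?_, (inferInstance : IsDominant h.toImage).1⟩
    let U : h.image.Opens := h.toImage.opensRange
    have e : h.toImage = h.toImage.isoOpensRange.hom ≫ U.ι := by simp [U]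
    have hUι : IsSchemeTheoreticallyDominant U.ι := by
      constructor
      rw [← Scheme.Hom.ker_comp_of_isIso h.toImage.isoOpensRange.hom U.ι, ← e]
      exact hdom.1
    have hUqc : QuasiCompact U.ι := by
      have h2 : U.ι = h.toImage.isoOpensRange.inv ≫ h.toImage := by simp [U]
      rw [h2]; infer_instance
    exact IsSchemeTheoreticallyDominant.of_isPullback (isPullback_opens_inf U W)
  · have hI : IsOpenImmersion h.toImage := K586.Reduced.isOpenImmersion_of_ker_eq_bot _ hdom.1
    have hred' := K586.Reduced.isReduced_of_ker_eq_bot h.toImage hdom.1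
    have hd := K586.Reduced.isDominant_of_ker_eq_bot h.toImage hdom.1
    refine ⟨hI, fun W => ?_, hd.1⟩
    exact K586.Reduced.ker_homOfLE_inf_eq_bot _ W hd.1

end Groth.Agent.S9385
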