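import Groth.Statements.S9392
import Groth.Agent.CalgA.NagataExt
-- import your own Groth.Agent.* helpers here

set_option autoImplicit false
universe u
open CAlg

namespace Groth.Agent.S9392

/-- A localization of an N-2 (Japanese) domain which is again a domain is N-2. -/
theorem result (R : Type u) [CommRing R] [IsDomain R] (M : Submonoid R)
    (S : Type u) [CommRing S] [IsDomain S] [Algebra R S] [IsLocalization M S]
    (h : CAlg.IsN2 R) : CAlg.IsN2 S := by
  have hM : M ≤ nonZeroDivisors R := by
    intro m hm
    rw [mem_nonZeroDivisors_iff_ne_zero]
    rintro rfl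
    have h1 : IsUnit (algebraMap R S (0 : R)) := IsLocalization.map_units S ⟨0, hm⟩
    rw [map_zero, isUnit_zero_iff] at h1
    exact zero_ne_one h1
  exact Groth.Agent.CalgA.NagataExt.isN2_of_isLocalization M hM h

end Groth.Agent.S9392
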