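import Groth.Statements.S9395
import Groth.Agent.S2072
import Groth.Agent.CAlg.K72.NagLocal
import Mathlib.Algebra.Polynomial.Laurent
-- import your own Groth.Agent.* helpers here

set_option autoImplicit false
universe u
open CAlg

namespace Groth.Agent.S9395

/-- For a Noetherian domain R, if the Laurent polynomial ring R[X, 1/X] (the localization of R[X] away
from X) is N-1, then R is N-1. -/
theorem result (R : Type u) [CommRing R] [IsDomain R] [IsNoetherianRing R]
    (S : Type u) [CommRing S] [IsDomain S] [Algebra (Polynomial R) S]
    [IsLocalization.Away (Polynomial.X : Polynomial R) S] (h : CAlg.IsN1 S) : CAlg.IsN1 R := by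
  have hSN : IsNoetherianRing S := IsLocalization.isNoetherianRing (Submonoid.powers (Polynomial.X : Polynomial R)) S
    inferInstance
  letI : Algebra R S := ((algebraMap (Polynomial R) S).comp (algebraMap R (Polynomial R))).toAlgebra
  have htow : IsScalarTower R (Polynomial R) S := IsScalarTower.of_algebraMap_eq fun r => rfl
  have hff : Module.FaithfullyFlat R S := by
    have htow' : IsScalarTower R (Polynomial R) (LaurentPolynomial R) :=
      IsScalarTower.of_algebraMap_eq fun r => (Polynomial.toLaurent_C r).symm
    let e : S ≃ₐ[Polynomial R] LaurentPolynomial R :=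
      IsLocalization.algEquiv (Submonoid.powers (Polynomial.X : Polynomial R)) S (LaurentPolynomial R)
    exact Module.FaithfullyFlat.of_linearEquiv R (LaurentPolynomial R) (e.restrictScalars R).toLinearEquiv
  refine Groth.Agent.S2072.isN1_of_faithfullyFlat R S fun P _ hP => ?_
  have hP0 : P = ⊥ := by
    rw [IsDomain.minimalPrimes_eq_singleton_bot] at hP
    exact hP
  subst hP0
  exact K72.NagLocal.isN1_of_ringEquiv (RingEquiv.quotientBot S).symm h

end Groth.Agent.S9395
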