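import Groth.Statements.S9396
import Groth.Agent.S0568
-- import your own Groth.Agent.* helpers here

set_option autoImplicit false
universe u
open CAlg

namespace Groth.Agent.S9396

/-- If R is a Noetherian N-2 (Japanese) domain, then the power series ring R[[X]] is an N-2 domain. (R
is not assumed integrally closed.) -/
theorem result (R : Type u) [CommRing R] [IsDomain R] [IsNoetherianRing R]
    (h : CAlg.IsN2 R) : CAlg.IsN2 (PowerSeries R) := by
  let K := FractionRing R
  let R' := integralClosure R K
  have hN1 : CAlg.IsN1 R := Groth.Agent.CalgA.NagataBasic.isN1_of_isN2 h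
  have hfin : Module.Finite R R' := hN1
  have hic : IsIntegrallyClosed R' := integralClosure.isIntegrallyClosedOfFiniteExtension K
  have hnoeth : IsNoetherianRing R' := IsNoetherianRing.of_finite R R'
  have hinj : Function.Injective (algebraMap R R') := FaithfulSMul.algebraMap_injective R R'
  have hN2 : CAlg.IsN2 R' := Groth.Agent.CalgA.NagataExt.isN2_of_isN2_of_finite (R := R) h
  have hN2' : CAlg.IsN2 (PowerSeries R') := Groth.Agent.S0568.isN2_powerSeries R' hN2
  letI : Algebra (PowerSeries R) (PowerSeries R') := (PowerSeries.map (algebraMap R R')).toAlgebra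
  have hmap : ∀ f : PowerSeries R, algebraMap (PowerSeries R) (PowerSeries R') f =
    PowerSeries.map (algebraMap R R') f := fun _ => rfl
  have hfaith : FaithfulSMul (PowerSeries R) (PowerSeries R') := by
    rw [faithfulSMul_iff_algebraMap_injective]
    intro f g hfg
    rw [hmap, hmap] at hfg
    ext n
    have h1 := congrArg (PowerSeries.coeff n) hfg
    rw [PowerSeries.coeff_map, PowerSeries.coeff_map] at h1
    exact hinj h1
  -- finite generation, coefficientwise
  have hfin' : Module.Finite (PowerSeries R) (PowerSeries R') := by
    obtain ⟨n, e, he⟩ := Module.Finite.exists_fin (R := R) (M := R')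
    have hsurj : ∀ x : R', ∃ c : Fin n → R, ∑ i, c i • e i = x := by
      intro x
      have hx : x ∈ Submodule.span R (Set.range e) := he ▸ Submodule.mem_top
      exact (Submodule.mem_span_range_iff_exists_fun R).mp hx
    refine ⟨(Submodule.fg_def).mpr ⟨Set.range (fun i => PowerSeries.C (e i)), Set.finite_range _, ?_⟩⟩
    rw [eq_top_iff]
    intro f _
    rw [Submodule.mem_span_range_iff_exists_fun]
    choose c hc using hsurj
    refine ⟨fun i => PowerSeries.mk fun m => c (PowerSeries.coeff m f) i, ?_⟩
    ext m
    rw [map_sum]
    have h1 : ∀ i, PowerSeries.coeff m ((PowerSeries.mk fun m => c (PowerSeries.coeff m f) i) •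
        (PowerSeries.C (e i) : PowerSeries R')) = c (PowerSeries.coeff m f) i • e i := by
      intro i
      rw [Algebra.smul_def, hmap, PowerSeries.coeff_mul_C, PowerSeries.coeff_map, PowerSeries.coeff_mk,
        Algebra.smul_def]
    rw [Finset.sum_congr rfl fun i _ => h1 i, hc]
  exact Groth.Agent.CalgA.NagataExt.isN2_of_finite_extension hN2'

end Groth.Agent.S9396
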