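import Groth.Statements.S9397
import Groth.Agent.CalgA.NagataExt
-- import your own Groth.Agent.* helpers here

set_option autoImplicit false
universe u
open CAlg

namespace Groth.Agent.S9397

/-- A ring R is universally Japanese provided that each R-algebra of finite type which is a domain is
N-1. -/
theorem result (R : Type u) [CommRing R]
    (h : ∀ (S : Type u) [CommRing S] [IsDomain S] [Algebra R S], Algebra.FiniteType R S → CAlg.IsN1 S) :
    CAlg.IsUniversallyJapanese R := by
  intro S _ _ _ hft L _ _ _ _ hfd
  let K := FractionRing S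
  have hKL : Algebra.IsAlgebraic K L := Algebra.IsAlgebraic.of_finite K L
  have hSL : Algebra.IsAlgebraic S L := (IsFractionRing.comap_isAlgebraic_iff (K := K)).mpr inferInstance
  have hinj : Function.Injective (algebraMap S L) := by
    rw [IsScalarTower.algebraMap_eq S K L]
    exact (algebraMap K L).injective.comp (IsFractionRing.injective S K)
  -- a finite `S`-subalgebra `S'` of `L` with fraction field `L`
  obtain ⟨t, ht⟩ : ∃ t : Finset L, Submodule.span K (t : Set L) = ⊤ := hfd.fg_top
  obtain ⟨d, hd0, hd⟩ := Algebra.IsAlgebraic.exists_integral_multiples S t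
  let S' : Subalgebra S L := Algebra.adjoin S ((fun x => d • x) '' (t : Set L))
  have hfinS' : Module.Finite S S' := by
    have := fg_adjoin_of_finite (R := S) (s := (fun x : L => d • x) '' (t : Set L))
      (t.finite_toSet.image _) (by rintro _ ⟨x, hx, rfl⟩; exact hd x hx)
    exact ⟨(Submodule.fg_top _).mpr this⟩
  have hmul : ∀ y : L, ∃ s : S, s ≠ 0 ∧ s • y ∈ S' := by
    intro y
    have hy : y ∈ Submodule.span K (t : Set L) := ht ▸ Submodule.mem_top
    induction hy using Submodule.span_induction with
    | mem x hx => exact ⟨d, hd0, Algebra.subset_adjoin ⟨x, hx, rfl⟩⟩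
    | zero => exact ⟨1, one_ne_zero, by rw [smul_zero]; exact S'.zero_mem⟩
    | add x y _ _ hx hy =>
      obtain ⟨a, ha, hax⟩ := hx
      obtain ⟨b, hb, hby⟩ := hy
      refine ⟨a * b, mul_ne_zero ha hb, ?_⟩
      rw [smul_add, mul_comm a b, mul_smul, mul_comm b a, mul_smul a b y]
      exact S'.add_mem (S'.smul_mem hax b) (S'.smul_mem hby a)
    | smul c x _ hx =>
      obtain ⟨a, ha, hax⟩ := hx
      obtain ⟨p, q, hq, hpq⟩ := IsFractionRing.div_surjective (A := S) c
      have hq0 : q ≠ 0 := nonZeroDivisors.ne_zero hq
      refine ⟨q * a, mul_ne_zero hq0 ha, ?_⟩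
      have h1 : (q * a) • (c • x) = p • (a • x) := by
        rw [← algebraMap_smul K (q * a), ← algebraMap_smul K p, ← algebraMap_smul K a, ← mul_smul,
          ← mul_smul, ← hpq, map_mul]
        congr 1
        have h2 : algebraMap S K q ≠ 0 := by
          rw [Ne, IsFractionRing.to_map_eq_zero_iff]; exact hq0
        rw [mul_div_assoc', div_eq_iff h2]
        ring
      rw [h1]
      exact S'.smul_mem hax p
  have hfrac : IsFractionRing S' L := by
    refine IsFractionRing.of_field S' L fun z => ?_
    obtain ⟨s, hs, hsz⟩ := hmul z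
    refine ⟨⟨s • z, hsz⟩, algebraMap S S' s, ?_⟩
    have h3 : algebraMap S L s ≠ 0 := by
      rw [Ne, map_eq_zero_iff _ hinj]; exact hs
    change z = (s • z) / algebraMap S L s
    rw [Algebra.smul_def]
    field_simp
  -- `S'` is of finite type over `R`
  letI : Algebra R S' := ((algebraMap S S').comp (algebraMap R S)).toAlgebra
  have htow : IsScalarTower R S S' := IsScalarTower.of_algebraMap_eq fun r => rfl
  have hft' : Algebra.FiniteType R S' := Algebra.FiniteType.trans hft inferInstance
  have hN1 : CAlg.IsN1 S' := h S' hft'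
  rw [Groth.Agent.CalgA.NagataBasic.isN1_iff L] at hN1
  exact Groth.Agent.CalgA.NagataBasic.finite_ic_of_tower (R' := S') hN1

end Groth.Agent.S9397
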