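import Groth.Statements.S9398
import Groth.Agent.CalgA.NagataExt
-- import your own Groth.Agent.* helpers here

set_option autoImplicit false
universe u
open CAlg

namespace Groth.Agent.S9398

/-- An algebra essentially of finite type over a universally Japanese ring is universally Japanese. -/
theorem result (R : Type u) [CommRing R]
    (hR : CAlg.IsUniversallyJapanese R) (T : Type u) [CommRing T] [Algebra R T]
    [Algebra.EssFiniteType R T] : CAlg.IsUniversallyJapanese T := by
  intro S _ _ _ hft
  letI : Algebra R S := ((algebraMap T S).comp (algebraMap R T)).toAlgebra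
  have htow : IsScalarTower R T S := IsScalarTower.of_algebraMap_eq fun r => rfl
  have hess : Algebra.EssFiniteType R S := Algebra.EssFiniteType.comp R T S
  have hN2 : CAlg.IsN2 (Algebra.EssFiniteType.subalgebra R S) := hR _ inferInstance
  refine Groth.Agent.CalgA.NagataExt.isN2_of_isLocalization
    (Algebra.EssFiniteType.submonoid R S) ?_ hN2
  intro x hx
  rw [mem_nonZeroDivisors_iff_ne_zero]
  rintro rfl
  have h1 : IsUnit (algebraMap (Algebra.EssFiniteType.subalgebra R S) S 0) := hx
  rw [map_zero, isUnit_zero_iff] at h1
  exact zero_ne_one h1

end Groth.Agent.S9398
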