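import Groth.Statements.S9399
import Groth.Agent.CalgA.NagataExt
import Mathlib.RingTheory.Localization.Away.AdjoinRoot
-- import your own Groth.Agent.* helpers here

set_option autoImplicit false
universe u
open CAlg

namespace Groth.Agent.S9399

/-- Being universally Japanese can be checked on a finite cover of Spec R by principal opens. -/
theorem result (R : Type u) [CommRing R]
    {ι : Type u} [Finite ι] (f : ι → R) (hf : Ideal.span (Set.range f) = ⊤)
    (h : ∀ i, CAlg.IsUniversallyJapanese (Localization.Away (f i))) :
    CAlg.IsUniversallyJapanese R := by
  intro S _ _ _ hft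
  refine Groth.Agent.CalgA.NagataExt.isN2_of_span_eq_top (Set.range (fun i => algebraMap R S (f i))) ?_ ?_
  · have h1 : Set.range (fun i => algebraMap R S (f i)) = (algebraMap R S) '' (Set.range f) := by
      rw [← Set.range_comp]; rfl
    rw [h1, ← Ideal.map_span, hf, Ideal.map_top]
  · rintro _ ⟨i, rfl⟩ _ T _ _ _ _
    letI : Algebra R T := ((algebraMap S T).comp (algebraMap R S)).toAlgebra
    have htow : IsScalarTower R S T := IsScalarTower.of_algebraMap_eq fun r => rfl
    have hu : IsUnit (algebraMap R T (f i)) := by
      rw [IsScalarTower.algebraMap_apply R S T]
      exact IsLocalization.Away.algebraMap_isUnit (algebraMap R S (f i))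
    letI : Algebra (Localization.Away (f i)) T := (IsLocalization.Away.lift (f i) hu).toAlgebra
    have htow' : IsScalarTower R (Localization.Away (f i)) T :=
      IsScalarTower.of_algebraMap_eq fun r => (IsLocalization.Away.lift_eq (f i) hu r).symm
    have hT : Algebra.FiniteType S T := by
      have h1 : Algebra.FinitePresentation S T := IsLocalization.Away.finitePresentation (algebraMap R S (f i))
      infer_instance
    have hT' : Algebra.FiniteType R T := Algebra.FiniteType.trans hft hT
    exact h i T (Algebra.FiniteType.of_restrictScalars_finiteType R (Localization.Away (f i)) T)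

end Groth.Agent.S9399
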