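import Groth.Statements.S9400
import Groth.Agent.S0567
import Groth.Agent.S9399
import Mathlib.AlgebraicGeometry.Noetherian
-- import your own Groth.Agent.* helpers here

set_option autoImplicit false
universe u
open CAlg

namespace Groth.Agent.S9400

/-- Being a Nagata ring can be checked on a finite cover of Spec R by principal opens. -/
theorem result (R : Type u) [CommRing R]
    {ι : Type u} [Finite ι] (f : ι → R) (hf : Ideal.span (Set.range f) = ⊤)
    (h : ∀ i, CAlg.IsNagata (Localization.Away (f i))) : CAlg.IsNagata R := by
  refine (Groth.Agent.S0567.result R).mpr ⟨?_, ?_⟩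
  · cases nonempty_fintype ι
    classical
    refine AlgebraicGeometry.isNoetherianRing_of_away (Finset.univ.image f) ?_ ?_
    · rw [Finset.coe_image, Finset.coe_univ, Set.image_univ, hf]
    · rintro ⟨g, hg⟩
      rw [Finset.mem_image] at hg
      obtain ⟨i, -, rfl⟩ := hg
      exact (h i).1
  · exact Groth.Agent.S9399.result R f hf (fun i => ((Groth.Agent.S0567.result _).mp (h i)).2)

end Groth.Agent.S9400
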