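import Groth.Statements.S9401
import Groth.Agent.S0567
import Groth.Agent.S0566
import Groth.Agent.S9397
import Groth.Agent.S2072
import Groth.Agent.S2492
import Groth.Agent.CalgB.SmoothReduced
import Groth.Agent.CalgA.NagataBasic
import Groth.Agent.Ega4B.NagBasic
-- import your own Groth.Agent.* helpers here

set_option autoImplicit false
universe u
open CAlg

namespace Groth.Agent.S9401

/-- The Nagata property descends along smooth ring maps that are surjective on spectra. -/
theorem result (R : Type u) [CommRing R] (S : Type u)
    [CommRing S] [Algebra R S] [Algebra.Smooth R S]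
    (hs : Function.Surjective (PrimeSpectrum.comap (algebraMap R S))) (hS : CAlg.IsNagata S) :
    CAlg.IsNagata R := by
  have hff : Module.FaithfullyFlat R S := Module.FaithfullyFlat.of_comap_surjective hs
  have hSN : IsNoetherianRing S := hS.1
  refine (Groth.Agent.S0567.result R).mpr ⟨?_, ?_⟩
  · exact Groth.Agent.S2492.isNoetherianRing_of_faithfullyFlat (algebraMap R S)
      ((RingHom.faithfullyFlat_algebraMap_iff).mpr hff)
  · refine Groth.Agent.S9397.result R fun T _ _ _ hft => ?_
    -- `T ⊗ S` is smooth over `T`, faithfully flat, and of finite type over the Nagata ring `S`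
    have hN : CAlg.IsNagata (TensorProduct R S T) := Groth.Agent.S0566.result S hS _
    have hN' : CAlg.IsNagata (TensorProduct R T S) := 
      Groth.Agent.Ega4B.NagBasic.isNagata_of_ringEquiv (Algebra.TensorProduct.comm R S T).toRingEquiv hN
    have hNo : IsNoetherianRing (TensorProduct R T S) := hN'.1
    have hred : IsReduced (TensorProduct R T S) :=
      Groth.Agent.CalgB.SmoothReduced.isReduced_of_smooth T _
    exact Groth.Agent.S2072.isN1_of_faithfullyFlat T (TensorProduct R T S) fun P _ _ =>
      Groth.Agent.CalgA.NagataBasic.isN1_of_isN2 (hN'.2 P)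

end Groth.Agent.S9401
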