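import Groth.Statements.S9402
-- import your own Groth.Agent.* helpers here

set_option autoImplicit false
universe u
open CAlg

namespace Groth.Agent.S9402

/-- Let R → S be a ring map with S a nonzero algebra over the rationals and f ∈ S such that some
S-linear form on the module of differentials of S over R sends df to 1 (that is, df spans a free
direct summand of rank one). Then f is not nilpotent. (The published statement asks only that S·df
be a direct summand of the module of differentials, which also holds for the rationals with a
square-zero element adjoined and for the zero ring, where f is nilpotent; this row asks for an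
S-linear form on the differentials sending df to 1, as the published proof uses, and S nonzero.) -/
theorem result (R : Type u) [CommRing R] (S : Type u)
    [CommRing S] [Nontrivial S] [Algebra R S] [Algebra ℚ S] (f : S)
    (θ : Ω[S⁄R] →ₗ[S] S) (hθ : θ (KaehlerDifferential.D R S f) = 1) : ¬ IsNilpotent f := by
  rintro ⟨n, hn⟩
  let δ : Derivation R S S := θ.compDer (KaehlerDifferential.D R S)
  have hδ : δ f = 1 := hθ
  have key : ∀ n : ℕ, f ^ n = 0 → f ^ 0 = 0 := by
    intro n
    induction n with
    | zero => exact id
    | succ n ih =>
      intro h
      apply ih
      have h1 : δ (f ^ (n + 1)) = 0 := by rw [h, map_zero]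
      rw [Derivation.leibniz_pow, hδ, Nat.add_sub_cancel, smul_eq_mul, mul_one, nsmul_eq_mul] at h1
      have h2 : IsUnit ((n + 1 : ℕ) : S) := by
        have : ((n + 1 : ℕ) : S) = algebraMap ℚ S ((n + 1 : ℕ) : ℚ) := by simp
        rw [this]
        apply RingHom.isUnit_map
        rw [isUnit_iff_ne_zero]
        exact_mod_cast Nat.succ_ne_zero n
      exact (h2.mul_right_eq_zero).mp h1
  exact one_ne_zero ((pow_zero f).symm.trans (key n hn))

end Groth.Agent.S9402
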