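import Groth.Statements.S9403
-- import your own Groth.Agent.* helpers here

set_option autoImplicit false
universe u
open CAlg

namespace Groth.Agent.S9403

/-- Let R → S be a ring map with S a Noetherian local ring which is an algebra over the rationals, and f
∈ S such that some S-linear form on the module of differentials of S over R sends df to 1 (df spans
a free direct summand of rank one). Then f is a nonzerodivisor of S. (The published statement asks
only that S·df be a direct summand of the module of differentials, which also holds for the
rationals with a square-zero element adjoined, where f is a zero divisor; this row asks for an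
S-linear form on the differentials sending df to 1, as the published proof uses.) -/
theorem result (R : Type u) [CommRing R]
    (S : Type u) [CommRing S] [IsLocalRing S] [IsNoetherianRing S] [Algebra R S] [Algebra ℚ S]
    (f : S) (θ : Ω[S⁄R] →ₗ[S] S) (hθ : θ (KaehlerDifferential.D R S f) = 1) : f ∈ nonZeroDivisors S := by
  let δ : Derivation R S S := θ.compDer (KaehlerDifferential.D R S)
  have hδ : δ f = 1 := hθ
  -- the increasing sequence of annihilators of the powers of `f` is stationary
  let a : ℕ →o Ideal S :=
    ⟨fun n => LinearMap.ker (LinearMap.mulLeft S (f ^ n)), by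
      intro m n hmn x hx
      rw [LinearMap.mem_ker, LinearMap.mulLeft_apply] at hx ⊢
      obtain ⟨k, rfl⟩ := Nat.exists_eq_add_of_le hmn
      rw [pow_add, mul_right_comm, hx, zero_mul]⟩
  obtain ⟨N, hN⟩ := (monotone_stabilizes_iff_noetherian (R := S) (M := S)).mpr inferInstance a
  have hstab : ∀ n : ℕ, N ≤ n → ∀ x : S, f ^ n * x = 0 → f ^ N * x = 0 := by
    intro n hn x hx
    have h1 : x ∈ a n := hx
    rw [← hN n hn] at h1
    exact h1
  -- the annihilator of `f ^ N` is trivial
  have key : ∀ n : ℕ, n ≤ N → ∀ x : S, f ^ N * x = 0 → f ^ (N - n) * x = 0 := by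
    intro n
    induction n with
    | zero => intro _ x hx; simpa using hx
    | succ n ih =>
      intro hn
      -- `0 : f ^ (N - n)` equals `0 : f ^ N`; differentiate
      intro x hx
      obtain ⟨m, hm⟩ : ∃ m, N - n = m + 1 := ⟨N - n - 1, by omega⟩
      have hm' : N - (n + 1) = m := by omega
      rw [hm']
      have h1 : f ^ (m + 1) * x = 0 := by rw [← hm]; exact ih (by omega) x hx
      have h2 : δ (f ^ (m + 1) * x) = 0 := by rw [h1, map_zero]
      rw [Derivation.leibniz, Derivation.leibniz_pow, hδ, Nat.add_sub_cancel] at h2
      simp only [smul_eq_mul, mul_one, nsmul_eq_mul] at h2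
      -- `f ^ (m + 2) * δ x = 0`
      have h3 : f ^ (m + 1 + 1) * δ x = 0 := by
        have h4 : f * (f ^ (m + 1) * δ x + x * (((m + 1 : ℕ) : S) * f ^ m)) = 0 := by rw [h2, mul_zero]
        have h5 : f * (x * (((m + 1 : ℕ) : S) * f ^ m)) = ((m + 1 : ℕ) : S) * (f ^ (m + 1) * x) := by ring
        rw [mul_add, h5, h1, mul_zero, add_zero] at h4
        rw [← h4]; ring
      have h6 : f ^ (m + 1) * δ x = 0 := by
        rw [← hm]
        apply ih (by omega)
        apply hstab (N + (m + 1 + 1)) (by omega)
        rw [pow_add, mul_assoc, h3, mul_zero]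
      rw [h6, zero_add] at h2
      have h7 : IsUnit ((m + 1 : ℕ) : S) := by
        have : ((m + 1 : ℕ) : S) = algebraMap ℚ S ((m + 1 : ℕ) : ℚ) := by simp
        rw [this]
        apply RingHom.isUnit_map
        rw [isUnit_iff_ne_zero]
        exact_mod_cast Nat.succ_ne_zero m
      apply (h7.mul_right_eq_zero).mp
      rw [← h2]; ring
  rw [mem_nonZeroDivisors_iff_right]
  intro x hx
  have h1 := hstab (N + 1) (by omega) x (by rw [pow_succ, mul_assoc, mul_comm f x, hx, mul_zero])
  have h2 := key N le_rfl x h1
  simpa using h2

end Groth.Agent.S9403
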