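import Groth.Statements.S9404
import Groth.Agent.CalgC.TensorLocalPI
-- import your own Groth.Agent.* helpers here

set_option autoImplicit false
universe u
open CAlg

namespace Groth.Agent.S9404

open TensorProduct in
/-- For local homomorphisms of local rings A → B and A → C with A → C integral, if the residue field of
C or that of B is purely inseparable over the residue field of A, then B ⊗_A C is local and both
structure maps into it are local. -/
theorem result (A : Type u) [CommRing A]
    [IsLocalRing A] (B : Type u) [CommRing B] [IsLocalRing B] [Algebra A B]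
    [IsLocalHom (algebraMap A B)] (C : Type u) [CommRing C] [IsLocalRing C] [Algebra A C]
    [IsLocalHom (algebraMap A C)] [Algebra.IsIntegral A C]
    (h : IsPurelyInseparable (IsLocalRing.ResidueField A) (IsLocalRing.ResidueField C) ∨
      IsPurelyInseparable (IsLocalRing.ResidueField A) (IsLocalRing.ResidueField B)) :
    IsLocalRing (B ⊗[A] C) ∧
      IsLocalHom (Algebra.TensorProduct.includeLeft : B →ₐ[A] B ⊗[A] C).toRingHom ∧
      IsLocalHom (Algebra.TensorProduct.includeRight : C →ₐ[A] B ⊗[A] C).toRingHom := by
  have h1 : IsLocalRing (C ⊗[A] B) := Groth.Agent.CalgC.TensorLocalPI.isLocalRing h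
  have hloc : IsLocalRing (B ⊗[A] C) :=
    (Algebra.TensorProduct.comm A C B).toRingEquiv.isLocalRing
  let M : Ideal (B ⊗[A] C) := IsLocalRing.maximalIdeal (B ⊗[A] C)
  have hMB : M.comap (algebraMap B (B ⊗[A] C)) = IsLocalRing.maximalIdeal B :=
    IsLocalRing.eq_maximalIdeal (Ideal.isMaximal_comap_of_isIntegral_of_isMaximal M)
  have hMA : M.comap (algebraMap A (B ⊗[A] C)) = IsLocalRing.maximalIdeal A := by
    rw [IsScalarTower.algebraMap_eq A B (B ⊗[A] C), ← Ideal.comap_comap, hMB]
    exact IsLocalRing.maximalIdeal_comap _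
  have hMC : M.comap (Algebra.TensorProduct.includeRight : C →ₐ[A] B ⊗[A] C).toRingHom =
      IsLocalRing.maximalIdeal C := by
    apply IsLocalRing.eq_maximalIdeal
    have : (M.comap (Algebra.TensorProduct.includeRight : C →ₐ[A] B ⊗[A] C).toRingHom).IsPrime :=
      Ideal.comap_isPrime _ _
    apply Ideal.isMaximal_of_isIntegral_of_isMaximal_comap (R := A)
    rw [Ideal.comap_comap, AlgHom.toRingHom_eq_coe, AlgHom.comp_algebraMap, hMA]
    infer_instance
  refine ⟨hloc, ?_, ?_⟩
  · exact ((IsLocalRing.local_hom_TFAE _).out 0 4).mpr hMB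
  · exact ((IsLocalRing.local_hom_TFAE _).out 0 4).mpr hMC

end Groth.Agent.S9404
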