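import Groth.Statements.S9405
import Groth.Agent.CAlg.K73.PiLocal
import Groth.Agent.S0499
import Groth.Agent.Ega3B.IdemLift
import Groth.Agent.Ega4B.CplFinite
import Mathlib.RingTheory.Henselian
import Mathlib.RingTheory.LocalRing.Quotient
-- import your own Groth.Agent.* helpers here

set_option autoImplicit false
universe u
open CAlg

namespace Groth.Agent.S9405

theorem complete_of_finite_local (R : Type u) [CommRing R]
    [IsLocalRing R] [IsNoetherianRing R] [IsAdicComplete (IsLocalRing.maximalIdeal R) R]
    (L : Type u) [CommRing L] [IsLocalRing L] [Algebra R L] [Module.Finite R L] :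
    IsAdicComplete (IsLocalRing.maximalIdeal L) L := by
  have h1 : IsAdicComplete ((IsLocalRing.maximalIdeal R).map (algebraMap R L)) L :=
    Groth.Agent.Ega3B.IdemLift.isAdicComplete_map R L _
  have hle : (IsLocalRing.maximalIdeal R).map (algebraMap R L) ≤ IsLocalRing.maximalIdeal L := by
    rw [Ideal.map_le_iff_le_comap]
    have : ((IsLocalRing.maximalIdeal L).comap (algebraMap R L)).IsMaximal :=
      Ideal.isMaximal_comap_of_isIntegral_of_isMaximal _
    rw [IsLocalRing.eq_maximalIdeal this]
  have hart : IsArtinianRing (L ⧸ (IsLocalRing.maximalIdeal R).map (algebraMap R L)) := by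
    let _ : Field (R ⧸ IsLocalRing.maximalIdeal R) := Ideal.Quotient.field _
    have : Module.Finite (R ⧸ IsLocalRing.maximalIdeal R)
        (L ⧸ (IsLocalRing.maximalIdeal R).map (algebraMap R L)) :=
      Module.Finite.of_restrictScalars_finite R _ _
    exact IsArtinianRing.of_finite (R ⧸ IsLocalRing.maximalIdeal R) _
  obtain ⟨k, hk⟩ := IsLocalRing.exists_maximalIdeal_pow_le_of_isArtinianRing_quotient
    ((IsLocalRing.maximalIdeal R).map (algebraMap R L))
  exact Groth.Agent.Ega4B.CplFinite.isAdicComplete_of_pow_le hle hk


/-- A module-finite algebra S over a complete Noetherian local ring R is a finite product of complete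
Noetherian local rings; precisely, S has finitely many maximal ideals, S maps bijectively onto the
product of its localizations at them, and each of these localizations is Noetherian and complete for
its maximal ideal. -/
theorem result (R : Type u) [CommRing R]
    [IsLocalRing R] [IsNoetherianRing R] [IsAdicComplete (IsLocalRing.maximalIdeal R) R]
    (S : Type u) [CommRing S] [Algebra R S] [Module.Finite R S] :
    Finite (MaximalSpectrum S) ∧
      Function.Bijective
        (algebraMap S ((m : MaximalSpectrum S) → Localization.AtPrime m.asIdeal)) ∧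
      ∀ m : MaximalSpectrum S, IsNoetherianRing (Localization.AtPrime m.asIdeal) ∧
        IsAdicComplete (IsLocalRing.maximalIdeal (Localization.AtPrime m.asIdeal))
          (Localization.AtPrime m.asIdeal) := by
  have hens : HenselianLocalRing R :=
    { is_henselian := fun f hf a₀ h₁ h₂ =>
        HenselianRing.is_henselian (I := IsLocalRing.maximalIdeal R) f hf a₀ h₁
          (h₂.map (Ideal.Quotient.mk _)) }
  obtain ⟨ι, _, A, _, hloc, ⟨e⟩⟩ := Groth.Agent.S0499.result R S
  have hbij := K73.PiLocal.bijective e
  have hfin := K73.PiLocal.finite_maximalSpectrum e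
  have hS : IsNoetherianRing S := IsNoetherianRing.of_finite R S
  refine ⟨hfin, hbij, fun m => ⟨IsLocalization.isNoetherianRing m.asIdeal.primeCompl _ inferInstance, ?_⟩⟩
  have hsurj : Function.Surjective (algebraMap S (Localization.AtPrime m.asIdeal)) := by
    classical
    intro z
    obtain ⟨s, hs⟩ := hbij.2 (Pi.single m z)
    refine ⟨s, ?_⟩
    have := congrFun hs m
    rwa [Pi.single_eq_same] at this
  have : Module.Finite R (Localization.AtPrime m.asIdeal) :=
    Module.Finite.of_surjective (IsScalarTower.toAlgHom R S (Localization.AtPrime m.asIdeal)).toLinearMap hsurj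
  exact complete_of_finite_local R (Localization.AtPrime m.asIdeal)

end Groth.Agent.S9405
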