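import Groth.Statements.S9411
import Groth.Agent.EGA4.K114.GeomNormTensor
import Groth.Agent.Sga2lef.H526.FieldWE
import Groth.Agent.Ega41.RedTensor

set_option autoImplicit false
universe u
open EGA4 TensorProduct

namespace Groth.Agent.S9411

/-- Let k'/k be a separable algebraic field extension and A a k'-algebra. Geometric normality of A over
k' is equivalent to geometric normality of A over k. -/
theorem result (k : Type u) [Field k] (k' : Type u) [Field k']
    [Algebra k k'] [Algebra.IsSeparable k k'] (A : Type u) [CommRing A] [Algebra k' A]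
    [Algebra k A] [IsScalarTower k k' A] :
    EGA4.IsGeomNormal k A ↔ EGA4.IsGeomNormal k' A := by
  have hsepk : Algebra.IsGeometricallyReduced k k' := by
    rw [Algebra.isGeometricallyReduced_field_iff]
    exact Ega41.RedTensor.isReduced_tensor_of_isSeparable k _ k'
  have hwe : Algebra.WeaklyEtale k k' := Sga2lef.H526.FieldWE.weaklyEtale_of_isSeparable k k'
  constructor
  · intro h K' _ _ hfin
    let _ : Algebra k K' := ((algebraMap k' K').comp (algebraMap k k')).toAlgebra
    have : IsScalarTower k k' K' := IsScalarTower.of_algebraMap_eq' rfl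
    have h1 : IsNormalRing (K' ⊗[k] A) := Ega4C.NormGeom.isNormalRing_tensor_of_isGeomNormal k A h K'
    have h2 : (Algebra.TensorProduct.mapOfCompatibleSMul k' k K' K' A).Flat :=
      RingHom.Flat.mapOfCompatibleSMul K' A (Algebra.WeaklyEtale.flat_lmul' k k')
    have h3 : Function.Surjective (Algebra.TensorProduct.mapOfCompatibleSMul k' k K' K' A) := by
      intro x
      obtain ⟨y, hy⟩ := TensorProduct.mapOfCompatibleSMul_surjective k' k k K' A x
      exact ⟨y, hy⟩
    exact Ega4C.NormUnion.isNormalRing_of_finset_flat _ fun t =>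
      ⟨K' ⊗[k] A, inferInstance, (Algebra.TensorProduct.mapOfCompatibleSMul k' k K' K' A).toRingHom,
        h1, fun x _ => h3 x, h2⟩
  · intro h K _ _ hfin
    have h1 : IsNormalRing K := Ega4C.NormalRing2.isNormalRing_of_isDomain K
    have h2 : IsNormalRing (k' ⊗[k] K) :=
      Ega4C.NormSep.isNormalRing_tensor_of_isGeometricallyReduced k k' K h1
    have h3 : IsNormalRing (A ⊗[k'] (k' ⊗[k] K)) := K114.GeomNormTensor.isNormalRing_tensor k' A _ h h2
    have e : A ⊗[k'] (k' ⊗[k] K) ≃+* K ⊗[k] A :=
      (Algebra.TensorProduct.cancelBaseChange k k' k' A K).toRingEquiv.trans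
        (Algebra.TensorProduct.comm k A K).toRingEquiv
    exact Ega4C.NormUnion.isNormalRing_of_ringEquiv e.symm h3

end Groth.Agent.S9411
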