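import Groth.Statements.S9412
import Groth.Agent.Ega4C.NormUnion
import Mathlib.RingTheory.Localization.BaseChange

set_option autoImplicit false
universe u
open EGA4

namespace Groth.Agent.S9412

/-- A localization of a geometrically normal algebra over a field k is geometrically normal over k. -/
theorem result (k : Type u) [Field k] (A : Type u) [CommRing A]
    [Algebra k A] (M : Submonoid A) (B : Type u) [CommRing B] [Algebra A B] [IsLocalization M B]
    [Algebra k B] [IsScalarTower k A B] (h : EGA4.IsGeomNormal k A) :
    EGA4.IsGeomNormal k B := by
  intro k' _ _ hfin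
  have h1 : EGA4.IsNormalRing (TensorProduct k k' A) := h k' hfin
  -- `k' ⊗ B = (k' ⊗ A) ⊗_A B`
  let e : TensorProduct A (TensorProduct k A k') B ≃+* TensorProduct k k' B :=
    (Algebra.TensorProduct.comm A (TensorProduct k A k') B).toRingEquiv.trans
      ((Algebra.TensorProduct.cancelBaseChange k A A B k').toRingEquiv.trans
        (Algebra.TensorProduct.comm k B k').toRingEquiv)
  have h2 : EGA4.IsNormalRing (TensorProduct k A k') :=
    Ega4C.NormUnion.isNormalRing_of_ringEquiv (Algebra.TensorProduct.comm k A k').toRingEquiv h1
  have h3 : IsLocalization (Algebra.algebraMapSubmonoid (TensorProduct k A k') M)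
      (TensorProduct A (TensorProduct k A k') B) :=
    IsLocalization.tensor (R := A) (S := TensorProduct k A k') (A := B) M
  have h4 : EGA4.IsNormalRing (TensorProduct A (TensorProduct k A k') B) :=
    Ega4C.NormUnion.isNormalRing_of_isLocalization _ _
      (Algebra.algebraMapSubmonoid (TensorProduct k A k') M) h2
  exact Ega4C.NormUnion.isNormalRing_of_ringEquiv e.symm h4

end Groth.Agent.S9412
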