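import Groth.Statements.S9414
import Groth.Agent.Ega41.OmegaRank
import Mathlib.RingTheory.Jacobson.Ring
import Mathlib.RingTheory.Nullstellensatz
-- import your own Groth.Agent.* helpers here

set_option autoImplicit false
universe u
open CAlg

namespace Groth.Agent.S9414

open TensorProduct KaehlerDifferential in
theorem aux (k : Type u) [Field k] (S : Type u) [CommRing S] [Algebra k S] (K : Type u) [Field K]
    [Algebra k K] [Algebra S K] [IsScalarTower k S K] (hk : Function.Surjective (algebraMap k K))
    (m : Ideal S) (hm : m = RingHom.ker (algebraMap S K)) :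
    Nonempty (m.Cotangent ≃ₗ[S] (K ⊗[S] Ω[S⁄k])) := by
  subst hm
  have hsurj : Function.Surjective (algebraMap S K) := by
    intro x
    obtain ⟨y, rfl⟩ := hk x
    exact ⟨algebraMap k S y, (IsScalarTower.algebraMap_apply k S K y).symm⟩
  have hbij : Function.Bijective (algebraMap k K) := ⟨(algebraMap k K).injective, hk⟩
  have : Algebra.FormallyEtale k K :=
    .of_equiv (AlgEquiv.ofBijective (Algebra.ofId k K) hbij)
  have hinj := Groth.Agent.Ega41.OmegaRank.kerCotangentToTensor_injective_of_formallySmooth k
    (A := S) (K := K) hsurj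
  refine ⟨LinearEquiv.ofBijective (kerCotangentToTensor k S K) ⟨hinj, fun x => ?_⟩⟩
  exact (exact_kerCotangentToTensor_mapBaseChange k S K hsurj x).1 (Subsingleton.elim _ _)


open TensorProduct in
/-- For an algebraically closed field k, a finite type k-algebra S and a maximal ideal m of S with
residue field κ = S/m, the κ-vector spaces κ ⊗_S Ω_{S/k} and m/m² have the same dimension. -/
theorem result (k : Type u) [Field k]
    [IsAlgClosed k] (S : Type u) [CommRing S] [Algebra k S] [Algebra.FiniteType k S]
    (m : Ideal S) [m.IsMaximal] :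
    Module.finrank (S ⧸ m) ((S ⧸ m) ⊗[S] Ω[S⁄k]) = Module.finrank (S ⧸ m) m.Cotangent := by
  let _ : Field (S ⧸ m) := Ideal.Quotient.field m
  have hk : Function.Surjective (algebraMap k (S ⧸ m)) := by
    have : Module.Finite k (S ⧸ m) := finite_of_finite_type_of_isJacobsonRing k (S ⧸ m)
    exact (IsAlgClosed.algebraMap_bijective_of_isIntegral (k := k) (K := S ⧸ m)).2
  obtain ⟨e⟩ := aux k S (S ⧸ m) hk m (by rw [Ideal.Quotient.algebraMap_eq, Ideal.mk_ker])
  exact (LinearEquiv.finrank_eq (e.extendScalarsOfSurjective (R := S) (S := S ⧸ m)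
    Ideal.Quotient.mk_surjective)).symm

end Groth.Agent.S9414
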