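import Groth.Statements.S9415
import Groth.Agent.Ega41.OmegaRank
import Groth.Agent.Ega4A.RegFields
import Mathlib.RingTheory.Smooth.Field
-- import your own Groth.Agent.* helpers here

set_option autoImplicit false
universe u
open CAlg

namespace Groth.Agent.S9415

/-- Let R be a Noetherian local algebra over a field k whose residue field κ is a finitely generated,
separable (that is, geometrically reduced) field extension of k. Then the map from m/m² (m the
maximal ideal, realised as the kernel of R → κ) to κ ⊗_R Ω_{R/k} sending the class of x to 1 ⊗ dx is
injective. -/
theorem result (k : Type u) [Field k] (R : Type u)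
    [CommRing R] [IsLocalRing R] [IsNoetherianRing R] [Algebra k R]
    [Algebra.EssFiniteType k (IsLocalRing.ResidueField R)]
    [Algebra.IsGeometricallyReduced k (IsLocalRing.ResidueField R)] :
    Function.Injective
      (KaehlerDifferential.kerCotangentToTensor k R (IsLocalRing.ResidueField R)) := by
  obtain ⟨s, hs, hsep⟩ := Groth.Agent.Ega4A.RegFields.exists_separating k (IsLocalRing.ResidueField R)
  have : Algebra.IsSeparable (IntermediateField.adjoin k
      (Set.range ((↑) : s → IsLocalRing.ResidueField R))) (IsLocalRing.ResidueField R) := by
    convert! hsep <;> simp
  have : Algebra.FormallySmooth k (IsLocalRing.ResidueField R) :=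
    .of_algebraicIndependent_of_isSeparable hs.1
  exact Groth.Agent.Ega41.OmegaRank.kerCotangentToTensor_injective_of_formallySmooth k
    IsLocalRing.residue_surjective

end Groth.Agent.S9415
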