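import Groth.Statements.S9423
import Groth.Agent.Synt.K563.SynColim

set_option autoImplicit false
universe u
open Synt

namespace Groth.Agent.S9423

open TensorProduct in
/-- Let (A_i) be a directed system of A₀-algebras with colimit A (given by compatible maps A_i → A which
are jointly surjective and whose kernels die in the system), and B₀ → C₀ a homomorphism of
A₀-algebras with C₀ of finite presentation over B₀. If the base change of B₀ → C₀ along B₀ → B₀
⊗_{A₀} A is syntomic (flat, of finite presentation, with local complete intersection fibres), then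
already its base change along B₀ → B₀ ⊗_{A₀} A_i is syntomic for some index i. (The published
statement also treats relative global complete intersections; this row states the syntomic case.) -/
theorem result {ι : Type u} [Preorder ι] [IsDirected ι (· ≤ ·)] [Nonempty ι]
    (A₀ : Type u) [CommRing A₀] (G : ι → Type u) [∀ i, CommRing (G i)] [∀ i, Algebra A₀ (G i)]
    (f : ∀ i j, i ≤ j → (G i →ₐ[A₀] G j)) (A : Type u) [CommRing A] [Algebra A₀ A]
    (g : ∀ i, G i →ₐ[A₀] A) (hg : ∀ i j (h : i ≤ j), (g j).comp (f i j h) = g i)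
    (hsurj : ∀ a : A, ∃ i, ∃ x : G i, g i x = a)
    (hker : ∀ i (x : G i), g i x = 0 → ∃ j, ∃ h : i ≤ j, f i j h x = 0)
    (B₀ : Type u) [CommRing B₀] [Algebra A₀ B₀] (C₀ : Type u) [CommRing C₀] [Algebra A₀ C₀]
    [Algebra B₀ C₀] [IsScalarTower A₀ B₀ C₀] [Algebra.FinitePresentation B₀ C₀]
    (h : Synt.IsSyntomic (B₀ ⊗[A₀] A) ((B₀ ⊗[A₀] A) ⊗[B₀] C₀)) :
    ∃ i, Synt.IsSyntomic (B₀ ⊗[A₀] G i) ((B₀ ⊗[A₀] G i) ⊗[B₀] C₀) := by
  have H : K563.WeakColim.IsWeakColim (R := A₀) G A g :=
    { nonempty := inferInstance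
      dir := fun i j => by
        obtain ⟨k, hik, hjk⟩ := directed_of (· ≤ ·) i j
        exact ⟨k, ⟨f i k hik, hg i k hik⟩, ⟨f j k hjk, hg j k hjk⟩⟩
      surj := hsurj
      ker := fun i x hx => by
        obtain ⟨j, hij, hj⟩ := hker i x hx
        exact ⟨j, f i j hij, hg i j hij, hj⟩ }
  have HB := H.baseChange B₀
  let P := Algebra.Presentation.ofFinitePresentation B₀ C₀
  let R₀ := Algebra.adjoin ℤ P.coeffs
  have hP : P.HasCoeffs R₀ := ⟨by simp [R₀]⟩
  have hfg : R₀.FG := ⟨P.finite_coeffs.toFinset, by simp [R₀]⟩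
  have hft : Algebra.FiniteType ℤ R₀ := R₀.fg_iff_finiteType.mp hfg
  have hN : IsNoetherianRing R₀ := Algebra.FiniteType.isNoetherianRing ℤ R₀
  exact K563.SynColim.exists_isSyntomic_of_isWeakColim (R₀ := R₀) (B₀ := B₀) (C₀ := C₀)
    (C' := P.ModelOfHasCoeffs R₀) (P.tensorModelOfHasCoeffsEquiv R₀).symm HB h

end Groth.Agent.S9423
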