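import Groth.Statements.S9428
import Mathlib.RingTheory.Etale.Basic
-- import your own Groth.Agent.* helpers here

set_option autoImplicit false
universe u
open CAlg

namespace Groth.Agent.S9428

theorem aux (R : Type u) [CommRing R] (S : Type u)
    [CommRing S] [Algebra R S] [Algebra.FormallyEtale R S] (J : Ideal S)
    (hJ : Function.Surjective (algebraMap R (S ⧸ J))) (n : ℕ) :
    ∃ φ : S →ₐ[R] R ⧸ (J.comap (algebraMap R S)) ^ n, (∀ s ∈ J ^ n, φ s = 0) ∧
      ∀ s r, 0 < n → φ s = Ideal.Quotient.mk _ r →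
        Ideal.Quotient.mk J s = Ideal.Quotient.mk J (algebraMap R S r) := by
  set I := J.comap (algebraMap R S) with hI
  rcases Nat.eq_zero_or_pos n with rfl | hn
  · have h1 : Subsingleton (R ⧸ I ^ 0) := Ideal.Quotient.subsingleton_iff.2 (by rw [pow_zero, Ideal.one_eq_top])
    let φ : S →ₐ[R] R ⧸ I ^ 0 :=
      { toFun := fun _ => 0, map_one' := Subsingleton.elim _ _, map_mul' := fun _ _ => Subsingleton.elim _ _,
        map_zero' := rfl, map_add' := fun _ _ => Subsingleton.elim _ _,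
        commutes' := fun _ => Subsingleton.elim _ _ }
    exact ⟨φ, fun _ _ => Subsingleton.elim _ _, fun _ _ h => absurd h (lt_irrefl 0)⟩
  -- `R/I ≅ S/J`
  have hle : I ^ n ≤ I := Ideal.pow_le_self hn.ne'
  let F : (R ⧸ I ^ n) →ₐ[R] S ⧸ J :=
    Ideal.Quotient.liftₐ (I ^ n) (Algebra.ofId R (S ⧸ J)) fun a ha => by
      change Ideal.Quotient.mk J (algebraMap R S a) = 0
      exact Ideal.Quotient.eq_zero_iff_mem.2 (hle ha)
  have hF : Function.Surjective F := fun z => by
    obtain ⟨r, rfl⟩ := hJ z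
    exact ⟨Ideal.Quotient.mk _ r, rfl⟩
  have hker : RingHom.ker F = I.map (Ideal.Quotient.mk (I ^ n)) := by
    ext z
    obtain ⟨r, rfl⟩ := Ideal.Quotient.mk_surjective z
    have h1 : Ideal.Quotient.mk (I ^ n) r ∈ RingHom.ker F ↔ r ∈ I := by
      rw [RingHom.mem_ker]
      change Ideal.Quotient.mk J (algebraMap R S r) = 0 ↔ r ∈ I
      rw [Ideal.Quotient.eq_zero_iff_mem, hI, Ideal.mem_comap]
    rw [h1]
    constructor
    · exact fun h => Ideal.mem_map_of_mem _ h
    · intro h
      rw [Ideal.mem_quotient_iff_mem hle] at h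
      exact h
  have hnil : IsNilpotent (RingHom.ker (F : (R ⧸ I ^ n) →+* S ⧸ J)) := by
    refine ⟨n, ?_⟩
    change (RingHom.ker F) ^ n = ⊥
    rw [hker, ← Ideal.map_pow, Ideal.map_quotient_self]
  let φ : S →ₐ[R] R ⧸ I ^ n := Algebra.FormallySmooth.liftOfSurjective (Ideal.Quotient.mkₐ R J) F hF hnil
  have hφ : ∀ s, F (φ s) = Ideal.Quotient.mk J s :=
    Algebra.FormallySmooth.liftOfSurjective_apply (Ideal.Quotient.mkₐ R J) F hF hnil
  refine ⟨φ, fun s hs => ?_, fun s r _ hsr => ?_⟩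
  swap
  · rw [← hφ, hsr]
    rfl
  have h1 : J.map φ.toRingHom ≤ I.map (Ideal.Quotient.mk (I ^ n)) := by
    rw [Ideal.map_le_iff_le_comap]
    intro x hx
    rw [Ideal.mem_comap, ← hker, RingHom.mem_ker]
    exact (hφ x).trans (Ideal.Quotient.eq_zero_iff_mem.2 hx)
  have h2 : (J ^ n).map φ.toRingHom ≤ ⊥ := by
    rw [Ideal.map_pow]
    refine (Ideal.pow_right_mono h1 n).trans ?_
    rw [← Ideal.map_pow, Ideal.map_quotient_self]
  exact (Submodule.mem_bot _).1 (h2 (Ideal.mem_map_of_mem _ hs))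


/-- If R → S is formally étale and J ⊆ S is an ideal with R → S/J surjective, I ⊆ R its kernel (the
preimage of J), then R/I^n → S/J^n is bijective for all n. (The published statement adds that the
associated graded rings are then isomorphic, which follows from these bijections.) -/
theorem result (R : Type u) [CommRing R] (S : Type u)
    [CommRing S] [Algebra R S] [Algebra.FormallyEtale R S] (J : Ideal S)
    (hJ : Function.Surjective (algebraMap R (S ⧸ J))) (n : ℕ) :
    Function.Bijective (Ideal.quotientMap (J ^ n) (algebraMap R S)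
      (le_of_le_of_eq (Ideal.le_comap_pow (algebraMap R S) n) rfl :
        (J.comap (algebraMap R S)) ^ n ≤ (J ^ n).comap (algebraMap R S))) := by
  obtain ⟨φ, hφ, hφ'⟩ := aux R S J hJ n
  -- the inverse map
  let ψ : S ⧸ J ^ n →ₐ[R] R ⧸ (J.comap (algebraMap R S)) ^ n := Ideal.Quotient.liftₐ (J ^ n) φ hφ
  have hψ : ∀ s, ψ (Ideal.Quotient.mk _ s) = φ s := fun s => rfl
  constructor
  · refine Function.LeftInverse.injective (g := ψ) fun z => ?_
    obtain ⟨r, rfl⟩ := Ideal.Quotient.mk_surjective z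
    rw [Ideal.quotientMap_mk, hψ, AlgHom.commutes]
    rfl
  · rcases Nat.eq_zero_or_pos n with rfl | hn
    · have h1 : Subsingleton (S ⧸ J ^ 0) :=
        Ideal.Quotient.subsingleton_iff.2 (by rw [pow_zero, Ideal.one_eq_top])
      exact fun z => ⟨0, Subsingleton.elim _ _⟩
    have hle : J ^ n ≤ J := Ideal.pow_le_self hn.ne'
    -- two `R`-algebra maps `S → S / J ^ n`
    let F : (R ⧸ (J.comap (algebraMap R S)) ^ n) →ₐ[R] S ⧸ J ^ n :=
      Ideal.Quotient.liftₐ _ (Algebra.ofId R (S ⧸ J ^ n)) fun a ha =>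
        Ideal.Quotient.eq_zero_iff_mem.2 (Ideal.le_comap_pow (algebraMap R S) n ha)
    let P : (S ⧸ J ^ n) →ₐ[R] S ⧸ J := Ideal.Quotient.factorₐ R hle
    have hP : RingHom.ker P = J.map (Ideal.Quotient.mk (J ^ n)) := by
      ext z
      obtain ⟨s, rfl⟩ := Ideal.Quotient.mk_surjective z
      rw [Ideal.mem_quotient_iff_mem hle, RingHom.mem_ker]
      change Ideal.Quotient.mk J s = 0 ↔ s ∈ J
      exact Ideal.Quotient.eq_zero_iff_mem
    have hnil : IsNilpotent (RingHom.ker (P : (S ⧸ J ^ n) →+* S ⧸ J)) := by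
      refine ⟨n, ?_⟩
      change (RingHom.ker P) ^ n = ⊥
      rw [hP, ← Ideal.map_pow, Ideal.map_quotient_self]
    have key : F.comp φ = Ideal.Quotient.mkₐ R (J ^ n) := by
      refine Algebra.FormallyUnramified.lift_unique' P hnil _ _ (AlgHom.ext fun s => ?_)
      obtain ⟨r, hr⟩ := Ideal.Quotient.mk_surjective (φ s)
      have h1 := hφ' s r hn hr.symm
      change P (F (φ s)) = Ideal.Quotient.mk J s
      rw [h1, ← hr]
      rfl
    intro z
    obtain ⟨s, rfl⟩ := Ideal.Quotient.mk_surjective z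
    refine ⟨φ s, ?_⟩
    exact DFunLike.congr_fun key s

end Groth.Agent.S9428
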