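import Groth.Statements.S9430
import Groth.Agent.Synt.K563.GCI2
import Groth.Agent.S2842

set_option autoImplicit false
universe u
open Synt

namespace Groth.Agent.S9430

/-- For a field extension K/k, every finite subset of K lies in a k-subalgebra of K which is a global
complete intersection over k; so K is the directed union of its k-subalgebras that are global
complete intersections over k. -/
theorem result (k : Type u) [Field k] (K : Type u)
    [Field K] [Algebra k K] (E : Finset K) :
    ∃ A : Subalgebra k K, (↑E : Set K) ⊆ (A : Set K) ∧ Synt.IsGlobalCI k A := by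
  let A₀ : Subalgebra k K := Algebra.adjoin k (E : Set K)
  have hft : Algebra.FiniteType k A₀ :=
    (Subalgebra.fg_iff_finiteType A₀).mp ⟨E, rfl⟩
  have hreg : IsRegularLocalRing (Localization.AtPrime (⊥ : Ideal A₀)) := by
    have h1 : IsField (Localization.AtPrime (⊥ : Ideal A₀)) := by
      have h2 : IsLocalization (nonZeroDivisors A₀) (Localization.AtPrime (⊥ : Ideal A₀)) := by
        have h3 : (⊥ : Ideal A₀).primeCompl = nonZeroDivisors A₀ := by
          ext x
          rw [mem_nonZeroDivisors_iff_ne_zero]
          exact not_congr Ideal.mem_bot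
        rw [← h3]
        infer_instance
      exact (IsFractionRing.toField A₀ (K := Localization.AtPrime (⊥ : Ideal A₀))).toIsField
    let _ := h1.toField
    infer_instance
  obtain ⟨g, hg, hG⟩ := K563.GCI2.exists_isGlobalCI_of_isCI (k := k) (⊥ : Ideal A₀)
    (Groth.Agent.S2842.isCompleteIntersection_of_isRegularLocalRing _)
  have hg0 : g ≠ 0 := fun h => hg (by rw [h]; exact zero_mem _)
  have hunit : ∀ y : Submonoid.powers g, IsUnit (A₀.val y) := by
    rintro ⟨_, n, rfl⟩
    rw [isUnit_iff_ne_zero]
    intro h
    exact pow_ne_zero n hg0 (Subtype.ext h)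
  let ψ : Localization.Away g →ₐ[k] K := IsLocalization.liftAlgHom (M := Submonoid.powers g) hunit
  have hψ : Function.Injective ψ := by
    rw [injective_iff_map_eq_zero]
    intro x hx
    obtain ⟨a, s, rfl⟩ := IsLocalization.exists_mk'_eq (Submonoid.powers g) x
    have h1 : ψ (IsLocalization.mk' (Localization.Away g) a s) * A₀.val s = A₀.val a := by
      have h2 : ψ (algebraMap A₀ _ (s : A₀)) = A₀.val s := IsLocalization.lift_eq hunit _
      have h3 : ψ (algebraMap A₀ _ a) = A₀.val a := IsLocalization.lift_eq hunit _
      rw [← h2, ← map_mul, IsLocalization.mk'_spec, h3]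
    rw [hx, zero_mul] at h1
    have h2 : a = 0 := Subtype.ext h1.symm
    rw [h2, IsLocalization.mk'_zero]
  refine ⟨ψ.range, ?_, K563.Pres.isGlobalCI_of_algEquiv (AlgEquiv.ofInjective ψ hψ) hG⟩
  intro x hx
  refine ⟨algebraMap A₀ _ ⟨x, Algebra.subset_adjoin hx⟩, ?_⟩
  exact IsLocalization.lift_eq hunit _

end Groth.Agent.S9430
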