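import Groth.Statements.S9431
import Groth.Agent.Ega4A.RegFields
import Mathlib.RingTheory.Smooth.Field
import Mathlib.RingTheory.Smooth.Locus
-- import your own Groth.Agent.* helpers here

set_option autoImplicit false
universe u
open CAlg

namespace Groth.Agent.S9431

theorem formallySmooth_of_geomReduced (k L : Type u) [Field k] [Field L] [Algebra k L]
    [Algebra.IsGeometricallyReduced k L] [Algebra.EssFiniteType k L] : Algebra.FormallySmooth k L := by
  obtain ⟨s, hs, hsep⟩ := Groth.Agent.Ega4A.RegFields.exists_separating k L
  have : Algebra.IsSeparable (IntermediateField.adjoin k (Set.range ((↑) : s → L))) L := by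
    convert! hsep <;> simp
  exact .of_algebraicIndependent_of_isSeparable hs.1


/-- For a separable (geometrically reduced) field extension K/k, every finite subset of K lies in a
k-subalgebra of K which is smooth over k; in particular K is a filtered colimit of smooth
k-algebras. -/
theorem result (k : Type u) [Field k]
    (K : Type u) [Field K] [Algebra k K] [Algebra.IsGeometricallyReduced k K] (E : Finset K) :
    ∃ A : Subalgebra k K, (↑E : Set K) ⊆ (A : Set K) ∧ Algebra.Smooth k A := by
  let A₀ : Subalgebra k K := Algebra.adjoin k (E : Set K)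
  have hft : Algebra.FiniteType k A₀ := (Subalgebra.fg_iff_finiteType A₀).1 ⟨E, rfl⟩
  have hfp : Algebra.FinitePresentation k A₀ := Algebra.FinitePresentation.of_finiteType.1 hft
  let L := FractionRing A₀
  have hinj : Function.Injective (algebraMap A₀ K) := Subtype.val_injective
  let φ : L →ₐ[A₀] K := IsFractionRing.liftAlgHom (K := L) (g := Algebra.ofId A₀ K) hinj
  have hgr : Algebra.IsGeometricallyReduced k L :=
    Algebra.IsGeometricallyReduced.of_injective (φ.restrictScalars k) φ.toRingHom.injective
  have hess : Algebra.EssFiniteType k L := Algebra.EssFiniteType.comp k A₀ L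
  have hsm : Algebra.FormallySmooth k L := formallySmooth_of_geomReduced k L
  -- the localization at the zero ideal
  have hloc : IsLocalization.AtPrime L (⊥ : Ideal A₀) := by
    have h1 : (⊥ : Ideal A₀).primeCompl = nonZeroDivisors A₀ := by
      ext x
      rw [mem_nonZeroDivisors_iff_ne_zero]
      exact Iff.rfl
    change IsLocalization (⊥ : Ideal A₀).primeCompl L
    rw [h1]
    infer_instance
  have hsm' : Algebra.IsSmoothAt k (⊥ : Ideal A₀) :=
    Algebra.FormallySmooth.of_equiv
      ((IsLocalization.algEquiv (⊥ : Ideal A₀).primeCompl L (Localization.AtPrime (⊥ : Ideal A₀))).restrictScalars k)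
  obtain ⟨f, hf, hfs⟩ := Algebra.IsSmoothAt.exists_notMem_smooth (R := k) (⊥ : Ideal A₀)
  have hf0 : f ≠ 0 := hf
  -- the localization inside `K`
  have hunit : ∀ y : Submonoid.powers f, IsUnit (Algebra.ofId A₀ K y) := by
    rintro ⟨_, n, rfl⟩
    rw [map_pow]
    refine IsUnit.pow _ (isUnit_iff_ne_zero.2 ?_)
    exact fun h => hf0 (hinj (h.trans (map_zero _).symm))
  let ψ : Localization.Away f →ₐ[A₀] K := IsLocalization.liftAlgHom (M := Submonoid.powers f) hunit
  have hψ : Function.Injective ψ := by
    rw [injective_iff_map_eq_zero]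
    intro z hz
    obtain ⟨⟨x, s⟩, hxs⟩ := IsLocalization.surj (Submonoid.powers f) z
    have h1 := congrArg ψ hxs
    rw [map_mul, hz, zero_mul, ψ.commutes] at h1
    have h2 : x = 0 := hinj (h1.symm.trans (map_zero _).symm)
    have h3 := hxs
    rw [h2, map_zero] at h3
    exact (IsUnit.mul_left_eq_zero (IsLocalization.map_units (Localization.Away f) s)).1 h3
  let ψk : Localization.Away f →ₐ[k] K := ψ.restrictScalars k
  refine ⟨ψk.range, ?_, ?_⟩
  · intro x hx
    refine ⟨algebraMap A₀ _ ⟨x, Algebra.subset_adjoin hx⟩, ?_⟩
    exact ψ.commutes _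
  · exact Algebra.Smooth.of_equiv (AlgEquiv.ofInjective ψk hψ)

end Groth.Agent.S9431
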