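import Groth.Statements.S9432
import Groth.Agent.Flat2E.QFSlice
import Mathlib.RingTheory.Spectrum.Prime.Chevalley
import Mathlib.RingTheory.Finiteness.FinitePresentationLocal
-- import your own Groth.Agent.* helpers here

set_option autoImplicit false
universe u
open CAlg

namespace Groth.Agent.S9432

open TensorProduct in
/-- A finite product of quasi-finite algebras is quasi-finite. -/
theorem quasiFinite_pi {A : Type u} [CommRing A] {ι : Type*} [Finite ι] (C : ι → Type u)
    [∀ i, CommRing (C i)] [∀ i, Algebra A (C i)] [∀ i, Algebra.QuasiFinite A (C i)] :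
    Algebra.QuasiFinite A (∀ i, C i) := by
  classical
  have := Fintype.ofFinite ι
  refine ⟨fun P _ => ?_⟩
  exact Module.Finite.equiv (TensorProduct.piRight A P.ResidueField P.ResidueField C).symm

theorem flat_pi {R : Type u} [CommRing R] {ι : Type*} [Finite ι] (M : ι → Type u)
    [∀ i, AddCommGroup (M i)] [∀ i, Module R (M i)] (h : ∀ i, Module.Flat R (M i)) :
    Module.Flat R (∀ i, M i) := by
  classical
  have := Fintype.ofFinite ι
  exact Module.Flat.of_linearEquiv (DFinsupp.linearEquivFunOnFintype (R := R) (M := M)).symm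

theorem aux (R : Type u) [CommRing R]
    (S : Type u) [CommRing S] [Algebra R S] [Module.FaithfullyFlat R S]
    [Algebra.FinitePresentation R S] :
    ∃ (S' : Type u) (_ : CommRing S') (_ : Algebra R S'),
      Algebra.QuasiFinite R S' ∧ Algebra.FiniteType R S' ∧ Module.FaithfullyFlat R S' ∧
        Algebra.FinitePresentation R S' ∧ Nonempty (S →ₐ[R] S') := by
  have key : ∀ p : PrimeSpectrum R, ∃ (C : Type u) (_ : CommRing C) (_ : Algebra R C)
      (_ : S →ₐ[R] C) (Q : PrimeSpectrum C), PrimeSpectrum.comap (algebraMap R C) Q = p ∧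
      Module.Flat R C ∧ Algebra.FinitePresentation R C ∧ Algebra.QuasiFinite R C := by
    intro p
    obtain ⟨q, hq, hqp⟩ := Ideal.exists_isPrime_liesOver_of_faithfullyFlat (B := S) p.asIdeal
    obtain ⟨C, _, _, g, Q, hQ, hQp, h1, h2, h3⟩ :=
      Groth.Agent.Flat2E.QFSlice.exists_quasiFinite_slice p.asIdeal q
    exact ⟨C, inferInstance, inferInstance, g, ⟨Q, hQ⟩, PrimeSpectrum.ext (hQp.over).symm,
      h1, h2, h3⟩
  choose C i1 i2 g Q hQ hfl hfp hqf using key
  obtain ⟨t, ht⟩ := CompactSpace.elim_nhds_subcover (X := PrimeSpectrum R)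
    (fun p => Set.range (PrimeSpectrum.comap (algebraMap R (C p)))) (fun p => by
      refine IsOpen.mem_nhds ?_ ⟨Q p, hQ p⟩
      exact (PrimeSpectrum.isOpenMap_comap_of_hasGoingDown_of_finitePresentation).isOpen_range)
  have hflat : Module.Flat R (∀ p : t, C p) := flat_pi (fun p : t => C p) fun p => hfl p
  refine ⟨∀ p : t, C p, inferInstance, inferInstance, quasiFinite_pi _, inferInstance, ?_,
    inferInstance, ⟨AlgHom.pi fun p => g p⟩⟩
  refine Module.FaithfullyFlat.of_comap_surjective fun p => ?_
  have hp : p ∈ (⊤ : Set (PrimeSpectrum R)) := trivial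
  rw [← ht] at hp
  simp only [Set.mem_iUnion] at hp
  obtain ⟨x, hx, y, hy⟩ := hp
  refine ⟨PrimeSpectrum.comap (Pi.evalRingHom (fun p : t => C p) ⟨x, hx⟩) y, ?_⟩
  rw [← hy]
  rfl

/-- For a faithfully flat ring map R → S of finite presentation there is a quasi-finite (of finite type
with finite fibres), faithfully flat, finitely presented R-algebra S' together with an R-algebra map
S → S'. -/
theorem result (R : Type u) [CommRing R]
    (S : Type u) [CommRing S] [Algebra R S] [Module.FaithfullyFlat R S]
    [Algebra.FinitePresentation R S] :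
    ∃ (S' : Type u) (_ : CommRing S') (_ : Algebra R S'),
      Algebra.QuasiFinite R S' ∧ Algebra.FiniteType R S' ∧ Module.FaithfullyFlat R S' ∧
        Algebra.FinitePresentation R S' ∧ Nonempty (S →ₐ[R] S') := by
  exact aux R S

end Groth.Agent.S9432
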