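import Groth.Statements.S9435
import Groth.Agent.Pi1B.EtaleSep
import Mathlib.FieldTheory.PrimitiveElement

set_option autoImplicit false
universe u
open CAlg

namespace Groth.Agent.S9435

/-- Given a prime p of a ring R and a finite separable extension L of κ(p), there is an étale R-algebra
R' with a prime p' over p whose residue field is κ(p)-isomorphic to L. Stated through an R-algebra
map ψ : R' → L whose image generates the field L: its kernel is such a prime p' and the induced
κ(p') → L is then an isomorphism over κ(p). -/
theorem result (R : Type u) [CommRing R]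
    (p : Ideal R) [p.IsPrime] (L : Type u) [Field L] [Algebra p.ResidueField L] [Algebra R L]
    [IsScalarTower R p.ResidueField L] [Module.Finite p.ResidueField L]
    [Algebra.IsSeparable p.ResidueField L] :
    ∃ (R' : Type u) (_ : CommRing R') (_ : Algebra R R') (_ : Algebra.Etale R R') (ψ : R' →ₐ[R] L),
      Subfield.closure (Set.range ψ) = ⊤ := by
  obtain ⟨α, hα⟩ := Field.exists_primitive_element p.ResidueField L
  obtain ⟨R', _, _, _, χ, y, hy⟩ := Groth.Agent.Pi1B.EtaleSep.exists_etale_adjoin R L p α
    (Algebra.IsSeparable.isSeparable p.ResidueField α)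
  refine ⟨R', _, _, ‹_›, χ, ?_⟩
  -- the closure is an intermediate field containing `α`
  have hk : ∀ z : p.ResidueField, algebraMap p.ResidueField L z ∈ Subfield.closure (Set.range χ) := by
    intro z
    obtain ⟨a, b, hb, rfl⟩ := IsFractionRing.div_surjective (A := R ⧸ p) z
    obtain ⟨a, rfl⟩ := Ideal.Quotient.mk_surjective a
    obtain ⟨b, rfl⟩ := Ideal.Quotient.mk_surjective b
    rw [map_div₀]
    have h1 : ∀ r : R, algebraMap p.ResidueField L (algebraMap (R ⧸ p) p.ResidueField
        (Ideal.Quotient.mk p r)) ∈ Subfield.closure (Set.range χ) := by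
      intro r
      have h2 : algebraMap p.ResidueField L (algebraMap (R ⧸ p) p.ResidueField
        (Ideal.Quotient.mk p r)) = χ (algebraMap R R' r) := by
        rw [AlgHom.commutes, IsScalarTower.algebraMap_apply R p.ResidueField L]
        rfl
      rw [h2]
      exact Subfield.subset_closure ⟨_, rfl⟩
    exact div_mem (h1 a) (h1 b)
  let F : IntermediateField p.ResidueField L :=
    { Subfield.closure (Set.range χ) with algebraMap_mem' := hk }
  have hF : F = ⊤ := by
    rw [eq_top_iff, ← hα, IntermediateField.adjoin_simple_le_iff]
    exact Subfield.subset_closure ⟨y, hy⟩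
  rw [eq_top_iff]
  intro z _
  have : z ∈ F := by rw [hF]; trivial
  exact this

end Groth.Agent.S9435
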