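import Groth.Statements.S9448
import Groth.Agent.Unram.K653.PolyEtale
import Mathlib.RingTheory.Kaehler.Polynomial

set_option autoImplicit false
universe u
open Unram

namespace Groth.Agent.S9448

/-- The map on differentials is onto iff the differentials of the variables generate. -/
theorem span_eq_range (k : Type u) [Field k] (n : ℕ)
    (A : Type u) [CommRing A] [Algebra k A] [Algebra (MvPolynomial (Fin n) k) A]
    [IsScalarTower k (MvPolynomial (Fin n) k) A] :
    Submodule.span A (Set.range fun i : Fin n =>
          KaehlerDifferential.D k A (algebraMap (MvPolynomial (Fin n) k) A (MvPolynomial.X i))) =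
      LinearMap.range (KaehlerDifferential.mapBaseChange k (MvPolynomial (Fin n) k) A) := by
  apply le_antisymm
  · rw [Submodule.span_le]
    rintro _ ⟨i, rfl⟩
    refine ⟨1 ⊗ₜ KaehlerDifferential.D k _ (MvPolynomial.X i), ?_⟩
    rw [KaehlerDifferential.mapBaseChange_tmul, one_smul, KaehlerDifferential.map_D]
  · rintro _ ⟨x, rfl⟩
    induction x with
    | zero => rw [map_zero]; exact Submodule.zero_mem _
    | add x y hx hy => rw [map_add]; exact Submodule.add_mem _ hx hy
    | tmul a w =>
      rw [KaehlerDifferential.mapBaseChange_tmul]
      apply Submodule.smul_mem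
      have hw : w ∈ Submodule.span (MvPolynomial (Fin n) k)
          (Set.range (KaehlerDifferential.mvPolynomialBasis k (Fin n))) := by
        rw [(KaehlerDifferential.mvPolynomialBasis k (Fin n)).span_eq]; trivial
      induction hw using Submodule.span_induction with
      | mem x hx =>
        obtain ⟨i, rfl⟩ := hx
        rw [KaehlerDifferential.mvPolynomialBasis_apply, KaehlerDifferential.map_D]
        exact Submodule.subset_span ⟨i, rfl⟩
      | zero => rw [map_zero]; exact Submodule.zero_mem _
      | add x y _ _ hx hy => rw [map_add]; exact Submodule.add_mem _ hx hy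
      | smul c x _ hx =>
        rw [map_smul, ← algebraMap_smul A c]
        exact Submodule.smul_mem _ _ hx

theorem formallyUnramified_iff (k : Type u) [Field k] (n : ℕ)
    (A : Type u) [CommRing A] [Algebra k A] [Algebra (MvPolynomial (Fin n) k) A]
    [IsScalarTower k (MvPolynomial (Fin n) k) A] :
    Submodule.span A (Set.range fun i : Fin n =>
          KaehlerDifferential.D k A (algebraMap (MvPolynomial (Fin n) k) A (MvPolynomial.X i))) = ⊤ ↔
      Algebra.FormallyUnramified (MvPolynomial (Fin n) k) A := by
  rw [span_eq_range, LinearMap.range_eq_top, Algebra.formallyUnramified_iff]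
  have hex := KaehlerDifferential.exact_mapBaseChange_map k (MvPolynomial (Fin n) k) A
  have hsurj := KaehlerDifferential.map_surjective k (MvPolynomial (Fin n) k) A
  constructor
  · intro h
    refine ⟨fun x y => ?_⟩
    suffices hz : ∀ x : KaehlerDifferential (MvPolynomial (Fin n) k) A, x = 0 by rw [hz x, hz y]
    intro x
    obtain ⟨x, rfl⟩ := hsurj x
    exact (hex x).2 (h x)
  · intro h x
    exact (hex x).1 (Subsingleton.elim _ _)

/-- For a field k and a finite type algebra A over the polynomial ring k[x_1, …, x_n] (the variables
mapping to a_1, …, a_n), the structure map is étale if and only if (a) the local rings of A at all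
maximal ideals have dimension n and (b) da_1, …, da_n generate the module of differentials of A over
k. -/
theorem result (k : Type u) [Field k] (n : ℕ)
    (A : Type u) [CommRing A] [Algebra k A] [Algebra (MvPolynomial (Fin n) k) A]
    [IsScalarTower k (MvPolynomial (Fin n) k) A] [Algebra.FiniteType (MvPolynomial (Fin n) k) A] :
    Algebra.Etale (MvPolynomial (Fin n) k) A ↔
      (∀ (m : Ideal A) [m.IsMaximal], ringKrullDim (Localization.AtPrime m) = n) ∧
        Submodule.span A (Set.range fun i : Fin n =>
          KaehlerDifferential.D k A (algebraMap (MvPolynomial (Fin n) k) A (MvPolynomial.X i))) = ⊤ := by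
  rw [formallyUnramified_iff]
  constructor
  · intro h
    exact ⟨fun m _ => (K653.PolyEtale.regular_dim (k := k) (n := n) m).2, inferInstance⟩
  · rintro ⟨hdim, hun⟩
    have hNoeth : Algebra.FinitePresentation (MvPolynomial (Fin n) k) A :=
      Algebra.FinitePresentation.of_finiteType.1 inferInstance
    rw [← Algebra.etaleLocus_eq_univ_iff_etale]
    by_contra hne
    have hcl : IsClosed (Algebra.etaleLocus (MvPolynomial (Fin n) k) A)ᶜ :=
      Algebra.isOpen_etaleLocus.isClosed_compl
    have hne' : ((Algebra.etaleLocus (MvPolynomial (Fin n) k) A)ᶜ).Nonempty :=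
      Set.nonempty_compl.2 hne
    obtain ⟨I, hI⟩ := (PrimeSpectrum.isClosed_iff_zeroLocus_ideal _).1 hcl
    rw [hI] at hne'
    have hItop : I ≠ ⊤ := by
      rintro rfl
      obtain ⟨x, hx⟩ := hne'
      exact x.2.ne_top (top_le_iff.1 hx)
    obtain ⟨m, hm, hIm⟩ := Ideal.exists_le_maximal I hItop
    have hmem : (⟨m, hm.isPrime⟩ : PrimeSpectrum A) ∈ (Algebra.etaleLocus (MvPolynomial (Fin n) k) A)ᶜ := by
      rw [hI]; exact hIm
    apply hmem
    have : Algebra.IsUnramifiedAt (MvPolynomial (Fin n) k) m := by
      change Algebra.FormallyUnramified (MvPolynomial (Fin n) k) (Localization.AtPrime m)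
      exact Algebra.FormallyUnramified.comp _ A _
    exact K653.PolyEtale.isEtaleAt m (hdim m)

end Groth.Agent.S9448
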