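import Groth.Statements.S9451
import Mathlib.RingTheory.Smooth.NoetherianDescent
import Mathlib.Algebra.Category.Ring.FinitePresentation
import Mathlib.Algebra.Category.Ring.FilteredColimits
import Mathlib.Algebra.Category.Ring.Constructions
import Mathlib.RingTheory.TensorProduct.Maps

set_option autoImplicit false
universe u
open CategoryTheory CategoryTheory.Limits TensorProduct
open CAlg

namespace Groth.Agent.S9451

/-- Let (A_i) be a filtered system of rings with colimit A and B a smooth A-algebra. Then some stage A_i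
carries a smooth A_i-algebra B_i with B isomorphic to A ⊗_{A_i} B_i as A-algebras (the base change
along the colimit map A_i → A; existence of an isomorphism). -/
theorem result {I : Type u} [SmallCategory I] [IsFiltered I]
    (D : I ⥤ CommRingCat.{u}) (c : Cocone D) (hc : IsColimit c) (B : Type u) [CommRing B]
    [Algebra c.pt B] [Algebra.Smooth c.pt B] :
    ∃ (i : I) (Bi : Type u) (_ : CommRing Bi) (_ : Algebra (D.obj i) Bi),
      Algebra.Smooth (D.obj i) Bi ∧
      (letI : Algebra (D.obj i) c.pt := (c.ι.app i).hom.toAlgebra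
       Nonempty (B ≃ₐ[c.pt] (c.pt ⊗[D.obj i] Bi))) := by
  let : Algebra (ULift.{u} ℤ) c.pt :=
    ((Int.castRingHom c.pt).comp (ULift.ringEquiv (R := ℤ)).toRingHom).toAlgebra
  obtain ⟨A₀, B₀, _, _, hfg, hsm, ⟨e⟩⟩ := Algebra.Smooth.exists_subalgebra_fg (ULift.{u} ℤ) c.pt B
  let f : CommRingCat.of (ULift.{u} ℤ) ⟶ CommRingCat.of A₀ :=
    CommRingCat.ofHom (algebraMap (ULift.{u} ℤ) A₀)
  have hft : Algebra.FiniteType (ULift.{u} ℤ) A₀ := (Subalgebra.fg_iff_finiteType A₀).1 hfg
  have hN : IsNoetherianRing (ULift.{u} ℤ) :=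
    isNoetherianRing_of_ringEquiv ℤ (ULift.ringEquiv (R := ℤ)).symm
  have hfp : Algebra.FinitePresentation (ULift.{u} ℤ) A₀ :=
    Algebra.FinitePresentation.of_finiteType.1 hft
  have hf : f.hom.FinitePresentation :=
    RingHom.finitePresentation_algebraMap.2 hfp
  let α : (Functor.const I).obj (CommRingCat.of (ULift.{u} ℤ)) ⟶ D :=
    { app := fun i => CommRingCat.isInitial.to (D.obj i)
      naturality := fun i j h => CommRingCat.isInitial.hom_ext _ _ }
  let g : CommRingCat.of A₀ ⟶ c.pt := CommRingCat.ofHom (algebraMap A₀ c.pt)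
  obtain ⟨i, g', -, hg⟩ := RingHom.EssFiniteType.exists_eq_comp_ι_app_of_isColimit
    (CommRingCat.of (ULift.{u} ℤ)) D α f c hc hf g (fun i => CommRingCat.isInitial.hom_ext _ _)
  let : Algebra A₀ (D.obj i) := g'.hom.toAlgebra
  let : Algebra (D.obj i) c.pt := (c.ι.app i).hom.toAlgebra
  have : IsScalarTower A₀ (D.obj i) c.pt := IsScalarTower.of_algebraMap_eq fun x =>
    congr(($hg).hom x)
  refine ⟨i, D.obj i ⊗[A₀] B₀, inferInstance, inferInstance, inferInstance, ⟨?_⟩⟩
  exact e.trans (Algebra.TensorProduct.cancelBaseChange A₀ (D.obj i) c.pt c.pt B₀).symm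

end Groth.Agent.S9451
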