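import Groth.Statements.S9452
import Groth.Agent.Unram.K653.EtSplit

set_option autoImplicit false
universe u
open Unram

namespace Groth.Agent.S9452

open TensorProduct in
/-- Let R → S be of finite type and unramified at a prime q lying over p. Then there are an étale
R-algebra R', a prime p' of R' over p and an R'-algebra isomorphism e : R' ⊗_R S ≅ A × B with R' → A
surjective and p'A a prime ideal of A lying over p' whose pull-back along S → R' ⊗_R S ≅ A × B → A
is q. -/
theorem result (R : Type u) [CommRing R]
    (S : Type u) [CommRing S] [Algebra R S] [Algebra.FiniteType R S] (q : Ideal S) [q.IsPrime]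
    [Algebra.IsUnramifiedAt R q] :
    ∃ (R' : Type u) (_ : CommRing R') (_ : Algebra R R') (_ : Algebra.Etale R R') (p' : Ideal R')
      (_ : p'.IsPrime) (_ : p'.LiesOver (q.under R)) (A : Type u) (_ : CommRing A) (_ : Algebra R' A)
      (B : Type u) (_ : CommRing B) (_ : Algebra R' B) (e : (R' ⊗[R] S) ≃ₐ[R'] (A × B)),
      Function.Surjective (algebraMap R' A) ∧ (p'.map (algebraMap R' A)).IsPrime ∧
        (p'.map (algebraMap R' A)).comap (algebraMap R' A) = p' ∧
        (p'.map (algebraMap R' A)).comap (((RingHom.fst A B).comp e.toRingHom).comp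
          (Algebra.TensorProduct.includeRight : S →ₐ[R] R' ⊗[R] S).toRingHom) = q := by
  obtain ⟨E, _, _, _, f, hf, φ, hφ, B, _, _, ε, hε⟩ := K653.EtSplit.exists_split (R := R) q
  let q' : Ideal (Localization.Away f) := q.map (algebraMap S (Localization.Away f))
  have hdisj : Disjoint (Submonoid.powers f : Set S) (q : Set S) := by
    rwa [Ideal.disjoint_powers_iff_notMem_of_isPrime]
  have hq'p : q'.IsPrime := IsLocalization.isPrime_of_isPrime_disjoint (.powers f) _ _ ‹_› hdisj
  have hq'c : q'.comap (algebraMap S (Localization.Away f)) = q :=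
    IsLocalization.comap_map_of_isPrime_disjoint (.powers f) _ ‹_› hdisj
  let p' : Ideal E := q'.comap φ
  have hker : RingHom.ker φ ≤ p' := fun x hx => by
    change φ x ∈ q'
    rw [(hx : φ x = 0)]; exact q'.zero_mem
  have hsurj : Function.Surjective (algebraMap E (E ⧸ RingHom.ker φ)) :=
    Ideal.Quotient.mk_surjective
  have hkerm : RingHom.ker (algebraMap E (E ⧸ RingHom.ker φ)) = RingHom.ker φ :=
    Ideal.mk_ker
  have hcomap : (p'.map (algebraMap E (E ⧸ RingHom.ker φ))).comap
      (algebraMap E (E ⧸ RingHom.ker φ)) = p' := by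
    rw [Ideal.comap_map_of_surjective' _ hsurj, hkerm, sup_eq_left.2 hker]
  refine ⟨E, inferInstance, inferInstance, inferInstance, p', inferInstance, ⟨?_⟩,
    E ⧸ RingHom.ker φ, inferInstance, inferInstance, B, inferInstance, inferInstance, ε, hsurj,
    ?_, hcomap, ?_⟩
  · change _ = (q'.comap φ).comap (algebraMap R E)
    have h1 : (q'.comap φ).comap (algebraMap R E) =
        q'.comap (algebraMap R (Localization.Away f)) := by
      ext x
      change φ (algebraMap R E x) ∈ q' ↔ _
      rw [AlgHom.commutes]
      rfl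
    rw [h1, IsScalarTower.algebraMap_eq R S (Localization.Away f), ← Ideal.comap_comap, hq'c]
  · exact Ideal.map_isPrime_of_surjective hsurj (by rw [hkerm]; exact hker)
  · ext s
    obtain ⟨x, hx⟩ := Ideal.Quotient.mk_surjective (ε (1 ⊗ₜ s)).1
    have h1 := hε s x hx.symm
    change (ε (1 ⊗ₜ s)).1 ∈ p'.map (algebraMap E (E ⧸ RingHom.ker φ)) ↔ _
    rw [← hx]
    change x ∈ (p'.map (algebraMap E (E ⧸ RingHom.ker φ))).comap
      (algebraMap E (E ⧸ RingHom.ker φ)) ↔ _
    rw [hcomap]
    change φ x ∈ q' ↔ _
    rw [h1, ← hq'c]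
    rfl

end Groth.Agent.S9452
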