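import Groth.Statements.S9472
import Groth.Agent.Diff16.K586.DiffOp

set_option autoImplicit false
universe u
open Diff16

namespace Groth.Agent.S9472

open TensorProduct in
/-- Let R → S → S' be ring maps with S → S' formally étale, M an S-module and (P, D_u) a module of
principal parts of order k of M relative to R → S, i.e. D_u : M → P is a differential operator of
order at most k through which every differential operator of order at most k from M to an S-module
factors by a unique S-linear map. If D_u' : S' ⊗_S M → S' ⊗_S P is a differential operator of order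
at most k relative to R → S' with D_u'(1 ⊗ m) = 1 ⊗ D_u(m), then (S' ⊗_S P, D_u') is a module of
principal parts of order k of S' ⊗_S M relative to R → S'. (The published statement writes this as
an identification of S' ⊗_S P^k_{S/R}(M) with P^k_{S'/R}(M') and forms M' by base change over R
rather than over S; with base change over R the identification fails already for k = 0, R the
rationals, S = S' a polynomial ring in one variable and M = S, and the published proof computes with
the base change over S, used here. Target modules are taken in one universe.) -/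
theorem result (R S S' : Type u) [CommRing R]
    [CommRing S] [CommRing S'] [Algebra R S] [Algebra R S'] [Algebra S S'] [IsScalarTower R S S']
    [Algebra.FormallyEtale S S'] (M : Type u) [AddCommGroup M] [Module S M] [Module R M]
    [IsScalarTower R S M] (k : ℕ) (P : Type u) [AddCommGroup P] [Module S P] [Module R P]
    [IsScalarTower R S P] (Du : M →ₗ[R] P) (hDu : Diff16.IsDiffOpLE R S M P k Du)
    (huniv : ∀ (N : Type u) [AddCommGroup N] [Module S N] [Module R N] [IsScalarTower R S N]
      (D : M →ₗ[R] N), Diff16.IsDiffOpLE R S M N k D → ∃! α : P →ₗ[S] N, α.restrictScalars R ∘ₗ Du = D)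
    (Du' : S' ⊗[S] M →ₗ[R] S' ⊗[S] P) (hDu' : Diff16.IsDiffOpLE R S' (S' ⊗[S] M) (S' ⊗[S] P) k Du')
    (hext : Du' ∘ₗ (TensorProduct.mk S S' M 1).restrictScalars R =
      (TensorProduct.mk S S' P 1).restrictScalars R ∘ₗ Du) :
    ∀ (N' : Type u) [AddCommGroup N'] [Module S' N'] [Module R N'] [IsScalarTower R S' N']
      (D' : S' ⊗[S] M →ₗ[R] N'), Diff16.IsDiffOpLE R S' (S' ⊗[S] M) N' k D' →
        ∃! α : S' ⊗[S] P →ₗ[S'] N', α.restrictScalars R ∘ₗ Du' = D' := by
  intro N' _ _ _ _ D' hD'
  letI : Module S N' := Module.compHom N' (algebraMap S S')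
  haveI : IsScalarTower S S' N' := IsScalarTower.of_algebraMap_smul fun _ _ => rfl
  haveI : IsScalarTower R S N' := by
    refine IsScalarTower.of_algebraMap_smul fun r x => ?_
    rw [← algebraMap_smul S' (algebraMap R S r) x, ← IsScalarTower.algebraMap_apply,
      algebraMap_smul]
  have hspan : ∀ (P : Type u) [AddCommGroup P] [Module S P],
      Submodule.span S' (Set.range (TensorProduct.mk S S' P 1)) = ⊤ := by
    intro P _ _
    rw [eq_top_iff]
    rintro x -
    induction x with
    | zero => exact zero_mem _
    | add x y hx hy => exact add_mem hx hy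
    | tmul a m =>
      have : a ⊗ₜ[S] m = a • ((1 : S') ⊗ₜ[S] m) := by
        rw [TensorProduct.smul_tmul', smul_eq_mul, mul_one]
      rw [this]
      exact Submodule.smul_mem _ _ (Submodule.subset_span ⟨m, rfl⟩)
  -- restriction of `D'` to `M`
  have hD0 : Diff16.IsDiffOpLE R S M N' k
      (D' ∘ₗ (TensorProduct.mk S S' M 1).restrictScalars R) := by
    refine K586.DiffOp.isDiffOpLE_precomp_linear (R := R) (S := S) (TensorProduct.mk S S' M 1) k D' ?_
    exact K586.DiffOp.isDiffOpLE_restrict (S' := S') k D' hD'
  obtain ⟨α₀, hα₀, huα₀⟩ := huniv N' _ hD0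
  let α : S' ⊗[S] P →ₗ[S'] N' := TensorProduct.AlgebraTensorModule.lift
    ((LinearMap.lsmul S' (P →ₗ[S] N')).flip α₀)
  have hα : ∀ (a : S') (p : P), α (a ⊗ₜ p) = a • α₀ p := fun a p => rfl
  refine ⟨α, ?_, ?_⟩
  · show α.restrictScalars R ∘ₗ Du' = D'
    rw [← sub_eq_zero]
    refine K586.DiffOp.eq_zero_of_formallyUnramified (R := R) (TensorProduct.mk S S' M 1) (hspan M) k _
      (K586.DiffOp.isDiffOpLE_sub k _ _ (K586.DiffOp.isDiffOpLE_comp_linear α k Du' hDu') hD') ?_
    intro m
    have h1 := LinearMap.congr_fun hext m
    have h2 := LinearMap.congr_fun hα₀ m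
    have h3 : Du' ((TensorProduct.mk S S' M 1) m) = (1 : S') ⊗ₜ[S] (Du m) := h1
    have h4 : α₀ (Du m) = D' ((TensorProduct.mk S S' M 1) m) := h2
    rw [LinearMap.sub_apply, LinearMap.comp_apply, h3, LinearMap.restrictScalars_apply, hα,
      one_smul, h4, sub_self]
  · intro β hβ
    have h5 : (β.restrictScalars S) ∘ₗ (TensorProduct.mk S S' P 1) = α₀ := by
      apply huα₀
      ext m
      have h1 := LinearMap.congr_fun hext m
      have h3 : Du' ((TensorProduct.mk S S' M 1) m) = (1 : S') ⊗ₜ[S] (Du m) := h1
      have h6 := LinearMap.congr_fun hβ ((TensorProduct.mk S S' M 1) m)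
      have h7 : β (Du' ((TensorProduct.mk S S' M 1) m)) = D' ((TensorProduct.mk S S' M 1) m) := h6
      rw [h3] at h7
      exact h7
    ext p
    have h8 := LinearMap.congr_fun h5 p
    show β (1 ⊗ₜ p) = α (1 ⊗ₜ p)
    rw [hα, one_smul]
    exact h8

end Groth.Agent.S9472
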