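import Groth.Statements.S9475
import Groth.Agent.Pi1.K154.LcAnn
import Groth.Agent.Pi1C.FormMain
import Groth.Agent.Pi1C.FormTrace123

set_option autoImplicit false
universe u
open Pi1

namespace Groth.Agent.S9475

open AlgebraicGeometry CategoryTheory CategoryTheory.Limits in
/-- Let A be a Noetherian local ring with maximal ideal m and f an element of m. Assume that A is
complete for the (f)-adic topology, that f is a nonzerodivisor, that the local cohomology modules
H^1_m(A/fA) and H^2_m(A/fA) are finite A-modules, and that purity holds for the local ring of A_f at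
each of its maximal ideals. Then restriction of finite etale covers from the punctured spectrum of A
to the punctured spectrum of A/fA is essentially surjective. -/
theorem result (A : Type u) [CommRing A] [IsNoetherianRing A] [IsLocalRing A] (f : A) (hf : f ∈ IsLocalRing.maximalIdeal A)
    [IsAdicComplete (Ideal.span {f}) A] (hnz : f ∈ nonZeroDivisors A)
    (h1 : Module.Finite A (LocCoh.H (IsLocalRing.maximalIdeal A) 1 (A ⧸ Ideal.span {f})))
    (h2 : Module.Finite A (LocCoh.H (IsLocalRing.maximalIdeal A) 2 (A ⧸ Ideal.span {f})))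
    (hp : ∀ P : Ideal (Localization.Away f), ∀ _ : P.IsMaximal, FEt.PurityHolds (Localization.AtPrime P)) :
    (FEt.restrict (pullback.fst (FEt.puncturedSpec A).ι (Spec.map (CommRingCat.ofHom (Ideal.Quotient.mk (Ideal.span {f})))))).EssSurj := by
  have hreg : ∀ a : A, f * a = 0 → a = 0 := fun a ha =>
    (mem_nonZeroDivisors_iff_right.1 hnz) a (by rw [mul_comm]; exact ha)
  have hts : Groth.Agent.Pi1C.FormMain.HasTraceSys.{u} := by
    intro A _ _ _ f _ hreg _ r g hg hrad V
    exact Groth.Agent.Pi1C.FormTrace123.exists_traceSys A f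
      (isSMulRegular_iff_right_eq_zero_of_smul.2 hreg) g hg hrad V
  obtain ⟨c, hc1, hc2, hc3⟩ := K154.LcAnn.exists_uniform f hf hreg h1 h2
  exact Groth.Agent.Pi1C.NbhdExt.essSurj_of_nbhdExt hf hp
    (Groth.Agent.Pi1C.FormMain.core hts A f hf hreg c 0 hc1 hc2 (fun i hi a ha x => by
      rw [pow_zero, one_mul]
      exact hc3 i hi a ha x))

end Groth.Agent.S9475
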