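import Groth.Statements.S9478
import Groth.Agent.Pi1.K154.InjMain

set_option autoImplicit false
universe u
open Pi1

namespace Groth.Agent.S9478

open AlgebraicGeometry CategoryTheory CategoryTheory.Limits in
/-- Let A be a regular local ring containing a field, with residue field κ(m), and let V be a scheme
etale and quasi-compact over Spec A whose structure morphism misses the closed point and factors as
an affine morphism g to the punctured spectrum of A. Then for every i > 0 the A-module H^i(V, O_V)
is A-linearly isomorphic to ⊕_ι E for some index type ι, where E is any injective hull of κ(m)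
(existence of an isomorphism only). -/
theorem result (A : Type u) [CommRing A] [IsRegularLocalRing A] (k : Type u) [Field k] [Algebra k A]
    (V : Scheme.{u}) [V.Over (Spec (CommRingCat.of A))]
    [Etale (V ↘ Spec (CommRingCat.of A))] [QuasiCompact (V ↘ Spec (CommRingCat.of A))]
    (g : V ⟶ (FEt.puncturedSpec A : Scheme.{u})) (hg : g ≫ (FEt.puncturedSpec A).ι = V ↘ Spec (CommRingCat.of A))
    [IsAffineHom g]
    (i : ℕ) (hi : 0 < i) (E : Type u) [AddCommGroup E] [Module A E] (e : IsLocalRing.ResidueField A →ₗ[A] E)
    (he : InjHull.IsInjectiveHull e) :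
    ∃ ι : Type u, Nonempty (Coh.HH V (Coh.structureModule V) i ≃ₗ[A] (ι →₀ E)) := by
  haveI := K154.InjTors.isSeparated (V ↘ Spec (CommRingCat.of A)) g hg
  haveI : CompactSpace V := (quasiCompact_iff_compactSpace (V ↘ Spec (CommRingCat.of A))).mp inferInstance
  haveI : QuasiSeparatedSpace V :=
    (quasiSeparated_iff_quasiSeparatedSpace (V ↘ Spec (CommRingCat.of A))).mp inferInstance
  exact K154.InjMain.main A k V g hg i hi E e he

end Groth.Agent.S9478
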