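import Groth.Statements.S9479
import Groth.Agent.Pi1.K154.PunctAff

set_option autoImplicit false
universe u
open Pi1

namespace Groth.Agent.S9479

open AlgebraicGeometry CategoryTheory CategoryTheory.Limits in
/-- Let A be a regular local ring containing a field, and let V be a scheme etale and quasi-compact over
Spec A whose structure morphism misses the closed point and factors as an affine morphism g to the
punctured spectrum of A. If H^i(V, O_V) = 0 for all i with i + 1 ≥ dim A, then V is affine. -/
theorem result (A : Type u) [CommRing A] [IsRegularLocalRing A] (k : Type u) [Field k] [Algebra k A]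
    (V : Scheme.{u}) [V.Over (Spec (CommRingCat.of A))]
    [Etale (V ↘ Spec (CommRingCat.of A))] [QuasiCompact (V ↘ Spec (CommRingCat.of A))]
    (g : V ⟶ (FEt.puncturedSpec A : Scheme.{u})) (hg : g ≫ (FEt.puncturedSpec A).ι = V ↘ Spec (CommRingCat.of A))
    [IsAffineHom g]
    (hv : ∀ i : ℕ, ringKrullDim A ≤ ((i + 1 : ℕ) : WithBot ℕ∞) → Subsingleton (Coh.HH V (Coh.structureModule V) i)) :
    IsAffine V := by
  have := K154.InjTors.isSeparated (V ↘ Spec (CommRingCat.of A)) g hg
  have : CompactSpace V := (quasiCompact_iff_compactSpace (V ↘ Spec (CommRingCat.of A))).mp inferInstance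
  have : QuasiSeparatedSpace V :=
    (quasiSeparated_iff_quasiSeparatedSpace (V ↘ Spec (CommRingCat.of A))).mp inferInstance
  exact K154.PunctAff.main A k V g hg hv

end Groth.Agent.S9479
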