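import Groth.Statements.S9485
import Groth.Agent.Pi1.K155.DimTwo

set_option autoImplicit false
universe u
open Pi1

namespace Groth.Agent.S9485

open AlgebraicGeometry CategoryTheory CategoryTheory.Limits in
/-- Let A be a Noetherian local ring with maximal ideal m and f ∈ m, U the punctured spectrum of A and
U₀ that of A/fA (realised as U ×_{Spec A} Spec(A/fA)). Let U' ⊆ U be an open through which U₀ ⟶ Spec
A factors (as u'). If dim(A/p) ≥ 2 for every minimal prime p of A which lies in U' and does not
contain f, then restriction of finite etale covers along u' is faithful. (Such U' exist, e.g. the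
complement in U of the one-dimensional irreducible components not meeting U₀, and the condition
passes to smaller such opens, so restriction from the system of these opens is faithful.) -/
theorem result (A : Type u) [CommRing A] [IsNoetherianRing A] [IsLocalRing A] (f : A) (hf : f ∈ IsLocalRing.maximalIdeal A)
    (U' : (Spec (CommRingCat.of A)).Opens) (hU' : U' ≤ FEt.puncturedSpec A)
    (u' : pullback (FEt.puncturedSpec A).ι (Spec.map (CommRingCat.ofHom (Ideal.Quotient.mk (Ideal.span {f})))) ⟶ (U' : Scheme.{u})) (hu' : u' ≫ U'.ι = (pullback.fst (FEt.puncturedSpec A).ι (Spec.map (CommRingCat.ofHom (Ideal.Quotient.mk (Ideal.span {f})))) ≫ (FEt.puncturedSpec A).ι))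
    (hdim : ∀ p : PrimeSpectrum A, p.asIdeal ∈ minimalPrimes A → p ∈ U' → f ∉ p.asIdeal →
      (2 : WithBot ℕ∞) ≤ ringKrullDim (A ⧸ p.asIdeal)) :
    (FEt.restrict u').Faithful := by
  have hclosed : ∀ y : PrimeSpectrum A, f ∈ y.asIdeal ↔ y ∈ Set.range
      (Spec.map (CommRingCat.ofHom (Ideal.Quotient.mk (Ideal.span {f})))) := by
    intro y
    have h4 : Set.range (Spec.map (CommRingCat.ofHom (Ideal.Quotient.mk (Ideal.span {f})))) =
        PrimeSpectrum.zeroLocus (Ideal.span {f} : Set A) := by
      have := range_comap_of_surjective (A ⧸ Ideal.span {f}) (Ideal.Quotient.mk (Ideal.span {f}))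
        Ideal.Quotient.mk_surjective
      rw [Ideal.mk_ker] at this
      exact this
    rw [h4]
    change _ ↔ (Ideal.span {f} : Set A) ⊆ _
    rw [SetLike.coe_subset_coe, Ideal.span_singleton_le_iff_mem]
  -- the points of `U'` over `V(f)` are in the image of `u'`
  have hrange : ∀ y : (U' : Scheme.{u}), f ∈ PrimeSpectrum.asIdeal (U'.ι y) → y ∈ Set.range u' := by
    intro y hy
    obtain ⟨z, hz⟩ := (hclosed _).1 hy
    have hyU : (U'.ι y) ∈ FEt.puncturedSpec A := hU' y.2
    obtain ⟨w, hw, -⟩ := Scheme.exists_preimage_of_isPullback (IsPullback.of_hasPullback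
      (FEt.puncturedSpec A).ι (Spec.map (CommRingCat.ofHom (Ideal.Quotient.mk (Ideal.span {f})))))
      ⟨U'.ι y, hyU⟩ z hz.symm
    refine ⟨w, U'.ι.isOpenEmbedding.injective ?_⟩
    rw [← Scheme.Hom.comp_apply, hu', Scheme.Hom.comp_apply, hw]
    rfl
  have hU0 : ∀ y : PrimeSpectrum A, y.asIdeal ≠ IsLocalRing.maximalIdeal A → f ∈ y.asIdeal →
      y ∈ U' := by
    intro y hy hfy
    obtain ⟨z, hz⟩ := (hclosed y).1 hfy
    have hyU : y ∈ FEt.puncturedSpec A := fun h => hy (congrArg PrimeSpectrum.asIdeal h)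
    obtain ⟨w, hw, -⟩ := Scheme.exists_preimage_of_isPullback (IsPullback.of_hasPullback
      (FEt.puncturedSpec A).ι (Spec.map (CommRingCat.ofHom (Ideal.Quotient.mk (Ideal.span {f})))))
      ⟨y, hyU⟩ z hz.symm
    have h1 : (U'.ι (u' w) : PrimeSpectrum A) = y := by
      rw [← Scheme.Hom.comp_apply, hu', Scheme.Hom.comp_apply, hw]
      rfl
    rw [← h1]
    exact (u' w).2
  apply Groth.Agent.Pi1A.ClopenCrit.restrict_faithful_of_isClopen
  intro T C hC hCe
  have hT : IsFinite T.hom := T.prop.1
  have hT2 : Etale T.hom := T.prop.2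
  refine K155.DimTwo.eq_empty_of_isClopen f hf U' hU0 hdim T.hom C hC ?_
  intro x hx hfx
  rw [Scheme.Hom.comp_apply] at hfx
  obtain ⟨w, hw⟩ := hrange _ hfx
  obtain ⟨z, hz, -⟩ := Scheme.exists_preimage_of_isPullback
    (IsPullback.of_hasPullback T.hom u') x w hw.symm
  have : z ∈ pullback.fst T.hom u' ⁻¹' C := by
    change pullback.fst T.hom u' z ∈ C
    rw [hz]
    exact hx
  rw [hCe] at this
  exact this

end Groth.Agent.S9485
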