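import Groth.Statements.S9487
import Groth.Agent.Pi1.K150.Final

set_option autoImplicit false
universe u
open Pi1

namespace Groth.Agent.S9487

open AlgebraicGeometry CategoryTheory CategoryTheory.Limits in
/-- S is integral, normal, quasi-compact and quasi-separated, with generic point η; f : X ⟶ S is smooth,
quasi-compact and quasi-separated, with connected geometric fibres, and σ is a section of f. Let Z
be a finite etale Galois cover of the generic fibre X_η = X ×_S Spec κ(η) (connected, with
automorphism group acting transitively on geometric fibres) whose automorphism group G has order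
invertible on S, and suppose Z has a κ(η)-rational point lying over the point σ(η) of X_η. Then
there is a finite etale cover Y of X whose restriction to X_η is isomorphic to Z; moreover Y is a
Galois cover whose automorphism group is isomorphic to G. -/
theorem result {S X : Scheme.{u}} [IsIntegral S] [CompactSpace S] [QuasiSeparatedSpace S] (hS : Pi1.IsNormalScheme S)
    (f : X ⟶ S) [Smooth f] [QuasiCompact f] [QuasiSeparated f]
    (hfib : ∀ (K : Type u) [Field K] [IsAlgClosed K] (t : Spec (CommRingCat.of K) ⟶ S), ConnectedSpace ↥(pullback f t))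
    (σ : S ⟶ X) (hσ : σ ≫ f = 𝟙 S)
    (Z : FEt.Cat (pullback f (S.fromSpecStalk (genericPoint S)))) (hZ : PiSp.IsGaloisCover Z)
    (hG : IsUnit ((Nat.card (Aut Z) : ℕ) : ↑(S.presheaf.obj (Opposite.op ⊤))))
    (hz : ∃ z : Spec (S.presheaf.stalk (genericPoint S)) ⟶ Z.left,
      z ≫ Z.hom ≫ pullback.fst f (S.fromSpecStalk (genericPoint S)) = (S.fromSpecStalk (genericPoint S)) ≫ σ ∧
      z ≫ Z.hom ≫ pullback.snd f (S.fromSpecStalk (genericPoint S)) = 𝟙 _) :
    ∃ Y : FEt.Cat X, Nonempty ((FEt.restrict (pullback.fst f (S.fromSpecStalk (genericPoint S)))).obj Y ≅ Z) ∧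
      PiSp.IsGaloisCover Y ∧ Nonempty (Aut Y ≃* Aut Z) := by
  exact K150.Final.finish hS f hfib Z hZ hG (fun hfin hpr => by
    obtain ⟨z, hz1, hz2⟩ := hz
    exact K150.Final.main1 hS f hfib σ hσ (IsPullback.of_hasPullback f (S.fromSpecStalk (genericPoint S))) Z
      (Aut Z) (MonoidHom.id _) hpr z hz1 hz2 hG)

end Groth.Agent.S9487
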