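import Groth.Statements.S9488
import Groth.Agent.Pi1.K71.NormPt

set_option autoImplicit false
universe u
open Pi1

namespace Groth.Agent.S9488

open AlgebraicGeometry CategoryTheory CategoryTheory.Limits in
/-- The criterion by the cardinality of a geometric fibre, in the local form its proof establishes: X is
an integral scheme with integrally closed local rings and function field K; L is a finite field
extension of K and ν : Y ⟶ X the normalization of X in Spec L. Let ξ : Spec Ω ⟶ X be a geometric
point (Ω algebraically closed) such that the fibre of ν over ξ is etale and ν has at least [L : K]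
distinct Ω-points lying over ξ. Then ν is finite etale over some open neighbourhood of the image of
ξ. Consequently ν is finite etale as soon as every scheme-theoretic fibre of ν is etale of degree at
least [L : K]. -/
theorem result {X : Scheme.{u}} [IsIntegral X] (hX : Pi1.IsNormalScheme X)
    (L : Type u) [Field L] [Algebra X.functionField L] [FiniteDimensional X.functionField L]
    [QuasiCompact (Spec.map (CommRingCat.ofHom (algebraMap X.functionField L)) ≫ X.fromSpecStalk (genericPoint X))] [QuasiSeparated (Spec.map (CommRingCat.ofHom (algebraMap X.functionField L)) ≫ X.fromSpecStalk (genericPoint X))]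
    (Ω : Type u) [Field Ω] [IsAlgClosed Ω] (ξ : Spec (CommRingCat.of Ω) ⟶ X)
    (het : Etale (pullback.snd (Spec.map (CommRingCat.ofHom (algebraMap X.functionField L)) ≫ X.fromSpecStalk (genericPoint X)).fromNormalization ξ))
    (hcard : Nonempty (Fin (Module.finrank X.functionField L) ↪
      {η : Spec (CommRingCat.of Ω) ⟶ (Spec.map (CommRingCat.ofHom (algebraMap X.functionField L)) ≫ X.fromSpecStalk (genericPoint X)).normalization // η ≫ (Spec.map (CommRingCat.ofHom (algebraMap X.functionField L)) ≫ X.fromSpecStalk (genericPoint X)).fromNormalization = ξ})) :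
    ∃ U : X.Opens, Set.range ξ.base ⊆ (U : Set X) ∧
      Etale (pullback.snd (Spec.map (CommRingCat.ofHom (algebraMap X.functionField L)) ≫ X.fromSpecStalk (genericPoint X)).fromNormalization U.ι) ∧
      IsFinite (pullback.snd (Spec.map (CommRingCat.ofHom (algebraMap X.functionField L)) ≫ X.fromSpecStalk (genericPoint X)).fromNormalization U.ι) := by
  classical
  obtain ⟨U, hU, hxU⟩ : ∃ U : X.Opens, IsAffineOpen U ∧ ∀ ω, ξ ω ∈ U := by
    obtain ⟨_, ⟨U, hU, rfl⟩, hxU, -⟩ := X.isBasis_affineOpens.exists_subset_of_mem_open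
      (Set.mem_univ (ξ (IsLocalRing.closedPoint Ω))) isOpen_univ
    refine ⟨U, hU, fun ω => ?_⟩
    have : ω = IsLocalRing.closedPoint Ω := by
      let _ : Unique (PrimeSpectrum Ω) := PrimeSpectrum.instUnique
      exact Subsingleton.elim (α := PrimeSpectrum Ω) _ _
    rw [this]
    exact hxU
  have hne : Nonempty U := ⟨⟨_, hxU (IsLocalRing.closedPoint Ω)⟩⟩
  have hξU : ⊤ ≤ ξ ⁻¹ᵁ U := fun ω _ => hxU ω
  obtain ⟨ε⟩ := hcard
  let ν := (K71.NormPt.gen (X := X) L).fromNormalization
  have := Groth.Agent.S0288.isIntegrallyClosed_section hX hU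
  have := functionField_isFractionRing_of_isAffineOpen X U hU
  let φ : Γ(X, U) →+* Ω := (K71.NormPt.ev ξ U hξU).hom
  have hpre : ∀ j, ⊤ ≤ (ε j).1 ⁻¹ᵁ (ν ⁻¹ᵁ U) := by
    intro j
    rw [← Scheme.Hom.comp_preimage]
    have := (ε j).2
    change ⊤ ≤ ((ε j).1 ≫ ν) ⁻¹ᵁ U
    rw [show (ε j).1 ≫ ν = ξ from this]
    exact hξU
  let ψ : Fin (Module.finrank X.functionField L) →
      (Γ((K71.NormPt.gen (X := X) L).normalization, ν ⁻¹ᵁ U) →+* Ω) :=
    fun j => (K71.NormPt.ev (ε j).1 (ν ⁻¹ᵁ U) (hpre j)).hom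
  let _ : Algebra Γ(X, U) Γ((K71.NormPt.gen (X := X) L).normalization, ν ⁻¹ᵁ U) :=
    (ν.app U).hom.toAlgebra
  have hint : Algebra.IsIntegral Γ(X, U)
      Γ((K71.NormPt.gen (X := X) L).normalization, ν ⁻¹ᵁ U) := by
    have h1 : (ν.app U).hom.IsIntegral := ν.isIntegral_app U hU
    exact ⟨h1⟩
  have hψφ : ∀ j, (ψ j).comp (algebraMap Γ(X, U) _) = φ := by
    intro j
    have h1 := K71.NormPt.ev_comp (ε j).1 ν U (hpre j)
    have h2 := K71.NormPt.ev_congr (show (ε j).1 ≫ ν = ξ from (ε j).2) U (hpre j)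
    rw [h1] at h2
    exact congr(($h2).hom)
  have hψ : Function.Injective ψ := by
    intro j j' hj
    apply ε.injective
    apply Subtype.ext
    have h1 := K71.NormPt.SpecMap_ev (ε j).1 (hU.preimage ν) (hpre j)
    have h2 := K71.NormPt.SpecMap_ev (ε j').1 (hU.preimage ν) (hpre j')
    rw [← h1, ← h2]
    have h3 : K71.NormPt.ev (ε j).1 (ν ⁻¹ᵁ U) (hpre j) = K71.NormPt.ev (ε j').1 (ν ⁻¹ᵁ U) (hpre j') :=
      CommRingCat.hom_ext hj
    rw [h3]
  obtain ⟨b, d, hd, hφd⟩ := K71.CharInt.exists_discr (K71.NormPt.toL L U).hom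
    (K71.NormPt.toL_injective L U hU) (congr(($(K71.NormPt.app_toL L U)).hom)) φ ψ hψ hψφ
  let W := X.basicOpen d
  have hW : IsAffineOpen W := hU.basicOpen d
  have hWU : W ≤ U := X.basicOpen_le d
  have hξW : ∀ ω, ξ ω ∈ W := by
    have h1 : IsUnit (ξ.appLE U ⊤ hξU d) := by
      have h2 : IsUnit (K71.NormPt.ev ξ U hξU d) := IsUnit.mk0 _ hφd
      rw [K71.NormPt.ev, CommRingCat.comp_apply] at h2
      exact (MulEquiv.isUnit_map
        (Scheme.ΓSpecIso (CommRingCat.of Ω)).commRingCatIsoToRingEquiv).1 h2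
    have h3 := Scheme.basicOpen_appLE ξ ⊤ U hξU d
    rw [Scheme.basicOpen_of_isUnit _ h1, top_inf_eq] at h3
    intro ω
    have h4 : ω ∈ ξ ⁻¹ᵁ X.basicOpen d := by rw [← h3]; trivial
    exact h4
  have : Nonempty W := ⟨⟨_, hξW (IsLocalRing.closedPoint Ω)⟩⟩
  have hres : (algebraMap Γ(X, W) X.functionField).comp (X.presheaf.map (homOfLE hWU).op).hom =
      algebraMap Γ(X, U) X.functionField := by
    refine RingHom.ext fun r => ?_
    exact congr($(X.presheaf.germ_res (homOfLE hWU) (genericPoint X)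
      (K71.NormPt.genericPoint_mem W)) r)
  have key := K71.NormPt.finite_etale_app L hX W hW (fun k => K71.NormPt.toL L U (b k))
    (fun k => by
      have h1 : (ν.app U).hom.IsIntegralElem (b k) := ν.isIntegral_app U hU (b k)
      have h2 := h1.map (K71.NormPt.toL L U).hom
      have h3 : (K71.NormPt.toL L U).hom.comp (ν.app U).hom =
        (algebraMap X.functionField L).comp (algebraMap Γ(X, U) X.functionField) :=
        congr(($(K71.NormPt.app_toL L U)).hom)
      rw [h3, ← hres, ← RingHom.comp_assoc] at h2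
      exact h2.of_comp)
    (X.presheaf.map (homOfLE hWU).op d) (RingedSpace.isUnit_res_basicOpen _ d) (by
      rw [← hd, ← hres]
      rfl)
  have het' : Etale (ν ∣_ W) := K71.NormPt.etale_restrict ν W hW key.2
  have hfin' : IsFinite (ν ∣_ W) := by
    rw [IsFinite.iff_isIntegralHom_and_locallyOfFiniteType]
    exact ⟨inferInstance, inferInstance⟩
  refine ⟨W, ?_, ?_, ?_⟩
  · rintro _ ⟨ω, rfl⟩
    exact hξW ω
  · rw [← pullbackRestrictIsoRestrict_hom_morphismRestrict]
    infer_instance
  · rw [← pullbackRestrictIsoRestrict_hom_morphismRestrict]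
    infer_instance

end Groth.Agent.S9488
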