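import Groth.Statements.S9489
import Groth.Agent.Fdesc.LefEt
import Groth.Agent.Sga2.LefQcoh
import Groth.Agent.Ega2.QCohLocal
-- import your own Groth.Agent.* helpers here

set_option autoImplicit false
universe u
open Lef

namespace Groth.Agent.S9489

open AlgebraicGeometry CategoryTheory CategoryTheory.Limits in
/-- The quasi-affine alternative and the finite-locally-free alternative: Let X be a Noetherian scheme,
𝓘 a quasi-coherent ideal sheaf with closed subscheme Y = V(𝓘) and infinitesimal neighbourhoods Y_n =
V(𝓘^(n+1)). Assume either that X is quasi-affine and the map Γ(X, O_X) → lim_n Γ(Y_n, O_{Y_n}) is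
bijective, or that for every finite locally free O_X-module D the map Hom(D, O_X) → lim_n Hom(D,
O_X/𝓘^(n+1)) is bijective (equivalently Γ(X, E) → lim_n Γ(Y_n, E|_{Y_n}) is bijective for every
finite locally free E). Then restriction of finite etale covers from X to Y is fully faithful. (The
case of an ample invertible module with the analogous condition on its large powers is not included
here.) -/
theorem result (X : Scheme.{u}) [IsNoetherian X] (𝓘 : X.IdealSheafData)
    (h : (X.IsQuasiAffine ∧ Lef.HomToFormalBijective 𝓘 (Coh.structureModule X)) ∨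
      (∀ D : X.Modules, FlatMod.IsFinLocFree D → Lef.HomToFormalBijective 𝓘 D)) :
    (FEt.restrict 𝓘.subschemeι).Full ∧ (FEt.restrict 𝓘.subschemeι).Faithful := by
  refine Groth.Agent.Fdesc.LefEt.restrict_fullyFaithful 𝓘 fun D hD => ?_
  rcases h with ⟨hq, h⟩ | h
  · haveI := hq
    haveI : QuasiCompact X.toSpecΓ := inferInstance
    exact Groth.Agent.Sga2.LefQcoh.bijective_of_isQCoh X.toSpecΓ D
      (Groth.Agent.Ega2.QCohLocal.isQCoh_of_isFinLocFree hD)
      (Groth.Agent.Sga2.LefBasic.gammaComplete_of_homToFormalBijective _ h)
  · exact h D hD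

end Groth.Agent.S9489
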