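import Groth.Statements.S9490
import Groth.Agent.Pi1.K128.AdicPure
import Groth.Agent.LefX.K177.GamComp
-- import your own Groth.Agent.* helpers here

set_option autoImplicit false
universe u
open Pi1

namespace Groth.Agent.S9490

open AlgebraicGeometry CategoryTheory CategoryTheory.Limits in
/-- Let A → B be a local homomorphism of Noetherian local rings. Assume depth A ≥ 2, that the map is
formally smooth when B carries its m_B-adic topology, and that the Krull dimension of A is strictly
below that of B. Let V ⊆ Spec B be an open subset containing every prime q of B whose contraction to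
A is not the maximal ideal m_A, and containing the prime m_A B. Then restriction of finite etale
covers from Spec B to V is an equivalence of categories. (Taking V to be the punctured spectrum
shows that purity holds for B.) -/
theorem result (A B : Type u) [CommRing A] [IsNoetherianRing A] [IsLocalRing A]
    [CommRing B] [IsNoetherianRing B] [IsLocalRing B] [Algebra A B] [IsLocalHom (algebraMap A B)]
    (hdepth : (2 : ℕ∞) ≤ LocCoh.depth A A)
    (hfs : CAlgX.IsAdicFormallySmooth A B (IsLocalRing.maximalIdeal B))
    (hdim : ringKrullDim A < ringKrullDim B)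
    (V : (Spec (CommRingCat.of B)).Opens)
    (hV1 : ∀ q : PrimeSpectrum B, q.asIdeal.comap (algebraMap A B) ≠ IsLocalRing.maximalIdeal A → q ∈ V)
    (hV2 : ∀ q : PrimeSpectrum B, q.asIdeal = (IsLocalRing.maximalIdeal A).map (algebraMap A B) → q ∈ V) :
    (FEt.restrict V.ι).IsEquivalence := by
  have key : ∀ z : PrimeSpectrum B, (show (Spec (CommRingCat.of B) : Scheme.{u}) from z) ∉ V →
      FEt.PurityHolds (Localization.AtPrime z.asIdeal) ∧
      (2 : ℕ∞) ≤ LocCoh.depth (Localization.AtPrime z.asIdeal) (Localization.AtPrime z.asIdeal) := by
    intro z hz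
    refine K128.AdicPure.purityHolds_atPrime hdepth hfs z.asIdeal ?_ fun h => hz (hV2 z h)
    by_contra h
    exact hz (hV1 z h)
  exact Groth.Agent.Sga2lef.H89.HtpCore.isEquivalence_flat (X := Spec (CommRingCat.of B))
    (Z := Spec (CommRingCat.of B)) V (fun x hx => by
      let _ : Algebra B ((Spec (CommRingCat.of B)).presheaf.stalk x) :=
        (PerfC.TildeStalk.alpha (R := CommRingCat.of B) x).toAlgebra
      have hp : (PrimeSpectrum.asIdeal (R := B) x).IsPrime := PrimeSpectrum.isPrime (R := B) x
      have : IsLocalization.AtPrime ((Spec (CommRingCat.of B)).presheaf.stalk x)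
          (PrimeSpectrum.asIdeal (R := B) x) :=
        PerfC.TildeStalk.isLocalization_alpha (R := CommRingCat.of B) x
      rw [Groth.Agent.Ega4C.FlatLocal.depth_self_congr
        (IsLocalization.algEquiv (PrimeSpectrum.asIdeal (R := B) x).primeCompl
          ((Spec (CommRingCat.of B)).presheaf.stalk x)
          (Localization.AtPrime (PrimeSpectrum.asIdeal (R := B) x))).toRingEquiv]
      exact (key x hx).2) (𝟙 _) fun z hz => Groth.Agent.Pi1B.CIGlue.purityHolds_stalk z (key z hz).1

end Groth.Agent.S9490
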