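import Groth.Statements.S9493
import Groth.Agent.Lef.K183.TraceIso
import Groth.Agent.Lef.K183.ZeroLevel

set_option autoImplicit false
universe u
open Lef

namespace Groth.Agent.S9493

open AlgebraicGeometry CategoryTheory CategoryTheory.Limits in
/-- Let X be a Noetherian scheme and 𝓘 a quasi-coherent ideal sheaf with closed subscheme Y = V(𝓘).
Assume the completion functor along 𝓘 restricts to an equivalence between finite locally free
O_X-modules and levelwise finite locally free systems of modules on the completion of X along 𝓘: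
Hom(F, G) → Hom(F^, G^) is bijective for all finite locally free F, G, and every system of modules
all of whose levels are finite locally free is isomorphic to F^ for some finite locally free F. Then
restriction of finite etale covers from X to Y is an equivalence of categories. -/
theorem result (X : Scheme.{u}) [IsNoetherian X] (𝓘 : X.IdealSheafData)
    (h : (∀ F G : X.Modules, FlatMod.IsFinLocFree F → FlatMod.IsFinLocFree G →
      Function.Bijective (fun φ : F ⟶ G => FSch.complModMap 𝓘 φ)))
    (hess : ∀ 𝔐 : FSch.ModSys (FSch.completionAlong X 𝓘), LefX.LevelwiseFinLocFree 𝔐 →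
      ∃ F : X.Modules, FlatMod.IsFinLocFree F ∧ Nonempty (FSch.complMod 𝓘 F ≅ 𝔐)) :
    (FEt.restrict 𝓘.subschemeι).IsEquivalence := by
  have hH : ∀ D : X.Modules, FlatMod.IsFinLocFree D → Lef.HomToFormalBijective 𝓘 D := fun D hD =>
    (K183.ComplHom.homToFormalBijective_iff 𝓘 D).2
      (h D (Coh.structureModule X) hD (Groth.Agent.Sga2.LefBasic.isFinLocFree_structureModule X))
  obtain ⟨hfull, hfaith⟩ := Groth.Agent.Fdesc.LefEt.restrict_fullyFaithful 𝓘 hH
  refine ⟨hfaith, hfull, ⟨fun R => ?_⟩⟩
  obtain ⟨T, hT⟩ := K183.IdTower.exists_tower 𝓘 ((FEt.restrict (K183.IdTower.e0 𝓘)).obj R)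
  obtain ⟨M, hM, ⟨α⟩⟩ := hess T.modSys T.levelwiseFinLocFree
  obtain ⟨D, rfl⟩ := K183.IdAlg.exists_algData hH T hM α
  obtain ⟨R', hR'⟩ := D.exists_cover_of_etale
    (Groth.Agent.PerfA.CohSerre.isCoh_of_isFinLocFree hM) (K183.TraceIso.etale_π D h hM)
  obtain ⟨e⟩ := hR' 0
  have e' : (FEt.restrict (K183.IdTower.e0 𝓘 ≫ 𝓘.subschemeι)).obj R' ≅
      (FEt.restrict (K183.IdTower.e0 𝓘)).obj R :=
    (Groth.Agent.Pi1C.PurityQuot.restrictCongr (K183.IdTower.e0_subschemeι 𝓘)).app R' ≪≫ e ≪≫
      eqToIso hT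
  exact ⟨R', K183.IdTower.descend0 𝓘.subschemeι R' R e'⟩

end Groth.Agent.S9493
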