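import Groth.Statements.S9494
import Groth.Agent.Pi1.K155.InertInd
import Groth.Agent.Pi1.K155.InertInf

set_option autoImplicit false
universe u
open Pi1

namespace Groth.Agent.S9494

/-- Let A be an integrally closed domain with fraction field K, L/K a (possibly infinite) Galois
extension with group G = Gal(L/K), B the integral closure of A in L and q a prime of B. Let I ⊆ G be
the inertia group of q: the automorphisms σ with σ(b) - b ∈ q for every b ∈ B. Then the localization
of the ring of invariants B^I = B ∩ L^I at the prime q ∩ B^I is an ind-etale A-algebra, i.e. a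
filtered colimit of etale A-algebras. -/
theorem result (A K L : Type u) [CommRing A] [IsDomain A] [IsIntegrallyClosed A]
    [Field K] [Field L] [Algebra A K] [IsFractionRing A K] [Algebra K L] [Algebra A L] [IsScalarTower A K L]
    [IsGalois K L] (q : Ideal (integralClosure A L)) [q.IsPrime]
    (I : Subgroup (L ≃ₐ[K] L))
    (hI : ∀ σ : L ≃ₐ[K] L, σ ∈ I ↔ ∀ b : integralClosure A L, ∃ c ∈ q, (c : L) = σ b - b) :
    EtPBC.IsIndEtale A (Localization.AtPrime
      (q.comap (Subalgebra.inclusion
        (inf_le_left : integralClosure A L ⊓ (IntermediateField.fixedField I).toSubalgebra.restrictScalars A ≤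
          integralClosure A L)))) := by
  classical
  set S : Subalgebra A L := integralClosure A L ⊓
    (IntermediateField.fixedField I).toSubalgebra.restrictScalars A with hS
  have htf : Module.IsTorsionFree A L := by
    have : FaithfulSMul A L := by
      rw [faithfulSMul_iff_algebraMap_injective, IsScalarTower.algebraMap_eq A K L]
      exact (algebraMap K L).injective.comp (IsFractionRing.injective A K)
    infer_instance
  have htS : Module.IsTorsionFree A S := inferInstance
  refine K155.InertInd.isIndEtale_of_theta (S := S) (q.comap (Subalgebra.inclusion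
    (inf_le_left : S ≤ integralClosure A L))) fun T => ?_
  obtain ⟨θ, h1, h2, h3, h4⟩ := K155.InertInf.exists_theta (K := K) q
    ((fun x : S => (x : L)) '' (T : Set S)) ((Finset.finite_toSet T).image _) (by
      rintro _ ⟨x, -, rfl⟩
      exact x.2.1) (by
      rintro σ hσ _ ⟨x, -, rfl⟩
      exact (IntermediateField.mem_fixedField_iff I _).mp x.2.2 σ ((hI σ).mpr hσ))
  have hθS : θ ∈ S := ⟨h1, (IntermediateField.mem_fixedField_iff I _).mpr fun σ hσ =>
    h2 σ ((hI σ).mp hσ)⟩
  let θS : S := ⟨θ, hθS⟩
  have hinj : Function.Injective (algebraMap S L) := Subtype.val_injective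
  have hint : IsIntegral A θS := (isIntegral_algebraMap_iff hinj).mp h1
  have hmin : minpoly A θS = minpoly A θ := (minpoly.algebraMap_eq hinj θS).symm
  have hev : ∀ p : Polynomial A, ((Polynomial.aeval θS p : S) : L) = Polynomial.aeval θ p :=
    fun p => (Polynomial.aeval_algebraMap_apply L θS p).symm
  refine ⟨θS, hint, ?_, ?_⟩
  · intro hmem
    exact h3 _ (by rw [← hmin, ← hev]; rfl) (Ideal.mem_comap.mp hmem)
  · intro x hx
    obtain ⟨p, hp⟩ := h4 x ⟨x, hx, rfl⟩
    refine ⟨p, Subtype.ext ?_⟩
    rw [hev, ← hp, hmin]
    change ((Polynomial.aeval θS _ : S) : L) * _ = _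
    rw [hev]

end Groth.Agent.S9494
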