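import Groth.Statements.S9496
import Groth.Agent.PerfB.TildeExact

set_option autoImplicit false
universe u
open AffSch

namespace Groth.Agent.S9496

open AlgebraicGeometry CategoryTheory Limits in
theorem aux (R : CommRingCat.{u}) {M N : (Spec R).Modules}
    [hM0 : Coh.IsQCoh M] [hN0 : Coh.IsQCoh N] (φ : M ⟶ N) :
    Coh.IsQCoh (kernel φ) ∧ Coh.IsQCoh (cokernel φ) := by
  have hlim := Groth.Agent.PerfB.TildeExact.preservesFiniteLimits_tilde R
  have : PreservesColimits (tilde.functor R) :=
    tilde.adjunction.leftAdjoint_preservesColimits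
  have hT : ∀ K : ModuleCat R, Coh.IsQCoh ((tilde.functor R).obj K) := fun K =>
    inferInstanceAs (((tilde.functor R).obj K).IsQuasicoherent)
  have hiso : ∀ {K L : (Spec R).Modules} (_ : K ≅ L), Coh.IsQCoh K → Coh.IsQCoh L :=
    fun e h => (SheafOfModules.isQuasicoherent (Spec R).ringCatSheaf).prop_of_iso e h
  have hM : (tilde.functor R).essImage M := by
    rw [essImage_tilde]; exact hM0
  have hN : (tilde.functor R).essImage N := by
    rw [essImage_tilde]; exact hN0
  obtain ⟨M', ⟨eM⟩⟩ := hM
  obtain ⟨N', ⟨eN⟩⟩ := hN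
  let ψ : M' ⟶ N' := (tilde.functor R).preimage (eM.hom ≫ φ ≫ eN.inv)
  have hψ : (tilde.functor R).map ψ = eM.hom ≫ φ ≫ eN.inv := (tilde.functor R).map_preimage _
  have hsq : (tilde.functor R).map ψ ≫ eN.hom = eM.hom ≫ φ := by rw [hψ]; simp
  refine ⟨?_, ?_⟩
  · exact hiso ((PreservesKernel.iso (tilde.functor R) ψ) ≪≫
      kernel.mapIso ((tilde.functor R).map ψ) φ eM eN hsq) (hT _)
  · exact hiso ((PreservesCokernel.iso (tilde.functor R) ψ) ≪≫
      cokernel.mapIso ((tilde.functor R).map ψ) φ eM eN hsq) (hT _)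


open AlgebraicGeometry in
open CategoryTheory Limits in
/-- Let X = Spec A be an affine scheme and φ : M → N a morphism of quasi-coherent O_X-modules. Then the
kernel and the cokernel of φ, computed in the category of all O_X-modules, are quasi-coherent. -/
theorem result
    (A : Type u) [CommRing A] {M N : (Spec (CommRingCat.of A)).Modules}
    [Coh.IsQCoh M] [Coh.IsQCoh N] (φ : M ⟶ N) :
    Coh.IsQCoh (kernel φ) ∧ Coh.IsQCoh (cokernel φ) := by
  exact aux (CommRingCat.of A) φ

end Groth.Agent.S9496
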