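import Groth.Statements.S9497

set_option autoImplicit false
universe u
open AffSch

namespace Groth.Agent.S9497

open AlgebraicGeometry CategoryTheory Limits in
theorem aux (R : CommRingCat.{u}) {J : Type u} [SmallCategory J]
    (F : J ⥤ (Spec R).Modules) (hF : ∀ j, Coh.IsQCoh (F.obj j)) :
    Coh.IsQCoh (colimit F) := by
  have : PreservesColimits (tilde.functor R) :=
    tilde.adjunction.leftAdjoint_preservesColimits
  let G := F ⋙ moduleSpecΓFunctor (R := R)
  have hFj : ∀ j, IsIso ((tilde.adjunction (R := R)).counit.app (F.obj j)) := fun j =>
    (isQuasicoherent_iff_isIso_fromTildeΓ _).1 (hF j)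
  let e : G ⋙ tilde.functor R ≅ F := NatIso.ofComponents
    (fun j => haveI := hFj j; asIso ((tilde.adjunction (R := R)).counit.app (F.obj j)))
    (fun f => (tilde.adjunction (R := R)).counit.naturality (F.map f))
  exact (SheafOfModules.isQuasicoherent (Spec R).ringCatSheaf).prop_of_iso
    (preservesColimitIso (tilde.functor R) G ≪≫ HasColimit.isoOfNatIso e)
    (inferInstanceAs (((tilde.functor R).obj (colimit G)).IsQuasicoherent))


open AlgebraicGeometry in
open CategoryTheory Limits in
/-- Let X = Spec A be an affine scheme and F : J → Mod(O_X) a small diagram of quasi-coherent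
O_X-modules. Then the colimit of F, computed in the category of all O_X-modules, is quasi-coherent
(this contains the case of arbitrary direct sums). -/
theorem result
    (A : Type u) [CommRing A] {J : Type u} [SmallCategory J]
    (F : J ⥤ (Spec (CommRingCat.of A)).Modules) (hF : ∀ j, Coh.IsQCoh (F.obj j)) :
    Coh.IsQCoh (colimit F) := by
  exact aux (CommRingCat.of A) F hF

end Groth.Agent.S9497
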