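import Groth.Statements.S9499
import Groth.Agent.SchMor.K586.MonoDiscrete

set_option autoImplicit false
universe u
open SchMor

namespace Groth.Agent.S9499

open AlgebraicGeometry in
open CategoryTheory in
/-- Let (k_i) be a finite family of fields and f : X → Spec(∏_i k_i) a monomorphism of schemes. Then
there are a subset I of the index set and an isomorphism X ≅ Spec(∏_{i∈I} k_i) over Spec(∏_i k_i),
where Spec(∏_{i∈I} k_i) maps to Spec(∏_i k_i) through the projection ring homomorphism ∏_i k_i →
∏_{i∈I} k_i. -/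
theorem result
    {ι : Type u} [Finite ι] (k : ι → Type u) [∀ i, Field (k i)]
    {X : Scheme.{u}} (f : X ⟶ Spec (CommRingCat.of (Π i, k i))) [Mono f] :
    ∃ (I : Set ι) (e : X ≅ Spec (CommRingCat.of (Π i : I, k i))),
      e.hom ≫ Spec.map (CommRingCat.ofHom (Pi.ringHom fun i : I => Pi.evalRingHom k i.1)) = f := by
  let S : Scheme.{u} := Spec (CommRingCat.of (Π i, k i))
  have hd : DiscreteTopology S :=
    inferInstanceAs (DiscreteTopology (PrimeSpectrum (Π i, k i)))
  have hr : IsReduced S := by
    infer_instance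
  have hf : IsOpenImmersion f := K586.MonoDiscrete.isOpenImmersion_of_mono (S := S) f
  let I : Set ι := {i | Set.range (Spec.map (CommRingCat.ofHom (Pi.evalRingHom k i))) ⊆ Set.range f}
  let g : Spec (CommRingCat.of (Π i : I, k i)) ⟶ S :=
    Spec.map (CommRingCat.ofHom (Pi.ringHom fun i : I => Pi.evalRingHom k i.1))
  have hm : Mono g := by
    have : IsClosedImmersion g := by
      refine IsClosedImmersion.spec_of_surjective _ ?_
      classical
      intro x
      refine ⟨fun i => if h : i ∈ I then x ⟨i, h⟩ else 0, ?_⟩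
      funext j
      show (if h : j.1 ∈ I then x ⟨j.1, h⟩ else 0) = x j
      rw [dif_pos j.2]
    infer_instance
  have hg : IsOpenImmersion g := K586.MonoDiscrete.isOpenImmersion_of_mono (S := S) g
  have hrange : Set.range f = Set.range g := by
    have hι : ∀ (i : ι) (x y : S),
        x ∈ Set.range (Spec.map (CommRingCat.ofHom (Pi.evalRingHom k i))) →
        y ∈ Set.range (Spec.map (CommRingCat.ofHom (Pi.evalRingHom k i))) → x = y := by
      rintro i _ _ ⟨a, rfl⟩ ⟨b, rfl⟩
      have : a = b := Subsingleton.elim (α := PrimeSpectrum (k i)) a b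
      rw [this]
    have hfac : ∀ (j : I), Spec.map (CommRingCat.ofHom (Pi.evalRingHom (fun i : I => k i) j)) ≫ g =
        Spec.map (CommRingCat.ofHom (Pi.evalRingHom k j.1)) := by
      intro j
      rw [← Spec.map_comp, ← CommRingCat.ofHom_comp]
      rfl
    apply Set.eq_of_subset_of_subset
    · intro x hx
      obtain ⟨i, q, hq⟩ := PrimeSpectrum.exists_comap_evalRingHom_eq (ι := ι) (R := k) x
      have hq' : Spec.map (CommRingCat.ofHom (Pi.evalRingHom k i)) q = x := hq
      have hi : i ∈ I := by
        intro z hz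
        rw [hι i z x hz ⟨q, hq'⟩]
        exact hx
      refine ⟨Spec.map (CommRingCat.ofHom (Pi.evalRingHom (fun i : I => k i) ⟨i, hi⟩)) q, ?_⟩
      rw [← Scheme.Hom.comp_apply, hfac, hq']
    · rintro _ ⟨z, rfl⟩
      obtain ⟨j, q, hq⟩ := PrimeSpectrum.exists_comap_evalRingHom_eq (ι := I) (R := fun i : I => k i) z
      have hq' : Spec.map (CommRingCat.ofHom (Pi.evalRingHom (fun i : I => k i) j)) q = z := hq
      rw [← hq', ← Scheme.Hom.comp_apply, hfac]
      exact j.2 ⟨q, rfl⟩
  exact ⟨I, IsOpenImmersion.isoOfRangeEq f g hrange, IsOpenImmersion.isoOfRangeEq_hom_fac f g hrange⟩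

end Groth.Agent.S9499
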