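import Groth.Statements.S9500
import Groth.Agent.SchMor.K586.MonoDiscrete

set_option autoImplicit false
universe u
open SchMor

namespace Groth.Agent.S9500

open AlgebraicGeometry in
open CategoryTheory Limits in
/-- Let (k_i)_{i ∈ ι} be a family of fields, X = ∐_i Spec(k_i) the disjoint union, and f : Y → X a
monomorphism of schemes. Then there are a subset J of ι and an isomorphism Y ≅ ∐_{j ∈ J} Spec(k_j)
over X, where ∐_{j ∈ J} Spec(k_j) maps to X by the coproduct inclusions. -/
theorem result
    {ι : Type u} (k : ι → Type u) [∀ i, Field (k i)]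
    {Y : Scheme.{u}} (f : Y ⟶ ∐ fun i => Spec (CommRingCat.of (k i))) [Mono f] :
    ∃ (J : Set ι) (e : Y ≅ ∐ fun j : J => Spec (CommRingCat.of (k j.1))),
      e.hom ≫ Sigma.desc (fun j : J => Sigma.ι (fun i => Spec (CommRingCat.of (k i))) j.1) = f := by
  let X : Scheme.{u} := ∐ fun i => Spec (CommRingCat.of (k i))
  have hd : DiscreteTopology X :=
    (sigmaMk (fun i => Spec (CommRingCat.of (k i)))).discreteTopology
  have hr : IsReduced X := by
    have : ∀ i, IsReduced ((sigmaOpenCover (fun i => Spec (CommRingCat.of (k i)))).X i) := fun i =>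
      inferInstanceAs (IsReduced (Spec (CommRingCat.of (k i))))
    exact IsReduced.of_openCover X (sigmaOpenCover (fun i => Spec (CommRingCat.of (k i))))
  have hf : IsOpenImmersion f := K586.MonoDiscrete.isOpenImmersion_of_mono (S := X) f
  let J : Set ι := {i | Set.range (Sigma.ι (fun i => Spec (CommRingCat.of (k i))) i) ⊆ Set.range f}
  let g : (∐ fun j : J => Spec (CommRingCat.of (k j.1))) ⟶ X :=
    Sigma.desc (fun j : J => Sigma.ι (fun i => Spec (CommRingCat.of (k i))) j.1)
  have hg : IsOpenImmersion g := by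
    refine isOpenImmersion_sigmaDesc _ _ ?_
    intro i j hij
    have h1 := disjoint_opensRange_sigmaι (fun i => Spec (CommRingCat.of (k i))) i.1 j.1
      (fun h => hij (Subtype.ext h))
    rw [Function.onFun, Set.disjoint_iff]
    rintro x ⟨hx1, hx2⟩
    have h2 := (disjoint_iff.1 h1 : _ = ⊥)
    have h3 : x ∈ (Sigma.ι (fun i => Spec (CommRingCat.of (k i))) i.1).opensRange ⊓
        (Sigma.ι (fun i => Spec (CommRingCat.of (k i))) j.1).opensRange := ⟨hx1, hx2⟩
    rw [h2] at h3
    exact h3
  have hrange : Set.range f = Set.range g := by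
    have hι : ∀ (i : ι) (x y : X), x ∈ Set.range (Sigma.ι (fun i => Spec (CommRingCat.of (k i))) i) →
        y ∈ Set.range (Sigma.ι (fun i => Spec (CommRingCat.of (k i))) i) → x = y := by
      rintro i _ _ ⟨a, rfl⟩ ⟨b, rfl⟩
      have : a = b := Subsingleton.elim (α := PrimeSpectrum (k i)) a b
      rw [this]
    apply Set.eq_of_subset_of_subset
    · intro x hx
      obtain ⟨i, y, hy⟩ := (sigmaOpenCover (fun i => Spec (CommRingCat.of (k i)))).exists_eq x
      have hy' : Sigma.ι (fun i => Spec (CommRingCat.of (k i))) i y = x := hy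
      have hi : i ∈ J := by
        intro z hz
        rw [hι i z x hz ⟨y, hy'⟩]
        exact hx
      refine ⟨Sigma.ι (fun j : J => Spec (CommRingCat.of (k j.1))) ⟨i, hi⟩ y, ?_⟩
      rw [← Scheme.Hom.comp_apply]
      have h3 : Sigma.ι (fun j : J => Spec (CommRingCat.of (k j.1))) ⟨i, hi⟩ ≫ g =
        Sigma.ι (fun i => Spec (CommRingCat.of (k i))) i := Sigma.ι_desc _ _
      rw [h3, hy']
    · rintro _ ⟨z, rfl⟩
      obtain ⟨j, y, hy⟩ := (sigmaOpenCover (fun j : J => Spec (CommRingCat.of (k j.1)))).exists_eq z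
      have hy' : Sigma.ι (fun j : J => Spec (CommRingCat.of (k j.1))) j y = z := hy
      rw [← hy', ← Scheme.Hom.comp_apply]
      have h3 : Sigma.ι (fun j : J => Spec (CommRingCat.of (k j.1))) j ≫ g =
        Sigma.ι (fun i => Spec (CommRingCat.of (k i))) j.1 := Sigma.ι_desc _ _
      rw [h3]
      exact j.2 ⟨y, rfl⟩
  exact ⟨J, IsOpenImmersion.isoOfRangeEq f g hrange, IsOpenImmersion.isoOfRangeEq_hom_fac f g hrange⟩

end Groth.Agent.S9500
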