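import Groth.Statements.S9502
import Mathlib.AlgebraicGeometry.IdealSheaf.Basic

set_option autoImplicit false
universe u
open SchMor

namespace Groth.Agent.S9502

open AlgebraicGeometry CategoryTheory TopologicalSpace Opposite in
lemma key {X Y : Scheme.{u}} (f : X ⟶ Y) [QuasiCompact f] (U : Y.Opens) (hU : IsAffineOpen U)
    (x' : Y) (hx' : x' ∈ U) :
    Ideal.span (Set.range fun j : RingHom.ker (f.app U).hom => Y.presheaf.germ U x' hx' j.1) =
      RingHom.ker (R := Y.presheaf.stalk x') (S := (f.base _* X.presheaf).stalk x')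
        ((TopCat.Presheaf.stalkFunctor CommRingCat x').map f.c).hom := by
  have hgerm : ∀ (V : Y.Opens) (hV : x' ∈ V) (s : Γ(Y, V)),
      ((TopCat.Presheaf.stalkFunctor CommRingCat x').map f.c).hom (Y.presheaf.germ V x' hV s) =
        (f.base _* X.presheaf).germ V x' hV (f.app V s) := fun V hV s =>
    TopCat.Presheaf.stalkFunctor_map_germ_apply (C := CommRingCat) V x' hV f.c s
  apply le_antisymm
  · rw [Ideal.span_le]
    rintro _ ⟨j, rfl⟩
    have h4 : f.app U j.1 = 0 := j.2
    show ((TopCat.Presheaf.stalkFunctor CommRingCat x').map f.c).hom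
      (Y.presheaf.germ U x' hx' j.1) = 0
    rw [hgerm, h4, map_zero]; rfl
  · intro t ht
    obtain ⟨V, hVU, hxV, t', rfl⟩ := Y.presheaf.exists_le_germ_eq t hx'
    have h5 : (f.base _* X.presheaf).germ V x' hxV (f.app V t') = 0 := by
      rw [← hgerm]; exact ht
    have h6 : (f.base _* X.presheaf).germ V x' hxV (f.app V t') =
      (f.base _* X.presheaf).germ V x' hxV 0 := by rw [h5, map_zero]
    obtain ⟨W, hxW, iW, iW', h7⟩ := TopCat.Presheaf.germ_eq _ x' hxV hxV _ _ h6
    rw [map_zero] at h7
    -- a basic open inside `W`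
    obtain ⟨g, hgW, hxg⟩ := hU.exists_basicOpen_le (V := W) ⟨x', hxW⟩ hx'
    have hgV : Y.basicOpen g ≤ V := hgW.trans iW.le
    let t'' : Γ(Y, Y.basicOpen g) := Y.presheaf.map (homOfLE hgV).op t'
    have h8 : f.app (Y.basicOpen g) t'' = 0 := by
      have h9 : f.app W (Y.presheaf.map iW.op t') = 0 := by
        have := ConcreteCategory.congr_hom (f.naturality iW.op) t'
        rw [ConcreteCategory.comp_apply, ConcreteCategory.comp_apply] at this
        rw [this]; exact h7
      have h10 : t'' = Y.presheaf.map (homOfLE hgW).op (Y.presheaf.map iW.op t') := by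
        rw [← ConcreteCategory.comp_apply, ← Functor.map_comp]
        rfl
      have h11 := ConcreteCategory.congr_hom (f.naturality (homOfLE hgW).op) (Y.presheaf.map iW.op t')
      rw [ConcreteCategory.comp_apply, ConcreteCategory.comp_apply, h9, map_zero] at h11
      rw [h10]; exact h11
    have h12 : t'' ∈ f.ker.ideal (Y.affineBasicOpen (U := ⟨U, hU⟩) g) := by
      rw [Scheme.Hom.ker_apply]; exact h8
    rw [← Scheme.IdealSheafData.map_ideal_basicOpen, Scheme.Hom.ker_apply] at h12
    have h13 := Ideal.mem_map_of_mem (Y.presheaf.germ (Y.basicOpen g) x' hxg).hom h12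
    rw [Ideal.map_map, ← CommRingCat.hom_comp, TopCat.Presheaf.germ_res] at h13
    have h14 : Y.presheaf.germ V x' hxV t' = Y.presheaf.germ (Y.basicOpen g) x' hxg t'' := by
      rw [TopCat.Presheaf.germ_res_apply]
    rw [h14]
    convert h13 using 1
    rw [Ideal.map]
    congr 1
    ext z
    constructor
    · rintro ⟨j, rfl⟩; exact ⟨j.1, j.2, rfl⟩
    · rintro ⟨j, hj, rfl⟩; exact ⟨⟨j, hj⟩, rfl⟩

open AlgebraicGeometry in
open CategoryTheory in
/-- Let f : X → Y be a morphism of schemes such that (1) the underlying continuous map of f is a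
homeomorphism onto a closed subset of Y and (2) the map of sheaves of rings O_Y → f_*O_X is
surjective (locally surjective on sections). Then f is a closed immersion in the sense of locally
ringed spaces: (1) and (2) hold and (3) the kernel of O_Y → f_*O_X is locally generated by sections,
i.e. around every point of Y there are sections of O_Y killed in f_*O_X whose germs generate the
kernel of the stalk map O_{Y,y} → (f_*O_X)_y at every nearby point y. (For a morphism of schemes (1)
and (2) alone already give surjective stalk maps; the content of this row is condition (3).) -/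
theorem result
    {X Y : Scheme.{u}} (f : X ⟶ Y) (h1 : Topology.IsClosedEmbedding f)
    (h2 : TopCat.Presheaf.IsLocallySurjective f.c) :
    LRSImm.IsClosedImmersion f.toLRSHom := by
  refine ⟨h1, h2, fun y => ?_⟩
  obtain ⟨_, ⟨U, hU, rfl⟩, hyU, -⟩ :=
    Y.isBasis_affineOpens.exists_subset_of_mem_open (Set.mem_univ y) isOpen_univ
  have hqc : QuasiCompact f := ⟨fun V _ hc => h1.isCompact_preimage hc⟩
  refine ⟨U, hyU, RingHom.ker (f.app U).hom, fun j => j.1, fun j => j.2, fun x' hx' => ?_⟩
  exact key f U hU x' hx'

end Groth.Agent.S9502
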