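import Groth.Statements.S9506
import Groth.Agent.LRSImm.K591.Sch

set_option autoImplicit false
universe u
open LRSImm

namespace Groth.Agent.S9506

open AlgebraicGeometry in
open CategoryTheory Opposite in
/-- Let R be a commutative ring and i : Z → Spec R a closed immersion of locally ringed spaces (a
homeomorphism onto a closed subset such that O → i_*O_Z is surjective as a map of sheaves with
kernel locally generated by sections). Let I ⊆ R be the kernel of the composite R = Γ(Spec R, O) →
Γ(Z, O_Z). Then Z is identified with Spec(R/I) over Spec R: there is an isomorphism of locally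
ringed spaces Z ≅ Spec(R/I) whose composite with the morphism Spec(R/I) → Spec R induced by R → R/I
is i (in particular the ideal I with this property is unique). -/
theorem result
    (R : Type u) [CommRing R] (Z : LocallyRingedSpace.{u})
    (i : Z ⟶ (Spec (CommRingCat.of R)).toLocallyRingedSpace) (hi : LRSImm.IsClosedImmersion i)
    (I : Ideal R)
    (hI : I = RingHom.ker ((Scheme.ΓSpecIso (CommRingCat.of R)).inv ≫ i.c.app (op ⊤)).hom) :
    ∃ e : Z ≅ (Spec (CommRingCat.of (R ⧸ I))).toLocallyRingedSpace,
      e.hom ≫ (Spec.map (CommRingCat.ofHom (Ideal.Quotient.mk I))).toLRSHom = i := by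
  have hcl : AlgebraicGeometry.IsClosedImmersion (Spec.map (CommRingCat.ofHom (Ideal.Quotient.mk I))) :=
    IsClosedImmersion.spec_of_surjective _ Ideal.Quotient.mk_surjective
  have hker : (Spec.map (CommRingCat.ofHom (Ideal.Quotient.mk I))).ker = K591.Sch.idealData i hi := by
    apply Scheme.IdealSheafData.ext_of_isAffine
    rw [K591.Sch.idealData_ideal, Scheme.Hom.ker_apply]
    ext s
    have h1 : (Spec.map (CommRingCat.ofHom (Ideal.Quotient.mk I))).app ⊤ s = 0 ↔
        (Scheme.ΓSpecIso (CommRingCat.of R)).hom s ∈ I := by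
      have h2 := ConcreteCategory.congr_hom (Scheme.ΓSpecIso_naturality (CommRingCat.ofHom (Ideal.Quotient.mk I))) s
      rw [ConcreteCategory.comp_apply, ConcreteCategory.comp_apply] at h2
      have h3 : Function.Injective (Scheme.ΓSpecIso (CommRingCat.of (R ⧸ I))).hom :=
        (ConcreteCategory.bijective_of_isIso _).1
      refine (map_eq_zero_iff _ h3).symm.trans ?_
      refine (iff_of_eq (congrArg (· = 0) h2)).trans ?_
      exact Ideal.Quotient.eq_zero_iff_mem
    refine h1.trans ?_
    rw [hI, RingHom.mem_ker]
    have h4 : ((Scheme.ΓSpecIso (CommRingCat.of R)).inv ≫ i.c.app (op ⊤)).hom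
        ((Scheme.ΓSpecIso (CommRingCat.of R)).hom s) = i.c.app (op ⊤) s := by
      have h5 : (Scheme.ΓSpecIso (CommRingCat.of R)).inv ((Scheme.ΓSpecIso (CommRingCat.of R)).hom s) = s := by
        rw [← ConcreteCategory.comp_apply, Iso.hom_inv_id]
        rfl
      exact congrArg (i.c.app (op ⊤)) h5
    rw [h4]
    rfl
  obtain ⟨e, he⟩ := K591.Sch.exists_iso i hi (Spec.map (CommRingCat.ofHom (Ideal.Quotient.mk I))) hker
  exact ⟨e.symm, by rw [← he]; exact e.inv_hom_id_assoc i⟩

end Groth.Agent.S9506
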