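import Groth.Statements.S9508
import Groth.Agent.SchMor.K586.QSep

set_option autoImplicit false
universe u
open SchMor

namespace Groth.Agent.S9508

open AlgebraicGeometry in
open CategoryTheory in
/-- (1) ⇔ (2): A morphism of schemes f : X → S is quasi-separated if and only if, whenever two affine
opens U and V of X both lie in the preimage f⁻¹(W) of one affine open W of S, their intersection U ∩
V is quasi-compact (equivalently, is covered by finitely many affine opens). -/
theorem result
    {X S : Scheme.{u}} (f : X ⟶ S) :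
    QuasiSeparated f ↔
      ∀ (U V : X.affineOpens) (W : S.affineOpens),
        (U : X.Opens) ≤ f ⁻¹ᵁ (W : S.Opens) → (V : X.Opens) ≤ f ⁻¹ᵁ (W : S.Opens) →
          IsCompact ((U : Set X) ∩ (V : Set X)) := by
  constructor
  · intro hf U V W hU hV
    have h := f.isQuasiSeparated_preimage W.2.isQuasiSeparated
    exact h U V hU U.1.2 U.2.isCompact hV V.1.2 V.2.isCompact
  · intro h
    refine K586.QSep.quasiSeparated_of_covers f (ι := S.affineOpens) (fun W => W)
      (iSup_affineOpens_eq_top S)
      (κ := fun W => {U : X.affineOpens // (U : X.Opens) ≤ f ⁻¹ᵁ (W : S.Opens)})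
      (fun W U => U.1) (fun W => ?_) (fun W U V => h U.1 V.1 W U.2 V.2)
    apply le_antisymm
    · exact iSup_le fun U => U.2
    · intro x hx
      obtain ⟨_, ⟨U, hU, rfl⟩, hxU, hUW⟩ := X.isBasis_affineOpens.exists_subset_of_mem_open hx
        (f ⁻¹ᵁ (W : S.Opens)).2
      exact TopologicalSpace.Opens.mem_iSup.2 ⟨⟨⟨U, hU⟩, hUW⟩, hxU⟩

end Groth.Agent.S9508
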