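import Groth.Statements.S9510

set_option autoImplicit false
universe u
open SchMor

namespace Groth.Agent.S9510

open AlgebraicGeometry in
open CategoryTheory in
/-- Let X be a scheme, X = ⋃ U_i an affine open covering and V ⊆ X an affine open. Then there is a
standard open covering V = D(f_1) ∪ … ∪ D(f_m), with f_1, …, f_m sections of O_X over V, such that
each D(f_j) is also a standard open D(g) of one of the U_i (g a section over that U_i). -/
theorem result
    (X : Scheme.{u}) {ι : Type u} (U : ι → X.affineOpens) (hU : ⨆ i, (U i : X.Opens) = ⊤)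
    (V : X.affineOpens) :
    ∃ s : Finset Γ(X, (V : X.Opens)),
      (⨆ f ∈ s, X.basicOpen f) = (V : X.Opens) ∧
        ∀ f ∈ s, ∃ (i : ι) (g : Γ(X, (U i : X.Opens))), X.basicOpen f = X.basicOpen g := by
  classical
  have h1 : ∀ x : X, x ∈ (V : X.Opens) → ∃ (i : ι) (f : Γ(X, (V : X.Opens))) (g : Γ(X, (U i : X.Opens))),
      X.basicOpen f = X.basicOpen g ∧ x ∈ X.basicOpen f := by
    intro x hx
    have hx2 : x ∈ ⨆ i, (U i : X.Opens) := by rw [hU]; trivial
    obtain ⟨i, hi⟩ := TopologicalSpace.Opens.mem_iSup.1 hx2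
    obtain ⟨f, g, hfg, hxf⟩ := exists_basicOpen_le_affine_inter V.2 (U i).2 x ⟨hx, hi⟩
    exact ⟨i, f, g, hfg, hxf⟩
  choose i f g hfg hxf using h1
  obtain ⟨t, hcov⟩ := V.2.isCompact.elim_nhds_subcover'
    (fun x hx => (X.basicOpen (f x hx) : Set X))
    (fun x hx => (X.basicOpen (f x hx)).2.mem_nhds (hxf x hx))
  refine ⟨t.image (fun x => f x.1 x.2), ?_, ?_⟩
  · apply le_antisymm
    · exact iSup₂_le fun f' _ => X.basicOpen_le f'
    · intro x hx
      obtain ⟨y, hy, hxy⟩ := Set.mem_iUnion₂.1 (hcov hx)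
      refine TopologicalSpace.Opens.mem_iSup.2 ⟨f y.1 y.2, ?_⟩
      refine TopologicalSpace.Opens.mem_iSup.2 ⟨Finset.mem_image.2 ⟨y, hy, rfl⟩, hxy⟩
  · intro f' hf'
    obtain ⟨y, hy, rfl⟩ := Finset.mem_image.1 hf'
    exact ⟨i y.1 y.2, g y.1 y.2, hfg y.1 y.2⟩

end Groth.Agent.S9510
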