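import Groth.Statements.S9511
import Mathlib.AlgebraicGeometry.Limits

set_option autoImplicit false
universe u
open LRSImm

namespace Groth.Agent.S9511

open AlgebraicGeometry in
open CategoryTheory TopologicalSpace in
/-- Let X be a locally ringed space and U, V ⊆ X open with X = U ⊔ V (they cover X and are disjoint),
such that the open subspaces X|_U and X|_V are affine schemes. Then X is an affine scheme: the
canonical morphism X → Spec Γ(X, O_X) is an isomorphism of locally ringed spaces. -/
theorem result
    (X : LocallyRingedSpace.{u}) (U V : Opens X.toTopCat) (hUV : IsCompl U V)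
    (A B : CommRingCat.{u})
    (eU : X.restrict U.isOpenEmbedding ≅ (Spec A).toLocallyRingedSpace)
    (eV : X.restrict V.isOpenEmbedding ≅ (Spec B).toLocallyRingedSpace) :
    IsIso X.toΓSpec := by
  classical
  let Y : Scheme.{u} :=
    { toLocallyRingedSpace := X
      local_affine := by
        intro x
        rcases (show x ∈ U ∨ x ∈ V from (by
          have : x ∈ U ⊔ V := by rw [hUV.sup_eq_top]; trivial
          exact this)) with hx | hx
        · exact ⟨⟨U, hx⟩, A, ⟨eU⟩⟩
        · exact ⟨⟨V, hx⟩, B, ⟨eV⟩⟩ }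
  let U' : Y.Opens := U
  let V' : Y.Opens := V
  have hU : IsAffineOpen U' := by
    let e : U'.toScheme ≅ Spec A :=
      { hom := ⟨eU.hom⟩, inv := ⟨eU.inv⟩
        hom_inv_id := Scheme.Hom.ext' eU.hom_inv_id
        inv_hom_id := Scheme.Hom.ext' eU.inv_hom_id }
    have : IsIso e.hom := Iso.isIso_hom e
    exact IsAffine.of_isIso e.hom
  have hV : IsAffineOpen V' := by
    let e : V'.toScheme ≅ Spec B :=
      { hom := ⟨eV.hom⟩, inv := ⟨eV.inv⟩
        hom_inv_id := Scheme.Hom.ext' eV.hom_inv_id
        inv_hom_id := Scheme.Hom.ext' eV.inv_hom_id }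
    have : IsIso e.hom := Iso.isIso_hom e
    exact IsAffine.of_isIso e.hom
  have hsup : IsAffineOpen (U' ⊔ V') := hU.sup_of_disjoint hV hUV.disjoint
  have htop : U' ⊔ V' = ⊤ := hUV.sup_eq_top
  rw [htop] at hsup
  have hY : IsAffine Y := by
    have : IsAffine (⊤ : Y.Opens).toScheme := hsup
    exact IsAffine.of_isIso Y.topIso.inv
  have h2 : IsIso Y.toSpecΓ := hY.affine
  have h3 : IsIso Y.toSpecΓ.toLRSHom := inferInstance
  exact h3

end Groth.Agent.S9511
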