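import Groth.Statements.S9512
import Mathlib.AlgebraicGeometry.AffineScheme

set_option autoImplicit false
universe u
open LRSImm

namespace Groth.Agent.S9512

open AlgebraicGeometry in
open CategoryTheory Opposite in
/-- Let X be a locally ringed space, Y = Spec R an affine scheme and f : X → Y a morphism of locally
ringed spaces. Given a point x of X, the image f(x) is the prime of R obtained as the inverse image
of the maximal ideal of O_{X,x} under the composite R = Γ(Y, O_Y) → Γ(X, O_X) → O_{X,x}. -/
theorem result
    (X : LocallyRingedSpace.{u}) (R : CommRingCat.{u})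
    (f : X ⟶ (Spec R).toLocallyRingedSpace) (x : X.toTopCat) :
    f.base x = PrimeSpectrum.comap
      ((Scheme.ΓSpecIso R).inv ≫ f.c.app (op ⊤) ≫ X.presheaf.germ ⊤ x trivial).hom
      (IsLocalRing.closedPoint (X.presheaf.stalk x)) := by
  have h1 : f.c.app (op ⊤) ≫ X.presheaf.germ ⊤ x trivial =
      (Spec R).presheaf.germ ⊤ (f.base x) trivial ≫ f.stalkMap x :=
    (LocallyRingedSpace.stalkMap_germ f ⊤ x trivial).symm
  rw [h1, ← Category.assoc]
  have h2 : (Scheme.ΓSpecIso R).inv ≫ (Spec R).presheaf.germ ⊤ (f.base x) trivial =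
      CommRingCat.ofHom (algebraMap R _) ≫ (Spec.stalkIso R (f.base x)).inv :=
    (Spec.algebraMap_stalkIso_inv (R := R) (f.base x)).symm
  have h3 : PrimeSpectrum.comap (f.stalkMap x).hom (IsLocalRing.closedPoint (X.presheaf.stalk x)) =
      IsLocalRing.closedPoint _ := IsLocalRing.comap_closedPoint (f.stalkMap x).hom
  have h4 : PrimeSpectrum.comap (Spec.stalkIso R (f.base x)).inv.hom (IsLocalRing.closedPoint _) =
      IsLocalRing.closedPoint _ :=
    haveI : IsLocalHom (Spec.stalkIso R (f.base x)).inv.hom :=
      isLocalHom_of_iso (Spec.stalkIso R (f.base x)).symm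
    IsLocalRing.comap_closedPoint _
  have h5 : PrimeSpectrum.comap (algebraMap R (Localization.AtPrime (f.base x).asIdeal))
      (IsLocalRing.closedPoint _) = f.base x :=
    PrimeSpectrum.ext (IsLocalization.AtPrime.under_maximalIdeal
      (Localization.AtPrime (f.base x).asIdeal) (f.base x).asIdeal)
  rw [h2]
  refine Eq.trans h5.symm ?_
  rw [← h4]
  rw [← h3]
  rfl

end Groth.Agent.S9512
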