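import Groth.Statements.S9516
import Groth.Agent.Dual.H367.Kill

set_option autoImplicit false
universe u
open CategoryTheory CategoryTheory.Limits AlgebraicGeometry
attribute [local instance] HasDerivedCategory.standard
open Coherent

namespace Groth.Agent.S9516

/-- Let X be a Noetherian scheme, F a quasi-coherent O_X-module, G a coherent O_X-module and I a
quasi-coherent sheaf of ideals, with U the open complement of the closed subset cut out by I. If a
morphism ψ : I^n G → F restricts to zero on U, then ψ vanishes on I^N G for some N: there is a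
morphism ι : I^N G → I^n G commuting with the inclusions into G and with ι ≫ ψ = 0. (Together with
the surjectivity statement this says that colim_n Hom(I^n G, F) → Hom(G|_U, F|_U) is bijective.) -/
theorem result (X : Scheme.{u}) [IsNoetherian X] (F G : X.Modules)
    (hF : Coh.IsQCoh F) (hG : Coh.IsCoh G) (I : X.IdealSheafData)
    (U : X.Opens) (hU : (U : Set X) = (I.support : Set X)ᶜ) (n : ℕ)
    (ψ : (Dual3.idealMul (I ^ n)).obj G ⟶ F)
    (hψ : (Scheme.Modules.restrictFunctor U.ι).map ψ = 0) :
    ∃ (N : ℕ) (ι : (Dual3.idealMul (I ^ N)).obj G ⟶ (Dual3.idealMul (I ^ n)).obj G),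
      ι ≫ Dual3.idealMulι (I ^ n) G = Dual3.idealMulι (I ^ N) G ∧ ι ≫ ψ = 0 := by
  have hG' : Coh.IsCoh ((Dual3.idealMul (I ^ n)).obj G) := Dual.H367.IdMul.isCoh_idealMul _ hG
  let E := Abelian.image ψ
  have hE : Coh.IsQCoh E :=
    PerfA.QCohSerre.isQCoh_kernel _ hF (PerfA.QCohSerre.isQCoh_cokernel ψ hG'.1 hF)
  have hEU : IsZero (E.restrict U.ι) := by
    have e1 : (Scheme.Modules.restrictFunctor U.ι).map (Abelian.factorThruImage ψ) ≫
        (Scheme.Modules.restrictFunctor U.ι).map (Abelian.image.ι ψ) = 0 := by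
      rw [← Functor.map_comp, Abelian.image.fac, hψ]
    have e2 : (Scheme.Modules.restrictFunctor U.ι).map (Abelian.factorThruImage ψ) = 0 := by
      rw [← cancel_mono ((Scheme.Modules.restrictFunctor U.ι).map (Abelian.image.ι ψ)), e1, zero_comp]
    rw [IsZero.iff_id_eq_zero,
      ← cancel_epi ((Scheme.Modules.restrictFunctor U.ι).map (Abelian.factorThruImage ψ)), comp_zero]
    erw [Category.comp_id]
    exact e2
  have hI : I.supportSetᶜ = Set.range U.ι := by
    rw [Scheme.Opens.range_ι]
    exact hU.symm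
  obtain ⟨m, h, hm⟩ := Dual.H367.Kill.kill I U.ι hI hG hE hEU n (Abelian.factorThruImage ψ)
  refine ⟨m, Dual.H367.IdMul.tr (Dual.H367.Kill.pow_le I h) G, Dual.H367.IdMul.tr_ι _ _, ?_⟩
  rw [← Abelian.image.fac ψ, ← Category.assoc, hm, zero_comp]

end Groth.Agent.S9516
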