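import Groth.Statements.S9519
import Groth.Agent.CechOX.K591.CechPre2

set_option autoImplicit false
universe u
open CategoryTheory CategoryTheory.Limits AlgebraicGeometry
attribute [local instance] HasDerivedCategory.standard
open CechOX

namespace Groth.Agent.S9519

/-- Let f : X → S be a morphism of schemes with X quasi-compact and X and S with affine diagonal, F a
quasi-coherent O_X-module, 𝒰 a finite covering of X by affine opens and g : S' → S a morphism; write
X' = X ×_S S' with projections g' : X' → X and f' : X' → S', F' = g'^* F and 𝒰' for the covering of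
X' by the preimages (g')⁻¹(𝒰 i). Then g^* Č(𝒰, f, F) (termwise pullback) is isomorphic as a complex
of O_S'-modules to the relative Čech complex Č(𝒰', f', F'), and its image in the derived category of
O_S'-modules is isomorphic to Rf'_* F'. (The published statement calls the first identification an
equality and states it for g affine, in which case the opens of 𝒰' are affine; this row asserts the
existence of the isomorphisms for any g, with Rf'_* the unbounded derived functor under its
existence binder.) -/
theorem result {X S S' : Scheme.{u}} (f : X ⟶ S) [CompactSpace X]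
    [IsAffineHom (pullback.diagonal (terminal.from X))] [IsAffineHom (pullback.diagonal (terminal.from S))]
    (F : X.Modules) (hF : Coh.IsQCoh F) {ι : Type u} [Finite ι] (𝒰 : ι → X.Opens)
    (h𝒰 : ∀ i, IsAffineOpen (𝒰 i)) (hcov : ⨆ i, 𝒰 i = ⊤) (g : S' ⟶ S)
    [(Scheme.Modules.pullback g).Additive] [DCoh.HasRpush (pullback.snd f g)] :
    Nonempty (((Scheme.Modules.pullback g).mapHomologicalComplex (ComplexShape.up ℕ)).obj
        ((CechOX.relCech 𝒰 f).obj F) ≅
      (CechOX.relCech (fun i => (pullback.fst f g) ⁻¹ᵁ (𝒰 i)) (pullback.snd f g)).obj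
        ((Scheme.Modules.pullback (pullback.fst f g)).obj F)) ∧
    Nonempty (DCoh.toD S' ((((Scheme.Modules.pullback g).mapHomologicalComplex (ComplexShape.up ℕ)).obj
        ((CechOX.relCech 𝒰 f).obj F)).extend ComplexShape.embeddingUpNat) ≅
      (DCoh.Rpush (pullback.snd f g)).obj
        (DCoh.inD _ ((Scheme.Modules.pullback (pullback.fst f g)).obj F))) := by
  have hE := K591.RelIso.nonempty_xdegen 𝒰 hcov
  have hA := K591.RelIso.isAffineHom_EC f 𝒰 h𝒰
  have h := IsPullback.of_hasPullback f g
  refine ⟨?_, ?_⟩
  · obtain ⟨e⟩ := K591.BaseCh.nonempty_baseIso (M := F)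
      (N := (Scheme.Modules.pullback (pullback.fst f g)).obj F)
      (Groth.Agent.CohqA.PullbackSections.pbUnit (pullback.fst f g) F) h (K591.RelIso.ECS 𝒰) hA hF
      (Groth.Agent.CohqA.PullbackSections.isUniv_pbUnit (pullback.fst f g) F)
    exact ⟨((Scheme.Modules.pullback g).mapHomologicalComplex (ComplexShape.up ℕ)).mapIso
      (K591.RelIso.relCechIso f 𝒰 F) ≪≫ e ≪≫ K591.CechPre.cxIso (K591.CechPre2.preIso (pullback.fst f g) 𝒰) _ ≪≫
      (K591.RelIso.relCechIso (pullback.snd f g) (fun i => (pullback.fst f g) ⁻¹ᵁ (𝒰 i)) _).symm⟩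
  · obtain ⟨e⟩ := K591.CechPre.main_baseChange h (K591.RelIso.ECS 𝒰) hE (fun n => inferInstance) hA F hF
    exact ⟨DerivedCategory.Q.mapIso ((ComplexShape.embeddingUpNat.extendFunctor S'.Modules).mapIso
      (((Scheme.Modules.pullback g).mapHomologicalComplex (ComplexShape.up ℕ)).mapIso
        (K591.RelIso.relCechIso f 𝒰 F))) ≪≫ e⟩

end Groth.Agent.S9519
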