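import Groth.Statements.S9520
import Groth.Agent.CechOX.K591.CechPre
import Groth.Agent.CechOX.K591.HCov2

set_option autoImplicit false
universe u
open CategoryTheory CategoryTheory.Limits AlgebraicGeometry
attribute [local instance] HasDerivedCategory.standard
open CechOX

namespace Groth.Agent.S9520

/-- Let f : X → S be a quasi-compact and quasi-separated morphism of schemes with S quasi-compact and
separated, and F a quasi-coherent O_X-module. There is a bounded below complex K of quasi-coherent
O_S-modules such that for every morphism g : S' → S, writing f' : X ×_S S' → S' and g' : X ×_S S' →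
X for the projections, the complex g^* K (termwise pullback) represents Rf'_* (g')^* F: its image in
the derived category of O_S'-modules is isomorphic to Rf'_* (g')^* F. (Rf'_* is the unbounded
derived functor under its existence binder; existence of an isomorphism is asserted.) -/
theorem result {X S : Scheme.{u}} (f : X ⟶ S) [QuasiCompact f]
    [QuasiSeparated f] [CompactSpace S] [S.IsSeparated] (F : X.Modules) (hF : Coh.IsQCoh F) :
    ∃ K : CochainComplex S.Modules ℤ,
      (∃ a : ℤ, ∀ i : ℤ, i < a → IsZero (K.X i)) ∧ (∀ i : ℤ, Coh.IsQCoh (K.X i)) ∧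
      ∀ (S' : Scheme.{u}) (g : S' ⟶ S) [(Scheme.Modules.pullback g).Additive]
        [DCoh.HasRpush (pullback.snd f g)],
        Nonempty (DCoh.toD S' (((Scheme.Modules.pullback g).mapHomologicalComplex (ComplexShape.up ℤ)).obj K) ≅
          (DCoh.Rpush (pullback.snd f g)).obj
            (DCoh.inD _ ((Scheme.Modules.pullback (pullback.fst f g)).obj F))) := by
  have : CompactSpace X := QuasiCompact.compactSpace_of_compactSpace f
  have : QuasiSeparatedSpace X := quasiSeparatedSpace_of_quasiSeparated f
  have hdiag : IsAffineHom (pullback.diagonal (terminal.from S)) := inferInstance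
  obtain ⟨D⟩ := K591.HCov2.nonempty_dat (X := X)
  have hA : ∀ (n : ℕ) (i : ((K591.HCov.EH D).obj (Opposite.op (SimplexCategory.mk n))).I),
      IsAffineHom ((((K591.HCov.EH D).obj (Opposite.op (SimplexCategory.mk n))).obj i).ι ≫ f) := fun n i =>
    K591.RelIso.isAffineHom_ι_comp f (K591.HCov2.isAffineOpen_mem D n i)
  refine ⟨(K591.Main1.FZ f (K591.HCov.EH D)).obj F, ⟨0, fun i hi => K591.Main1.isZero_FZ f _ F i hi⟩,
    fun i => K591.RelIso.isQCoh_extend f (K591.HCov.EH D) hA F hF i, ?_⟩
  intro S' g _ _
  obtain ⟨e⟩ := K591.CechPre.main_baseChange (IsPullback.of_hasPullback f g) (K591.HCov.EH D)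
    (K591.HCov.nonempty_xdegen D) (fun n => inferInstance) hA F hF
  exact ⟨DerivedCategory.Q.mapIso (Groth.Agent.Cohder.MapExtend.mapExtendIso (Scheme.Modules.pullback g) _ _) ≪≫ e⟩

end Groth.Agent.S9520
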