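import Groth.Statements.S9525
import Groth.Agent.Coherent.K47.StalkLocal

set_option autoImplicit false
universe u
open Coherent

namespace Groth.Agent.S9525

open CategoryTheory CategoryTheory.Limits AlgebraicGeometry in
/-- Let X be a locally Noetherian scheme, F and G coherent O_X-modules, φ : G → F a morphism and x ∈ X.
(1) If F_x = 0 there is an open neighbourhood U of x with F|_U = 0. (2) If the stalk map φ_x : G_x →
F_x is injective there is an open neighbourhood U of x with φ|_U injective. (4) If φ_x is bijective
there is an open neighbourhood U of x with φ|_U an isomorphism. (Part (3), surjectivity, is the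
finite-type statement valid on any ringed space and is not restated.) -/
theorem result (X : Scheme.{u}) [IsLocallyNoetherian X]
    (F G : X.Modules) (hF : Coh.IsCoh F) (hG : Coh.IsCoh G) (φ : G ⟶ F) (x : X) :
    (Subsingleton ↑(F.presheaf.stalk x) →
      ∃ U : X.Opens, x ∈ U ∧ IsZero ((Scheme.Modules.restrictFunctor U.ι).obj F)) ∧
    (Function.Injective ((TopCat.Presheaf.stalkFunctor _ x).map φ.mapPresheaf).hom →
      ∃ U : X.Opens, x ∈ U ∧ Mono ((Scheme.Modules.restrictFunctor U.ι).map φ)) ∧
    (Function.Bijective ((TopCat.Presheaf.stalkFunctor _ x).map φ.mapPresheaf).hom →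
      ∃ U : X.Opens, x ∈ U ∧ IsIso ((Scheme.Modules.restrictFunctor U.ι).map φ)) := by
  refine ⟨fun h => ?_, fun h => ?_, fun h => ?_⟩
  · exact ⟨Coherent.K47.StalkLocal.coSupp F hF.2,
      (CohqB.DevSupport.not_mem_support_iff F x).2 h,
      Coherent.K47.StalkLocal.isZero_restrict_of_le F _ fun _ hy => hy⟩
  · exact Coherent.K47.StalkLocal.exists_mono hF hG φ x ((AddCommGrpCat.mono_iff_injective _).2 h)
  · refine Coherent.K47.StalkLocal.exists_isIso hF hG φ x ?_
    have h1 : Mono ((CohqB.DevSupport.stalkF X x).map φ) := (AddCommGrpCat.mono_iff_injective _).2 h.1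
    have h2 : Epi ((CohqB.DevSupport.stalkF X x).map φ) := (AddCommGrpCat.epi_iff_surjective _).2 h.2
    exact isIso_of_mono_of_epi _

end Groth.Agent.S9525
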