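import Groth.Statements.S9527
import Groth.Agent.Coherent.K47.SheafHomStalk
import Groth.Agent.Coherent.K47.DepthHom
import Groth.Agent.Divis.StalkMod

set_option autoImplicit false
universe u
open CategoryTheory CategoryTheory.Limits AlgebraicGeometry
attribute [local instance] HasDerivedCategory.standard
open Coherent

namespace Groth.Agent.S9527

/-- Let X be a locally Noetherian scheme, F and G coherent O_X-modules, x ∈ X, and H = Hom_{O_X}(F, G)
the sheaf Hom. (1) If depth G_x ≥ 1 then depth H_x ≥ 1. (2) If depth G_x ≥ 2 then depth H_x ≥ 2.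
(Depths over the local ring O_{X,x}; the sheaf Hom is the right adjoint of F ⊗ − under its existence
binder; the zero module has depth ∞ in this convention.) -/
theorem result (X : Scheme.{u}) [IsLocallyNoetherian X] (F G : X.Modules)
    (hF : Coh.IsCoh F) (hG : Coh.IsCoh G) [DCoh.HasSheafHom F] (x : X) :
    ((1 : ℕ∞) ≤ LocCoh.depth (X.presheaf.stalk x) ↑(G.presheaf.stalk x) →
      (1 : ℕ∞) ≤ LocCoh.depth (X.presheaf.stalk x) ↑(((DCoh.sheafHom F).obj G).presheaf.stalk x)) ∧
    ((2 : ℕ∞) ≤ LocCoh.depth (X.presheaf.stalk x) ↑(G.presheaf.stalk x) →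
      (2 : ℕ∞) ≤ LocCoh.depth (X.presheaf.stalk x) ↑(((DCoh.sheafHom F).obj G).presheaf.stalk x)) := by
  have e := Coherent.K47.SheafHomStalk.stalkSheafHomEquiv hF G x
  rw [CalgA.DepthSmall.depth_congr e]
  have hfin : Module.Finite (X.presheaf.stalk x) (G.presheaf.stalk x) := Divis.StalkMod.finite_stalk hG x
  exact ⟨Coherent.K47.DepthHom.one_le_depth_hom _ _, Coherent.K47.DepthHom.two_le_depth_hom _ _⟩

end Groth.Agent.S9527
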