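import Groth.Statements.S9530
-- import your own Groth.Agent.* helpers here
import Groth.Agent.FormalB.ModPow

set_option autoImplicit false
universe u
open CategoryTheory CategoryTheory.Limits AlgebraicGeometry Opposite
open Algz

namespace Groth.Agent.S9530

open Groth.Agent.FormalB.ModPow

/-- The functor from Coh(X, I O_X) to pro-objects of quasi-coherent modules is fully faithful: for the
ideal sheaf I O_X of an ideal I of a base ring A and with positions shifted by one. Let X be a
Noetherian scheme over Spec A and F, G objects of Coh(X, I O_X). Let m be a monotone self-map of ℕ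
with n ≤ m n, let π be the levelwise map from the re-indexed system n ↦ F_(m n) to F whose
components are the transition maps of F, and let α be any levelwise map from the re-indexed system
to G. Then α factors as π followed by a unique morphism of systems β from F to G. (Existence is
fullness on this representative of a pro-morphism, uniqueness is faithfulness.) -/
theorem result (A : Type u) [CommRing A] (I : Ideal A) (X : Scheme.{u})
    [X.Over (Spec (CommRingCat.of A))] [IsNoetherian X] (F G : ℕᵒᵖ ⥤ X.Modules)
    (hF : Formal.IsCohFormal I F) (hG : Formal.IsCohFormal I G) (m : ℕ → ℕ) (hm : Monotone m)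
    (hle : ∀ n : ℕ, n ≤ m n) (π : DerCA.reindex F hm ⟶ F)
    (hπ : ∀ n : ℕ, π.app (op n) = F.map (homOfLE (hle n)).op) (α : DerCA.reindex F hm ⟶ G) :
    ∃! β : F ⟶ G, π ≫ β = α := by
  have hF' := ((isCohFormal_iff I F).1 hF).2
  have hG' := ((isCohFormal_iff I G).1 hG).2
  have hq : ∀ n : ℕ, IsModPow (I ^ (n + 1)) (π.app (op n)) := fun n => by
    rw [hπ n]
    exact hF'.isModPow (hle n)
  have he : ∀ n : ℕ, Epi (π.app (op n)) := fun n => (hq n).epi
  have hd : ∀ n : ℕ, ∃ ψ : F.obj (op n) ⟶ G.obj (op n), π.app (op n) ≫ ψ = α.app (op n) := by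
    intro n
    refine (hq n).desc (α.app (op n)) fun a ha => ?_
    have h1 : Formal.smulMod A ((DerCA.reindex F hm).obj (op n)) a ≫ α.app (op n) =
        α.app (op n) ≫ Formal.smulMod A (G.obj (op n)) a := smulMod_naturality _ _
    refine h1.trans ?_
    rw [hG'.killed n a ha, comp_zero]
  choose ψ hψ using hd
  refine ⟨NatTrans.ofOpSequence (F := F) (G := G) (fun n => ψ n) (fun n => ?_), ?_, ?_⟩
  · have := he (n + 1)
    rw [← cancel_epi (π.app (op (n + 1)))]
    have h1 := π.naturality (homOfLE (Nat.le_succ n)).op
    have h2 := α.naturality (homOfLE (Nat.le_succ n)).op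
    have h3 : π.app (op (n + 1)) ≫ F.map (homOfLE (Nat.le_succ n)).op ≫ ψ n =
        (DerCA.reindex F hm).map (homOfLE (Nat.le_succ n)).op ≫ α.app (op n) := by
      rw [← hψ n, ← Category.assoc, ← Category.assoc, h1]
    have h4 : π.app (op (n + 1)) ≫ ψ (n + 1) ≫ G.map (homOfLE (Nat.le_succ n)).op =
        (DerCA.reindex F hm).map (homOfLE (Nat.le_succ n)).op ≫ α.app (op n) := by
      rw [← Category.assoc, hψ (n + 1), h2]
    exact h3.trans h4.symm
  · ext n : 2
    obtain ⟨n⟩ := n
    exact hψ n
  · intro β hβ
    ext n : 2
    obtain ⟨n⟩ := n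
    have := he n
    refine (cancel_epi (π.app (op n))).1 ?_
    have h1 : π.app (op n) ≫ β.app (op n) = α.app (op n) := congrArg (fun t => t.app (op n)) hβ
    exact h1.trans (hψ n).symm

end Groth.Agent.S9530
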