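import Groth.Statements.S9545
-- import your own Groth.Agent.* helpers here
import Groth.Agent.Algz.K573.StrictSec

set_option autoImplicit false
universe u
open CategoryTheory
attribute [local instance] HasDerivedCategory.standard
open Algz

namespace Groth.Agent.S9545

open AlgebraicGeometry Opposite in
/-- Let A be a Noetherian ring which is I-adically complete and has a dualizing complex, I ⊆ 𝔞 ideals, d
≥ 1 with cd(A, I) ≤ d, U = Spec A ∖ V(𝔞) and F a coherent O_U-module. Assume that the completion of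
F satisfies the strict (1, 1 + d)-inequalities and that depth F_x ≥ 2 for every point x of U whose
closure in Spec A meets V(I) only inside V(𝔞). Then the canonical map from H^0(U, F) to lim_n H^0(U,
F/I^nF) is bijective. -/
theorem result (A : Type u) [CommRing A] [IsNoetherianRing A] (I 𝔞 : Ideal A) (hI𝔞 : I ≤ 𝔞)
    (F : (↑(LocCoh.puncturedOpen A 𝔞) : Scheme.{u}).Modules) (hF : Coh.IsCoh F) [IsAdicComplete I A] (hω : ∃ ω : Dual.D A, Dual.IsDualizing A ω) (d : ℕ) (hd1 : 1 ≤ d) (hcd : LocCoh.CdLE A I d)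
    (h₂ : Algz.StrictAbIneq A I (LocCoh.puncturedOpen A 𝔞) (Formal.completion I F) 1 (1 + d))
    (h₃ : ∀ x : (↑(LocCoh.puncturedOpen A 𝔞) : Scheme.{u}), (∀ r : ↥(Spec (CommRingCat.of A)), (LocCoh.puncturedOpen A 𝔞).ι.base x ⤳ r → r ∈ PrimeSpectrum.zeroLocus (R := A) ↑I → r ∉ (LocCoh.puncturedOpen A 𝔞)) → (2 : ℕ∞) ≤ LocCoh.depth ((↑(LocCoh.puncturedOpen A 𝔞) : Scheme.{u}).presheaf.stalk x) (F.presheaf.stalk x)) :
    Function.Bijective (Formal.toHHlim I F 0) := by
  rw [Groth.Agent.CohqB.LimZero.bijective_toHHlim_zero_iff]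
  exact K573.StrictSec.secComplete_of_strict I 𝔞 hI𝔞 F hF hω d hcd h₂ h₃

end Groth.Agent.S9545
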