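import Groth.Statements.S9547
import Groth.Agent.Algz.K165.Asm

set_option autoImplicit false
universe u
open CategoryTheory
attribute [local instance] HasDerivedCategory.standard
open Algz

namespace Groth.Agent.S9547

open AlgebraicGeometry Opposite in
/-- Let A be a Noetherian ring which is I-adically complete and has a dualizing complex, I ⊆ 𝔞 ideals, d
≥ 1 with cd(A, I) ≤ d, U = Spec A ∖ V(𝔞), and (F_n) an object of Coh(U, I O_U) which is isomorphic
to the completion of a coherent O_U-module and satisfies the strict (1, 1 + d)-inequalities. Then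
(F_n) is isomorphic to the completion of a coherent O_U-module F with depth F_x ≥ 2 at every point x
of U whose closure in Spec A meets V(I) only inside V(𝔞). (Uniqueness is the companion row.) -/
theorem result (A : Type u) [CommRing A] [IsNoetherianRing A] (I 𝔞 : Ideal A) (hI𝔞 : I ≤ 𝔞)
    (G : ℕᵒᵖ ⥤ (↑(LocCoh.puncturedOpen A 𝔞) : Scheme.{u}).Modules) (hG : Formal.IsCohFormal I G)
    [IsAdicComplete I A] (hω : ∃ ω : Dual.D A, Dual.IsDualizing A ω) (d : ℕ) (hd1 : 1 ≤ d) (hcd : LocCoh.CdLE A I d)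
    (h₂ : Algz.StrictAbIneq A I (LocCoh.puncturedOpen A 𝔞) G 1 (1 + d))
    (F₀ : (↑(LocCoh.puncturedOpen A 𝔞) : Scheme.{u}).Modules) (hF₀ : Coh.IsCoh F₀) (e₀ : Formal.completion I F₀ ≅ G) :
    ∃ F : (↑(LocCoh.puncturedOpen A 𝔞) : Scheme.{u}).Modules, Coh.IsCoh F ∧
      (∀ x : (↑(LocCoh.puncturedOpen A 𝔞) : Scheme.{u}), (∀ r : ↥(Spec (CommRingCat.of A)), (LocCoh.puncturedOpen A 𝔞).ι.base x ⤳ r → r ∈ PrimeSpectrum.zeroLocus (R := A) ↑I → r ∉ (LocCoh.puncturedOpen A 𝔞)) → (2 : ℕ∞) ≤ LocCoh.depth ((↑(LocCoh.puncturedOpen A 𝔞) : Scheme.{u}).presheaf.stalk x) (F.presheaf.stalk x)) ∧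
      Nonempty (Formal.completion I F ≅ G) := by
  obtain ⟨F, hF, hd2, ⟨c⟩⟩ := K165.Asm.exists_depthTwo hI𝔞 hω hcd F₀ hF₀
    (K573.HatIso.strictAbIneq_iso e₀ h₂)
  exact ⟨F, hF, hd2, ⟨c.symm ≪≫ e₀⟩⟩
end Groth.Agent.S9547
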