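import Groth.Statements.S9548
-- import your own Groth.Agent.* helpers here
import Groth.Agent.Algz.K573.HatIso

set_option autoImplicit false
universe u
open CategoryTheory
attribute [local instance] HasDerivedCategory.standard
open Algz

namespace Groth.Agent.S9548

open AlgebraicGeometry Opposite in
/-- Let A be a Noetherian ring which is I-adically complete and has a dualizing complex, I ⊆ 𝔞 ideals, d
≥ 1 with cd(A, I) ≤ d, U = Spec A ∖ V(𝔞), and (F_n) an object of Coh(U, I O_U) satisfying the strict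
(1, 1 + d)-inequalities. Two coherent O_U-modules F, F' with depth ≥ 2 at every point of U whose
closure in Spec A meets V(I) only inside V(𝔞), given with isomorphisms of their completions with
(F_n), are isomorphic compatibly with these isomorphisms. -/
theorem result (A : Type u) [CommRing A] [IsNoetherianRing A] (I 𝔞 : Ideal A) (hI𝔞 : I ≤ 𝔞)
    (G : ℕᵒᵖ ⥤ (↑(LocCoh.puncturedOpen A 𝔞) : Scheme.{u}).Modules) (hG : Formal.IsCohFormal I G)
    [IsAdicComplete I A] (hω : ∃ ω : Dual.D A, Dual.IsDualizing A ω) (d : ℕ) (hd1 : 1 ≤ d) (hcd : LocCoh.CdLE A I d)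
    (h₂ : Algz.StrictAbIneq A I (LocCoh.puncturedOpen A 𝔞) G 1 (1 + d))
    (F F' : (↑(LocCoh.puncturedOpen A 𝔞) : Scheme.{u}).Modules) (hF : Coh.IsCoh F) (hF' : Coh.IsCoh F')
    (hdF : ∀ x : (↑(LocCoh.puncturedOpen A 𝔞) : Scheme.{u}), (∀ r : ↥(Spec (CommRingCat.of A)), (LocCoh.puncturedOpen A 𝔞).ι.base x ⤳ r → r ∈ PrimeSpectrum.zeroLocus (R := A) ↑I → r ∉ (LocCoh.puncturedOpen A 𝔞)) → (2 : ℕ∞) ≤ LocCoh.depth ((↑(LocCoh.puncturedOpen A 𝔞) : Scheme.{u}).presheaf.stalk x) (F.presheaf.stalk x))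
    (hdF' : ∀ x : (↑(LocCoh.puncturedOpen A 𝔞) : Scheme.{u}), (∀ r : ↥(Spec (CommRingCat.of A)), (LocCoh.puncturedOpen A 𝔞).ι.base x ⤳ r → r ∈ PrimeSpectrum.zeroLocus (R := A) ↑I → r ∉ (LocCoh.puncturedOpen A 𝔞)) → (2 : ℕ∞) ≤ LocCoh.depth ((↑(LocCoh.puncturedOpen A 𝔞) : Scheme.{u}).presheaf.stalk x) (F'.presheaf.stalk x))
    (e : Formal.completion I F ≅ G) (e' : Formal.completion I F' ≅ G) :
    ∃ φ : F ≅ F', ∀ n : ℕ, Formal.modPowπ I (n + 1) F ≫ e.hom.app (op n) =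
      φ.hom ≫ Formal.modPowπ I (n + 1) F' ≫ e'.hom.app (op n) := by
  have hs := K573.StrictSec.secComplete_of_strict I 𝔞 hI𝔞 F hF hω d hcd
    (K573.HatIso.strictAbIneq_iso e h₂) hdF
  have hs' := K573.StrictSec.secComplete_of_strict I 𝔞 hI𝔞 F' hF' hω d hcd
    (K573.HatIso.strictAbIneq_iso e' h₂) hdF'
  obtain ⟨N, i1, i2, hNf, ⟨t⟩⟩ := K573.StrictComp.exists_mod _ F hF
  obtain ⟨N', j1, j2, hNf', ⟨t'⟩⟩ := K573.StrictComp.exists_mod _ F' hF'
  obtain ⟨φ, hφ, -⟩ := K573.StrictHom.existsUnique_hom _ I t hs' (e.hom ≫ e'.inv)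
  obtain ⟨ψ, hψ, -⟩ := K573.StrictHom.existsUnique_hom _ I t' hs (e'.hom ≫ e.inv)
  have h1 := K573.StrictHom.existsUnique_hom _ I t hs (𝟙 _)
  have h2 := K573.StrictHom.existsUnique_hom _ I t' hs' (𝟙 _)
  have hφ' : ∀ n : ℕ, Formal.modPowπ I (n + 1) F ≫ e.hom.app (op n) ≫ e'.inv.app (op n) =
      φ ≫ Formal.modPowπ I (n + 1) F' := hφ
  have hψ' : ∀ n : ℕ, Formal.modPowπ I (n + 1) F' ≫ e'.hom.app (op n) ≫ e.inv.app (op n) =
      ψ ≫ Formal.modPowπ I (n + 1) F := hψ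
  have c1 : φ ≫ ψ = 𝟙 F := by
    refine h1.unique (fun n => ?_) (fun n => ?_)
    · rw [Category.assoc, ← hψ' n]
      have h3 := congrArg (fun z => z ≫ e'.hom.app (op n) ≫ e.inv.app (op n)) (hφ' n)
      simp only [Category.assoc, Iso.inv_hom_id_app_assoc] at h3
      refine Eq.trans ?_ (h3.trans (Category.assoc _ _ _))
      exact congrArg (fun z => Formal.modPowπ I (n + 1) F ≫ z) (e.hom_inv_id_app (op n)).symm
    · rw [Category.id_comp]
      exact Category.comp_id _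
  have c2 : ψ ≫ φ = 𝟙 F' := by
    refine h2.unique (fun n => ?_) (fun n => ?_)
    · rw [Category.assoc, ← hφ' n]
      have h3 := congrArg (fun z => z ≫ e.hom.app (op n) ≫ e'.inv.app (op n)) (hψ' n)
      simp only [Category.assoc, Iso.inv_hom_id_app_assoc] at h3
      refine Eq.trans ?_ (h3.trans (Category.assoc _ _ _))
      exact congrArg (fun z => Formal.modPowπ I (n + 1) F' ≫ z) (e'.hom_inv_id_app (op n)).symm
    · rw [Category.id_comp]
      exact Category.comp_id _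
  refine ⟨⟨φ, ψ, c1, c2⟩, fun n => ?_⟩
  have h3 := congrArg (fun z => z ≫ e'.hom.app (op n)) (hφ' n)
  simp only [Category.assoc, Iso.inv_hom_id_app] at h3
  exact (congrArg (fun z => Formal.modPowπ I (n + 1) F ≫ z) (Category.comp_id _).symm).trans h3

end Groth.Agent.S9548
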