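import Groth.Statements.S9553
-- import your own Groth.Agent.* helpers here
import Groth.Agent.Algz.K573.Inj

set_option autoImplicit false
universe u
open CategoryTheory CategoryTheory.Limits AlgebraicGeometry Opposite
open Algz

namespace Groth.Agent.S9553

/-- Let A be a Noetherian ring, I ⊆ 𝔞 ideals, U = Spec A ∖ V(𝔞) with inclusion j, (F_n) an object of
Coh(U, I O_U), M = lim_n H^0(U, F_n) and G_n = (M/I^(n+1)M)~ (positions shifted by one). Assume the
limit topology of M agrees with the I-adic one: for every k some kernel of M → H^0(U, F_n) lies in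
I^k M. Let ℓ_n : M/I^(n+1)M → H^0(U, F_n) = Γ(Spec A, j_*F_n) be the factorisations of the
projections (they exist since F_n is killed by I^(n+1); they are pinned here by that property) and
G_n → j_*F_n the adjoint maps. Then (i) each G_n|_U is coherent, and (ii) the resulting morphism
(G_n|_U) → (F_n) of inverse systems is a monomorphism in Coh(U, I O_U) (an abelian category), in the
form the printed proof establishes: for every f ∈ 𝔞, a family of sections of the G_n over D(f),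
compatible under the transition maps, whose images in the Γ(D(f), j_*F_n) = Γ(D(f) ∩ U, F_n) all
vanish, is zero. -/
theorem result (A : Type u) [CommRing A] [IsNoetherianRing A] (I 𝔞 : Ideal A) (hI𝔞 : I ≤ 𝔞)
    (G : ℕᵒᵖ ⥤ (↑(LocCoh.puncturedOpen A 𝔞) : Scheme.{u}).Modules) (hG : Formal.IsCohFormal I G)
    (hb : ∀ k : ℕ, ∃ n : ℕ, LinearMap.ker (limit.π (Algz.sectMod A (LocCoh.puncturedOpen A 𝔞) G) (op n)).hom ≤
      I ^ k • (⊤ : Submodule A ↑(limit (Algz.sectMod A (LocCoh.puncturedOpen A 𝔞) G))))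
    (ℓ : ∀ n : ℕ, ModuleCat.of A (Formal2.quotPow A I ↑(limit (Algz.sectMod A (LocCoh.puncturedOpen A 𝔞) G)) n) ⟶ (Algz.sectMod A (LocCoh.puncturedOpen A 𝔞) G).obj (op n))
    (hℓ : ∀ n : ℕ, ModuleCat.ofHom (Formal2.quotPowπ A I ↑(limit (Algz.sectMod A (LocCoh.puncturedOpen A 𝔞) G)) n) ≫ ℓ n = limit.π (Algz.sectMod A (LocCoh.puncturedOpen A 𝔞) G) (op n)) :
    (∀ n : ℕ, Coh.IsCoh ((Scheme.Modules.restrictFunctor (LocCoh.puncturedOpen A 𝔞).ι).obj (Formal2.tmod A (Formal2.quotPow A I ↑(limit (Algz.sectMod A (LocCoh.puncturedOpen A 𝔞) G)) n)))) ∧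
    ∀ (f : A), f ∈ 𝔞 →
      ∀ x : (∀ n : ℕ, (Scheme.Modules.presheaf (Formal2.tmod A (Formal2.quotPow A I ↑(limit (Algz.sectMod A (LocCoh.puncturedOpen A 𝔞) G)) n))).obj (op (PrimeSpectrum.basicOpen f : (Spec (CommRingCat.of A)).Opens))),
        (∀ n : ℕ, Scheme.Modules.Hom.app (Formal2.tmodMap A (Formal2.quotPowTrans A I ↑(limit (Algz.sectMod A (LocCoh.puncturedOpen A 𝔞) G)) n)) (PrimeSpectrum.basicOpen f : (Spec (CommRingCat.of A)).Opens) (x (n + 1)) = x n) →
        (∀ n : ℕ, Scheme.Modules.Hom.app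
            (((tilde.adjunction (R := CommRingCat.of A)).homEquiv (ModuleCat.of A (Formal2.quotPow A I ↑(limit (Algz.sectMod A (LocCoh.puncturedOpen A 𝔞) G)) n))
              ((Scheme.Modules.pushforward (LocCoh.puncturedOpen A 𝔞).ι).obj (G.obj (op n)))).symm (ℓ n))
            (PrimeSpectrum.basicOpen f : (Spec (CommRingCat.of A)).Opens) (x n) = 0) →
        ∀ n : ℕ, x n = 0 := by
  have hU := Groth.Agent.FormalB.PuncSys.isCompact_puncturedOpen 𝔞
  have hℓ' : ∀ (n : ℕ) (y : ↑(limit (Algz.sectMod A (LocCoh.puncturedOpen A 𝔞) G))),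
      (ℓ n).hom (Submodule.Quotient.mk y) = (limit.π (Algz.sectMod A (LocCoh.puncturedOpen A 𝔞) G) (op n)).hom y :=
    fun n y => congr(($(hℓ n)).hom y)
  refine ⟨fun n => ?_, fun f hf x hx hx0 n => ?_⟩
  · exact K573.Epi.isCoh_theta_quotPow (LocCoh.puncturedOpen A 𝔞) hU G hG
      ↑(limit (Algz.sectMod A (LocCoh.puncturedOpen A 𝔞) G))
      (fun n => (limit.π (Algz.sectMod A (LocCoh.puncturedOpen A 𝔞) G) (op n)).hom) n (hb (n + 1))
  · refine K573.Inj.eq_zero_of (R := CommRingCat.of A) I ↑(limit (Algz.sectMod A (LocCoh.puncturedOpen A 𝔞) G))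
      (fun n => (Scheme.Modules.pushforward (LocCoh.puncturedOpen A 𝔞).ι).obj (G.obj (op n)))
      (fun n => ?_) ℓ ?_ ?_ (fun n => ModuleCat.ofHom (Formal2.quotPowTrans A I _ n)) ?_ f x hx hx0 n
    · have : CompactSpace (LocCoh.puncturedOpen A 𝔞 : Scheme.{u}) := isCompact_iff_compactSpace.1 hU
      have h0 : QuasiCompact (LocCoh.puncturedOpen A 𝔞).ι := inferInstance
      exact Groth.Agent.Ega1.QcqsPush.isQCoh_pushforward (LocCoh.puncturedOpen A 𝔞).ι _ (hG.1 n).1
    · intro n y hy k hk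
      have h1 : (limit.π (Algz.sectMod A (LocCoh.puncturedOpen A 𝔞) G) (op n)).hom y = 0 :=
        (hℓ' n y).symm.trans hy
      refine (hℓ' k y).trans ?_
      rw [← K573.ModLim.limEquiv_apply] at h1 ⊢
      rw [← K573.ModLim.L_tr _ hk, h1, map_zero]
      rfl
    · intro n
      obtain ⟨k, hk⟩ := hb (n + 1)
      exact ⟨k, fun y hy => hk ((hℓ' k y).symm.trans hy)⟩
    · intro n y
      rfl

end Groth.Agent.S9553
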