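import Groth.Statements.S9556
import Groth.Agent.EtLocal.K590.EtFamSep

set_option autoImplicit false
universe u
open EtLocal

namespace Groth.Agent.S9556

open AlgebraicGeometry CategoryTheory Limits in
/-- Let f : X ⟶ S be a separated morphism of schemes, s a point of S and x_1, …, x_n pairwise distinct
points of X over s such that f is unramified at each x_i (some open neighbourhood of x_i is locally
of finite type and formally unramified over S). Then there are an étale morphism g : U ⟶ S, a point
u of U over s, and a decomposition of X_U = X ×_S U into pairwise disjoint open subschemes W and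
finitely many V_k which together cover X_U, such that each V_k ⟶ U is a closed immersion whose image
contains u and no point of W over u maps to any of the x_i. -/
theorem result {X S : Scheme.{u}} (f : X ⟶ S)
    [IsSeparated f] (s : S)
    {ι : Type} [Finite ι] (x : ι → ↑X) (hinj : Function.Injective x) (hs : ∀ i, f (x i) = s)
    (hx : ∀ i, ∃ W : X.Opens, x i ∈ W ∧ LocallyOfFiniteType (W.ι ≫ f) ∧ FormallyUnramified (W.ι ≫ f)) :
    ∃ (U : Scheme.{u}) (g : U ⟶ S) (u : U), Etale g ∧ g u = s ∧
      ∃ (K : Type) (_ : Finite K) (W : (pullback f g).Opens) (V : K → (pullback f g).Opens),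
        W ⊔ (⨆ k, V k) = ⊤ ∧ (∀ k, Disjoint W (V k)) ∧ (∀ k k', k ≠ k' → Disjoint (V k) (V k')) ∧
        (∀ k, IsClosedImmersion ((V k).ι ≫ pullback.snd f g) ∧
          ∃ w : ↑(pullback f g), w ∈ V k ∧ pullback.snd f g w = u) ∧
        (∀ (w : ↑(pullback f g)) (i : ι), w ∈ W → pullback.snd f g w = u → pullback.fst f g w ≠ x i) := by
  obtain ⟨U, g, u, hg, hgu, K, hK, lab, V, H, hV⟩ := K590.EtFam.exists_mfam
    (P := @IsClosedImmersion) f s x hinj (fun i => by
      have h := K590.EtFam.exists_good f (x i) (hx i)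
      rwa [hs i] at h)
  obtain ⟨O, huO, hdisj⟩ := H.exists_disjoint hV
  have H' := H.refine O.ι ⟨u, huO⟩ rfl
  have hV' := fun k => K590.EtFam.of_restrict (P := @IsClosedImmersion) O.ι (V k) (hV k)
  obtain ⟨W, hW1, hW2, hW3⟩ := K590.EtFam.exists_compl hV'
  refine ⟨O, O.ι ≫ g, ⟨u, huO⟩, inferInstance, ?_, K, hK, W,
    fun k => K590.EtGood.bc f g O.ι ⁻¹ᵁ V k, hW1, hW2, hdisj,
    fun k => ⟨hV' k, H'.exists_mem k⟩, ?_⟩
  · exact (Scheme.Hom.comp_apply _ _ _).trans hgu
  · intro w i hw hwu hwx
    obtain ⟨k, -, hk⟩ := H'.cover w i hwu hwx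
    exact hW3 w hw k hk

end Groth.Agent.S9556
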