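import Groth.Statements.S9558
import Groth.Agent.EtLocal.K590.EtFamSep

set_option autoImplicit false
universe u
open EtLocal

namespace Groth.Agent.S9558

open AlgebraicGeometry CategoryTheory Limits in
/-- Let f : X ⟶ S be a separated morphism of schemes, s a point of S and x_1, …, x_n pairwise distinct
points of X over s such that f is étale at each x_i (the restriction of f to some open neighbourhood
of x_i is étale). Then there are an étale morphism g : U ⟶ S, a point u of U over s, and a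
decomposition of X_U = X ×_S U into pairwise disjoint open subschemes W and finitely many V_k which
together cover X_U, such that each V_k ⟶ U is an isomorphism and no point of W over u maps to any of
the x_i. -/
theorem result {X S : Scheme.{u}} (f : X ⟶ S)
    [IsSeparated f] (s : S)
    {ι : Type} [Finite ι] (x : ι → ↑X) (hinj : Function.Injective x) (hs : ∀ i, f (x i) = s)
    (hx : ∀ i, ∃ W : X.Opens, x i ∈ W ∧ Etale (W.ι ≫ f)) :
    ∃ (U : Scheme.{u}) (g : U ⟶ S) (u : U), Etale g ∧ g u = s ∧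
      ∃ (K : Type) (_ : Finite K) (W : (pullback f g).Opens) (V : K → (pullback f g).Opens),
        W ⊔ (⨆ k, V k) = ⊤ ∧ (∀ k, Disjoint W (V k)) ∧ (∀ k k', k ≠ k' → Disjoint (V k) (V k')) ∧
        (∀ k, IsIso ((V k).ι ≫ pullback.snd f g)) ∧
        (∀ (w : ↑(pullback f g)) (i : ι), w ∈ W → pullback.snd f g w = u → pullback.fst f g w ≠ x i) := by
  obtain ⟨U, g, u, hg, hgu, K, hK, lab, V, H, hV⟩ := K590.EtFam.exists_mfam
    (P := K590.EtFam.EtClosed) f s x hinj (fun i => by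
      have h := K590.EtFam.exists_good_etale f (x i) (hx i)
      rwa [hs i] at h)
  obtain ⟨O, huO, hdisj⟩ := H.exists_disjoint (fun k => (hV k).1)
  have H' := H.refine O.ι ⟨u, huO⟩ rfl
  have hV' := fun k => K590.EtFam.of_restrict (P := K590.EtFam.EtClosed) O.ι (V k) (hV k)
  have hV1 : ∀ k, IsOpenImmersion ((K590.EtGood.bc f g O.ι ⁻¹ᵁ V k).ι ≫
      pullback.snd f (O.ι ≫ g)) := by
    intro k
    have h1 : IsClosedImmersion ((K590.EtGood.bc f g O.ι ⁻¹ᵁ V k).ι ≫
      pullback.snd f (O.ι ≫ g)) := (hV' k).1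
    have h2 : Etale ((K590.EtGood.bc f g O.ι ⁻¹ᵁ V k).ι ≫
      pullback.snd f (O.ι ≫ g)) := (hV' k).2
    exact IsOpenImmersion.of_flat_of_mono _
  obtain ⟨O', huO', hiso⟩ := H'.exists_isIso hV1
  have H'' := H'.refine O'.ι ⟨⟨u, huO⟩, huO'⟩ rfl
  have hV'' := fun k => K590.EtFam.of_restrict (P := K590.EtFam.EtClosed) O'.ι _ (hV' k)
  obtain ⟨W, hW1, hW2, hW3⟩ := K590.EtFam.exists_compl (fun k => (hV'' k).1)
  refine ⟨O', O'.ι ≫ O.ι ≫ g, ⟨⟨u, huO⟩, huO'⟩, inferInstance, ?_, K, hK, W,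
    fun k => K590.EtGood.bc f (O.ι ≫ g) O'.ι ⁻¹ᵁ (K590.EtGood.bc f g O.ι ⁻¹ᵁ V k), hW1, hW2, ?_,
    hiso, ?_⟩
  · exact (Scheme.Hom.comp_apply _ _ _).trans ((Scheme.Hom.comp_apply _ _ _).trans hgu)
  · intro k k' hk
    have h := hdisj k k' hk
    rw [disjoint_iff, eq_bot_iff] at h ⊢
    rintro w ⟨hw, hw'⟩
    exact h (show K590.EtGood.bc f (O.ι ≫ g) O'.ι w ∈ _ from ⟨hw, hw'⟩)
  · intro w i hw hwu hwx
    obtain ⟨k, -, hk⟩ := H''.cover w i hwu hwx
    exact hW3 w hw k hk

end Groth.Agent.S9558
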