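import Groth.Statements.S9559
import Groth.Agent.S9558
import Mathlib.AlgebraicGeometry.Morphisms.Finite
import Mathlib.AlgebraicGeometry.Limits

set_option autoImplicit false
open CategoryTheory CategoryTheory.Limits AlgebraicGeometry Opposite
universe u
open EtLocal

namespace Groth.Agent.S9559

/-- A finite étale morphism f : X ⟶ S becomes, after base change to a suitable étale neighbourhood (U,
u) of any point s of S, a finite disjoint union of copies of U: X_U is isomorphic over U to a finite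
coproduct of schemes V_j each of which maps isomorphically onto U. -/
theorem result {X S : Scheme.{u}} (f : X ⟶ S) [IsFinite f] [Etale f] (s : S) :
    ∃ (U : Scheme.{u}) (g : U ⟶ S) (_ : AlgebraicGeometry.Etale g) (u : U) (_ : g.base u = s)
      (n : ℕ) (V : Fin n → Scheme.{u}) (c : ∀ j, V j ⟶ U) (_ : ∀ j, IsIso (c j))
      (e : (∐ V) ≅ pullback f g), ∀ j, Sigma.ι V j ≫ e.hom ≫ pullback.snd f g = c j := by
  have hfin : (f ⁻¹' {s}).Finite := f.finite_preimage_singleton s
  have : Finite (f ⁻¹' {s}) := hfin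
  obtain ⟨N, ⟨e₀⟩⟩ := Finite.exists_equiv_fin (f ⁻¹' {s})
  obtain ⟨U, g, u, hg, hgu, K, hK, W, V, hW1, hW2, hV3, hV4, hV5⟩ := Groth.Agent.S9558.result f s
    (fun i => (e₀.symm i).1) (Subtype.val_injective.comp e₀.symm.injective)
    (fun i => (e₀.symm i).2) (fun i => ⟨⊤, trivial, inferInstance⟩)
  -- `W` is closed, and its image does not contain `u`
  have hWc : IsClosed (W : Set ↑(pullback f g)) := by
    have h1 : (W : Set ↑(pullback f g)) = ((⨆ k, V k : (pullback f g).Opens) : Set _)ᶜ := by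
      ext w
      constructor
      · intro hw hw'
        obtain ⟨k, hk⟩ := TopologicalSpace.Opens.mem_iSup.mp hw'
        exact (disjoint_iff.mp (hW2 k)).le ⟨hw, hk⟩
      · intro hw
        have h2 : w ∈ W ⊔ (⨆ k, V k) := by rw [hW1]; trivial
        exact (TopologicalSpace.Opens.mem_sup.mp h2).resolve_right hw
    rw [h1]
    exact (⨆ k, V k : (pullback f g).Opens).isOpen.isClosed_compl
  have hCc : IsClosed (pullback.snd f g '' (W : Set ↑(pullback f g))) :=
    (pullback.snd f g).isClosedMap _ hWc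
  let O : U.Opens := ⟨(pullback.snd f g '' (W : Set ↑(pullback f g)))ᶜ, hCc.isOpen_compl⟩
  have huO : u ∈ O := by
    rintro ⟨w, hw, hwu⟩
    have h1 : f (pullback.fst f g w) = s := by
      rw [← Scheme.Hom.comp_apply, pullback.condition, Scheme.Hom.comp_apply, hwu, hgu]
    refine hV5 w (e₀ ⟨pullback.fst f g w, h1⟩) hw hwu ?_
    rw [Equiv.symm_apply_apply]
  have hWO : ∀ w : ↑(pullback f (O.ι ≫ g)), K590.EtGood.bc f g O.ι w ∉ W := by
    intro w hw
    have h1 : pullback.snd f g (K590.EtGood.bc f g O.ι w) =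
        O.ι (pullback.snd f (O.ι ≫ g) w) := by
      rw [← Scheme.Hom.comp_apply, K590.EtGood.bc_snd, Scheme.Hom.comp_apply]
    have h2 : O.ι (pullback.snd f (O.ι ≫ g) w) ∈ O := (pullback.snd f (O.ι ≫ g) w).2
    exact h2 ⟨_, hw, h1⟩
  obtain ⟨M, ⟨e₁⟩⟩ := Finite.exists_equiv_fin K
  let V' : Fin M → (pullback f (O.ι ≫ g)).Opens := fun j =>
    K590.EtGood.bc f g O.ι ⁻¹ᵁ V (e₁.symm j)
  have hiso : ∀ j, IsIso ((V' j).ι ≫ pullback.snd f (O.ι ≫ g)) := by
    intro j
    have := hV4 (e₁.symm j)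
    exact (K590.EtFam.isPullback_restrict f g O.ι (V (e₁.symm j))).isIso_snd_of_isIso
  have hcol : Nonempty (IsColimit (Cofan.mk (pullback f (O.ι ≫ g)) fun j => (V' j).ι)) := by
    apply nonempty_isColimit_cofanMk_of
    · rw [eq_top_iff]
      rintro w -
      have h2 : K590.EtGood.bc f g O.ι w ∈ W ⊔ (⨆ k, V k) := by rw [hW1]; trivial
      obtain ⟨k, hk⟩ := TopologicalSpace.Opens.mem_iSup.mp
        ((TopologicalSpace.Opens.mem_sup.mp h2).resolve_left (hWO w))
      refine TopologicalSpace.Opens.mem_iSup.mpr ⟨e₁ k, ?_⟩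
      rw [Scheme.Opens.opensRange_ι]
      change K590.EtGood.bc f g O.ι w ∈ V (e₁.symm (e₁ k))
      rw [Equiv.symm_apply_apply]
      exact hk
    · intro j j' hj
      simp only [Scheme.Opens.opensRange_ι]
      change Disjoint (V' j) (V' j')
      have h := hV3 (e₁.symm j) (e₁.symm j') (fun h => hj (e₁.symm.injective h))
      rw [disjoint_iff, eq_bot_iff] at h ⊢
      rintro w ⟨hw, hw'⟩
      exact h (show K590.EtGood.bc f g O.ι w ∈ _ from ⟨hw, hw'⟩)
  have hdesc : IsIso (Sigma.desc fun j => (V' j).ι) :=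
    (Cofan.nonempty_isColimit_iff_isIso_sigmaDesc _).mp hcol
  refine ⟨O, O.ι ≫ g, inferInstance, ⟨u, huO⟩, (Scheme.Hom.comp_apply _ _ _).trans hgu, M,
    fun j => V' j, fun j => (V' j).ι ≫ pullback.snd f (O.ι ≫ g), hiso,
    asIso (Sigma.desc fun j => (V' j).ι), fun j => ?_⟩
  rw [asIso_hom, Sigma.ι_desc_assoc]

end Groth.Agent.S9559
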