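import Groth.Statements.S9567
import Groth.Agent.EtLocal.K590.Monogenic

set_option autoImplicit false
universe u
open EtLocal

namespace Groth.Agent.S9567

open AlgebraicGeometry CategoryTheory in
/-- Let φ : X ⟶ Y be any morphism of schemes, x a point of X and V an affine open neighbourhood of φ(x),
with ring R = Γ(Y, V). If φ is étale on some open neighbourhood of x, then there are an affine open
neighbourhood U of x with φ(U) ⊆ V, a monic polynomial p over R and an open immersion j of U into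
Spec of (R[t]/(p))[1/p′] (the localization of R[t]/(p) away from the image of the derivative of p)
such that j followed by the projection to Spec R is the morphism U → Spec R induced by φ. -/
theorem result {X Y : Scheme.{u}} (φ : X ⟶ Y) (x : X)
    (V : Y.Opens) (hV : IsAffineOpen V) (hxV : φ.base x ∈ V)
    (hφ : ∃ W : X.Opens, x ∈ W ∧ Etale (W.ι ≫ φ)) :
    ∃ (U : X.Opens) (hU : IsAffineOpen U) (_ : x ∈ U) (e : U ≤ φ ⁻¹ᵁ V)
      (p : Polynomial Γ(Y, V)) (_ : p.Monic)
      (j : U.toScheme ⟶ Spec (CommRingCat.of (Localization.Away (AdjoinRoot.mk p (Polynomial.derivative p))))),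
      IsOpenImmersion j ∧
        j ≫ Spec.map (CommRingCat.ofHom
            (algebraMap Γ(Y, V) (Localization.Away (AdjoinRoot.mk p (Polynomial.derivative p))))) =
          hU.isoSpec.hom ≫ Spec.map (φ.appLE V U e) := by
  obtain ⟨W, hxW, hW⟩ := hφ
  obtain ⟨U', hU', hxU', hU'W⟩ := exists_isAffineOpen_mem_and_subset (X := X) (x := x)
    (U := W ⊓ φ ⁻¹ᵁ V) ⟨hxW, hxV⟩
  have hU'1 : U' ≤ W := hU'W.trans inf_le_left
  have hU'2 : U' ≤ φ ⁻¹ᵁ V := hU'W.trans inf_le_right
  have het : (φ.appLE V U' hU'2).hom.Etale := by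
    have h1 : Etale (φ.resLE V U' hU'2) := by
      have h2 : Etale (U'.ι ≫ φ) := by
        rw [← Scheme.homOfLE_ι X hU'1, Category.assoc]
        infer_instance
      have h3 : φ.resLE V U' hU'2 ≫ V.ι = U'.ι ≫ φ := by simp
      have h4 : Etale (φ.resLE V U' hU'2 ≫ V.ι) := by rw [h3]; exact h2
      exact Etale.of_comp _ V.ι
    have : IsAffine _ := hV
    have : IsAffine _ := hU'
    rw [HasRingHomProperty.iff_of_isAffine (P := @Etale)] at h1
    exact (RingHom.Etale.propertyIsLocal.respectsIso.arrow_mk_iso_iff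
        (arrowResLEAppIso φ V U' hU'2)).mp h1
  algebraize [(φ.appLE V U' hU'2).hom]
  obtain ⟨f, hf, hfs⟩ := Algebra.IsEtaleAt.exists_isStandardEtale (R := Γ(Y, V))
    (hU'.primeIdealOf ⟨x, hxU'⟩).asIdeal
  have hxU : x ∈ X.basicOpen f := by
    have h6 : hU'.primeIdealOf ⟨x, hxU'⟩ ∈ hU'.fromSpec ⁻¹ᵁ X.basicOpen f := by
      rw [hU'.fromSpec_preimage_basicOpen f]
      exact hf
    have h7 : hU'.fromSpec (hU'.primeIdealOf ⟨x, hxU'⟩) ∈ X.basicOpen f := h6
    rwa [hU'.fromSpec_primeIdealOf] at h7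
  have hU : IsAffineOpen (X.basicOpen f) := hU'.basicOpen f
  have hle : X.basicOpen f ≤ φ ⁻¹ᵁ V := (X.basicOpen_le f).trans hU'2
  let : Algebra Γ(Y, V) Γ(X, X.basicOpen f) := (φ.appLE V (X.basicOpen f) hle).hom.toAlgebra
  have : IsScalarTower Γ(Y, V) Γ(X, U') Γ(X, X.basicOpen f) := .of_algebraMap_eq' <| by
    simp only [RingHom.algebraMap_toAlgebra, ← CommRingCat.hom_comp, Scheme.Hom.appLE_map]
  have := hU'.isLocalization_basicOpen f
  have hst : Algebra.IsStandardEtale Γ(Y, V) Γ(X, X.basicOpen f) :=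
    .of_equiv ((IsLocalization.algEquiv (.powers f) (Localization.Away f)
      Γ(X, X.basicOpen f)).restrictScalars Γ(Y, V))
  obtain ⟨p, hp, ψ, hψ, ho⟩ := K590.Monogenic.exists_openImmersion_away (R := Γ(Y, V))
    (C := Γ(X, X.basicOpen f))
  refine ⟨X.basicOpen f, hU, hxU, hle, p, hp, hU.isoSpec.hom ≫ Spec.map (CommRingCat.ofHom ψ),
    inferInstance, ?_⟩
  rw [Category.assoc, ← Spec.map_comp, ← CommRingCat.ofHom_comp, hψ]
  rfl

end Groth.Agent.S9567
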