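import Groth.Statements.S9568
import Groth.Agent.EtLocal.K590.KaehlerKer
import Mathlib.Algebra.Module.LocalizedModule.Submodule

set_option autoImplicit false
universe u
open EtLocal

namespace Groth.Agent.S9568

/-- Let A be a ring, φ a surjection from the polynomial ring P = A[x_1, …, x_n] onto an A-algebra B with
kernel I, q a prime of B and 𝔮 its preimage in P. Then the localization at q of the module of
differentials Ω_{B/A} vanishes if and only if the images of the differentials dg, g ∈ I, span the
localization of Ω_{P/A} at 𝔮 over P_𝔮. (Geometrically: for f locally of finite type, the stalk of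
Ω_{X/Y} at x vanishes iff near x the scheme X is a closed subscheme of an affine space over the base
cut out by an ideal whose germs at the point have differentials generating the stalk of Ω of the
affine space; the published statement also lists the equivalence with f being unramified at x and
with the diagonal being a local isomorphism at x, which this row does not restate. The published
statement asks for one such presentation near the point; this row states the equivalence for every
presentation, which is what the published proof shows and which implies the existential form.) -/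
theorem result {A B : Type u} [CommRing A] [CommRing B]
    [Algebra A B] (n : ℕ) (φ : MvPolynomial (Fin n) A →ₐ[A] B) (hφ : Function.Surjective φ)
    (q : Ideal B) [q.IsPrime] :
    Subsingleton (LocalizedModule q.primeCompl (KaehlerDifferential A B)) ↔
      Submodule.span (Localization.AtPrime (q.comap φ.toRingHom))
        ((LocalizedModule.mkLinearMap (q.comap φ.toRingHom).primeCompl
            (KaehlerDifferential A (MvPolynomial (Fin n) A))) ''
          ((KaehlerDifferential.D A (MvPolynomial (Fin n) A)) '' (RingHom.ker φ.toRingHom : Set (MvPolynomial (Fin n) A)))) = ⊤ := by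
  let := φ.toRingHom.toAlgebra
  have : IsScalarTower A (MvPolynomial (Fin n) A) B := .of_algebraMap_eq' φ.comp_algebraMap.symm
  have hker := K590.KaehlerKer.ker_map_eq_span (A := A) (P := MvPolynomial (Fin n) A) (B := B) hφ
  change LinearMap.ker (KaehlerDifferential.map A A (MvPolynomial (Fin n) A) B) =
    Submodule.span (MvPolynomial (Fin n) A) ((KaehlerDifferential.D A (MvPolynomial (Fin n) A)) ''
      (RingHom.ker φ.toRingHom : Set (MvPolynomial (Fin n) A))) at hker
  rw [← Submodule.localized'_span (Localization.AtPrime (q.comap φ.toRingHom))
    (q.comap φ.toRingHom).primeCompl, ← hker, LocalizedModule.subsingleton_iff]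
  constructor
  · intro H
    rw [eq_top_iff]
    rintro x -
    obtain ⟨⟨m, s⟩, rfl⟩ := IsLocalizedModule.mk'_surjective (q.comap φ.toRingHom).primeCompl
      (LocalizedModule.mkLinearMap (q.comap φ.toRingHom).primeCompl
        (KaehlerDifferential A (MvPolynomial (Fin n) A))) x
    obtain ⟨r, hr, hr2⟩ := H (KaehlerDifferential.map A A (MvPolynomial (Fin n) A) B m)
    obtain ⟨t, rfl⟩ := hφ r
    have ht : t ∈ (q.comap φ.toRingHom).primeCompl := hr
    rw [Submodule.mem_localized']
    refine ⟨t • m, ?_, ⟨t, ht⟩ * s, ?_⟩
    · rw [LinearMap.mem_ker, map_smul]
      exact hr2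
    · exact IsLocalizedModule.mk'_cancel_left _ m ⟨t, ht⟩ s
  · intro H m
    obtain ⟨m, rfl⟩ := KaehlerDifferential.map_surjective_of_surjective A A
      (MvPolynomial (Fin n) A) B hφ m
    have hm : LocalizedModule.mkLinearMap (q.comap φ.toRingHom).primeCompl
        (KaehlerDifferential A (MvPolynomial (Fin n) A)) m ∈ (⊤ : Submodule (Localization.AtPrime (q.comap φ.toRingHom)) _) := trivial
    rw [← H, Submodule.mem_localized'] at hm
    obtain ⟨m', hm', s, hs⟩ := hm
    rw [IsLocalizedModule.mk'_eq_iff, ← LinearMap.map_smul_of_tower] at hs
    obtain ⟨c, hc⟩ := (IsLocalizedModule.eq_iff_exists (q.comap φ.toRingHom).primeCompl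
      (LocalizedModule.mkLinearMap (q.comap φ.toRingHom).primeCompl
        (KaehlerDifferential A (MvPolynomial (Fin n) A)))).mp hs
    refine ⟨φ (c * s), (c * s).2, ?_⟩
    have h1 : (c * s : MvPolynomial (Fin n) A) • m ∈
        LinearMap.ker (KaehlerDifferential.map A A (MvPolynomial (Fin n) A) B) := by
      have h2 : (c * s : MvPolynomial (Fin n) A) • m = (c : MvPolynomial (Fin n) A) • m' := by
        rw [mul_smul]; exact hc.symm
      rw [h2]
      exact Submodule.smul_mem _ _ hm'
    rw [LinearMap.mem_ker, map_smul] at h1
    exact h1

end Groth.Agent.S9568
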