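import Groth.Statements.S9571
-- import your own Groth.Agent.* helpers here

set_option autoImplicit false
universe u
open CategoryTheory CategoryTheory.Limits AlgebraicGeometry TopologicalSpace Opposite
open Constr

namespace Groth.Agent.S9571

/-- Let S be a graded ring, X = Proj S and d ≥ 1; let W_d be the union of the opens D_+(ab) over pairs
of homogeneous a, b with deg a = deg b + d (the open over which the twisting sheaves O_X(nd) are
invertible with compatible multiplications). For n ≥ 1 and f homogeneous of degree nd, with s the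
section of O_X(nd) over W_d defined by f, the non-vanishing locus (W_d)_s equals D_+(f) ∩ W_d.
Pointwise: for p in some D_+(ab) as above, p ∈ D_+(f) if and only if the value f/1 of s at p
generates the module of degree-nd fractions at p (the span of the fractions c/t with t ∉ p and deg c
= deg t + nd, over the degree-zero local ring at p). -/
theorem result {R A : Type u} [CommRing R] [CommRing A] [Algebra R A] (𝒜 : ℕ → Submodule R A) [GradedAlgebra 𝒜]
    {d : ℕ} (hd : 0 < d) {i j : ℕ} {a b : A} (ha : a ∈ 𝒜 i) (hb : b ∈ 𝒜 j) (hij : i = j + d)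
    (p : ProjectiveSpectrum 𝒜) (hp : p ∈ ProjectiveSpectrum.basicOpen 𝒜 (a * b))
    {n : ℕ} (hn : 0 < n) (f : 𝒜 (n * d)) :
    p ∈ ProjectiveSpectrum.basicOpen 𝒜 (f : A) ↔
      Submodule.span (Twist.A0 𝒜 p) {(Twist.globalOf 𝒜 f).1 ⟨p, trivial⟩} = ⊤ := by
  classical
  have hprime := p.isPrime
  let one : p.asHomogeneousIdeal.toIdeal.primeCompl :=
    ⟨1, fun h => p.isPrime.ne_top ((Ideal.eq_top_iff_one _).mpr h)⟩
  have hval : (((Twist.globalOf 𝒜 f).1 ⟨p, trivial⟩ : Twist.twistAt 𝒜 _ p) : Twist.Loc 𝒜 p) =
      Localization.mk (f : A) one := rfl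
  constructor
  · intro hf
    have hf' : (f : A) ∉ p.asHomogeneousIdeal := hf
    rw [eq_top_iff]
    rintro ⟨q, hq⟩ -
    suffices h : ∃ c : Twist.A0 𝒜 p, q = c.val * Localization.mk (f : A) one by
      obtain ⟨c, hc⟩ := h
      refine Submodule.mem_span_singleton.mpr ⟨c, ?_⟩
      refine Subtype.ext ?_
      rw [Twist.coe_smul_val, hval]
      exact hc.symm
    unfold Twist.twistAt at hq
    induction hq using Submodule.span_induction with
    | mem q h =>
      obtain ⟨i', j', a', s, hs, hij', rfl⟩ := h
      have hdeg : i' = j' + n * d := by omega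
      subst hdeg
      refine ⟨HomogeneousLocalization.mk ⟨j' + n * d, a', ⟨(s : A) * f, SetLike.mul_mem_graded s.2 f.2⟩,
        fun h => (hprime.mem_or_mem h).elim hs hf'⟩, ?_⟩
      rw [HomogeneousLocalization.val_mk, Localization.mk_mul, Localization.mk_eq_mk_iff,
        Localization.r_iff_exists]
      refine ⟨1, ?_⟩
      simp only [OneMemClass.coe_one, one_mul, Submonoid.coe_mul]
      ring
    | zero => exact ⟨0, by simp⟩
    | add x y _ _ hx hy =>
      obtain ⟨c, rfl⟩ := hx
      obtain ⟨c', rfl⟩ := hy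
      exact ⟨c + c', by simp [add_mul]⟩
    | smul r x _ hx =>
      obtain ⟨c, rfl⟩ := hx
      refine ⟨r * c, ?_⟩
      rw [Algebra.smul_def, HomogeneousLocalization.algebraMap_apply]
      simp [mul_assoc]
  · intro hspan hf
    have hf' : (f : A) ∈ p.asHomogeneousIdeal.toIdeal := hf
    have hab : a * b ∉ p.asHomogeneousIdeal := hp
    have ha' : a ∉ p.asHomogeneousIdeal := fun h => hab (Ideal.mul_mem_right _ _ h)
    have hb' : b ∉ p.asHomogeneousIdeal := fun h => hab (Ideal.mul_mem_left _ _ h)
    have hbn : b ^ n ∉ p.asHomogeneousIdeal := fun h => hb' (hprime.mem_of_pow_mem n h)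
    have han : a ^ n ∉ p.asHomogeneousIdeal := fun h => ha' (hprime.mem_of_pow_mem n h)
    let q : Twist.twistAt 𝒜 ((n * d : ℕ) : ℤ) p := ⟨Localization.mk (a ^ n) ⟨b ^ n, hbn⟩,
      Submodule.subset_span ⟨n • i, n • j, ⟨a ^ n, SetLike.pow_mem_graded n ha⟩,
        ⟨b ^ n, SetLike.pow_mem_graded n hb⟩, hbn, by subst hij; push_cast; simp; ring, rfl⟩⟩
    have hq : q ∈ Submodule.span (Twist.A0 𝒜 p) {(Twist.globalOf 𝒜 f).1 ⟨p, trivial⟩} := by
      rw [hspan]; trivial
    obtain ⟨c, hc⟩ := Submodule.mem_span_singleton.mp hq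
    have hc' := congrArg Subtype.val hc
    rw [Twist.coe_smul_val, hval] at hc'
    obtain ⟨c, rfl⟩ := HomogeneousLocalization.mk_surjective c
    rw [HomogeneousLocalization.val_mk, Localization.mk_mul] at hc'
    have hc2 := (Localization.mk_eq_mk_iff.mp hc')
    rw [Localization.r_iff_exists] at hc2
    obtain ⟨u, hu⟩ := hc2
    have hfrac : (u : A) * ((c.den : A) * 1 * a ^ n) ∉ p.asHomogeneousIdeal.toIdeal := by
      intro h
      rcases hprime.mem_or_mem h with h | h
      · exact u.2 h
      · rcases hprime.mem_or_mem h with h | h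
        · rw [mul_one] at h; exact c.den_mem h
        · exact han h
    apply hfrac
    have hu' : (u : A) * ((c.den : A) * 1 * a ^ n) = (u : A) * (b ^ n * ((c.num : A) * (f : A))) := by
      have := hu.symm
      simpa [one] using this
    rw [hu']
    exact Ideal.mul_mem_left _ _ (Ideal.mul_mem_left _ _ (Ideal.mul_mem_left _ _ hf'))

end Groth.Agent.S9571
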