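import Groth.Statements.S9572
import Groth.Agent.Constr.K591.AwayBij
import Groth.Agent.Ega2.H302.ConeFibre
import Mathlib.AlgebraicGeometry.Morphisms.IsIso

set_option autoImplicit false
universe u
open CategoryTheory CategoryTheory.Limits AlgebraicGeometry TopologicalSpace Opposite
open Constr

namespace Groth.Agent.S9572

/-- Let ψ : A → B be a homomorphism of graded rings such that A_d → B_d is bijective for all d ≥ d₀. Let
U(ψ) ⊆ Proj B be the union of the opens D_+(ψ f) over homogeneous f of positive degree, and r_ψ :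
U(ψ) → Proj A the morphism whose restriction to each chart Spec B_(ψ f) is Spec of the induced map
A_(f) → B_(ψ f) followed by the chart of Proj A. Then U(ψ) = Proj B and r_ψ is an isomorphism. (Here
r_ψ is any morphism with that chart description; it is unique.) -/
theorem result {R A : Type u} [CommRing R] [CommRing A] [Algebra R A] (𝒜 : ℕ → Submodule R A) [GradedAlgebra 𝒜]
    {B : Type u} [CommRing B] [Algebra R B] (ℬ : ℕ → Submodule R B) [GradedAlgebra ℬ] (ψ : 𝒜 →+*ᵍ ℬ)
    (d₀ : ℕ) (hbij : ∀ d : ℕ, d₀ ≤ d → Set.BijOn ψ (𝒜 d) (ℬ d))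
    (r : (PCone.dom ψ : Scheme.{u}) ⟶ Proj 𝒜)
    (hr : ∀ (d : ℕ) (f : A) (hd : 0 < d) (hf : f ∈ 𝒜 d),
      PCone.chart ψ hf hd ≫ r =
        Spec.map (CommRingCat.ofHom (HomogeneousLocalization.Away.map ψ f)) ≫ Proj.awayι 𝒜 f hf hd) :
    PCone.dom ψ = ⊤ ∧ IsIso r := by
  constructor
  · rw [eq_top_iff]
    intro x _
    obtain ⟨g, e, he, hg, hgx⟩ : ∃ (g : B) (e : ℕ), 0 < e ∧ g ∈ ℬ e ∧ g ∉ x.asHomogeneousIdeal := by
      obtain ⟨i, y, hy⟩ := (Proj.affineOpenCover ℬ).openCover.exists_eq x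
      refine ⟨i.2, i.1, i.1.2, i.2.2, ?_⟩
      have hmem : x ∈ (Proj.awayι ℬ (i.2 : B) i.2.2 i.1.2).opensRange := ⟨y, hy⟩
      rw [Proj.opensRange_awayι] at hmem
      exact hmem
    have hgn : g ^ (d₀ + 1) ∈ ℬ ((d₀ + 1) * e) := by
      have := SetLike.pow_mem_graded (d₀ + 1) hg
      rwa [smul_eq_mul] at this
    obtain ⟨f, hf, hfg⟩ := (hbij ((d₀ + 1) * e) (by nlinarith)).surjOn hgn
    refine Opens.mem_iSup.mpr ⟨⟨f, _, Nat.mul_pos (Nat.succ_pos _) he, hf⟩, ?_⟩
    intro hmem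
    apply hgx
    have hmem' : ψ f ∈ x.asHomogeneousIdeal.toIdeal := hmem
    rw [hfg] at hmem'
    exact x.isPrime.mem_of_pow_mem _ hmem'
  · change MorphismProperty.isomorphisms Scheme r
    refine IsZariskiLocalAtTarget.of_openCover (Proj.affineOpenCover 𝒜).openCover ?_
    intro i
    have hpb := (Groth.Agent.Ega2.H302.ConeFibre.isPullback_chart hr i.1.2 i.2.2).flip
    have hiso : IsIso (Spec.map (CommRingCat.ofHom (HomogeneousLocalization.Away.map ψ (i.2 : A)))) := by
      have h1 := K591.AwayBij.away_map_bijective ψ d₀ hbij i.1.2 i.2.2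
      have h2 : IsIso (CommRingCat.ofHom (HomogeneousLocalization.Away.map ψ (i.2 : A))) :=
        (ConcreteCategory.isIso_iff_bijective _).mpr h1
      infer_instance
    have h3 : hpb.isoPullback.inv ≫ Spec.map (CommRingCat.ofHom (HomogeneousLocalization.Away.map ψ (i.2 : A))) =
        pullback.snd r (Proj.awayι 𝒜 (i.2 : A) i.2.2 i.1.2) := hpb.isoPullback_inv_snd
    change IsIso (pullback.snd r (Proj.awayι 𝒜 (i.2 : A) i.2.2 i.1.2))
    rw [← h3]
    exact IsIso.comp_isIso' (Iso.isIso_inv hpb.isoPullback) hiso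

end Groth.Agent.S9572
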