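import Groth.Statements.S9573
import Groth.Agent.Constr.K591.ProjOpen
import Groth.Agent.Constr.K591.ToSpecZero
import Groth.Agent.FormalB.GrTildeSect

set_option autoImplicit false
universe u
open CategoryTheory CategoryTheory.Limits AlgebraicGeometry TopologicalSpace Opposite
open scoped HomogeneousIdeal
open Constr

namespace Groth.Agent.S9573

/-- Let A be a graded ring, g an element of degree zero and ψ : A → B = A_g the localization map, B
carrying the induced grading (B_n consists of the b with g^k b = ψ(a) for some k and some a ∈ A_n).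
Then the morphism r_ψ : Proj B → Proj A induced by ψ is everywhere defined, it is an open immersion
whose image is the inverse image of the basic open D(g) of Spec A_0 under the structure morphism
Proj A → Spec A_0, and for every integer n the canonical map θ : r_ψ^* O_{Proj A}(n) → O_{Proj B}(n)
(adjoint to a/f ↦ ψ(a)/ψ(f)) is an isomorphism. (The containment of B_+ in the ideal generated by
ψ(A_+), through which r_ψ is Proj.map here, follows from the other hypotheses and is carried as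
data.) -/
theorem result {R A : Type u} [CommRing R] [CommRing A] [Algebra R A] (𝒜 : ℕ → Submodule R A) [GradedAlgebra 𝒜]
    {B : Type u} [CommRing B] [Algebra R B] (ℬ : ℕ → Submodule R B) [GradedAlgebra ℬ] (ψ : 𝒜 →+*ᵍ ℬ)
    (g : A) (hg : g ∈ 𝒜 0) [Algebra A B] (hψA : ∀ a : A, ψ a = algebraMap A B a) [IsLocalization.Away g B]
    (hdeg : ∀ (n : ℕ) (b : B), b ∈ ℬ n ↔ ∃ (k : ℕ) (a : A), a ∈ 𝒜 n ∧ ψ g ^ k * b = ψ a)
    (hψ : HomogeneousIdeal.irrelevant ℬ ≤ (HomogeneousIdeal.irrelevant 𝒜).map ψ) :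
    IsOpenImmersion (Proj.map ψ hψ) ∧
      Set.range (Proj.map ψ hψ).base =
        (Proj.toSpecZero 𝒜).base ⁻¹' (PrimeSpectrum.basicOpen (⟨g, hg⟩ : 𝒜 0) : Set (PrimeSpectrum (𝒜 0))) ∧
      ∀ n : ℤ, IsIso (((Scheme.Modules.pullbackPushforwardAdjunction (Proj.map ψ hψ)).homEquiv _ _).symm
        (GrTwist.comap ψ hψ n)) := by
  have hunit : IsUnit (ψ g) := by
    rw [hψA]; exact IsLocalization.Away.algebraMap_isUnit g
  have hnot : ∀ y : ProjectiveSpectrum ℬ, ψ g ∉ y.asHomogeneousIdeal.toIdeal := fun y h =>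
    y.isPrime.ne_top (Ideal.eq_top_of_isUnit_mem _ h hunit)
  have hkill : ∀ a : A, ψ a = 0 → ∃ k : ℕ, g ^ k * a = 0 := by
    intro a ha
    rw [hψA] at ha
    obtain ⟨⟨_, k, rfl⟩, h⟩ := (IsLocalization.map_eq_zero_iff (Submonoid.powers g) B a).mp ha
    exact ⟨k, h⟩
  have hF : ∀ (f : A) (d : ℕ) (_ : f ∈ 𝒜 d), K591.ProjOpen.FBij ψ (f * g) d := by
    intro f d hf
    constructor
    · intro i b hb
      obtain ⟨k, a, ha, hab⟩ := (hdeg i b).mp hb
      refine ⟨k, f ^ k * a, ?_, ?_⟩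
      · have := SetLike.pow_mem_graded k hf
        rw [smul_eq_mul] at this
        exact SetLike.mul_mem_graded this ha
      · rw [map_mul, ← hab, map_mul, map_pow, mul_pow, mul_assoc]
    · intro i a ha h0
      obtain ⟨k, hk⟩ := hkill a h0
      exact ⟨k, by rw [mul_pow, mul_assoc, hk, mul_zero]⟩
  have hfg : ∀ (f : A) (d : ℕ) (_ : f ∈ 𝒜 d), f * g ∈ 𝒜 d := by
    intro f d hf
    have := SetLike.mul_mem_graded hf hg
    rwa [add_zero] at this
  have hcov : K591.ProjOpen.Cov ψ := by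
    intro y
    obtain ⟨d, f, hd, hf, hfy⟩ := Groth.Agent.FormalB.GrTildeSect.exists_pos_notMem 𝒜
      (ProjectiveSpectrum.comap ψ hψ y)
    refine ⟨f * g, d, hd, hfg f d hf, hF f d hf, ?_⟩
    rw [map_mul]
    exact fun h => (y.isPrime.mem_or_mem h).elim hfy (hnot y)
  refine ⟨hcov.isOpenImmersion hψ, ?_, fun n => hcov.isIso_adjunct hψ n⟩
  have hmem : ∀ x : Proj 𝒜, (Proj.toSpecZero 𝒜).base x ∈
      (PrimeSpectrum.basicOpen (⟨g, hg⟩ : 𝒜 0) : Set (PrimeSpectrum (𝒜 0))) ↔
      g ∉ (x : ProjectiveSpectrum 𝒜).asHomogeneousIdeal.toIdeal := by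
    exact fun x => K591.ToSpecZero.toSpecZero_mem_basicOpen_iff x ⟨g, hg⟩
  ext x
  constructor
  · rintro ⟨y, rfl⟩
    exact (hmem _).mpr (hnot y)
  · intro hx
    have hx' := (hmem x).mp hx
    obtain ⟨d, f, hd, hf, hfx⟩ := Groth.Agent.FormalB.GrTildeSect.exists_pos_notMem 𝒜 x
    exact K591.ProjOpen.basicOpen_subset_range hψ hd (hfg f d hf) (hF f d hf)
      (fun h => ((x : ProjectiveSpectrum 𝒜).isPrime.mem_or_mem h).elim hfx hx')

end Groth.Agent.S9573
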