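import Groth.Statements.S9575
import Groth.Agent.S1614

set_option autoImplicit false
universe u
open CategoryTheory CategoryTheory.Limits AlgebraicGeometry TopologicalSpace Opposite
open Constr

namespace Groth.Agent.S9575

/-- Let S be a graded ring, X = Proj S, d ≥ 1, and a, b homogeneous elements with deg a = deg b + d.
Then for every integer n the restriction of the twisting sheaf O_X(nd) to the standard open D_+(ab)
is isomorphic to the structure sheaf of D_+(ab): it is free of rank one, generated by the section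
(a/b)^n. (This is the invertibility half of the fact that D_+(ab) lies in the open W_d where the
O_X(nd) are invertible with compatible multiplications; existence of an isomorphism only. The
compatibility of the multiplication maps O_X(nd) ⊗ O_X(md) → O_X(nd+md) on this open, and the
converse statement that the largest such open is the union of the D_+(ab), are not stated here.) -/
theorem result {R A : Type u} [CommRing R] [CommRing A] [Algebra R A] (𝒜 : ℕ → Submodule R A) [GradedAlgebra 𝒜]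
    {d : ℕ} (hd : 0 < d) {i j : ℕ} {a b : A} (ha : a ∈ 𝒜 i) (hb : b ∈ 𝒜 j) (hij : i = j + d) (n : ℤ) :
    Nonempty ((Twist.twist 𝒜 (n * d)).restrict (Proj.basicOpen 𝒜 (a * b)).ι ≅
      Coh.structureModule ↑(Proj.basicOpen 𝒜 (a * b))) := by
  have hUa : ∀ k : ℕ, Proj.basicOpen 𝒜 (a * b) ≤ Proj.basicOpen 𝒜 (a ^ k) := fun k x hx =>
    Groth.Agent.VarietyB.TwistMul.pow_notMem x
      (fun h => hx (Ideal.mul_mem_right _ _ h)) k
  have hUb : ∀ k : ℕ, Proj.basicOpen 𝒜 (a * b) ≤ Proj.basicOpen 𝒜 (b ^ k) := fun k x hx =>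
    Groth.Agent.VarietyB.TwistMul.pow_notMem x
      (fun h => hx (Ideal.mul_mem_left _ _ h)) k
  have e0 : (Twist.twist 𝒜 0).restrict (Proj.basicOpen 𝒜 (a * b)).ι ≅
      Coh.structureModule ↑(Proj.basicOpen 𝒜 (a * b)) :=
    (Scheme.Modules.restrictFunctor (Proj.basicOpen 𝒜 (a * b)).ι).mapIso
      (Groth.Agent.VarietyB.TwistMul.zeroIso 𝒜).symm ≪≫ Scheme.Modules.restrictUnitIso _
  have hak : ∀ k : ℕ, a ^ k ∈ 𝒜 (k * i) := fun k => by simpa using SetLike.pow_mem_graded k ha
  have hbk : ∀ k : ℕ, b ^ k ∈ 𝒜 (k * j) := fun k => by simpa using SetLike.pow_mem_graded k hb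
  subst hij
  obtain ⟨k, hk | hk⟩ := Int.eq_nat_or_neg n
  · exact ⟨Groth.Agent.S1614.restrictMulIso 𝒜 ⟨b ^ k, hbk k⟩ (m := n * d) (m' := ((k * (j + d) : ℕ) : ℤ))
      (by rw [hk]; push_cast; ring) _ (hUb k) ≪≫
      (Groth.Agent.S1614.restrictMulIso 𝒜 ⟨a ^ k, hak k⟩ (m := 0) (m' := ((k * (j + d) : ℕ) : ℤ))
        (by push_cast; ring) _ (hUa k)).symm ≪≫ e0⟩
  · exact ⟨Groth.Agent.S1614.restrictMulIso 𝒜 ⟨a ^ k, hak k⟩ (m := n * d) (m' := ((k * j : ℕ) : ℤ))
      (by rw [hk]; push_cast; ring) _ (hUa k) ≪≫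
      (Groth.Agent.S1614.restrictMulIso 𝒜 ⟨b ^ k, hbk k⟩ (m := 0) (m' := ((k * j : ℕ) : ℤ))
        (by push_cast; ring) _ (hUb k)).symm ≪≫ e0⟩

end Groth.Agent.S9575
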