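import Groth.Statements.S9578
import Groth.Agent.Constr.K591.TildeTens

set_option autoImplicit false
universe u
open CategoryTheory CategoryTheory.Limits AlgebraicGeometry TopologicalSpace Opposite
open Constr

namespace Groth.Agent.S9578

/-- Let S be a graded ring, M a graded S-module (graded in non-negative degrees here), X = Proj S and d
≥ 1; let W_d ⊆ X be the union of the standard opens D_+(ab) over the pairs of homogeneous elements
a, b with deg a = deg b + d (the open over which the twisting sheaves O_X(nd) are invertible with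
compatible multiplications). Then for every integer n the restrictions to W_d of M~(nd) = M~ ⊗
O_X(nd) and of M(nd)~, the module attached to the shifted module, are isomorphic. (Existence of an
isomorphism only; in the published statement it is the canonical multiplication map M~ ⊗ O_X(nd) →
M(nd)~ that restricts to an isomorphism over W_d. That W_d is the largest open over which the
O_X(nd) are invertible with compatible multiplications is not stated here.) -/
theorem result {R A : Type u} [CommRing R] [CommRing A] [Algebra R A] (𝒜 : ℕ → Submodule R A) [GradedAlgebra 𝒜]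
    {M : Type u} [AddCommGroup M] [Module R M] [Module A M] [IsScalarTower R A M] (ℳ : ℕ → Submodule R M)
    [DirectSum.Decomposition ℳ] [SetLike.GradedSMul 𝒜 ℳ]
    {d : ℕ} (hd : 0 < d) (n : ℤ) :
    Nonempty ((Twist.twistBy 𝒜 (GrTilde.tilde 𝒜 ℳ 0) (n * d)).restrict
        (⨆ (j : ℕ) (a : 𝒜 (j + d)) (b : 𝒜 j), Proj.basicOpen 𝒜 ((a : A) * b)).ι ≅
      (GrTilde.tilde 𝒜 ℳ (n * d)).restrict
        (⨆ (j : ℕ) (a : 𝒜 (j + d)) (b : 𝒜 j), Proj.basicOpen 𝒜 ((a : A) * b)).ι) := by
  refine K591.TildeTens.nonempty_restrict_iso (ℳ := ℳ) (zero_add _) _ (fun x hx => ?_)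
  simp only [Opens.mem_iSup] at hx
  obtain ⟨j, a, b, hx⟩ := hx
  have hax : (a : A) ∉ (x : ProjectiveSpectrum 𝒜).asHomogeneousIdeal := fun h =>
    hx ((x : ProjectiveSpectrum 𝒜).asHomogeneousIdeal.toIdeal.mul_mem_right _ h)
  have hbx : (b : A) ∉ (x : ProjectiveSpectrum 𝒜).asHomogeneousIdeal := fun h =>
    hx ((x : ProjectiveSpectrum 𝒜).asHomogeneousIdeal.toIdeal.mul_mem_left _ h)
  have key : ∀ k l : ℕ, x ∈ Proj.basicOpen 𝒜 ((a : A) ^ k * (b : A) ^ l) := fun k l h =>
    ((x : ProjectiveSpectrum 𝒜).isPrime.mem_or_mem h).elim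
      (fun h => hax ((x : ProjectiveSpectrum 𝒜).isPrime.mem_of_pow_mem _ h))
      (fun h => hbx ((x : ProjectiveSpectrum 𝒜).isPrime.mem_of_pow_mem _ h))
  obtain ⟨k, rfl | rfl⟩ := n.eq_nat_or_neg
  · exact ⟨_, _, (a : A) ^ k, (b : A) ^ k, SetLike.pow_mem_graded k a.2, SetLike.pow_mem_graded k b.2,
      by simp only [smul_eq_mul]; push_cast; ring, key k k⟩
  · refine ⟨_, _, (b : A) ^ k, (a : A) ^ k, SetLike.pow_mem_graded k b.2, SetLike.pow_mem_graded k a.2,
      by simp only [smul_eq_mul]; push_cast; ring, ?_⟩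
    rw [mul_comm]
    exact key k k

end Groth.Agent.S9578
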