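import Groth.Statements.S9580
import Groth.Agent.Ega2.TwistInv
import Groth.Agent.FormalB.GrTildeSect

set_option autoImplicit false
universe u
open CategoryTheory CategoryTheory.Limits AlgebraicGeometry TopologicalSpace Opposite
open Constr

namespace Groth.Agent.S9580

open Groth.Agent.Ega2.TensHom in
/-- A generator over the image of `U` is a generator over `U` of the restriction to an open subscheme. -/
lemma isGen_restrict_open {X : Scheme.{u}} {M : X.Modules} {Y : X.Opens} {U : (Y : Scheme.{u}).Opens}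
    {e : Γ(M, Y.ι ''ᵁ U)} (he : IsGen M (Y.ι ''ᵁ U) e) :
    IsGen (M.restrict Y.ι) U ((M.restrictAppIso Y.ι U).inv e) := by
  intro V hV
  have h1 := he (Y.ι ''ᵁ V) (Y.ι.image_mono hV)
  have h2 : Function.Bijective (Y.ι.appIso V).inv := ConcreteCategory.bijective_of_isIso _
  exact h1.comp h2

/-- Let S be a graded ring, X = Proj S and Y ⊆ X a quasi-compact open subscheme. Then there is an
integer d ≥ 1 such that Y is contained in the open W_d, the union of the standard opens D_+(ab) over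
homogeneous a, b with deg a = deg b + d, and such that the restriction O_Y(nd) of O_X(nd) to Y is
invertible for every integer n. (The remaining assertions — the multiplication maps among the
O_Y(nd) and M~(nd) are isomorphisms, D_+(f) ∩ Y = Y_s, and the loci Y_s form a basis — are not
stated here.) -/
theorem result {R A : Type u} [CommRing R] [CommRing A] [Algebra R A] (𝒜 : ℕ → Submodule R A) [GradedAlgebra 𝒜]
    (Y : (Proj 𝒜).Opens) (hY : IsCompact (Y : Set (Proj 𝒜))) :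
    ∃ d : ℕ, 0 < d ∧
      (∀ y : Proj 𝒜, y ∈ Y → ∃ (i j : ℕ) (a b : A), a ∈ 𝒜 i ∧ b ∈ 𝒜 j ∧ i = j + d ∧ y ∈ Proj.basicOpen 𝒜 (a * b)) ∧
      ∀ n : ℤ, PicF.IsInvertible ((Twist.twist 𝒜 (n * d)).restrict Y.ι) := by
  classical
  choose dd hh hpos hmem hnot using
    fun x : ProjectiveSpectrum 𝒜 => Groth.Agent.FormalB.GrTildeSect.exists_pos_notMem 𝒜 x
  obtain ⟨t, ht⟩ := hY.elim_finite_subcover
    (fun x : ProjectiveSpectrum 𝒜 => ((Proj.basicOpen 𝒜 (hh x) : (Proj 𝒜).Opens) : Set (Proj 𝒜)))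
    (fun x => (Proj.basicOpen 𝒜 (hh x)).2)
    (fun y _ => Set.mem_iUnion.mpr ⟨y, hnot y⟩)
  refine ⟨∏ x ∈ t, dd x, Finset.prod_pos fun x _ => hpos x, ?_, ?_⟩
  · intro y hy
    obtain ⟨x, hx⟩ := Set.mem_iUnion.mp (ht hy)
    obtain ⟨hxt, hx⟩ := Set.mem_iUnion.mp hx
    refine ⟨∏ x ∈ t, dd x, 0, hh x ^ (∏ z ∈ t.erase x, dd z), 1, ?_, SetLike.GradedOne.one_mem,
      by simp, ?_⟩
    · rw [← Finset.prod_erase_mul _ _ hxt]
      have := SetLike.pow_mem_graded (∏ z ∈ t.erase x, dd z) (hmem x)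
      rwa [smul_eq_mul] at this
    · rw [mul_one]
      exact fun h => hx (y.isPrime.mem_of_pow_mem _ h)
  · intro n
    refine Groth.Agent.Ega2.TensHom.isInvertible_of_isGen _ (fun y => ?_)
    obtain ⟨x, hx⟩ := Set.mem_iUnion.mp (ht y.2)
    obtain ⟨hxt, hx⟩ := Set.mem_iUnion.mp hx
    let a : A := hh x ^ (∏ z ∈ t.erase x, dd z)
    have ha : a ∈ 𝒜 (∏ x ∈ t, dd x) := by
      rw [← Finset.prod_erase_mul _ _ hxt]
      have := SetLike.pow_mem_graded (∏ z ∈ t.erase x, dd z) (hmem x)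
      rwa [smul_eq_mul] at this
    have hay : (y.1 : Proj 𝒜) ∈ Proj.basicOpen 𝒜 a := fun h => hx (y.1.isPrime.mem_of_pow_mem _ h)
    have hpow : ∀ k : ℕ, a ^ k ∈ 𝒜 (k * ∏ x ∈ t, dd x) := fun k => by
      have := SetLike.pow_mem_graded k ha
      rwa [smul_eq_mul] at this
    have hnp : ∀ k : ℕ, ∀ z ∈ Proj.basicOpen 𝒜 a, a ^ k ∉ (z : ProjectiveSpectrum 𝒜).asHomogeneousIdeal :=
      fun k z hz h => hz (z.isPrime.mem_of_pow_mem _ h)
    obtain ⟨e, he⟩ : ∃ e : Γ(Twist.twist 𝒜 (n * (∏ x ∈ t, dd x : ℕ)), Proj.basicOpen 𝒜 a),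
        Groth.Agent.Ega2.TensHom.IsGen (Twist.twist 𝒜 (n * (∏ x ∈ t, dd x : ℕ))) (Proj.basicOpen 𝒜 a) e :=
      ⟨_, Groth.Agent.Ega2.TwistBasic.isGen_fracSec _ ⟨_, hpow n.toNat⟩ ⟨_, hpow (-n).toNat⟩
        (by
          have h1 : (n.toNat : ℤ) = (-n).toNat + n := by omega
          push_cast
          rw [h1]
          ring) _ (hnp _) (hnp _)⟩
    refine ⟨Y.ι ⁻¹ᵁ Proj.basicOpen 𝒜 a, _, hay,
      isGen_restrict_open (he.restrict (V := Y.ι ''ᵁ (Y.ι ⁻¹ᵁ Proj.basicOpen 𝒜 a)) ?_)⟩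
    exact Scheme.Hom.image_preimage_le _ _

end Groth.Agent.S9580
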