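import Groth.Statements.S9582
import Groth.Agent.CAlg.K75.WeakAss

set_option autoImplicit false
universe u
open CAlg

namespace Groth.Agent.S9582

/-- For a reduced ring R, the primes weakly associated to the R-module R (primes minimal over the
annihilator of some element) are exactly the minimal primes of R. -/
theorem result {R : Type u} [CommRing R] [IsReduced R] :
    FlatCA.weakAss R R = minimalPrimes R := by
  exact K75.WeakAss.weakAss_self_eq_minimalPrimes

end Groth.Agent.S9582
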