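import Groth.Statements.S9598
import Mathlib.RingTheory.Jacobson.Ring
import Mathlib.RingTheory.Ideal.AssociatedPrime.Finiteness
import Mathlib.RingTheory.KrullDimension.Zero

set_option autoImplicit false
universe u
open CAlg

namespace Groth.Agent.S9598

/-- For a field k and a finite type k-algebra S with dim S > 0, some element of S is a nonzerodivisor
and a nonunit. -/
theorem result {k S : Type u} [Field k] [CommRing S] [Algebra k S] [Algebra.FiniteType k S] (hdim : 0 < ringKrullDim S) :
    ∃ f : S, f ∈ nonZeroDivisors S ∧ ¬ IsUnit f := by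
  classical
  have hN : IsNoetherianRing S := Algebra.FiniteType.isNoetherianRing k S
  have hJ : IsJacobsonRing S := isJacobsonRing_of_finiteType (A := k)
  by_contra hcon
  push Not at hcon
  -- every maximal ideal is an associated prime
  have hmax : ∀ m : Ideal S, m.IsMaximal → m ∈ associatedPrimes S S := by
    intro m hm
    have h1 : (m : Set S) ⊆ ⋃ p ∈ associatedPrimes S S, p := by
      rw [biUnion_associatedPrimes_eq_compl_nonZeroDivisors]
      intro x hx hx'
      exact hm.ne_top (Ideal.eq_top_of_isUnit_mem _ hx (hcon x hx'))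
    obtain ⟨p, hp, hmp⟩ := (Ideal.subset_union_prime_finite (associatedPrimes.finite S S)
      (f := id) ⊤ ⊤ (fun p hp _ _ => hp.isPrime)).mp h1
    have : m = p := hm.eq_of_le hp.isPrime.ne_top hmp
    rw [this]
    exact hp
  have hfin := associatedPrimes.finite S S
  have h0 : Ring.KrullDimLE 0 S := by
    rw [Ring.krullDimLE_zero_iff]
    intro P hP
    by_contra hPmax
    have hg : ∀ q : Ideal S, ∃ g : S, g ∉ P ∧ (q.IsMaximal → g ∈ q) := by
      intro q
      by_cases h : q.IsMaximal
      · have h3 : ¬ q ≤ P := fun h' => hPmax ((h.eq_of_le hP.ne_top h') ▸ h)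
        obtain ⟨g, hg1, hg2⟩ := SetLike.not_le_iff_exists.mp h3
        exact ⟨g, hg2, fun _ => hg1⟩
      · exact ⟨1, (Ideal.ne_top_iff_one P).1 hP.ne_top, fun h' => absurd h' h⟩
    choose g hg1 hg2 using hg
    have hprod : ∏ q ∈ hfin.toFinset, g q ∉ P := by
      intro h
      obtain ⟨q, _, hq⟩ := (Ideal.IsPrime.prod_mem_iff).1 h
      exact hg1 q hq
    have hjac : P.jacobson = P := IsJacobsonRing.out ‹_› hP.isRadical
    rw [← hjac, Ideal.jacobson, Submodule.mem_sInf] at hprod
    push Not at hprod
    obtain ⟨J, ⟨hpJ, hJ⟩, hJ2⟩ := hprod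
    exact hJ2 (Ideal.mem_of_dvd _ (Finset.dvd_prod_of_mem g
      ((Set.Finite.mem_toFinset _).2 (hmax J hJ))) (hg2 J hJ))
  have hnt : Nontrivial S := by
    by_contra h
    rw [not_nontrivial_iff_subsingleton] at h
    rw [ringKrullDim_eq_bot_of_subsingleton] at hdim
    exact absurd hdim (by simp)
  rw [ringKrullDimZero_iff_ringKrullDim_eq_zero] at h0
  rw [h0] at hdim
  exact lt_irrefl _ hdim

end Groth.Agent.S9598
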