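import Groth.Statements.S9600
import Groth.Agent.CAlg.K76.AdicExact

set_option autoImplicit false
universe u
open CAlg

namespace Groth.Agent.S9600

/-- Let R be a ring, I an ideal of R and 0 → M → N → Q → 0 a short exact sequence of R-modules in which
Q is killed by some power I^c of I. Then on I-adic completions the map M^ → N^ is injective, N^ → Q^
is surjective with kernel equal to the image of M^, and the canonical map Q → Q^ is bijective; so 0
→ M^ → N^ → Q → 0 is again short exact. -/
theorem result {R : Type u} [CommRing R] (I : Ideal R) {M N Q : Type u} [AddCommGroup M] [Module R M] [AddCommGroup N] [Module R N] [AddCommGroup Q] [Module R Q] (i : M →ₗ[R] N) (g : N →ₗ[R] Q) (hi : Function.Injective i) (hg : Function.Surjective g) (hig : Function.Exact i g) (c : ℕ) (hc : ∀ x ∈ I ^ c, ∀ q : Q, x • q = 0) :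
    Function.Injective (AdicCompletion.map I i) ∧ Function.Exact (AdicCompletion.map I i) (AdicCompletion.map I g) ∧ Function.Surjective (AdicCompletion.map I g) ∧ Function.Bijective (AdicCompletion.of I Q) := by
  have hbot : (I ^ c • ⊤ : Submodule R Q) = ⊥ := by
    rw [eq_bot_iff, Submodule.smul_le]
    intro r hr q _
    rw [hc r hr q]
    exact zero_mem _
  have h : ∀ (n : ℕ) (x : M), i x ∈ (I ^ (n + c) • ⊤ : Submodule R N) →
      x ∈ (I ^ n • ⊤ : Submodule R M) := by
    intro n x hx
    have h1 : (I ^ c • ⊤ : Submodule R N) ≤ Submodule.map i ⊤ := by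
      intro y hy
      have h2 : g y ∈ (I ^ c • ⊤ : Submodule R Q) := by
        have := Submodule.mem_map_of_mem (f := g) hy
        rw [Submodule.map_smul'', Submodule.map_top, LinearMap.range_eq_top.mpr hg] at this
        exact this
      rw [hbot, Submodule.mem_bot] at h2
      obtain ⟨x, rfl⟩ := (hig y).mp h2
      exact ⟨x, trivial, rfl⟩
    rw [pow_add, mul_smul] at hx
    have h3 := Submodule.smul_mono (le_refl (I ^ n)) h1 hx
    rw [← Submodule.map_smul''] at h3
    obtain ⟨x', hx', hxx⟩ := h3
    rw [← hi hxx]
    exact hx'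
  refine ⟨K76.AdicExact.map_injective I i c h, K76.AdicExact.map_exact I i g hg hig c h,
    AdicCompletion.map_surjective I hg, ?_⟩
  rw [AdicCompletion.of_bijective_iff]
  have hH : IsHausdorff I Q := ⟨fun x hx => by
    have := hx c
    rw [SModEq.zero, hbot, Submodule.mem_bot] at this
    exact this⟩
  have hP : IsPrecomplete I Q := ⟨fun f hf => by
    refine ⟨f c, fun n => ?_⟩
    rcases le_total n c with hn | hn
    · exact hf hn
    · have h1 := hf hn
      rw [SModEq.sub_mem, hbot, Submodule.mem_bot, sub_eq_zero] at h1
      rw [h1]⟩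
  exact { hH, hP with }

end Groth.Agent.S9600
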