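import Groth.Statements.S9601
import Mathlib.RingTheory.AdicCompletion.Exactness

set_option autoImplicit false
universe u
open CAlg

namespace Groth.Agent.S9601

/-- For a ring R, an ideal I of R and an R-module M, let M^ be the I-adic completion and K_n the kernel
of the projection M^ → M/IⁿM. The completion M^ is I-adically complete exactly when K_n = Iⁿ M^
holds for every n ≥ 1. -/
theorem result {R : Type u} [CommRing R] (I : Ideal R) (M : Type u) [AddCommGroup M] [Module R M] :
    IsAdicComplete I (AdicCompletion I M) ↔ ∀ n : ℕ, 1 ≤ n → LinearMap.ker (AdicCompletion.eval I M n) = I ^ n • (⊤ : Submodule R (AdicCompletion I M)) := by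
  have hle : ∀ n : ℕ, I ^ n • (⊤ : Submodule R (AdicCompletion I M)) ≤
      LinearMap.ker (AdicCompletion.eval I M n) := by
    intro n
    rw [Submodule.smul_le]
    intro r hr x _
    rw [LinearMap.mem_ker, map_smul]
    obtain ⟨y, hy⟩ := Submodule.Quotient.mk_surjective _ (AdicCompletion.eval I M n x)
    rw [← hy, ← Submodule.Quotient.mk_smul, Submodule.Quotient.mk_eq_zero]
    exact Submodule.smul_mem_smul hr trivial
  constructor
  · intro hc n _
    apply le_antisymm _ (hle n)
    intro x hx
    obtain ⟨f, rfl⟩ := AdicCompletion.mk_surjective I M x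
    have hsm : ∀ (m : ℕ) (y : M), y ∈ (I ^ m • ⊤ : Submodule R M) →
        AdicCompletion.of I M y ∈ I ^ m • (⊤ : Submodule R (AdicCompletion I M)) := by
      intro m y hy
      have := Submodule.mem_map_of_mem (f := AdicCompletion.of I M) hy
      rw [Submodule.map_smul''] at this
      exact Submodule.smul_mono le_rfl le_top this
    have hcau : ∀ {m k : ℕ}, m ≤ k → AdicCompletion.of I M (f m) ≡ AdicCompletion.of I M (f k)
        [SMOD (I ^ m • ⊤ : Submodule R (AdicCompletion I M))] := by
      intro m k hmk
      rw [SModEq.sub_mem, ← map_sub]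
      exact hsm m _ (SModEq.sub_mem.mp (f.2 hmk))
    obtain ⟨L, hL⟩ := hc.toIsPrecomplete.prec hcau
    have hLx : L = AdicCompletion.mk I M f := by
      apply AdicCompletion.ext
      intro m
      have h1 := hle m (SModEq.sub_mem.mp (hL m))
      rw [LinearMap.mem_ker, map_sub, sub_eq_zero] at h1
      rw [← AdicCompletion.eval_apply, ← h1]
      rfl
    have h2 := SModEq.sub_mem.mp (hL n)
    rw [← hLx]
    have h3 : f n ∈ (I ^ n • ⊤ : Submodule R M) := by
      rw [LinearMap.mem_ker] at hx
      exact (Submodule.Quotient.mk_eq_zero _).mp hx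
    have h4 := Submodule.sub_mem _ (hsm n _ h3) h2
    rwa [sub_sub_cancel] at h4
  · intro h
    have hP : IsPrecomplete I (AdicCompletion I M) := ⟨fun f hf => by
      have hcomp : ∀ {m n : ℕ} (hmn : m ≤ n),
          AdicCompletion.transitionMap I M hmn ((f n).val n) = (f m).val m := by
        intro m n hmn
        rw [AdicCompletion.transitionMap_comp_eval_apply]
        have h1 := hle m (SModEq.sub_mem.mp (hf hmn))
        rw [LinearMap.mem_ker, map_sub, sub_eq_zero] at h1
        exact h1.symm
      let L : AdicCompletion I M := ⟨fun n => (f n).val n, fun {m n} hmn => hcomp hmn⟩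
      refine ⟨L, fun n => ?_⟩
      rw [SModEq.sub_mem]
      rcases Nat.eq_zero_or_pos n with rfl | hn
      · simp
      · rw [← h n hn, LinearMap.mem_ker, map_sub, sub_eq_zero]
        rfl⟩
    exact { (inferInstance : IsHausdorff I (AdicCompletion I M)), hP with }

end Groth.Agent.S9601
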