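import Groth.Statements.S9602
import Mathlib.RingTheory.AdicCompletion.Algebra
import Mathlib.RingTheory.Jacobson.Ideal
import Mathlib.RingTheory.Ideal.Quotient.Nilpotent

set_option autoImplicit false
universe u
open CAlg

namespace Groth.Agent.S9602

/-- Let R be a ring, I an ideal of R and R^ = lim R/Iⁿ the I-adic completion. An element of R^ whose
image in R/I is invertible is itself invertible in R^; and the kernel of R^ → R/I as well as the
extended ideal I R^ both lie inside the Jacobson radical of R^. -/
theorem result {R : Type u} [CommRing R] (I : Ideal R) :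
    (∀ x : AdicCompletion I R, IsUnit (AdicCompletion.evalOneₐ I x) → IsUnit x) ∧
      RingHom.ker (AdicCompletion.evalOneₐ I).toRingHom ≤ (⊥ : Ideal (AdicCompletion I R)).jacobson ∧
      I.map (algebraMap R (AdicCompletion I R)) ≤ (⊥ : Ideal (AdicCompletion I R)).jacobson := by
  have key : ∀ x : AdicCompletion I R, IsUnit (AdicCompletion.evalOneₐ I x) → IsUnit x := by
    intro x hx
    obtain ⟨v, hv⟩ := hx.exists_right_inv
    obtain ⟨r, rfl⟩ := Ideal.Quotient.mk_surjective v
    -- `z = 1 - x r` lies in the kernel of the projection to `R / I`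
    obtain ⟨a, ha⟩ := AdicCompletion.mk_surjective I R (1 - x * AdicCompletion.of I R r)
    have ha1 : ∀ n, 1 ≤ n → a n ∈ I := by
      intro n hn
      have h1 : AdicCompletion.evalOneₐ I (AdicCompletion.mk I R a) = 0 := by
        rw [ha, map_sub, map_one, map_mul, AdicCompletion.evalOneₐ_of]
        rw [hv, sub_self]
      have h2 : AdicCompletion.evalOneₐ I (AdicCompletion.mk I R a) =
          Ideal.Quotient.mk I (a 1) := rfl
      rw [h2, Ideal.Quotient.eq_zero_iff_mem] at h1
      have h3 := SModEq.sub_mem.mp (a.2 hn)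
      rw [pow_one, smul_eq_mul, Ideal.mul_top] at h3
      have h4 : a n = a 1 - (a.1 1 - a.1 n) := by
        change a.1 n = a.1 1 - (a.1 1 - a.1 n)
        ring
      rw [h4]
      exact I.sub_mem h1 h3
    have hcau : ∀ n, (∑ k ∈ Finset.range n, a n ^ k) ≡
        ∑ k ∈ Finset.range (n + 1), a (n + 1) ^ k [SMOD (I ^ n • ⊤ : Submodule R R)] := by
      intro n
      rw [SModEq.sub_mem, smul_eq_mul, Ideal.mul_top, Finset.sum_range_succ]
      have h3 := SModEq.sub_mem.mp (a.2 (Nat.le_succ n))
      rw [smul_eq_mul, Ideal.mul_top] at h3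
      have h5 : ∀ k, a n ^ k - a (n + 1) ^ k ∈ I ^ n := by
        intro k
        obtain ⟨c, hc⟩ := sub_dvd_pow_sub_pow (a n) (a (n + 1)) k
        rw [hc]
        exact Ideal.mul_mem_right _ _ h3
      have h6 : (∑ k ∈ Finset.range n, a n ^ k) - (∑ k ∈ Finset.range n, a (n + 1) ^ k +
          a (n + 1) ^ n) = ∑ k ∈ Finset.range n, (a n ^ k - a (n + 1) ^ k) - a (n + 1) ^ n := by
        rw [Finset.sum_sub_distrib]
        ring
      rw [h6]
      exact (I ^ n).sub_mem (Ideal.sum_mem _ fun k _ => h5 k)
        (Ideal.pow_mem_pow (ha1 (n + 1) (by omega)) n)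
    let b : AdicCompletion.AdicCauchySequence I R :=
      AdicCompletion.AdicCauchySequence.mk I R (fun n => ∑ k ∈ Finset.range n, a n ^ k) hcau
    have hb : x * (AdicCompletion.of I R r * AdicCompletion.mk I R b) = 1 := by
      have h7 : x * AdicCompletion.of I R r = 1 - AdicCompletion.mk I R a := by
        rw [ha]; ring
      rw [← mul_assoc, h7]
      apply AdicCompletion.ext_evalₐ
      intro n
      rw [map_mul, map_sub, map_one, AdicCompletion.evalₐ_mk, AdicCompletion.evalₐ_mk]
      have h8 : (b.val n) = ∑ k ∈ Finset.range n, a n ^ k := rfl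
      have h9 : a.val n = a n := rfl
      rw [h8, h9, ← map_one (Ideal.Quotient.mk (I ^ n)), ← map_sub, ← map_mul,
        Ideal.Quotient.eq]
      have h10 : (1 - a n) * ∑ k ∈ Finset.range n, a n ^ k - 1 = - a n ^ n := by
        rw [mul_neg_geom_sum]
        ring
      rw [h10]
      rcases Nat.eq_zero_or_pos n with rfl | hn
      · simp
      · exact (I ^ n).neg_mem (Ideal.pow_mem_pow (ha1 n hn) n)
    exact IsUnit.of_mul_eq_one _ hb
  have hjac : RingHom.ker (AdicCompletion.evalOneₐ I).toRingHom ≤
      (⊥ : Ideal (AdicCompletion I R)).jacobson := by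
    intro x hx
    rw [Ideal.mem_jacobson_bot]
    intro y
    apply key
    rw [RingHom.mem_ker] at hx
    have hx' : AdicCompletion.evalOneₐ I x = 0 := hx
    rw [map_add, map_mul, hx', zero_mul, zero_add, map_one]
    exact isUnit_one
  refine ⟨key, hjac, le_trans ?_ hjac⟩
  rw [Ideal.map_le_iff_le_comap]
  intro r hr
  rw [Ideal.mem_comap, RingHom.mem_ker]
  change AdicCompletion.evalOneₐ I (AdicCompletion.of I R r) = 0
  rw [AdicCompletion.evalOneₐ_of, Ideal.Quotient.eq_zero_iff_mem]
  exact hr

end Groth.Agent.S9602
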