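import Groth.Statements.S9603
import Mathlib.RingTheory.AdicCompletion.Algebra

set_option autoImplicit false
universe u
open CAlg

namespace Groth.Agent.S9603

/-- Elements of `(a_i : i ∈ s) M`. -/
theorem exists_sum {A ι M : Type*} [CommRing A] [AddCommGroup M] [Module A M] (a : ι → A)
    (s : Finset ι) (z : M)
    (hz : z ∈ ((s.sup fun i => Ideal.span {a i}) • ⊤ : Submodule A M)) :
    ∃ x : ι → M, z = ∑ i ∈ s, a i • x i := by
  classical
  induction s using Finset.induction_on generalizing z with
  | empty =>
    rw [Finset.sup_empty, Submodule.bot_smul, Submodule.mem_bot] at hz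
    exact ⟨fun _ => 0, by simp [hz]⟩
  | insert i s hi ih =>
    rw [Finset.sup_insert, Submodule.sup_smul, Submodule.mem_sup] at hz
    obtain ⟨y, hy, z', hz', rfl⟩ := hz
    obtain ⟨x, rfl⟩ := ih z' hz'
    rw [Submodule.ideal_span_singleton_smul, Submodule.mem_smul_pointwise_iff_exists] at hy
    obtain ⟨w, _, rfl⟩ := hy
    refine ⟨Function.update x i w, ?_⟩
    rw [Finset.sum_insert hi, Function.update_self]
    congr 1
    apply Finset.sum_congr rfl
    intro j hj
    rw [Function.update_of_ne]
    rintro rfl
    exact hi hj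

theorem pow_le {A ι : Type*} [CommRing A] (a : ι → A) (s : Finset ι) (n : ℕ) :
    (s.sup fun i => Ideal.span {a i}) ^ (s.card * n + 1) ≤
      s.sup fun i => Ideal.span {a i ^ n} := by
  classical
  induction s using Finset.induction_on with
  | empty => simp
  | insert i s hi ih =>
    rw [Finset.sup_insert, Finset.sup_insert, Finset.card_insert_of_notMem hi, add_mul, one_mul,
      add_comm (s.card * n), add_assoc]
    refine (Ideal.sup_pow_add_le_pow_sup_pow).trans ?_
    rw [Ideal.span_singleton_pow]
    exact sup_le_sup_left ih _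

/-- For a ring A, elements f_1, …, f_r generating an ideal I and an A-module M, if the canonical map
from M to its (f_i)-adic completion is surjective for every i, then the canonical map from M to its
I-adic completion is surjective. -/
theorem result {A : Type u} [CommRing A] {r : ℕ} (f : Fin r → A) (M : Type u) [AddCommGroup M] [Module A M] (h : ∀ i, Function.Surjective (AdicCompletion.of (Ideal.span {f i}) M)) :
    Function.Surjective (AdicCompletion.of (Ideal.span (Set.range f)) M) := by
  classical
  rw [AdicCompletion.of_surjective_iff]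
  have hi : ∀ i, IsPrecomplete (Ideal.span {f i}) M := fun i =>
    AdicCompletion.of_surjective_iff.mp (h i)
  have hspan : Ideal.span (Set.range f) = Finset.univ.sup fun i => Ideal.span {f i} := by
    rw [Finset.sup_univ_eq_iSup, ← Ideal.span_iUnion]
    congr 1
    ext x
    simp [eq_comm]
  have hJI : ∀ n, (Finset.univ.sup fun i => Ideal.span {f i ^ n}) ≤
      Ideal.span (Set.range f) ^ n := fun n => by
    rw [Finset.sup_le_iff]
    intro i _
    rw [Ideal.span_singleton_le_iff_mem]
    exact Ideal.pow_mem_pow (Ideal.subset_span (Set.mem_range_self i)) n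
  refine ⟨fun F hF => ?_⟩
  let e : ℕ → ℕ := fun n => (r + 1) * n + 1
  have hD : ∀ n, ∃ x : Fin r → M, F (e (n + 1)) - F (e n) = ∑ i, f i ^ n • x i := by
    intro n
    have h1 : F (e n) - F (e (n + 1)) ∈ (Ideal.span (Set.range f) ^ e n • ⊤ : Submodule A M) :=
      SModEq.sub_mem.mp (hF (by simp only [e]; nlinarith))
    have h2 : Ideal.span (Set.range f) ^ e n ≤ Finset.univ.sup fun i => Ideal.span {f i ^ n} := by
      refine le_trans ?_ (pow_le f Finset.univ n)
      rw [← hspan, Finset.card_univ, Fintype.card_fin]
      exact Ideal.pow_le_pow_right (by simp only [e]; nlinarith)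
    have h3 := Submodule.neg_mem _ (Submodule.smul_mono h2 le_rfl h1)
    rw [neg_sub] at h3
    exact exists_sum _ _ _ h3
  choose x hx using hD
  -- the partial sums
  have hconv : ∀ i, ∃ L : M, ∀ n, (∑ k ∈ Finset.range n, f i ^ k • x k i) ≡ L
      [SMOD (Ideal.span {f i} ^ n • ⊤ : Submodule A M)] := by
    intro i
    apply (hi i).prec
    have hc : AdicCompletion.IsAdicCauchy (Ideal.span {f i}) M
        (fun n => ∑ k ∈ Finset.range n, f i ^ k • x k i) :=
      (AdicCompletion.isAdicCauchy_iff (I := Ideal.span {f i})
        (f := fun n => ∑ k ∈ Finset.range n, f i ^ k • x k i)).mpr (fun n => by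
          rw [SModEq.sub_mem, Finset.sum_range_succ, sub_add_cancel_left]
          exact Submodule.neg_mem _ (Submodule.smul_mem_smul
            (Ideal.pow_mem_pow (Ideal.mem_span_singleton_self _) n) trivial))
    exact fun {m n} hmn => hc hmn
  choose L hL using hconv
  have hG : ∀ n, F (e n) = F (e 0) + ∑ i, ∑ k ∈ Finset.range n, f i ^ k • x k i := by
    intro n
    induction n with
    | zero => simp
    | succ n ih =>
      simp_rw [Finset.sum_range_succ]
      rw [Finset.sum_add_distrib, ← add_assoc, ← ih, ← hx n]
      abel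
  refine ⟨F (e 0) + ∑ i, L i, fun n => ?_⟩
  have h1 : F (e n) ≡ F (e 0) + ∑ i, L i [SMOD (Ideal.span (Set.range f) ^ n • ⊤ :
      Submodule A M)] := by
    rw [SModEq.sub_mem, hG n, add_sub_add_left_eq_sub, ← Finset.sum_sub_distrib]
    refine Submodule.sum_mem _ fun i _ => ?_
    refine Submodule.smul_mono ?_ le_rfl (SModEq.sub_mem.mp (hL i n))
    apply Ideal.pow_right_mono
    rw [Ideal.span_singleton_le_iff_mem]
    exact Ideal.subset_span (Set.mem_range_self i)
  refine (hF ?_).trans h1
  simp only [e]
  nlinarith

end Groth.Agent.S9603
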