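import Groth.Statements.S9604
import Mathlib.RingTheory.AdicCompletion.Algebra

set_option autoImplicit false
universe u
open CAlg

namespace Groth.Agent.S9604

theorem aux {R M : Type*} [CommRing R] (I J : Ideal R) (c d : ℕ) (hc : 0 < c) (hd : 0 < d)
    (hI : I ^ c ≤ J) (hJ : J ^ d ≤ I) [AddCommGroup M] [Module R M] (h : IsAdicComplete I M) :
    IsAdicComplete J M := by
  have hI' : ∀ n, I ^ (c * n) ≤ J ^ n := fun n => by
    rw [pow_mul]; exact Ideal.pow_right_mono hI n
  have hJ' : ∀ n, J ^ (d * n) ≤ I ^ n := fun n => by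
    rw [pow_mul]; exact Ideal.pow_right_mono hJ n
  have hH : IsHausdorff J M := ⟨fun x hx => h.toIsHausdorff.haus x fun n => by
    rw [SModEq.zero]
    exact Submodule.smul_mono (hJ' n) le_rfl (SModEq.zero.mp (hx (d * n)))⟩
  have hP : IsPrecomplete J M := ⟨fun f hf => by
    obtain ⟨L, hL⟩ := h.toIsPrecomplete.prec (f := fun n => f (d * n)) (fun {m n} hmn => by
      rw [SModEq.sub_mem]
      exact Submodule.smul_mono (hJ' m) le_rfl
        (SModEq.sub_mem.mp (hf (Nat.mul_le_mul_left d hmn))))
    refine ⟨L, fun n => ?_⟩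
    have h1 : f (d * (c * n)) ≡ L [SMOD (J ^ n • ⊤ : Submodule R M)] := by
      rw [SModEq.sub_mem]
      exact Submodule.smul_mono (hI' n) le_rfl (SModEq.sub_mem.mp (hL (c * n)))
    refine (hf ?_).trans h1
    calc n = 1 * (1 * n) := by simp
      _ ≤ d * (c * n) := Nat.mul_le_mul hd (Nat.mul_le_mul_right n hc)⟩
  exact { hH, hP with }

/-- Let R be a ring and I, J ideals of R with I^c ⊆ J and J^d ⊆ I for some integers c, d > 0. Then for
an R-module, being complete in the I-adic topology is equivalent to being complete in the J-adic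
topology. -/
theorem result {R : Type u} [CommRing R] (I J : Ideal R) (c d : ℕ) (hc : 0 < c) (hd : 0 < d) (hI : I ^ c ≤ J) (hJ : J ^ d ≤ I) (M : Type u) [AddCommGroup M] [Module R M] :
    IsAdicComplete I M ↔ IsAdicComplete J M := by
  exact ⟨aux I J c d hc hd hI hJ, aux J I d c hd hc hJ hI⟩

end Groth.Agent.S9604
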