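import Groth.Statements.S9605
import Mathlib.RingTheory.AdicCompletion.Exactness

set_option autoImplicit false
universe u
open CAlg

namespace Groth.Agent.S9605

/-- For a ring R, an ideal I of R, an I-adically complete R-module M and a submodule K of M, the
quotient M/K is I-adically complete if and only if K = ⋂ₙ (K + IⁿM). -/
theorem result {R : Type u} [CommRing R] (I : Ideal R) (M : Type u) [AddCommGroup M] [Module R M] [IsAdicComplete I M] (K : Submodule R M) :
    IsAdicComplete I (M ⧸ K) ↔ K = ⨅ n : ℕ, K ⊔ I ^ n • (⊤ : Submodule R M) := by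
  have hP : IsPrecomplete I (M ⧸ K) := by
    rw [← AdicCompletion.of_surjective_iff]
    intro y
    obtain ⟨z, rfl⟩ := AdicCompletion.map_surjective I (Submodule.mkQ_surjective K) y
    obtain ⟨m, rfl⟩ := AdicCompletion.of_surjective I M z
    exact ⟨K.mkQ m, (AdicCompletion.map_of I K.mkQ m).symm⟩
  have hmem : ∀ (n : ℕ) (x : M), Submodule.Quotient.mk (p := K) x ∈
      (I ^ n • ⊤ : Submodule R (M ⧸ K)) ↔ x ∈ K ⊔ I ^ n • (⊤ : Submodule R M) := by
    intro n x
    have h1 : (I ^ n • ⊤ : Submodule R (M ⧸ K)) = Submodule.map K.mkQ (I ^ n • ⊤) := by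
      rw [Submodule.map_smul'', Submodule.map_top, Submodule.range_mkQ]
    rw [h1]
    constructor
    · rintro ⟨y, hy, hxy⟩
      have h2 : x - y ∈ K := by
        rw [← Submodule.Quotient.eq]
        exact hxy.symm
      have h3 : x = (x - y) + y := by abel
      rw [h3]
      exact Submodule.add_mem_sup h2 hy
    · intro hx
      obtain ⟨k, hk, y, hy, rfl⟩ := Submodule.mem_sup.mp hx
      refine ⟨y, hy, ?_⟩
      change Submodule.Quotient.mk y = Submodule.Quotient.mk (k + y)
      rw [eq_comm, Submodule.Quotient.eq, add_sub_cancel_right]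
      exact hk
  constructor
  · intro h
    apply le_antisymm
    · exact le_iInf fun n => le_sup_left
    · intro x hx
      rw [Submodule.mem_iInf] at hx
      rw [← Submodule.Quotient.mk_eq_zero]
      apply h.toIsHausdorff.haus
      intro n
      rw [SModEq.zero, hmem]
      exact hx n
  · intro h
    have hH : IsHausdorff I (M ⧸ K) := ⟨fun x hx => by
      obtain ⟨x, rfl⟩ := Submodule.Quotient.mk_surjective K x
      rw [Submodule.Quotient.mk_eq_zero, h, Submodule.mem_iInf]
      intro n
      rw [← hmem, ← SModEq.zero]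
      exact hx n⟩
    exact { hH, hP with }

end Groth.Agent.S9605
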