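import Groth.Statements.S9606
import Groth.Agent.CAlg.K76.UInj

set_option autoImplicit false
universe u
open CAlg

namespace Groth.Agent.S9606

/-- Let R → S be a ring map with locally nilpotent kernel such that S is generated over R by elements x
with x² and x³ in the image of R. Then the induced map on spectra is a homeomorphism and every
residue field map κ(p) → κ(q), for q a prime of S with inverse image p, is bijective. -/
theorem result {R S : Type u} [CommRing R] [CommRing S] [Algebra R S]
    (hgen : Algebra.adjoin R {x : S | x ^ 2 ∈ Set.range (algebraMap R S) ∧ x ^ 3 ∈ Set.range (algebraMap R S)} = ⊤)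
    (hker : ∀ r : R, algebraMap R S r = 0 → IsNilpotent r) :
    IsHomeomorph (PrimeSpectrum.comap (algebraMap R S)) ∧
      ∀ (q : Ideal S) [q.IsPrime], Function.Bijective (Ideal.ResidueField.map (q.comap (algebraMap R S)) q (algebraMap R S) rfl) := by
  have hinj : Function.Injective (PrimeSpectrum.comap (algebraMap R S)) := by
    have hU : K76.UInj.IsUInj R S := by
      intro K _ f g hfg
      have hx : ∀ x : S, (x ^ 2 ∈ Set.range (algebraMap R S) ∧ x ^ 3 ∈ Set.range (algebraMap R S)) →
          f x = g x := by
        rintro x ⟨⟨a, ha⟩, ⟨b, hb⟩⟩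
        have h2 : f x ^ 2 = g x ^ 2 := by
          rw [← map_pow, ← map_pow, ← ha]; exact RingHom.congr_fun hfg a
        have h3 : f x ^ 3 = g x ^ 3 := by
          rw [← map_pow, ← map_pow, ← hb]; exact RingHom.congr_fun hfg b
        by_cases h0 : f x = 0
        · rw [h0] at h2 ⊢
          symm
          apply pow_eq_zero_iff (two_ne_zero) |>.mp
          rw [← h2]; ring
        · have h4 : f x ^ 2 * (f x - g x) = 0 := by
            calc f x ^ 2 * (f x - g x) = f x ^ 3 - f x ^ 2 * g x := by ring
              _ = g x ^ 3 - g x ^ 2 * g x := by rw [h2, h3]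
              _ = 0 := by ring
          rcases mul_eq_zero.mp h4 with h5 | h5
          · exact absurd (pow_eq_zero_iff (two_ne_zero) |>.mp h5) h0
          · exact sub_eq_zero.mp h5
      have hadj : ∀ s ∈ Algebra.adjoin R {x : S | x ^ 2 ∈ Set.range (algebraMap R S) ∧
          x ^ 3 ∈ Set.range (algebraMap R S)}, f s = g s := by
        intro s hs
        induction hs using Algebra.adjoin_induction with
        | mem x h => exact hx x h
        | algebraMap r => exact RingHom.congr_fun hfg r
        | add x y _ _ hx hy => rw [map_add, map_add, hx, hy]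
        | mul x y _ _ hx hy => rw [map_mul, map_mul, hx, hy]
      ext s
      apply hadj
      rw [hgen]
      trivial
    exact hU.injective
  have hint : (algebraMap R S).IsIntegral := by
    have h1 : Algebra.adjoin R {x : S | x ^ 2 ∈ Set.range (algebraMap R S) ∧
        x ^ 3 ∈ Set.range (algebraMap R S)} ≤ integralClosure R S := by
      rw [Algebra.adjoin_le_iff]
      rintro x ⟨⟨a, ha⟩, _⟩
      have h2 : IsIntegral R (x ^ 2) := ha ▸ isIntegral_algebraMap
      exact IsIntegral.of_pow two_pos h2
    intro s
    rw [hgen] at h1
    exact h1 trivial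
  have hclosed := PrimeSpectrum.isClosedMap_comap_of_isIntegral (algebraMap R S) hint
  have hdense : DenseRange (PrimeSpectrum.comap (algebraMap R S)) := by
    rw [PrimeSpectrum.denseRange_comap_iff_ker_le_nilRadical]
    exact fun r hr => hker r hr
  have hsurj : Function.Surjective (PrimeSpectrum.comap (algebraMap R S)) := by
    rw [← Set.range_eq_univ, ← hdense.closure_range]
    exact (hclosed.isClosed_range.closure_eq).symm
  refine ⟨(isHomeomorph_iff_continuous_isClosedMap_bijective).mpr
    ⟨PrimeSpectrum.continuous_comap _, hclosed, hinj, hsurj⟩, ?_⟩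
  intro q hq
  refine ⟨RingHom.injective _, ?_⟩
  let p := q.comap (algebraMap R S)
  let i := Ideal.ResidueField.map p q (algebraMap R S) rfl
  have hS : ∀ s : S, algebraMap S q.ResidueField s ∈ i.fieldRange := by
    have hR : ∀ r : R, algebraMap S q.ResidueField (algebraMap R S r) ∈ i.fieldRange := fun r =>
      ⟨algebraMap R p.ResidueField r, Ideal.ResidueField.map_algebraMap p q (algebraMap R S) rfl r⟩
    intro s
    have hs : s ∈ Algebra.adjoin R {x : S | x ^ 2 ∈ Set.range (algebraMap R S) ∧
        x ^ 3 ∈ Set.range (algebraMap R S)} := by rw [hgen]; trivial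
    induction hs using Algebra.adjoin_induction with
    | mem x h =>
      obtain ⟨⟨a, ha⟩, ⟨b, hb⟩⟩ := h
      by_cases h0 : algebraMap S q.ResidueField x = 0
      · rw [h0]; exact zero_mem _
      · have h1 : algebraMap S q.ResidueField x =
            algebraMap S q.ResidueField (algebraMap R S b) *
              (algebraMap S q.ResidueField (algebraMap R S a))⁻¹ := by
          rw [ha, hb, map_pow, map_pow]
          field_simp
        rw [h1]
        exact mul_mem (hR b) (inv_mem (hR a))
    | algebraMap r => exact hR r
    | add x y _ _ hx hy => rw [map_add]; exact add_mem hx hy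
    | mul x y _ _ hx hy => rw [map_mul]; exact mul_mem hx hy
  intro z
  obtain ⟨s, t, ht, rfl⟩ := IsFractionRing.div_surjective (A := S ⧸ q) z
  obtain ⟨s, rfl⟩ := Ideal.Quotient.mk_surjective s
  obtain ⟨t, rfl⟩ := Ideal.Quotient.mk_surjective t
  exact div_mem (hS s) (hS t)

end Groth.Agent.S9606
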