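import Groth.Statements.S9607
import Mathlib.Data.Nat.Choose.Factorization
import Mathlib.Data.Nat.Choose.Sum
import Mathlib.Algebra.Algebra.Subalgebra.Lattice
import Mathlib.Tactic.Ring
import Mathlib.Tactic.Linarith

set_option autoImplicit false
universe u
open CAlg

namespace Groth.Agent.S9607

/-- In a subring containing `x ^ (p ^ n)` and `p ^ n x` every `p ^ (n p ^ n) x ^ i` lies. -/
theorem aux {P : Type*} [CommRing P] (A : Subring P) (p n : ℕ) (hp : 0 < p) (x : P)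
    (h1 : x ^ (p ^ n) ∈ A) (h2 : (p : P) ^ n * x ∈ A) (i : ℕ) :
    (p : P) ^ (n * p ^ n) * x ^ i ∈ A := by
  have hpn : 0 < p ^ n := Nat.pow_pos hp
  have hr : i % p ^ n < p ^ n := Nat.mod_lt _ hpn
  have e : (p : P) ^ (n * p ^ n) * x ^ i = (p : P) ^ (n * (p ^ n - i % p ^ n)) *
      ((x ^ (p ^ n)) ^ (i / p ^ n) * ((p : P) ^ n * x) ^ (i % p ^ n)) := by
    have e1 : n * p ^ n = n * (p ^ n - i % p ^ n) + n * (i % p ^ n) := by
      rw [← mul_add, Nat.sub_add_cancel hr.le]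
    have e2 : x ^ i = x ^ (p ^ n * (i / p ^ n)) * x ^ (i % p ^ n) := by
      rw [← pow_add, Nat.div_add_mod]
    rw [e1, e2, pow_add, mul_pow, ← pow_mul, ← pow_mul]
    ring
  rw [e]
  refine A.mul_mem (A.pow_mem (natCast_mem A p) _) (A.mul_mem (A.pow_mem h1 _) (A.pow_mem h2 _))

theorem aux2 {P : Type*} [CommRing P] (A : Subring P) (p n : ℕ) (x : P)
    (h1 : x ^ (p ^ n) ∈ A) (i : ℕ) (hi : p ^ n ∣ i) : x ^ i ∈ A := by
  obtain ⟨c, rfl⟩ := hi
  rw [pow_mul]
  exact A.pow_mem h1 c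

theorem main {P : Type*} [CommRing P] (A : Subring P) (p n m : ℕ) (hp : p.Prime) (x y : P)
    (h1 : x ^ (p ^ n) ∈ A) (h2 : (p : P) ^ n * x ∈ A)
    (h3 : y ^ (p ^ m) ∈ A) (h4 : (p : P) ^ m * y ∈ A) :
    ∃ a : ℕ, (x + y) ^ (p ^ a) ∈ A ∧ (p : P) ^ a * (x + y) ∈ A := by
  refine ⟨n + m + (n * p ^ n + m * p ^ m), ?_, ?_⟩
  · rw [add_pow]
    refine A.sum_mem fun i hi => ?_
    have hi' : i ≤ p ^ (n + m + (n * p ^ n + m * p ^ m)) := by
      rw [Finset.mem_range] at hi; omega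
    by_cases hdvd : p ^ (n + m) ∣ i
    · refine A.mul_mem (A.mul_mem (aux2 A p n x h1 i ?_) (aux2 A p m y h3 _ ?_))
        (natCast_mem A _)
      · exact (pow_dvd_pow p (Nat.le_add_right n m)).trans hdvd
      · refine Nat.dvd_sub ?_ ((pow_dvd_pow p (Nat.le_add_left m n)).trans hdvd)
        exact pow_dvd_pow p (by omega)
    · have hi0 : i ≠ 0 := by rintro rfl; exact hdvd (dvd_zero _)
      have hv : i.factorization p < n + m := by
        by_contra hcon
        push Not at hcon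
        exact hdvd ((pow_dvd_pow p hcon).trans (Nat.ordProj_dvd i p))
      have hfac := Nat.factorization_choose_prime_pow_add_factorization hp hi' hi0
      have hdv : p ^ (n * p ^ n + m * p ^ m) ∣
          (p ^ (n + m + (n * p ^ n + m * p ^ m))).choose i :=
        (pow_dvd_pow p (by omega)).trans (Nat.ordProj_dvd _ p)
      obtain ⟨c, hc⟩ := hdv
      rw [hc, Nat.cast_mul, Nat.cast_pow]
      have e : x ^ i * y ^ (p ^ (n + m + (n * p ^ n + m * p ^ m)) - i) *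
          ((p : P) ^ (n * p ^ n + m * p ^ m) * (c : P)) =
          ((p : P) ^ (n * p ^ n) * x ^ i) * ((p : P) ^ (m * p ^ m) *
            y ^ (p ^ (n + m + (n * p ^ n + m * p ^ m)) - i)) * (c : P) := by
        rw [pow_add (p : P)]
        ring
      rw [e]
      exact A.mul_mem (A.mul_mem (aux A p n hp.pos x h1 h2 _) (aux A p m hp.pos y h3 h4 _))
        (natCast_mem A c)
  · have e : (p : P) ^ (n + m + (n * p ^ n + m * p ^ m)) * (x + y) =
        (p : P) ^ (m + (n * p ^ n + m * p ^ m)) * ((p : P) ^ n * x) +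
          (p : P) ^ (n + (n * p ^ n + m * p ^ m)) * ((p : P) ^ m * y) := by
      rw [pow_add (p : P), pow_add (p : P) n, pow_add (p : P) m, pow_add (p : P) n (_ + _)]
      ring
    rw [e]
    exact A.add_mem (A.mul_mem (A.pow_mem (natCast_mem A p) _) h2)
      (A.mul_mem (A.pow_mem (natCast_mem A p) _) h4)

/-- For a prime number p and integers n, m > 0 there exists an integer a such that (x + y)^(p^a) and p^a
(x + y) both belong to the subring ℤ[x^(p^n), p^n x, y^(p^m), p^m y] of the polynomial ring ℤ[x, y]. -/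
theorem result (p : ℕ) (hp : p.Prime) (n m : ℕ) (hn : 0 < n) (hm : 0 < m) :
    ∃ a : ℕ, ((MvPolynomial.X 0 + MvPolynomial.X 1 : MvPolynomial (Fin 2) ℤ) ^ (p ^ a) ∈ Algebra.adjoin ℤ ({MvPolynomial.X 0 ^ (p ^ n), (p : MvPolynomial (Fin 2) ℤ) ^ n * MvPolynomial.X 0, MvPolynomial.X 1 ^ (p ^ m), (p : MvPolynomial (Fin 2) ℤ) ^ m * MvPolynomial.X 1} : Set (MvPolynomial (Fin 2) ℤ)) ∧
      (p : MvPolynomial (Fin 2) ℤ) ^ a * (MvPolynomial.X 0 + MvPolynomial.X 1) ∈ Algebra.adjoin ℤ ({MvPolynomial.X 0 ^ (p ^ n), (p : MvPolynomial (Fin 2) ℤ) ^ n * MvPolynomial.X 0, MvPolynomial.X 1 ^ (p ^ m), (p : MvPolynomial (Fin 2) ℤ) ^ m * MvPolynomial.X 1} : Set (MvPolynomial (Fin 2) ℤ))) := by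
  exact main (Algebra.adjoin ℤ ({MvPolynomial.X 0 ^ (p ^ n), (p : MvPolynomial (Fin 2) ℤ) ^ n * MvPolynomial.X 0, MvPolynomial.X 1 ^ (p ^ m), (p : MvPolynomial (Fin 2) ℤ) ^ m * MvPolynomial.X 1} : Set (MvPolynomial (Fin 2) ℤ))).toSubring
    p n m hp (MvPolynomial.X 0) (MvPolynomial.X 1) (Algebra.subset_adjoin (by simp))
    (Algebra.subset_adjoin (by simp)) (Algebra.subset_adjoin (by simp))
    (Algebra.subset_adjoin (by simp))

end Groth.Agent.S9607
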