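import Groth.Statements.S9608
import Mathlib.FieldTheory.PurelyInseparable.PerfectClosure

set_option autoImplicit false
universe u
open CAlg

namespace Groth.Agent.S9608

/-- Let k'/k be a field extension and p a prime number. Then k' is generated over k by elements x for
which some n > 0 has x^(p^n) ∈ k and p^n x ∈ k, if and only if either k' = k, or k has
characteristic p and k'/k is purely inseparable. -/
theorem result {k k' : Type u} [Field k] [Field k'] [Algebra k k'] (p : ℕ) (hp : p.Prime) :
    IntermediateField.adjoin k {x : k' | ∃ n : ℕ, 0 < n ∧ x ^ (p ^ n) ∈ Set.range (algebraMap k k') ∧ (p : k') ^ n * x ∈ Set.range (algebraMap k k')} = ⊤ ↔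
      (Function.Surjective (algebraMap k k') ∨ (CharP k p ∧ IsPurelyInseparable k k')) := by
  constructor
  · intro h
    by_cases hpk : (p : k) = 0
    · right
      have hchar : CharP k p := by
        obtain ⟨q, hq⟩ := CharP.exists k
        have h1 : q ∣ p := (CharP.cast_eq_zero_iff k q p).mp hpk
        rcases (Nat.dvd_prime hp).mp h1 with h2 | h2
        · exfalso
          subst h2
          have h3 := CharP.cast_eq_zero k 1
          rw [Nat.cast_one] at h3
          exact one_ne_zero h3
        · rwa [← h2]
      refine ⟨hchar, ?_⟩
      have : Fact p.Prime := ⟨hp⟩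
      have hexp : ExpChar k p := ExpChar.prime hp
      have h2 : IsPurelyInseparable k (⊤ : IntermediateField k k') := by
        rw [← h, IntermediateField.isPurelyInseparable_adjoin_iff_pow_mem _ _ p]
        rintro x ⟨n, _, hn, _⟩
        exact ⟨n, hn⟩
      exact (IntermediateField.topEquiv : (⊤ : IntermediateField k k') ≃ₐ[k] k').isPurelyInseparable
    · left
      have hpk' : (p : k') ≠ 0 := by
        intro h1
        apply hpk
        apply (algebraMap k k').injective
        rw [map_natCast, h1, map_zero]
      have h2 : IntermediateField.adjoin k {x : k' | ∃ n : ℕ, 0 < n ∧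
          x ^ (p ^ n) ∈ Set.range (algebraMap k k') ∧
          (p : k') ^ n * x ∈ Set.range (algebraMap k k')} ≤ ⊥ := by
        rw [IntermediateField.adjoin_le_iff]
        rintro x ⟨n, _, _, a, ha⟩
        change x ∈ (⊥ : IntermediateField k k')
        rw [IntermediateField.mem_bot]
        refine ⟨a / (p : k) ^ n, ?_⟩
        rw [map_div₀, ha, map_pow, map_natCast]
        field_simp
      rw [h] at h2
      intro x
      exact IntermediateField.mem_bot.mp (h2 (IntermediateField.mem_top (x := x)))
  · rintro (h | ⟨hchar, hpi⟩)
    · rw [eq_top_iff]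
      intro x _
      obtain ⟨a, rfl⟩ := h x
      exact IntermediateField.algebraMap_mem _ a
    · rw [eq_top_iff]
      intro x _
      apply IntermediateField.subset_adjoin
      have : Fact p.Prime := ⟨hp⟩
      have hexp : ExpChar k p := ExpChar.prime hp
      obtain ⟨n, y, hy⟩ := (isPurelyInseparable_iff_pow_mem k p).mp hpi x
      refine ⟨n + 1, Nat.succ_pos n, ⟨y ^ p, ?_⟩, ⟨0, ?_⟩⟩
      · rw [map_pow, hy, pow_succ, pow_mul]
      · have h0 : (p : k') = 0 := by
          rw [← map_natCast (algebraMap k k'), CharP.cast_eq_zero, map_zero]
        rw [h0, map_zero, pow_succ, mul_zero, zero_mul]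

end Groth.Agent.S9608
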