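import Groth.Statements.S9610
import Mathlib.LinearAlgebra.Dimension.Basic
import Mathlib.Algebra.Polynomial.Roots

set_option autoImplicit false
universe u
open CAlg

namespace Groth.Agent.S9610

open Polynomial in
theorem isUnit_aeval {k V : Type*} [Field k] [AddCommGroup V] [Module k V] (T : Module.End k V)
    (h : ∀ P : k[X], P.Monic → IsUnit (aeval T P)) {Q : k[X]} (hQ : Q ≠ 0) :
    IsUnit (aeval T Q) := by
  have h1 : Q = Polynomial.C Q.leadingCoeff * (Q * Polynomial.C Q.leadingCoeff⁻¹) := by
    rw [mul_comm Q, ← mul_assoc, ← Polynomial.C_mul,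
      mul_inv_cancel₀ (Polynomial.leadingCoeff_ne_zero.mpr hQ), Polynomial.C_1, one_mul]
  rw [h1, map_mul, Polynomial.aeval_C]
  refine IsUnit.mul ?_ (h _ (Polynomial.monic_mul_leadingCoeff_inv hQ))
  exact ((Polynomial.leadingCoeff_ne_zero.mpr hQ).isUnit).map (algebraMap k (Module.End k V))

/-- Let k be a field and V a nonzero k-vector space with dim_k V < #k as cardinals. Then every k-linear
endomorphism T of V admits a monic polynomial P over k for which P(T) is not invertible. -/
theorem result {k V : Type u} [Field k] [AddCommGroup V] [Module k V] [Nontrivial V] (hV : Module.rank k V < Cardinal.mk k) (T : Module.End k V) :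
    ∃ P : Polynomial k, P.Monic ∧ ¬ IsUnit (Polynomial.aeval T P) := by
  by_contra hcon
  push Not at hcon
  have hu : ∀ {Q : Polynomial k}, Q ≠ 0 → IsUnit (Polynomial.aeval T Q) := fun {Q} hQ =>
    isUnit_aeval T hcon hQ
  obtain ⟨v, hv⟩ := exists_ne (0 : V)
  have hw : ∀ a : k, ∃ w : V, Polynomial.aeval T (Polynomial.X - Polynomial.C a) w = v := by
    intro a
    obtain ⟨u, hu'⟩ := hu (Polynomial.X_sub_C_ne_zero a)
    refine ⟨(↑u⁻¹ : Module.End k V) v, ?_⟩
    rw [← hu', ← Module.End.mul_apply, Units.mul_inv, Module.End.one_apply]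
  choose w hw using hw
  have hli : LinearIndependent k w := by
    classical
    rw [linearIndependent_iff']
    intro s g hs a ha
    by_contra hga
    -- multiply by the product of all `X - b`
    let Q : Polynomial k := ∑ c ∈ s, Polynomial.C (g c) *
      ∏ b ∈ s.erase c, (Polynomial.X - Polynomial.C b)
    have hQ0 : Polynomial.aeval T Q v = 0 := by
      have h1 : Polynomial.aeval T (∏ b ∈ s, (Polynomial.X - Polynomial.C b))
          (∑ c ∈ s, g c • w c) = 0 := by rw [hs, map_zero]
      rw [map_sum] at h1
      rw [map_sum, LinearMap.sum_apply, ← h1]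
      apply Finset.sum_congr rfl
      intro c hc
      have h3 : Polynomial.aeval T (∏ b ∈ s, (Polynomial.X - Polynomial.C b)) (w c) =
          Polynomial.aeval T (∏ b ∈ s.erase c, (Polynomial.X - Polynomial.C b)) v := by
        rw [← Finset.mul_prod_erase s _ hc, mul_comm (Polynomial.X - Polynomial.C c),
          map_mul, Module.End.mul_apply, hw c]
      rw [map_smul, h3, map_mul, Polynomial.aeval_C,
        Module.End.mul_apply, Module.algebraMap_end_apply]
    have hQne : Q ≠ 0 := by
      intro hQ
      have h1 : Polynomial.eval a Q = g a * ∏ b ∈ s.erase a, (a - b) := by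
        rw [Polynomial.eval_finsetSum, Finset.sum_eq_single a]
        · rw [Polynomial.eval_mul, Polynomial.eval_C, Polynomial.eval_prod]
          simp
        · intro c hc hca
          rw [Polynomial.eval_mul, Polynomial.eval_prod,
            Finset.prod_eq_zero (i := a) (Finset.mem_erase.mpr ⟨hca.symm, ha⟩) (by simp), mul_zero]
        · intro h; exact absurd ha h
      rw [hQ, Polynomial.eval_zero] at h1
      refine mul_ne_zero hga (Finset.prod_ne_zero_iff.mpr fun b hb => ?_) h1.symm
      exact sub_ne_zero.mpr (Finset.ne_of_mem_erase hb).symm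
    obtain ⟨u, hu'⟩ := hu hQne
    apply hv
    have h2 : (↑u⁻¹ : Module.End k V) ((u : Module.End k V) v) = v := by
      rw [← Module.End.mul_apply, Units.inv_mul, Module.End.one_apply]
    rw [← h2, hu', hQ0, map_zero]
  exact absurd hli.cardinal_le_rank (not_le.mpr hV)

end Groth.Agent.S9610
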