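import Groth.Statements.S9611


set_option autoImplicit false
universe u
open CAlg

namespace Groth.Agent.S9611

/-- Let R be a Jacobson ring, p a prime ideal of R which is not maximal, and f an element of R not in p.
Then the set of primes of R containing p and not containing f is infinite. -/
theorem result {R : Type u} [CommRing R] [IsJacobsonRing R] (p : Ideal R) [p.IsPrime] (hp : ¬ p.IsMaximal) (f : R) (hf : f ∉ p) :
    {q : PrimeSpectrum R | p ≤ q.asIdeal ∧ f ∉ q.asIdeal}.Infinite := by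
  intro hfin
  classical
  have hg : ∀ q : PrimeSpectrum R, ∃ g : R, g ∉ p ∧
      (p ≤ q.asIdeal → q.asIdeal ≠ p → g ∈ q.asIdeal) := by
    intro q
    by_cases h : p ≤ q.asIdeal ∧ q.asIdeal ≠ p
    · obtain ⟨h1, h2⟩ := h
      have h3 : ¬ q.asIdeal ≤ p := fun h => h2 (le_antisymm h h1)
      obtain ⟨g, hg1, hg2⟩ := SetLike.not_le_iff_exists.mp h3
      exact ⟨g, hg2, fun _ _ => hg1⟩
    · refine ⟨1, ?_, fun h1 h2 => absurd ⟨h1, h2⟩ h⟩
      exact (Ideal.ne_top_iff_one p).1 (Ideal.IsPrime.ne_top inferInstance)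
  choose g hg1 hg2 using hg
  have hprod : f * ∏ q ∈ hfin.toFinset, g q ∉ p := by
    intro h
    rcases (‹p.IsPrime›).mem_or_mem h with h | h
    · exact hf h
    · obtain ⟨q, _, hq⟩ := (Ideal.IsPrime.prod_mem_iff).1 h
      exact hg1 q hq
  have hjac : p.jacobson = p := IsJacobsonRing.out ‹_› (‹p.IsPrime›).isRadical
  have hprod' : ∃ J : Ideal R, (p ≤ J ∧ J.IsMaximal) ∧ f * ∏ q ∈ hfin.toFinset, g q ∉ J := by
    by_contra hcon
    push Not at hcon
    apply hprod
    have : f * ∏ q ∈ hfin.toFinset, g q ∈ p.jacobson := by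
      rw [Ideal.jacobson, Submodule.mem_sInf]
      intro J hJ
      exact hcon J hJ
    exact hjac.le this
  obtain ⟨J, ⟨hpJ, hJ⟩, hJ2⟩ := hprod'
  have hfJ : f ∉ J := fun h => hJ2 (J.mul_mem_right _ h)
  have hJmem : (⟨J, hJ.isPrime⟩ : PrimeSpectrum R) ∈ hfin.toFinset := by
    rw [Set.Finite.mem_toFinset]
    exact ⟨hpJ, hfJ⟩
  have hne : J ≠ p := by
    rintro rfl
    exact hp hJ
  have hgJ := hg2 ⟨J, hJ.isPrime⟩ hpJ hne
  exact hJ2 (J.mul_mem_left _ (Ideal.mem_of_dvd _ (Finset.dvd_prod_of_mem g hJmem) hgJ))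

end Groth.Agent.S9611
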