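import Groth.Statements.S9613
import Mathlib.RingTheory.Jacobson.Ring
import Mathlib.RingTheory.Localization.FractionRing
import Mathlib.RingTheory.Algebraic.Integral

set_option autoImplicit false
universe u
open CAlg

namespace Groth.Agent.S9613

/-- Let R → K be an injective ring map into a field K which makes K an R-algebra of finite type. Then
for some nonzero f ∈ R the localization R_f is a field over which K is finite; here R_f is realised
as the R-subalgebra of K that is a localization of R away from f. -/
theorem result {R K : Type u} [CommRing R] [Field K] [Algebra R K] (hinj : Function.Injective (algebraMap R K)) [Algebra.FiniteType R K] :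
    ∃ f : R, f ≠ 0 ∧ ∃ Rf : Subalgebra R K, IsLocalization.Away f Rf ∧ IsField Rf ∧ Module.Finite Rf K := by
  classical
  have hdom : IsDomain R := hinj.isDomain (algebraMap R K)
  have hfs : FaithfulSMul R K := (faithfulSMul_iff_algebraMap_injective R K).mpr hinj
  let L := FractionRing R
  let _ : Algebra L K := FractionRing.liftAlgebra R K
  have hsc : IsScalarTower R L K := inferInstance
  have hft : Algebra.FiniteType L K := Algebra.FiniteType.of_restrictScalars_finiteType R L K
  have hfin : Module.Finite L K := finite_of_finite_type_of_isJacobsonRing L K
  have halg : Algebra.IsAlgebraic R K :=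
    (IsFractionRing.comap_isAlgebraic_iff (A := R) (K := L) (C := K)).mpr inferInstance
  obtain ⟨T, hT⟩ := (inferInstance : Algebra.FiniteType R K).out
  obtain ⟨y, hy0, hy⟩ := Algebra.IsAlgebraic.exists_integral_multiples R T
  have hyK : algebraMap R K y ≠ 0 := (map_ne_zero_iff _ hinj).mpr hy0
  have hyu : IsUnit (algebraMap R K y) := hyK.isUnit
  let φ : Localization.Away y →ₐ[R] K := IsLocalization.liftAlgHom (M := Submonoid.powers y)
    (f := Algebra.ofId R K) (by
      rintro ⟨_, n, rfl⟩
      rw [Algebra.ofId_apply, map_pow]
      exact hyu.pow n)
  have hinj' : Function.Injective (algebraMap R (Localization.Away y)) :=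
    IsLocalization.injective _ (powers_le_nonZeroDivisors_of_noZeroDivisors hy0)
  have hφ : Function.Injective φ := by
    change Function.Injective (IsLocalization.lift _)
    rw [IsLocalization.lift_injective_iff]
    intro a b
    constructor
    · intro h
      rw [hinj' h]
    · intro h
      rw [hinj h]
  have hyinv : (algebraMap R K y)⁻¹ ∈ φ.range := by
    refine ⟨IsLocalization.Away.invSelf y, ?_⟩
    change φ (IsLocalization.Away.invSelf y) = _
    apply eq_inv_of_mul_eq_one_left
    rw [← φ.commutes, ← map_mul, mul_comm, IsLocalization.Away.mul_invSelf, map_one]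
  have hint : Algebra.IsIntegral φ.range K := by
    have h1 : Algebra.adjoin R (T : Set K) ≤ (integralClosure φ.range K).restrictScalars R := by
      rw [Algebra.adjoin_le_iff]
      intro z hz
      change IsIntegral φ.range z
      have h2 : IsIntegral φ.range (y • z) := (hy z hz).tower_top
      have h3 : z = algebraMap φ.range K ⟨_, hyinv⟩ * (y • z) := by
        rw [Algebra.smul_def y z, ← mul_assoc]
        change z = (algebraMap R K y)⁻¹ * algebraMap R K y * z
        rw [inv_mul_cancel₀ hyK, one_mul]
      rw [h3]
      exact isIntegral_algebraMap.mul h2
    refine ⟨fun z => ?_⟩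
    have h4 : z ∈ Algebra.adjoin R (T : Set K) := by rw [hT]; trivial
    exact h1 h4
  refine ⟨y, hy0, φ.range, ?_, ?_, ?_⟩
  · exact IsLocalization.isLocalization_of_algEquiv (Submonoid.powers y)
      (AlgEquiv.ofInjective φ hφ)
  · exact isField_of_isIntegral_of_isField (FaithfulSMul.algebraMap_injective φ.range K)
      (Field.toIsField K)
  · have : Algebra.FiniteType φ.range K := Algebra.FiniteType.of_restrictScalars_finiteType R _ K
    exact Algebra.IsIntegral.finite

end Groth.Agent.S9613
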