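import Groth.Statements.S9614


set_option autoImplicit false
universe u
open CAlg

namespace Groth.Agent.S9614

theorem smul_comp {R S : Type u} [CommRing R] [CommRing S] [Algebra R S] (𝒜 : ℕ → Submodule R S)
    [GradedAlgebra 𝒜] {M : Type u} [AddCommGroup M] [Module R M] [Module S M]
    (ℳ : ℕ → Submodule R M) [DirectSum.Decomposition ℳ] [SetLike.GradedSMul 𝒜 ℳ]
    (N : Submodule S M) (a : S) (z : M) (d : ℕ)
    (h : ∀ i j, i + j = d → (DirectSum.decompose 𝒜 a i : S) • (DirectSum.decompose ℳ z j : M) ∈ N) :
    (DirectSum.decompose ℳ (a • z) d : M) ∈ N := by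
  classical
  have e : a • z = ∑ i ∈ (DirectSum.decompose 𝒜 a).support,
      ∑ j ∈ (DirectSum.decompose ℳ z).support,
        (DirectSum.decompose 𝒜 a i : S) • (DirectSum.decompose ℳ z j : M) := by
    conv_lhs => rw [← DirectSum.sum_support_decompose 𝒜 a, ← DirectSum.sum_support_decompose ℳ z]
    rw [Finset.sum_smul]
    simp_rw [Finset.smul_sum]
  rw [e, DirectSum.decompose_sum, DFinsupp.finsetSum_apply, AddSubmonoidClass.coe_finsetSum]
  refine Submodule.sum_mem _ fun i _ => ?_
  rw [DirectSum.decompose_sum, DFinsupp.finsetSum_apply, AddSubmonoidClass.coe_finsetSum]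
  refine Submodule.sum_mem _ fun j _ => ?_
  have hm : (DirectSum.decompose 𝒜 a i : S) • (DirectSum.decompose ℳ z j : M) ∈ ℳ (i + j) :=
    SetLike.GradedSMul.smul_mem (A := 𝒜) (B := ℳ) (SetLike.coe_mem _) (SetLike.coe_mem _)
  by_cases hd : i + j = d
  · rw [← hd, DirectSum.decompose_of_mem_same ℳ hm]
    exact h i j hd
  · rw [DirectSum.decompose_of_mem_ne ℳ hm hd]
    exact zero_mem _

/-- Let S be an ℕ-graded ring and M a finitely generated graded S-module, graded in nonnegative degrees
(the source allows all integer degrees). If x_1, …, x_n are homogeneous elements of M which generate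
M modulo S₊ M (S₊ the irrelevant ideal), then x_1, …, x_n generate M. -/
theorem result {R S : Type u} [CommRing R] [CommRing S] [Algebra R S] (𝒜 : ℕ → Submodule R S) [GradedAlgebra 𝒜]
    (M : Type u) [AddCommGroup M] [Module R M] [Module S M] [IsScalarTower R S M] [Module.Finite S M] (ℳ : ℕ → Submodule R M) [DirectSum.Decomposition ℳ] [SetLike.GradedSMul 𝒜 ℳ]
    {n : ℕ} (x : Fin n → M) (hx : ∀ i, SetLike.IsHomogeneousElem ℳ (x i))
    (h : Submodule.span S (Set.range x) ⊔ (HomogeneousIdeal.irrelevant 𝒜).toIdeal • (⊤ : Submodule S M) = ⊤) :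
    Submodule.span S (Set.range x) = ⊤ := by
  classical
  have hN : ∀ z ∈ Submodule.span S (Set.range x), ∀ d,
      (DirectSum.decompose ℳ z d : M) ∈ Submodule.span S (Set.range x) := by
    intro z hz
    induction hz using Submodule.span_induction with
    | mem y hy =>
      intro d
      obtain ⟨i, rfl⟩ := hy
      obtain ⟨e, he⟩ := hx i
      by_cases hd : e = d
      · subst hd
        rw [DirectSum.decompose_of_mem_same ℳ he]
        exact Submodule.subset_span (Set.mem_range_self i)
      · rw [DirectSum.decompose_of_mem_ne ℳ he hd]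
        exact zero_mem _
    | zero => intro d; rw [DirectSum.decompose_zero]; exact zero_mem _
    | add y z _ _ hy hz =>
      intro d
      rw [DirectSum.decompose_add, DirectSum.add_apply, Submodule.coe_add]
      exact Submodule.add_mem _ (hy d) (hz d)
    | smul a y _ hy =>
      intro d
      exact smul_comp 𝒜 ℳ _ a y d fun i j _ => Submodule.smul_mem _ _ (hy j)
  have hS : ∀ (d : ℕ), (∀ e < d, ∀ m ∈ ℳ e, m ∈ Submodule.span S (Set.range x)) →
      ∀ z ∈ (HomogeneousIdeal.irrelevant 𝒜).toIdeal • (⊤ : Submodule S M),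
        (DirectSum.decompose ℳ z d : M) ∈ Submodule.span S (Set.range x) := by
    intro d hd z hz
    refine Submodule.smul_induction_on hz ?_ ?_
    · intro a ha m _
      refine smul_comp 𝒜 ℳ _ a m d fun i j hij => ?_
      rcases Nat.eq_zero_or_pos i with rfl | hi
      · have h0 : a ∈ HomogeneousIdeal.irrelevant 𝒜 := ha
        rw [HomogeneousIdeal.mem_irrelevant_iff, GradedRing.proj_apply] at h0
        rw [h0, zero_smul]
        exact zero_mem _
      · exact Submodule.smul_mem _ _ (hd j (by omega) _ (SetLike.coe_mem _))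
    · intro y z hy hz
      rw [DirectSum.decompose_add, DirectSum.add_apply, Submodule.coe_add]
      exact Submodule.add_mem _ hy hz
  have hM : ∀ d, ∀ m ∈ ℳ d, m ∈ Submodule.span S (Set.range x) := by
    intro d
    induction d using Nat.strong_induction_on with
    | _ d ih =>
      intro m hm
      have hm' : m ∈ Submodule.span S (Set.range x) ⊔
          (HomogeneousIdeal.irrelevant 𝒜).toIdeal • (⊤ : Submodule S M) := by
        rw [h]; trivial
      obtain ⟨y, hy, z, hz, hyz⟩ := Submodule.mem_sup.mp hm'
      rw [← DirectSum.decompose_of_mem_same ℳ hm, ← hyz, DirectSum.decompose_add,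
        DirectSum.add_apply, Submodule.coe_add]
      exact Submodule.add_mem _ (hN y hy d) (hS d ih z hz)
  rw [eq_top_iff]
  intro m _
  rw [← DirectSum.sum_support_decompose ℳ m]
  exact Submodule.sum_mem _ fun d _ => hM d _ (SetLike.coe_mem _)

end Groth.Agent.S9614
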