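import Groth.Statements.S9615
import Mathlib.RingTheory.Polynomial.IsIntegral
import Mathlib.Algebra.DirectSum.Ring

set_option autoImplicit false
universe u
open CAlg

namespace Groth.Agent.S9615

open Polynomial in
/-- The ring homomorphism `∑ s_i ↦ ∑ s_i X ^ i` of a graded ring. -/
noncomputable def gr {S : Type u} [CommRing S] (𝒮 : ℕ → AddSubgroup S) [GradedRing 𝒮] :
    S →+* S[X] :=
  (DirectSum.toSemiring (fun i => ((monomial i : S →ₗ[S] S[X]).toAddMonoidHom).comp
    (𝒮 i).subtype) (by simp) (by
      intro i j a b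
      simp [Polynomial.monomial_mul_monomial])).comp
    (DirectSum.decomposeRingEquiv 𝒮 : S →+* DirectSum ℕ fun i => 𝒮 i)

open Polynomial in
theorem gr_of_mem {S : Type u} [CommRing S] (𝒮 : ℕ → AddSubgroup S) [GradedRing 𝒮] {s : S}
    {i : ℕ} (hs : s ∈ 𝒮 i) : gr 𝒮 s = monomial i s := by
  lift s to 𝒮 i using hs
  simp only [gr, RingHom.comp_apply]
  change DirectSum.toSemiring _ _ _ (DirectSum.decompose 𝒮 (s : S)) = _
  rw [DirectSum.decompose_coe, DirectSum.toSemiring_of]
  rfl

open Polynomial in
theorem coeff_gr {S : Type u} [CommRing S] (𝒮 : ℕ → AddSubgroup S) [GradedRing 𝒮] (s : S)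
    (i : ℕ) : (gr 𝒮 s).coeff i = (DirectSum.decompose 𝒮 s i : 𝒮 i) := by
  classical
  induction s using DirectSum.Decomposition.inductionOn 𝒮 with
  | zero => simp
  | @homogeneous j m =>
    rw [gr_of_mem 𝒮 m.2, coeff_monomial]
    split_ifs with h
    · subst h
      rw [DirectSum.decompose_of_mem_same 𝒮 m.2]
    · rw [DirectSum.decompose_of_mem_ne 𝒮 m.2 h]
  | add a b ha hb => simp [ha, hb]

/-- Let R → S be a homomorphism of ℕ-graded rings, i.e. the structure map carries each graded piece R_i
into S_i. If an element s of S is integral over R, then each homogeneous component of s is integral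
over R; so the integral closure of R in S is a graded subring of S. -/
theorem result {R S : Type u} [CommRing R] [CommRing S] [Algebra R S] (ℛ : ℕ → AddSubgroup R) [GradedRing ℛ] (𝒮 : ℕ → AddSubgroup S) [GradedRing 𝒮]
    (hmap : ∀ i : ℕ, ∀ r ∈ ℛ i, algebraMap R S r ∈ 𝒮 i) (s : S) (hs : IsIntegral R s) (i : ℕ) :
    IsIntegral R ((DirectSum.decompose 𝒮 s i : 𝒮 i) : S) := by
  letI := Polynomial.algebra R S
  have h : ((algebraMap (Polynomial R) (Polynomial S)).comp (gr ℛ)) =
      (gr 𝒮).comp (algebraMap R S) := by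
    ext1 r
    induction r using DirectSum.Decomposition.inductionOn ℛ with
    | zero => simp
    | @homogeneous j m =>
      rw [RingHom.comp_apply, RingHom.comp_apply, gr_of_mem ℛ m.2,
        gr_of_mem 𝒮 (hmap j m m.2)]
      change Polynomial.map (algebraMap R S) _ = _
      rw [Polynomial.map_monomial]
    | add a b ha hb => rw [map_add, map_add, ha, hb]
  have h2 := IsIntegral.map_of_comp_eq (gr ℛ) (gr 𝒮) h hs
  rw [Polynomial.isIntegral_iff_isIntegral_coeff] at h2
  rw [← coeff_gr]
  exact h2 i

end Groth.Agent.S9615
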