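import Groth.Statements.S9616


set_option autoImplicit false
universe u
open CAlg

namespace Groth.Agent.S9616

theorem exists_homog {R S : Type u} [CommRing R] [CommRing S] [Algebra R S] (𝒜 : ℕ → Submodule R S)
    [GradedAlgebra 𝒜] (I J : HomogeneousIdeal 𝒜) (h : ¬ I ≤ J) :
    ∃ (x : S) (d : ℕ), x ∈ 𝒜 d ∧ x ∈ I ∧ x ∉ J := by
  by_contra hcon
  push Not at hcon
  apply h
  intro x hx
  rw [← HomogeneousIdeal.mem_iff, (J.isHomogeneous).mem_iff] 
  intro i
  exact hcon _ i (SetLike.coe_mem _) (I.isHomogeneous i hx)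

theorem aux {R S : Type u} [CommRing R] [CommRing S] [Algebra R S] (𝒜 : ℕ → Submodule R S)
    [GradedAlgebra 𝒜] {r : ℕ} (p : Fin r → HomogeneousIdeal 𝒜) (hp : ∀ i, (p i).toIdeal.IsPrime)
    (I : HomogeneousIdeal 𝒜) (hI : I ≤ HomogeneousIdeal.irrelevant 𝒜) (h : ∀ i, ¬ I ≤ p i)
    (n : ℕ) : ∀ s : Finset (Fin r), s.card = n + 1 →
    ∃ x : S, ∃ d : ℕ, 0 < d ∧ x ∈ 𝒜 d ∧ x ∈ I ∧ ∀ i ∈ s, x ∉ p i := by
  classical
  have hpos : ∀ (x : S) (d : ℕ), x ∈ 𝒜 d → x ∈ I → x ≠ 0 → 0 < d := by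
    intro x d hx hxI hx0
    rcases Nat.eq_zero_or_pos d with rfl | hd
    · exfalso
      apply hx0
      have : x ∈ HomogeneousIdeal.irrelevant 𝒜 := hI hxI
      rw [HomogeneousIdeal.mem_irrelevant_iff, GradedRing.proj_apply,
        DirectSum.decompose_of_mem_same 𝒜 hx] at this
      exact this
    · exact hd
  -- the step
  have step : ∀ (a : Fin r) (s : Finset (Fin r)), (∀ j ∈ s, ¬ p j ≤ p a) →
      ∃ y : S, ∃ e : ℕ, 0 < e ∧ y ∈ 𝒜 e ∧ y ∈ I ∧ y ∉ p a ∧ ∀ j ∈ s, y ∈ p j := by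
    intro a s hs
    obtain ⟨z, e, hz, hzI, hza⟩ := exists_homog 𝒜 I (p a) (h a)
    have h1 : ∀ j : Fin r, ∃ (w : S) (k : ℕ), w ∈ 𝒜 k ∧ w ∉ p a ∧ (j ∈ s → w ∈ p j) := by
      intro j
      by_cases hj : j ∈ s
      · obtain ⟨w, k, hw, hwj, hwa⟩ := exists_homog 𝒜 (p j) (p a) (hs j hj)
        exact ⟨w, k, hw, hwa, fun _ => hwj⟩
      · refine ⟨1, 0, SetLike.GradedOne.one_mem, ?_, fun h => absurd h hj⟩
        exact (Ideal.ne_top_iff_one _).mp (hp a).ne_top
    choose w k hw hwa hwj using h1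
    have hya : z * ∏ j ∈ s, w j ∉ p a := by
      intro hm
      rcases (hp a).mem_or_mem hm with hm | hm
      · exact hza hm
      · obtain ⟨j, _, hj⟩ := (Ideal.IsPrime.prod_mem_iff (hp := hp a)).mp hm
        exact hwa j hj
    have hyd : z * ∏ j ∈ s, w j ∈ 𝒜 (e + ∑ j ∈ s, k j) :=
      SetLike.mul_mem_graded hz (SetLike.prod_mem_graded 𝒜 k w fun j _ => hw j)
    have hyI : z * ∏ j ∈ s, w j ∈ I := Ideal.mul_mem_right _ I.toIdeal hzI
    refine ⟨_, _, hpos _ _ hyd hyI ?_, hyd, hyI, hya, fun j hj => ?_⟩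
    · intro h0
      rw [h0] at hya
      exact hya (zero_mem _)
    · exact Ideal.mul_mem_left (p j).toIdeal _
        (Ideal.mem_of_dvd _ (Finset.dvd_prod_of_mem w hj) (hwj j hj))
  induction n with
  | zero =>
    intro s hs
    obtain ⟨a, rfl⟩ := Finset.card_eq_one.mp hs
    obtain ⟨y, e, he, hy, hyI, hya, _⟩ := step a ∅ (by simp)
    exact ⟨y, e, he, hy, hyI, fun i hi => by rw [Finset.mem_singleton.mp hi]; exact hya⟩
  | succ n ih =>
    intro s hs
    obtain ⟨a, ha⟩ : s.Nonempty := Finset.card_pos.mp (by omega)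
    by_cases hex : ∃ j ∈ s.erase a, p j ≤ p a
    · obtain ⟨j, hj, hja⟩ := hex
      have hjs := Finset.mem_of_mem_erase hj
      obtain ⟨x, d, hd, hx, hxI, hxp⟩ := ih (s.erase j) (by rw [Finset.card_erase_of_mem hjs]; omega)
      refine ⟨x, d, hd, hx, hxI, fun i hi => ?_⟩
      by_cases hij : i = j
      · subst hij
        intro hxi
        exact hxp a (Finset.mem_erase.mpr ⟨(Finset.ne_of_mem_erase hj).symm, ha⟩) (hja hxi)
      · exact hxp i (Finset.mem_erase.mpr ⟨hij, hi⟩)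
    · push Not at hex
      obtain ⟨x, d, hd, hx, hxI, hxp⟩ := ih (s.erase a) (by rw [Finset.card_erase_of_mem ha]; omega)
      by_cases hxa : x ∈ p a
      · obtain ⟨y, e, he, hy, hyI, hya, hyp⟩ := step a (s.erase a) hex
        refine ⟨x ^ e + y ^ d, e * d, Nat.mul_pos he hd, ?_, ?_, ?_⟩
        · refine Submodule.add_mem _ ?_ ?_
          · have := SetLike.pow_mem_graded e hx
            rwa [smul_eq_mul] at this
          · have := SetLike.pow_mem_graded d hy
            rwa [smul_eq_mul, mul_comm] at this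
        · exact I.toIdeal.add_mem (Ideal.pow_mem_of_mem _ hxI e he) (Ideal.pow_mem_of_mem _ hyI d hd)
        · intro i hi hmem
          by_cases hia : i = a
          · subst hia
            have h1 := ((p i).toIdeal.add_mem_iff_right
              (Ideal.pow_mem_of_mem _ hxa e he)).mp hmem
            exact hya ((hp i).mem_of_pow_mem _ h1)
          · have hi' : i ∈ s.erase a := Finset.mem_erase.mpr ⟨hia, hi⟩
            have h1 := ((p i).toIdeal.add_mem_iff_left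
              (Ideal.pow_mem_of_mem _ (hyp i hi') d hd)).mp hmem
            exact hxp i hi' ((hp i).mem_of_pow_mem _ h1)
      · refine ⟨x, d, hd, hx, hxI, fun i hi => ?_⟩
        by_cases hia : i = a
        · subst hia; exact hxa
        · exact hxp i (Finset.mem_erase.mpr ⟨hia, hi⟩)

/-- Let S be an ℕ-graded ring, p_1, …, p_r homogeneous prime ideals of S and I ⊆ S₊ a homogeneous ideal
not contained in any p_i. Then there is a homogeneous element x ∈ I of positive degree with x ∉ p_i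
for all i. -/
theorem result {R S : Type u} [CommRing R] [CommRing S] [Algebra R S] (𝒜 : ℕ → Submodule R S) [GradedAlgebra 𝒜]
    {r : ℕ} (p : Fin r → HomogeneousIdeal 𝒜) (hp : ∀ i, (p i).toIdeal.IsPrime) (I : HomogeneousIdeal 𝒜) (hI : I ≤ HomogeneousIdeal.irrelevant 𝒜) (h : ∀ i, ¬ I ≤ p i) :
    ∃ x : S, ∃ d : ℕ, 0 < d ∧ x ∈ 𝒜 d ∧ x ∈ I ∧ ∀ i, x ∉ p i := by
  rcases Nat.eq_zero_or_pos r with rfl | hr
  · exact ⟨0, 1, one_pos, zero_mem _, zero_mem _, fun i => i.elim0⟩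
  · obtain ⟨x, d, hd, hx, hxI, hxp⟩ := aux 𝒜 p hp I hI h (r - 1) Finset.univ
      (by rw [Finset.card_univ, Fintype.card_fin]; omega)
    exact ⟨x, d, hd, hx, hxI, fun i => hxp i (Finset.mem_univ i)⟩

end Groth.Agent.S9616
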