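import Groth.Statements.S9617
import Mathlib.RingTheory.MvPolynomial.WeightedHomogeneous
import Mathlib.RingTheory.FiniteType

set_option autoImplicit false
universe u
open CAlg

namespace Groth.Agent.S9617

open MvPolynomial in
/-- The graded pieces of a finitely generated graded algebra are finite over the base. -/
theorem fg_piece {A S : Type u} [CommRing A] [CommRing S] [Algebra A S] (𝒜 : ℕ → Submodule A S)
    [GradedAlgebra 𝒜] (h0 : ∀ s ∈ 𝒜 0, s ∈ Set.range (algebraMap A S)) [Algebra.FiniteType A S]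
    (n : ℕ) : (𝒜 n).FG := by
  classical
  obtain ⟨T, hT⟩ := (inferInstance : Algebra.FiniteType A S).out
  let U : Finset (ℕ × S) := T.biUnion fun t =>
    ((DirectSum.decompose 𝒜 t).support.erase 0).image fun i => (i, (DirectSum.decompose 𝒜 t i : S))
  have hU : ∀ p ∈ U, p.1 ≠ 0 ∧ p.2 ∈ 𝒜 p.1 := by
    intro p hp
    obtain ⟨t, _, hp⟩ := Finset.mem_biUnion.mp hp
    obtain ⟨i, hi, rfl⟩ := Finset.mem_image.mp hp
    exact ⟨Finset.ne_of_mem_erase hi, SetLike.coe_mem _⟩
  let w : U → ℕ := fun p => p.1.1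
  let φ : MvPolynomial U A →ₐ[A] S := aeval fun p : U => p.1.2
  have hφ : ∀ s : S, ∃ f, φ f = s := by
    intro s
    have h1 : Algebra.adjoin A (T : Set S) ≤ φ.range := by
      rw [Algebra.adjoin_le_iff]
      intro t ht
      rw [← DirectSum.sum_support_decompose 𝒜 t]
      refine Subalgebra.sum_mem _ fun i hi => ?_
      by_cases hi0 : i = 0
      · subst hi0
        obtain ⟨a, ha⟩ := h0 _ (SetLike.coe_mem (DirectSum.decompose 𝒜 t 0))
        exact ⟨algebraMap A _ a, by rw [← ha]; exact φ.commutes a⟩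
      · have hmem : (i, (DirectSum.decompose 𝒜 t i : S)) ∈ U :=
          Finset.mem_biUnion.mpr ⟨t, ht, Finset.mem_image.mpr
            ⟨i, Finset.mem_erase.mpr ⟨hi0, hi⟩, rfl⟩⟩
        exact ⟨X ⟨_, hmem⟩, aeval_X _ _⟩
    have h2 : s ∈ Algebra.adjoin A (T : Set S) := by rw [hT]; trivial
    exact h1 h2
  have hmon : ∀ (u : U →₀ ℕ) (a : A), φ (monomial u a) ∈ 𝒜 (Finsupp.weight w u) := by
    intro u a
    rw [aeval_monomial, Finsupp.weight_apply]
    rw [← Algebra.smul_def]
    refine Submodule.smul_mem _ _ ?_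
    refine SetLike.prod_mem_graded 𝒜 _ _ fun p _ => ?_
    have := SetLike.pow_mem_graded (A := 𝒜) (u p) (hU p.1 p.2).2
    exact this
  have hle : Submodule.map φ.toLinearMap (weightedHomogeneousSubmodule A w n) ≤ 𝒜 n := by
    rintro _ ⟨f, hf, rfl⟩
    change φ f ∈ 𝒜 n
    rw [f.as_sum, map_sum]
    refine Submodule.sum_mem _ fun u hu => ?_
    have hw : Finsupp.weight w u = n := hf (mem_support_iff.mp hu)
    rw [← hw]
    exact hmon u _
  have hge : ∀ f : MvPolynomial U A, (DirectSum.decompose 𝒜 (φ f) n : S) ∈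
      Submodule.map φ.toLinearMap (weightedHomogeneousSubmodule A w n) := by
    intro f
    induction f using MvPolynomial.induction_on' with
    | monomial u a =>
      by_cases hu : Finsupp.weight w u = n
      · rw [← hu, DirectSum.decompose_of_mem_same 𝒜 (hmon u a)]
        exact ⟨monomial u a, isWeightedHomogeneous_monomial w u a rfl, rfl⟩
      · rw [DirectSum.decompose_of_mem_ne 𝒜 (hmon u a) hu]
        exact zero_mem _
    | add f g hf hg =>
      rw [map_add, DirectSum.decompose_add, DirectSum.add_apply, Submodule.coe_add]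
      exact Submodule.add_mem _ hf hg
  have heq : 𝒜 n = Submodule.map φ.toLinearMap (weightedHomogeneousSubmodule A w n) := by
    apply le_antisymm _ hle
    intro s hs
    obtain ⟨f, hf⟩ := hφ s
    have := hge f
    rwa [hf, DirectSum.decompose_of_mem_same 𝒜 hs] at this
  rw [heq]
  exact (weightedHomogeneousSubmodule_fg A w (fun p => (hU p.1 p.2).1) n).map _

theorem smul_comp {A S : Type u} [CommRing A] [CommRing S] [Algebra A S] (𝒜 : ℕ → Submodule A S)
    [GradedAlgebra 𝒜] {M : Type u} [AddCommGroup M] [Module A M] [Module S M]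
    (ℳ : ℕ → Submodule A M) [DirectSum.Decomposition ℳ] [SetLike.GradedSMul 𝒜 ℳ]
    (N : Submodule A M) (a : S) (z : M) (d : ℕ)
    (h : ∀ i j, i + j = d → (DirectSum.decompose 𝒜 a i : S) • (DirectSum.decompose ℳ z j : M) ∈ N) :
    (DirectSum.decompose ℳ (a • z) d : M) ∈ N := by
  classical
  have e : a • z = ∑ i ∈ (DirectSum.decompose 𝒜 a).support,
      ∑ j ∈ (DirectSum.decompose ℳ z).support,
        (DirectSum.decompose 𝒜 a i : S) • (DirectSum.decompose ℳ z j : M) := by
    conv_lhs => rw [← DirectSum.sum_support_decompose 𝒜 a, ← DirectSum.sum_support_decompose ℳ z]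
    rw [Finset.sum_smul]
    simp_rw [Finset.smul_sum]
  rw [e, DirectSum.decompose_sum, DFinsupp.finsetSum_apply, AddSubmonoidClass.coe_finsetSum]
  refine Submodule.sum_mem _ fun i _ => ?_
  rw [DirectSum.decompose_sum, DFinsupp.finsetSum_apply, AddSubmonoidClass.coe_finsetSum]
  refine Submodule.sum_mem _ fun j _ => ?_
  have hm : (DirectSum.decompose 𝒜 a i : S) • (DirectSum.decompose ℳ z j : M) ∈ ℳ (i + j) :=
    SetLike.GradedSMul.smul_mem (A := 𝒜) (B := ℳ) (SetLike.coe_mem _) (SetLike.coe_mem _)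
  by_cases hd : i + j = d
  · rw [← hd, DirectSum.decompose_of_mem_same ℳ hm]
    exact h i j hd
  · rw [DirectSum.decompose_of_mem_ne ℳ hm hd]
    exact zero_mem _

/-- Let S be an ℕ-graded ring, presented as a graded algebra over a ring A mapping onto S₀, such that S
is of finite type over A, i.e. over S₀. If M is a finitely generated graded S-module, graded in
nonnegative degrees (the source allows all integer degrees), then each graded piece M_n is a finite
module over A, i.e. over S₀. -/
theorem result {A S : Type u} [CommRing A] [CommRing S] [Algebra A S] (𝒜 : ℕ → Submodule A S) [GradedAlgebra 𝒜]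
    (h0 : ∀ s ∈ 𝒜 0, s ∈ Set.range (algebraMap A S)) [Algebra.FiniteType A S]
    (M : Type u) [AddCommGroup M] [Module A M] [Module S M] [IsScalarTower A S M] [Module.Finite S M] (ℳ : ℕ → Submodule A M) [DirectSum.Decomposition ℳ] [SetLike.GradedSMul 𝒜 ℳ] (n : ℕ) :
    Module.Finite A (ℳ n) := by
  classical
  obtain ⟨G, hG⟩ := (inferInstance : Module.Finite S M).fg_top
  let U : Finset (ℕ × M) := G.biUnion fun g =>
    (DirectSum.decompose ℳ g).support.image fun i => (i, (DirectSum.decompose ℳ g i : M))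
  have hU : ∀ p ∈ U, p.2 ∈ ℳ p.1 := by
    intro p hp
    obtain ⟨t, _, hp⟩ := Finset.mem_biUnion.mp hp
    obtain ⟨i, hi, rfl⟩ := Finset.mem_image.mp hp
    exact SetLike.coe_mem _
  -- the candidate
  let V : ℕ × M → ℕ → Submodule A M := fun p k =>
    Submodule.map ((LinearMap.toSpanSingleton S M p.2).restrictScalars A) (𝒜 k)
  let N : ℕ → Submodule A M := fun k => (U.filter fun p => p.1 ≤ k).sup fun p => V p (k - p.1)
  have hVN : ∀ (k : ℕ) (p : ℕ × M), p ∈ U → p.1 ≤ k → ∀ s ∈ 𝒜 (k - p.1), s • p.2 ∈ N k := by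
    intro k p hp hpk s hs
    have h1 : V p (k - p.1) ≤ N k :=
      Finset.le_sup (f := fun p => V p (k - p.1)) (Finset.mem_filter.mpr ⟨hp, hpk⟩)
    exact h1 ⟨s, hs, rfl⟩
  have hNle : ∀ k (P : Submodule A M), (∀ p ∈ U, p.1 ≤ k → ∀ s ∈ 𝒜 (k - p.1), s • p.2 ∈ P) →
      N k ≤ P := by
    intro k P hP
    refine Finset.sup_le fun p hp => ?_
    obtain ⟨hp, hpk⟩ := Finset.mem_filter.mp hp
    rintro _ ⟨s, hs, rfl⟩
    exact hP p hp hpk s hs
  have hmul : ∀ (i j : ℕ) (a : S), a ∈ 𝒜 i → ∀ z ∈ N j, a • z ∈ N (i + j) := by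
    intro i j a ha z hz
    have h1 : N j ≤ (N (i + j)).comap (((LinearMap.lsmul S M a)).restrictScalars A) := by
      refine hNle j _ fun p hp hpj s hs => ?_
      change a • s • p.2 ∈ N (i + j)
      rw [← mul_smul]
      refine hVN _ p hp (by omega) _ ?_
      have := SetLike.mul_mem_graded ha hs
      rwa [← Nat.add_sub_assoc hpj] at this
    exact h1 hz
  have hall : ∀ z : M, ∀ k, (DirectSum.decompose ℳ z k : M) ∈ N k := by
    have hspan : Submodule.span S (Prod.snd '' (U : Set (ℕ × M))) = ⊤ := by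
      rw [eq_top_iff, ← hG, Submodule.span_le]
      intro g hg
      rw [← DirectSum.sum_support_decompose ℳ g]
      refine Submodule.sum_mem _ fun i hi => Submodule.subset_span ?_
      exact ⟨(i, (DirectSum.decompose ℳ g i : M)), Finset.mem_biUnion.mpr
        ⟨g, hg, Finset.mem_image.mpr ⟨i, hi, rfl⟩⟩, rfl⟩
    intro z
    have hz : z ∈ Submodule.span S (Prod.snd '' (U : Set (ℕ × M))) := by rw [hspan]; trivial
    induction hz using Submodule.span_induction with
    | mem z hz =>
      intro k
      obtain ⟨p, hp, rfl⟩ := hz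
      by_cases hk : p.1 = k
      · rw [← hk, DirectSum.decompose_of_mem_same ℳ (hU p hp)]
        have := hVN p.1 p hp le_rfl 1 (by rw [Nat.sub_self]; exact SetLike.GradedOne.one_mem)
        rwa [one_smul] at this
      · rw [DirectSum.decompose_of_mem_ne ℳ (hU p hp) hk]
        exact zero_mem _
    | zero => intro k; rw [DirectSum.decompose_zero]; exact zero_mem _
    | add y z _ _ hy hz =>
      intro k
      rw [DirectSum.decompose_add, DirectSum.add_apply, Submodule.coe_add]
      exact Submodule.add_mem _ (hy k) (hz k)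
    | smul a y _ hy =>
      intro k
      refine smul_comp 𝒜 ℳ _ a y k fun i j hij => ?_
      rw [← hij]
      exact hmul i j _ (SetLike.coe_mem _) _ (hy j)
  have heq : ℳ n = N n := by
    apply le_antisymm
    · intro z hz
      have := hall z n
      rwa [DirectSum.decompose_of_mem_same ℳ hz] at this
    · refine hNle n _ fun p hp hpn s hs => ?_
      have := SetLike.GradedSMul.smul_mem (A := 𝒜) (B := ℳ) hs (hU p hp)
      rw [vadd_eq_add, Nat.sub_add_cancel hpn] at this
      exact this
  rw [Module.Finite.iff_fg, heq]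
  exact Submodule.fg_finset_sup _ _ fun p _ => (fg_piece 𝒜 h0 _).map _

end Groth.Agent.S9617
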