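import Groth.Statements.S9618
import Groth.Agent.CAlg.K76.Idem

set_option autoImplicit false
universe u
open CAlg

namespace Groth.Agent.S9618

/-- For a ring R and a subset T of Spec R the following are equivalent: (1) T is closed and contains the
connected component of each of its points; (2) T can be written as an intersection of subsets of
Spec R that are both open and closed; (3) T is the common zero locus of some set of idempotent
elements of R (equivalently, of the ideal they generate). -/
theorem result {R : Type u} [CommRing R] (T : Set (PrimeSpectrum R)) :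
    [IsClosed T ∧ ∀ x ∈ T, connectedComponent x ⊆ T,
      ∃ U : Set (Set (PrimeSpectrum R)), (∀ u ∈ U, IsClopen u) ∧ T = ⋂₀ U,
      ∃ E : Set R, (∀ e ∈ E, IsIdempotentElem e) ∧ T = PrimeSpectrum.zeroLocus E].TFAE := by
  tfae_have 2 → 1 := by
    rintro ⟨U, hU, rfl⟩
    refine ⟨isClosed_sInter fun u hu => (hU u hu).isClosed, fun x hx => ?_⟩
    exact Set.subset_sInter fun u hu => (hU u hu).connectedComponent_subset (hx u hu)
  tfae_have 3 → 2 := by
    rintro ⟨E, hE, rfl⟩
    refine ⟨(fun e => PrimeSpectrum.zeroLocus {e}) '' E, ?_, ?_⟩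
    · rintro _ ⟨e, he, rfl⟩
      exact K76.Idem.isClopen_zeroLocus (hE e he)
    · ext x
      simp [PrimeSpectrum.mem_zeroLocus, Set.subset_def]
  tfae_have 1 → 3 := by
    rintro ⟨hT, hc⟩
    refine ⟨{e | IsIdempotentElem e ∧ T ⊆ PrimeSpectrum.zeroLocus {e}}, fun e he => he.1, ?_⟩
    apply Set.Subset.antisymm
    · intro x hx e he
      exact he.2 hx rfl
    · intro y hy
      by_contra hyT
      have h1 : ∀ x ∈ T, ∃ s : Set (PrimeSpectrum R), IsClopen s ∧ x ∈ s ∧ y ∉ s := by
        intro x hx
        apply Groth.Agent.Pi1A.CompSpectral.exists_isClopen_of_connectedComponent_ne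
        intro h
        apply hyT
        apply hc x hx
        rw [h]
        exact mem_connectedComponent
      choose! s hs hxs hys using h1
      obtain ⟨ht, hcov⟩ := hT.isCompact.elim_nhds_subcover' (fun x _ => s x)
        (fun x hx => (hs x hx).isOpen.mem_nhds (hxs x hx))
      have hclopen : IsClopen (⋃ x ∈ ht, s (x : T)) :=
        ht.finite_toSet.isClopen_biUnion fun x _ => hs x x.2
      obtain ⟨e, he, hse⟩ := K76.Idem.exists_of_isClopen hclopen
      have h2 : y ∈ PrimeSpectrum.zeroLocus {e} := by
        rw [PrimeSpectrum.mem_zeroLocus, Set.singleton_subset_iff]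
        exact hy ⟨he, by rw [← hse]; exact hcov⟩
      rw [← hse, Set.mem_iUnion₂] at h2
      obtain ⟨x, _, hx⟩ := h2
      exact hys x x.2 hx
  tfae_finish

end Groth.Agent.S9618
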