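import Groth.Statements.S9621
import Mathlib.RingTheory.Ideal.MinimalPrime.Basic

set_option autoImplicit false
universe u
open CAlg

namespace Groth.Agent.S9621

/-- An element of a minimal prime `p` becomes nilpotent outside `p`. -/
theorem exists_mul_pow {R : Type*} [CommRing R] (p : Ideal R) (hp : p ∈ minimalPrimes R) {g : R}
    (hg : g ∈ p) : ∃ f ∉ p, ∃ n : ℕ, f * g ^ n = 0 := by
  have hpp : p.IsPrime := hp.1.1
  by_contra hcon
  push Not at hcon
  have hdis : Disjoint ((⊥ : Ideal R) : Set R)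
      ((p.primeCompl ⊔ Submonoid.powers g : Submonoid R) : Set R) := by
    rw [Set.disjoint_left]
    rintro x hx hx'
    obtain ⟨f, hf, _, ⟨n, rfl⟩, rfl⟩ := Submonoid.mem_sup.mp hx'
    exact hcon f hf n hx
  obtain ⟨q, hq, _, hdq⟩ := Ideal.exists_le_prime_disjoint _ _ hdis
  rw [Set.disjoint_left] at hdq
  have hqp : q ≤ p := by
    intro x hx
    by_contra hxp
    exact hdq hx (Submonoid.mem_sup_left (S := p.primeCompl) hxp)
  have := hp.2 ⟨hq, bot_le⟩ hqp
  exact hdq (this hg) (Submonoid.mem_sup_right (Submonoid.mem_powers g))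

/-- Let R be a ring, p a minimal prime of R and W a quasi-compact open subset of Spec R not containing
p. Then there is an f ∈ R, f ∉ p, whose basic open D(f) is disjoint from W. -/
theorem result {R : Type u} [CommRing R] (p : PrimeSpectrum R) (hp : p.asIdeal ∈ minimalPrimes R) (W : Set (PrimeSpectrum R)) (hWo : IsOpen W) (hWc : IsCompact W) (hpW : p ∉ W) :
    ∃ f : R, f ∉ p.asIdeal ∧ Disjoint (PrimeSpectrum.basicOpen f : Set (PrimeSpectrum R)) W := by
  classical
  obtain ⟨t, rfl⟩ := PrimeSpectrum.isCompact_isOpen_iff.mp ⟨hWc, hWo⟩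
  have ht : ∀ g ∈ t, g ∈ p.asIdeal := by
    rw [Set.notMem_compl_iff, PrimeSpectrum.mem_zeroLocus] at hpW
    exact fun g hg => hpW hg
  have hpp := p.isPrime
  have h1 : ∀ g : R, ∃ f : R, f ∉ p.asIdeal ∧ (g ∈ t → ∃ n : ℕ, f * g ^ n = 0) := by
    intro g
    by_cases hg : g ∈ t
    · obtain ⟨f, hf, n, hn⟩ := exists_mul_pow p.asIdeal hp (ht g hg)
      exact ⟨f, hf, fun _ => ⟨n, hn⟩⟩
    · exact ⟨1, (Ideal.ne_top_iff_one _).mp hpp.ne_top, fun h => absurd h hg⟩
  choose F hF hF' using h1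
  refine ⟨∏ g ∈ t, F g, ?_, ?_⟩
  · intro h
    obtain ⟨g, _, hg⟩ := (Ideal.IsPrime.prod_mem_iff).mp h
    exact hF g hg
  · rw [Set.disjoint_compl_right_iff_subset]
    intro q hq g hg
    have hg' : g ∈ t := hg
    obtain ⟨n, hn⟩ := hF' g hg'
    have hqF : F g ∉ q.asIdeal := by
      intro h
      exact hq (Ideal.mem_of_dvd _ (Finset.dvd_prod_of_mem F hg') h)
    have h0 : F g * g ^ n ∈ q.asIdeal := by
      rw [hn]
      exact zero_mem _
    rcases q.isPrime.mem_or_mem h0 with h | h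
    · exact absurd h hqF
    · exact q.isPrime.mem_of_pow_mem _ h

end Groth.Agent.S9621
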