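import Groth.Statements.S9622
import Mathlib.RingTheory.Artinian.Ring
import Mathlib.RingTheory.Artinian.Module
import Mathlib.RingTheory.HopkinsLevitzki

set_option autoImplicit false
universe u
open CAlg

namespace Groth.Agent.S9622

theorem finite_of_pow {R S : Type u} [CommRing R] [CommRing S] [Algebra R S] [IsNoetherianRing S]
    (m : Ideal S) [Module.Finite R (S ⧸ m)] (k : ℕ) : ∀ (M : Type u) [AddCommGroup M] [Module R M]
    [Module S M] [IsScalarTower R S M] [Module.Finite S M],
    m ^ k • (⊤ : Submodule S M) = ⊥ → Module.Finite R M := by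
  induction k with
  | zero =>
    intro M _ _ _ _ _ h
    rw [pow_zero, Submodule.one_smul] at h
    have : Subsingleton M := by
      rw [← Submodule.subsingleton_iff S]
      exact subsingleton_of_bot_eq_top h.symm
    infer_instance
  | succ k ih =>
    intro M _ _ _ _ _ h
    let N : Submodule S M := m • ⊤
    have : IsNoetherian S M := inferInstance
    have hN : Module.Finite R N := by
      apply ih N
      rw [eq_bot_iff]
      intro y hy
      have h1 := Submodule.mem_map_of_mem (f := N.subtype) hy
      rw [Submodule.map_smul'', Submodule.map_top, Submodule.range_subtype, ← mul_smul,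
        ← pow_succ, h, Submodule.mem_bot] at h1
      rw [Submodule.mem_bot]
      exact Subtype.ext h1
    have hQ : Module.Finite R (M ⧸ N) := by
      have h2 : Module.Finite (S ⧸ m) (M ⧸ N) := Module.Finite.of_restrictScalars_finite S _ _
      have : IsScalarTower R (S ⧸ m) (M ⧸ N) := by
        refine IsScalarTower.of_algebraMap_smul fun r x => ?_
        obtain ⟨x, rfl⟩ := Submodule.Quotient.mk_surjective _ x
        change Submodule.Quotient.mk ((algebraMap R S r) • x) = Submodule.Quotient.mk (r • x)
        rw [algebraMap_smul]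
      exact Module.Finite.trans (S ⧸ m) (M ⧸ N)
    have h3 : Module.Finite R (N.restrictScalars R) := hN
    have h4 : Module.Finite R (M ⧸ N.restrictScalars R) := hQ
    exact Module.Finite.of_submodule_quotient (N.restrictScalars R)

theorem exists_sub_mem {R S : Type u} [CommRing R] [CommRing S] [Algebra R S] (X : Set S)
    (A : Subalgebra R S) (hX : X ⊆ A) (hA : ∀ s : S, ∃ a ∈ A, s - a ∈ Ideal.span X) (k : ℕ) :
    ∀ s ∈ Ideal.span X ^ k, ∃ a ∈ A, s - a ∈ Ideal.span X ^ (k + 1) := by
  induction k with
  | zero => intro s _; simpa using hA s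
  | succ k ih =>
    have key : ∀ x ∈ Ideal.span X, ∀ y ∈ Ideal.span X ^ k,
        ∃ a ∈ A, x * y - a ∈ Ideal.span X ^ (k + 1 + 1) := by
      intro x hx
      induction hx using Submodule.span_induction with
      | mem x hx =>
        intro y hy
        obtain ⟨a, ha, hya⟩ := ih y hy
        refine ⟨x * a, A.mul_mem (hX hx) ha, ?_⟩
        rw [← mul_sub, pow_succ' _ (k + 1)]
        exact Ideal.mul_mem_mul (Ideal.subset_span hx) hya
      | zero => exact fun y _ => ⟨0, A.zero_mem, by simp⟩
      | add x x' _ _ h h' =>
        intro y hy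
        obtain ⟨a, ha, h1⟩ := h y hy
        obtain ⟨a', ha', h1'⟩ := h' y hy
        refine ⟨a + a', A.add_mem ha ha', ?_⟩
        have e : (x + x') * y - (a + a') = (x * y - a) + (x' * y - a') := by ring
        rw [e]
        exact Ideal.add_mem _ h1 h1'
      | smul c x _ h =>
        intro y hy
        obtain ⟨a, ha, h1⟩ := h (c * y) (Ideal.mul_mem_left _ _ hy)
        refine ⟨a, ha, ?_⟩
        have e : c • x * y - a = x * (c * y) - a := by rw [smul_eq_mul]; ring
        rw [e]
        exact h1
    intro s hs
    rw [pow_succ'] at hs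
    refine Submodule.mul_induction_on hs key ?_
    rintro x y ⟨a, ha, h1⟩ ⟨a', ha', h1'⟩
    refine ⟨a + a', A.add_mem ha ha', ?_⟩
    have e : (x + y) - (a + a') = (x - a) + (y - a') := by ring
    rw [e]
    exact Ideal.add_mem _ h1 h1'

/-- Let R → S be a ring map whose target S is a local Artinian ring, and write m for the maximal ideal
of S. Then S is a finite R-module exactly when S/m is, and S is an R-algebra of finite type exactly
when S/m is. -/
theorem result {R S : Type u} [CommRing R] [CommRing S] [Algebra R S] [IsArtinianRing S] [IsLocalRing S] :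
    (Module.Finite R S ↔ Module.Finite R (S ⧸ IsLocalRing.maximalIdeal S)) ∧
      (Algebra.FiniteType R S ↔ Algebra.FiniteType R (S ⧸ IsLocalRing.maximalIdeal S)) := by
  have hN : IsNoetherianRing S := inferInstance
  obtain ⟨k, hk⟩ := IsArtinianRing.isNilpotent_jacobson_bot (R := S)
  rw [IsLocalRing.jacobson_eq_maximalIdeal _ bot_ne_top] at hk
  refine ⟨⟨fun h => inferInstance, fun h => ?_⟩, ⟨fun h => ?_, fun h => ?_⟩⟩
  · apply finite_of_pow (IsLocalRing.maximalIdeal S) k
    rw [hk]
    simp
  · exact Algebra.FiniteType.of_surjective (Ideal.Quotient.mkₐ R _) (Ideal.Quotient.mkₐ_surjective R _)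
  · classical
    obtain ⟨T, hT⟩ := h.out
    obtain ⟨X, hX⟩ := (isNoetherianRing_iff_ideal_fg S).mp hN (IsLocalRing.maximalIdeal S)
    choose l hl using Ideal.Quotient.mk_surjective (I := IsLocalRing.maximalIdeal S)
    let A := Algebra.adjoin R ((l '' (T : Set _)) ∪ (X : Set S))
    have hA : ∀ s : S, ∃ a ∈ A, s - a ∈ Ideal.span (X : Set S) := by
      intro s
      have h1 : Ideal.Quotient.mk (IsLocalRing.maximalIdeal S) s ∈
          (A.map (Ideal.Quotient.mkₐ R (IsLocalRing.maximalIdeal S))) := by
        have h2 : Algebra.adjoin R (T : Set (S ⧸ IsLocalRing.maximalIdeal S)) ≤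
            A.map (Ideal.Quotient.mkₐ R (IsLocalRing.maximalIdeal S)) := by
          rw [Algebra.adjoin_le_iff]
          intro t ht
          exact ⟨l t, Algebra.subset_adjoin (Or.inl ⟨t, ht, rfl⟩), hl t⟩
        apply h2
        rw [hT]
        trivial
      obtain ⟨a, ha, hsa⟩ := h1
      refine ⟨a, ha, ?_⟩
      rw [hX]
      exact (Ideal.Quotient.eq).mp hsa.symm
    have hstep := exists_sub_mem (X : Set S) A
      (fun x hx => Algebra.subset_adjoin (Or.inr hx)) hA
    rw [show Ideal.span (X : Set S) = IsLocalRing.maximalIdeal S from hX] at hstep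
    have hall : ∀ j i : ℕ, k ≤ i + j → ∀ s ∈ IsLocalRing.maximalIdeal S ^ i, s ∈ A := by
      intro j
      induction j with
      | zero =>
        intro i hi s hs
        have h3 := Ideal.pow_le_pow_right hi hs
        rw [hk] at h3
        rw [(Submodule.mem_bot S).mp h3]
        exact A.zero_mem
      | succ j ih =>
        intro i hi s hs
        obtain ⟨a, ha, hsa⟩ := hstep i s hs
        have h4 := A.add_mem (ih (i + 1) (by omega) _ hsa) ha
        rwa [sub_add_cancel] at h4
    refine ⟨⟨(T.image l) ∪ X, ?_⟩⟩
    rw [eq_top_iff]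
    intro s _
    have h5 := hall k 0 (by omega) s (by simp)
    have h6 : (((T.image l) ∪ X : Finset S) : Set S) = (l '' (T : Set _)) ∪ (X : Set S) := by
      simp
    rw [h6]
    exact h5

end Groth.Agent.S9622
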