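import Groth.Statements.S9624
import Groth.Agent.CAlg.K76.Geom
import Mathlib.RingTheory.Flat.Basic

set_option autoImplicit false
universe u
open CAlg

namespace Groth.Agent.S9624

open TensorProduct in
/-- Let k be a field, S a geometrically connected k-algebra (the spectrum of k' ⊗_k S is connected for
every field extension k'/k) and R any k-algebra. Then the map R → R ⊗_k S induces a bijection on
idempotents: each idempotent of R ⊗_k S comes from exactly one idempotent of R. Here the test fields
range over field extensions in the universe of k; this is equivalent to the unrestricted notion,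
since an algebraic closure of k suffices as a test. -/
theorem result {k R S : Type u} [Field k] [CommRing R] [CommRing S] [Algebra k R] [Algebra k S]
    (hS : ∀ (k' : Type u) [Field k'] [Algebra k k'], ConnectedSpace (PrimeSpectrum (k' ⊗[k] S)))
    (x : R ⊗[k] S) (hx : IsIdempotentElem x) :
    ∃! e : R, IsIdempotentElem e ∧ algebraMap R (R ⊗[k] S) e = x := by
  have hconn := K76.Geom.conn_of hS
  have hnt : Nontrivial S := by
    by_contra h
    rw [not_nontrivial_iff_subsingleton] at h
    have h1 : Subsingleton (k ⊗[k] S) := (Algebra.TensorProduct.lid k S).toEquiv.subsingleton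
    have h2 := hS k
    obtain ⟨p⟩ := h2.toNonempty
    exact p.isPrime.ne_top (Subsingleton.elim _ _)
  have hinj : Function.Injective (algebraMap R (R ⊗[k] S)) :=
    Algebra.TensorProduct.includeLeft_injective (S := k) (algebraMap k S).injective
  have hopen := K76.Geom.isOpenMap_comap (k := k) R S
  have hfib := K76.Geom.isConnected_preimage_comap R hconn
  let f := PrimeSpectrum.comap (algebraMap R (R ⊗[k] S))
  have hcont : Continuous f := PrimeSpectrum.continuous_comap _
  let U : Set (PrimeSpectrum (R ⊗[k] S)) := PrimeSpectrum.basicOpen x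
  have hU : IsClopen U := PrimeSpectrum.isClopen_iff.mpr ⟨x, hx, rfl⟩
  have hdis : f '' U ∩ f '' Uᶜ = ∅ := by
    rw [Set.eq_empty_iff_forall_notMem]
    rintro p ⟨⟨a, ha, hap⟩, ⟨b, hb, hbp⟩⟩
    have h1 := (hfib p).isPreconnected.subset_isClopen hU ⟨a, hap, ha⟩
    exact hb (h1 hbp)
  have hcov : f '' U ∪ f '' Uᶜ = Set.univ := by
    rw [← Set.image_union, Set.union_compl_self, Set.image_univ, Set.range_eq_univ]
    intro p
    obtain ⟨a, ha⟩ := (hfib p).nonempty
    exact ⟨a, ha⟩
  have hcompl : (f '' U)ᶜ = f '' Uᶜ := by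
    apply Set.Subset.antisymm
    · intro p hp
      have h1 : p ∈ f '' U ∪ f '' Uᶜ := by rw [hcov]; trivial
      exact h1.resolve_left hp
    · intro p hp hp'
      have h1 : p ∈ f '' U ∩ f '' Uᶜ := ⟨hp', hp⟩
      rw [hdis] at h1
      exact h1
  have hV : IsClopen (f '' U) := by
    refine ⟨⟨?_⟩, hopen U hU.isOpen⟩
    rw [hcompl]
    exact hopen _ hU.compl.isOpen
  obtain ⟨e, he, hVe⟩ := PrimeSpectrum.isClopen_iff.mp hV
  have hpre : f ⁻¹' (f '' U) = U := by
    apply Set.Subset.antisymm _ (Set.subset_preimage_image f U)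
    intro a ha
    by_contra h
    have h1 : f a ∈ f '' U ∩ f '' Uᶜ := ⟨ha, ⟨a, h, rfl⟩⟩
    rw [hdis] at h1
    exact h1
  refine ⟨e, ⟨he, ?_⟩, ?_⟩
  · apply PrimeSpectrum.basicOpen_injOn_isIdempotentElem (he.map _) hx
    apply SetLike.coe_injective
    change _ = U
    rw [← hpre, hVe]
    rfl
  · rintro e' ⟨_, he'⟩
    apply hinj
    rw [he']
    symm
    apply PrimeSpectrum.basicOpen_injOn_isIdempotentElem (he.map _) hx
    apply SetLike.coe_injective
    change _ = U
    rw [← hpre, hVe]
    rfl

end Groth.Agent.S9624
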