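import Groth.Statements.S9630
import Groth.Agent.CAlg.K77.GeomTensor

set_option autoImplicit false
universe u
open CAlg

namespace Groth.Agent.S9630

open TensorProduct in
/-- For a field k and a k-algebra R the following are equivalent: (1) Spec(k' ⊗_k R) is irreducible for
every field extension k'/k; (2) the same for every finite separable extension k'/k; (3) Spec(k^sep
⊗_k R) is irreducible for the separable closure k^sep; (4) Spec(k̄ ⊗_k R) is irreducible for the
algebraic closure k̄. Here the test fields range over field extensions in the universe of k; this is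
equivalent to the unrestricted notion, since an algebraic closure of k suffices as a test. -/
theorem result {k R : Type u} [Field k] [CommRing R] [Algebra k R] :
    [∀ (k' : Type u) [Field k'] [Algebra k k'], IrreducibleSpace (PrimeSpectrum (k' ⊗[k] R)),
      ∀ (k' : Type u) [Field k'] [Algebra k k'] [Module.Finite k k'] [Algebra.IsSeparable k k'], IrreducibleSpace (PrimeSpectrum (k' ⊗[k] R)),
      IrreducibleSpace (PrimeSpectrum (SeparableClosure k ⊗[k] R)),
      IrreducibleSpace (PrimeSpectrum (AlgebraicClosure k ⊗[k] R))].TFAE := by
  simp only [PrimeSpectrum.irreducibleSpace_iff_isPrime_nilradical]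
  tfae_have 1 → 2 := fun h k' _ _ _ _ => h k'
  tfae_have 2 → 3 := by
    intro h
    refine K77.GeomTensor.isPrime_nilradical_of_forall_finite fun E _ => ?_
    have : Algebra.IsSeparable k E := Algebra.isSeparable_tower_bot_of_isSeparable k E (SeparableClosure k)
    exact h E
  tfae_have 1 → 4 := fun h => h _
  tfae_have 4 → 3 := by
    intro h
    have hinj := K77.GeomTensor.map_injective (k := k) (S := R) (separableClosure k (AlgebraicClosure k)).val
      (RingHom.injective _)
    exact Groth.Agent.VarietyA.GeomIrr.isPrime_nilradical_of_injective
      (Algebra.TensorProduct.map (separableClosure k (AlgebraicClosure k)).val (AlgHom.id k R)).toRingHom hinj h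
  tfae_have 3 → 1 := by
    intro h K _ _
    let ks := SeparableClosure k
    let Ω := AlgebraicClosure K
    let j : ks →ₐ[k] Ω := IsAlgClosed.lift
    let := j.toRingHom.toAlgebra
    have : IsScalarTower k ks Ω := IsScalarTower.of_algebraMap_eq fun x => (j.commutes x).symm
    have h2 : (nilradical (Ω ⊗[k] R)).IsPrime :=
      K77.GeomTensor.isPrime_nilradical_ascend k ks R Ω h
    have hinj := K77.GeomTensor.map_injective (S := R) (IsScalarTower.toAlgHom k K Ω)
      (RingHom.injective _)
    exact Groth.Agent.VarietyA.GeomIrr.isPrime_nilradical_of_injective
      (Algebra.TensorProduct.map (IsScalarTower.toAlgHom k K Ω) (AlgHom.id k R)).toRingHom hinj h2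
  tfae_finish

end Groth.Agent.S9630
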