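import Groth.Statements.S9632
import Mathlib.LinearAlgebra.Charpoly.BaseChange
import Mathlib.LinearAlgebra.Eigenspace.Zero
import Mathlib.RingTheory.Nilpotent.Lemmas

set_option autoImplicit false
universe u
open CAlg

namespace Groth.Agent.S9632

open TensorProduct in
/-- Let R → A be a ring map making A a finite free R-module of rank n, let f ∈ A and let P(T) = Tⁿ +
r_{n-1}Tⁿ⁻¹ + ⋯ + r_0 be the characteristic polynomial of multiplication by f on A. Then for a prime
p of R, f acts nilpotently on κ(p) ⊗_R A if and only if p contains r_0, …, r_{n-1}. -/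
theorem result {R A : Type u} [CommRing R] [CommRing A] [Algebra R A] [Module.Free R A] [Module.Finite R A] (f : A) (p : Ideal R) [p.IsPrime] :
    IsNilpotent ((1 : p.ResidueField) ⊗ₜ[R] f : p.ResidueField ⊗[R] A) ↔
      ∀ i : ℕ, i < Module.finrank R A → (LinearMap.mulLeft R f).charpoly.coeff i ∈ p := by
  have hne : Nontrivial R := ⟨0, 1, fun h => (Ideal.IsPrime.ne_top (I := p) ‹_›)
    ((Ideal.eq_top_iff_one p).2 (h ▸ p.zero_mem))⟩
  rw [← LinearMap.isNilpotent_mulLeft_iff p.ResidueField]
  have h1 : LinearMap.mulLeft p.ResidueField ((1 : p.ResidueField) ⊗ₜ[R] f) =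
      (LinearMap.mulLeft R f).baseChange p.ResidueField := by
    apply LinearMap.ext
    intro x
    induction x using TensorProduct.induction_on with
    | zero => simp
    | tmul a b => simp
    | add x y hx hy => rw [map_add, map_add, hx, hy]
  rw [h1, LinearMap.isNilpotent_iff_charpoly, LinearMap.charpoly_baseChange,
    Module.finrank_baseChange]
  set P := (LinearMap.mulLeft R f).charpoly with hP
  have hmonic : P.Monic := LinearMap.charpoly_monic _
  have hdeg : P.natDegree = Module.finrank R A := LinearMap.charpoly_natDegree _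
  have hmem : ∀ r : R, algebraMap R p.ResidueField r = 0 ↔ r ∈ p := fun r =>
    Ideal.algebraMap_residueField_eq_zero
  constructor
  · intro h i hi
    rw [← hmem, ← Polynomial.coeff_map, h, Polynomial.coeff_X_pow, if_neg hi.ne]
  · intro h
    ext i
    rw [Polynomial.coeff_map, Polynomial.coeff_X_pow]
    rcases lt_trichotomy i (Module.finrank R A) with hi | hi | hi
    · rw [if_neg hi.ne, hmem]
      exact h i hi
    · rw [if_pos hi, hi, ← hdeg, hmonic.coeff_natDegree, map_one]
    · rw [if_neg hi.ne', Polynomial.coeff_eq_zero_of_natDegree_lt (by rw [hdeg]; exact hi), map_zero]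

end Groth.Agent.S9632
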