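import Groth.Statements.S9633
import Mathlib.Topology.Connected.Separation
import Mathlib.Topology.Separation.Hausdorff
import Mathlib.RingTheory.Spectrum.Prime.Topology

set_option autoImplicit false
universe u
open CAlg

namespace Groth.Agent.S9633

/-- For a ring R with spectrum X the following are equivalent: (1) X is profinite, i.e. compact,
Hausdorff and totally disconnected; (2) X is Hausdorff; (3) X is totally disconnected; (4) every
quasi-compact open subset of X is closed; (5) there are no nontrivial inclusions among prime ideals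
of R; (6) every prime ideal of R is maximal; (7) every prime ideal of R is a minimal prime; (8)
every standard open D(f) is closed. -/
theorem result {R : Type u} [CommRing R] :
    [CompactSpace (PrimeSpectrum R) ∧ T2Space (PrimeSpectrum R) ∧ TotallyDisconnectedSpace (PrimeSpectrum R),
      T2Space (PrimeSpectrum R),
      TotallyDisconnectedSpace (PrimeSpectrum R),
      ∀ W : Set (PrimeSpectrum R), IsOpen W → IsCompact W → IsClosed W,
      ∀ p q : PrimeSpectrum R, p ≤ q → p = q,
      ∀ p : Ideal R, p.IsPrime → p.IsMaximal,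
      ∀ p : Ideal R, p.IsPrime → p ∈ minimalPrimes R,
      ∀ f : R, IsClosed (PrimeSpectrum.basicOpen f : Set (PrimeSpectrum R))].TFAE := by
  tfae_have 1 → 2 := fun h => h.2.1
  tfae_have 1 → 3 := fun h => h.2.2
  tfae_have 2 → 4 := fun h W _ hW => hW.isClosed
  tfae_have 4 → 8 := fun h f =>
    h _ (PrimeSpectrum.basicOpen f).2 (PrimeSpectrum.isCompact_basicOpen f)
  tfae_have 3 → 5 := by
    intro h p q hpq
    have h1 : (closure ({p} : Set (PrimeSpectrum R))).Subsingleton :=
      (isPreconnected_singleton (x := p)).closure.subsingleton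
    exact h1 (subset_closure rfl) (((PrimeSpectrum.le_iff_specializes p q).1 hpq).mem_closure)
  tfae_have 2 → 5 := by
    intro h p q hpq
    exact ((PrimeSpectrum.le_iff_specializes p q).1 hpq).eq
  tfae_have 5 → 6 := by
    intro h p hp
    obtain ⟨m, hm, hpm⟩ := Ideal.exists_le_maximal p hp.ne_top
    have := h ⟨p, hp⟩ ⟨m, hm.isPrime⟩ hpm
    rw [PrimeSpectrum.mk.injEq] at this
    exact this ▸ hm
  tfae_have 6 → 7 := by
    intro h p hp
    refine ⟨⟨hp, bot_le⟩, fun q hq hqp => ?_⟩
    exact ((h q hq.1).eq_of_le hp.ne_top hqp).ge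
  tfae_have 7 → 5 := by
    intro h p q hpq
    exact PrimeSpectrum.ext (le_antisymm hpq ((h q.asIdeal q.isPrime).2 ⟨p.isPrime, bot_le⟩ hpq))
  tfae_have 5 → 8 := by
    intro h f
    rw [← PrimeSpectrum.localization_away_comap_range (Localization.Away f) f]
    apply PrimeSpectrum.isClosed_range_of_stableUnderSpecialization
    intro p q hpq hp
    rw [← h p q ((PrimeSpectrum.le_iff_specializes p q).2 hpq)]
    exact hp
  tfae_have 8 → 1 := by
    intro h
    have hts : TotallySeparatedSpace (PrimeSpectrum R) := by
      rw [totallySeparatedSpace_iff_exists_isClopen]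
      intro p q hpq
      have hor : ¬ p.asIdeal ≤ q.asIdeal ∨ ¬ q.asIdeal ≤ p.asIdeal := by
        by_contra hcon
        rw [not_or, not_not, not_not] at hcon
        exact hpq (PrimeSpectrum.ext (le_antisymm hcon.1 hcon.2))
      rcases hor with h1 | h1
      · obtain ⟨f, hfp, hfq⟩ := SetLike.not_le_iff_exists.1 h1
        refine ⟨(PrimeSpectrum.basicOpen f : Set (PrimeSpectrum R))ᶜ,
          IsClopen.compl ⟨h f, (PrimeSpectrum.basicOpen f).2⟩, ?_, ?_⟩
        · exact fun h2 => h2 hfp
        · rw [compl_compl]; exact hfq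
      · obtain ⟨f, hfq, hfp⟩ := SetLike.not_le_iff_exists.1 h1
        refine ⟨(PrimeSpectrum.basicOpen f : Set (PrimeSpectrum R)),
          ⟨h f, (PrimeSpectrum.basicOpen f).2⟩, hfp, ?_⟩
        exact fun h2 => h2 hfq
    exact ⟨inferInstance, inferInstance, inferInstance⟩
  tfae_finish

end Groth.Agent.S9633
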