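import Groth.Statements.S9636
import Groth.Agent.CAlg.K77.SepDiag
import Mathlib.RingTheory.Kaehler.Basic
import Mathlib.RingTheory.Localization.Basic

set_option autoImplicit false
universe u
open CAlg

namespace Groth.Agent.S9636

open TensorProduct in
/-- Let k'/k be a separable algebraic field extension. Then for some multiplicative subset S of k' ⊗_k
k' the multiplication map k' ⊗_k k' → k' is a localization at S: there is a ring isomorphism S⁻¹(k'
⊗_k k') ≅ k' carrying the localization map to the multiplication map. -/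
theorem result {k k' : Type u} [Field k] [Field k'] [Algebra k k'] [Algebra.IsSeparable k k'] :
    ∃ (S : Submonoid (k' ⊗[k] k')) (e : Localization S ≃+* k'), ∀ x : k' ⊗[k] k', e (algebraMap (k' ⊗[k] k') (Localization S) x) = Algebra.TensorProduct.lmul' (S := k') k x := by
  let μ : k' ⊗[k] k' →ₐ[k] k' := Algebra.TensorProduct.lmul' (S := k') k
  have hker : RingHom.ker μ.toRingHom = Ideal.span (Set.range fun s : k' =>
      (Algebra.TensorProduct.includeRight : k' →ₐ[k] k' ⊗[k] k').toRingHom s -
        (Algebra.TensorProduct.includeLeft : k' →ₐ[k] k' ⊗[k] k').toRingHom s) :=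
    (KaehlerDifferential.span_range_eq_ideal k k').symm
  have hprime : (RingHom.ker μ.toRingHom).IsPrime := RingHom.ker_isPrime _
  let S : Submonoid (k' ⊗[k] k') := (RingHom.ker μ.toRingHom).primeCompl
  let : Algebra (k' ⊗[k] k') k' := μ.toRingHom.toAlgebra
  have hS : ∀ x, x ∈ S ↔ μ x ≠ 0 := fun x => Iff.rfl
  have hloc : IsLocalization S k' := by
    refine ⟨⟨?_, ?_, ?_⟩⟩
    · rintro ⟨x, hx⟩
      exact IsUnit.mk0 _ ((hS x).1 hx)
    · intro z
      refine ⟨(z ⊗ₜ 1, 1), ?_⟩
      change z * μ 1 = μ (z ⊗ₜ 1)
      simp [μ]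
    · intro x y hxy
      have h1 : x - y ∈ RingHom.ker μ.toRingHom := by
        rw [RingHom.mem_ker, map_sub, sub_eq_zero]
        exact hxy
      rw [hker] at h1
      obtain ⟨t, ht, hte⟩ := K77.SepDiag.exists_kill_of_mem_span (k := k)
        (Algebra.TensorProduct.includeRight : k' →ₐ[k] k' ⊗[k] k').toRingHom
        (Algebra.TensorProduct.includeLeft : k' →ₐ[k] k' ⊗[k] k').toRingHom μ.toRingHom
        (fun a => by
          change (Algebra.TensorProduct.includeRight : k' →ₐ[k] k' ⊗[k] k') (algebraMap k k' a) =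
            (Algebra.TensorProduct.includeLeft : k' →ₐ[k] k' ⊗[k] k') (algebraMap k k' a)
          rw [AlgHom.commutes, AlgHom.commutes])
        (fun s => by
          change μ (1 ⊗ₜ s) = μ (s ⊗ₜ 1)
          simp [μ]) (x - y) h1
      refine ⟨⟨t, (hS t).2 ht.ne_zero⟩, ?_⟩
      change t * x = t * y
      linear_combination hte
  refine ⟨S, (IsLocalization.algEquiv S (Localization S) k').toRingEquiv, fun x => ?_⟩
  exact (IsLocalization.algEquiv S (Localization S) k').commutes x

end Groth.Agent.S9636
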