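import Groth.Statements.S9639
import Groth.Agent.CAlg.K77.GeomTensor

set_option autoImplicit false
universe u
open CAlg

namespace Groth.Agent.S9639

open TensorProduct in
/-- Let k be a field and S a k-algebra such that Spec(k' ⊗_k S) is connected for every field extension
k'/k. Then every k-subalgebra of S has the same property. Here the test fields range over field
extensions in the universe of k; this is equivalent to the unrestricted notion, since an algebraic
closure of k suffices as a test. -/
theorem result {k S : Type u} [Field k] [CommRing S] [Algebra k S]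
    (hS : ∀ (k' : Type u) [Field k'] [Algebra k k'], ConnectedSpace (PrimeSpectrum (k' ⊗[k] S))) (S' : Subalgebra k S) :
    ∀ (k' : Type u) [Field k'] [Algebra k k'], ConnectedSpace (PrimeSpectrum (k' ⊗[k] S')) := by
  intro K _ _
  have hK := hS K
  have hinj := K77.GeomTensor.map_injective_right (k := k) (S := K) S'.val Subtype.val_injective
  let φ : K ⊗[k] S' →ₐ[k] K ⊗[k] S := Algebra.TensorProduct.map (AlgHom.id k K) S'.val
  have hnt : Nontrivial (K ⊗[k] S) := by
    obtain ⟨p⟩ := hK.toNonempty
    exact ⟨0, 1, fun h => p.isPrime.ne_top ((Ideal.eq_top_iff_one _).2 (h ▸ p.asIdeal.zero_mem))⟩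
  have hnt' : Nontrivial (K ⊗[k] S') := by
    refine ⟨0, 1, fun h => ?_⟩
    have := congrArg φ h
    rw [map_zero, map_one] at this
    exact zero_ne_one this
  refine Groth.Agent.Sga3A.GeomConn.connectedSpace_of_idempotents _ fun e he => ?_
  have he' : IsIdempotentElem (φ e) := he.map φ
  have h1 := isClopen_iff.mp (PrimeSpectrum.isClopen_iff.mpr ⟨φ e, he', rfl⟩)
  rcases h1 with h1 | h1
  · left
    apply hinj
    rw [map_zero]
    apply PrimeSpectrum.basicOpen_injOn_isIdempotentElem he' IsIdempotentElem.zero
    ext1
    rw [h1, PrimeSpectrum.basicOpen_zero]; rfl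
  · right
    apply hinj
    rw [map_one]
    apply PrimeSpectrum.basicOpen_injOn_isIdempotentElem he' IsIdempotentElem.one
    ext1
    rw [h1, PrimeSpectrum.basicOpen_one]; rfl

end Groth.Agent.S9639
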