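import Groth.Statements.S9641
import Mathlib.RingTheory.Flat.Basic
import Mathlib.LinearAlgebra.Basis.VectorSpace
import Mathlib.LinearAlgebra.FreeModule.Basic

set_option autoImplicit false
universe u
open CAlg

namespace Groth.Agent.S9641

open TensorProduct in
theorem exists_fg {k R S : Type*} [Field k] [CommRing R] [CommRing S] [Algebra k R] [Algebra k S]
    (x : R ⊗[k] S) : ∃ (R' : Subalgebra k R) (S' : Subalgebra k S), R'.FG ∧ S'.FG ∧
      x ∈ (Algebra.TensorProduct.map R'.val S'.val).range := by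
  have mono : ∀ (R₁ R₂ : Subalgebra k R) (S₁ S₂ : Subalgebra k S), R₁ ≤ R₂ → S₁ ≤ S₂ →
      ∀ x ∈ (Algebra.TensorProduct.map R₁.val S₁.val).range,
        x ∈ (Algebra.TensorProduct.map R₂.val S₂.val).range := by
    rintro R₁ R₂ S₁ S₂ hR hS _ ⟨x, rfl⟩
    refine ⟨Algebra.TensorProduct.map (Subalgebra.inclusion hR) (Subalgebra.inclusion hS) x, ?_⟩
    induction x using TensorProduct.induction_on with
    | zero => simp
    | tmul a b => simp
    | add a b ha hb => rw [map_add, map_add, map_add, ha, hb]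
  induction x using TensorProduct.induction_on with
  | zero => exact ⟨⊥, ⊥, Subalgebra.fg_bot, Subalgebra.fg_bot, zero_mem _⟩
  | tmul a b =>
    refine ⟨Algebra.adjoin k {a}, Algebra.adjoin k {b}, ⟨{a}, by simp⟩, ⟨{b}, by simp⟩, ?_⟩
    exact ⟨⟨a, Algebra.self_mem_adjoin_singleton k a⟩ ⊗ₜ
      ⟨b, Algebra.self_mem_adjoin_singleton k b⟩, by simp⟩
  | add x y hx hy =>
    obtain ⟨R₁, S₁, hR₁, hS₁, hx⟩ := hx
    obtain ⟨R₂, S₂, hR₂, hS₂, hy⟩ := hy
    exact ⟨R₁ ⊔ R₂, S₁ ⊔ S₂, hR₁.sup hR₂, hS₁.sup hS₂,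
      add_mem (mono _ _ _ _ le_sup_left le_sup_left _ hx)
        (mono _ _ _ _ le_sup_right le_sup_right _ hy)⟩

open TensorProduct in
/-- Let k be a field and R, S two k-algebras. If R ⊗_k S is not reduced then there are finitely
generated k-subalgebras R' ⊆ R and S' ⊆ S such that R' ⊗_k S' is not reduced. -/
theorem result {k R S : Type u} [Field k] [CommRing R] [CommRing S] [Algebra k R] [Algebra k S] (h : ¬ IsReduced (R ⊗[k] S)) :
    ∃ (R' : Subalgebra k R) (S' : Subalgebra k S), R'.FG ∧ S'.FG ∧ ¬ IsReduced (R' ⊗[k] S') := by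
  have h1 : ∃ x : R ⊗[k] S, IsNilpotent x ∧ x ≠ 0 := by
    by_contra hcon
    push Not at hcon
    exact h ⟨fun x hx => hcon x hx⟩
  obtain ⟨x, hx, hx0⟩ := h1
  obtain ⟨R', S', hR', hS', y, hy⟩ := exists_fg x
  refine ⟨R', S', hR', hS', fun hred => hx0 ?_⟩
  let φ : R' ⊗[k] S' →ₐ[k] R ⊗[k] S := Algebra.TensorProduct.map R'.val S'.val
  have hφ : Function.Injective φ := by
    have h3 : φ = (Algebra.TensorProduct.map R'.val (AlgHom.id k S)).comp
        (Algebra.TensorProduct.map (AlgHom.id k R') S'.val) := by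
      ext <;> simp [φ]
    rw [h3, AlgHom.coe_comp]
    refine Function.Injective.comp ?_ ?_
    · exact Module.Flat.rTensor_preserves_injective_linearMap (M := S) R'.val.toLinearMap
        Subtype.val_injective
    · exact Module.Flat.lTensor_preserves_injective_linearMap (M := R') S'.val.toLinearMap
        Subtype.val_injective
  have hy' : φ y = x := hy
  rw [← hy'] at hx
  have h2 : IsNilpotent y := (IsNilpotent.map_iff hφ).1 hx
  rw [← hy', h2.eq_zero, map_zero]

end Groth.Agent.S9641
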