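import Groth.Statements.S9643
import Mathlib.RingTheory.Support

set_option autoImplicit false
universe u
open CAlg

namespace Groth.Agent.S9643

theorem mem_support {R : Type*} [CommRing R] (M : Type*) [AddCommGroup M] [Module R M]
    {n : ℕ} (N : Fin (n + 1) → Submodule R M) (hN : Monotone N) (h0 : N 0 = ⊥)
    (p : Fin n → PrimeSpectrum R)
    (hquot : ∀ i : Fin n, Nonempty ((↥(N i.succ) ⧸
      Submodule.comap (N i.succ).subtype (N i.castSucc)) ≃ₗ[R] (R ⧸ (p i).asIdeal)))
    (j : Fin (n + 1)) (q : PrimeSpectrum R) :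
    q ∈ Module.support R (N j) ↔ ∃ i : Fin n, i.castSucc < j ∧ p i ≤ q := by
  induction j using Fin.induction with
  | zero =>
    have h1 : Subsingleton (N 0) := by rw [h0]; infer_instance
    rw [Module.support_eq_empty]
    simp
  | succ i ih =>
    have h1 : Module.support R (N i.succ) = Module.support R (N i.castSucc) ∪
        Module.support R (↥(N i.succ) ⧸ Submodule.comap (N i.succ).subtype (N i.castSucc)) := by
      refine Module.support_of_exact
        (f := Submodule.inclusion (hN (Fin.castSucc_lt_succ (i := i)).le))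
        (g := Submodule.mkQ _) ?_ (Submodule.inclusion_injective _) (Submodule.mkQ_surjective _)
      rw [LinearMap.exact_iff, Submodule.ker_mkQ, Submodule.range_inclusion]
    obtain ⟨e⟩ := hquot i
    rw [h1, Set.mem_union, ih, e.support_eq, Module.support_of_algebra,
      PrimeSpectrum.mem_zeroLocus, Ideal.Quotient.algebraMap_eq, Ideal.mk_ker]
    constructor
    · rintro (⟨i', hi', hq⟩ | hq)
      · exact ⟨i', hi'.trans (Fin.castSucc_lt_succ (i := i)), hq⟩
      · exact ⟨i, Fin.castSucc_lt_succ (i := i), hq⟩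
    · rintro ⟨i', hi', hq⟩
      rcases (Fin.castSucc_lt_succ_iff.1 hi').lt_or_eq with h | h
      · exact Or.inl ⟨i', Fin.castSucc_lt_castSucc_iff.2 h, hq⟩
      · subst h
        exact Or.inr hq

/-- Let R be a Noetherian ring, M a finite R-module and 0 = M_0 ⊆ M_1 ⊆ ⋯ ⊆ M_n = M a chain of
submodules whose successive quotients M_i/M_{i-1} are isomorphic to R/p_i for prime ideals p_i. Then
the primes minimal among p_1, …, p_n are exactly the primes minimal in the support of M. -/
theorem result {R : Type u} [CommRing R] [IsNoetherianRing R] (M : Type u) [AddCommGroup M] [Module R M] [Module.Finite R M]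
    {n : ℕ} (N : Fin (n + 1) → Submodule R M) (hN : Monotone N) (h0 : N 0 = ⊥) (hlast : N (Fin.last n) = ⊤)
    (p : Fin n → PrimeSpectrum R)
    (hquot : ∀ i : Fin n, Nonempty ((↥(N i.succ) ⧸ Submodule.comap (N i.succ).subtype (N i.castSucc)) ≃ₗ[R] (R ⧸ (p i).asIdeal))) :
    {q : PrimeSpectrum R | Minimal (fun x => x ∈ Set.range p) q} = {q : PrimeSpectrum R | Minimal (fun x => x ∈ Module.support R M) q} := by
  have hs : ∀ q : PrimeSpectrum R, q ∈ Module.support R M ↔ ∃ i, p i ≤ q := by
    intro q
    have h1 := mem_support M N hN h0 p hquot (Fin.last n) q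
    have h2 : Module.support R (N (Fin.last n)) = Module.support R M := by
      rw [hlast]
      exact Submodule.topEquiv.support_eq
    rw [h2] at h1
    rw [h1]
    exact exists_congr fun i => and_iff_right (Fin.castSucc_lt_last i)
  have hp : ∀ i, p i ∈ Module.support R M := fun i => (hs _).2 ⟨i, le_rfl⟩
  ext q
  simp only [Set.mem_ofPred_eq]
  constructor
  · rintro ⟨⟨i, rfl⟩, hmin⟩
    refine ⟨hp i, fun q' hq' hle => ?_⟩
    obtain ⟨i', hi'⟩ := (hs q').1 hq'
    exact (hmin ⟨i', rfl⟩ (hi'.trans hle)).trans hi'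
  · rintro ⟨hq, hmin⟩
    obtain ⟨i, hi⟩ := (hs q).1 hq
    have h1 : p i = q := le_antisymm hi (hmin (hp i) hi)
    refine ⟨⟨i, h1⟩, ?_⟩
    rintro _ ⟨i', rfl⟩ hle
    exact hmin (hp i') hle

end Groth.Agent.S9643
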