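import Groth.Statements.S9644
import Mathlib.RingTheory.Spectrum.Prime.Module
import Mathlib.RingTheory.Ideal.AssociatedPrime.Localization
import Mathlib.RingTheory.Spectrum.Prime.Noetherian

set_option autoImplicit false
universe u
open CAlg

namespace Groth.Agent.S9644

section aux

variable {R : Type*} [CommRing R] [IsNoetherianRing R] (M : Type*) [AddCommGroup M] [Module R M]
  [Module.Finite R M]

omit [IsNoetherianRing R] in
theorem minimal_iff (p : PrimeSpectrum R) : Minimal (fun x => x ∈ Module.support R M) p ↔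
    p.asIdeal ∈ (Module.annihilator R M).minimalPrimes := by
  simp only [Minimal, Module.mem_support_iff_of_finite]
  constructor
  · rintro ⟨h1, h2⟩
    exact ⟨⟨p.isPrime, h1⟩, fun q hq hqp => h2 (y := ⟨q, hq.1⟩) hq.2 hqp⟩
  · rintro ⟨⟨-, h1⟩, h2⟩
    exact ⟨h1, fun q hq hqp => h2 (y := q.asIdeal) ⟨q.isPrime, hq⟩ hqp⟩

omit [IsNoetherianRing R] in
theorem exists_minimal (x : PrimeSpectrum R) (hx : x ∈ Module.support R M) :
    ∃ p : PrimeSpectrum R, Minimal (fun x => x ∈ Module.support R M) p ∧ p ≤ x := by
  rw [Module.mem_support_iff_of_finite] at hx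
  obtain ⟨q, hq, hqx⟩ := Ideal.exists_minimalPrimes_le hx
  exact ⟨⟨q, hq.1.1⟩, (minimal_iff M _).2 hq, hqx⟩

/-- a submodule has nowhere dense support iff the support misses the minimal points -/
theorem nowhereDense_iff (K' : Submodule R M) :
    (∀ U : Set (PrimeSpectrum R), IsOpen U → U ∩ Module.support R M ⊆
      closure (Module.support R ↥K') → U ∩ Module.support R M = ∅) ↔
    ∀ p, Minimal (fun x => x ∈ Module.support R M) p → p ∉ Module.support R K' := by
  have hclosed : closure (Module.support R ↥K') = Module.support R ↥K' :=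
    (Module.isClosed_support (R := R) (M := K')).closure_eq
  have hsub : Module.support R K' ⊆ Module.support R M :=
    Module.support_subset_of_injective K'.subtype K'.injective_subtype
  rw [hclosed]
  constructor
  · intro h p hp hpK
    have hfin : ((Module.annihilator R M).minimalPrimes).Finite :=
      Ideal.finite_minimalPrimes_of_isNoetherianRing R _
    have hr : ∀ q : Ideal R, ∃ r : R, q ∈ (Module.annihilator R M).minimalPrimes →
        q ≠ p.asIdeal → r ∈ q ∧ r ∉ p.asIdeal := by
      intro q
      by_cases hq : q ∈ (Module.annihilator R M).minimalPrimes ∧ q ≠ p.asIdeal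
      · have h1 : ¬ q ≤ p.asIdeal := fun hle => hq.2
          (le_antisymm hle (((minimal_iff M p).1 hp).2 hq.1.1 hle))
        obtain ⟨r, hr1, hr2⟩ := SetLike.not_le_iff_exists.1 h1
        exact ⟨r, fun _ _ => ⟨hr1, hr2⟩⟩
      · exact ⟨0, fun h1 h2 => absurd ⟨h1, h2⟩ hq⟩
    choose r hr using hr
    classical
    let s : Finset (Ideal R) := hfin.toFinset.erase p.asIdeal
    let f : R := ∏ q ∈ s, r q
    have hf : f ∉ p.asIdeal := by
      intro hf
      obtain ⟨q, hq, hq'⟩ := (Ideal.IsPrime.prod_mem_iff).1 hf
      rw [Finset.mem_erase, Set.Finite.mem_toFinset] at hq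
      exact (hr q hq.2 hq.1).2 hq'
    have h1 := h (PrimeSpectrum.basicOpen f) (PrimeSpectrum.basicOpen f).2 (by
      rintro x ⟨hxf, hx⟩
      obtain ⟨q, hq, hqx⟩ := exists_minimal M x hx
      by_cases hqp : q = p
      · exact Module.mem_support_mono (hqp ▸ hqx) hpK
      · exfalso
        have hq' : q.asIdeal ∈ s := by
          rw [Finset.mem_erase, Set.Finite.mem_toFinset]
          exact ⟨fun h => hqp (PrimeSpectrum.ext h), (minimal_iff M q).1 hq⟩
        have h2 : r q.asIdeal ∈ q.asIdeal :=
          (hr _ ((minimal_iff M q).1 hq) (fun h => hqp (PrimeSpectrum.ext h))).1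
        exact hxf (hqx (Ideal.mem_of_dvd _ (Finset.dvd_prod_of_mem r hq') h2)))
    have h2 : p ∈ (PrimeSpectrum.basicOpen f : Set (PrimeSpectrum R)) ∩ Module.support R M :=
      ⟨hf, hsub hpK⟩
    rw [h1] at h2
    exact h2
  · intro h U hU hsubU
    by_contra hne
    obtain ⟨x, hxU, hx⟩ := Set.nonempty_iff_ne_empty.2 hne
    obtain ⟨p, hp, hpx⟩ := exists_minimal M x hx
    have hpU : p ∈ U := ((PrimeSpectrum.le_iff_specializes p x).1 hpx).mem_open hU hxU
    exact h p hp (hsubU ⟨hpU, hp.1⟩)

/-- the largest submodule with nowhere dense support -/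
def bigK (R : Type*) [CommRing R] (M : Type*) [AddCommGroup M] [Module R M] : Submodule R M where
  carrier := {m | ∀ p : PrimeSpectrum R, Minimal (fun x => x ∈ Module.support R M) p →
    ∃ r ∉ p.asIdeal, r • m = 0}
  add_mem' := by
    intro a b ha hb p hp
    obtain ⟨r, hr, hra⟩ := ha p hp
    obtain ⟨t, ht, htb⟩ := hb p hp
    refine ⟨r * t, fun h => (p.isPrime.mem_or_mem h).elim hr ht, ?_⟩
    rw [smul_add, mul_comm, mul_smul, hra, smul_zero, mul_comm, mul_smul, htb, smul_zero, add_zero]
  zero_mem' := fun p _ => ⟨1, (Ideal.ne_top_iff_one _).1 p.isPrime.ne_top, smul_zero _⟩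
  smul_mem' := by
    intro c m hm p hp
    obtain ⟨r, hr, hrm⟩ := hm p hp
    exact ⟨r, hr, by rw [smul_comm, hrm, smul_zero]⟩

omit [IsNoetherianRing R] [Module.Finite R M] in
theorem notMem_support_bigK (p : PrimeSpectrum R)
    (hp : Minimal (fun x => x ∈ Module.support R M) p) : p ∉ Module.support R (bigK R M) := by
  rw [Module.notMem_support_iff']
  rintro ⟨m, hm⟩
  obtain ⟨r, hr, hrm⟩ := hm p hp
  exact ⟨r, hr, Subtype.ext hrm⟩

omit [IsNoetherianRing R] [Module.Finite R M] in
theorem le_bigK (K' : Submodule R M) (h : ∀ p, Minimal (fun x => x ∈ Module.support R M) p →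
    p ∉ Module.support R K') : K' ≤ bigK R M := by
  intro m hm p hp
  obtain ⟨r, hr, hrm⟩ := Module.notMem_support_iff'.1 (h p hp) ⟨m, hm⟩
  exact ⟨r, hr, congrArg Subtype.val hrm⟩

omit [IsNoetherianRing R] in
theorem support_quotient_bigK : Module.support R (M ⧸ bigK R M) = Module.support R M := by
  refine Set.Subset.antisymm
    (Module.support_subset_of_surjective (bigK R M).mkQ (Submodule.mkQ_surjective _)) ?_
  intro x hx
  obtain ⟨p, hp, hpx⟩ := exists_minimal M x hx
  have h1 : Module.support R M = Module.support R (bigK R M) ∪ Module.support R (M ⧸ bigK R M) :=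
    Module.support_of_exact (f := (bigK R M).subtype) (g := (bigK R M).mkQ)
      (LinearMap.exact_subtype_mkQ (bigK R M)) (Submodule.injective_subtype _)
      (Submodule.mkQ_surjective _)
  have h2 : p ∈ Module.support R (bigK R M) ∪ Module.support R (M ⧸ bigK R M) := h1 ▸ hp.1
  exact Module.mem_support_mono hpx (h2.resolve_left (notMem_support_bigK M p hp))

theorem minimal_of_mem_associatedPrimes (q : Ideal R) (hq : q ∈ associatedPrimes R (M ⧸ bigK R M)) :
    ∃ h : q.IsPrime, Minimal (fun x => x ∈ Module.support R M) ⟨q, h⟩ := by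
  have hq' := hq
  rw [AssociatedPrimes.mem_iff, isAssociatedPrime_iff] at hq
  obtain ⟨hqp, x, hx⟩ := hq
  refine ⟨hqp, ?_⟩
  obtain ⟨m, rfl⟩ := Submodule.Quotient.mk_surjective _ x
  have hmem : ∀ r, r ∈ q ↔ r • m ∈ bigK R M := by
    intro r
    rw [hx, Submodule.mem_colon_singleton, Submodule.mem_bot, ← Submodule.Quotient.mk_smul,
      Submodule.Quotient.mk_eq_zero]
  have hm : m ∉ bigK R M := by
    intro h
    refine hqp.ne_top ((Ideal.eq_top_iff_one _).2 ((hmem 1).2 ?_))
    rwa [one_smul]
  have hm' : ∃ p : PrimeSpectrum R, Minimal (fun x => x ∈ Module.support R M) p ∧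
      ∀ r ∉ p.asIdeal, r • m ≠ 0 := by
    by_contra hcon
    push Not at hcon
    exact hm fun p hp => hcon p hp
  obtain ⟨p, hp, hpm⟩ := hm'
  have hle : q ≤ p.asIdeal := by
    intro r hr
    obtain ⟨s, hs, hsr⟩ := (hmem r).1 hr p hp
    rw [smul_smul] at hsr
    have h1 : s * r ∈ p.asIdeal := by
      by_contra hcon
      exact hpm _ hcon hsr
    exact (p.isPrime.mem_or_mem h1).resolve_left hs
  have hqs : (⟨q, hqp⟩ : PrimeSpectrum R) ∈ Module.support R M := by
    rw [← support_quotient_bigK M, Module.mem_support_iff_of_finite]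
    exact IsAssociatedPrime.annihilator_le hq' |>.trans' (by rw [Submodule.annihilator_top])
  have h2 : (⟨q, hqp⟩ : PrimeSpectrum R) = p :=
    le_antisymm hle (hp.2 hqs hle)
  rw [h2]
  exact hp

end aux

/-- Let R be a Noetherian ring and M a finite R-module. Among the submodules K' of M whose support is
nowhere dense inside Supp(M) there is a largest one, K. The quotient M' = M/K then satisfies
Supp(M') = Supp(M), its associated primes are pairwise incomparable (no embedded ones), and whenever
f ∈ R belongs to every embedded associated prime of M the localized map M_f → M'_f is bijective. -/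
theorem result {R : Type u} [CommRing R] [IsNoetherianRing R] (M : Type u) [AddCommGroup M] [Module R M] [Module.Finite R M] :
    ∃ K : Submodule R M,
      IsGreatest {K' : Submodule R M | ∀ U : Set (PrimeSpectrum R), IsOpen U → U ∩ Module.support R M ⊆ closure (Module.support R ↥K') → U ∩ Module.support R M = ∅} K ∧
      Module.support R (M ⧸ K) = Module.support R M ∧
      (∀ p ∈ associatedPrimes R (M ⧸ K), ∀ q ∈ associatedPrimes R (M ⧸ K), p ≤ q → p = q) ∧
      ∀ f : R, (∀ p ∈ associatedPrimes R M, ¬ Minimal (fun x => x ∈ associatedPrimes R M) p → f ∈ p) →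
        Function.Bijective (LocalizedModule.map (Submonoid.powers f) K.mkQ) := by
  refine ⟨bigK R M, ⟨(nowhereDense_iff M _).2 fun p hp => notMem_support_bigK M p hp, ?_⟩,
    support_quotient_bigK M, ?_, ?_⟩
  · intro K' hK'
    exact le_bigK M K' ((nowhereDense_iff M _).1 hK')
  · intro p hp q hq hpq
    obtain ⟨h1, h2⟩ := minimal_of_mem_associatedPrimes M p hp
    obtain ⟨h3, h4⟩ := minimal_of_mem_associatedPrimes M q hq
    exact le_antisymm hpq (h4.2 (y := ⟨p, h1⟩) h2.1 hpq)
  · intro f hf
    have hsupp : Module.support R (bigK R M) ⊆ PrimeSpectrum.zeroLocus {f} := by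
      intro x hx
      obtain ⟨q, hq, hqx⟩ := exists_minimal (bigK R M) x hx
      have h1 : q.asIdeal ∈ associatedPrimes R (bigK R M) :=
        Module.associatedPrimes.minimalPrimes_annihilator_subset_associatedPrimes R _
          ((minimal_iff _ q).1 hq)
      have h2 : q.asIdeal ∈ associatedPrimes R M :=
        associatedPrimes.subset_of_injective (f := (bigK R M).subtype) (Submodule.injective_subtype _) h1
      have hqM : q ∈ Module.support R M :=
        Module.support_subset_of_injective (bigK R M).subtype (Submodule.injective_subtype _) hq.1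
      have h3 : ¬ Minimal (fun x => x ∈ associatedPrimes R M) q.asIdeal := by
        intro h4
        obtain ⟨p, hp, hpq⟩ := exists_minimal M q hqM
        have h5 : p.asIdeal ∈ associatedPrimes R M :=
          Module.associatedPrimes.minimalPrimes_annihilator_subset_associatedPrimes R _
            ((minimal_iff _ p).1 hp)
        have h6 : q.asIdeal ≤ p.asIdeal := h4.2 h5 hpq
        have h7 : p = q := le_antisymm hpq h6
        exact notMem_support_bigK M p hp (h7 ▸ hq.1)
      rw [PrimeSpectrum.mem_zeroLocus, Set.singleton_subset_iff]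
      exact hqx (hf _ h2 h3)
    have hsub := LocalizedModule.subsingleton_iff_support_subset.2 hsupp
    have hkill : ∀ m ∈ bigK R M, ∃ r ∈ Submonoid.powers f, r • m = 0 := by
      intro m hm
      obtain ⟨r, hr, hrm⟩ := LocalizedModule.subsingleton_iff.1 hsub ⟨m, hm⟩
      exact ⟨r, hr, congrArg Subtype.val hrm⟩
    constructor
    · rw [← LinearMap.ker_eq_bot, LinearMap.ker_eq_bot']
      intro z hz
      induction z using LocalizedModule.induction_on with
      | h m s =>
        rw [LocalizedModule.map_mk, ← LocalizedModule.zero_mk s, LocalizedModule.mk_eq] at hz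
        obtain ⟨u, hu⟩ := hz
        rw [smul_zero, smul_zero] at hu
        replace hu : (u : R) • (s : R) • (bigK R M).mkQ m = 0 := hu
        rw [← map_smul, ← map_smul] at hu
        have h1 : (u : R) • (s : R) • m ∈ bigK R M := by
          rw [← Submodule.ker_mkQ (bigK R M), LinearMap.mem_ker]
          exact hu
        obtain ⟨r, hr, hrm⟩ := hkill _ h1
        rw [← LocalizedModule.zero_mk s, LocalizedModule.mk_eq]
        refine ⟨⟨r, hr⟩ * u, ?_⟩
        rw [smul_zero, smul_zero, mul_smul]
        exact hrm
    · intro z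
      induction z using LocalizedModule.induction_on with
      | h m s =>
        obtain ⟨m, rfl⟩ := Submodule.mkQ_surjective _ m
        exact ⟨LocalizedModule.mk m s, by rw [LocalizedModule.map_mk]⟩

end Groth.Agent.S9644
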