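import Groth.Statements.S9645
import Mathlib.RingTheory.Localization.Integral

set_option autoImplicit false
universe u
open CAlg

namespace Groth.Agent.S9645

/-- Integral closure commutes with localization. Let A → B be a ring map, S a multiplicative subset of
A, and A_S, B_S the localizations of A at S and of B at the image of S. Then an element x of B_S is
integral over A_S if and only if x·s = b for some s ∈ S and some b ∈ B integral over A (images taken
in B_S); that is, the integral closure of A_S in B_S is S⁻¹B' for B' the integral closure of A in B. -/
theorem result {A B As Bs : Type u} [CommRing A] [CommRing B] [CommRing As] [CommRing Bs] [Algebra A B] [Algebra A As] [Algebra B Bs] [Algebra As Bs] [Algebra A Bs] [IsScalarTower A B Bs] [IsScalarTower A As Bs]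
    (S : Submonoid A) [IsLocalization S As] [IsLocalization (Algebra.algebraMapSubmonoid B S) Bs] (x : Bs) :
    IsIntegral As x ↔ ∃ b : B, IsIntegral A b ∧ ∃ s ∈ S, x * algebraMap A Bs s = algebraMap B Bs b := by
  constructor
  · intro hx
    obtain ⟨m, hm⟩ := IsIntegral.exists_multiple_integral_of_isLocalization S x hx
    obtain ⟨⟨b, ⟨_, t, ht, rfl⟩⟩, hb⟩ :=
      IsLocalization.surj (Algebra.algebraMapSubmonoid B S) (m • x)
    have h1 : IsIntegral A (algebraMap B Bs b) := by
      rw [← hb]
      refine hm.mul ?_
      change IsIntegral A (algebraMap B Bs (algebraMap A B t))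
      rw [← IsScalarTower.algebraMap_apply]
      exact isIntegral_algebraMap
    obtain ⟨u, hu, hub⟩ := IsLocalization.exists_isIntegral_smul_of_isIntegral_map S h1
    refine ⟨u • b, hub, m * t * u, mul_mem (mul_mem m.2 ht) hu, ?_⟩
    replace hb : (m : A) • x * algebraMap B Bs (algebraMap A B t) = algebraMap B Bs b := hb
    rw [← IsScalarTower.algebraMap_apply, Algebra.smul_def] at hb
    rw [Algebra.smul_def, map_mul (algebraMap B Bs), ← IsScalarTower.algebraMap_apply, map_mul,
      map_mul]
    linear_combination algebraMap A Bs u * hb
  · rintro ⟨b, hb, s, hs, hx⟩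
    have h1 : IsIntegral As (algebraMap B Bs b) := by
      have h2 : IsIntegral A (algebraMap B Bs b) := hb.map (IsScalarTower.toAlgHom A B Bs)
      exact h2.tower_top
    have hu : IsUnit (algebraMap A As s) := IsLocalization.map_units As ⟨s, hs⟩
    obtain ⟨v, hv⟩ := hu.exists_left_inv
    have h3 : x = algebraMap As Bs v * algebraMap B Bs b := by
      rw [← hx, IsScalarTower.algebraMap_apply A As Bs s]
      have : algebraMap As Bs v * algebraMap As Bs (algebraMap A As s) = 1 := by
        rw [← map_mul, hv, map_one]
      linear_combination (-x) * this
    rw [h3]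
    exact isIntegral_algebraMap.mul h1

end Groth.Agent.S9645
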