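import Groth.Statements.S9646
import Mathlib.RingTheory.Localization.Integral

set_option autoImplicit false
universe u
open CAlg

namespace Groth.Agent.S9646

/-- (2) ⇒ (1): let R → S be a ring map and x ∈ S. If for every prime ideal p of R the image of x in S_p
(the localization of S at the image of R ∖ p) is integral over R_p, then x is integral over R. Here
R_p and S_p are any rings satisfying the localization universal properties. -/
theorem result {R S : Type u} [CommRing R] [CommRing S] [Algebra R S] (x : S)
    (h : ∀ (p : Ideal R) [p.IsPrime] (Rp Sp : Type u) [CommRing Rp] [CommRing Sp] [Algebra R Rp] [Algebra S Sp] [Algebra Rp Sp] [Algebra R Sp] [IsScalarTower R S Sp] [IsScalarTower R Rp Sp] [IsLocalization.AtPrime Rp p] [IsLocalization (Algebra.algebraMapSubmonoid S p.primeCompl) Sp], IsIntegral Rp (algebraMap S Sp x)) :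
    IsIntegral R x := by
  let I : Ideal R := 
    { carrier := {r | IsIntegral R (r • x)}
      add_mem' := fun {a b} ha hb => by
        change IsIntegral R ((a + b) • x)
        rw [add_smul]
        exact IsIntegral.add ha hb
      zero_mem' := by
        change IsIntegral R ((0 : R) • x)
        rw [zero_smul]
        exact isIntegral_zero
      smul_mem' := fun c a ha => by
        change IsIntegral R ((c * a) • x)
        rw [mul_smul]
        exact IsIntegral.smul c ha }
  have hI : I = ⊤ := by
    by_contra hne
    obtain ⟨p, hp, hIp⟩ := Ideal.exists_le_maximal I hne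
    have hpp : p.IsPrime := hp.isPrime
    let Rp := Localization.AtPrime p
    let Sp := Localization (Algebra.algebraMapSubmonoid S p.primeCompl)
    let : Algebra Rp Sp := localizationAlgebra p.primeCompl S
    have h0 : IsScalarTower R Rp Sp := IsScalarTower.of_algebraMap_eq' (by
      rw [IsScalarTower.algebraMap_eq R S Sp]
      exact (IsLocalization.map_comp (M := p.primeCompl)
        (T := Algebra.algebraMapSubmonoid S p.primeCompl) (S := Rp) (Q := Sp)
        (g := algebraMap R S) _).symm)
    have h1 : IsIntegral Rp (algebraMap S Sp x) := h p Rp Sp
    obtain ⟨m, hm⟩ := IsIntegral.exists_multiple_integral_of_isLocalization p.primeCompl _ h1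
    have h2 : IsIntegral R (algebraMap S Sp ((m : R) • x)) := by
      have h3 : algebraMap S Sp ((m : R) • x) = m • algebraMap S Sp x := by
        rw [Algebra.smul_def, map_mul, ← IsScalarTower.algebraMap_apply, Submonoid.smul_def,
          Algebra.smul_def]
      rw [h3]
      exact hm
    obtain ⟨u, hu, hub⟩ := IsLocalization.exists_isIntegral_smul_of_isIntegral_map p.primeCompl h2
    have h4 : u * m ∈ I := by
      change IsIntegral R ((u * (m : R)) • x)
      rw [mul_smul]
      exact hub
    exact (mul_mem hu m.2 : u * (m : R) ∈ p.primeCompl) (hIp h4)
  have h1 : (1 : R) ∈ I := hI ▸ Submodule.mem_top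
  have h2 : IsIntegral R ((1 : R) • x) := h1
  rwa [one_smul] at h2

end Groth.Agent.S9646
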