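import Groth.Statements.S9647
import Groth.Agent.VarietyB.BaseExt2
import Mathlib.FieldTheory.IsSepClosed

set_option autoImplicit false
universe u
open CAlg

namespace Groth.Agent.S9647

open TensorProduct in
/-- Let K/k be a field extension and k^sep a separable algebraic closure of k. Then the automorphism
group of k^sep over k acts transitively on the primes of k^sep ⊗_k K: for any two primes P, Q there
is a k-automorphism σ of k^sep with Q the inverse image of P under σ ⊗ id_K. -/
theorem result {k K : Type u} [Field k] [Field K] [Algebra k K]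
    (P Q : Ideal (SeparableClosure k ⊗[k] K)) [P.IsPrime] [Q.IsPrime] :
    ∃ σ : SeparableClosure k ≃ₐ[k] SeparableClosure k, Q = P.comap (Algebra.TensorProduct.map (σ : SeparableClosure k →ₐ[k] SeparableClosure k) (AlgHom.id k K)) := by
  let L := SeparableClosure k
  let c : (K ⊗[k] L) ≃ₐ[k] (L ⊗[k] K) := Algebra.TensorProduct.comm k K L
  let P' : Ideal (K ⊗[k] L) := P.comap (c : (K ⊗[k] L) →+* (L ⊗[k] K))
  let Q' : Ideal (K ⊗[k] L) := Q.comap (c : (K ⊗[k] L) →+* (L ⊗[k] K))
  have hbot : ∀ (I : Ideal (K ⊗[k] L)) [I.IsPrime], I.comap (algebraMap K (K ⊗[k] L)) = ⊥ :=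
    fun I hI => by
      have h1 : (I.comap (algebraMap K (K ⊗[k] L))).IsPrime := Ideal.comap_isPrime _ _
      exact (Ideal.eq_bot_or_top _).resolve_right h1.ne_top
  obtain ⟨σ, hσ⟩ := Groth.Agent.VarietyB.BaseExt2.exists_comap_eq k K L P' Q'
    ((hbot P').trans (hbot Q').symm)
  refine ⟨σ, ?_⟩
  ext x
  have h1 : x ∈ Q ↔ c.symm x ∈ Q' := by
    change _ ↔ c (c.symm x) ∈ Q
    rw [AlgEquiv.apply_symm_apply]
  rw [h1, hσ]
  change c (Groth.Agent.VarietyB.BaseExt2.galHom k K L σ (c.symm x)) ∈ P ↔
    (Algebra.TensorProduct.map (σ : L →ₐ[k] L) (AlgHom.id k K)) x ∈ P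
  have h2 : c (Groth.Agent.VarietyB.BaseExt2.galHom k K L σ (c.symm x)) =
      (Algebra.TensorProduct.map (σ : L →ₐ[k] L) (AlgHom.id k K)) x := by
    clear h1
    induction x using TensorProduct.induction_on with
    | zero => simp
    | tmul a b => simp [c]
    | add a b ha hb => rw [map_add, map_add, map_add, map_add, ha, hb]
  rw [h2]

end Groth.Agent.S9647
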