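import Groth.Statements.S9648
import Groth.Agent.Flat2A.FiberEquiv
import Groth.Agent.CAlg.K77.AssLoc

set_option autoImplicit false
universe u
open CAlg

namespace Groth.Agent.S9648

open TensorProduct in
theorem exists_smul_mem_range {R S : Type u} [CommRing R] [CommRing S] [Algebra R S]
    (N : Type u) [AddCommGroup N] [Module S N] [Module R N] [IsScalarTower R S N]
    (p : Ideal R) [p.IsPrime] (x : N ⊗[R] p.ResidueField) :
    ∃ r : R, r ∉ p ∧ ∃ y : N ⊗[R] (R ⧸ p), r • x =
      TensorProduct.AlgebraTensorModule.lTensor S N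
        (Algebra.linearMap (R ⧸ p) p.ResidueField |>.restrictScalars R) y := by
  induction x using TensorProduct.induction_on with
  | zero => exact ⟨1, (Ideal.ne_top_iff_one p).1 (Ideal.IsPrime.ne_top ‹_›), 0, by simp⟩
  | tmul n z =>
    obtain ⟨a, b, hb, rfl⟩ := IsFractionRing.div_surjective (A := R ⧸ p) z
    obtain ⟨b, rfl⟩ := Ideal.Quotient.mk_surjective b
    have hb' : b ∉ p := by
      intro h
      rw [← Ideal.Quotient.eq_zero_iff_mem] at h
      exact nonZeroDivisors.ne_zero hb h
    refine ⟨b, hb', n ⊗ₜ a, ?_⟩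
    rw [TensorProduct.AlgebraTensorModule.lTensor_tmul, TensorProduct.smul_tmul',
      TensorProduct.smul_tmul]
    congr 1
    change b • _ = algebraMap (R ⧸ p) p.ResidueField a
    have h1 : algebraMap (R ⧸ p) p.ResidueField (Ideal.Quotient.mk p b) ≠ 0 := by
      rw [Ne, map_eq_zero_iff _ (IsFractionRing.injective (R ⧸ p) p.ResidueField)]
      exact nonZeroDivisors.ne_zero hb
    have h2 : ∀ z : p.ResidueField, b • z =
        algebraMap (R ⧸ p) p.ResidueField (Ideal.Quotient.mk p b) * z := by
      intro z
      rw [Algebra.smul_def]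
      rfl
    rw [h2, mul_div_cancel₀ _ h1]
  | add x y hx hy =>
    obtain ⟨r, hr, u, hu⟩ := hx
    obtain ⟨t, ht, v, hv⟩ := hy
    refine ⟨r * t, fun h => (Ideal.IsPrime.mem_or_mem ‹_› h).elim hr ht, t • u + r • v, ?_⟩
    rw [map_add, LinearMap.map_smul_of_tower, LinearMap.map_smul_of_tower, ← hu, ← hv, smul_add,
      smul_smul, smul_smul, mul_comm t r]

open TensorProduct in
theorem smul_eq_zero_imp {R : Type u} [CommRing R] (N : Type u) [AddCommGroup N] [Module R N]
    (p : Ideal R) [p.IsPrime] (r : R) (hr : r ∉ p) (z : N ⊗[R] p.ResidueField) (hz : r • z = 0) :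
    z = 0 := by
  have h3 : algebraMap R p.ResidueField r ≠ 0 := by
    rw [Ne, Ideal.algebraMap_residueField_eq_zero]
    exact hr
  let L : p.ResidueField →ₗ[R] p.ResidueField :=
    LinearMap.mulLeft R (algebraMap R p.ResidueField r)⁻¹
  have key : ∀ z : N ⊗[R] p.ResidueField, (L.lTensor N) (r • z) = z := by
    intro z
    induction z using TensorProduct.induction_on with
    | zero => simp
    | tmul n c =>
      rw [map_smul, LinearMap.lTensor_tmul, ← TensorProduct.tmul_smul]
      congr 1
      change r • ((algebraMap R p.ResidueField r)⁻¹ * c) = c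
      rw [Algebra.smul_def, ← mul_assoc, mul_inv_cancel₀ h3, one_mul]
    | add x y hx hy => rw [smul_add, map_add, hx, hy]
  rw [← key z, hz, map_zero]

open TensorProduct in
/-- The inclusion, valid for any ring R: let R → S be a ring map, M an R-module and N an S-module which
is flat over R. For an associated prime p of M (a prime equal to the annihilator of an element) and
an associated prime Q of the fibre module N ⊗_R κ(p) over the fibre ring S ⊗_R κ(p), the inverse
image of Q in S is an associated prime of N ⊗_R M. -/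
theorem result {R S : Type u} [CommRing R] [CommRing S] [Algebra R S] (M : Type u) [AddCommGroup M] [Module R M] (N : Type u) [AddCommGroup N] [Module S N] [Module R N] [IsScalarTower R S N] [Module.Flat R N]
    (p : Ideal R) [p.IsPrime] (hp : p ∈ FlatCA.ass R M) (Q : Ideal (p.Fiber S)) (hQ : Q ∈ FlatCA.ass (p.Fiber S) (FlatCA.fiberMod p S N)) :
    Q.comap (Algebra.TensorProduct.includeRight (R := R) (A := p.ResidueField) (B := S)).toRingHom ∈ FlatCA.ass S (N ⊗[R] M) := by
  rw [K77.AssLoc.mem_ass_iff] at hp hQ ⊢
  obtain ⟨-, m, hm⟩ := hp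
  obtain ⟨hQp, x, hx⟩ := hQ
  refine ⟨Ideal.comap_isPrime _ _, ?_⟩
  -- the injection `R/p → M`
  let g : (R ⧸ p) →ₗ[R] M := Submodule.liftQ p (LinearMap.toSpanSingleton R M m)
    (fun a ha => by
      rw [LinearMap.mem_ker, LinearMap.toSpanSingleton_apply]
      exact (hm a).1 ha)
  have hg : Function.Injective g := by
    rw [← LinearMap.ker_eq_bot, Submodule.ker_liftQ_eq_bot]
    intro a ha
    rw [LinearMap.mem_ker, LinearMap.toSpanSingleton_apply] at ha
    exact (hm a).2 ha
  let G := TensorProduct.AlgebraTensorModule.lTensor S N g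
  have hG : Function.Injective G :=
    Module.Flat.lTensor_preserves_injective_linearMap (M := N) g hg
  let j : (R ⧸ p) →ₗ[R] p.ResidueField :=
    (Algebra.linearMap (R ⧸ p) p.ResidueField).restrictScalars R
  have hj : Function.Injective j := IsFractionRing.injective (R ⧸ p) p.ResidueField
  let J := TensorProduct.AlgebraTensorModule.lTensor S N j
  have hJ : Function.Injective J :=
    Module.Flat.lTensor_preserves_injective_linearMap (M := N) j hj
  obtain ⟨r, hr, y, hy⟩ := exists_smul_mem_range (S := S) N p (Flat2A.FiberEquiv.fiberModEquiv S p N x)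
  refine ⟨G y, fun s => ?_⟩
  have h1 : s ∈ Q.comap (Algebra.TensorProduct.includeRight (R := R) (A := p.ResidueField)
      (B := S)).toRingHom ↔ s • x = 0 := by
    rw [Ideal.mem_comap, hx, Groth.Agent.Flat2A.FiberAss.smul_fiberMod p N s x]
  rw [h1, ← map_smul, map_eq_zero_iff _ hG, ← map_eq_zero_iff J hJ, map_smul]
  have h2 : J y = r • Flat2A.FiberEquiv.fiberModEquiv S p N x := hy.symm
  rw [h2, smul_comm, ← map_smul, ← map_eq_zero_iff _ (Flat2A.FiberEquiv.fiberModEquiv S p N).injective]
  constructor
  · intro h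
    rw [h, smul_zero]
  · intro h
    exact smul_eq_zero_imp N p r hr _ h

end Groth.Agent.S9648
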