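import Groth.Statements.S9649
import Groth.Agent.CAlg.K77.SepGenFG

set_option autoImplicit false
universe u
open CAlg

namespace Groth.Agent.S9649

/-- A separably generated field extension is separable. Precisely: let K/k be a field extension
admitting a transcendence basis x over whose generated subfield k(x) the field K is separable
algebraic; then every finitely generated subextension K' of K/k also admits such a transcendence
basis. -/
theorem result {k K : Type u} [Field k] [Field K] [Algebra k K]
    (h : ∃ (ι : Type u) (x : ι → K), IsTranscendenceBasis k x ∧ Algebra.IsSeparable (IntermediateField.adjoin k (Set.range x)) K)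
    (K' : IntermediateField k K) (hK' : ∃ s : Finset K, IntermediateField.adjoin k (s : Set K) = K') :
    ∃ (ι : Type u) (x : ι → K'), IsTranscendenceBasis k x ∧ Algebra.IsSeparable (IntermediateField.adjoin k (Set.range x)) K' := by
  obtain ⟨ι, x, hx, hsep⟩ := h
  have h2 := K77.SepGenFG.isReduced_of_separating hx.1
  have h3 : IsReduced (TensorProduct k (AlgebraicClosure k) K') :=
    isReduced_of_injective (Algebra.TensorProduct.map (AlgHom.id k (AlgebraicClosure k)) K'.val)
      (Module.Flat.lTensor_preserves_injective_linearMap (M := AlgebraicClosure k)
        K'.val.toLinearMap (RingHom.injective _))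
  have h4 : Algebra.EssFiniteType k K' := by
    rw [IntermediateField.essFiniteType_iff]
    exact hK'
  obtain ⟨s, hs, hs'⟩ := K77.SepGenFG.exists_separating h3
  exact ⟨s, (↑), hs, hs'⟩

end Groth.Agent.S9649
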