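import Groth.Statements.S9650
import Groth.Agent.CAlg.K77.SepGenFG

set_option autoImplicit false
universe u
open CAlg

namespace Groth.Agent.S9650

/-- Let K/k be a finitely generated field extension that is separably generated, i.e. admits a
transcendence basis over whose generated subfield K is separable algebraic. Then K is generated over
k by finitely many elements x_1, …, x_r, y such that the x_i form a transcendence basis of K/k and y
is separable over the subfield k(x_1, …, x_r). -/
theorem result {k K : Type u} [Field k] [Field K] [Algebra k K]
    (hfg : ∃ s : Finset K, IntermediateField.adjoin k (s : Set K) = ⊤)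
    (hsep : ∃ (ι : Type u) (x : ι → K), IsTranscendenceBasis k x ∧ Algebra.IsSeparable (IntermediateField.adjoin k (Set.range x)) K) :
    ∃ (r : ℕ) (x : Fin r → K) (y : K), IsTranscendenceBasis k x ∧ IntermediateField.adjoin k (insert y (Set.range x)) = ⊤ ∧ IsSeparable (IntermediateField.adjoin k (Set.range x)) y := by
  obtain ⟨ι, x, hx, hsep⟩ := hsep
  have h2 := K77.SepGenFG.isReduced_of_separating hx.1
  have h4 : Algebra.EssFiniteType k K := by
    have h5 : Algebra.EssFiniteType k (⊤ : IntermediateField k K) := by
      rw [IntermediateField.essFiniteType_iff]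
      exact hfg
    exact Algebra.EssFiniteType.iff_of_algEquiv IntermediateField.topEquiv |>.1 h5
  obtain ⟨s, hs, hs'⟩ := K77.SepGenFG.exists_separating h2
  let e : Fin s.card ≃ s := s.equivFin.symm
  have hr : Set.range (((↑) : s → K) ∘ e) = Set.range ((↑) : s → K) := e.surjective.range_comp _
  have hs'' := K77.SepGenFG.isSeparable_adjoin_congr hr.symm hs'
  obtain ⟨y, hy, hy'⟩ := K77.SepGenFG.exists_primitive (k := k) (Set.range (((↑) : s → K) ∘ e))
  exact ⟨s.card, ((↑) : s → K) ∘ e, y, hs.comp_equiv e, hy, hy'⟩

end Groth.Agent.S9650
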