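import Groth.Statements.S9653
import Groth.Agent.CAlg.K77.JacImg

set_option autoImplicit false
universe u
open CAlg

namespace Groth.Agent.S9653

/-- Let R and S be Jacobson rings, R → S a ring map of finite type with induced map f : Spec(S) →
Spec(R), E ⊆ Spec(S) constructible and E₀ the set of points of E closed in E. Then a point ξ of
Spec(R) lies in f(E) if and only if cl{ξ} ∩ f(E₀) is dense in the closure cl{ξ}. -/
theorem result {R S : Type u} [CommRing R] [CommRing S] [Algebra R S] [IsJacobsonRing R] [IsJacobsonRing S] [Algebra.FiniteType R S]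
    (E : Set (PrimeSpectrum S)) (hE : Topology.IsConstructible E) (ξ : PrimeSpectrum R) :
    ξ ∈ PrimeSpectrum.comap (algebraMap R S) '' E ↔
      closure ({ξ} : Set (PrimeSpectrum R)) ⊆ closure (closure {ξ} ∩ PrimeSpectrum.comap (algebraMap R S) '' {y | y ∈ E ∧ closure {y} ∩ E = {y}}) := by
  constructor
  · intro hξ
    obtain ⟨a, ha, H⟩ := K77.JacImg.exists_open hE ξ hξ
    refine closure_minimal ?_ isClosed_closure
    rw [Set.singleton_subset_iff,
      PrimeSpectrum.isTopologicalBasis_basic_opens.mem_closure_iff]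
    rintro _ ⟨b, rfl⟩ hb
    have hab : a * b ∉ ξ.asIdeal := fun h => (ξ.isPrime.mem_or_mem h).elim ha hb
    obtain ⟨m, hm, hξm, habm⟩ := K77.ConstrImg.exists_isMaximal ξ (a * b) hab
    have ham : a ∉ m.asIdeal := fun h => habm (Ideal.mul_mem_right _ _ h)
    have hbm : b ∉ m.asIdeal := fun h => habm (Ideal.mul_mem_left _ _ h)
    refine ⟨m, hbm, K77.ConstrImg.mem_closure_iff'.2 hξm, ?_⟩
    exact (K77.JacImg.mem_image_closedPts_iff hE m).2 ⟨hm, H m hξm ham⟩
  · intro h
    by_contra hξ
    obtain ⟨a, ha, H⟩ := K77.ConstrImg.exists_vanish hE ξ hξ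
    have hsub : closure {ξ} ∩ PrimeSpectrum.comap (algebraMap R S) ''
        {y | y ∈ E ∧ closure {y} ∩ E = {y}} ⊆ PrimeSpectrum.zeroLocus {a} := by
      rintro _ ⟨hx, z, hz, rfl⟩
      rw [PrimeSpectrum.mem_zeroLocus, Set.singleton_subset_iff]
      exact H z hz.1 (K77.ConstrImg.mem_closure_iff'.1 hx)
    have h1 : ξ ∈ PrimeSpectrum.zeroLocus {a} :=
      closure_minimal hsub (PrimeSpectrum.isClosed_zeroLocus _) (h (subset_closure rfl))
    rw [PrimeSpectrum.mem_zeroLocus, Set.singleton_subset_iff] at h1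
    exact ha h1

end Groth.Agent.S9653
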