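import Groth.Statements.S9654
import Mathlib.LinearAlgebra.Matrix.Charpoly.LinearMap

set_option autoImplicit false
universe u
open CAlg

namespace Groth.Agent.S9654

open Polynomial

theorem mem_adjoin_singleton {R T : Type*} [CommRing R] [CommRing T] [Algebra R T] {a z : T} :
    z ∈ Algebra.adjoin R {a} ↔ ∃ p : R[X], aeval a p = z := by
  rw [Algebra.adjoin_singleton_eq_range_aeval, AlgHom.mem_range]

/-- the span of `a^i`, `b^i` for `i ≤ N` -/
def M (R : Type*) {T : Type*} [CommRing R] [CommRing T] [Algebra R T] (a b : T) (N : ℕ) :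
    Submodule R T :=
  Submodule.span R ((fun i => a ^ i) '' Set.Iic N ∪ (fun i => b ^ i) '' Set.Iic N)

section

variable {R T : Type*} [CommRing R] [CommRing T] [Algebra R T] {a b : T} (hab : a * b = 1) (N : ℕ)

theorem pow_mem_left {i : ℕ} (hi : i ≤ N) : a ^ i ∈ M R a b N :=
  Submodule.subset_span (Or.inl ⟨i, hi, rfl⟩)

theorem pow_mem_right {i : ℕ} (hi : i ≤ N) : b ^ i ∈ M R a b N :=
  Submodule.subset_span (Or.inr ⟨i, hi, rfl⟩)

include hab in
theorem mul_pow_mem {i j : ℕ} (hi : i ≤ N) (hj : j ≤ N) : a ^ i * b ^ j ∈ M R a b N := by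
  rcases le_total i j with h | h
  · obtain ⟨k, rfl⟩ := Nat.exists_eq_add_of_le h
    rw [pow_add, ← mul_assoc, ← mul_pow, hab, one_pow, one_mul]
    exact pow_mem_right N (by omega)
  · obtain ⟨k, rfl⟩ := Nat.exists_eq_add_of_le h
    have : a ^ (j + k) * b ^ j = (a * b) ^ j * a ^ k := by rw [pow_add, mul_pow]; ring
    rw [this, hab, one_pow, one_mul]
    exact pow_mem_left N (by omega)

include hab in
theorem smul_mem (p q : R[X]) (hp : p.natDegree ≤ N) (hq : q.natDegree ≤ N)
    (hpq : aeval a p = aeval b q) (w : T) (hw : w ∈ M R a b N) : aeval a p * w ∈ M R a b N := by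
  classical
  induction hw using Submodule.span_induction with
  | mem x hx =>
    rcases hx with ⟨i, hi, rfl⟩ | ⟨i, hi, rfl⟩
    · replace hi : i ≤ N := hi
      rw [hpq, aeval_eq_sum_range, Finset.sum_mul]
      refine Submodule.sum_mem _ fun j hj => ?_
      rw [Finset.mem_range] at hj
      rw [smul_mul_assoc, mul_comm]
      exact Submodule.smul_mem _ _ (mul_pow_mem hab N (by omega) (by omega))
    · replace hi : i ≤ N := hi
      rw [aeval_eq_sum_range, Finset.sum_mul]
      refine Submodule.sum_mem _ fun j hj => ?_
      rw [Finset.mem_range] at hj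
      rw [smul_mul_assoc]
      exact Submodule.smul_mem _ _ (mul_pow_mem hab N (by omega) (by omega))
  | zero => rw [mul_zero]; exact zero_mem _
  | add x y _ _ hx hy => rw [mul_add]; exact add_mem hx hy
  | smul r x _ hx => rw [mul_smul_comm]; exact Submodule.smul_mem _ _ hx

include hab in
theorem isIntegral_of_mem (z : T) (ha : z ∈ Algebra.adjoin R {a}) (hb : z ∈ Algebra.adjoin R {b}) :
    IsIntegral R z := by
  classical
  obtain ⟨p, rfl⟩ := mem_adjoin_singleton.1 ha
  obtain ⟨q, hq⟩ := mem_adjoin_singleton.1 hb
  let N := max p.natDegree q.natDegree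
  have hfin : Module.Finite R (M R a b N) := Module.Finite.iff_fg.2 (Submodule.fg_span
    (((Set.finite_Iic N).image _).union ((Set.finite_Iic N).image _)))
  let f : Module.End R (M R a b N) :=
    { toFun := fun w => ⟨aeval a p * w, smul_mem hab N p q (le_max_left _ _) (le_max_right _ _)
        hq.symm w w.2⟩
      map_add' := fun u v => Subtype.ext (mul_add _ _ _)
      map_smul' := fun r u => Subtype.ext (mul_smul_comm _ _ _) }
  obtain ⟨P, hP, hP0⟩ := LinearMap.exists_monic_and_aeval_eq_zero R f
  refine ⟨P, hP, ?_⟩
  have key : ∀ (Q : R[X]) (w : M R a b N),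
      ((aeval f Q w : M R a b N) : T) = aeval (aeval a p) Q * w := by
    intro Q w
    induction Q using Polynomial.induction_on' with
    | add Q₁ Q₂ h1 h2 =>
      rw [map_add, map_add, LinearMap.add_apply, Submodule.coe_add, h1, h2, add_mul]
    | monomial n c =>
      have hn : ∀ n : ℕ, (((f ^ n) w : M R a b N) : T) = (aeval a p) ^ n * w := by
        intro n
        induction n with
        | zero => simp
        | succ n ih =>
          rw [pow_succ', pow_succ']
          change aeval a p * (((f ^ n) w : M R a b N) : T) = _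
          rw [ih, mul_assoc]
      rw [aeval_monomial, aeval_monomial, ← Algebra.smul_def, ← Algebra.smul_def,
        LinearMap.smul_apply, Submodule.coe_smul, hn, smul_mul_assoc]
  have h1 : (1 : T) ∈ M R a b N := by
    have := pow_mem_left (R := R) (a := a) (b := b) N (i := 0) (Nat.zero_le _)
    rwa [pow_zero] at this
  have h2 := key P ⟨1, h1⟩
  rw [hP0, mul_one] at h2
  rw [← aeval_def, ← h2]
  rfl

include hab in
/-- every element of `a * R[b]` lies in `R[a] + R[b]` -/
theorem mul_mem_sup (v : T) (hv : v ∈ Algebra.adjoin R {b}) :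
    a * v ∈ (Algebra.adjoin R {a}).toSubmodule ⊔ (Algebra.adjoin R {b}).toSubmodule := by
  obtain ⟨p, rfl⟩ := mem_adjoin_singleton.1 hv
  have h1 : a * aeval b p = a * algebraMap R T (p.coeff 0) + aeval b p.divX := by
    conv_lhs => rw [← divX_mul_X_add p]
    rw [map_add, map_mul, aeval_X, aeval_C]
    linear_combination (aeval b p.divX) * hab
  rw [h1]
  refine add_mem (Submodule.mem_sup_left ?_) (Submodule.mem_sup_right ?_)
  · exact (Algebra.adjoin R {a}).mul_mem (Algebra.self_mem_adjoin_singleton R a)
      (algebraMap_mem _ _)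
  · exact mem_adjoin_singleton.2 ⟨_, rfl⟩

include hab in
theorem sup_eq : (Algebra.adjoin R {a}).toSubmodule ⊔ (Algebra.adjoin R {b}).toSubmodule =
    (Algebra.adjoin R {a, b}).toSubmodule := by
  refine le_antisymm (sup_le ?_ ?_) ?_
  · exact Algebra.adjoin_mono (by simp)
  · exact Algebra.adjoin_mono (by simp)
  · set P := (Algebra.adjoin R {a}).toSubmodule ⊔ (Algebra.adjoin R {b}).toSubmodule with hP
    let St : Subalgebra R T :=
      { carrier := {z | ∀ w ∈ P, z * w ∈ P}
        mul_mem' := fun {u v} hu hv w hw => by rw [mul_assoc]; exact hu _ (hv _ hw)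
        add_mem' := fun {u v} hu hv w hw => by rw [add_mul]; exact add_mem (hu _ hw) (hv _ hw)
        algebraMap_mem' := fun r w hw => by
          rw [← Algebra.smul_def]; exact P.smul_mem r hw }
    have hle : Algebra.adjoin R {a, b} ≤ St := by
      rw [Algebra.adjoin_le_iff]
      rintro c (rfl | rfl) w hw
      · obtain ⟨u, hu, v, hv, rfl⟩ := Submodule.mem_sup.1 hw
        rw [mul_add]
        exact add_mem (Submodule.mem_sup_left
          ((Algebra.adjoin R {c}).mul_mem (Algebra.self_mem_adjoin_singleton R c) hu))
          (mul_mem_sup hab v hv)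
      · obtain ⟨u, hu, v, hv, rfl⟩ := Submodule.mem_sup.1 hw
        rw [mul_add]
        refine add_mem ?_ (Submodule.mem_sup_right
          ((Algebra.adjoin R {c}).mul_mem (Algebra.self_mem_adjoin_singleton R c) hv))
        rw [hP, sup_comm]
        exact mul_mem_sup (by rw [mul_comm]; exact hab) u hu
    intro z hz
    have h1 := hle hz 1 (Submodule.mem_sup_left (Algebra.adjoin R {a}).one_mem)
    rwa [mul_one] at h1

end

theorem mem_bot_of_isIntegral {R : Type*} [CommRing R] (x : R)
    (hcl : IsIntegrallyClosedIn R (Localization.Away x)) {T : Type*} [CommRing T] [Algebra R T]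
    (hinj : Function.Injective (algebraMap R T)) (hu : IsUnit (algebraMap R T x)) (c : T) (y : R)
    (hc : c * algebraMap R T x = algebraMap R T y) (z : T) (hz : z ∈ Algebra.adjoin R {c})
    (hint : IsIntegral R z) : z ∈ (⊥ : Subalgebra R T) := by
  let φ : Localization.Away x →ₐ[R] T :=
    IsLocalization.liftAlgHom (M := Submonoid.powers x) (f := Algebra.ofId R T) (by
      rintro ⟨_, n, rfl⟩
      change IsUnit (algebraMap R T (x ^ n))
      rw [map_pow]
      exact hu.pow n)
  have hφ : Function.Injective φ := by
    rw [injective_iff_map_eq_zero]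
    intro w hw
    obtain ⟨⟨r, s⟩, hrs⟩ := IsLocalization.surj (Submonoid.powers x) w
    have h1 : φ (algebraMap R _ r) = 0 := by
      rw [← hrs, map_mul, hw, zero_mul]
    rw [AlgHom.commutes, map_eq_zero_iff _ hinj] at h1
    have h2 : w * algebraMap R _ (s : R) = 0 := by
      rw [hrs]
      change algebraMap R _ r = 0
      rw [h1, map_zero]
    exact (IsUnit.mul_left_eq_zero (IsLocalization.map_units _ s)).1 h2
  have hc' : φ (algebraMap R _ y * IsLocalization.Away.invSelf x) = c := by
    have h1 : algebraMap R (Localization.Away x) x * IsLocalization.Away.invSelf x = 1 :=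
      IsLocalization.Away.mul_invSelf x
    have h2 : algebraMap R T x * φ (IsLocalization.Away.invSelf x) = 1 := by
      have := congrArg φ h1
      rwa [map_mul, AlgHom.commutes, map_one] at this
    rw [map_mul, AlgHom.commutes, ← hc, mul_assoc, h2, mul_one]
  obtain ⟨p, rfl⟩ := mem_adjoin_singleton.1 hz
  rw [← hc', aeval_algHom_apply] at hint ⊢
  have h3 : IsIntegral R (aeval (algebraMap R (Localization.Away x) y *
      IsLocalization.Away.invSelf x) p) := (isIntegral_algHom_iff φ hφ).1 hint
  obtain ⟨r, hr⟩ := IsIntegrallyClosedIn.isIntegral_iff.1 h3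
  rw [← hr, AlgHom.commutes]
  exact algebraMap_mem _ _

/-- Let R be a ring and x, y ∈ R nonzerodivisors. In the localization R_{xy} let a = x/y and b = y/x,
and let R[a], R[b], R[a, b] be the R-subalgebras they generate. If R is integrally closed in R_x or
in R_y, then the sequence 0 → R → R[a] ⊕ R[b] → R[a, b] → 0 (difference map, then sum map) is short
exact; equivalently R[a] ∩ R[b] is the image of R and R[a] + R[b] = R[a, b] inside R_{xy}. -/
theorem result {R : Type u} [CommRing R] (x y : R) (hx : x ∈ nonZeroDivisors R) (hy : y ∈ nonZeroDivisors R)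
    (hint : IsIntegrallyClosedIn R (Localization.Away x) ∨ IsIntegrallyClosedIn R (Localization.Away y)) :
    (Algebra.adjoin R {algebraMap R (Localization.Away (x * y)) (x * x) * IsLocalization.Away.invSelf (x * y)}).toSubmodule ⊓
        (Algebra.adjoin R {algebraMap R (Localization.Away (x * y)) (y * y) * IsLocalization.Away.invSelf (x * y)}).toSubmodule =
        (⊥ : Subalgebra R (Localization.Away (x * y))).toSubmodule ∧
      (Algebra.adjoin R {algebraMap R (Localization.Away (x * y)) (x * x) * IsLocalization.Away.invSelf (x * y)}).toSubmodule ⊔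
        (Algebra.adjoin R {algebraMap R (Localization.Away (x * y)) (y * y) * IsLocalization.Away.invSelf (x * y)}).toSubmodule =
        (Algebra.adjoin R {algebraMap R (Localization.Away (x * y)) (x * x) * IsLocalization.Away.invSelf (x * y), algebraMap R (Localization.Away (x * y)) (y * y) * IsLocalization.Away.invSelf (x * y)}).toSubmodule := by
  have hxy : x * y ∈ nonZeroDivisors R := mul_mem hx hy
  have hinj : Function.Injective (algebraMap R (Localization.Away (x * y))) :=
    IsLocalization.injective _ (Submonoid.powers_le.2 hxy)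
  have hinv : algebraMap R (Localization.Away (x * y)) (x * y) *
      IsLocalization.Away.invSelf (x * y) = 1 := IsLocalization.Away.mul_invSelf (x * y)
  set t : Localization.Away (x * y) := IsLocalization.Away.invSelf (x * y) with ht
  set a := algebraMap R (Localization.Away (x * y)) (x * x) * t with ha
  set b := algebraMap R (Localization.Away (x * y)) (y * y) * t with hb
  rw [map_mul] at hinv
  have hab : a * b = 1 := by
    rw [ha, hb, map_mul, map_mul]
    linear_combination (algebraMap R (Localization.Away (x * y)) x *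
      algebraMap R (Localization.Away (x * y)) y * t + 1) * hinv
  refine ⟨le_antisymm ?_ ?_, sup_eq hab⟩
  · rintro z ⟨hza, hzb⟩
    have h := isIntegral_of_mem hab z hza hzb
    have hux : IsUnit (algebraMap R (Localization.Away (x * y)) x) :=
      IsUnit.of_mul_eq_one (algebraMap R (Localization.Away (x * y)) y * t)
        (by rw [← mul_assoc]; exact hinv)
    have huy : IsUnit (algebraMap R (Localization.Away (x * y)) y) :=
      IsUnit.of_mul_eq_one (algebraMap R (Localization.Away (x * y)) x * t)
        (by linear_combination hinv)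
    rcases hint with h1 | h1
    · refine mem_bot_of_isIntegral x h1 hinj hux b y ?_ z hzb h
      rw [hb, map_mul]
      linear_combination (algebraMap R (Localization.Away (x * y)) y) * hinv
    · refine mem_bot_of_isIntegral y h1 hinj huy a x ?_ z hza h
      rw [ha, map_mul]
      linear_combination (algebraMap R (Localization.Away (x * y)) x) * hinv
  · exact le_inf (bot_le : (⊥ : Subalgebra R _) ≤ _) (bot_le : (⊥ : Subalgebra R _) ≤ _)

end Groth.Agent.S9654
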