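import Groth.Statements.S9655
import Mathlib.RingTheory.Valuation.LocalSubring

set_option autoImplicit false
universe u
open CAlg

namespace Groth.Agent.S9655

theorem exists_unit_mul_mem {R S : Type*} [CommRing R] [CommRing S] [Algebra R S] (σ : Set S)
    (A : Subalgebra R S) (hσ : ∀ s ∈ σ, ∃ u ∈ A, IsUnit u ∧ u * s ∈ A) (a : S)
    (ha : a ∈ Algebra.adjoin R σ) : ∃ u ∈ A, IsUnit u ∧ u * a ∈ A := by
  induction ha using Algebra.adjoin_induction with
  | mem x hx => exact hσ x hx
  | algebraMap r => exact ⟨1, one_mem _, isUnit_one, by rw [one_mul]; exact A.algebraMap_mem r⟩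
  | add x y _ _ hx hy =>
    obtain ⟨u, hu, hu1, hux⟩ := hx
    obtain ⟨v, hv, hv1, hvy⟩ := hy
    refine ⟨u * v, mul_mem hu hv, hu1.mul hv1, ?_⟩
    have : u * v * (x + y) = v * (u * x) + u * (v * y) := by ring
    rw [this]
    exact add_mem (mul_mem hv hux) (mul_mem hu hvy)
  | mul x y _ _ hx hy =>
    obtain ⟨u, hu, hu1, hux⟩ := hx
    obtain ⟨v, hv, hv1, hvy⟩ := hy
    refine ⟨u * v, mul_mem hu hv, hu1.mul hv1, ?_⟩
    have : u * v * (x * y) = (u * x) * (v * y) := by ring
    rw [this]
    exact mul_mem hux hvy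

/-- Let R and S be local rings and R → S a ring map, not necessarily local, that is essentially of
finite type. Then for some n there is a maximal ideal m of the polynomial ring R[x_1, …, x_n] lying
over the maximal ideal of R, together with an R-algebra map φ : R[x_1, …, x_n]_m → S making S a
localization of the image of φ; thus S arises from R[x_1, …, x_n]_m by passing to a quotient and
then localizing. -/
theorem result {R S : Type u} [CommRing R] [CommRing S] [Algebra R S] [IsLocalRing R] [IsLocalRing S] [Algebra.EssFiniteType R S] :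
    ∃ (n : ℕ) (m : Ideal (MvPolynomial (Fin n) R)) (_ : m.IsMaximal), m.under R = IsLocalRing.maximalIdeal R ∧
      ∃ (φ : Localization.AtPrime m →ₐ[R] S) (T : Submonoid φ.range), IsLocalization T S := by
  classical
  obtain ⟨σ, hσ⟩ := (Algebra.essFiniteType_iff (R := R) (S := S)).1 ‹_›
  let L := IsLocalRing.ResidueField S
  let f : R →+* L := (IsLocalRing.residue S).comp (algebraMap R S)
  obtain ⟨V, hV, hloc⟩ := IsLocalRing.exists_factor_valuationRing f
  -- the new generators
  have hy : ∀ s : S, ∃ y : S, IsLocalRing.residue S y ∈ V ∧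
      (y = s ∨ y * s = 1) := by
    intro s
    by_cases hs : IsLocalRing.residue S s ∈ V
    · exact ⟨s, hs, Or.inl rfl⟩
    · have h0 : IsLocalRing.residue S s ≠ 0 := fun h => hs (h ▸ V.zero_mem)
      have hu : IsUnit s := by
        by_contra hcon
        exact h0 ((IsLocalRing.residue_eq_zero_iff s).2 hcon)
      obtain ⟨y, hys⟩ := hu.exists_left_inv
      refine ⟨y, ?_, Or.inr hys⟩
      have h1 := V.mem_or_inv_mem (IsLocalRing.residue S s)
      have h2 : (IsLocalRing.residue S s)⁻¹ = IsLocalRing.residue S y :=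
        inv_eq_of_mul_eq_one_left (by rw [← map_mul, hys, map_one])
      rw [← h2]
      exact h1.resolve_left hs
  choose y hyV hys using hy
  let e : Fin σ.card ≃ σ := σ.equivFin.symm
  let Y : Fin σ.card → S := fun i => y (e i)
  let Φ : MvPolynomial (Fin σ.card) R →ₐ[R] S := MvPolynomial.aeval Y
  have hΦV : ∀ g, IsLocalRing.residue S (Φ g) ∈ V := by
    intro g
    induction g using MvPolynomial.induction_on with
    | C a =>
      rw [← MvPolynomial.algebraMap_eq, AlgHom.commutes]
      exact hV a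
    | add p q hp hq => rw [map_add, map_add]; exact add_mem hp hq
    | mul_X p i hp =>
      rw [map_mul, map_mul, MvPolynomial.aeval_X]
      exact mul_mem hp (hyV _)
  let ψ : MvPolynomial (Fin σ.card) R →+* V :=
    ((IsLocalRing.residue S).comp Φ.toRingHom).codRestrict V.toSubring hΦV
  let m' : Ideal (MvPolynomial (Fin σ.card) R) := (IsLocalRing.maximalIdeal V).comap ψ
  have hm'p : m'.IsPrime := Ideal.comap_isPrime _ _
  obtain ⟨m, hm, hm'm⟩ := Ideal.exists_le_maximal m' hm'p.ne_top
  have hunder : m.under R = IsLocalRing.maximalIdeal R := by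
    have h1 : IsLocalRing.maximalIdeal R ≤ m.under R := by
      intro r hr
      rw [Ideal.mem_comap]
      apply hm'm
      rw [Ideal.mem_comap, IsLocalRing.mem_maximalIdeal, mem_nonunits_iff]
      intro hu
      have h2 : ψ (algebraMap R _ r) = f.codRestrict V.toSubring hV r := by
        apply Subtype.ext
        change IsLocalRing.residue S (Φ (algebraMap R _ r)) = _
        rw [AlgHom.commutes]
        rfl
      rw [h2] at hu
      exact (IsLocalRing.mem_maximalIdeal r).1 hr (hloc.map_nonunit r hu)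
    have hp : (m.under R).IsPrime := Ideal.comap_isPrime _ _
    exact (((IsLocalRing.maximalIdeal.isMaximal R).eq_of_le hp.ne_top) h1).symm
  have hunit : ∀ g : m.primeCompl, IsUnit (Φ g) := by
    rintro ⟨g, hg⟩
    by_contra hcon
    apply hg
    apply hm'm
    rw [Ideal.mem_comap]
    have h3 : ψ g = 0 := Subtype.ext ((IsLocalRing.residue_eq_zero_iff (Φ g)).2 hcon)
    rw [h3]
    exact zero_mem _
  let φ : Localization.AtPrime m →ₐ[R] S :=
    IsLocalization.liftAlgHom (M := m.primeCompl) (f := Φ) hunit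
  have hφ : ∀ g, φ (algebraMap (MvPolynomial (Fin σ.card) R) (Localization.AtPrime m) g) = Φ g :=
    fun g => by
    simp [φ]
  have hYmem : ∀ s ∈ σ, y s ∈ φ.range := by
    intro s hs
    refine ⟨algebraMap (MvPolynomial (Fin σ.card) R) (Localization.AtPrime m)
      (MvPolynomial.X (σ.equivFin ⟨s, hs⟩)), ?_⟩
    change φ _ = _
    rw [hφ, MvPolynomial.aeval_X]
    simp [Y, e]
  have hgen : ∀ s ∈ (σ : Set S), ∃ u ∈ φ.range, IsUnit u ∧ u * s ∈ φ.range := by
    intro s hs
    rcases hys s with h | h
    · exact ⟨1, one_mem _, isUnit_one, by rw [one_mul]; have := hYmem s hs; rwa [h] at this⟩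
    · exact ⟨y s, hYmem s hs, IsUnit.of_mul_eq_one s h, by rw [h]; exact one_mem φ.range⟩
  refine ⟨σ.card, m, hm, hunder, φ, (IsUnit.submonoid S).comap (algebraMap φ.range S), ?_⟩
  refine ⟨⟨fun t => t.2, fun s => ?_, fun {a b} hab => ?_⟩⟩
  · obtain ⟨t, ht, htu, hst⟩ := hσ s
    obtain ⟨u, hu, huu, hut⟩ := exists_unit_mul_mem _ φ.range hgen t ht
    obtain ⟨v, hv, hvu, hvst⟩ := exists_unit_mul_mem _ φ.range hgen (s * t) hst
    refine ⟨(⟨u * (v * (s * t)), mul_mem hu hvst⟩, ⟨⟨v * (u * t), mul_mem hv hut⟩, ?_⟩), ?_⟩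
    · exact hvu.mul (huu.mul htu)
    · change s * (v * (u * t)) = u * (v * (s * t))
      ring
  · exact ⟨1, by rw [Subtype.ext (show (a : S) = b from hab)]⟩

end Groth.Agent.S9655
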