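import Groth.Statements.S9656
-- import your own Groth.Agent.* helpers here
import Mathlib.RingTheory.IntegralClosure.IsIntegralClosure.Basic

set_option autoImplicit false
universe u
open CAlg

namespace Groth.Agent.S9656

/-- Let R_i → S_i be ring maps indexed by a finite type ι, with product map R = Π R_i → S = Π S_i. Then
an element (s_i) of S is integral over R exactly when s_i is integral over R_i for every i; so
integral closure in a finite product is computed factor by factor. -/
theorem result {ι : Type u} [Fintype ι] {R S : ι → Type u} [∀ i, CommRing (R i)] [∀ i, CommRing (S i)] (f : ∀ i, R i →+* S i) (s : ∀ i, S i) :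
    (RingHom.pi fun i => (f i).comp (Pi.evalRingHom R i)).IsIntegralElem s ↔ ∀ i, (f i).IsIntegralElem (s i) := by
  classical
  constructor
  · rintro ⟨p, hp, h⟩ i
    refine ⟨p.map (Pi.evalRingHom R i), hp.map _, ?_⟩
    rw [Polynomial.eval₂_map]
    have h1 := congrArg (Pi.evalRingHom S i) h
    rw [Polynomial.hom_eval₂, map_zero] at h1
    exact h1
  · intro h
    -- each single is integral
    have key : ∀ i, (RingHom.pi fun i => (f i).comp (Pi.evalRingHom R i)).IsIntegralElem
        (Pi.single i (s i)) := by
      intro i
      obtain ⟨p, hp, hps⟩ := h i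
      rcases subsingleton_or_nontrivial (∀ i, R i) with hR | hR
      · have hS : Subsingleton (∀ i, S i) := by
          refine subsingleton_of_zero_eq_one ?_
          rw [← map_zero (RingHom.pi fun i => (f i).comp (Pi.evalRingHom R i)),
            ← map_one (RingHom.pi fun i => (f i).comp (Pi.evalRingHom R i)),
            Subsingleton.elim (0 : ∀ i, R i) 1]
        exact ⟨1, Polynomial.monic_one, Subsingleton.elim _ _⟩
      -- lift the polynomial
      let q : Polynomial (∀ i, R i) := Polynomial.X ^ (p.natDegree) +
        ∑ n ∈ Finset.range p.natDegree, Polynomial.C (Pi.single i (p.coeff n)) * Polynomial.X ^ n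
      have hq : q.Monic := by
        apply Polynomial.monic_X_pow_add
        refine lt_of_le_of_lt (Polynomial.degree_sum_le _ _) ?_
        rw [Finset.sup_lt_iff (WithBot.bot_lt_coe _)]
        intro n hn
        refine lt_of_le_of_lt (Polynomial.degree_C_mul_X_pow_le n _) ?_
        exact_mod_cast Finset.mem_range.mp hn
      refine ⟨q * Polynomial.X, hq.mul Polynomial.monic_X, ?_⟩
      rw [Polynomial.eval₂_mul, Polynomial.eval₂_X]
      funext j
      rw [Pi.mul_apply]
      by_cases hj : j = i
      · subst hj
        have h1 : Polynomial.map (Pi.evalRingHom R j) q = p := by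
          conv_rhs => rw [hp.as_sum]
          simp only [q, Polynomial.map_add, Polynomial.map_pow, Polynomial.map_X,
            Polynomial.map_sum, Polynomial.map_mul, Polynomial.map_C, Pi.evalRingHom_apply,
            Pi.single_eq_same]
        have h2 : (Pi.evalRingHom S j) (Polynomial.eval₂ (RingHom.pi fun i => (f i).comp (Pi.evalRingHom R i))
            (Pi.single j (s j)) q) = 0 := by
          rw [Polynomial.hom_eval₂]
          have h3 : (Pi.evalRingHom S j).comp (RingHom.pi fun i => (f i).comp (Pi.evalRingHom R i)) =
            (f j).comp (Pi.evalRingHom R j) := by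
              ext x; rfl
          rw [h3, ← Polynomial.eval₂_map, h1, Pi.evalRingHom_apply, Pi.single_eq_same, hps]
        rw [Pi.evalRingHom_apply] at h2
        rw [h2, zero_mul]; rfl
      · rw [Pi.single_eq_of_ne hj, mul_zero]; rfl
    have h1 : s = ∑ i, Pi.single i (s i) := by
      rw [Finset.univ_sum_single]
    rw [h1]
    let _ := (RingHom.pi fun i => (f i).comp (Pi.evalRingHom R i)).toAlgebra
    exact IsIntegral.sum (R := ∀ i, R i) (A := ∀ i, S i) _ fun i _ => key i

end Groth.Agent.S9656
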