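import Groth.Statements.S9657
-- import your own Groth.Agent.* helpers here
import Mathlib.RingTheory.Flat.Basic
import Mathlib.RingTheory.Spectrum.Prime.Topology
import Mathlib.LinearAlgebra.FreeModule.Basic
import Mathlib.RingTheory.TensorProduct.Free
import Mathlib.RingTheory.Localization.Module

set_option autoImplicit false
universe u
open CAlg

namespace Groth.Agent.S9657

open TensorProduct Polynomial

/-- Two rings whose spectra are irreducible simultaneously. -/
theorem isPrime_nilradical_iff {A B : Type*} [CommRing A] [CommRing B] (φ : A →+* B)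
    (hφ : Function.Injective φ)
    (h : ∀ b : B, ∃ u : B, IsUnit u ∧ ∃ a : A, u * b = φ a) :
    (nilradical A).IsPrime ↔ (nilradical B).IsPrime := by
  constructor
  · intro hA
    have hnt : Nontrivial B := by
      have : Nontrivial A := by
        rcases subsingleton_or_nontrivial A with hs | hn
        · exact (hA.ne_top (Subsingleton.elim _ _)).elim
        · exact hn
      exact hφ.nontrivial
    refine ⟨?_, ?_⟩
    · rw [Ideal.ne_top_iff_one, mem_nilradical]
      exact not_isNilpotent_one
    · intro x y hxy
      obtain ⟨u, hu, a, ha⟩ := h x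
      obtain ⟨v, hv, b, hb⟩ := h y
      have h1 : a * b ∈ nilradical A := by
        rw [mem_nilradical, ← IsNilpotent.map_iff hφ, map_mul, ← ha, ← hb,
          show u * x * (v * y) = (u * v) * (x * y) by ring, ← mem_nilradical]
        exact Ideal.mul_mem_left _ _ hxy
      have hux : ∀ {u x : B} {a : A}, IsUnit u → u * x = φ a → a ∈ nilradical A → x ∈ nilradical B := by
        intro u x a hu ha hn
        obtain ⟨w, hw⟩ := hu.exists_left_inv
        have h2 : x = w * φ a := by rw [← ha, ← mul_assoc, hw, one_mul]
        rw [h2]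
        exact Ideal.mul_mem_left _ _ (mem_nilradical.mpr ((mem_nilradical.mp hn).map φ))
      rcases hA.mem_or_mem h1 with h2 | h2
      · exact Or.inl (hux hu ha h2)
      · exact Or.inr (hux hv hb h2)
  · intro hB
    have h1 : nilradical A = (nilradical B).comap φ := by
      ext x
      rw [mem_nilradical, Ideal.mem_comap, mem_nilradical, IsNilpotent.map_iff hφ]
    rw [h1]
    infer_instance

theorem isPrime_nilradical_of_injective {A B : Type*} [CommRing A] [CommRing B] (φ : A →+* B)
    (hφ : Function.Injective φ) (hB : (nilradical B).IsPrime) : (nilradical A).IsPrime := by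
  have h1 : nilradical A = (nilradical B).comap φ := by
    ext x
    rw [mem_nilradical, Ideal.mem_comap, mem_nilradical, IsNilpotent.map_iff hφ]
  rw [h1]
  infer_instance

section

variable {k K : Type u} [Field k] [Field K] [Algebra k K]
    (kt Kt : Type u) [Field kt] [Field Kt] [Algebra (Polynomial k) kt] [IsFractionRing (Polynomial k) kt] [Algebra (Polynomial K) Kt] [IsFractionRing (Polynomial K) Kt]
    [Algebra kt Kt] (hcompat : ∀ p : Polynomial k, algebraMap kt Kt (algebraMap (Polynomial k) kt p) = algebraMap (Polynomial K) Kt (Polynomial.map (algebraMap k K) p))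
    (L : Type u) [Field L] [Algebra kt L]
    [Algebra k L] (hkL : ∀ a : k, algebraMap k L a = algebraMap kt L (algebraMap (Polynomial k) kt (C a)))

include hcompat in
theorem linInd {ι : Type*} (b : ι → K) (hb : LinearIndependent k b) :
    LinearIndependent kt (fun i => algebraMap (Polynomial K) Kt (C (b i))) := by
  let _ : Algebra (Polynomial k) Kt := ((algebraMap kt Kt).comp (algebraMap (Polynomial k) kt)).toAlgebra
  have hst : IsScalarTower (Polynomial k) kt Kt := IsScalarTower.of_algebraMap_eq' rfl
  rw [← LinearIndependent.iff_fractionRing (Polynomial k) kt]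
  rw [linearIndependent_iff']
  intro s g hg i hi
  have h1 : algebraMap (Polynomial K) Kt (∑ i ∈ s, (g i).map (algebraMap k K) * C (b i)) = 0 := by
    rw [map_sum, ← hg]
    refine Finset.sum_congr rfl fun i _ => ?_
    rw [map_mul, ← hcompat, Algebra.smul_def]
    rfl
  have h2 : ∑ i ∈ s, (g i).map (algebraMap k K) * C (b i) = 0 :=
    (map_eq_zero_iff _ (IsFractionRing.injective (Polynomial K) Kt)).mp h1
  ext n
  have h3 := congrArg (fun p => Polynomial.coeff p n) h2
  simp only [finsetSum_coeff, coeff_mul_C, coeff_map, coeff_zero] at h3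
  have h4 : ∑ i ∈ s, (g i).coeff n • b i = 0 := by
    rw [← h3]
    exact Finset.sum_congr rfl fun i _ => Algebra.smul_def _ _
  rw [coeff_zero]
  exact (linearIndependent_iff'.mp hb) s (fun i => (g i).coeff n) h4 i hi

include hcompat hkL in
theorem exists_map : ∃ φ : L ⊗[k] K →ₐ[L] L ⊗[kt] Kt, Function.Injective φ ∧
    ∀ (l : L) (x : K), φ (l ⊗ₜ x) = l ⊗ₜ algebraMap (Polynomial K) Kt (C x) := by
  let _ : Algebra k kt := ((algebraMap (Polynomial k) kt).comp C).toAlgebra
  let _ : Algebra k Kt := ((algebraMap kt Kt).comp (algebraMap k kt)).toAlgebra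
  have hst1 : IsScalarTower k kt Kt := IsScalarTower.of_algebraMap_eq' rfl
  have hst2 : IsScalarTower k kt L := IsScalarTower.of_algebraMap_eq fun a => hkL a
  let j : K →ₐ[k] Kt :=
    { ((algebraMap (Polynomial K) Kt).comp C) with
      commutes' := fun a => by
        change algebraMap (Polynomial K) Kt (C (algebraMap k K a)) =
          algebraMap kt Kt (algebraMap (Polynomial k) kt (C a))
        rw [hcompat, map_C] }
  let φ : L ⊗[k] K →ₐ[L] L ⊗[kt] Kt :=
    Algebra.TensorProduct.lift (Algebra.ofId L _)
      (((Algebra.TensorProduct.includeRight (R := kt) (A := L) (B := Kt)).restrictScalars k).comp j)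
      (fun _ _ => Commute.all _ _)
  have hφ : ∀ (l : L) (x : K), φ (l ⊗ₜ x) = l ⊗ₜ algebraMap (Polynomial K) Kt (C x) := by
    intro l x
    rw [Algebra.TensorProduct.lift_tmul]
    change (l ⊗ₜ[kt] (1 : Kt)) * ((1 : L) ⊗ₜ[kt] (j x)) = _
    rw [Algebra.TensorProduct.tmul_mul_tmul, mul_one, one_mul]
    rfl
  refine ⟨φ, ?_, hφ⟩
  let b := Module.Free.chooseBasis k K
  let B := Algebra.TensorProduct.basis L b
  have hLI : LinearIndependent L (fun i => φ (B i)) := by
    have h1 := linInd kt Kt hcompat b b.linearIndependent
    have h2 := Module.Flat.linearIndependent_one_tmul (R := kt) (S := L) (M := Kt) h1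
    have h3 : (fun i => φ (B i)) = fun i => (1 : L) ⊗ₜ[kt] algebraMap (Polynomial K) Kt (C (b i)) := by
      funext i
      rw [Algebra.TensorProduct.basis_apply, hφ]
    rw [h3]
    exact h2
  have h4 : ∀ c : (Module.Free.ChooseBasisIndex k K) →₀ L,
      φ (Finsupp.linearCombination L B c) = Finsupp.linearCombination L (fun i => φ (B i)) c := by
    intro c
    rw [Finsupp.linearCombination_apply, Finsupp.linearCombination_apply, Finsupp.sum, Finsupp.sum, map_sum]
    exact Finset.sum_congr rfl fun i _ => map_smul φ _ _
  rw [injective_iff_map_eq_zero]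
  intro x hx
  have h5 : Finsupp.linearCombination L B (B.repr x) = x := B.linearCombination_repr x
  rw [← h5, h4] at hx
  have h6 : B.repr x = 0 := by
    have := hLI
    rw [LinearIndependent, injective_iff_map_eq_zero] at this
    exact this _ hx
  rw [← h5, h6, map_zero]

include hcompat in
theorem exists_unit (φ : L ⊗[k] K →ₐ[L] L ⊗[kt] Kt)
    (hφ : ∀ (l : L) (x : K), φ (l ⊗ₜ x) = l ⊗ₜ algebraMap (Polynomial K) Kt (C x)) (y : L ⊗[kt] Kt) :
    ∃ u : L ⊗[kt] Kt, IsUnit u ∧ u ∈ φ.range ∧ u * y ∈ φ.range := by
  have hX : algebraMap (Polynomial K) Kt X = algebraMap kt Kt (algebraMap (Polynomial k) kt X) := by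
    rw [hcompat, map_X]
  have hpol : ∀ (l : L) (p : Polynomial K), l ⊗ₜ algebraMap (Polynomial K) Kt p ∈ φ.range := by
    intro l p
    induction p using Polynomial.induction_on' with
    | add p q hp hq =>
      rw [map_add, TensorProduct.tmul_add]
      exact add_mem hp hq
    | monomial n a =>
      refine ⟨(((algebraMap (Polynomial k) kt X) ^ n) • l) ⊗ₜ a, ?_⟩
      change φ _ = _
      have h1 : algebraMap (Polynomial K) Kt (monomial n a) =
          ((algebraMap (Polynomial k) kt X) ^ n) • algebraMap (Polynomial K) Kt (C a) := by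
        rw [Algebra.smul_def, map_pow, ← hX, ← C_mul_X_pow_eq_monomial, map_mul, map_pow, mul_comm]
      rw [hφ, h1, TensorProduct.smul_tmul]
  induction y using TensorProduct.induction_on with
  | zero => exact ⟨1, isUnit_one, one_mem _, by rw [mul_zero]; exact zero_mem _⟩
  | tmul l y =>
    obtain ⟨p, q, hq, rfl⟩ := IsFractionRing.div_surjective (A := Polynomial K) y
    have hq0 : algebraMap (Polynomial K) Kt q ≠ 0 :=
      IsFractionRing.to_map_ne_zero_of_mem_nonZeroDivisors hq
    refine ⟨(1 : L) ⊗ₜ algebraMap (Polynomial K) Kt q, ?_, hpol 1 q, ?_⟩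
    · exact (IsUnit.mk0 _ hq0).map (Algebra.TensorProduct.includeRight (R := kt) (A := L) (B := Kt))
    · rw [Algebra.TensorProduct.tmul_mul_tmul, one_mul, mul_div_cancel₀ _ hq0]
      exact hpol l p
  | add y z hy hz =>
    obtain ⟨u, hu, hu1, hu2⟩ := hy
    obtain ⟨v, hv, hv1, hv2⟩ := hz
    refine ⟨u * v, hu.mul hv, mul_mem hu1 hv1, ?_⟩
    rw [show u * v * (y + z) = v * (u * y) + u * (v * z) by ring]
    exact add_mem (mul_mem hv1 hu2) (mul_mem hu1 hv2)

include hcompat hkL in
theorem irr_iff : IrreducibleSpace (PrimeSpectrum (L ⊗[k] K)) ↔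
    IrreducibleSpace (PrimeSpectrum (L ⊗[kt] Kt)) := by
  obtain ⟨φ, hinj, hφ⟩ := exists_map kt Kt hcompat L hkL
  rw [PrimeSpectrum.irreducibleSpace_iff_isPrime_nilradical,
    PrimeSpectrum.irreducibleSpace_iff_isPrime_nilradical]
  refine isPrime_nilradical_iff φ.toRingHom hinj fun b => ?_
  obtain ⟨u, hu, -, a, ha⟩ := exists_unit kt Kt hcompat L φ hφ b
  exact ⟨u, hu, a, ha.symm⟩

end

open TensorProduct in
/-- Let K/k be a field extension and let k(t) ⊆ K(t) be the purely transcendental extensions in one
variable, realised as fraction fields of k[t] and K[t] compatibly with k[t] → K[t]. Then K is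
geometrically irreducible over k (Spec(k' ⊗_k K) irreducible for every field extension k'/k) if and
only if K(t) is geometrically irreducible over k(t). Here the test fields range over field
extensions of k, respectively of k(t), in the universe of k; this is equivalent to the unrestricted
notions, since an algebraic closure of the base field suffices as a test. -/
theorem result {k K : Type u} [Field k] [Field K] [Algebra k K]
    (kt Kt : Type u) [Field kt] [Field Kt] [Algebra (Polynomial k) kt] [IsFractionRing (Polynomial k) kt] [Algebra (Polynomial K) Kt] [IsFractionRing (Polynomial K) Kt]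
    [Algebra kt Kt] (hcompat : ∀ p : Polynomial k, algebraMap kt Kt (algebraMap (Polynomial k) kt p) = algebraMap (Polynomial K) Kt (Polynomial.map (algebraMap k K) p)) :
    (∀ (k' : Type u) [Field k'] [Algebra k k'], IrreducibleSpace (PrimeSpectrum (k' ⊗[k] K))) ↔
      ∀ (L : Type u) [Field L] [Algebra kt L], IrreducibleSpace (PrimeSpectrum (L ⊗[kt] Kt)) := by
  constructor
  · intro h L _ _
    let _ : Algebra k L := ((algebraMap kt L).comp ((algebraMap (Polynomial k) kt).comp Polynomial.C)).toAlgebra
    rw [← irr_iff kt Kt hcompat L (fun _ => rfl)]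
    exact h L
  · intro h k' _ _
    let L := FractionRing (Polynomial k')
    have hinj : Function.Injective ((algebraMap (Polynomial k') L).comp (Polynomial.mapRingHom (algebraMap k k'))) := by
      rw [RingHom.coe_comp]
      exact (IsFractionRing.injective (Polynomial k') L).comp
        (Polynomial.map_injective _ (algebraMap k k').injective)
    let _ : Algebra kt L := (IsFractionRing.lift hinj).toAlgebra
    have hkL : ∀ a : k, algebraMap k L a = algebraMap kt L (algebraMap (Polynomial k) kt (Polynomial.C a)) := by
      intro a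
      have h1 : algebraMap kt L (algebraMap (Polynomial k) kt (Polynomial.C a)) =
          ((algebraMap (Polynomial k') L).comp (Polynomial.mapRingHom (algebraMap k k'))) (Polynomial.C a) :=
        IsFractionRing.lift_algebraMap hinj _
      rw [h1, RingHom.comp_apply, Polynomial.coe_mapRingHom, Polynomial.map_C]
      rw [IsScalarTower.algebraMap_apply k k' L, IsScalarTower.algebraMap_apply k' (Polynomial k') L]
      rfl
    have h2 := (irr_iff kt Kt hcompat L hkL).mpr (h L)
    rw [PrimeSpectrum.irreducibleSpace_iff_isPrime_nilradical] at h2 ⊢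
    let ψ : k' ⊗[k] K →ₐ[k] L ⊗[k] K :=
      Algebra.TensorProduct.map (IsScalarTower.toAlgHom k k' L) (AlgHom.id k K)
    refine isPrime_nilradical_of_injective ψ.toRingHom ?_ h2
    have h3 : Function.Injective ((IsScalarTower.toAlgHom k k' L).toLinearMap.rTensor K) :=
      Module.Flat.rTensor_preserves_injective_linearMap _ (algebraMap k' L).injective
    exact h3

end Groth.Agent.S9657
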