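import Groth.Statements.S9658
-- import your own Groth.Agent.* helpers here
import Mathlib.RingTheory.Ideal.Maps
import Mathlib.Tactic.Ring
import Mathlib.Algebra.Module.LocalizedModule.Basic
import Mathlib.LinearAlgebra.Finsupp.LinearCombination

set_option autoImplicit false
universe u
open CAlg

namespace Groth.Agent.S9658

/-- Let R be a ring, f_1, …, f_n ∈ R generating the unit ideal and M an R-module. With M_i = M_{f_i},
M_ij = M_{f_i f_j} (any localizations, with the canonical compatible maps M → M_i → M_ij), the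
sequence 0 → M → ⊕ M_i → ⊕ M_ij is exact: an element of M whose image vanishes in every M_i is zero,
and every family (m_i ∈ M_i) such that m_i and m_j have the same image in M_ij for all i, j is the
image of an element of M. -/
theorem result {R : Type u} [CommRing R] {ι : Type u} [Fintype ι] (f : ι → R) (hf : Ideal.span (Set.range f) = ⊤)
    (M : Type u) [AddCommGroup M] [Module R M]
    (Mi : ι → Type u) [∀ i, AddCommGroup (Mi i)] [∀ i, Module R (Mi i)] (g : ∀ i, M →ₗ[R] Mi i) [∀ i, IsLocalizedModule (Submonoid.powers (f i)) (g i)]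
    (Mij : ι → ι → Type u) [∀ i j, AddCommGroup (Mij i j)] [∀ i j, Module R (Mij i j)] (gij : ∀ i j, M →ₗ[R] Mij i j) [∀ i j, IsLocalizedModule (Submonoid.powers (f i * f j)) (gij i j)]
    (ρ₁ : ∀ i j, Mi i →ₗ[R] Mij i j) (hρ₁ : ∀ i j, ρ₁ i j ∘ₗ g i = gij i j) (ρ₂ : ∀ i j, Mi j →ₗ[R] Mij i j) (hρ₂ : ∀ i j, ρ₂ i j ∘ₗ g j = gij i j) :
    (∀ m : M, (∀ i, g i m = 0) → m = 0) ∧
      ∀ s : ∀ i, Mi i, (∀ i j, ρ₁ i j (s i) = ρ₂ i j (s j)) → ∃ m : M, ∀ i, g i m = s i := by
  have hpow : ∀ n : ℕ, Ideal.span (Set.range fun i => f i ^ n) = ⊤ := by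
    intro n
    have h := Ideal.span_pow_eq_top (Set.range f) hf n
    rwa [← Set.range_comp] at h
  -- an element killed by powers of all `f i` is zero
  have hzero : ∀ (m : M) (n : ℕ), (∀ i, f i ^ n • m = 0) → m = 0 := by
    intro m n h
    have h1 : Ideal.span (Set.range fun i => f i ^ n) ≤ (Submodule.span R {m}).annihilator := by
      rw [Ideal.span_le]
      rintro _ ⟨i, rfl⟩
      rw [SetLike.mem_coe, Submodule.mem_annihilator_span_singleton]
      exact h i
    rw [hpow n] at h1
    have h2 := h1 (Submodule.mem_top (x := (1 : R)))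
    rw [Submodule.mem_annihilator_span_singleton, one_smul] at h2
    exact h2
  constructor
  · intro m hm
    have h1 : ∀ i, ∃ n : ℕ, f i ^ n • m = 0 := by
      intro i
      have h2 := hm i
      rw [IsLocalizedModule.eq_zero_iff (Submonoid.powers (f i))] at h2
      obtain ⟨⟨_, n, rfl⟩, h3⟩ := h2
      exact ⟨n, h3⟩
    choose n hn using h1
    refine hzero m (Finset.univ.sup n) fun i => ?_
    obtain ⟨k, hk⟩ := Nat.exists_eq_add_of_le (Finset.le_sup (f := n) (Finset.mem_univ i))
    rw [hk, pow_add, mul_comm, mul_smul, hn, smul_zero]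
  · intro s hs
    -- write `s i` with a common denominator
    obtain ⟨N, m', hm'⟩ : ∃ (N : ℕ) (m' : ι → M), ∀ i, f i ^ N • s i = g i (m' i) := by
      have h1 : ∀ i, ∃ (n : ℕ) (m : M), f i ^ n • s i = g i m := by
        intro i
        obtain ⟨⟨m, ⟨_, n, rfl⟩⟩, h2⟩ := IsLocalizedModule.surj (Submonoid.powers (f i)) (g i) (s i)
        exact ⟨n, m, h2⟩
      choose n m hm using h1
      have hle : ∀ i, n i ≤ Finset.univ.sup n := fun i => Finset.le_sup (f := n) (Finset.mem_univ i)
      refine ⟨Finset.univ.sup n, fun i => f i ^ (Finset.univ.sup n - n i) • m i, fun i => ?_⟩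
      rw [map_smul, ← hm, smul_smul, ← pow_add, Nat.sub_add_cancel (hle i)]
    have h2 : ∀ i j, ∃ k : ℕ, (f i * f j) ^ k • (f j ^ N • m' i - f i ^ N • m' j) = 0 := by
      intro i j
      have h3 : gij i j (f j ^ N • m' i - f i ^ N • m' j) = 0 := by
        rw [map_sub, sub_eq_zero]
        conv_lhs => rw [← hρ₁]
        conv_rhs => rw [← hρ₂]
        simp only [LinearMap.comp_apply, map_smul, ← hm']
        rw [hs i j, smul_comm]
      rw [IsLocalizedModule.eq_zero_iff (Submonoid.powers (f i * f j))] at h3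
      obtain ⟨⟨_, k, rfl⟩, h4⟩ := h3
      exact ⟨k, h4⟩
    obtain ⟨K, hk'⟩ : ∃ K : ℕ, ∀ i j, (f i * f j) ^ K • (f j ^ N • m' i - f i ^ N • m' j) = 0 := by
      choose k hk using h2
      have hK : ∀ i j, k i j ≤ Finset.univ.sup fun i => Finset.univ.sup (k i) := fun i j =>
        (Finset.le_sup (f := k i) (Finset.mem_univ j)).trans
          (Finset.le_sup (f := fun i => Finset.univ.sup (k i)) (Finset.mem_univ i))
      refine ⟨Finset.univ.sup fun i => Finset.univ.sup (k i), fun i j => ?_⟩
      · obtain ⟨l, hl⟩ := Nat.exists_eq_add_of_le (hK i j)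
        rw [hl, pow_add, mul_comm, mul_smul, hk, smul_zero]
    obtain ⟨m'', hm'', hcomp⟩ : ∃ m'' : ι → M, (∀ i, f i ^ (N + K) • s i = g i (m'' i)) ∧
        ∀ i j, f j ^ (N + K) • m'' i = f i ^ (N + K) • m'' j := by
      refine ⟨fun i => f i ^ K • m' i, fun i => ?_, fun i j => ?_⟩
      · rw [map_smul, ← hm', smul_smul, ← pow_add, add_comm]
      · have h3 := hk' i j
        rw [smul_sub, sub_eq_zero] at h3
        rw [smul_smul, smul_smul]
        rw [smul_smul, smul_smul, mul_pow] at h3
        rw [show f j ^ (N + K) * f i ^ K = f i ^ K * f j ^ K * f j ^ N by ring, h3]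
        congr 1
        ring
    obtain ⟨a, ha⟩ := (Submodule.mem_span_range_iff_exists_fun R).mp
      ((hpow (N + K)).symm ▸ Submodule.mem_top (x := (1 : R)) :
        (1 : R) ∈ Ideal.span (Set.range fun i => f i ^ (N + K)))
    refine ⟨∑ j, a j • m'' j, fun i => ?_⟩
    have h4 : f i ^ (N + K) • (∑ j, a j • m'' j) = m'' i := by
      rw [Finset.smul_sum]
      have h5 : ∀ j, f i ^ (N + K) • a j • m'' j = (a j • f j ^ (N + K)) • m'' i := by
        intro j
        rw [smul_comm, ← hcomp, smul_smul, smul_eq_mul]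
      rw [Finset.sum_congr rfl fun j _ => h5 j, ← Finset.sum_smul, ha, one_smul]
    have h6 := IsLocalizedModule.smul_injective (g i) (⟨f i ^ (N + K), N + K, rfl⟩ : Submonoid.powers (f i))
    apply h6
    change f i ^ (N + K) • (g i _) = f i ^ (N + K) • s i
    rw [hm'', ← map_smul, h4]

end Groth.Agent.S9658
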