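import Groth.Statements.S9659
-- import your own Groth.Agent.* helpers here
import Mathlib.RingTheory.GradedAlgebra.Radical
import Mathlib.Tactic.Ring
import Mathlib.RingTheory.Spectrum.Prime.Topology

set_option autoImplicit false
universe u
open CAlg

namespace Groth.Agent.S9659

section

variable {R S : Type u} [CommRing R] [CommRing S] [Algebra R S] (𝒜 : ℤ → Submodule R S) [GradedAlgebra 𝒜]

/-- The inverse of a homogeneous unit is homogeneous. -/
theorem inv_mem {f g : S} {d : ℤ} (hf : f ∈ 𝒜 d) (hg : f * g = 1) : g ∈ 𝒜 (-d) := by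
  have h1 : (DirectSum.decompose 𝒜 (f * g) (d + -d) : S) = f * DirectSum.decompose 𝒜 g (-d) :=
    DirectSum.coe_decompose_mul_add_of_left_mem 𝒜 hf
  rw [hg, add_neg_cancel, DirectSum.decompose_of_mem_same 𝒜 (SetLike.GradedOne.one_mem)] at h1
  have h2 : g = DirectSum.decompose 𝒜 g (-d) := by
    calc g = g * 1 := (mul_one g).symm
      _ = g * (f * DirectSum.decompose 𝒜 g (-d)) := by rw [← h1]
      _ = (f * g) * DirectSum.decompose 𝒜 g (-d) := by ring
      _ = _ := by rw [hg, one_mul]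
  rw [h2]
  exact SetLike.coe_mem _

/-- Up to a unit, a power of a homogeneous element has degree zero. -/
theorem exists_zero (f : S) (d : ℤ) (hf : f ∈ 𝒜 d) (hu : IsUnit f) (D : ℕ) (hD : (D : ℤ) = d)
    {h : S} (hh : SetLike.IsHomogeneousElem 𝒜 h) :
    ∃ (z : SetLike.GradeZero.subring 𝒜) (u : Sˣ), (z : S) = h ^ D * u := by
  obtain ⟨n, hn⟩ := hh
  obtain ⟨f, rfl⟩ := hu
  have hinv : ((f⁻¹ : Sˣ) : S) ∈ 𝒜 (-d) := inv_mem 𝒜 hf (by simp)
  have hD' : h ^ D ∈ 𝒜 (D • n) := SetLike.pow_mem_graded D hn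
  rcases Int.eq_nat_or_neg n with ⟨N, hN | hN⟩
  · refine ⟨⟨h ^ D * ((f⁻¹ : Sˣ) : S) ^ N, ?_⟩, (f⁻¹) ^ N, by simp⟩
    have h1 := SetLike.mul_mem_graded hD' (SetLike.pow_mem_graded N hinv)
    have h2 : D • n + N • (-d) = 0 := by
      rw [hN, ← hD]; simp only [nsmul_eq_mul]; ring
    rw [h2] at h1
    exact h1
  · refine ⟨⟨h ^ D * (f : S) ^ N, ?_⟩, f ^ N, by simp⟩
    have h1 := SetLike.mul_mem_graded hD' (SetLike.pow_mem_graded N hf)
    have h2 : D • n + N • d = 0 := by
      rw [hN, ← hD]; simp only [nsmul_eq_mul]; ring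
    rw [h2] at h1
    exact h1

theorem mem_iff (D : ℕ) (hD : 0 < D) (p : Ideal S) [p.IsPrime] {h z : S} {u : Sˣ}
    (hz : z = h ^ D * u) : h ∈ p ↔ z ∈ p := by
  rw [hz, Ideal.mul_unit_mem_iff_mem p u.isUnit, Ideal.IsPrime.pow_mem_iff_mem ‹p.IsPrime› D hD]

theorem comap_map (q : Ideal (SetLike.GradeZero.subring 𝒜)) (x : SetLike.GradeZero.subring 𝒜)
    (hx : (x : S) ∈ q.map (SetLike.GradeZero.subring 𝒜).subtype) : x ∈ q := by
  have key : ∀ y ∈ q.map (SetLike.GradeZero.subring 𝒜).subtype, ∀ a : S,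
      (⟨DirectSum.decompose 𝒜 (a * y) 0, SetLike.coe_mem _⟩ : SetLike.GradeZero.subring 𝒜) ∈ q := by
    intro y hy
    refine Submodule.span_induction (p := fun y _ => ∀ a : S,
      (⟨DirectSum.decompose 𝒜 (a * y) 0, SetLike.coe_mem _⟩ : SetLike.GradeZero.subring 𝒜) ∈ q)
      ?_ ?_ ?_ ?_ hy
    · rintro _ ⟨b, hb, rfl⟩ a
      have h1 : (DirectSum.decompose 𝒜 (a * (SetLike.GradeZero.subring 𝒜).subtype b) 0 : S) =
          DirectSum.decompose 𝒜 a 0 * b :=
        DirectSum.coe_decompose_mul_of_right_mem_zero 𝒜 b.2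
      have h2 : (⟨DirectSum.decompose 𝒜 (a * (SetLike.GradeZero.subring 𝒜).subtype b) 0,
          SetLike.coe_mem _⟩ : SetLike.GradeZero.subring 𝒜) =
          ⟨DirectSum.decompose 𝒜 a 0, SetLike.coe_mem _⟩ * b := Subtype.ext h1
      rw [h2]
      exact Ideal.mul_mem_left _ _ hb
    · intro a
      have h2 : (⟨DirectSum.decompose 𝒜 (a * 0) 0, SetLike.coe_mem _⟩ :
          SetLike.GradeZero.subring 𝒜) = 0 := Subtype.ext (by simp)
      rw [h2]
      exact q.zero_mem
    · intro y y' _ _ h h' a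
      have h2 : (⟨DirectSum.decompose 𝒜 (a * (y + y')) 0, SetLike.coe_mem _⟩ :
          SetLike.GradeZero.subring 𝒜) = ⟨DirectSum.decompose 𝒜 (a * y) 0, SetLike.coe_mem _⟩ +
          ⟨DirectSum.decompose 𝒜 (a * y') 0, SetLike.coe_mem _⟩ := Subtype.ext (by
            rw [mul_add, DirectSum.decompose_add]; rfl)
      rw [h2]
      exact q.add_mem (h a) (h' a)
    · intro b y _ h a
      have h3 := h (a * b)
      rw [mul_assoc] at h3
      exact h3
  have h1 := key x hx 1
  have h2 : (⟨DirectSum.decompose 𝒜 (1 * (x : S)) 0, SetLike.coe_mem _⟩ :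
      SetLike.GradeZero.subring 𝒜) = x := Subtype.ext (by
        rw [one_mul]
        exact DirectSum.decompose_of_mem_same 𝒜 x.2)
  rwa [h2] at h1

end

/-- Let S be a ℤ-graded ring which contains an invertible homogeneous element of positive degree. Then
the set of homogeneous prime ideals of S, with the topology induced from Spec(S), maps
homeomorphically onto Spec(S₀) by p ↦ p ∩ S₀. -/
theorem result {R S : Type u} [CommRing R] [CommRing S] [Algebra R S] (𝒜 : ℤ → Submodule R S) [GradedAlgebra 𝒜]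
    (f : S) (d : ℤ) (hd : 0 < d) (hf : f ∈ 𝒜 d) (hu : IsUnit f) :
    IsHomeomorph (fun p : {p : PrimeSpectrum S // p.asIdeal.IsHomogeneous 𝒜} => PrimeSpectrum.comap (SetLike.GradeZero.subring 𝒜).subtype p.1) := by
  classical
  obtain ⟨D, hDd⟩ := Int.eq_ofNat_of_zero_le hd.le
  have hD : 0 < D := by
    rw [hDd] at hd
    exact_mod_cast hd
  have hex : ∀ {h : S}, SetLike.IsHomogeneousElem 𝒜 h →
      ∃ (z : SetLike.GradeZero.subring 𝒜) (u : Sˣ), (z : S) = h ^ D * u :=
    fun hh => exists_zero 𝒜 f d hf hu D hDd.symm hh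
  -- surjectivity
  have hsurj : Function.Surjective (fun p : {p : PrimeSpectrum S // p.asIdeal.IsHomogeneous 𝒜} =>
      PrimeSpectrum.comap (SetLike.GradeZero.subring 𝒜).subtype p.1) := by
    intro q
    let P : Ideal S := (q.asIdeal.map (SetLike.GradeZero.subring 𝒜).subtype).radical
    have hPh : P.IsHomogeneous 𝒜 := by
      refine Ideal.IsHomogeneous.radical (Ideal.homogeneous_span 𝒜 _ ?_)
      rintro _ ⟨b, -, rfl⟩
      exact ⟨0, b.2⟩
    have hmem : ∀ x : SetLike.GradeZero.subring 𝒜, (x : S) ∈ P → x ∈ q.asIdeal := by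
      rintro x ⟨n, hn⟩
      refine q.isPrime.mem_of_pow_mem n ?_
      exact comap_map 𝒜 q.asIdeal (x ^ n) hn
    have hmem' : ∀ x : SetLike.GradeZero.subring 𝒜, x ∈ q.asIdeal → (x : S) ∈ P := by
      intro x hx
      exact Ideal.le_radical (Ideal.mem_map_of_mem (SetLike.GradeZero.subring 𝒜).subtype hx)
    have hne : P ≠ ⊤ := by
      intro h
      apply q.isPrime.ne_top
      rw [Ideal.eq_top_iff_one]
      apply hmem
      rw [h]
      exact Submodule.mem_top
    have hdown : ∀ {x : S} {z : SetLike.GradeZero.subring 𝒜} {u : Sˣ}, (z : S) = x ^ D * u →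
        z ∈ q.asIdeal → x ∈ P := by
      intro x z u hz hzq
      have h1 := hmem' z hzq
      rw [hz, Ideal.mul_unit_mem_iff_mem P u.isUnit] at h1
      exact (Ideal.radical_isRadical _) ⟨D, h1⟩
    have hP : P.IsPrime := by
      refine hPh.isPrime_of_homogeneous_mem_or_mem hne ?_
      intro x y hx hy hxy
      obtain ⟨z, u, hz⟩ := hex hx
      obtain ⟨w, v, hw⟩ := hex hy
      have h1 : ((z * w : SetLike.GradeZero.subring 𝒜) : S) ∈ P := by
        change (z : S) * (w : S) ∈ P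
        rw [hz, hw, show x ^ D * (u : S) * (y ^ D * (v : S)) = (x * y) ^ D * (u * v) by ring]
        exact Ideal.mul_mem_right _ _ (Ideal.pow_mem_of_mem _ hxy D hD)
      rcases q.isPrime.mem_or_mem (hmem _ h1) with h | h
      · exact Or.inl (hdown hz h)
      · exact Or.inr (hdown hw h)
    refine ⟨⟨⟨P, hP⟩, hPh⟩, ?_⟩
    ext x
    exact ⟨hmem x, hmem' x⟩
  refine ⟨?_, ?_, ?_, hsurj⟩
  · exact (PrimeSpectrum.continuous_comap (SetLike.GradeZero.subring 𝒜).subtype).comp
      continuous_subtype_val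
  · -- open map
    intro U hU
    rw [isOpen_iff_mem_nhds]
    rintro _ ⟨x, hx, rfl⟩
    obtain ⟨V, hV, rfl⟩ := isOpen_induced_iff.mp hU
    obtain ⟨_, ⟨s, rfl⟩, hs1, hs2⟩ := PrimeSpectrum.isTopologicalBasis_basic_opens.exists_subset_of_mem_open
      (show x.1 ∈ V from hx) hV
    have h1 : ∃ n, (DirectSum.decompose 𝒜 s n : S) ∉ x.1.asIdeal := by
      by_contra hcon
      push Not at hcon
      apply hs1
      rw [← DirectSum.sum_support_decompose 𝒜 s]
      exact Ideal.sum_mem _ fun i _ => hcon i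
    obtain ⟨n, hn⟩ := h1
    obtain ⟨z, u, hz⟩ := hex (⟨n, SetLike.coe_mem _⟩ : SetLike.IsHomogeneousElem 𝒜 (DirectSum.decompose 𝒜 s n : S))
    refine Filter.mem_of_superset ((PrimeSpectrum.basicOpen z).isOpen.mem_nhds ?_) ?_
    · change z ∉ _
      intro h
      exact hn ((mem_iff D hD x.1.asIdeal hz).mpr h)
    · intro y hy
      obtain ⟨x', rfl⟩ := hsurj y
      refine ⟨x', hs2 ?_, rfl⟩
      change s ∉ x'.1.asIdeal
      intro h
      apply hy
      exact (mem_iff D hD x'.1.asIdeal hz).mp (x'.2 n h)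
  · -- injectivity
    intro x y hxy
    have key : ∀ (h : S), SetLike.IsHomogeneousElem 𝒜 h → (h ∈ x.1.asIdeal ↔ h ∈ y.1.asIdeal) := by
      intro h hh
      obtain ⟨z, u, hz⟩ := hex hh
      rw [mem_iff D hD x.1.asIdeal hz, mem_iff D hD y.1.asIdeal hz]
      have h1 : z ∈ (PrimeSpectrum.comap (SetLike.GradeZero.subring 𝒜).subtype x.1).asIdeal ↔
          z ∈ (PrimeSpectrum.comap (SetLike.GradeZero.subring 𝒜).subtype y.1).asIdeal := by
        rw [show PrimeSpectrum.comap (SetLike.GradeZero.subring 𝒜).subtype x.1 =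
          PrimeSpectrum.comap (SetLike.GradeZero.subring 𝒜).subtype y.1 from hxy]
      exact h1
    apply Subtype.ext
    apply PrimeSpectrum.ext
    ext s
    rw [x.2.mem_iff, y.2.mem_iff]
    exact forall_congr' fun i => key _ ⟨i, SetLike.coe_mem _⟩

end Groth.Agent.S9659
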