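import Groth.Statements.S9661
-- import your own Groth.Agent.* helpers here
import Groth.Agent.CAlg.K78.HilbDeg
import Groth.Agent.CAlgX.K581.HomDim

set_option autoImplicit false
universe u
attribute [local instance] MvPolynomial.gradedAlgebra
open CAlg

namespace Groth.Agent.S9661

/-- Let k be a field, d ≥ 1, and I a nonzero homogeneous ideal of the standard-graded polynomial ring
k[X_1, …, X_d]; put M = k[X_1, …, X_d]/I. Then the function n ↦ dim_k M_n (equal to dim_k of the
degree-n part of the polynomial ring minus dim_k of the degree-n part of I) coincides for all large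
n with a polynomial of degree < d - 1, the zero polynomial if d = 1. -/
theorem result {k : Type u} [Field k] (d : ℕ) (hd : 0 < d)
    (I : HomogeneousIdeal (MvPolynomial.homogeneousSubmodule (Fin d) k)) (hI : I ≠ ⊥) :
    ∃ P : Polynomial ℚ, P.degree < ((d - 1 : ℕ) : WithBot ℕ) ∧ ∃ N : ℕ, ∀ n : ℕ, N ≤ n →
      ((Module.finrank k ↥(MvPolynomial.homogeneousSubmodule (Fin d) k n) : ℚ) -
        (Module.finrank k ↥(I.toIdeal.restrictScalars k ⊓ MvPolynomial.homogeneousSubmodule (Fin d) k n) : ℚ)) = P.eval (n : ℚ) := by
  classical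
  obtain ⟨e, rfl⟩ : ∃ e, d = e + 1 := ⟨d - 1, by omega⟩
  simp only [Nat.add_sub_cancel]
  let Sn : ℕ → Submodule k (MvPolynomial (Fin (e + 1)) k) := fun n =>
    MvPolynomial.homogeneousSubmodule (Fin (e + 1)) k n
  let J : Submodule k (MvPolynomial (Fin (e + 1)) k) := I.toIdeal.restrictScalars k
  have hfinS : ∀ n, Module.Finite k (Sn n) := fun n => K581.HomDim.finite_homogeneous k e n
  have hrankS : ∀ n, Module.finrank k (Sn n) = (n + e).choose e := fun n =>
    K581.HomDim.finrank_homogeneous k e n
  -- a nonzero homogeneous element of `I`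
  obtain ⟨m, f, hfI, hfm, hf0⟩ : ∃ (m : ℕ) (f : MvPolynomial (Fin (e + 1)) k),
      f ∈ I.toIdeal ∧ f.IsHomogeneous m ∧ f ≠ 0 := by
    obtain ⟨h, hh, hh0⟩ : ∃ h ∈ I.toIdeal, h ≠ 0 := by
      by_contra hcon
      push Not at hcon
      apply hI
      rw [HomogeneousIdeal.ext_iff]
      refine le_antisymm (fun x hx => ?_) bot_le
      rw [hcon x hx]
      exact zero_mem _
    by_contra hcon
    push Not at hcon
    apply hh0
    rw [← MvPolynomial.sum_homogeneousComponent h]
    refine Finset.sum_eq_zero fun i _ => ?_
    refine hcon i _ ?_ (MvPolynomial.homogeneousComponent_isHomogeneous i h)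
    have h1 := I.isHomogeneous i hh
    rw [← MvPolynomial.decomposition.decompose'_apply]
    exact h1
  -- the quotient system
  let In : ∀ n, Submodule k (Sn n) := fun n => J.comap (Sn n).subtype
  let y : Fin (e + 1) → ∀ n, Sn n →ₗ[k] Sn (n + 1) := fun i n =>
    LinearMap.codRestrict (Sn (n + 1))
      ((LinearMap.mulLeft k (MvPolynomial.X i)).domRestrict (Sn n))
      (fun g => by
        have h2 := (MvPolynomial.isHomogeneous_X k i).mul
          (show (g : MvPolynomial (Fin (e + 1)) k).IsHomogeneous n from g.2)
        rw [add_comm 1 n] at h2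
        exact h2)
  have hy : ∀ i n, In n ≤ (In (n + 1)).comap (y i n) := by
    intro i n g hg
    exact I.toIdeal.mul_mem_left _ hg
  let x : Fin (e + 1) → ∀ n, (Sn n ⧸ In n) →ₗ[k] (Sn (n + 1) ⧸ In (n + 1)) := fun i n =>
    (In n).mapQ (In (n + 1)) (y i n) (hy i n)
  have key := K78.NumPoly.isNumPoly_cl_aux (A := k) (B := k) Function.surjective_id (e + 1)
    (fun n => Sn n ⧸ In n) x (fun i j n g => by
      obtain ⟨g, rfl⟩ := Submodule.Quotient.mk_surjective _ g
      simp only [x, Submodule.mapQ_apply]
      congr 1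
      apply Subtype.ext
      change MvPolynomial.X i * (MvPolynomial.X j * (g : MvPolynomial (Fin (e + 1)) k)) =
        MvPolynomial.X j * (MvPolynomial.X i * (g : MvPolynomial (Fin (e + 1)) k))
      ring) (fun n => inferInstance) ⟨0, fun n _ => by
      rintro g -
      obtain ⟨g, rfl⟩ := Submodule.Quotient.mk_surjective _ g
      have hgen : (⊤ : Submodule k (Sn (n + 1))) ≤ ⨆ i, LinearMap.range (y i n) := by
        rintro ⟨g, hg⟩ -
        have hgS : g ∈ (⨆ i, LinearMap.range (y i n)).map (Sn (n + 1)).subtype := by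
          have hg' : MvPolynomial.IsHomogeneous g (n + 1) := hg
          rw [← MvPolynomial.support_sum_monomial_coeff g]
          refine Submodule.sum_mem _ fun s hs => ?_
          have hdeg : s.degree = n + 1 := by
            have := hg' (MvPolynomial.mem_support_iff.1 hs)
            rw [Finsupp.degree_eq_weight_one (R := ℕ)]
            exact this
          obtain ⟨i, hi⟩ : ∃ i, s i ≠ 0 := by
            by_contra hcon
            push Not at hcon
            have : s = 0 := Finsupp.ext hcon
            rw [this] at hdeg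
            simp at hdeg
          have hs' : s = Finsupp.single i 1 + (s - Finsupp.single i 1) := by
            rw [add_tsub_cancel_of_le]
            rw [Finsupp.single_le_iff]
            exact Nat.one_le_iff_ne_zero.2 hi
          have hdeg' : (s - Finsupp.single i 1).degree = n := by
            have h3 := congrArg Finsupp.degree hs'
            rw [map_add, hdeg, Finsupp.degree_single] at h3
            omega
          refine ⟨y i n ⟨MvPolynomial.monomial (s - Finsupp.single i 1) (MvPolynomial.coeff s g), ?_⟩,
            Submodule.mem_iSup_of_mem i ⟨_, rfl⟩, ?_⟩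
          · exact MvPolynomial.isHomogeneous_monomial _ hdeg'
          · change MvPolynomial.X i * MvPolynomial.monomial (s - Finsupp.single i 1)
              (MvPolynomial.coeff s g) = _
            rw [MvPolynomial.X, MvPolynomial.monomial_mul, ← hs', one_mul]
        obtain ⟨g', hg', h4⟩ := hgS
        have h5 : g' = ⟨g, hg⟩ := Subtype.ext h4
        rw [← h5]
        exact hg'
      have h3 : (⨆ i, LinearMap.range (y i n)) ≤
          (⨆ i, LinearMap.range (x i n)).comap (In (n + 1)).mkQ := by
        refine iSup_le fun i => ?_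
        rintro _ ⟨w, rfl⟩
        exact Submodule.mem_iSup_of_mem i ⟨(In n).mkQ w, rfl⟩
      exact h3 (hgen trivial)⟩
  obtain ⟨r, a, N, h⟩ := key.exists_fin
  obtain ⟨P, hP⟩ := K78.HilbDeg.exists_poly r (fun i => Groth.Agent.S3194.rankHom k (a i))
  have hrank : ∀ n, N ≤ n → (Module.finrank k (Sn n ⧸ In n) : ℚ) = P.eval (n : ℚ) := by
    intro n hn
    have h1 := congrArg (Groth.Agent.S3194.rankHom k) (h n hn)
    rw [hP, map_sum] at *
    simp only [map_zsmul, smul_eq_mul] at h1
    rw [← h1]
    have h2 : Module.Finite k (ModuleCat.of k (Sn n ⧸ In n)) := by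
      change Module.Finite k (Sn n ⧸ In n)
      infer_instance
    have h3 : Groth.Agent.S3194.rankHom k (K78.NumPoly.cl k (Sn n ⧸ In n)) =
        (Module.finrank k (Sn n ⧸ In n) : ℤ) := by
      change Groth.Agent.S3194.rankHom k (KZero.clSub _ _) = _
      rw [Groth.Agent.S3194.clSub_eq (ModuleCat.of k (Sn n ⧸ In n)) h2]
      change FreeAbelianGroup.lift _ (FreeAbelianGroup.of _) = _
      rw [FreeAbelianGroup.lift_apply_of]
    rw [h3]
    push_cast
    rfl
  have hIn : ∀ n, Module.finrank k (In n) = Module.finrank k ↥(J ⊓ Sn n) := by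
    intro n
    have e1 : (In n) ≃ₗ[k] ↥((In n).map (Sn n).subtype) :=
      Submodule.equivMapOfInjective _ (Sn n).subtype_injective _
    rw [e1.finrank_eq]
    have : (In n).map (Sn n).subtype = J ⊓ Sn n := by
      simp only [In]
      rw [Submodule.map_comap_subtype, inf_comm]
    rw [this]
  have hsum : ∀ n, Module.finrank k (Sn n ⧸ In n) + Module.finrank k ↥(J ⊓ Sn n) =
      Module.finrank k (Sn n) := by
    intro n
    rw [← hIn]
    exact Submodule.finrank_quotient_add_finrank (In n)
  have hval : ∀ n, N ≤ n → (Module.finrank k (Sn n) : ℚ) - (Module.finrank k ↥(J ⊓ Sn n) : ℚ) =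
      P.eval (n : ℚ) := by
    intro n hn
    rw [← hrank n hn, ← hsum n]
    push_cast
    ring
  obtain ⟨Q, hQ, hQ'⟩ := K78.HilbDeg.exists_poly_choose_sub e m
  -- the bound
  have hbound : ∀ n, m ≤ n → (Module.finrank k (Sn n ⧸ In n) : ℚ) ≤ Q.eval (n : ℚ) := by
    intro n hn
    rw [hQ' n hn]
    have h1 : (n - m + e).choose e ≤ Module.finrank k (In n) := by
      rw [← hrankS (n - m)]
      let φ : Sn (n - m) →ₗ[k] In n :=
        { toFun := fun g => ⟨⟨f * g, by
            have h2 := hfm.mul (show (g : MvPolynomial (Fin (e + 1)) k).IsHomogeneous (n - m) from g.2)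
            rw [Nat.add_sub_cancel' hn] at h2
            exact h2⟩, I.toIdeal.mul_mem_right _ hfI⟩
          map_add' := fun g g' => by
            apply Subtype.ext; apply Subtype.ext
            exact mul_add _ _ _
          map_smul' := fun c g => by
            apply Subtype.ext; apply Subtype.ext
            change f * (c • (g : MvPolynomial (Fin (e + 1)) k)) = c • (f * (g : MvPolynomial (Fin (e + 1)) k))
            rw [mul_smul_comm] }
      have hφ : Function.Injective φ := by
        intro a b hab
        have h2 : f * (a : MvPolynomial (Fin (e + 1)) k) = f * (b : MvPolynomial (Fin (e + 1)) k) :=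
          congrArg (fun z : In n => ((z : Sn n) : MvPolynomial (Fin (e + 1)) k)) hab
        exact Subtype.ext (mul_left_cancel₀ hf0 h2)
      exact LinearMap.finrank_le_finrank_of_injective hφ
    rw [hIn] at h1
    have h2 := hsum n
    rw [hrankS] at h2
    have h3 : (Module.finrank k (Sn n ⧸ In n) : ℚ) = ((n + e).choose e : ℚ) -
        (Module.finrank k ↥(J ⊓ Sn n) : ℚ) := by
      rw [← h2]; push_cast; ring
    rw [h3]
    have h4 : (((n - m + e).choose e : ℕ) : ℚ) ≤ (Module.finrank k ↥(J ⊓ Sn n) : ℚ) := by
      exact_mod_cast h1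
    linarith
  refine ⟨P, K78.HilbDeg.degree_lt_of_le hQ (N := max N m) fun n hn => ?_, N, fun n hn => hval n hn⟩
  have h1 := hrank n (le_trans (le_max_left _ _) hn)
  have h2 := hbound n (le_trans (le_max_right _ _) hn)
  have h3 : (0 : ℚ) ≤ (Module.finrank k (Sn n ⧸ In n) : ℚ) := Nat.cast_nonneg _
  rw [h1] at h2 h3
  rw [abs_of_nonneg h3, abs_of_nonneg (h3.trans h2)]
  exact h2

end Groth.Agent.S9661
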