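import Groth.Statements.S9662
-- import your own Groth.Agent.* helpers here
import Groth.Agent.CAlg.K78.NumPoly
import Groth.Agent.Ega2.H271.GradedFG
import Mathlib.RingTheory.GradedAlgebra.Noetherian

set_option autoImplicit false
universe u
open CategoryTheory
open CAlg

namespace Groth.Agent.S9662

open Groth.Agent.Ega2.H271

/-- Let S be a Noetherian ℕ-graded ring, presented as a graded algebra over a ring A mapping onto S₀,
whose irrelevant ideal S₊ is generated as an ideal by the degree-1 part S₁, and let M be a finitely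
generated graded S-module, graded in nonnegative degrees. (The published statement allows modules
graded in all integer degrees; this row takes modules graded in degrees ≥ 0, which loses nothing for
large n.) Write K'₀(A) for the Grothendieck group of finite A-modules (the free abelian group on the
finite A-modules modulo the relations given by short exact sequences) and [M_n] for the class of the
finite A-module M_n. Then n ↦ [M_n] is a numerical polynomial: there are a_0, …, a_{r-1} in K'₀(A)
with [M_n] = Σ_i C(n, i) · a_i for all large n. (When A → S₀ is bijective K'₀(A) is K'₀(S₀), the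
group of the published statement; in general the classes are taken after restricting scalars along A
→ S₀.) -/
theorem result {A S : Type u} [CommRing A] [CommRing S] [Algebra A S] [IsNoetherianRing S] (𝒜 : ℕ → Submodule A S) [GradedAlgebra 𝒜]
    (h0 : ∀ s ∈ 𝒜 0, s ∈ Set.range (algebraMap A S))
    (h1 : (HomogeneousIdeal.irrelevant 𝒜).toIdeal = Ideal.span (𝒜 1 : Set S))
    (M : Type u) [AddCommGroup M] [Module A M] [Module S M] [IsScalarTower A S M] [Module.Finite S M] (ℳ : ℕ → Submodule A M) [DirectSum.Decomposition ℳ] [SetLike.GradedSMul 𝒜 ℳ] :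
    ∃ (r : ℕ) (a : Fin r → KZero.K0sub (fun X : ModuleCat.{u} A => Module.Finite A X)) (N : ℕ), ∀ n : ℕ, N ≤ n →
      KZero.clSub (fun X : ModuleCat.{u} A => Module.Finite A X) (ModuleCat.of A ↥(ℳ n)) = ∑ i : Fin r, ((n.choose (i : ℕ) : ℕ) : ℤ) • a i := by
  classical
  -- homogeneous generators of degree one
  obtain ⟨T, hT1, hT⟩ : ∃ T : Finset S, (T : Set S) ⊆ (𝒜 1 : Set S) ∧
      (HomogeneousIdeal.irrelevant 𝒜).toIdeal = Ideal.span (T : Set S) := by
    rw [h1]
    exact (Submodule.fg_span_iff_fg_span_finset_subset (R := S) _).1 (IsNoetherian.noetherian _)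
  have hT' : (HomogeneousIdeal.irrelevant 𝒜).toIdeal = Ideal.span (id '' (T : Set S)) := by
    rw [Set.image_id]; exact hT
  -- homogeneous generators of `M`
  have htop : (⊤ : Submodule S M) = Submodule.span S (⋃ i, (ℳ i : Set M)) := by
    symm
    rw [Submodule.eq_top_iff']
    intro m
    rw [← DirectSum.sum_support_decompose ℳ m]
    exact Submodule.sum_mem _ fun i _ =>
      Submodule.subset_span (Set.mem_iUnion.2 ⟨i, SetLike.coe_mem _⟩)
  obtain ⟨T', hT'1, hT'2⟩ : ∃ T' : Finset M, (T' : Set M) ⊆ (⋃ i, (ℳ i : Set M)) ∧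
      Submodule.span S (⋃ i, (ℳ i : Set M)) = Submodule.span S (T' : Set M) :=
    (Submodule.fg_span_iff_fg_span_finset_subset (R := S) _).1 (by
      rw [← htop]; exact Module.Finite.fg_top)
  have hdeg : ∀ m ∈ T', ∃ i, m ∈ ℳ i := fun m hm => Set.mem_iUnion.1 (hT'1 hm)
  choose! e' he' using hdeg
  have hspan : ∀ k, ∀ m ∈ ℳ k, m ∈ Submodule.span S (id '' (T' : Set M)) := by
    intro k m _
    rw [Set.image_id, ← hT'2, ← htop]
    trivial
  obtain ⟨N₀, hN₀⟩ := GradedFG.exists_tail 𝒜 ℳ (ι := S) (T := T) (t := id) (e := fun _ => 1)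
    (κ := M) (T' := T') (x := id) (e' := e') (fun i hi => hT1 hi) hT' (fun i hi => he' i hi)
    (n := 0) (fun k _ => hspan k) 1
  -- the base ring
  let B := SetLike.GradeZero.subring 𝒜
  have hBn : IsNoetherianRing B := GradedRing.GradeZero.isNoetherianRing 𝒜
  let φ : A →+* B := (algebraMap A S).codRestrict B (fun a => SetLike.algebraMap_mem_graded 𝒜 a)
  letI : Algebra A B := φ.toAlgebra
  have hφ : Function.Surjective (algebraMap A B) := by
    rintro ⟨s, hs⟩
    obtain ⟨a, rfl⟩ := h0 s hs
    exact ⟨a, rfl⟩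
  haveI hst : IsScalarTower A B M := ⟨fun a b m => by
    change (algebraMap A S a * (b : S)) • m = a • (b : S) • m
    rw [mul_smul, algebraMap_smul]⟩
  have hfg : ∀ k, (GradedFG.gr 𝒜 ℳ k).FG := fun k =>
    GradedFG.gr_fg_of_le_span 𝒜 ℳ T' id e' (fun i hi => he' i hi) (hspan k) (fun i hi _ =>
      GradedFG.gr_ring_fg 𝒜 (T := T) (t := id) (e := fun _ => 1) (fun i hi => hT1 hi)
        (fun _ _ => Nat.one_pos) hT' _)
  have hfin : ∀ k, Module.Finite B (GradedFG.gr 𝒜 ℳ k) := fun k =>
    Module.Finite.iff_fg.2 (hfg k)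
  -- the operators
  obtain ⟨r, ⟨e⟩⟩ := Finite.exists_equiv_fin T
  let x : Fin r → ∀ n, GradedFG.gr 𝒜 ℳ n →ₗ[B] GradedFG.gr 𝒜 ℳ (n + 1) := fun j n =>
    { toFun := fun m => ⟨((e.symm j : T) : S) • (m : M), by
        have := GradedFG.smul_mem 𝒜 ℳ (hT1 (e.symm j).2) m.2
        rw [add_comm] at this
        exact this⟩
      map_add' := fun m m' => Subtype.ext (smul_add _ _ _)
      map_smul' := fun b m => Subtype.ext (by
        change ((e.symm j : T) : S) • (b : S) • (m : M) = (b : S) • ((e.symm j : T) : S) • (m : M)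
        rw [smul_comm]) }
  have key := K78.NumPoly.isNumPoly_cl_aux hφ r (fun n => GradedFG.gr 𝒜 ℳ n) x
    (fun i j n m => Subtype.ext (smul_comm _ _ _)) hfin ⟨N₀, fun n hn => by
      rintro ⟨m, hm⟩ -
      obtain ⟨c, hc, hc'⟩ := hN₀ (n + 1) (by omega) m hm
      have h2 : (⟨m, hm⟩ : GradedFG.gr 𝒜 ℳ (n + 1)) = ∑ i : T, x (e i) n ⟨c i, by
          have h3 := (hc i i.2).2
          rw [GradedFG.mem_gr]
          simpa using h3⟩ := by
        apply Subtype.ext
        rw [AddSubmonoidClass.coe_finsetSum]
        change m = ∑ i : T, ((e.symm (e i) : T) : S) • c i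
        simp only [Equiv.symm_apply_apply]
        rw [hc', ← Finset.sum_coe_sort T]
        simp
      rw [h2]
      exact Submodule.sum_mem _ fun i _ => Submodule.mem_iSup_of_mem (e i) ⟨_, rfl⟩⟩
  obtain ⟨r', a, N, h⟩ := key.exists_fin
  refine ⟨r', a, N, fun n hn => ?_⟩
  rw [← h n hn]
  have hfinA : Module.Finite A (GradedFG.gr 𝒜 ℳ n) := by
    have := hfin n
    have : Module.Finite A B := Module.Finite.of_surjective (Algebra.linearMap A B) hφ
    exact Module.Finite.trans B _
  let E : GradedFG.gr 𝒜 ℳ n ≃ₗ[A] ℳ n :=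
    { toFun := fun m => ⟨m.1, m.2⟩
      invFun := fun m => ⟨m.1, m.2⟩
      map_add' := fun _ _ => rfl
      map_smul' := fun a m => Subtype.ext (by
        change a • (m : M) = a • (m : M)
        rfl)
      left_inv := fun _ => rfl
      right_inv := fun _ => rfl }
  have hfinA' : Module.Finite A (ℳ n) := Module.Finite.equiv E
  exact Groth.Agent.S3194.clSub_equiv E

end Groth.Agent.S9662
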