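import Groth.Statements.S9663
-- import your own Groth.Agent.* helpers here
import Mathlib.Tactic.Ring
import Mathlib.Algebra.Module.LocalizedModule.Basic

set_option autoImplicit false
universe u
open CAlg

namespace Groth.Agent.S9663

/-- Let R be a ring and f_i, i in a finite index set, elements of R (no condition on the ideal they
generate). Suppose given for each i an R-module M_i on which f_i acts invertibly, for each pair (i,
j) an R-linear isomorphism ψ_ij : (M_i)_{f_j} → (M_j)_{f_i}, and suppose the cocycle condition ψ_jk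
∘ ψ_ij = ψ_ik holds as maps (M_i)_{f_j f_k} → (M_k)_{f_i f_j} for all triples (i, j, k). All
localizations are given through their universal properties: (M_i)_{f_j} with its map g from M_i;
(M_i)_{f_j f_k} with its map t from M_i and the compatible maps u from (M_i)_{f_j} and v from
(M_i)_{f_k}; and the three localized isomorphisms Ψ₁ (ψ_ij on (M_i)_{f_j f_k}), Ψ₂ (ψ_jk on
(M_j)_{f_i f_k}) and Ψ₃ (ψ_ik on (M_i)_{f_j f_k}) are given as maps compatible with the ψ's. Let M ⊆
Π_i M_i be the submodule of families (m_i) with m_i/1 = ψ_ji(m_j/1) in (M_i)_{f_j} for all i, j.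
Then for each i the projection M → M_i exhibits M_i as the localization of M at f_i. -/
theorem result {R : Type u} [CommRing R] {ι : Type u} [Finite ι] (f : ι → R)
    (Mi : ι → Type u) [∀ i, AddCommGroup (Mi i)] [∀ i, Module R (Mi i)]
    (hMi : ∀ i, IsUnit (algebraMap R (Module.End R (Mi i)) (f i)))
    (Mij : ι → ι → Type u) [∀ i j, AddCommGroup (Mij i j)] [∀ i j, Module R (Mij i j)]
    (g : ∀ i j, Mi i →ₗ[R] Mij i j) [∀ i j, IsLocalizedModule (Submonoid.powers (f j)) (g i j)]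
    (ψ : ∀ i j, Mij i j ≃ₗ[R] Mij j i)
    (T : ι → ι → ι → Type u) [∀ i j k, AddCommGroup (T i j k)] [∀ i j k, Module R (T i j k)]
    (t : ∀ i j k, Mi i →ₗ[R] T i j k) [∀ i j k, IsLocalizedModule (Submonoid.powers (f j * f k)) (t i j k)]
    (u : ∀ i j k, Mij i j →ₗ[R] T i j k) (hu : ∀ i j k, u i j k ∘ₗ g i j = t i j k)
    (v : ∀ i j k, Mij i k →ₗ[R] T i j k) (hv : ∀ i j k, v i j k ∘ₗ g i k = t i j k)
    (Ψ₁ : ∀ i j k, T i j k →ₗ[R] T j i k) (hΨ₁ : ∀ i j k, Ψ₁ i j k ∘ₗ u i j k = u j i k ∘ₗ (ψ i j).toLinearMap)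
    (Ψ₂ : ∀ i j k, T j i k →ₗ[R] T k i j) (hΨ₂ : ∀ i j k, Ψ₂ i j k ∘ₗ v j i k = v k i j ∘ₗ (ψ j k).toLinearMap)
    (Ψ₃ : ∀ i j k, T i j k →ₗ[R] T k i j) (hΨ₃ : ∀ i j k, Ψ₃ i j k ∘ₗ v i j k = u k i j ∘ₗ (ψ i k).toLinearMap)
    (hcoc : ∀ i j k, Ψ₂ i j k ∘ₗ Ψ₁ i j k = Ψ₃ i j k)
    (M : Submodule R (∀ i, Mi i)) (hM : ∀ m : ∀ i, Mi i, m ∈ M ↔ ∀ i j, g i j (m i) = ψ j i (g j i (m j))) (i : ι) :
    IsLocalizedModule (Submonoid.powers (f i)) ((LinearMap.proj i).comp M.subtype : ↥M →ₗ[R] Mi i) := by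
  classical
  have := Fintype.ofFinite ι
  -- `f` acts injectively on localizations
  have hinjM : ∀ i (n : ℕ) (x y : Mi i), f i ^ n • x = f i ^ n • y → x = y := by
    intro i n x y h
    have h1 : IsUnit (algebraMap R (Module.End R (Mi i)) (f i ^ n)) := by
      rw [map_pow]; exact (hMi i).pow n
    exact ((Module.End.isUnit_iff _).mp h1).1 h
  have hinjMij : ∀ i j (n : ℕ) (x y : Mij i j), f j ^ n • x = f j ^ n • y → x = y := by
    intro i j n x y h
    exact IsLocalizedModule.smul_injective (g i j) (⟨f j ^ n, n, rfl⟩ : Submonoid.powers (f j)) h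
  -- kernel of `v`
  have hv0 : ∀ j i k (δ : Mij j k), v j i k δ = 0 → ∃ N : ℕ, f i ^ N • δ = 0 := by
    intro j i k δ h
    obtain ⟨⟨δ', ⟨_, a, rfl⟩⟩, h1⟩ := IsLocalizedModule.surj (Submonoid.powers (f k)) (g j k) δ
    have h1' : f k ^ a • δ = g j k δ' := h1
    have h2 : t j i k δ' = 0 := by
      rw [← hv, LinearMap.comp_apply, ← h1', map_smul, h, smul_zero]
    rw [IsLocalizedModule.eq_zero_iff (Submonoid.powers (f i * f k))] at h2
    obtain ⟨⟨_, b, rfl⟩, h3⟩ := h2
    have h3' : (f i * f k) ^ b • δ' = 0 := h3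
    refine ⟨b, ?_⟩
    apply hinjMij j k (b + a)
    rw [smul_zero, smul_smul, show f k ^ (b + a) * f i ^ b = (f i * f k) ^ b * f k ^ a by ring, mul_smul,
      h1', ← map_smul, h3', map_zero]
  -- `ψ i i` is the identity
  have hψ : ∀ i (x : Mi i), ψ i i (g i i x) = g i i x := by
    intro i x
    have hgsurj : Function.Surjective (g i i) := by
      intro y
      obtain ⟨⟨z, ⟨_, a, rfl⟩⟩, h1⟩ := IsLocalizedModule.surj (Submonoid.powers (f i)) (g i i) y
      have h1' : f i ^ a • y = g i i z := h1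
      have h2 : IsUnit (algebraMap R (Module.End R (Mi i)) (f i ^ a)) := by
        rw [map_pow]; exact (hMi i).pow a
      obtain ⟨w, hw⟩ := ((Module.End.isUnit_iff _).mp h2).2 z
      have hw' : f i ^ a • w = z := hw
      refine ⟨w, ?_⟩
      apply hinjMij i i a
      rw [← map_smul, hw', h1']
    have huv : ∀ y : Mij i i, u i i i y = v i i i y := by
      intro y
      obtain ⟨x, rfl⟩ := hgsurj y
      have h1 := LinearMap.congr_fun (hu i i i) x
      have h2 := LinearMap.congr_fun (hv i i i) x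
      rw [LinearMap.comp_apply] at h1 h2
      rw [h1, h2]
    have hvinj : ∀ y : Mij i i, v i i i y = 0 → y = 0 := by
      intro y hy
      obtain ⟨N, hN⟩ := hv0 i i i y hy
      apply hinjMij i i N
      rw [hN, smul_zero]
    have h1 : Ψ₂ i i i (Ψ₁ i i i (u i i i (g i i x))) = Ψ₃ i i i (u i i i (g i i x)) :=
      LinearMap.congr_fun (hcoc i i i) _
    have h2 : Ψ₁ i i i (u i i i (g i i x)) = u i i i (ψ i i (g i i x)) :=
      LinearMap.congr_fun (hΨ₁ i i i) (g i i x)
    have h3 : Ψ₂ i i i (v i i i (ψ i i (g i i x))) = v i i i (ψ i i (ψ i i (g i i x))) :=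
      LinearMap.congr_fun (hΨ₂ i i i) (ψ i i (g i i x))
    have h4 : Ψ₃ i i i (v i i i (g i i x)) = u i i i (ψ i i (g i i x)) :=
      LinearMap.congr_fun (hΨ₃ i i i) (g i i x)
    rw [h2, huv, h3, huv, h4, huv] at h1
    have h5 : ψ i i (ψ i i (g i i x)) = ψ i i (g i i x) := by
      rw [← sub_eq_zero]
      apply hvinj
      rw [map_sub, h1, sub_self]
    exact (ψ i i).injective h5
  refine ⟨?_, ?_, ?_⟩
  · rintro ⟨_, n, rfl⟩
    change IsUnit (algebraMap R (Module.End R (Mi i)) (f i ^ n))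
    rw [map_pow]
    exact (hMi i).pow n
  · intro x
    -- lift `x`
    obtain ⟨n, y, hy⟩ : ∃ (n : ℕ) (y : ∀ j, Mi j), ∀ j, f i ^ n • ψ i j (g i j x) = g j i (y j) := by
      have h1 : ∀ j, ∃ (n : ℕ) (y : Mi j), f i ^ n • ψ i j (g i j x) = g j i y := by
        intro j
        obtain ⟨⟨z, ⟨_, a, rfl⟩⟩, h1⟩ := IsLocalizedModule.surj (Submonoid.powers (f i)) (g j i) (ψ i j (g i j x))
        exact ⟨a, z, h1⟩
      choose n y hy using h1
      have hle : ∀ j, n j ≤ Finset.univ.sup n := fun j => Finset.le_sup (f := n) (Finset.mem_univ j)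
      refine ⟨Finset.univ.sup n, fun j => f i ^ (Finset.univ.sup n - n j) • y j, fun j => ?_⟩
      rw [map_smul, ← hy, smul_smul, ← pow_add, Nat.sub_add_cancel (hle j)]
    have hyi : y i = f i ^ n • x := by
      have h1 := hy i
      rw [hψ, ← map_smul] at h1
      have h2 : g i i (f i ^ n • x - y i) = 0 := by rw [map_sub, h1, sub_self]
      rw [IsLocalizedModule.eq_zero_iff (Submonoid.powers (f i))] at h2
      obtain ⟨⟨_, b, rfl⟩, h3⟩ := h2
      have h3' : f i ^ b • (f i ^ n • x - y i) = 0 := h3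
      have h4 := hinjM i b _ 0 (by rw [h3', smul_zero])
      exact (sub_eq_zero.mp h4).symm
    have hδ : ∀ j k, ∃ N : ℕ, f i ^ N • (g j k (y j) - ψ k j (g k j (y k))) = 0 := by
      intro j k
      apply hv0 j i k
      have e1 : v j i k (g j k (y j)) = f i ^ n • u j i k (ψ i j (g i j x)) := by
        have h1 : v j i k (g j k (y j)) = t j i k (y j) := LinearMap.congr_fun (hv j i k) (y j)
        have h2 : u j i k (g j i (y j)) = t j i k (y j) := LinearMap.congr_fun (hu j i k) (y j)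
        rw [h1, ← h2, ← hy, map_smul]
      have e2 : v j i k (ψ k j (g k j (y k))) = f i ^ n • u j i k (ψ i j (g i j x)) := by
        have h1 : Ψ₂ i k j (v k i j (g k j (y k))) = v j i k (ψ k j (g k j (y k))) :=
          LinearMap.congr_fun (hΨ₂ i k j) _
        have h2 : v k i j (g k j (y k)) = t k i j (y k) := LinearMap.congr_fun (hv k i j) (y k)
        have h3 : u k i j (g k i (y k)) = t k i j (y k) := LinearMap.congr_fun (hu k i j) (y k)
        have h4 : Ψ₁ i k j (u i k j (g i k x)) = u k i j (ψ i k (g i k x)) :=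
          LinearMap.congr_fun (hΨ₁ i k j) (g i k x)
        have h5 : Ψ₂ i k j (Ψ₁ i k j (t i k j x)) = Ψ₃ i k j (t i k j x) :=
          LinearMap.congr_fun (hcoc i k j) _
        have h6 : Ψ₃ i k j (v i k j (g i j x)) = u j i k (ψ i j (g i j x)) :=
          LinearMap.congr_fun (hΨ₃ i k j) _
        have h7 : u i k j (g i k x) = t i k j x := LinearMap.congr_fun (hu i k j) x
        have h8 : v i k j (g i j x) = t i k j x := LinearMap.congr_fun (hv i k j) x
        rw [← h1, h2, ← h3, ← hy, map_smul, map_smul, ← h4, h7, h5, ← h8, h6]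
      rw [map_sub, e1, e2, sub_self]
    choose N hN using hδ
    let K := Finset.univ.sup fun j => Finset.univ.sup (N j)
    have hK : ∀ j k, N j k ≤ K := fun j k =>
      (Finset.le_sup (f := N j) (Finset.mem_univ k)).trans
        (Finset.le_sup (f := fun j => Finset.univ.sup (N j)) (Finset.mem_univ j))
    have hN' : ∀ j k, f i ^ K • (g j k (y j) - ψ k j (g k j (y k))) = 0 := by
      intro j k
      obtain ⟨l, hl⟩ := Nat.exists_eq_add_of_le (hK j k)
      rw [hl, pow_add, mul_comm, mul_smul, hN, smul_zero]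
    refine ⟨⟨⟨fun j => f i ^ K • y j, ?_⟩, ⟨f i ^ (K + n), K + n, rfl⟩⟩, ?_⟩
    · rw [hM]
      intro j k
      simp only [map_smul]
      rw [← sub_eq_zero, ← smul_sub, hN']
    · change f i ^ (K + n) • x = f i ^ K • y i
      rw [hyi, smul_smul, pow_add]
  · intro m m' h
    have h' : m.1 i = m'.1 i := h
    have h1 : ∀ j, ∃ n : ℕ, f i ^ n • (m.1 j - m'.1 j) = 0 := by
      intro j
      have h2 : g j i (m.1 j - m'.1 j) = 0 := by
        rw [map_sub, (hM m.1).mp m.2 j i, (hM m'.1).mp m'.2 j i, h', sub_self]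
      rw [IsLocalizedModule.eq_zero_iff (Submonoid.powers (f i))] at h2
      obtain ⟨⟨_, b, rfl⟩, h3⟩ := h2
      exact ⟨b, h3⟩
    choose n hn using h1
    refine ⟨⟨f i ^ (Finset.univ.sup n), _, rfl⟩, ?_⟩
    apply Subtype.ext
    funext j
    change f i ^ (Finset.univ.sup n) • m.1 j = f i ^ (Finset.univ.sup n) • m'.1 j
    obtain ⟨k, hk⟩ := Nat.exists_eq_add_of_le (Finset.le_sup (f := n) (Finset.mem_univ j))
    rw [← sub_eq_zero, ← smul_sub, hk, pow_add, mul_comm, mul_smul, hn, smul_zero]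

end Groth.Agent.S9663
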