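import Groth.Statements.S9666
-- import your own Groth.Agent.* helpers here
import Groth.Agent.CAlg.K78.AssFib
import Mathlib.Tactic.Ring

set_option autoImplicit false
universe u
open CAlg

namespace Groth.Agent.S9666

/-- Part (3): (A ⊆ A_fin): let R → S be a ring map with S Noetherian, N an S-module, q a prime of S and
p the prime of R below q; an associated prime of a module is a prime ideal equal to the annihilator
of some element. If q is an associated prime of the S-module N ⊗_R κ(p) (the fibre module over p, an
S-module by restriction of scalars), then q is an associated prime of the S-module N/pN. -/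
theorem result {R S : Type u} [CommRing R] [CommRing S] [Algebra R S] (N : Type u) [AddCommGroup N] [Module S N] [Module R N] [IsScalarTower R S N] [IsNoetherianRing S]
    (p : Ideal R) [p.IsPrime] (q : Ideal S) [q.IsPrime] (hq : q.comap (algebraMap R S) = p)
    (h : q ∈ FlatCA.ass S (FlatCA.fiberMod p S N)) :
    q ∈ FlatCA.ass S (N ⧸ (p.map (algebraMap R S)) • (⊤ : Submodule S N)) := by
  obtain ⟨n, hn⟩ := K78.AssFib.exists_toFiberMod_of_mem_ass p N h
  obtain ⟨t, ht⟩ := (isNoetherianRing_iff_ideal_fg S).mp inferInstance q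
  have h1 : ∀ s ∈ t, ∃ r : R, r ∉ p ∧ (algebraMap R S r * s) • n ∈ ((p.map (algebraMap R S)) • (⊤ : Submodule S N)) := by
    intro s hs
    rw [← K78.AssFib.smul_toFiberMod_eq_zero_iff, ← hn, ← ht]
    exact Ideal.subset_span hs
  choose! r hr hr' using h1
  let r₀ : R := ∏ s ∈ t, r s
  have hr₀ : r₀ ∉ p := by
    intro hmem
    obtain ⟨s, hs, hs'⟩ := (Ideal.IsPrime.prod_mem_iff).mp hmem
    exact hr s hs hs'
  rw [K78.AssFib.mem_ass_iff]
  refine ⟨inferInstance, Submodule.Quotient.mk (algebraMap R S r₀ • n), fun s => ?_⟩
  rw [← Submodule.Quotient.mk_smul, Submodule.Quotient.mk_eq_zero]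
  constructor
  · intro hs
    have h2 : q ≤ Submodule.colon ((p.map (algebraMap R S)) • (⊤ : Submodule S N)) {algebraMap R S r₀ • n} := by
      rw [← ht, Ideal.span_le]
      intro s hs
      rw [SetLike.mem_coe, Submodule.mem_colon_singleton, smul_smul]
      obtain ⟨c, hc⟩ := Finset.dvd_prod_of_mem r hs
      have h3 : s * algebraMap R S r₀ = algebraMap R S c * (algebraMap R S (r s) * s) := by
        simp only [r₀]
        rw [hc, map_mul]
        ring
      rw [h3, mul_smul]
      exact Submodule.smul_mem _ _ (hr' s hs)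
    exact Submodule.mem_colon_singleton.mp (h2 hs)
  · intro hs
    rw [hn, K78.AssFib.smul_toFiberMod_eq_zero_iff]
    refine ⟨r₀, hr₀, ?_⟩
    rwa [mul_comm, mul_smul]

end Groth.Agent.S9666
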