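import Groth.Statements.S9671
-- import your own Groth.Agent.* helpers here
import Groth.Agent.Ega2.H291.QuotGr
import Mathlib.RingTheory.MvPolynomial.Homogeneous
import Mathlib.RingTheory.FiniteType

set_option autoImplicit false
universe u
open CAlg

namespace Groth.Agent.S9671

open Groth.Agent.Ega2.H291.QuotGr MvPolynomial

section

variable {R R' : Type u} [CommRing R] [CommRing R'] [Algebra R R'] {n : ℕ} (x : Fin n → R')

/-- The polynomial ring with the homogenizing variable. -/
abbrev P (R : Type u) [CommRing R] (n : ℕ) := MvPolynomial (Option (Fin n)) R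

/-- `X_none ↦ 1`, `X_i ↦ x_i`. -/
noncomputable def ev : P R n →ₐ[R] R' := MvPolynomial.aeval (fun o => Option.elim o 1 x)

/-- `X_none ↦ T`, `X_i ↦ x_i T`. -/
noncomputable def th : P R n →ₐ[R] Polynomial R' :=
  MvPolynomial.aeval (fun o => Polynomial.C (Option.elim o 1 x) * Polynomial.X)

theorem th_of_mem {d : ℕ} {p : P R n} (hp : p ∈ homogeneousSubmodule (Option (Fin n)) R d) :
    th x p = Polynomial.C (ev x p) * Polynomial.X ^ d := by
  have h1 : p = ∑ m ∈ p.support, monomial m (coeff m p) := p.as_sum
  have h2 : ∀ m ∈ p.support, th x (monomial m (coeff m p)) =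
      Polynomial.C (ev x (monomial m (coeff m p))) * Polynomial.X ^ d := by
    intro m hm
    have hd : m.degree = d := by
      have := (mem_homogeneousSubmodule d p).mp hp (mem_support_iff.mp hm)
      rw [Finsupp.degree_eq_weight_one]
      exact this
    rw [th, ev, aeval_monomial, aeval_monomial, map_mul, mul_assoc]
    congr 1
    rw [Finsupp.prod, Finsupp.prod, map_prod]
    rw [Finset.prod_congr rfl fun i _ => mul_pow (Polynomial.C (Option.elim i 1 x)) Polynomial.X (m i),
      Finset.prod_mul_distrib, Finset.prod_pow_eq_pow_sum]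
    rw [show ∑ i ∈ m.support, m i = d from hd]
    congr 1
    exact Finset.prod_congr rfl fun i _ => (map_pow _ _ _).symm
  rw [h1, map_sum, map_sum, map_sum, Finset.sum_mul]
  exact Finset.sum_congr rfl h2

theorem ev_eq (p : P R n) : ev x p = Polynomial.eval 1 (th x p) := by
  have h : (ev x : P R n →ₐ[R] R') = ((Polynomial.aeval (1 : R')).restrictScalars R).comp (th x) := by
    apply MvPolynomial.algHom_ext
    intro i
    simp [ev, th]
  rw [h]
  simp [Polynomial.coe_aeval_eq_eval]

/-- The ideal of relations. -/
noncomputable def J : Ideal (P R n) := RingHom.ker (th x).toRingHom ⊓ RingHom.ker (constantCoeff (R := R) (σ := Option (Fin n)))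

theorem mem_J (p : P R n) : p ∈ J x ↔ th x p = 0 ∧ constantCoeff p = 0 := Iff.rfl

attribute [local instance] MvPolynomial.gradedAlgebra

theorem coeff_th (p : P R n) (d : ℕ) : (th x p).coeff d = ev x (homogeneousComponent d p) := by
  have h1 : th x p = ∑ i ∈ Finset.range (p.totalDegree + 1),
      Polynomial.C (ev x (homogeneousComponent i p)) * Polynomial.X ^ i := by
    conv_lhs => rw [← sum_homogeneousComponent p, map_sum]
    exact Finset.sum_congr rfl fun i _ => th_of_mem x (homogeneousComponent_mem i p)
  rw [h1]
  simp only [Polynomial.finsetSum_coeff, Polynomial.coeff_C_mul, Polynomial.coeff_X_pow, mul_ite,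
    mul_one, mul_zero, Finset.sum_ite_eq, Finset.mem_range]
  split_ifs with h
  · rfl
  · rw [homogeneousComponent_eq_zero _ _ (by omega), map_zero]

theorem isHomogeneous_J : (J x : Ideal (P R n)).IsHomogeneous (homogeneousSubmodule (Option (Fin n)) R) := by
  intro d p hp
  have h0 : ((DirectSum.decompose (homogeneousSubmodule (Option (Fin n)) R) p d :
      homogeneousSubmodule (Option (Fin n)) R d) : P R n) = homogeneousComponent d p :=
    decomposition.decompose'_apply p d
  rw [h0]
  rw [mem_J] at hp ⊢
  constructor
  · rw [th_of_mem x (homogeneousComponent_mem d p), ← coeff_th, hp.1, Polynomial.coeff_zero, map_zero,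
      zero_mul]
  · rw [constantCoeff_eq, coeff_homogeneousComponent]
    split_ifs
    · exact hp.2
    · rfl

/-- every element of `R'` is `ev` of a homogeneous polynomial -/
theorem exists_ev (hx : Function.Surjective (MvPolynomial.aeval (R := R) x)) (r : R') :
    ∃ (k : ℕ) (p : P R n), p ∈ homogeneousSubmodule (Option (Fin n)) R k ∧ ev x p = r := by
  obtain ⟨q, rfl⟩ := hx r
  have hX : ∀ o, (X o : P R n) ∈ homogeneousSubmodule (Option (Fin n)) R 1 := fun o =>
    (mem_homogeneousSubmodule 1 _).mpr (isHomogeneous_X R o)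
  have hN : ev x (X none : P R n) = 1 := by simp [ev]
  induction q using MvPolynomial.induction_on with
  | C a =>
    refine ⟨0, C a, (mem_homogeneousSubmodule 0 _).mpr (isHomogeneous_C _ a), ?_⟩
    simp [ev]
  | add p q hp hq =>
    obtain ⟨k, a, ha, ha'⟩ := hp
    obtain ⟨l, b, hb, hb'⟩ := hq
    refine ⟨k + l, a * X none ^ l + X none ^ k * b, ?_, ?_⟩
    · refine Submodule.add_mem _ ?_ ?_
      · have h := SetLike.mul_mem_graded ha (SetLike.pow_mem_graded l (hX none))
        rwa [smul_eq_mul, mul_one] at h
      · have h := SetLike.mul_mem_graded (SetLike.pow_mem_graded k (hX none)) hb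
        rwa [smul_eq_mul, mul_one] at h
    · rw [map_add, map_mul, map_mul, map_pow, map_pow, hN, one_pow, one_pow, mul_one, one_mul, ha', hb',
        map_add]
  | mul_X p i hp =>
    obtain ⟨k, a, ha, ha'⟩ := hp
    refine ⟨k + 1, a * X (some i), SetLike.mul_mem_graded ha (hX (some i)), ?_⟩
    rw [map_mul, ha', map_mul]
    congr 1
    simp [ev]

end

/-- Let R be a ring and R' an R-algebra of finite type. Then there are an ℕ-graded R-algebra S such that
R → S₀ is bijective and S is generated as an R-algebra by a finite set of degree-1 elements, an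
element f ∈ S₁, and a ring isomorphism e between the degree-zero part S_(f) of the localization S_f
and R' which matches r/1 with the image of r in R' for every r ∈ R (so R' is identified with S_(f)
as an R-algebra). The published statement also produces, from a finite R'-module, a finite graded
S-module whose degree-zero localization at f recovers it; that half is not part of this row. -/
theorem result (R R' : Type u) [CommRing R] [CommRing R'] [Algebra R R'] [Algebra.FiniteType R R'] :
    ∃ (S : Type u) (_ : CommRing S) (_ : Algebra R S) (𝒜 : ℕ → Submodule R S) (_ : GradedAlgebra 𝒜) (f : S) (_ : f ∈ 𝒜 1) (s : Finset S)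
      (e : HomogeneousLocalization.Away 𝒜 f ≃+* R'),
      Function.Injective (algebraMap R S) ∧ (∀ x ∈ 𝒜 0, x ∈ Set.range (algebraMap R S)) ∧
      (↑s ⊆ (𝒜 1 : Set S)) ∧ Algebra.adjoin R (s : Set S) = ⊤ ∧
      ∀ r : R, (e.symm (algebraMap R R' r)).val = algebraMap S (Localization.Away f) (algebraMap R S r) := by
  classical
  obtain ⟨n, φ, hφ⟩ := Algebra.FiniteType.iff_quotient_mvPolynomial''.mp (inferInstance : Algebra.FiniteType R R')
  let x : Fin n → R' := fun i => φ (X i)
  have hφx : MvPolynomial.aeval (R := R) x = φ := by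
    apply MvPolynomial.algHom_ext
    intro i
    simp [x]
  have hx : Function.Surjective (MvPolynomial.aeval (R := R) x) := by rw [hφx]; exact hφ
  let _ : GradedAlgebra (homogeneousSubmodule (Option (Fin n)) R) := MvPolynomial.gradedAlgebra
  let S := P R n ⧸ J (R := R) x
  let 𝒜 : ℕ → Submodule R S := gr (homogeneousSubmodule (Option (Fin n)) R) (J x)
  let _ : GradedAlgebra 𝒜 := gradedAlgebra _ (isHomogeneous_J x)
  have hX : ∀ o, (X o : P R n) ∈ homogeneousSubmodule (Option (Fin n)) R 1 := fun o =>
    (mem_homogeneousSubmodule 1 _).mpr (isHomogeneous_X R o)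
  let mk : P R n →ₐ[R] S := Ideal.Quotient.mkₐ R (J x)
  have hmk : Function.Surjective mk := Ideal.Quotient.mk_surjective
  have hmk0 : ∀ p, mk p = 0 ↔ th x p = 0 ∧ constantCoeff p = 0 := by
    intro p
    rw [← mem_J]
    exact Ideal.Quotient.eq_zero_iff_mem
  let f : S := mk (X none)
  have hf : f ∈ 𝒜 1 := mk_mem _ _ (hX none)
  -- evaluation
  have hev : ∀ p ∈ J (R := R) x, (ev x : P R n →ₐ[R] R') p = 0 := by
    intro p hp
    rw [ev_eq, ((mem_J x p).mp hp).1, Polynomial.eval_zero]
  let evb : S →ₐ[R] R' := Ideal.Quotient.liftₐ (J x) (ev x) hev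
  have hevb : ∀ p, evb (mk p) = ev x p := fun p => rfl
  have hevf : evb f = 1 := by rw [hevb]; simp [ev]
  have hunit : IsUnit (evb.toRingHom f) := by
    change IsUnit (evb f)
    rw [hevf]; exact isUnit_one
  let L : Localization.Away f →+* R' := IsLocalization.Away.lift f hunit
  have hL : ∀ s : S, L (algebraMap S (Localization.Away f) s) = evb s :=
    fun s => IsLocalization.Away.lift_eq f hunit s
  have hLmk : ∀ (s : S) (k : ℕ), L (Localization.mk s (⟨f ^ k, k, rfl⟩ : Submonoid.powers f)) = evb s := by
    intro s k
    have h1 : Localization.mk s (⟨f ^ k, k, rfl⟩ : Submonoid.powers f) * algebraMap S (Localization.Away f) (f ^ k) =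
        algebraMap S (Localization.Away f) s := by
      rw [Localization.mk_eq_mk']
      exact IsLocalization.mk'_spec (Localization.Away f) s (⟨f ^ k, k, rfl⟩ : Submonoid.powers f)
    have h2 := congrArg L h1
    rw [map_mul, hL, hL, map_pow, hevf, one_pow, mul_one] at h2
    exact h2
  let e₀ : HomogeneousLocalization.Away 𝒜 f →+* R' :=
    L.comp (algebraMap (HomogeneousLocalization.Away 𝒜 f) (Localization.Away f))
  have he₀ : ∀ z, e₀ z = L z.val := fun z => rfl
  have hinj : Function.Injective e₀ := by
    rw [injective_iff_map_eq_zero]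
    intro z hz
    obtain ⟨k, s, hs, rfl⟩ := HomogeneousLocalization.Away.mk_surjective 𝒜 hf z
    rw [he₀, HomogeneousLocalization.Away.val_mk, hLmk] at hz
    obtain ⟨a, ha, rfl⟩ := exists_of_mem _ _ hs
    have ha' : ev x a = 0 := hz
    have h1 : f * mk a = 0 := by
      rw [← map_mul, hmk0]
      constructor
      · rw [map_mul, th_of_mem x ha, ha', map_zero, zero_mul, mul_zero]
      · rw [map_mul, constantCoeff_X, zero_mul]
    apply HomogeneousLocalization.val_injective
    rw [HomogeneousLocalization.Away.val_mk, HomogeneousLocalization.val_zero, Localization.mk_eq_mk',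
      IsLocalization.mk'_eq_zero_iff]
    exact ⟨⟨f, 1, pow_one f⟩, h1⟩
  have hsurj : Function.Surjective e₀ := by
    intro r
    obtain ⟨k, a, ha, rfl⟩ := exists_ev x hx r
    refine ⟨HomogeneousLocalization.Away.mk 𝒜 hf k (mk a) ?_, ?_⟩
    · rw [smul_eq_mul, mul_one]
      exact mk_mem _ _ ha
    · rw [he₀, HomogeneousLocalization.Away.val_mk, hLmk, hevb]
  let e : HomogeneousLocalization.Away 𝒜 f ≃+* R' := RingEquiv.ofBijective e₀ ⟨hinj, hsurj⟩
  refine ⟨S, inferInstance, inferInstance, 𝒜, inferInstance, f, hf,
    Finset.univ.image (fun o : Option (Fin n) => mk (X o)), e, ?_, ?_, ?_, ?_, ?_⟩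
  · rw [injective_iff_map_eq_zero]
    intro r hr
    have h1 : mk (C r) = 0 := by
      rw [← hr]
      exact mk.commutes r
    rw [hmk0] at h1
    simpa using h1.2
  · intro y hy
    obtain ⟨a, ha, rfl⟩ := exists_of_mem _ _ hy
    have h1 : a.totalDegree = 0 := by
      by_cases ha0 : a = 0
      · rw [ha0, totalDegree_zero]
      · exact IsHomogeneous.totalDegree ((mem_homogeneousSubmodule 0 a).mp ha) ha0
    rw [totalDegree_eq_zero_iff_eq_C] at h1
    refine ⟨coeff 0 a, ?_⟩
    rw [h1]
    simp only [coeff_C, if_true]
    exact (mk.commutes _).symm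
  · intro y hy
    rw [Finset.coe_image] at hy
    obtain ⟨o, -, rfl⟩ := hy
    exact mk_mem _ _ (hX o)
  · rw [Finset.coe_image, Finset.coe_univ, Set.image_univ]
    have h1 : Set.range (fun o : Option (Fin n) => mk (X o)) = mk '' (Set.range (X : Option (Fin n) → P R n)) := by
      rw [← Set.range_comp]; rfl
    rw [h1, ← AlgHom.map_adjoin, adjoin_range_X, Algebra.map_top]
    exact (AlgHom.range_eq_top mk).mpr hmk
  · intro r
    let z : HomogeneousLocalization.Away 𝒜 f := HomogeneousLocalization.Away.mk 𝒜 hf 0 (algebraMap R S r) (by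
      rw [zero_smul]
      exact SetLike.algebraMap_mem_graded 𝒜 r)
    have hz : z.val = algebraMap S (Localization.Away f) (algebraMap R S r) := by
      rw [HomogeneousLocalization.Away.val_mk, ← Localization.mk_one_eq_algebraMap]
      congr 1
    have h1 : e z = algebraMap R R' r := by
      change L z.val = _
      rw [hz, hL]
      exact evb.commutes r
    rw [← h1, RingEquiv.symm_apply_apply, hz]

end Groth.Agent.S9671
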