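import Groth.Statements.S9681
import Groth.Agent.Mor.K384.BiratOver

set_option autoImplicit false
universe u
open CategoryTheory CategoryTheory.Limits AlgebraicGeometry
open Mor

namespace Groth.Agent.S9681

theorem isIso_residue (X : Scheme.{u}) [IsIntegral X] : IsIso (X.residue (genericPoint X)) := by
  have hf : IsField (X.presheaf.stalk (genericPoint X)) := Field.toIsField X.functionField
  rw [ConcreteCategory.isIso_iff_bijective]
  refine ⟨?_, IsLocalRing.residue_surjective⟩
  let _ := hf.toField
  exact RingHom.injective (IsLocalRing.residue (X.presheaf.stalk (genericPoint X)))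


/-- Suppose X and Y are integral S-schemes, each locally of finite type over S, with generic points x
and y. Then X and Y are S-birational (they admit S-isomorphic nonempty opens) if and only if x and y
map to the same point s of S and the residue fields of x and y are isomorphic as extensions of the
residue field of s. -/
theorem result {S X Y : Scheme.{u}}
    [IsIntegral X] [IsIntegral Y] (sX : X ⟶ S) (sY : Y ⟶ S)
    [LocallyOfFiniteType sX] [LocallyOfFiniteType sY] :
    Scheme.BirationalOver sX sY ↔
      ∃ (hs : sX.base (genericPoint ↥X) = sY.base (genericPoint ↥Y))
        (e : X.residueField (genericPoint ↥X) ≅ Y.residueField (genericPoint ↥Y)),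
        sX.residueFieldMap (genericPoint ↥X) ≫ e.hom =
          eqToHom (congrArg S.residueField hs) ≫ sY.residueFieldMap (genericPoint ↥Y) := by
  constructor
  · intro h
    obtain ⟨U, a, b, u, ha, hb, hab, hau, hbu⟩ :=
      K384.BiratOver.exists_common_of_birationalOver sX sY h
    exact K384.BiratOver.exists_residueIso sX sY a b hab u _ _ hau hbu
  · rintro ⟨hs, e, he⟩
    have hX := isIso_residue X
    have hY := isIso_residue Y
    have key : ∀ (s t : S) (h : s = t), S.residue s ≫ eqToHom (congrArg S.residueField h) =
        eqToHom (congrArg S.presheaf.stalk h) ≫ S.residue t := by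
      rintro s _ rfl
      simp
    obtain ⟨U, a, b, u, ha, hb, hab, hau, hbu⟩ :=
      K384.BiratOver.exists_common_of_germInj sX sY (genericPoint X) (genericPoint Y) hs
        (asIso (X.residue (genericPoint X)) ≪≫ e ≪≫ (asIso (Y.residue (genericPoint Y))).symm) (by
        simp only [Iso.trans_hom, asIso_hom, Iso.symm_hom, asIso_inv]
        rw [← Category.assoc, ← Category.assoc, IsIso.comp_inv_eq, ← Scheme.residue_residueFieldMap,
          Category.assoc, Category.assoc, ← Scheme.residue_residueFieldMap]
        have h1 := congrArg (fun t => S.residue _ ≫ t) he
        simp only at h1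
        rw [← Category.assoc (S.residue _) (eqToHom _), key _ _ hs, Category.assoc] at h1
        exact h1)
    exact K384.BiratOver.birationalOver_of_common sX sY a b u hab

end Groth.Agent.S9681
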