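import Groth.Statements.S9682
import Groth.Agent.QFin.K585.Basic
import Groth.Agent.Ega1.GenPts

set_option autoImplicit false
universe u
open CategoryTheory CategoryTheory.Limits AlgebraicGeometry
open Mor

namespace Groth.Agent.S9682

open Groth.Agent.Ega1.GenPts

/-- Take f : X ⟶ Y locally of finite type and η the generic point of some irreducible component of Y.
Three conditions turn out to coincide: (1) each point of X mapping to η is the generic point of some
irreducible component of X; (2) f is quasi-finite at every point over η; (3) f is quasi-finite at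
each point over η that is generic in some irreducible component of X. Stated as (1) iff (2) together
with (1) iff (3). -/
theorem result {X Y : Scheme.{u}} (f : X ⟶ Y)
    [LocallyOfFiniteType f] (η : Y) (hη : closure {η} ∈ irreducibleComponents ↥Y) :
    ((∀ x : X, f.base x = η → closure {x} ∈ irreducibleComponents ↥X) ↔
      (∀ x : X, f.base x = η → f.QuasiFiniteAt x)) ∧
    ((∀ x : X, f.base x = η → closure {x} ∈ irreducibleComponents ↥X) ↔
      (∀ x : X, f.base x = η → closure {x} ∈ irreducibleComponents ↥X → f.QuasiFiniteAt x)) := by
  have hfib : ∀ (x : X) (t : f.fiber (f x)), f (f.fiberι (f x) t) = f x := fun x t => by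
    have : f.fiberι (f x) t ∈ Set.range (f.fiberι (f x)) := ⟨t, rfl⟩
    rw [f.range_fiberι] at this
    exact this
  have hgen : ∀ x z : X, f.base x = η → z ⤳ x → f.base z = η := by
    intro x z hx hz
    have h1 : f.base z ⤳ η := by rw [← hx]; exact hz.map f.continuous
    exact closure_mem_irreducibleComponents_iff'.mp hη _ h1
  -- (1) => (2)
  have h12 : (∀ x : X, f.base x = η → closure {x} ∈ irreducibleComponents ↥X) →
      (∀ x : X, f.base x = η → f.QuasiFiniteAt x) := by
    intro H x hx
    rw [K585.QFinBasic.quasiFiniteAt_iff]
    have key : ∀ t t' : f.fiber (f x), t ⤳ t' → t = t' := by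
      intro t t' h
      apply (f.fiberι (f x)).isEmbedding.injective
      have h1 : closure {f.fiberι (f x) t'} ∈ irreducibleComponents ↥X :=
        H _ ((hfib x t').trans hx)
      exact closure_mem_irreducibleComponents_iff'.mp h1 _ (h.map (f.fiberι (f x)).continuous)
    refine ⟨?_, fun x' hx' => key _ _ hx'⟩
    refine K585.QFinBasic.isClosed_singleton_of_forall _ fun y hy => (key _ _ hy).symm
  -- quasi-finite at a generization of a point over η
  have h31 : (∀ x : X, f.base x = η → closure {x} ∈ irreducibleComponents ↥X → f.QuasiFiniteAt x) →
      (∀ x : X, f.base x = η → closure {x} ∈ irreducibleComponents ↥X) := by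
    intro H x hx
    have hirr := irreducibleComponent_mem_irreducibleComponents x
    obtain ⟨z, hz⟩ : ∃ z : X, IsGenericPoint z (irreducibleComponent x) :=
      QuasiSober.sober isIrreducible_irreducibleComponent isClosed_irreducibleComponent
    have hzx : z ⤳ x := hz.specializes mem_irreducibleComponent
    have hz' : closure {z} ∈ irreducibleComponents ↥X := by rw [hz.def]; exact hirr
    have hfz : f.base z = η := hgen x z hx hzx
    have hq := H z hfz hz'
    have hcl := ((K585.QFinBasic.quasiFiniteAt_iff f z).mp hq).1
    obtain ⟨t, ht⟩ : ∃ t : f.fiber (f z), f.fiberι (f z) t = x := by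
      have : x ∈ Set.range (f.fiberι (f z)) := by
        rw [f.range_fiberι]
        exact hx.trans hfz.symm
      exact this
    have h1 : f.asFiber z ⤳ t := by
      apply (f.fiberι (f z)).isEmbedding.isInducing.specializes_iff.mp
      rw [ht, f.fiberι_asFiber]
      exact hzx
    have h2 : t = f.asFiber z := h1.mem_closed hcl rfl
    have h3 : x = z := by rw [← ht, h2, f.fiberι_asFiber]
    rw [h3]; exact hz'
  exact ⟨⟨h12, fun H => h31 fun x hx _ => H x hx⟩, ⟨fun H x hx _ => h12 H x hx, h31⟩⟩

end Groth.Agent.S9682
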