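import Groth.Statements.S9688
import Groth.Agent.Mor.K385.NormFrac

set_option autoImplicit false
universe u
open CategoryTheory CategoryTheory.Limits AlgebraicGeometry
open Mor

namespace Groth.Agent.S9688

/-- Let X be an integral Japanese scheme (every nonempty affine open has Japanese, i.e. N-2, coordinate
ring). Then the normalization morphism X^ν ⟶ X is finite. (The quasi-compactness and
quasi-separatedness binders on Spec K(X) ⟶ X always hold; they are only needed to form the
normalization.) -/
theorem result (X : Scheme.{u}) [IsIntegral X] [QuasiCompact (X.fromSpecStalk (genericPoint ↥X))] [QuasiSeparated (X.fromSpecStalk (genericPoint ↥X))]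
    (hJ : ∀ (U : X.Opens), IsAffineOpen U → ∀ (hne : Nonempty ↥U),
      @CAlg.IsN2 ↑Γ(X, U) _ (@IsIntegral.component_integral X _ U hne)) :
    IsFinite (Curv2.normalizationι X) := by
  refine (isFinite_iff _).mpr ⟨?_, ?_⟩
  · change IsAffineHom (X.fromSpecStalk (genericPoint X)).fromNormalization
    infer_instance
  · intro V hV
    change ((X.fromSpecStalk (genericPoint X)).fromNormalization.app V).hom.Finite
    rw [Scheme.Hom.fromNormalization_app _ hV, CommRingCat.hom_comp]
    refine RingHom.Finite.comp (RingHom.Finite.of_surjective _
      (ConcreteCategory.bijective_of_isIso ((X.fromSpecStalk (genericPoint X)).normalizationObjIso hV).inv).2) ?_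
    by_cases hη : genericPoint X ∈ V
    · have hneV : Nonempty V := ⟨⟨_, hη⟩⟩
      let algK : Algebra Γ(X, V) Γ(Spec (X.presheaf.stalk (genericPoint X)),
        (X.fromSpecStalk (genericPoint X)) ⁻¹ᵁ V) := ((X.fromSpecStalk (genericPoint X)).app V).hom.toAlgebra
      have h1 := K385.NormFrac.isFractionRing X V hV hη
      exact RingHom.finite_algebraMap.mpr
        (K385.NormFrac.finite_integralClosure_of_isN2 Γ(X, V) _ (hJ V hV hneV))
    · have hV0 : V = ⊥ := by
        rw [← TopologicalSpace.Opens.not_nonempty_iff_eq_bot]
        rintro ⟨x, hx⟩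
        exact hη (((genericPoint_spec X).specializes (Set.mem_univ x)).mem_open V.2 hx)
      subst hV0
      have h1 : Subsingleton Γ(X, ⊥) := inferInstance
      exact K385.NormFrac.finite_of_subsingleton _

end Groth.Agent.S9688
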