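import Groth.Statements.S9694
import Groth.Agent.Mor.K385.GenLocusAffine
import Groth.Agent.CalgB.AmpleRel
import Groth.Agent.Ega2.AmpleAff

set_option autoImplicit false
universe u
open CategoryTheory CategoryTheory.Limits AlgebraicGeometry
open Mor

namespace Groth.Agent.S9694

/-- Let f : X ⟶ S be universally closed, L an O_X-module ample relative to f and s a global section of
L, viewed as a morphism O_X ⟶ L. Then the open subscheme X_s of X where s generates L is affine over
S: the inclusion of X_s followed by f is an affine morphism. -/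
theorem result {X S : Scheme.{u}} (f : X ⟶ S) [UniversallyClosed f]
    (L : X.Modules) (hL : RelAmple.IsRelAmple f L) (s : Coh.structureModule X ⟶ L) :
    IsAffineHom ((CohB1.genLocus L s).ι ≫ f) := by
  have hinv : PicF.IsInvertible L := CalgB.AmpleRel.isInvertible_of_isRelAmple hL
  refine ⟨fun V hV => ?_⟩
  have : IsAffine (V : Scheme.{u}) := hV
  let g : ((f ⁻¹ᵁ V : X.Opens) : Scheme.{u}) ⟶ Spec (CommRingCat.of Γ(S, V)) := (f ∣_ V) ≫ hV.isoSpec.hom
  have hg : UniversallyClosed g := inferInstance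
  have hA : CohB1.IsAmple ((Scheme.Modules.pullback (f ⁻¹ᵁ V).ι).obj L) :=
    Groth.Agent.Ega2.Weight.isAmple_of_iso ((Scheme.Modules.restrictFunctorIsoPullback (f ⁻¹ᵁ V).ι).app L) (hL.2 ⟨V, hV⟩)
  have h1 := K385.GenLocusAffine.isAffineOpen_genLocus g hA (Ega2.Weight.pullHom (f ⁻¹ᵁ V).ι s)
  rw [Ega2.Weight.genLocus_pullHom _ hinv] at h1
  have h2 := h1.image_of_isOpenImmersion (f ⁻¹ᵁ V).ι
  rw [Scheme.Hom.image_preimage_eq_opensRange_inf, Scheme.Opens.opensRange_ι] at h2
  rw [Scheme.Hom.comp_preimage, ← (CohB1.genLocus L s).ι.isAffineOpen_iff_of_isOpenImmersion,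
    Scheme.Hom.image_preimage_eq_opensRange_inf, Scheme.Opens.opensRange_ι, inf_comm]
  exact h2

end Groth.Agent.S9694
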