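import Groth.Statements.S9698
import Groth.Agent.Smoothlim.ImmersionStage

set_option autoImplicit false
universe u
open CategoryTheory CategoryTheory.Limits AlgebraicGeometry
open Mor

namespace Groth.Agent.S9698

theorem exists_local_data {X S : Scheme.{u}} (π : X ⟶ S) [LocallyOfFiniteType π] [X.IsQuasiAffine] (x : X) :
    ∃ (V : S.Opens) (f : Γ(X, ⊤)) (_ : X.basicOpen f ≤ π ⁻¹ᵁ V) (G : Finset Γ(X, ⊤)),
      x ∈ X.basicOpen f ∧ IsAffineOpen (X.basicOpen f) ∧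
      ∀ R : Subring Γ(X, X.basicOpen f),
        (∀ (e : X.basicOpen f ≤ π ⁻¹ᵁ V) s, (π.appLE V (X.basicOpen f) e).hom s ∈ R) →
        (∀ g ∈ G, (X.presheaf.map (homOfLE (X.basicOpen_le f)).op).hom g ∈ R) →
        (∃ t ∈ R, (X.presheaf.map (homOfLE (X.basicOpen_le f)).op).hom f * t = 1) → R = ⊤ := by
  obtain ⟨_, ⟨V, hV, rfl⟩, hxV, -⟩ := S.isBasis_affineOpens.exists_subset_of_mem_open
    (Set.mem_univ (π x)) isOpen_univ
  have hV : IsAffineOpen V := hV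
  obtain ⟨_, ⟨_, ⟨f, hf, rfl⟩, rfl⟩, hxf, hfV⟩ :=
    (Scheme.IsQuasiAffine.isBasis_basicOpen X).exists_subset_of_mem_open
      (show x ∈ ((π ⁻¹ᵁ V : X.Opens) : Set X) from hxV) (π ⁻¹ᵁ V).2
  have hfV : X.basicOpen f ≤ π ⁻¹ᵁ V := hfV
  have hft := π.finiteType_appLE hV hf hfV
  let alg : Algebra Γ(S, V) Γ(X, X.basicOpen f) := (π.appLE V (X.basicOpen f) hfV).hom.toAlgebra
  have hft' : Algebra.FiniteType Γ(S, V) Γ(X, X.basicOpen f) := hft
  obtain ⟨s, hs⟩ := hft'.out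
  have key : ∀ g : Γ(X, X.basicOpen f), ∃ (n : ℕ) (y : Γ(X, ⊤)),
      (X.presheaf.map (homOfLE (X.basicOpen_le f)).op).hom y =
        (X.presheaf.map (homOfLE (X.basicOpen_le f)).op).hom f ^ n * g := fun g =>
    exists_eq_pow_mul_of_isCompact_of_isQuasiSeparated X ⊤ CompactSpace.isCompact_univ
      isQuasiSeparated_univ f g
  choose n y hy using key
  classical
  refine ⟨V, f, hfV, s.image y, hxf, hf, fun R h1 h2 h3 => ?_⟩
  obtain ⟨t, htR, ht⟩ := h3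
  have h4 : ∀ g ∈ s, g ∈ R := by
    intro g hg
    have h5 : g = t ^ (n g) * (X.presheaf.map (homOfLE (X.basicOpen_le f)).op).hom (y g) := by
      rw [hy, ← mul_assoc, ← mul_pow, mul_comm t, ht, one_pow, one_mul]
    rw [h5]
    exact R.mul_mem (R.pow_mem htR _) (h2 _ (Finset.mem_image_of_mem y hg))
  rw [eq_top_iff]
  intro z _
  have hz : z ∈ Algebra.adjoin Γ(S, V) (s : Set Γ(X, X.basicOpen f)) := by
    rw [hs]
    exact Algebra.mem_top
  refine Algebra.adjoin_induction (p := fun z _ => z ∈ R) (fun g hg => h4 g hg) (fun r => h1 hfV r)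
    (fun _ _ _ _ => R.add_mem) (fun _ _ _ _ => R.mul_mem) hz

/-- Let π : X ⟶ S be locally of finite type with X quasi-affine. Then there exist n ≥ 0 and an immersion
i : X ⟶ A^n_S over S (affine n-space on the index type Fin n, lifted to the ambient universe). -/
theorem result {X S : Scheme.{u}} (π : X ⟶ S)
    [LocallyOfFiniteType π] [X.IsQuasiAffine] :
    ∃ (n : ℕ) (i : X ⟶ 𝔸(ULift.{u} (Fin n); S)), IsImmersion i ∧ i ≫ (𝔸(ULift.{u} (Fin n); S) ↘ S) = π := by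
  choose V f hfV G hxf haff hR using exists_local_data π
  obtain ⟨F, hF⟩ := CompactSpace.isCompact_univ.elim_finite_subcover (fun x : X => (X.basicOpen (f x) : Set X))
    (fun x => (X.basicOpen (f x)).2) (fun x _ => Set.mem_iUnion.mpr ⟨x, hxf x⟩)
  let ι : Type u := Σ x : F, Option (G x)
  obtain ⟨n, ⟨e⟩⟩ : ∃ n, Nonempty (ι ≃ Fin n) := ⟨_, ⟨Fintype.equivFin ι⟩⟩
  let w : ι → Γ(X, ⊤) := fun i => match i with
    | ⟨x, none⟩ => f x
    | ⟨_, some g⟩ => g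
  let v : ULift.{u} (Fin n) → Γ(X, ⊤) := fun k => w (e.symm k.down)
  let i : X ⟶ 𝔸(ULift.{u} (Fin n); S) := AffineSpace.homOfVector π v
  have hi : i ≫ (𝔸(ULift.{u} (Fin n); S) ↘ S) = π := AffineSpace.homOfVector_over π v
  have hv : ∀ k, i.appTop (AffineSpace.coord S k) = v k := fun k => AffineSpace.homOfVector_appTop_coord π v k
  refine ⟨n, i, ?_, hi⟩
  apply Smoothlim.ImmersionStage.isImmersion_of_forall_exists
  intro y
  obtain ⟨x, hxF, hyx⟩ := Set.mem_iUnion₂.mp (hF (Set.mem_univ y))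
  let k : ULift.{u} (Fin n) := ⟨e ⟨⟨x, hxF⟩, none⟩⟩
  have hvk : v k = f x := by
    simp only [v, k, Equiv.symm_apply_apply, w]
  let O : (𝔸(ULift.{u} (Fin n); S)).Opens :=
    (𝔸(ULift.{u} (Fin n); S) ↘ S) ⁻¹ᵁ (V x) ⊓ (𝔸(ULift.{u} (Fin n); S)).basicOpen (AffineSpace.coord S k)
  have hO : X.basicOpen (f x) = i ⁻¹ᵁ O := by
    have h1 : i ⁻¹ᵁ (𝔸(ULift.{u} (Fin n); S)).basicOpen (AffineSpace.coord S k) = X.basicOpen (f x) := by
      rw [Scheme.preimage_basicOpen_top, hv, hvk]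
    have h2 : i ⁻¹ᵁ (𝔸(ULift.{u} (Fin n); S) ↘ S) ⁻¹ᵁ (V x) = π ⁻¹ᵁ (V x) := by
      rw [← Scheme.Hom.comp_preimage, hi]
    change _ = i ⁻¹ᵁ (𝔸(ULift.{u} (Fin n); S) ↘ S) ⁻¹ᵁ (V x) ⊓
      i ⁻¹ᵁ (𝔸(ULift.{u} (Fin n); S)).basicOpen (AffineSpace.coord S k)
    rw [h1, h2, inf_eq_right.mpr (hfV x)]
  refine ⟨O, X.basicOpen (f x), hO, hyx, haff x, ?_⟩
  rw [← RingHom.range_eq_top]
  have hcoord : ∀ j, (i.appLE O (X.basicOpen (f x)) hO.le).hom
      (((𝔸(ULift.{u} (Fin n); S)).presheaf.map (homOfLE (le_top : O ≤ ⊤)).op).hom (AffineSpace.coord S j)) =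
      (X.presheaf.map (homOfLE (X.basicOpen_le (f x))).op).hom (v j) := by
    intro j
    rw [← hv]
    change ((𝔸(ULift.{u} (Fin n); S)).presheaf.map (homOfLE (le_top : O ≤ ⊤)).op ≫
      i.appLE O (X.basicOpen (f x)) hO.le).hom _ = (i.appTop ≫ X.presheaf.map (homOfLE (X.basicOpen_le (f x))).op).hom _
    congr 2
    rw [Scheme.Hom.map_appLE]
    rfl
  refine hR x _ ?_ ?_ ?_
  · intro e' s
    refine ⟨((𝔸(ULift.{u} (Fin n); S) ↘ S).appLE (V x) O inf_le_left).hom s, ?_⟩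
    change ((𝔸(ULift.{u} (Fin n); S) ↘ S).appLE (V x) O inf_le_left ≫ i.appLE O (X.basicOpen (f x)) hO.le).hom s = _
    rw [Scheme.Hom.appLE_comp_appLE]
    congr 2
    simp only [hi]
  · intro g hg
    let j : ULift.{u} (Fin n) := ⟨e ⟨⟨x, hxF⟩, some ⟨g, hg⟩⟩⟩
    have hvj : v j = g := by
      simp only [v, j, Equiv.symm_apply_apply, w]
    exact ⟨_, (hcoord j).trans (by rw [hvj])⟩
  · have hu : IsUnit (((𝔸(ULift.{u} (Fin n); S)).presheaf.map (homOfLE (le_top : O ≤ ⊤)).op).hom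
        (AffineSpace.coord S k)) := by
      have h1 := RingedSpace.isUnit_res_basicOpen (𝔸(ULift.{u} (Fin n); S)).toRingedSpace
        (AffineSpace.coord S k)
      have h2 := h1.map ((𝔸(ULift.{u} (Fin n); S)).presheaf.map (homOfLE (inf_le_right : O ≤
        (𝔸(ULift.{u} (Fin n); S)).basicOpen (AffineSpace.coord S k))).op).hom
      change IsUnit (((𝔸(ULift.{u} (Fin n); S)).presheaf.map _ ≫
        (𝔸(ULift.{u} (Fin n); S)).presheaf.map _).hom _) at h2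
      rw [← Functor.map_comp] at h2
      exact h2
    obtain ⟨t, ht⟩ := isUnit_iff_exists_inv.mp hu
    refine ⟨(i.appLE O (X.basicOpen (f x)) hO.le).hom t, ⟨t, rfl⟩, ?_⟩
    have h9 := hcoord k
    rw [hvk] at h9
    rw [← h9, ← map_mul, ht, map_one]

end Groth.Agent.S9698
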