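import Groth.Statements.S9702
import Groth.Agent.Mor.K385.GenFin

set_option autoImplicit false
universe u
open CategoryTheory CategoryTheory.Limits AlgebraicGeometry
open Mor

namespace Groth.Agent.S9702

/-- Let X, Y be integral and f : X ⟶ Y dominant and locally of finite type, with ξ the generic point of
X (so f ξ is the generic point of Y). Then the following are equivalent: the residue field of ξ is
finite over that of f ξ; some nonempty affine opens U ⊆ X and V ⊆ Y with f(U) ⊆ V have U ⟶ V finite;
every point of X that f sends to the generic point of Y equals ξ. Under the extra assumption that f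
is quasi-compact or separated, these are also equivalent to: f⁻¹(V) ⟶ V is finite for some nonempty
affine open V ⊆ Y. (The published statement also lists transcendence degree 0 of the function field
extension, which for this finitely generated extension is equivalent to finiteness; this row omits
it.) -/
theorem result {X Y : Scheme.{u}} [IsIntegral X] [IsIntegral Y] (f : X ⟶ Y)
    [IsDominant f] [LocallyOfFiniteType f] :
    let ξ := genericPoint ↥X
    let A := letI := (f.residueFieldMap ξ).hom.toAlgebra
      Module.Finite (Y.residueField (f.base ξ)) (X.residueField ξ)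
    let B := ∃ (U : X.Opens) (V : Y.Opens) (hUV : U ≤ f ⁻¹ᵁ V), IsAffineOpen U ∧ IsAffineOpen V ∧
      Nonempty ↥U ∧ IsFinite (f.resLE V U hUV)
    let C := ∀ x : X, f.base x = genericPoint ↥Y → x = ξ
    let D := ∃ V : Y.Opens, IsAffineOpen V ∧ Nonempty ↥V ∧ IsFinite (f ∣_ V)
    (A ↔ B) ∧ (A ↔ C) ∧ (IsSeparated f ∨ QuasiCompact f → (A ↔ D)) := by
  intro ξ A B C D
  have hf : f (genericPoint X) = genericPoint Y := K385.GenFin.map_genericPoint f
  have hAQ : A ↔ f.QuasiFiniteAt (genericPoint X) :=
    ⟨fun h => K385.GenFin.quasiFiniteAt_of_finite f h, fun h => K385.GenFin.residueFieldMap_finite f _ h⟩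
  have hCQ : C ↔ f.QuasiFiniteAt (genericPoint X) := by
    constructor
    · intro h
      exact K385.GenFin.quasiFiniteAt_of_forall f (fun x hx => h x (hx.trans hf))
    · intro h x hx
      exact K385.GenFin.eq_of_quasiFiniteAt f h x ((show f x = _ from hx).trans hf.symm)
  have hBQ : B ↔ f.QuasiFiniteAt (genericPoint X) := by
    constructor
    · rintro ⟨U, V, hUV, -, -, hne, hfin⟩
      exact K385.GenFin.quasiFiniteAt_of_resLE f U V hUV
    · intro h
      exact K385.GenFin.exists_resLE_isFinite f (hCQ.mpr h)
  refine ⟨hAQ.trans hBQ.symm, hAQ.trans hCQ.symm, fun hsq => ⟨fun hA => ?_, ?_⟩⟩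
  · rcases hsq with hs | hq
    · obtain ⟨U, V, hUV, -, hV, hne, hfin⟩ := hBQ.mpr (hAQ.mp hA)
      refine ⟨V, hV, ⟨⟨f hne.some.1, hUV hne.some.2⟩⟩, K385.GenFin.isFinite_of_isSeparated f U V hUV⟩
    · have hC := hCQ.mpr (hAQ.mp hA)
      obtain ⟨V, hVd, hVf⟩ := S2081.result f
        (by rw [irreducibleComponents_eq_singleton]; exact Set.finite_singleton _)
        (by rw [irreducibleComponents_eq_singleton]; exact Set.finite_singleton _)
        (fun x => by
          rw [K385.GenFin.closure_mem_irreducibleComponents_iff,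
            K385.GenFin.closure_mem_irreducibleComponents_iff]
          exact ⟨fun h => by rw [h]; exact hf, fun h => hC x h⟩)
      obtain ⟨y, hy⟩ := hVd.nonempty
      obtain ⟨V', hV', hyV', hle⟩ := exists_isAffineOpen_mem_and_subset (U := V) (x := y) hy
      exact ⟨V', hV', ⟨⟨y, hyV'⟩⟩, K385.GenFin.isFinite_morphismRestrict_of_le f hle hVf⟩
  · rintro ⟨V, hV, hne, hfin⟩
    rw [hAQ]
    have hη : genericPoint Y ∈ V := ((genericPoint_spec Y).mem_open_set_iff V.2).mpr
      (by obtain ⟨x⟩ := hne; exact ⟨x.1, trivial, x.2⟩)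
    have h1 : Nonempty ↥(f ⁻¹ᵁ V) := ⟨⟨genericPoint X, by
      change f (genericPoint X) ∈ V
      rw [hf]; exact hη⟩⟩
    have h2 : IsFinite (f.resLE V (f ⁻¹ᵁ V) le_rfl) := by
      rw [Scheme.Hom.resLE_eq_morphismRestrict]
      exact hfin
    exact K385.GenFin.quasiFiniteAt_of_resLE f (f ⁻¹ᵁ V) V le_rfl

end Groth.Agent.S9702
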