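import Groth.Statements.S9703
import Groth.Agent.Mor.K385.SplitSections
import Mathlib.AlgebraicGeometry.Morphisms.Finite
import Mathlib.AlgebraicGeometry.Morphisms.FinitePresentation

set_option autoImplicit false
universe u
open CategoryTheory CategoryTheory.Limits AlgebraicGeometry
open Mor

namespace Groth.Agent.S9703

theorem eq_top_of_isPushout {A B C P : CommRingCat.{u}} {f : A ⟶ B} {g : A ⟶ C} {inl : B ⟶ P}
    {inr : C ⟶ P} (h : IsPushout f g inl inr) (H : Subring P) (h1 : ∀ b, inl.hom b ∈ H)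
    (h2 : ∀ c, inr.hom c ∈ H) : H = ⊤ := by
  let e : P ⟶ CommRingCat.of H := h.desc (CommRingCat.ofHom (inl.hom.codRestrict H h1))
    (CommRingCat.ofHom (inr.hom.codRestrict H h2)) (by
      ext a
      exact congrArg (fun k => k.hom a) h.w)
  have he : e ≫ CommRingCat.ofHom H.subtype = 𝟙 P := by
    apply h.hom_ext
    · rw [← Category.assoc, h.inl_desc, Category.comp_id]
      rfl
    · rw [← Category.assoc, h.inr_desc, Category.comp_id]
      rfl
  rw [eq_top_iff]
  intro p _
  have h3 : H.subtype (e.hom p) = p := congrArg (fun k => k.hom p) he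
  rw [← h3]
  exact (e.hom p).2

theorem appTop_isoSpec_inv (X : Scheme.{u}) [IsAffine X] :
    X.isoSpec.inv.appTop = (Scheme.ΓSpecIso Γ(X, ⊤)).inv := by
  have h1 : X.toSpecΓ.appTop ≫ X.isoSpec.inv.appTop = 𝟙 _ := by
    have h2 : X.isoSpec.inv ≫ X.toSpecΓ = 𝟙 _ := X.isoSpec_inv_toSpecΓ
    rw [← Scheme.Hom.comp_appTop, h2]
    simp
  rw [Scheme.toSpecΓ_appTop] at h1
  rw [← cancel_epi (Scheme.ΓSpecIso Γ(X, ⊤)).hom, h1, Iso.hom_inv_id]

theorem exists_poly {A B : Type u} [CommRing A] [CommRing B] [Algebra A B] [Module.Finite A B] :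
    ∃ (l : List B) (P : Polynomial A), P.Monic ∧ (∀ b ∈ l, Polynomial.aeval b P = 0) ∧
      Submodule.span A {b | b ∈ l} = ⊤ := by
  classical
  obtain ⟨s, hs⟩ := (Module.Finite.fg_top : (⊤ : Submodule A B).FG)
  have hint : ∀ b : B, ∃ p : Polynomial A, p.Monic ∧ Polynomial.aeval b p = 0 := fun b =>
    Algebra.IsIntegral.isIntegral (R := A) b
  choose p hpm hp using hint
  refine ⟨s.toList, ∏ b ∈ s, p b, Polynomial.monic_prod_of_monic _ _ (fun b _ => hpm b), ?_, ?_⟩
  · intro b hb
    rw [map_prod]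
    exact Finset.prod_eq_zero (Finset.mem_toList.mp hb) (hp b)
  · have : {b | b ∈ s.toList} = (s : Set B) := by
      ext b
      simp
    rw [this, hs]

theorem isFinLocFree_spec {A B : Type u} [CommRing A] [CommRing B] [Algebra A B] [Module.Finite A B]
    [Module.Free A B] : Mor2.IsFinLocFree (Spec.map (CommRingCat.ofHom (algebraMap A B))) := by
  refine ⟨?_, ?_, ?_⟩
  · rw [IsFinite.SpecMap_iff]
    exact RingHom.finite_algebraMap.mpr inferInstance
  · rw [Flat.SpecMap_iff]
    exact RingHom.flat_algebraMap_iff.mpr inferInstance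
  · rw [LocallyOfFinitePresentation.SpecMap_iff]
    have : Module.FinitePresentation A B := Module.finitePresentation_of_projective A B
    exact RingHom.finitePresentation_algebraMap.mpr inferInstance

/-- Let f : Y ⟶ X be finite with X affine. Then there exist a surjective finite locally free b : X' ⟶ X,
a finite locally free c : Z' ⟶ X' and a closed immersion i of Y' = X' ×_X Y into Z' over X' such
that Z' is, as a set, the union of finitely many closed subschemes each mapping isomorphically onto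
X'. (The published statement also records that Y' ⟶ Y is surjective finite locally free, which
follows by base change; this row omits it.) -/
theorem result {X Y : Scheme.{u}} [IsAffine X] (f : Y ⟶ X)
    [IsFinite f] :
    ∃ (X' : Scheme.{u}) (b : X' ⟶ X) (Z' : Scheme.{u}) (c : Z' ⟶ X') (i : pullback f b ⟶ Z'),
      Mor2.IsFinLocFree b ∧ Surjective b ∧ Mor2.IsFinLocFree c ∧ IsClosedImmersion i ∧
      i ≫ c = pullback.snd f b ∧
      ∃ (m : ℕ) (Zj : Fin m → Scheme.{u}) (ιj : ∀ j, Zj j ⟶ Z'),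
        (∀ j, IsClosedImmersion (ιj j)) ∧ (∀ j, IsIso (ιj j ≫ c)) ∧
        (⋃ j, Set.range (ιj j).base) = Set.univ := by
  have hY : IsAffine Y := isAffine_of_isAffineHom f
  let algAB : Algebra Γ(X, ⊤) Γ(Y, ⊤) := f.appTop.hom.toAlgebra
  have hAB : Module.Finite Γ(X, ⊤) Γ(Y, ⊤) := f.finite_appTop
  obtain ⟨l, P, hPm, hlP, hspan⟩ := exists_poly (A := Γ(X, ⊤)) (B := Γ(Y, ⊤))
  obtain ⟨A', _, _, hfin', hfree', hff', s, hs⟩ := FlatA.FiniteFreeSplit.exists_finite_free_splits P hPm
  let α : Γ(X, ⊤) ⟶ CommRingCat.of A' := CommRingCat.ofHom (algebraMap Γ(X, ⊤) A')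
  let b : Spec (CommRingCat.of A') ⟶ X := Spec.map α ≫ X.isoSpec.inv
  have hbtop : b.appTop = α ≫ (Scheme.ΓSpecIso (CommRingCat.of A')).inv := by
    dsimp only [b]
    rw [Scheme.Hom.comp_appTop, appTop_isoSpec_inv]
    exact (Scheme.ΓSpecIso_inv_naturality α).symm
  let W := pullback f b
  have hWaff : IsAffine W := inferInstance
  have hpo : IsPushout f.appTop b.appTop (pullback.fst f b).appTop (pullback.snd f b).appTop :=
    isPushout_appTop_of_isPullback (IsPullback.of_hasPullback f b)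
  let ρ : A' →+* Γ(W, ⊤) := ((Scheme.ΓSpecIso (CommRingCat.of A')).inv ≫ (pullback.snd f b).appTop).hom
  let algA'W : Algebra A' Γ(W, ⊤) := ρ.toAlgebra
  let θ : Γ(Y, ⊤) →+* Γ(W, ⊤) := (pullback.fst f b).appTop.hom
  have hcomp : θ.comp (algebraMap Γ(X, ⊤) Γ(Y, ⊤)) = ρ.comp (algebraMap Γ(X, ⊤) A') := by
    have h1 := hpo.w
    rw [hbtop, Category.assoc] at h1
    exact congrArg CommRingCat.Hom.hom h1
  have hroot : ∀ x ∈ l.map θ, Polynomial.aeval x (P.map (algebraMap Γ(X, ⊤) A')) = 0 := by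
    intro x hx
    obtain ⟨y, hy, rfl⟩ := List.mem_map.mp hx
    rw [Polynomial.aeval_def, Polynomial.eval₂_map]
    change Polynomial.eval₂ (ρ.comp (algebraMap Γ(X, ⊤) A')) (θ y) P = 0
    rw [← hcomp, ← Polynomial.hom_eval₂]
    have h1 : Polynomial.eval₂ (algebraMap Γ(X, ⊤) Γ(Y, ⊤)) y P = 0 := hlP y hy
    rw [h1, map_zero]
  obtain ⟨D, _, _, hDfin, hDfree, φ, hφ, L, hL⟩ :=
    K385.SplitSections.exists_sections (P.map (algebraMap Γ(X, ⊤) A')) s hs (l.map θ) hroot
  have hφs : Function.Surjective φ := by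
    have h1 : ∀ y : Γ(Y, ⊤), θ y ∈ φ.range := by
      intro y
      have hy : y ∈ Submodule.span Γ(X, ⊤) {b | b ∈ l} := by rw [hspan]; trivial
      induction hy using Submodule.span_induction with
      | mem x hx => exact hφ _ (List.mem_map_of_mem hx)
      | zero => rw [map_zero]; exact φ.range.zero_mem
      | add x y _ _ hx hy => rw [map_add]; exact φ.range.add_mem hx hy
      | smul a x _ hx =>
        rw [Algebra.smul_def, map_mul]
        refine φ.range.mul_mem ?_ hx
        have h2 : θ (algebraMap Γ(X, ⊤) Γ(Y, ⊤) a) = ρ (algebraMap Γ(X, ⊤) A' a) := RingHom.congr_fun hcomp a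
        rw [h2]
        exact φ.range.algebraMap_mem _
    have h3 := eq_top_of_isPushout hpo φ.range.toSubring h1 (by
      intro c
      have h4 : (pullback.snd f b).appTop.hom c = ρ ((Scheme.ΓSpecIso (CommRingCat.of A')).hom.hom c) := by
        change _ = ((Scheme.ΓSpecIso (CommRingCat.of A')).hom ≫ (Scheme.ΓSpecIso (CommRingCat.of A')).inv ≫
          (pullback.snd f b).appTop).hom c
        rw [Iso.hom_inv_id_assoc]
      rw [h4]
      exact φ.range.algebraMap_mem _)
    intro x
    have h5 : x ∈ φ.range.toSubring := by rw [h3]; trivial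
    exact h5
  have hρ : W.toSpecΓ ≫ Spec.map (CommRingCat.ofHom ρ) = pullback.snd f b := by
    change W.toSpecΓ ≫ Spec.map ((Scheme.ΓSpecIso (CommRingCat.of A')).inv ≫ (pullback.snd f b).appTop) = _
    rw [Spec.map_comp, ← Scheme.toSpecΓ_naturality_assoc, toSpecΓ_SpecMap_ΓSpecIso_inv, Category.comp_id]
  refine ⟨Spec (CommRingCat.of A'), b, Spec (CommRingCat.of D), Spec.map (CommRingCat.ofHom (algebraMap A' D)),
    W.toSpecΓ ≫ Spec.map (CommRingCat.ofHom (φ : D →+* Γ(W, ⊤))), ?_, ?_, ?_, ?_, ?_, L.length,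
    fun _ => Spec (CommRingCat.of A'), fun j => Spec.map (CommRingCat.ofHom ((L.get j : D →ₐ[A'] A') : D →+* A')),
    ?_, ?_, ?_⟩
  · obtain ⟨h1, h2, h3⟩ := isFinLocFree_spec (A := Γ(X, ⊤)) (B := A')
    change IsFinite (Spec.map α) at h1
    change Flat (Spec.map α) at h2
    change LocallyOfFinitePresentation (Spec.map α) at h3
    exact ⟨inferInstance, inferInstance, inferInstance⟩
  · have h1 : Surjective (Spec.map α) := ⟨PrimeSpectrum.comap_surjective_of_faithfullyFlat⟩
    infer_instance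
  · exact isFinLocFree_spec
  · have h1 : IsClosedImmersion (Spec.map (CommRingCat.ofHom (φ : D →+* Γ(W, ⊤)))) :=
      IsClosedImmersion.spec_of_surjective _ hφs
    infer_instance
  · rw [Category.assoc, ← Spec.map_comp, ← hρ, ← CommRingCat.ofHom_comp, φ.comp_algebraMap]
  · intro j
    apply IsClosedImmersion.spec_of_surjective
    intro a
    exact ⟨algebraMap A' D a, (L.get j).commutes a⟩
  · intro j
    rw [← Spec.map_comp, ← CommRingCat.ofHom_comp, AlgHom.comp_algebraMap]
    change IsIso (Spec.map (𝟙 (CommRingCat.of A')))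
    infer_instance
  · rw [Set.eq_univ_iff_forall]
    intro q
    obtain ⟨σ, hσ, hle⟩ := hL q.asIdeal q.2
    obtain ⟨j, rfl⟩ := List.get_of_mem hσ
    refine Set.mem_iUnion.mpr ⟨j, ?_⟩
    have hsj : Function.Surjective ((L.get j : D →ₐ[A'] A') : D →+* A') := fun a =>
      ⟨algebraMap A' D a, (L.get j).commutes a⟩
    have h1 := range_comap_of_surjective _ _ hsj
    have h2 : q ∈ PrimeSpectrum.zeroLocus (RingHom.ker ((L.get j : D →ₐ[A'] A') : D →+* A') : Set D) := hle
    rw [← h1] at h2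
    exact h2

end Groth.Agent.S9703
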