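import Groth.Statements.S9709
import Groth.Agent.Fdesc.IntegralFib

set_option autoImplicit false
universe u
open CategoryTheory CategoryTheory.Limits AlgebraicGeometry
open Mor

namespace Groth.Agent.S9709

/-- Let f : X ⟶ S be an integral morphism. Then every point x of X is closed in its fibre: a point of
f⁻¹(f x) specialising from x equals x. -/
theorem result {X S : Scheme.{u}} (f : X ⟶ S) [IsIntegralHom f] (x : X) :
    closure {x} ∩ f.base ⁻¹' {f.base x} = {x} := by
  refine Set.Subset.antisymm ?_ ?_
  · rintro y ⟨hy, hxy⟩
    exact (Fdesc.IntegralFib.eq_of_specializes_of_isIntegralHom f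
      (specializes_iff_mem_closure.mpr hy) (Eq.symm hxy)).symm
  · rintro _ rfl
    exact ⟨subset_closure rfl, rfl⟩

end Groth.Agent.S9709
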