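import Groth.Statements.S9713
import Groth.Agent.Mor.K385.LocHProj
import Groth.Agent.S9717

set_option autoImplicit false
universe u
open CategoryTheory CategoryTheory.Limits AlgebraicGeometry
open Mor

namespace Groth.Agent.S9713

/-- A base change of a locally projective morphism (every point of the base has an open neighbourhood U
with f⁻¹(U) ⟶ U projective) is locally projective. Here f⁻¹(U) ⟶ U projective means isomorphic over
U to the relative Proj of a quasi-coherent graded algebra generated by its finite-type degree-one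
part; the published definition uses closed subschemes of P(E) with E of finite type, an equivalent
condition. -/
theorem result {X S S' : Scheme.{u}} (f : X ⟶ S) (hf : RelProj.IsLocallyProjective f)
    (g : S' ⟶ S) : RelProj.IsLocallyProjective (pullback.snd f g) := by
  intro s'
  obtain ⟨U, hs, hU⟩ := K385.LocHProj.locally_isHProjective f hf (g s')
  refine ⟨g ⁻¹ᵁ U, hs, Groth.Agent.S9717.result _ ?_⟩
  have H1 : IsPullback (f ⁻¹ᵁ U).ι (f ∣_ U) f U.ι := (isPullback_morphismRestrict f U).flip
  have H2 := (isPullback_morphismRestrict (pullback.snd f g) (g ⁻¹ᵁ U)).flip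
  have H3 := H2.paste_horiz (IsPullback.of_hasPullback f g)
  have e : (g ⁻¹ᵁ U).ι ≫ g = g ∣_ U ≫ U.ι := (morphismRestrict_ι g U).symm
  rw [e] at H3
  have H4 : IsPullback (H1.lift _ (pullback.snd f g ∣_ (g ⁻¹ᵁ U) ≫ g ∣_ U)
      (by rw [H3.w, Category.assoc])) (pullback.snd f g ∣_ (g ⁻¹ᵁ U)) (f ∣_ U) (g ∣_ U) := by
    refine IsPullback.of_right (h₁₂ := (f ⁻¹ᵁ U).ι) (h₂₂ := U.ι) (v₁₃ := f) ?_ ?_ H1
    · rw [H1.lift_fst]
      exact H3
    · rw [H1.lift_snd]
  exact K386.HQP.isHProjective_of_isPullback H4 hU

end Groth.Agent.S9713
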