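import Groth.Statements.S9715
import Groth.Agent.Nrm16.K137.Chart
import Groth.Agent.Desc.ModSec2
import Groth.Agent.VarietyB.PullSec
import Groth.Agent.Ega1.QcqsPush
import Groth.Agent.Mor.K386.DiffAff

set_option autoImplicit false
universe u
open CategoryTheory CategoryTheory.Limits AlgebraicGeometry
open Opposite
open Mor

namespace Groth.Agent.S9715

/-- Let f : X ⟶ S be a morphism of affine schemes, R = Γ(S, O_S) → A = Γ(X, O_X) the corresponding ring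
map, F a quasi-coherent O_X-module and G an O_X-module, with global sections M and N. Every
differential operator M → N of order at most k relative to A over R is induced on global sections by
a differential operator F → G of order at most k relative to X over S. (The published statement
asserts that D ↦ Γ(X, D) is a bijection between the two sets of operators of order at most k; its
injectivity is not verified in the published proof and is not claimed here. Differential operators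
on X/S are taken in the principal-parts sense, those of A/R in the commutator sense.) -/
theorem result {X S : Scheme.{u}} [IsAffine X] [IsAffine S] (f : X ⟶ S)
    (F G : X.Modules) (hF : Coh.IsQCoh F) (k : ℕ) :
    letI : Algebra Γ(S, ⊤) Γ(X, ⊤) := f.appTop.hom.toAlgebra
    letI : Module Γ(S, ⊤) Γ(F, ⊤) := Module.compHom Γ(F, ⊤) f.appTop.hom
    letI : Module Γ(S, ⊤) Γ(G, ⊤) := Module.compHom Γ(G, ⊤) f.appTop.hom
    haveI : IsScalarTower Γ(S, ⊤) Γ(X, ⊤) Γ(F, ⊤) := IsScalarTower.of_algebraMap_smul fun _ _ => rfl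
    haveI : IsScalarTower Γ(S, ⊤) Γ(X, ⊤) Γ(G, ⊤) := IsScalarTower.of_algebraMap_smul fun _ _ => rfl
    ∀ D' : Γ(F, ⊤) →ₗ[Γ(S, ⊤)] Γ(G, ⊤), Diff16.IsDiffOpLE Γ(S, ⊤) Γ(X, ⊤) Γ(F, ⊤) Γ(G, ⊤) k D' →
      ∃ D : F.presheaf ⟶ G.presheaf, PrinPart.IsDiffOpLE f F G k D ∧
        ∀ m : Γ(F, ⊤), (D.app (op ⊤)).hom m = D' m := by
  letI : Algebra Γ(S, ⊤) Γ(X, ⊤) := f.appTop.hom.toAlgebra
  letI : Module Γ(S, ⊤) Γ(F, ⊤) := Module.compHom Γ(F, ⊤) f.appTop.hom
  letI : Module Γ(S, ⊤) Γ(G, ⊤) := Module.compHom Γ(G, ⊤) f.appTop.hom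
  haveI : IsScalarTower Γ(S, ⊤) Γ(X, ⊤) Γ(F, ⊤) := IsScalarTower.of_algebraMap_smul fun _ _ => rfl
  haveI : IsScalarTower Γ(S, ⊤) Γ(X, ⊤) Γ(G, ⊤) := IsScalarTower.of_algebraMap_smul fun _ _ => rfl
  intro D' hD
  have e : (⊤ : X.Opens) ≤ f ⁻¹ᵁ ⊤ := le_rfl
  have hS := isAffineOpen_top S
  have hX := isAffineOpen_top X
  obtain ⟨t, ht, hs, hk⟩ := K137.Chart.exists_tot e (A := Γ(S, ⊤)) (B := Γ(X, ⊤)) k hS hX
    (Iso.refl _) (Iso.refl _) (by
      rw [Iso.refl_hom, Iso.refl_hom, Category.comp_id, Category.id_comp]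
      exact (Scheme.Hom.appLE_eq_app f).symm)
  have hC := K137.Nbhd.isAffineOpen_pr1 e k hS hX
  have hF' : Coh.IsQCoh ((Scheme.Modules.pullback (PrinPart.pr2 f k)).obj F) :=
    VarietyB.PullSec.isQCoh_pullback _ _ hF
  have hP : Coh.IsQCoh (PrinPart.PMod f k F) :=
    Ega1.QcqsPush.isQCoh_pushforward (PrinPart.pr1 f k) _ hF'
  have e2 : PrinPart.pr1 f k ⁻¹ᵁ ⊤ ≤ PrinPart.pr2 f k ⁻¹ᵁ ⊤ := (PrinPart.preimage_pr1 f k ⊤).le
  letI : Algebra Γ(X, ⊤) Γ(PrinPart.nbhd f k, PrinPart.pr1 f k ⁻¹ᵁ ⊤) :=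
    ((PrinPart.pr2 f k).appLE ⊤ (PrinPart.pr1 f k ⁻¹ᵁ ⊤) e2).hom.toAlgebra
  letI := VarietyB.PullSec.secModule (PrinPart.pr2 f k) F e2
  haveI : IsScalarTower Γ(X, ⊤) Γ(PrinPart.nbhd f k, PrinPart.pr1 f k ⁻¹ᵁ ⊤)
      Γ((Scheme.Modules.pullback (PrinPart.pr2 f k)).obj F, PrinPart.pr1 f k ⁻¹ᵁ ⊤) :=
    IsScalarTower.of_algebraMap_smul fun _ _ => rfl
  have hbc : IsBaseChange Γ(PrinPart.nbhd f k, PrinPart.pr1 f k ⁻¹ᵁ ⊤)
      (VarietyB.PullSec.secₗ (PrinPart.pr2 f k) F e2) :=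
    VarietyB.PullSec.isBaseChange_secₗ (PrinPart.pr2 f k) F e2 hF hX hC
  obtain ⟨ψ, hψ1, hψ2⟩ := K386.DiffAff.exists_ext t hs k hk (fun b => by
    rw [ht]
    change _ = (PrinPart.pr1 f k).app ⊤ 1 * _
    rw [map_one, one_mul]
    rfl) _ hbc D' hD
  obtain ⟨u, hu⟩ := Desc.ModSec.exists_hom_top hP
    ({ toFun := fun p : Γ(PrinPart.PMod f k F, ⊤) => ψ p
       map_add' := fun x y => map_add ψ x y
       map_smul' := fun b x => by
         have h1 := hψ2 b x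
         rw [ht] at h1
         refine Eq.trans ?_ h1
         congr 1
         change _ = ((PrinPart.pr1 f k).app ⊤ b * (PrinPart.pr2 f k).appLE ⊤ _ _ 1) • _
         rw [map_one, mul_one]
         rfl } : Γ(PrinPart.PMod f k F, ⊤) →ₗ[Γ(X, ⊤)] Γ(G, ⊤))
  refine ⟨PrinPart.dPHom f k F ≫ u.mapPresheaf, ⟨u, fun U s => rfl⟩, fun m => ?_⟩
  refine Eq.trans ?_ (hψ1 m)
  exact hu (PrinPart.dP f k F ⊤ m)

end Groth.Agent.S9715
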