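import Groth.Statements.S9721
import Groth.Agent.Mor.K386.Chart
import Mathlib.RingTheory.Smooth.StandardSmoothOfFree

set_option autoImplicit false
universe u
open CategoryTheory AlgebraicGeometry
open Mor

namespace Groth.Agent.S9721

/-- Let f : X ⟶ S be a morphism, x a point of X and V an affine open neighbourhood of f(x) in S. Then f
is smooth on some open neighbourhood of x if and only if there is an affine open neighbourhood U of
x with f(U) ⊆ V such that the induced ring map Γ(S, V) ⟶ Γ(X, U) is standard smooth. -/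
theorem result {X S : Scheme.{u}} (f : X ⟶ S) (x : X)
    (V : S.Opens) (hV : IsAffineOpen V) (hxV : f x ∈ V) :
    (∃ W : X.Opens, x ∈ W ∧ Smooth (W.ι ≫ f)) ↔
      ∃ (U : X.Opens) (_ : IsAffineOpen U) (_ : x ∈ U) (e : U ≤ f ⁻¹ᵁ V),
        (f.appLE V U e).hom.IsStandardSmooth := by
  constructor
  · rintro ⟨W, hxW, hW⟩
    obtain ⟨U, hU, hxU, hUW⟩ := K386.Chart.exists_affine x (W ⊓ f ⁻¹ᵁ V) ⟨hxW, hxV⟩
    have e : U ≤ f ⁻¹ᵁ V := hUW.trans inf_le_right
    have h1 : Smooth (U.ι ≫ f) := K386.Chart.smooth_ι_comp_of_le f (hUW.trans inf_le_left) hW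
    have h2 : (f.appLE V U e).hom.Smooth := (K386.Chart.smooth_ι_comp_iff f hV hU e).mp h1
    obtain ⟨g, hg, hs⟩ : ∃ g : Γ(X, U), g ∉ (hU.primeIdealOf ⟨x, hxU⟩).asIdeal ∧
        ((algebraMap Γ(X, U) (Localization.Away g)).comp (f.appLE V U e).hom).IsStandardSmooth := by
      algebraize [(f.appLE V U e).hom]
      have h3 : Algebra.Smooth Γ(S, V) Γ(X, U) := h2
      obtain ⟨g, hg, hs⟩ := Algebra.IsSmoothAt.exists_notMem_isStandardSmooth (R := Γ(S, V))
        (hU.primeIdealOf ⟨x, hxU⟩).asIdeal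
      refine ⟨g, hg, ?_⟩
      have h4 : (algebraMap Γ(X, U) (Localization.Away g)).comp (f.appLE V U e).hom =
          algebraMap Γ(S, V) (Localization.Away g) := (IsScalarTower.algebraMap_eq _ _ _).symm
      rw [h4]
      exact (RingHom.isStandardSmooth_algebraMap).mpr hs
    have hxg : x ∈ X.basicOpen g := (K386.Chart.mem_basicOpen_iff hU x hxU g).mpr hg
    refine ⟨X.basicOpen g, hU.basicOpen g, hxg, (X.basicOpen_le g).trans e, ?_⟩
    obtain ⟨θ, hθ⟩ := K386.Chart.appLE_basicOpen f hU e g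
    rw [hθ]
    exact RingHom.isStandardSmooth_respectsIso.1 _ θ hs
  · rintro ⟨U, hU, hxU, e, h⟩
    exact ⟨U, hxU, (K386.Chart.smooth_ι_comp_iff f hV hU e).mpr (RingHom.IsStandardSmooth.smooth h)⟩

end Groth.Agent.S9721
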