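import Groth.Statements.S9722
import Groth.Agent.Mor.K386.Chart
import Mathlib.RingTheory.Unramified.LocalStructure

set_option autoImplicit false
universe u
open CategoryTheory AlgebraicGeometry
open Mor

namespace Groth.Agent.S9722

/-- Let f : X ⟶ S be a morphism, x a point of X and V an affine open neighbourhood of f(x) in S. Then f
is étale on some open neighbourhood of x if and only if there is an affine open neighbourhood U of x
with f(U) ⊆ V such that Γ(X, U) is a standard étale algebra over Γ(S, V) through the induced ring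
map. -/
theorem result {X S : Scheme.{u}} (f : X ⟶ S) (x : X)
    (V : S.Opens) (hV : IsAffineOpen V) (hxV : f x ∈ V) :
    (∃ W : X.Opens, x ∈ W ∧ Etale (W.ι ≫ f)) ↔
      ∃ (U : X.Opens) (_ : IsAffineOpen U) (_ : x ∈ U) (e : U ≤ f ⁻¹ᵁ V),
        letI := (f.appLE V U e).hom.toAlgebra
        Algebra.IsStandardEtale Γ(S, V) Γ(X, U) := by
  constructor
  · rintro ⟨W, hxW, hW⟩
    obtain ⟨U, hU, hxU, hUW⟩ := K386.Chart.exists_affine x (W ⊓ f ⁻¹ᵁ V) ⟨hxW, hxV⟩
    have e : U ≤ f ⁻¹ᵁ V := hUW.trans inf_le_right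
    have h1 : Etale (U.ι ≫ f) := K386.Chart.etale_ι_comp_of_le f (hUW.trans inf_le_left) hW
    have h2 : (f.appLE V U e).hom.Etale := (K386.Chart.etale_ι_comp_iff f hV hU e).mp h1
    letI a1 : Algebra Γ(S, V) Γ(X, U) := (f.appLE V U e).hom.toAlgebra
    have h3 : Algebra.Etale Γ(S, V) Γ(X, U) := h2
    obtain ⟨g, hg, hs⟩ := Algebra.IsEtaleAt.exists_isStandardEtale (R := Γ(S, V))
        (hU.primeIdealOf ⟨x, hxU⟩).asIdeal
    have hxg : x ∈ X.basicOpen g := (K386.Chart.mem_basicOpen_iff hU x hxU g).mpr hg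
    refine ⟨X.basicOpen g, hU.basicOpen g, hxg, (X.basicOpen_le g).trans e, ?_⟩
    obtain ⟨θ, hθ⟩ := K386.Chart.appLE_basicOpen f hU e g
    letI a2 : Algebra Γ(S, V) Γ(X, X.basicOpen g) :=
      (f.appLE V (X.basicOpen g) ((X.basicOpen_le g).trans e)).hom.toAlgebra
    let θ' : Localization.Away g ≃ₐ[Γ(S, V)] Γ(X, X.basicOpen g) :=
      { θ with commutes' := fun r ↦ (congrArg (fun φ ↦ φ r) hθ).symm }
    exact Algebra.IsStandardEtale.of_equiv θ'
  · rintro ⟨U, hU, hxU, e, h⟩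
    refine ⟨U, hxU, (K386.Chart.etale_ι_comp_iff f hV hU e).mpr ?_⟩
    letI a1 : Algebra Γ(S, V) Γ(X, U) := (f.appLE V U e).hom.toAlgebra
    have h' : Algebra.IsStandardEtale Γ(S, V) Γ(X, U) := h
    have h3 : Algebra.Etale Γ(S, V) Γ(X, U) := inferInstance
    exact h3

end Groth.Agent.S9722
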