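import Groth.Statements.S9723
-- import your own Groth.Agent.* helpers here

set_option autoImplicit false
universe u
open FlatMor

namespace Groth.Agent.S9723

open AlgebraicGeometry CategoryTheory

theorem surj_quot {A : Type u} [CommRing A] (I : Ideal A) (hI : I ^ 2 = ⊥) :
    Function.Surjective (Spec.map (CommRingCat.ofHom (Ideal.Quotient.mk I))) := by
  intro p
  have hp : I ≤ p.asIdeal := by
    have h1 : I ^ 2 ≤ p.asIdeal := by rw [hI]; exact bot_le
    have hpp : p.asIdeal.IsPrime := PrimeSpectrum.isPrime (R := A) p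
    exact (Ideal.IsPrime.pow_le_iff (by norm_num)).mp h1
  have h2 : p ∈ PrimeSpectrum.zeroLocus (I : Set A) := hp
  have h3 : Set.range (PrimeSpectrum.comap (Ideal.Quotient.mk I)) = PrimeSpectrum.zeroLocus (I : Set A) := by
    have := _root_.range_comap_of_surjective (A ⧸ I) (Ideal.Quotient.mk I) Ideal.Quotient.mk_surjective
    rw [this, Ideal.mk_ker]
  rw [← h3] at h2
  obtain ⟨q, hq⟩ := h2
  exact ⟨q, hq⟩

open AlgebraicGeometry CategoryTheory in
/-- Let f : X ⟶ S be formally étale (unique infinitesimal lifting against square-zero thickenings of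
affine schemes), and let U be an open subscheme of X and V an open subscheme of S such that f maps U
into V. Then the restricted morphism U ⟶ V is formally étale. -/
theorem result {X S : Scheme.{u}} (f : X ⟶ S) (hf : MoreMor.IsFormallyEtaleHom f)
    (U : X.Opens) (V : S.Opens) (h : U ≤ f ⁻¹ᵁ V) : MoreMor.IsFormallyEtaleHom (f.resLE V U h) := by
  intro A _ I hI a b hab
  obtain ⟨l, ⟨hl1, hl2⟩, hl3⟩ := hf A I hI (a ≫ U.ι) (b ≫ V.ι) (by
    rw [← Category.assoc, hab, Category.assoc, Category.assoc, Scheme.Hom.resLE_comp_ι])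
  have hr : Set.range l ⊆ Set.range U.ι := by
    rintro _ ⟨x, rfl⟩
    obtain ⟨y, rfl⟩ := surj_quot I hI x
    rw [← Scheme.Hom.comp_apply, hl1]
    exact ⟨a y, rfl⟩
  have hl' : IsOpenImmersion.lift U.ι l hr ≫ U.ι = l := IsOpenImmersion.lift_fac _ _ _
  refine ⟨IsOpenImmersion.lift U.ι l hr, ⟨?_, ?_⟩, ?_⟩
  · rw [← cancel_mono U.ι, Category.assoc, hl', hl1]
  · rw [← cancel_mono V.ι, Category.assoc, Scheme.Hom.resLE_comp_ι, ← Category.assoc, hl', hl2]
  · rintro m ⟨hm1, hm2⟩
    rw [← cancel_mono U.ι, hl']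
    refine hl3 _ ⟨?_, ?_⟩
    · rw [← Category.assoc, hm1]
    · rw [Category.assoc, ← Scheme.Hom.resLE_comp_ι f h, ← Category.assoc, hm2]

end Groth.Agent.S9723
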