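import Groth.Statements.S9736
import Groth.Agent.FlatMor.K257.RelGCIPush
import Groth.Agent.S9148

set_option autoImplicit false
universe u
open FlatMor

namespace Groth.Agent.S9736

open AlgebraicGeometry CategoryTheory Limits in
/-- Let f : X ⟶ S be a standard syntomic morphism of affine schemes. Then f is the base change of a
morphism of finite type f₀ : X₀ ⟶ S₀ between affine schemes with S₀ of finite type over ℤ and f₀
standard syntomic. -/
theorem result {X S : Scheme.{u}} (f : X ⟶ S) [IsAffine X] [IsAffine S] (hf : Synt.IsStandardSyntomic f) :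
    ∃ (X₀ S₀ : Scheme.{u}) (f₀ : X₀ ⟶ S₀) (g : S ⟶ S₀) (g' : X ⟶ X₀), IsAffine X₀ ∧ IsAffine S₀ ∧ IsPullback g' f f₀ g ∧
      Algebra.FiniteType ℤ Γ(S₀, ⊤) ∧ LocallyOfFiniteType f₀ ∧ Synt.IsStandardSyntomic f₀ := by
  obtain ⟨R, _, n, c, F, hF, e₁, e₂, he⟩ := hf
  obtain ⟨R₀, F₀, hR₀, hF₀, hG⟩ := Groth.Agent.S9148.result R n c F hF
  have hpush := K257.RelGCIPush.isPushout_relGCI (algebraMap R₀ R) n c F₀ F hF₀
  have hpull := isPullback_SpecMap_of_isPushout _ _ _ _ hpush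
  refine ⟨Spec (.of (Synt.RelGCIRing R₀ n c F₀)), Spec (.of R₀),
    Spec.map (CommRingCat.ofHom (algebraMap R₀ (Synt.RelGCIRing R₀ n c F₀))),
    e₂.hom ≫ Spec.map (CommRingCat.ofHom (algebraMap R₀ R)),
    e₁.hom ≫ Spec.map (CommRingCat.ofHom (K257.RelGCIPush.relMap (algebraMap R₀ R) n c F₀ F hF₀)),
    inferInstance, inferInstance, ?_, ?_, ?_, ⟨R₀, inferInstance, n, c, F₀, hG, Iso.refl _, Iso.refl _, by simp⟩⟩
  · have h3 : IsPullback e₁.hom f (Spec.map (CommRingCat.ofHom (algebraMap R (Synt.RelGCIRing R n c F)))) e₂.hom :=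
      IsPullback.of_horiz_isIso ⟨he⟩
    exact h3.paste_horiz hpull
  · have h4 : (algebraMap ℤ Γ(Spec (.of R₀), ⊤)) =
      ((Scheme.ΓSpecIso (.of R₀)).inv.hom).comp (algebraMap ℤ R₀) := RingHom.ext_int _ _
    rw [← RingHom.finiteType_algebraMap] at hR₀ ⊢
    rw [h4]
    exact RingHom.FiniteType.comp (RingHom.FiniteType.of_surjective _
      (Scheme.ΓSpecIso (.of R₀)).symm.commRingCatIsoToRingEquiv.surjective) hR₀
  · rw [HasRingHomProperty.Spec_iff (P := @LocallyOfFiniteType)]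
    exact RingHom.finiteType_algebraMap.mpr inferInstance

end Groth.Agent.S9736
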