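import Groth.Statements.S9737
import Groth.Agent.FlatMor.K257.IsoDescentSch
import Groth.Agent.Smoothlim.FTZ
import Mathlib.AlgebraicGeometry.Noetherian

set_option autoImplicit false
universe u
open FlatMor

namespace Groth.Agent.S9737

open AlgebraicGeometry CategoryTheory Limits

theorem lfp_of_lft {X T : Scheme.{u}} [IsAffine X] [IsAffine T] [IsNoetherianRing Γ(T, ⊤)] (f : X ⟶ T)
    [LocallyOfFiniteType f] : LocallyOfFinitePresentation f := by
  rw [HasRingHomProperty.iff_of_isAffine (P := @LocallyOfFinitePresentation)]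
  have h : f.appTop.hom.FiniteType := by
    have : LocallyOfFiniteType f := inferInstance
    rwa [HasRingHomProperty.iff_of_isAffine (P := @LocallyOfFiniteType)] at this
  exact RingHom.FinitePresentation.of_finiteType.mp h

theorem lft_from {S : Scheme.{u}} [IsAffine S] (h : Algebra.FiniteType ℤ Γ(S, ⊤)) :
    LocallyOfFiniteType (specULiftZIsTerminal.from S) := by
  have h1 : specULiftZIsTerminal.from S = S.isoSpec.hom ≫ specULiftZIsTerminal.from (Spec Γ(S, ⊤)) :=
    specULiftZIsTerminal.hom_ext _ _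
  have := Groth.Agent.Smoothlim.FTZ.locallyOfFiniteType_Spec Γ(S, ⊤) h
  rw [h1]
  infer_instance

open AlgebraicGeometry CategoryTheory Limits in
/-- Suppose P and Q are classes of morphisms of schemes preserved by arbitrary pullback, and f : X ⟶ S
is a finitely presented morphism of affine schemes. If f arises by pullback from a finite-type
morphism f₁ : X₁ ⟶ S₁ satisfying P, and also from a finite-type morphism f₂ : X₂ ⟶ S₂ satisfying Q,
where all four schemes are affine and Γ(S₁), Γ(S₂) are finitely generated ℤ-algebras, then f arises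
by pullback from a single finite-type morphism f₀ : X₀ ⟶ S₀ of affine schemes, with Γ(S₀) finitely
generated over ℤ, satisfying both P and Q. -/
theorem result (P Q : MorphismProperty Scheme.{u}) [P.IsStableUnderBaseChange] [Q.IsStableUnderBaseChange]
    {X S : Scheme.{u}} (f : X ⟶ S) [IsAffine X] [IsAffine S] [LocallyOfFinitePresentation f]
    {X₁ S₁ X₂ S₂ : Scheme.{u}} [IsAffine X₁] [IsAffine S₁] [IsAffine X₂] [IsAffine S₂]
    (f₁ : X₁ ⟶ S₁) (g₁ : S ⟶ S₁) (g₁' : X ⟶ X₁) (h₁ : IsPullback g₁' f f₁ g₁)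
    (f₂ : X₂ ⟶ S₂) (g₂ : S ⟶ S₂) (g₂' : X ⟶ X₂) (h₂ : IsPullback g₂' f f₂ g₂)
    (hS₁ : Algebra.FiniteType ℤ Γ(S₁, ⊤)) (hS₂ : Algebra.FiniteType ℤ Γ(S₂, ⊤))
    [LocallyOfFiniteType f₁] [LocallyOfFiniteType f₂] (hP : P f₁) (hQ : Q f₂) :
    ∃ (X₀ S₀ : Scheme.{u}) (f₀ : X₀ ⟶ S₀) (g : S ⟶ S₀) (g' : X ⟶ X₀), IsAffine X₀ ∧ IsAffine S₀ ∧ IsPullback g' f f₀ g ∧
      Algebra.FiniteType ℤ Γ(S₀, ⊤) ∧ LocallyOfFiniteType f₀ ∧ P f₀ ∧ Q f₀ := by
  have hl₁ := lft_from hS₁
  have hl₂ := lft_from hS₂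
  let T := pullback (specULiftZIsTerminal.from S₁) (specULiftZIsTerminal.from S₂)
  let s₁ : T ⟶ S₁ := pullback.fst _ _
  let s₂ : T ⟶ S₂ := pullback.snd _ _
  have hs₁ : LocallyOfFiniteType s₁ := inferInstanceAs (LocallyOfFiniteType (pullback.fst _ _))
  have hTZ : ∀ (T' : Scheme.{u}) (b : T' ⟶ T) [IsAffine T'] [LocallyOfFiniteType b], Algebra.FiniteType ℤ Γ(T', ⊤) := by
    intro T' b _ _
    have : LocallyOfFiniteType (specULiftZIsTerminal.from T') := by
      have h1 : specULiftZIsTerminal.from T' = b ≫ s₁ ≫ specULiftZIsTerminal.from S₁ :=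
        specULiftZIsTerminal.hom_ext _ _
      rw [h1]
      infer_instance
    exact Groth.Agent.Smoothlim.FTZ.finiteType_Γ (isAffineOpen_top T')
  have hTft : Algebra.FiniteType ℤ Γ(T, ⊤) := hTZ T (𝟙 T)
  have hTn : IsNoetherianRing Γ(T, ⊤) := Algebra.FiniteType.isNoetherianRing ℤ _
  obtain ⟨t, ht₁, ht₂⟩ : ∃ t : S ⟶ T, t ≫ s₁ = g₁ ∧ t ≫ s₂ = g₂ :=
    ⟨pullback.lift g₁ g₂ (specULiftZIsTerminal.hom_ext _ _), pullback.lift_fst _ _ _, pullback.lift_snd _ _ _⟩
  have hX₁ : IsAffine (pullback f₁ s₁) := inferInstance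
  have hX₂ : IsAffine (pullback f₂ s₂) := inferInstance
  have hy₁ : LocallyOfFinitePresentation (pullback.snd f₁ s₁) := lfp_of_lft _
  have hy₂ : LocallyOfFinitePresentation (pullback.snd f₂ s₂) := lfp_of_lft _
  have H₁ : IsPullback (pullback.lift g₁' (f ≫ t) (by rw [Category.assoc, ht₁]; exact h₁.w)) f (pullback.snd f₁ s₁) t := by
    refine IsPullback.of_right ?_ (pullback.lift_snd _ _ _) (IsPullback.of_hasPullback f₁ s₁)
    rw [pullback.lift_fst, ht₁]
    exact h₁
  have H₂ : IsPullback (pullback.lift g₂' (f ≫ t) (by rw [Category.assoc, ht₂]; exact h₂.w)) f (pullback.snd f₂ s₂) t := by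
    refine IsPullback.of_right ?_ (pullback.lift_snd _ _ _) (IsPullback.of_hasPullback f₂ s₂)
    rw [pullback.lift_fst, ht₂]
    exact h₂
  obtain ⟨T', a, b, hab, _, _, e', he'⟩ := K257.IsoDescentSch.exists_iso_stage t (pullback.snd f₁ s₁) (pullback.snd f₂ s₂)
    _ _ H₁ _ _ H₂ (Iso.refl X) (Category.id_comp _)
  subst hab
  refine ⟨pullback (pullback.snd f₁ s₁) b, T', pullback.snd _ _, a,
    pullback.lift (pullback.lift g₁' (f ≫ a ≫ b) (by rw [Category.assoc, ht₁]; exact h₁.w)) (f ≫ a) (by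
      exact (pullback.lift_snd _ _ _).trans (Category.assoc _ _ _).symm), inferInstance, inferInstance, ?_, hTZ T' b, inferInstance, ?_, ?_⟩
  · refine IsPullback.of_right ?_ (pullback.lift_snd _ _ _) (IsPullback.of_hasPullback (pullback.snd f₁ s₁) b)
    rw [pullback.lift_fst]
    exact H₁
  · exact P.pullback_snd _ _ (P.pullback_snd _ _ hP)
  · rw [← he']
    have : Q (pullback.snd (pullback.snd f₂ s₂) b) := Q.pullback_snd _ _ (Q.pullback_snd _ _ hQ)
    exact (MorphismProperty.cancel_left_of_respectsIso Q _ _).mpr this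

end Groth.Agent.S9737
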