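import Groth.Statements.S9763
import Mathlib.AlgebraicGeometry.Restrict

set_option autoImplicit false
universe u
open FlatMor

namespace Groth.Agent.S9763

open AlgebraicGeometry CategoryTheory Limits in
/-- Let f : X ⟶ S be formally smooth (infinitesimal lifting against square-zero thickenings of affine
schemes), and let U be an open of X and V an open of S with U contained in the preimage of V under
f. Then the induced morphism U ⟶ V is formally smooth. -/
theorem result {X S : Scheme.{u}} (f : X ⟶ S) (hf : MoreMor.IsFormallySmoothHom f)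
    (U : X.Opens) (V : S.Opens) (h : U ≤ f ⁻¹ᵁ V) : MoreMor.IsFormallySmoothHom (f.resLE V U h) := by
  intro A _ I hI a b w
  obtain ⟨l, hl1, hl2⟩ := hf A I hI (a ≫ U.ι) (b ≫ V.ι) (by
    rw [Category.assoc, ← Scheme.Hom.resLE_comp_ι f h, reassoc_of% w])
  have hr : Set.range l ⊆ Set.range U.ι := by
    rintro _ ⟨y, rfl⟩
    obtain ⟨z, rfl⟩ : ∃ z, Spec.map (CommRingCat.ofHom (Ideal.Quotient.mk I)) z = y := by
      have hy : y ∈ Set.range (PrimeSpectrum.comap (Ideal.Quotient.mk I)) := by
        rw [_root_.range_comap_of_surjective _ _ Ideal.Quotient.mk_surjective,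
          Ideal.mk_ker]
        intro t ht
        have : t ^ 2 ∈ y.asIdeal := by
          have h2 : t ^ 2 ∈ I ^ 2 := Ideal.pow_mem_pow ht 2
          rw [hI, Ideal.mem_bot] at h2
          rw [h2]
          exact y.asIdeal.zero_mem
        exact y.2.mem_of_pow_mem 2 this
      obtain ⟨z, hz⟩ := hy
      exact ⟨z, hz⟩
    rw [← Scheme.Hom.comp_apply, hl1, Scheme.Hom.comp_apply]
    exact ⟨_, rfl⟩
  refine ⟨IsOpenImmersion.lift U.ι l hr, ?_, ?_⟩
  · rw [← cancel_mono U.ι, Category.assoc, IsOpenImmersion.lift_fac, hl1]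
  · rw [← cancel_mono V.ι, Category.assoc, Scheme.Hom.resLE_comp_ι,
      IsOpenImmersion.lift_fac_assoc, hl2]

end Groth.Agent.S9763
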