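import Groth.Statements.S9767
import Groth.Agent.Flat2D.CMBase
-- import your own Groth.Agent.* helpers here

set_option autoImplicit false
universe u
open FlatMor

namespace Groth.Agent.S9767

open AlgebraicGeometry CategoryTheory Limits in
/-- For f : X ⟶ Y, g : Y ⟶ Z and a point x of X such that the fibre of f through x and the fibre of g
through f x are locally Noetherian, suppose the stalk map of f at x is flat and f ≫ g is
Cohen–Macaulay at x; then Cohen–Macaulayness passes to f at x and to g at the image point f x. The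
published statement assumes all fibres of f, g and g ∘ f locally Noetherian; this row assumes only
the fibres of f and g through x and f x. -/
theorem result {X Y Z : Scheme.{u}} (f : X ⟶ Y) (g : Y ⟶ Z) (x : X)
    (hNf : IsLocallyNoetherian (f.fiber (f x))) (hNg : IsLocallyNoetherian (g.fiber (g (f x))))
    (h : MoreMor.IsCMAt (f ≫ g) x) (hfl : (f.stalkMap x).hom.Flat) : MoreMor.IsCMAt f x ∧ MoreMor.IsCMAt g (f x) := by
  rw [Groth.Agent.Flat2D.CMBase.isCMAt_iff] at h ⊢
  rw [Groth.Agent.Flat2D.CMBase.isCMAt_iff]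
  obtain ⟨h1, h2⟩ := h
  have h3 : (g.stalkMap (f x)).hom.Flat := Groth.Agent.Flat2D.FlatAtPt.flat_stalkMap_of_comp f g x h1 hfl
  -- the local rings
  let : Algebra (Y.presheaf.stalk (f x)) (X.presheaf.stalk x) := (f.stalkMap x).hom.toAlgebra
  have h4 : Module.Flat (Y.presheaf.stalk (f x)) (X.presheaf.stalk x) := hfl
  have h5 : IsLocalHom (algebraMap (Y.presheaf.stalk (f x)) (X.presheaf.stalk x)) :=
    inferInstanceAs (IsLocalHom (f.stalkMap x).hom)
  let I : Ideal (Y.presheaf.stalk (f x)) := Groth.Agent.Flat2D.PbStalk.fiberIdeal g (f x)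
  have hI : I ≤ IsLocalRing.maximalIdeal _ := Groth.Agent.Flat2D.PbStalk.fiberIdeal_le_maximalIdeal g (f x)
  have hIm : Groth.Agent.Flat2D.PbStalk.fiberIdeal (f ≫ g) x = I.map (algebraMap (Y.presheaf.stalk (f x)) (X.presheaf.stalk x)) := by
    change Ideal.map ((f ≫ g).stalkMap x).hom _ = (Ideal.map (g.stalkMap (f x)).hom _).map (f.stalkMap x).hom
    rw [Ideal.map_map, Scheme.Hom.stalkMap_comp]
    rfl
  have hn1 := Ega4C.FlatLocal.nontrivial_quot (Y.presheaf.stalk (f x)) hI
  have hn2 := Ega4C.FlatLocal.nontrivial_quot (X.presheaf.stalk x) (Ega4C.FlatLocal.map_le (Y.presheaf.stalk (f x)) (X.presheaf.stalk x) hI)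
  have hn3 := Ega4C.FlatLocal.isLocalHom_quot (Y.presheaf.stalk (f x)) (X.presheaf.stalk x) hI
  have hn4 := Ega4C.FlatLocal.flat_quot (Y.presheaf.stalk (f x)) (X.presheaf.stalk x) I
  have hn5 : IsLocalRing (Y.presheaf.stalk (f x) ⧸ I) := inferInstance
  have hN1 : IsNoetherianRing (Y.presheaf.stalk (f x) ⧸ I) := 
    isNoetherianRing_of_ringEquiv _ (Groth.Agent.Flat2D.PbStalk.fiberStalkEquiv g (f x)).symm
  have h2' : LocCoh.IsCohenMacaulayLocalRing (X.presheaf.stalk x ⧸ I.map (algebraMap (Y.presheaf.stalk (f x)) (X.presheaf.stalk x))) := by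
    rw [← hIm]; exact h2
  have hN2 : IsNoetherianRing (X.presheaf.stalk x ⧸ I.map (algebraMap (Y.presheaf.stalk (f x)) (X.presheaf.stalk x))) := 
    inferInstance
  rw [Ega4C.FlatLocal.isCM_iff (Y.presheaf.stalk (f x) ⧸ I) _, Ega4C.FlatLocal.isCM_congr
    (Ega4C.FlatLocal.fibRingQuotEquiv (Y.presheaf.stalk (f x)) (X.presheaf.stalk x) hI)] at h2'
  exact ⟨⟨hfl, h2'.2⟩, ⟨h3, h2'.1⟩⟩

end Groth.Agent.S9767
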