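import Groth.Statements.S9772
import Groth.Agent.OmegaSh.K584.LciChartScheme
import Groth.Agent.OmegaSh.K584.LciConormal
import Groth.Agent.OmegaSh.K584.UnivAff
import Groth.Agent.OmegaSh.K584.PullCon
import Groth.Agent.Dcoh.PushFLF304

set_option autoImplicit false
universe u
open OmegaSh

namespace Groth.Agent.S9772

open AlgebraicGeometry CategoryTheory Limits
open Groth.Agent.Sga67.Sec Groth.Agent.Dual.H366.ConSec Groth.Agent.Dual.H366.Conormal K584.PullCon K584.Univ
open Groth.Agent.PerfA.IdealModule Groth.Agent.VarietyB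

/-- Sections of the conormal sheaf of the universal thickening over a chart. -/
theorem chart {X Y X' : Scheme.{u}} {f : X ⟶ Y} {i : X ⟶ X'} {h' : X' ⟶ Y}
    (hu : OmegaSh.IsUnivThickening f i h') {V : Y.Opens} (hV : IsAffineOpen V) {W' : X'.Opens}
    (hW' : IsAffineOpen W') (e : i ⁻¹ᵁ W' ≤ f ⁻¹ᵁ V) {n : ℕ} (g : MvPolynomial (Fin n) Γ(Y, V))
    (b : Localization.Away g →+* Γ(X, i ⁻¹ᵁ W')) (hb : Function.Surjective b)
    (hb' : ∀ r : Γ(Y, V), b (algebraMap Γ(Y, V) (Localization.Away g) r) = f.appLE V (i ⁻¹ᵁ W') e r)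
    (l : List (Localization.Away g)) (hl : LCI.IsKoszulRegularSeq (Localization.Away g) l)
    (hk : RingHom.ker b = Ideal.ofList l) :
    Module.Finite Γ(X, i ⁻¹ᵁ W') Γ(Omega.conormal i, i ⁻¹ᵁ W') ∧
      Module.Projective Γ(X, i ⁻¹ᵁ W') Γ(Omega.conormal i, i ⁻¹ᵁ W') := by
  have hi : FOT i := hu.1
  have hic : IsClosedImmersion i := hi.1.1
  have e' : W' ≤ h' ⁻¹ᵁ V := le_preimage hi h' W' V (by rw [hu.2.1]; exact e)
  let _ : Algebra Γ(Y, V) Γ(X', W') := (h'.appLE V W' e').hom.toAlgebra
  let _ : Algebra Γ(Y, V) Γ(X, i ⁻¹ᵁ W') := (f.appLE V (i ⁻¹ᵁ W') e).hom.toAlgebra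
  have hcomm : ∀ r : Γ(Y, V), i.app W' (h'.appLE V W' e' r) = f.appLE V (i ⁻¹ᵁ W') e r := by
    intro r
    have h1 : h'.appLE V W' e' ≫ i.app W' = f.appLE V (i ⁻¹ᵁ W') e := by
      rw [Scheme.Hom.app_eq_appLE, Scheme.Hom.appLE_comp_appLE]
      simp only [hu.2.1]
    exact ConcreteCategory.congr_hom h1 r
  let π : Γ(X', W') →ₐ[Γ(Y, V)] Γ(X, i ⁻¹ᵁ W') :=
    { toRingHom := (i.app W').hom, commutes' := hcomm }
  have hur := K584.UnivAff.isUnivThickeningRing hu hV hW' e' rfl π rfl
  let bA : Localization.Away g →ₐ[Γ(Y, V)] Γ(X, i ⁻¹ᵁ W') := { toRingHom := b, commutes' := hb' }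
  have hFS : Algebra.FormallySmooth Γ(Y, V) (Localization.Away g) :=
    Algebra.FormallySmooth.comp Γ(Y, V) (MvPolynomial (Fin n) Γ(Y, V)) (Localization.Away g)
  have hfree := Groth.Agent.Models.KoszulCot.free_cotangent l hl (RingHom.ker b) hk
  have hKfg : (RingHom.ker b).FG := by
    rw [hk]
    classical
    exact ⟨l.toFinset, by rw [List.coe_toFinset]⟩
  have hfin : Module.Finite (Localization.Away g ⧸ RingHom.ker b) (RingHom.ker b).Cotangent := by
    have : Module.Finite (Localization.Away g) (RingHom.ker b) := Module.Finite.iff_fg.mpr hKfg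
    have : Module.Finite (Localization.Away g) (RingHom.ker b).Cotangent :=
      Module.Finite.of_surjective _ (RingHom.ker b).toCotangent_surjective
    exact Module.Finite.of_restrictScalars_finite (Localization.Away g) _ _
  -- the sections of the conormal sheaf
  have hval : ∀ s : Sec (ClSub.idealMod i.ker) W', valS i W' s ∈ RingHom.ker π.toRingHom := fun s =>
    (app_eq_zero_iffS i W' _).mpr ⟨s, rfl⟩
  have hsur : ∀ y : RingHom.ker π.toRingHom, ∃ s : Sec (ClSub.idealMod i.ker) W', valS i W' s = y.1 := fun y =>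
    (app_eq_zero_iffS i W' _).mp y.2
  choose σ hσ using hsur
  let θ : RingHom.ker π.toRingHom →+ Γ(Omega.conormal i, i ⁻¹ᵁ W') :=
    { toFun := fun y => cS i W' (σ y)
      map_zero' := by
        have : σ 0 = 0 := valS_injective i W' (by rw [hσ, map_zero]; rfl)
        rw [this]
        exact map_zero (cS i W')
      map_add' := fun x y => by
        have : σ (x + y) = σ x + σ y := valS_injective i W' (by rw [map_add, hσ, hσ, hσ]; rfl)
        rw [this]
        exact map_add (cS i W') _ _ }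
  have hθ : Function.Bijective θ := by
    constructor
    · rw [injective_iff_map_eq_zero]
      intro y hy
      have h1 : σ y = 0 := cS_injective i hi.sqZ hW' (Eq.trans hy (map_zero (cS i W')).symm)
      have h2 := hσ y
      rw [h1, map_zero] at h2
      exact Subtype.ext h2.symm
    · intro z
      obtain ⟨s, hs⟩ := cS_surjective i hW' z
      refine ⟨⟨valS i W' s, hval s⟩, ?_⟩
      have : σ ⟨valS i W' s, hval s⟩ = s := valS_injective i W' (hσ _)
      change cS i W' (σ _) = z
      rw [this, hs]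
  have hsm : ∀ (x : Γ(X', W')) (m : RingHom.ker π.toRingHom), θ (x • m) = π x • θ m := by
    intro x m
    have : σ (x • m) = x • σ m := valS_injective i W' (by rw [map_smul, hσ, hσ]; rfl)
    change cS i W' (σ (x • m)) = _
    rw [this]
    exact secS_smul i (ClSub.idealMod i.ker) W' x (σ m)
  exact @K584.LciConormal.finite_projective _ _ _ _ _ _ _ _ _ _ _ hFS π hur bA hb hfin
    (@Module.Projective.of_free _ _ _ _ _ hfree) _ _ _ θ hθ hsm

open AlgebraicGeometry CategoryTheory Limits in
/-- Suppose f : X ⟶ Y is Koszul at every point of X (a local complete intersection morphism) and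
formally unramified, and (i : X ⟶ X', h' : X' ⟶ Y) is universal first order thickening data for f.
Then the conormal sheaf of i (the conormal sheaf of f) is finite locally free. The published
statement also asserts that for a local complete intersection morphism unramified and formally
unramified are equivalent; this row states only the conormal clause. -/
theorem result {X Y X' : Scheme.{u}} (f : X ⟶ Y)
    (hf : ∀ x : X, Synt.IsKoszulAt f x) [FormallyUnramified f] (i : X ⟶ X') (h' : X' ⟶ Y)
    (hu : OmegaSh.IsUnivThickening f i h') : FlatMod.IsFinLocFree (Omega.conormal i) := by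
  have hi := hu.1
  have hic : IsClosedImmersion i := hi.1.1
  refine Groth.Agent.Dcoh.PushFLF304.isFinLocFree_of_sections (isQCoh_conormal i)
    (fun V => Module.Finite Γ(X, V) Γ(Omega.conormal i, V) ∧ Module.Projective Γ(X, V) Γ(Omega.conormal i, V))
    (fun x => ?_) (fun V hPV _ => hPV)
  obtain ⟨_, ⟨V, hV, rfl⟩, hxV, -⟩ := Y.isBasis_affineOpens.exists_subset_of_mem_open
    (Set.mem_univ (f x)) isOpen_univ
  obtain ⟨_, ⟨U, hU, rfl⟩, hxU, e⟩ := X.isBasis_affineOpens.exists_subset_of_mem_open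
    (show x ∈ (f ⁻¹ᵁ V : Set X) from hxV) (f ⁻¹ᵁ V).isOpen
  obtain ⟨c, hxc, n, g, H⟩ := K584.LciChart.exists_chart f hf hV hU e x hxU
  obtain ⟨W', hW'⟩ := exists_open hi (X.basicOpen c)
  have hWaff : IsAffineOpen (i ⁻¹ᵁ W') := by rw [hW']; exact hU.basicOpen c
  have hW'aff : IsAffineOpen W' := isAffineOpen_of_fot hi W' hWaff
  have hWU : i ⁻¹ᵁ W' ≤ U := by rw [hW']; exact X.basicOpen_le c
  obtain ⟨b, hb, hb', l, hl, hk⟩ := H (i ⁻¹ᵁ W') hW' hWU
  exact ⟨i ⁻¹ᵁ W', chart hu hV hW'aff (hWU.trans e) g b hb hb' l hl hk, hWaff, by rw [hW']; exact hxc⟩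

end Groth.Agent.S9772
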