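import Groth.Statements.S9773
import Groth.Agent.Synt.K561.LciDict
import Groth.Agent.Flat2H.RegularLCI
-- import your own Groth.Agent.* helpers here

set_option autoImplicit false
universe u
open FlatMor

namespace Groth.Agent.S9773

open AlgebraicGeometry CategoryTheory Limits in
/-- A regular immersion of schemes, and likewise a Koszul-regular immersion, is a local complete
intersection morphism (Koszul at every point). -/
theorem result {Z X : Scheme.{u}} (i : Z ⟶ X) (k : RegImm.Kind)
    (hk : k = RegImm.Kind.regular ∨ k = RegImm.Kind.koszul) (hi : RegImm.IsRegularImmersion k i) (z : Z) :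
    Synt.IsKoszulAt i z := by
  have key : RegImm.IsRegularImmersion .koszul i := by
    rcases hk with rfl | rfl
    · refine ⟨hi.1, fun z => ?_⟩
      obtain ⟨U, hU, hc, rs, hrs, hker⟩ := hi.2 z
      exact ⟨U, hU, hc, rs,
        Groth.Agent.Flat2H.RegularLCI.isKoszulRegularSeq_of_isWeaklyRegular _ rs hrs.toIsWeaklyRegular, hker⟩
    · exact hi
  exact (K561.LciDict.forall_isKoszulAt_iff i).2 ((K561.RegImmDict.isRegularImmersion_koszul_iff i).1 key).2 z

end Groth.Agent.S9773
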