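import Groth.Statements.S9775
import Groth.Agent.FlatMor.K259.LciPerf
import Groth.Agent.Sga2.RegPd
import Groth.Agent.S1493
-- import your own Groth.Agent.* helpers here

set_option autoImplicit false
universe u
open FlatMor

namespace Groth.Agent.S9775

open AlgebraicGeometry CategoryTheory Limits in
/-- Let S be a locally Noetherian scheme, g : Y ⟶ S locally of finite type with Y regular (all local
rings regular), f : X ⟶ Y a morphism, and assume the composite f ≫ g is Koszul at every point of X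
(a local complete intersection morphism). Then f is Koszul at every point of X, and g is Koszul at
the point f x for each x ∈ X. -/
theorem result {X Y S : Scheme.{u}} (f : X ⟶ Y) (g : Y ⟶ S) [IsLocallyNoetherian S] [LocallyOfFiniteType g]
    (hY : Models.IsRegularScheme Y) (h : ∀ x : X, Synt.IsKoszulAt (f ≫ g) x) :
    (∀ x : X, Synt.IsKoszulAt f x) ∧ ∀ x : X, Synt.IsKoszulAt g (f x) := by
  have h' := (K561.LciDict.forall_isKoszulAt_iff (f ≫ g)).1 h
  have hYN : IsLocallyNoetherian Y := LocallyOfFiniteType.isLocallyNoetherian g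
  have hfg : LocallyOfFiniteType (f ≫ g) := ⟨fun hU _ hV e => (h' _ _ hV hU e).1⟩
  have hfT : LocallyOfFiniteType f := locallyOfFiniteType_of_comp f g
  have key := fun x => K259.LciPerf.main f g h' x (fun U V hU hV hUV => by
    let := (f.appLE V U hUV).hom.toAlgebra
    have h1 : Algebra.FiniteType Γ(Y, V) Γ(X, U) :=
      HasRingHomProperty.appLE (P := @LocallyOfFiniteType) f inferInstance ⟨V, hV⟩ ⟨U, hU⟩ hUV
    refine ⟨h1, ?_⟩
    have hreg : IsRegularRing Γ(Y, V) := Groth.Agent.S1493.isRegularRing_section hY hV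
    obtain ⟨n, φ, hφ⟩ := Algebra.FiniteType.iff_quotient_mvPolynomial''.1 h1
    let : Algebra (MvPolynomial (Fin n) Γ(Y, V)) Γ(X, U) := φ.toRingHom.toAlgebra
    have : IsScalarTower Γ(Y, V) (MvPolynomial (Fin n) Γ(Y, V)) Γ(X, U) :=
      IsScalarTower.of_algebraMap_eq fun r => (φ.commutes r).symm
    have hfin : Module.Finite (MvPolynomial (Fin n) Γ(Y, V)) Γ(X, U) :=
      Module.Finite.of_surjective (Algebra.linearMap (MvPolynomial (Fin n) Γ(Y, V)) Γ(X, U)) hφ
    have : Module.Finite (MvPolynomial (Fin n) Γ(Y, V))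
      (ModuleCat.of (MvPolynomial (Fin n) Γ(Y, V)) Γ(X, U)) := hfin
    obtain ⟨d, hd⟩ := Groth.Agent.Sga2.RegPd.exists_pd (MvPolynomial (Fin n) Γ(Y, V))
      (ModuleCat.of (MvPolynomial (Fin n) Γ(Y, V)) Γ(X, U))
    rw [← Groth.Agent.Flat2H.TorDimPoly.hasFiniteTorDim_mvPolynomial_iff n]
    exact ⟨d, Groth.Agent.Flat2H.TorDimPoly.hasTorDimLE_of_hasProjectiveDimensionLE hd⟩)
  refine ⟨?_, fun x => (key x).2⟩
  rw [K561.LciDict.forall_isKoszulAt_iff, K561.LciDict.LM_iff_exists]
  exact fun x => (key x).1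

end Groth.Agent.S9775
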