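import Groth.Statements.S9778
import Groth.Agent.S1482
import Groth.Agent.FlatMor.K259.InsepRes
import Mathlib.AlgebraicGeometry.Morphisms.Proper
-- import your own Groth.Agent.* helpers here

set_option autoImplicit false
universe u
open FlatMor

namespace Groth.Agent.S9778

open AlgebraicGeometry CategoryTheory Limits in
/-- Let f : X ⟶ S be separated and locally of finite type, s a point of S and x_1, …, x_n pairwise
distinct points of X over s at which f is quasi-finite (isolated points of the fibre). Then there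
are an étale morphism g : U ⟶ S with a point u over s and finitely many pairwise disjoint open and
closed subschemes V_{i,j} of X_U = X ×_S U, each finite over U and containing exactly one point
v_{i,j} over u, with v_{i,j} mapping to x_i and κ(v_{i,j}) purely inseparable over κ(u), such that
every point of X_U over u mapping to some x_i lies in one of the V_{i,j} (so the open and closed
complement W of their union has no point over u mapping to any x_i). -/
theorem result {X S : Scheme.{u}} (f : X ⟶ S) [LocallyOfFiniteType f] [IsSeparated f] (s : S)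
    {ι : Type} [Finite ι] (x : ι → ↑X) (hinj : Function.Injective x) (hs : ∀ i, f (x i) = s) (hx : ∀ i, f.QuasiFiniteAt (x i)) :
    ∃ (U : Scheme.{u}) (g : U ⟶ S) (u : U), Etale g ∧ g u = s ∧
      ∃ (J : ι → Type) (_ : ∀ i, Finite (J i)) (V : ∀ i, J i → (pullback f g).Opens) (v : ∀ i, J i → ↑(pullback f g)),
        (∀ i j, IsClopen ((V i j : Set ↑(pullback f g)))) ∧
        (∀ i j i' j', ((V i j : Set ↑(pullback f g)) ∩ (V i' j')).Nonempty → i = i' ∧ HEq j j') ∧
        (∀ i j, v i j ∈ V i j ∧ IsFinite ((V i j).ι ≫ pullback.snd f g) ∧ pullback.snd f g (v i j) = u ∧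
          (∀ w : ↑(pullback f g), w ∈ V i j → pullback.snd f g w = u → w = v i j) ∧
          (letI := ((pullback.snd f g).residueFieldMap (v i j)).hom.toAlgebra
           IsPurelyInseparable ↑(U.residueField (pullback.snd f g (v i j))) ↑((pullback f g).residueField (v i j))) ∧
          pullback.fst f g (v i j) = x i) ∧
        (∀ (w : ↑(pullback f g)) (i : ι), pullback.snd f g w = u → pullback.fst f g w = x i → ∃ j, w ∈ V i j) := by
  classical
  obtain ⟨U, g, u, hg, hgu, J, hJ, V, v, hV, hinj', hcov⟩ := Groth.Agent.S1482.result f s x hinj hs hx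
  -- the pieces are clopen
  have hclopen : ∀ i j, IsClopen (V i j : Set ↑(pullback f g)) := by
    intro i j
    have h0 := (hV i j).2.1
    have h1 : IsProper ((V i j).ι ≫ pullback.snd f g) := inferInstance
    have h2 : IsProper (V i j).ι := IsProper.of_comp (V i j).ι (pullback.snd f g)
    refine ⟨?_, (V i j).2⟩
    have := (V i j).ι.isClosedMap.isClosed_range
    rwa [Scheme.Opens.range_ι] at this
  have himg : ∀ i j (C : Set ↑(pullback f g)), C ⊆ V i j → IsClosed C → IsClosed (pullback.snd f g '' C) := by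
    intro i j C hC hCc
    have h0 := (hV i j).2.1
    have h1 : UniversallyClosed ((V i j).ι ≫ pullback.snd f g) := inferInstance
    have h2 : pullback.snd f g '' C = ((V i j).ι ≫ pullback.snd f g) '' ((V i j).ι ⁻¹' C) := by
      ext z
      constructor
      · rintro ⟨c, hc, rfl⟩
        exact ⟨⟨c, hC hc⟩, hc, rfl⟩
      · rintro ⟨c, hc, rfl⟩
        exact ⟨(V i j).ι c, hc, rfl⟩
    rw [h2]
    exact ((V i j).ι ≫ pullback.snd f g).isClosedMap _ (hCc.preimage (V i j).ι.continuous)
  -- the bad locus
  let T := Σ i, J i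
  have : Finite T := inferInstance
  let B : T × T → Set U := fun t => if t.1 = t.2 then ∅ else
    pullback.snd f g '' ((V t.1.1 t.1.2 : Set ↑(pullback f g)) ∩ V t.2.1 t.2.2)
  have hBc : IsClosed (⋃ t, B t) := by
    refine isClosed_iUnion_of_finite fun t => ?_
    by_cases h : t.1 = t.2
    · simp [B, h]
    · simp only [B, h, if_false]
      exact himg _ _ _ Set.inter_subset_left ((hclopen _ _).1.inter (hclopen _ _).1)
  let W : U.Opens := ⟨(⋃ t, B t)ᶜ, hBc.isOpen_compl⟩
  have huW : u ∈ W := by
    intro hmem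
    obtain ⟨t, ht⟩ := Set.mem_iUnion.1 hmem
    by_cases h : t.1 = t.2
    · simp [B, h] at ht
    · simp only [B, h, if_false] at ht
      obtain ⟨w, ⟨hw1, hw2⟩, hwu⟩ := ht
      have e1 := (hV _ _).2.2.2.1 w hw1 hwu
      have e2 := (hV _ _).2.2.2.1 w hw2 hwu
      obtain ⟨e3, e4⟩ := hinj' _ _ _ _ (e1.symm.trans e2)
      exact h (Sigma.ext e3 e4)
  -- restrict
  let g' := W.ι ≫ g
  let q : pullback f g' ⟶ pullback f g := pullback.lift (pullback.fst f g') (pullback.snd f g' ≫ W.ι)
    (by rw [Category.assoc]; exact pullback.condition)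
  have hq1 : q ≫ pullback.fst f g = pullback.fst f g' := pullback.lift_fst _ _ _
  have hq2 : q ≫ pullback.snd f g = pullback.snd f g' ≫ W.ι := pullback.lift_snd _ _ _
  have hsq : IsPullback q (pullback.snd f g') (pullback.snd f g) W.ι := by
    refine IsPullback.of_right (h₁₂ := pullback.fst f g) (h₂₂ := g) (v₁₃ := f) ?_ hq2
      (IsPullback.of_hasPullback f g)
    rw [hq1]
    exact IsPullback.of_hasPullback f g'
  have hqo : IsOpenImmersion q := MorphismProperty.of_isPullback hsq.flip inferInstance
  have hq1' : ∀ z, pullback.fst f g (q z) = pullback.fst f g' z := fun z => by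
    rw [← Scheme.Hom.comp_apply, hq1]
  have hq2' : ∀ z, pullback.snd f g (q z) = W.ι (pullback.snd f g' z) := fun z => by
    rw [← Scheme.Hom.comp_apply, hq2]; rfl
  let u' : W := ⟨u, huW⟩
  have hu' : W.ι u' = u := rfl
  have hv' : ∀ i j, ∃ v' : ↑(pullback f g'), q v' = v i j ∧ pullback.snd f g' v' = u' := fun i j =>
    Scheme.exists_preimage_of_isPullback hsq (v i j) u' (by
      change pullback.snd f g (v i j) = W.ι u'
      rw [(hV i j).2.2.1, hu'])
  choose v' hv'1 hv'2 using hv'
  refine ⟨W, g', u', inferInstance, ?_, J, hJ, fun i j => q ⁻¹ᵁ V i j, v', ?_, ?_, ?_, ?_⟩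
  · change g (W.ι u') = s
    exact hgu
  · intro i j
    exact (hclopen i j).preimage q.continuous
  · rintro i j i' j' ⟨w, hw1, hw2⟩
    by_contra hne
    have hne' : (⟨i, j⟩ : T) ≠ ⟨i', j'⟩ := fun h => hne ⟨congrArg Sigma.fst h, (Sigma.ext_iff.1 h).2⟩
    have hmem : W.ι (pullback.snd f g' w) ∈ (⋃ t, B t)ᶜ := (pullback.snd f g' w).2
    apply hmem
    refine Set.mem_iUnion.2 ⟨(⟨i, j⟩, ⟨i', j'⟩), ?_⟩
    simp only [B, hne', if_false]
    exact ⟨q w, ⟨hw1, hw2⟩, hq2' w⟩
  · intro i j
    obtain ⟨h1, h2, h3, h4, h5, h6⟩ := hV i j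
    refine ⟨?_, ?_, hv'2 i j, ?_, ?_, ?_⟩
    · change q (v' i j) ∈ V i j
      rw [hv'1]; exact h1
    · have e1 := isPullback_morphismRestrict q (V i j)
      have e2 : IsPullback (q ∣_ V i j) ((q ⁻¹ᵁ V i j).ι ≫ pullback.snd f g') ((V i j).ι ≫ pullback.snd f g) W.ι :=
        e1.paste_vert hsq
      exact MorphismProperty.of_isPullback e2 h2
    · intro w hw hwu
      apply q.isOpenEmbedding.injective
      rw [hv'1]
      exact h4 _ hw (by rw [hq2', hwu, hu'])
    · refine K259.InsepRes.isPurelyInseparable_of_open (pullback.snd f g) (pullback.snd f g') q W.ι hq2 (v' i j) ?_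
      rw [hv'1]
      exact h5.2
    · rw [← hq1', hv'1, h6]
  · intro w i hwu hwx
    obtain ⟨j, hj⟩ := hcov (q w) i (by rw [hq2', hwu, hu']) (by rw [hq1', hwx])
    refine ⟨j, ?_⟩
    change q w ∈ V i j
    rw [hj]
    exact (hV i j).1

end Groth.Agent.S9778
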