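import Groth.Statements.S9780
import Groth.Agent.Cons9.K119.BCAss3

set_option autoImplicit false
universe u
open FlatMor

namespace Groth.Agent.S9780

open AlgebraicGeometry CategoryTheory Limits in
/-- Let f : X ⟶ S be locally of finite type, F a quasi-coherent O_X-module of finite type and U ⊆ X an
open subscheme. For a base change f' : X' ⟶ S' of f along S' ⟶ S with projection g' : X' ⟶ X, F' =
(g')^*F and U' = (g')⁻¹(U), and a point s' of S' with image s: the associated points of F on the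
fibre X_s lie in U if and only if the associated points of F' on the fibre X'_{s'} lie in U'. -/
theorem result {X S X' S' : Scheme.{u}} (f : X ⟶ S) [LocallyOfFiniteType f] (F : X.Modules) [Coh.IsQCoh F]
    (hF : CohB1.IsFT F) (U : X.Opens) (g : S' ⟶ S) (f' : X' ⟶ S') (g' : X' ⟶ X) (hc : IsPullback g' f' f g) (s' : S') :
    {x : ↑X | x ∈ MoreMor.relAss f F ∧ f x = g s'} ⊆ (U : Set ↑X) ↔
      {x' : ↑X' | x' ∈ MoreMor.relAss f' ((Scheme.Modules.pullback g').obj F) ∧ f' x' = s'} ⊆ (g' ⁻¹ᵁ U : Set ↑X') := by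
  constructor
  · rintro h x' ⟨hx', rfl⟩
    have h1 := (K119.BCAss3.mem_relAss_iff hc F x').mp hx'
    exact h ⟨h1.1, K119.BCAss3.comm_apply hc x'⟩
  · rintro h x ⟨hx, hxs⟩
    obtain ⟨x', rfl, h2, h3⟩ := K119.BCAss3.exists_maxOver_point hc hxs
    exact h ⟨(K119.BCAss3.mem_relAss_iff hc F x').mpr ⟨hx, h3⟩, h2⟩

end Groth.Agent.S9780
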