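import Groth.Statements.S9789
import Groth.Agent.FlatMor.K115.SmStrat
import Groth.Agent.Divis.IdealFT

set_option autoImplicit false
universe u
open FlatMor

namespace Groth.Agent.S9789

open AlgebraicGeometry CategoryTheory Limits in
/-- For f : X ⟶ S locally of finite presentation, quasi-compact and quasi-separated, with X and S
quasi-compact and quasi-separated, one can find t ≥ 0 and closed subschemes S ⊃ S_0 ⊃ S_1 ⊃ … ⊃ S_t
= ∅, each cut out by an ideal sheaf of finite type (written as ideals I_0 ≤ … ≤ I_t = O_S), with S_0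
⊂ S a thickening, and for each i a surjective finite locally free morphism T_i ⟶ S_i ∖ S_{i+1}
together with t_i ≥ 0 and closed subschemes X ×_S T_i ⊃ Z_{i,0} ⊃ … ⊃ Z_{i,t_i} = ∅ cut out by
finite type ideal sheaves, Z_{i,0} a thickening, such that each Z_{i,j} ∖ Z_{i,j+1} is smooth over
T_i. -/
theorem result {X S : Scheme.{u}} (f : X ⟶ S) [LocallyOfFinitePresentation f] [QuasiCompact f] [QuasiSeparated f]
    [CompactSpace ↑S] [QuasiSeparatedSpace ↑S] [CompactSpace ↑X] [QuasiSeparatedSpace ↑X] :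
    ∃ (t : ℕ) (I : Fin (t + 1) → S.IdealSheafData), Monotone I ∧ I (Fin.last t) = ⊤ ∧ ((I 0).support : Set ↑S) = Set.univ ∧
      (∀ i, ∀ U : S.affineOpens, ((I i).ideal U).FG) ∧
      ∀ i : Fin t, ∃ (T : Scheme.{u}) (v : T ⟶ ↑((I i.castSucc).subschemeι ⁻¹ᵁ (I i.succ).support.compl)),
        Surjective v ∧ Mor2.IsFinLocFree v ∧
        ∃ (t' : ℕ) (J : Fin (t' + 1) → (pullback f (v ≫ ((I i.castSucc).subschemeι ⁻¹ᵁ (I i.succ).support.compl).ι ≫ (I i.castSucc).subschemeι)).IdealSheafData),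
          Monotone J ∧ J (Fin.last t') = ⊤ ∧ ((J 0).support : Set ↑(pullback f (v ≫ ((I i.castSucc).subschemeι ⁻¹ᵁ (I i.succ).support.compl).ι ≫ (I i.castSucc).subschemeι))) = Set.univ ∧
          (∀ j, ∀ O : (pullback f (v ≫ ((I i.castSucc).subschemeι ⁻¹ᵁ (I i.succ).support.compl).ι ≫ (I i.castSucc).subschemeι)).affineOpens, ((J j).ideal O).FG) ∧
          ∀ j : Fin t', Smooth (((J j.castSucc).subschemeι ⁻¹ᵁ (J j.succ).support.compl).ι ≫ (J j.castSucc).subschemeι ≫ pullback.snd f (v ≫ ((I i.castSucc).subschemeι ⁻¹ᵁ (I i.succ).support.compl).ι ≫ (I i.castSucc).subschemeι)) := by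
  classical
  -- finite affine cover of the base
  obtain ⟨t, ht⟩ := (isCompact_univ : IsCompact (Set.univ : Set S)).elim_finite_subcover
    (fun U : S.affineOpens => ((U : S.Opens) : Set S)) (fun U => U.1.2) (fun x _ => by
      obtain ⟨_, ⟨V, hV, rfl⟩, hxV, -⟩ :=
        S.isBasis_affineOpens.exists_subset_of_mem_open (Set.mem_univ x) isOpen_univ
      exact Set.mem_iUnion.mpr ⟨⟨V, hV⟩, hxV⟩)
  let U : t → S.affineOpens := fun a => a.1
  have hU : ⨆ a, (U a : S.Opens) = ⊤ := by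
    rw [eq_top_iff]
    intro x _
    have := ht (Set.mem_univ x)
    simp only [Set.mem_iUnion] at this
    obtain ⟨V, hV, hxV⟩ := this
    exact TopologicalSpace.Opens.mem_iSup.mpr ⟨⟨V, hV⟩, hxV⟩
  let P : ∀ a : t, Ideal Γ(S, (U a : S.Opens)) → Ideal Γ(S, (U a : S.Opens)) → Prop :=
    fun a I J => K115.SmStrat.Pr (A := Γ(S, U a)) (pullback.snd f (U a).2.fromSpec) I J
  obtain ⟨k, I, hmono, hlast, hsupp, hFT, hI⟩ :=
    Groth.Agent.Flat2G.StratGlue.exists_stratification U P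
      (fun I W hW hIW => Groth.Agent.Divis.IdealFT.exists_ft_eqOn I W hW hIW)
      (fun a I I' J J' h h1 h2 => h.mono h1 h2)
      (fun a J => K115.SmStrat.Pr.top J)
      (fun a => K115.SmStrat.exists_chain (A := Γ(S, U a)) (pullback.snd f (U a).2.fromSpec)) hU
  refine ⟨k, I, hmono, hlast, hsupp, hFT, fun i => ?_⟩
  obtain ⟨a, ha, hPa⟩ := hI i
  obtain ⟨T, v, hv1, hv2, t', J, h3, h4, h5, h6, h7⟩ :=
    K115.SmStrat.smLike_stratι f (I i.castSucc) (I i.succ) (U a) ha hPa
  refine ⟨T, v, hv1, hv2, t', J, h3, h4, h5, h6, fun j => ?_⟩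
  have := h7 j
  rw [Category.assoc] at this
  exact this

end Groth.Agent.S9789
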