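import Groth.Statements.S9807
import Groth.Agent.Props.K592.ClosedReg

set_option autoImplicit false
universe u
open CategoryTheory AlgebraicGeometry TopologicalSpace
open Props

namespace Groth.Agent.S9807

/-- A locally Noetherian scheme is regular (all local rings regular) as soon as its local rings at
closed points are regular, and conversely. -/
theorem result (X : Scheme.{u}) [IsLocallyNoetherian X] :
    (∀ x : X, IsRegularLocalRing (X.presheaf.stalk x)) ↔
      ∀ x : X, IsClosed ({x} : Set X) → IsRegularLocalRing (X.presheaf.stalk x) := by
  refine ⟨fun h x _ => h x, fun h x => ?_⟩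
  obtain ⟨y, hxy, hy⟩ := K592.ClosedPts.exists_closed_specialization x
  exact K592.ClosedReg.isRegularLocalRing_of_specializes hxy (h y hy)

end Groth.Agent.S9807
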