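import Groth.Statements.S9822
import Mathlib.AlgebraicGeometry.Limits

set_option autoImplicit false
universe u
open CategoryTheory CategoryTheory.Limits AlgebraicGeometry TopologicalSpace Opposite
open Props

namespace Groth.Agent.S9822

/-- A scheme is irreducible if and only if it is nonempty and every nonempty affine open subset is
irreducible. -/
theorem result (X : Scheme.{u}) :
    IrreducibleSpace X ↔ Nonempty X ∧ ∀ U : X.Opens, IsAffineOpen U → (U : Set X).Nonempty → IsIrreducible (U : Set X) := by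
  constructor
  · intro hX
    refine ⟨inferInstance, fun U _ hne => ⟨hne, ?_⟩⟩
    exact (PreirreducibleSpace.isPreirreducible_univ (X := X)).open_subset U.isOpen
      (Set.subset_univ _)
  · rintro ⟨hne, h⟩
    refine @IrreducibleSpace.mk X _ ⟨?_⟩ hne
    rintro A B hA hB ⟨x, -, hx⟩ ⟨y, -, hy⟩
    obtain ⟨U, hU, hxU, hUA⟩ :=
      exists_isAffineOpen_mem_and_subset (X := X) (x := x) (U := ⟨A, hA⟩) hx
    obtain ⟨V, hV, hyV, hVB⟩ :=
      exists_isAffineOpen_mem_and_subset (X := X) (x := y) (U := ⟨B, hB⟩) hy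
    by_contra hcon
    have hdisj : Disjoint U V := by
      rw [disjoint_iff, ← le_bot_iff]
      intro z hz
      exact (hcon ⟨z, trivial, hUA hz.1, hVB hz.2⟩).elim
    obtain ⟨z, -, hzU, hzV⟩ := (h (U ⊔ V) (hU.sup_of_disjoint hV hdisj) ⟨x, Or.inl hxU⟩).2 U V
      U.isOpen V.isOpen ⟨x, Or.inl hxU, hxU⟩ ⟨y, Or.inr hyV, hyV⟩
    exact hcon ⟨z, trivial, hUA hzU, hVB hzV⟩

end Groth.Agent.S9822
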