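import Groth.Statements.S9823
import Groth.Agent.PerfA.FGIdeal
import Groth.Agent.Flat2G.StratSpread

set_option autoImplicit false
universe u
open CategoryTheory CategoryTheory.Limits AlgebraicGeometry TopologicalSpace Opposite
open Props

namespace Groth.Agent.S9823

/-- In a quasi-compact quasi-separated scheme, an open subset is quasi-compact exactly when its
complement is the support of some quasi-coherent ideal sheaf of finite type. -/
theorem result (X : Scheme.{u}) [CompactSpace X] [QuasiSeparatedSpace X]
    (U : X.Opens) :
    IsCompact (U : Set X) ↔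
      ∃ I : X.IdealSheafData, (∀ V : X.affineOpens, (I.ideal V).FG) ∧ (I.support : Set X) = (U : Set X)ᶜ := by
  constructor
  · intro hU
    obtain ⟨I, h1, -, -, h2⟩ := Groth.Agent.PerfA.FGIdeal.exists_fg_of_isCompact U hU
    exact ⟨I, h1, h2⟩
  · rintro ⟨I, h1, h2⟩
    have h := Groth.Agent.Flat2G.StratSpread.isCompact_support_compl I h1
    have e : ((I.support.compl : X.Opens) : Set X) = (U : Set X) := by
      change (I.support : Set X)ᶜ = _
      rw [h2, compl_compl]
    rwa [e] at h

end Groth.Agent.S9823
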