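import Groth.Statements.S9826
import Groth.Agent.PerfC.FPSections

set_option autoImplicit false
universe u
open CategoryTheory CategoryTheory.Limits AlgebraicGeometry TopologicalSpace Opposite
open Props

namespace Groth.Agent.S9826

/-- The sheaf associated to a module over a ring is of finite type on the spectrum if and only if the
module is finitely generated. -/
theorem result (R : CommRingCat.{u}) (M : ModuleCat.{u} R) :
    CohB1.IsFT (tilde M) ↔ Module.Finite R M := by
  constructor
  · intro h
    have h2 : Module.Finite R ((modulesSpecToSheaf.obj (tilde M)).presheaf.obj (.op ⊤)) :=
      Groth.Agent.CohqB.FiniteType2.finite_of_isFT _ h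
    exact Module.Finite.equiv (tilde.isoTop M).symm.toLinearEquiv
  · intro h
    exact Groth.Agent.PerfC.FPSections.isFT_of_gfg
      (Groth.Agent.CohqA.FinAffine.exists_generatingSections_of_finite M)

end Groth.Agent.S9826
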