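import Groth.Statements.S9830
import Groth.Agent.Sga3B.DirSep898
import Mathlib.AlgebraicGeometry.Limits

set_option autoImplicit false
universe u
open CategoryTheory AlgebraicGeometry TopologicalSpace
open Props

namespace Groth.Agent.S9830

/-- A scheme whose underlying space is Hausdorff is separated. (The published statement assumes X of
dimension zero; a Hausdorff scheme always has dimension at most zero, so this row omits that
hypothesis.) -/
theorem result (X : Scheme.{u}) [T2Space X] : X.IsSeparated := by
  have hpt : ∀ x y : X, ∃ U : X.Opens, IsAffineOpen U ∧ x ∈ U ∧ y ∈ U := by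
    intro x y
    by_cases hxy : x = y
    · subst hxy
      obtain ⟨U, hU, hx, -⟩ := exists_isAffineOpen_mem_and_subset (X := X) (x := x) (U := ⊤) trivial
      exact ⟨U, hU, hx, hx⟩
    · obtain ⟨A, B, hA, hB, hxA, hyB, hAB⟩ := t2_separation hxy
      obtain ⟨U, hU, hx, hUA⟩ := exists_isAffineOpen_mem_and_subset (X := X) (x := x) (U := ⟨A, hA⟩) hxA
      obtain ⟨V, hV, hy, hVB⟩ := exists_isAffineOpen_mem_and_subset (X := X) (x := y) (U := ⟨B, hB⟩) hyB
      refine ⟨U ⊔ V, hU.sup_of_disjoint hV ?_, Or.inl hx, Or.inr hy⟩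
      rw [disjoint_iff, ← le_bot_iff]
      intro z hz
      exact (Set.disjoint_left.1 hAB (hUA hz.1) (hVB hz.2)).elim
  refine ⟨Groth.Agent.Sga3B.DirSep898.isSeparated_of_directed (Limits.terminal.from X)
    (ι := X.affineOpens) (fun i => (i : X.Opens).toScheme) (fun i => (i : X.Opens).ι) ?_ ?_⟩
  · intro i
    have : IsAffine (i : X.Opens).toScheme := i.2
    infer_instance
  · intro x y
    obtain ⟨U, hU, hx, hy⟩ := hpt x y
    exact ⟨⟨U, hU⟩, by simpa using hx, by simpa using hy⟩

end Groth.Agent.S9830
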