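import Groth.Statements.S9832
import Groth.Agent.S3432

set_option autoImplicit false
universe u
open Props

namespace Groth.Agent.S9832

/-- For a Noetherian ring R and an ideal I inside the Jacobson radical of R, the complement of V(I) in
Spec R is a Jacobson topological space. -/
theorem result (R : Type u) [CommRing R] [IsNoetherianRing R]
    (I : Ideal R) (hI : I ≤ (⊥ : Ideal R).jacobson) :
    JacobsonSpace ↥((PrimeSpectrum.zeroLocus (I : Set R))ᶜ) := by
  have hmeet : ∀ Z : Set (PrimeSpectrum R), IsClosed Z → Z.Nonempty →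
      (Z ∩ PrimeSpectrum.zeroLocus (I : Set R)).Nonempty := by
    intro Z hZ hne
    obtain ⟨x, hx⟩ := hne
    obtain ⟨M, hM, hxM⟩ := Ideal.exists_le_maximal x.asIdeal x.isPrime.ne_top
    refine ⟨(⟨M, hM.isPrime⟩ : PrimeSpectrum R), ?_, ?_⟩
    · have hspec : x ⤳ (⟨M, hM.isPrime⟩ : PrimeSpectrum R) :=
        (PrimeSpectrum.le_iff_specializes _ _).1 hxM
      exact hspec.mem_closed hZ hx
    · rw [PrimeSpectrum.mem_zeroLocus, SetLike.coe_subset_coe]
      exact hI.trans (sInf_le ⟨bot_le, hM⟩)
  have hS : AlgebraicGeometry.IsLocallyNoetherian (AlgebraicGeometry.Spec (CommRingCat.of R)) :=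
    inferInstance
  exact Groth.Agent.S3432.result (AlgebraicGeometry.Spec (CommRingCat.of R))
    (PrimeSpectrum.zeroLocus (I : Set R)) (PrimeSpectrum.isClosed_zeroLocus _) hmeet

end Groth.Agent.S9832
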