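import Groth.Statements.S9833
import Groth.Agent.Props.K593.LocalN2
import Mathlib.AlgebraicGeometry.Noetherian

set_option autoImplicit false
universe u
open CategoryTheory AlgebraicGeometry TopologicalSpace
open Props

namespace Groth.Agent.S9833

/-- If a scheme has an affine open covering by spectra of Nagata rings, then the coordinate ring of
every affine open is Nagata. -/
theorem result (X : Scheme.{u}) {ι : Type u} (U : ι → X.Opens)
    (hU : iSup U = ⊤) (haff : ∀ i, IsAffineOpen (U i)) (hN : ∀ i, CAlg.IsNagata Γ(X, U i))
    (V : X.Opens) (hV : IsAffineOpen V) : CAlg.IsNagata Γ(X, V) := by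
  have hX : IsLocallyNoetherian X := isLocallyNoetherian_of_affine_cover
    (S := fun i => (⟨U i, haff i⟩ : X.affineOpens)) hU fun i => (hN i).1
  refine of_affine_open_cover (P := fun W : X.affineOpens => CAlg.IsNagata Γ(X, W))
    (fun i => (⟨U i, haff i⟩ : X.affineOpens)) hU ⟨V, hV⟩ ?_ ?_ hN
  · intro W f hW
    have := W.2.isLocalization_basicOpen f
    exact Groth.Agent.Ega4B.NagBasic.isNagata_localization hW (Submonoid.powers f)
      Γ(X, X.basicOpen f)
  · intro W s hs H
    refine K593.LocalN2.isNagata_of_span (hX.component_noetherian W) s hs fun f hf => ?_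
    exact ⟨Γ(X, X.basicOpen f), inferInstance, inferInstance, W.2.isLocalization_basicOpen f,
      H ⟨f, hf⟩⟩

end Groth.Agent.S9833
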