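import Groth.Statements.S9834
import Groth.Agent.Props.K593.LocalN2
import Mathlib.AlgebraicGeometry.AffineScheme

set_option autoImplicit false
universe u
open CategoryTheory AlgebraicGeometry TopologicalSpace
open Props

namespace Groth.Agent.S9834

/-- If a scheme has an affine open covering by spectra of universally Japanese rings, then the
coordinate ring of every affine open is universally Japanese. -/
theorem result (X : Scheme.{u}) {ι : Type u} (U : ι → X.Opens)
    (hU : iSup U = ⊤) (haff : ∀ i, IsAffineOpen (U i)) (hJ : ∀ i, CAlg.IsUniversallyJapanese Γ(X, U i))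
    (V : X.Opens) (hV : IsAffineOpen V) : CAlg.IsUniversallyJapanese Γ(X, V) := by
  refine of_affine_open_cover (P := fun W : X.affineOpens => CAlg.IsUniversallyJapanese Γ(X, W))
    (fun i => (⟨U i, haff i⟩ : X.affineOpens)) hU ⟨V, hV⟩ ?_ ?_ hJ
  · intro W f hW
    have := W.2.isLocalization_basicOpen f
    have hft : Algebra.FiniteType Γ(X, W) Γ(X, X.basicOpen f) :=
      IsLocalization.finiteType_of_monoid_fg (Submonoid.powers f) _
    have h : CAlg.IsUniversallyJapanese Γ(X, X.basicOpen f) :=
      K593.LocalN2.isUniversallyJapanese_of_finiteType (R := Γ(X, W)) hW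
    exact h
  · intro W s hs H
    refine K593.LocalN2.isUniversallyJapanese_of_span s hs fun f hf => ?_
    exact ⟨Γ(X, X.basicOpen f), inferInstance, inferInstance, W.2.isLocalization_basicOpen f,
      H ⟨f, hf⟩⟩

end Groth.Agent.S9834
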