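import Groth.Statements.S9835
import Groth.Agent.Props.K593.LocalN2
import Mathlib.AlgebraicGeometry.FunctionField

set_option autoImplicit false
universe u
open CategoryTheory AlgebraicGeometry TopologicalSpace
open Props

namespace Groth.Agent.S9835

/-- If an integral scheme has an affine open covering by spectra of Japanese (N-2) domains, then the
coordinate ring of every nonempty affine open is a Japanese domain. -/
theorem result (X : Scheme.{u}) [IsIntegral X] {ι : Type u}
    (U : ι → X.Opens) [∀ i, Nonempty (U i)] (hU : iSup U = ⊤) (haff : ∀ i, IsAffineOpen (U i))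
    (hJ : ∀ i, CAlg.IsN2 Γ(X, U i)) (V : X.Opens) [Nonempty V] (hV : IsAffineOpen V) :
    CAlg.IsN2 Γ(X, V) := by
  refine of_affine_open_cover
    (P := fun W : X.affineOpens => ∀ _ : Nonempty (W : X.Opens), CAlg.IsN2 Γ(X, W))
    (fun i => (⟨U i, haff i⟩ : X.affineOpens)) hU ⟨V, hV⟩ ?_ ?_ (fun i _ => hJ i) inferInstance
  · intro W f hW hne
    have hW' : Nonempty (W : X.Opens) :=
      hne.elim fun x => ⟨⟨x.1, X.basicOpen_le f x.2⟩⟩
    have hne' : Nonempty (X.basicOpen f) := hne
    have := W.2.isLocalization_basicOpen f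
    have hle : Submonoid.powers f ≤ nonZeroDivisors Γ(X, W) := by
      refine powers_le_nonZeroDivisors_of_noZeroDivisors fun hf0 => ?_
      obtain ⟨x⟩ := hne'
      have h0 : X.basicOpen f = ⊥ := (basicOpen_eq_bot_iff f).2 hf0
      exact (h0.le x.2 :)
    exact Groth.Agent.Ega4B.NagBasic.isN2_localization (hW hW') (Submonoid.powers f) hle
      Γ(X, X.basicOpen f)
  · intro W s hs H hne
    have hne' : Nonempty (W : X.Opens) := hne
    refine K593.LocalN2.isN2_of_span s hs fun f hf hf0 => ?_
    have hnef : Nonempty (X.basicOpen f) := by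
      by_contra hcon
      apply hf0
      have h0 : X.basicOpen f = ⊥ := by
        rw [← le_bot_iff]
        intro x hx
        exact (hcon ⟨⟨x, hx⟩⟩).elim
      exact (basicOpen_eq_bot_iff f).1 h0
    exact ⟨Γ(X, X.basicOpen f), inferInstance, inferInstance, inferInstance,
      W.2.isLocalization_basicOpen f, H ⟨f, hf⟩ hnef⟩

end Groth.Agent.S9835
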