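import Groth.Statements.S9836
import Groth.Agent.Props.K593.TorsionQC
import Groth.Agent.S3669

set_option autoImplicit false
universe u
open CategoryTheory CategoryTheory.Limits AlgebraicGeometry
open Props

namespace Groth.Agent.S9836

/-- For a closed immersion i : Z → X with ideal sheaf of finite type and a quasi-coherent O_X-module F,
the subsheaf of sections of F annihilated by the ideal, namely i_* Hom(O_Z, F) for the right adjoint
Hom(O_Z, -) of i_*, is a quasi-coherent O_X-module. -/
theorem result {Z X : Scheme.{u}} (i : Z ⟶ X)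
    [IsClosedImmersion i] [LocallyOfFinitePresentation i] [Dual3.HasHomO i] (F : X.Modules) [Coh.IsQCoh F] :
    Coh.IsQCoh ((Scheme.Modules.pushforward i).obj ((Dual3.homO i).obj F)) := by
  have hfg : ∀ U : X.affineOpens, (i.ker.ideal U).FG := by
    intro U
    have hUY : IsAffineOpen (i ⁻¹ᵁ U.1) := U.2.preimage i
    have h1 : (i.appLE U.1 (i ⁻¹ᵁ U.1) le_rfl).hom.FinitePresentation :=
      i.finitePresentation_appLE U.2 hUY le_rfl
    have h2 : i.appLE U.1 (i ⁻¹ᵁ U.1) le_rfl = i.app U.1 := i.app_eq_appLE.symm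
    rw [h2] at h1
    let _ : Algebra Γ(X, U.1) Γ(Z, i ⁻¹ᵁ U.1) := (i.app U.1).hom.toAlgebra
    have hfp : Algebra.FinitePresentation Γ(X, U.1) Γ(Z, i ⁻¹ᵁ U.1) := h1
    have h3 := Algebra.FinitePresentation.ker_fG_of_surjective
      (Algebra.ofId Γ(X, U.1) Γ(Z, i ⁻¹ᵁ U.1)) (i.app_surjective U.1 U.2)
    rw [Scheme.Hom.ker_apply]
    exact h3
  exact K593.TorsionQC.isQCoh_of_torsion ((Dual3.homOAdj i).counit.app F) ‹Coh.IsQCoh F› i.ker hfg
    (fun U => (Groth.Agent.S3669.main i F U).1) (fun U => (Groth.Agent.S3669.main i F U).2)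

end Groth.Agent.S9836
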