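import Groth.Statements.S9838
import Groth.Agent.Ega1.QcqsPush
import Groth.Agent.Ega1.QCohFinite
import Groth.Agent.Ega1.QCohOfLoc

set_option autoImplicit false
open CategoryTheory CategoryTheory.Limits AlgebraicGeometry Opposite
universe u
open Desc

namespace Groth.Agent.S9838

/-- Let f : X ⟶ Y be a finite morphism of schemes and F a quasi-coherent O_X-module. The pushforward
f_*F is of finite type as an O_Y-module exactly when F itself is of finite type as an O_X-module. -/
theorem result {X Y : Scheme.{u}} (f : X ⟶ Y) [IsFinite f]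
    (F : X.Modules) [F.IsQuasicoherent] :
    SheafOfModules.IsFiniteType (R := X.ringCatSheaf) F ↔
      SheafOfModules.IsFiniteType (R := Y.ringCatSheaf) ((Scheme.Modules.pushforward f).obj F) := by
  have hq : ((Scheme.Modules.pushforward f).obj F).IsQuasicoherent :=
    Groth.Agent.Ega1.QcqsPush.isQCoh_pushforward f F ‹_›
  have hiff (V : Y.Opens) (hV : IsAffineOpen V) :
      Module.Finite Γ(Y, V) Γ((Scheme.Modules.pushforward f).obj F, V) ↔
        Module.Finite Γ(X, f ⁻¹ᵁ V) Γ(F, f ⁻¹ᵁ V) := by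
    have hf : (f.app V).hom.Finite := f.finite_app V hV
    let i1 : Algebra Γ(Y, V) Γ(X, f ⁻¹ᵁ V) := (f.app V).hom.toAlgebra
    have i2 : Module.Finite Γ(Y, V) Γ(X, f ⁻¹ᵁ V) := hf
    let i3 : Module Γ(Y, V) Γ(F, f ⁻¹ᵁ V) :=
      Module.compHom _ (f.app V).hom
    have i4 : IsScalarTower Γ(Y, V) Γ(X, f ⁻¹ᵁ V) Γ(F, f ⁻¹ᵁ V) := ⟨fun r s x => by
      show ((f.app V).hom r * s) • x = (f.app V).hom r • s • x
      rw [mul_smul]⟩
    constructor
    · intro h
      have h' : Module.Finite Γ(Y, V) Γ(F, f ⁻¹ᵁ V) := h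
      exact Module.Finite.of_restrictScalars_finite Γ(Y, V) _ _
    · intro h
      have h' : Module.Finite Γ(Y, V) Γ(F, f ⁻¹ᵁ V) := Module.Finite.trans Γ(X, f ⁻¹ᵁ V) _
      exact h'
  constructor
  · intro h
    refine Groth.Agent.Ega1.QCohOfLoc.isFiniteType_of_finite _ fun y => ?_
    obtain ⟨V, hV, hyV, -⟩ := exists_isAffineOpen_mem_and_subset (x := y) (U := (⊤ : Y.Opens)) trivial
    exact ⟨V, hyV, hV, Groth.Agent.Ega1.LocMod.loc_of_isQuasicoherent _ hV,
      (hiff V hV).2 (Groth.Agent.Ega1.QCohFinite.finite_sections F h (hV.preimage f))⟩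
  · intro h
    refine Groth.Agent.Ega1.QCohOfLoc.isFiniteType_of_finite _ fun x => ?_
    obtain ⟨V, hV, hyV, -⟩ := exists_isAffineOpen_mem_and_subset (x := f x) (U := (⊤ : Y.Opens)) trivial
    exact ⟨f ⁻¹ᵁ V, hyV, hV.preimage f, Groth.Agent.Ega1.LocMod.loc_of_isQuasicoherent _ (hV.preimage f),
      (hiff V hV).1 (Groth.Agent.Ega1.QCohFinite.finite_sections _ h hV)⟩

end Groth.Agent.S9838
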