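import Groth.Statements.S9839
import Groth.Agent.Desc.K388.FpqcTop

set_option autoImplicit false
open CategoryTheory CategoryTheory.Limits AlgebraicGeometry Opposite
universe u
open Desc

namespace Groth.Agent.S9839

/-- Let f i : T i ⟶ T be an fpqc covering family of a scheme T (a family in the fpqc precoverage) and W
i ⊆ T i open subsets such that for all i, j the inverse images of W i and W j under the two
projections of T i ×_T T j coincide. Then there is a unique open subset W ⊆ T with (f i)⁻¹(W) = W i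
for every i. -/
theorem result {ι : Type u} {T : Scheme.{u}} {Ti : ι → Scheme.{u}}
    (f : ∀ i, Ti i ⟶ T) (hf : Presieve.ofArrows Ti f ∈ Scheme.fpqcPrecoverage T)
    (W : ∀ i, (Ti i).Opens)
    (hW : ∀ i j, (pullback.fst (f i) (f j)) ⁻¹ᵁ (W i) = (pullback.snd (f i) (f j)) ⁻¹ᵁ (W j)) :
    ∃! V : T.Opens, ∀ i, (f i) ⁻¹ᵁ V = W i := by
  let V : Set T := {t | ∃ i, ∃ x : Ti i, x ∈ W i ∧ f i x = t}
  have hV : ∀ i, (f i) ⁻¹' V = (W i : Set (Ti i)) := by
    intro i
    ext x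
    refine ⟨?_, fun hx => ⟨i, x, hx, rfl⟩⟩
    rintro ⟨j, y, hy, hyx⟩
    obtain ⟨z, hz₁, hz₂⟩ := Scheme.Pullback.exists_preimage_pullback x y hyx.symm
    have h1 : z ∈ (pullback.snd (f i) (f j)) ⁻¹ᵁ (W j) := by
      show (pullback.snd (f i) (f j)) z ∈ W j
      rw [hz₂]; exact hy
    rw [← hW i j] at h1
    have h2 : (pullback.fst (f i) (f j)) z ∈ W i := h1
    rwa [hz₁] at h2
  have hopen : IsOpen V := K388.FpqcTop.isOpen_of_preimage f hf fun i => by
    rw [hV i]; exact (W i).isOpen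
  refine ⟨⟨V, hopen⟩, fun i => TopologicalSpace.Opens.ext (hV i), fun V' hV' => ?_⟩
  ext t
  obtain ⟨i, x, rfl⟩ := K388.FpqcTop.exists_of_mem f hf t
  have h1 : x ∈ (f i) ⁻¹ᵁ V' ↔ x ∈ W i := by rw [hV' i]
  have h2 : x ∈ (f i) ⁻¹' V ↔ x ∈ (W i : Set (Ti i)) := by rw [hV i]
  exact h1.trans h2.symm

end Groth.Agent.S9839
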