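import Groth.Statements.S9841
import Groth.Agent.Etcore.SmoothRed
import Groth.Agent.S9840

set_option autoImplicit false
open CategoryTheory CategoryTheory.Limits AlgebraicGeometry Opposite
universe u
open Desc

namespace Groth.Agent.S9841

/-- Being reduced is local in the smooth topology: for a jointly surjective family of smooth morphisms f
i : X i ⟶ S, the scheme S is reduced if and only if every X i is reduced. -/
theorem result {ι : Type u} {S : Scheme.{u}} {X : ι → Scheme.{u}} (f : ∀ i, X i ⟶ S)
    (hf : Presieve.ofArrows X f ∈ Scheme.precoverage @Smooth S) :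
    IsReduced S ↔ ∀ i, IsReduced (X i) := by
  obtain ⟨hsurj, hsm⟩ := (Scheme.ofArrows_mem_precoverage_iff (P := fun _ _ g => Smooth g) (f := f)).1 hf
  refine ⟨fun hS i => ?_, fun hX => ?_⟩
  · have := hsm i
    exact Etcore.SmoothRed.isReduced_of_smooth (f i)
  · have h (y : S) : _root_.IsReduced (S.presheaf.stalk y) := by
      obtain ⟨i, x, rfl⟩ := hsurj y
      have := hsm i
      have hF : Flat (f i) := inferInstance
      algebraize [((f i).stalkMap x).hom]
      have : Module.FaithfullyFlat (S.presheaf.stalk (f i x)) ((X i).presheaf.stalk x) :=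
        @Module.FaithfullyFlat.of_flat_of_isLocalHom _ _ _ _ _ _ _
          (Flat.stalkMap (f i) x) ((f i).toLRSHom.prop x)
      have := hX i
      exact isReduced_of_injective ((f i).stalkMap x).hom
        (FaithfulSMul.algebraMap_injective (S.presheaf.stalk (f i x)) ((X i).presheaf.stalk x))
    exact isReduced_of_isReduced_stalk S

end Groth.Agent.S9841
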