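import Groth.Statements.S9842
import Mathlib.AlgebraicGeometry.Morphisms.UniversallyOpen
import Mathlib.AlgebraicGeometry.PullbackCarrier

set_option autoImplicit false
open CategoryTheory CategoryTheory.Limits AlgebraicGeometry Opposite
universe u
open Desc

namespace Groth.Agent.S9842

/-- Let E/k be a field extension, Y a scheme over k and f : X ⟶ Y a morphism. Writing Y_E = Y ×_k Spec
E, the morphism f is dominant if and only if its base change X ×_Y Y_E ⟶ Y_E is dominant. -/
theorem result {k E : Type u} [Field k] [Field E] [Algebra k E]
    {X Y : Scheme.{u}} (f : X ⟶ Y) (q : Y ⟶ Spec (.of k)) :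
    IsDominant f ↔
      IsDominant (pullback.snd f (pullback.fst q (Spec.map (CommRingCat.ofHom (algebraMap k E))))) := by
  set g := Spec.map (CommRingCat.ofHom (algebraMap k E)) with hg
  have hfld : Subsingleton (Spec (CommRingCat.of k)) := inferInstanceAs (Subsingleton (PrimeSpectrum (CommRingCat.of k)))
  have hint : IsIntegral (Spec (CommRingCat.of k)) := inferInstance
  have hopen : UniversallyOpen g := inferInstance
  have hsurj : Surjective g := by
    constructor
    intro x
    obtain ⟨y⟩ : Nonempty (Spec (CommRingCat.of E)) := inferInstanceAs (Nonempty (PrimeSpectrum E))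
    exact ⟨y, Subsingleton.elim _ _⟩
  have hr : Set.range (pullback.snd f (pullback.fst q g)) = (pullback.fst q g) ⁻¹' Set.range f :=
    Scheme.Pullback.range_snd _ _
  constructor
  · intro h
    constructor
    show Dense _
    rw [hr]
    exact Dense.preimage h.denseRange (pullback.fst q g).isOpenMap
  · intro h
    constructor
    show Dense _
    have h1 := h.denseRange
    have h2 : DenseRange ((pullback.fst q g) ∘ (pullback.snd f (pullback.fst q g))) :=
      DenseRange.comp (pullback.fst q g).surjective.denseRange h1 (pullback.fst q g).continuous
    refine Dense.mono ?_ h2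
    rintro _ ⟨x, rfl⟩
    have h3 : (pullback.snd f (pullback.fst q g)) x ∈ (pullback.fst q g) ⁻¹' Set.range f := by
      rw [← hr]; exact ⟨x, rfl⟩
    exact h3

end Groth.Agent.S9842
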