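import Groth.Statements.S9843
import Mathlib.AlgebraicGeometry.PullbackCarrier

set_option autoImplicit false
set_option backward.isDefEq.respectTransparency.types false
open CategoryTheory CategoryTheory.Limits AlgebraicGeometry Opposite
universe u
open Desc

namespace Groth.Agent.S9843

/-- Being dominant is fppf local on the base: for every fppf covering family Y i ⟶ Y (flat, locally of
finite presentation, jointly surjective), a morphism X ⟶ Y is dominant if and only if all its base
changes X ×_Y Y i ⟶ Y i are. -/
theorem result :
    MorphismProperty.IsLocalAtTarget (@IsDominant : MorphismProperty Scheme.{u}) Scheme.fppfPrecoverage := by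
  have key : MorphismProperty.IsLocalAtTarget (@IsDominant : MorphismProperty Scheme.{u})
      (Scheme.precoverage (@Flat ⊓ @LocallyOfFinitePresentation)) := by
    refine MorphismProperty.IsLocalAtTarget.mk_of_small.{u} ?_ ?_
    · intro X Y f 𝒰 hf i
      have h := 𝒰.mem₀
      rw [Scheme.ofArrows_mem_precoverage_iff] at h
      obtain ⟨_, _⟩ := h.2 i
      refine ⟨?_⟩
      have hf' : DenseRange f.base := hf.denseRange
      rw [DenseRange, Scheme.Pullback.range_snd]
      exact hf'.preimage (𝒰.f i).isOpenMap
    · intro X Y f 𝒰 hf
      have h := 𝒰.mem₀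
      rw [Scheme.ofArrows_mem_precoverage_iff] at h
      refine ⟨?_⟩
      intro y
      rw [mem_closure_iff]
      intro o ho hy
      obtain ⟨i, z, rfl⟩ := h.1 y
      have hi : DenseRange (pullback.snd f (𝒰.f i)).base := (hf i).denseRange
      have h1 := hi z
      rw [Scheme.Pullback.range_snd, mem_closure_iff] at h1
      obtain ⟨w, hw1, x, hx⟩ := h1 ((𝒰.f i).base ⁻¹' o) (ho.preimage (𝒰.f i).continuous) hy
      exact ⟨_, hw1, x, hx⟩
  exact key

end Groth.Agent.S9843
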