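import Groth.Statements.S9845
import Groth.Agent.Desc.K389.SourceFam

set_option autoImplicit false
set_option backward.isDefEq.respectTransparency.types false
open CategoryTheory CategoryTheory.Limits AlgebraicGeometry Opposite
universe u
open Desc

namespace Groth.Agent.S9845

/-- Being an open morphism (open underlying map) is fppf local on the source: for every fppf covering
family g i : X i ⟶ X, a morphism f : X ⟶ Y has open underlying map if and only if every composite g
i ≫ f does. -/
theorem result :
    MorphismProperty.IsLocalAtSource (topologically (fun f => IsOpenMap f) : MorphismProperty Scheme.{u})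
      Scheme.fppfPrecoverage := by
  refine K389.SourceFam.isLocalAtSource_of_single (Q := @Flat ⊓ @LocallyOfFinitePresentation) ?_ ?_
  · rintro X' X Y f g ⟨_, _⟩ hg
    have hg' : IsOpenMap g.base := hg
    exact hg'.comp f.isOpenMap
  · rintro X' X Y f g ⟨_, _⟩ hf h
    have h' : IsOpenMap (f ≫ g).base := h
    intro U hU
    have h1 : g.base '' U = (f ≫ g).base '' (f.base ⁻¹' U) := by
      rw [Scheme.Hom.comp_base, TopCat.coe_comp, Set.image_comp, Set.image_preimage_eq _ f.surjective]
    have h2 := h' _ (hU.preimage f.continuous)
    rw [← h1] at h2
    exact h2

end Groth.Agent.S9845
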