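import Groth.Statements.S9846
import Groth.Agent.Desc.K389.SourceFam

set_option autoImplicit false
set_option backward.isDefEq.respectTransparency.types false
open CategoryTheory CategoryTheory.Limits AlgebraicGeometry Opposite
universe u
open Desc

namespace Groth.Agent.S9846

/-- Being universally open is fppf local on the source: for every fppf covering family g i : X i ⟶ X, a
morphism f : X ⟶ Y is universally open if and only if every composite g i ≫ f is. -/
theorem result :
    MorphismProperty.IsLocalAtSource (@UniversallyOpen : MorphismProperty Scheme.{u}) Scheme.fppfPrecoverage := by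
  refine K389.SourceFam.isLocalAtSource_of_single (Q := @Flat ⊓ @LocallyOfFinitePresentation) ?_ ?_
  · rintro X' X Y f g ⟨_, _⟩ hg
    have : UniversallyOpen g := hg
    exact (inferInstance : UniversallyOpen (f ≫ g))
  · rintro X' X Y f g ⟨_, _⟩ hf h
    have : UniversallyOpen (f ≫ g) := h
    constructor
    intro X'' Y'' i₁ i₂ f' H
    have h1 : IsOpenMap (pullback.fst i₁ f ≫ f').base :=
      UniversallyOpen.universally_isOpenMap _ _ _ ((IsPullback.of_hasPullback i₁ f).paste_horiz H)
    have hs : Surjective (pullback.fst i₁ f) := MorphismProperty.pullback_fst (P := @Surjective) _ _ hf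
    intro U hU
    have h2 : f'.base '' U = (pullback.fst i₁ f ≫ f').base '' ((pullback.fst i₁ f).base ⁻¹' U) := by
      rw [Scheme.Hom.comp_base, TopCat.coe_comp, Set.image_comp,
        Set.image_preimage_eq _ (pullback.fst i₁ f).surjective]
    have h3 := h1 _ (hU.preimage (pullback.fst i₁ f).continuous)
    rw [← h2] at h3
    exact h3

end Groth.Agent.S9846
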