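import Groth.Statements.S9859
import Groth.Agent.Desc.K389.TargetOpen

set_option autoImplicit false
set_option backward.isDefEq.respectTransparency.types false
open CategoryTheory CategoryTheory.Limits AlgebraicGeometry Opposite
universe u
open Desc

namespace Groth.Agent.S9859

/-- Case τ = fppf: let P be a property of morphisms of schemes which is fppf local on the base and f : X
⟶ Y a morphism. There is a largest open W of Y such that the restriction of f over W has P;
moreover, first, if g : Y' ⟶ Y is flat and locally of finite presentation and the base change of f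
to Y' has P, then the image of g lies in W; and second, for such g the largest open of Y' over which
the base change of f has P is exactly g⁻¹(W). -/
theorem result (P : MorphismProperty Scheme.{u})
    [MorphismProperty.IsLocalAtTarget P Scheme.fppfPrecoverage] {X Y : Scheme.{u}} (f : X ⟶ Y) :
    ∃ W : Y.Opens, P (f ∣_ W) ∧ (∀ W₀ : Y.Opens, P (f ∣_ W₀) → W₀ ≤ W) ∧
      (∀ (Y' : Scheme.{u}) (g : Y' ⟶ Y), Flat g → LocallyOfFinitePresentation g →
        P (pullback.snd f g) → Set.range g.base ⊆ (W : Set Y)) ∧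
      (∀ (Y' : Scheme.{u}) (g : Y' ⟶ Y), Flat g → LocallyOfFinitePresentation g →
        ∀ W' : Y'.Opens, P (pullback.snd f g ∣_ W') → (∀ W₀ : Y'.Opens, P (pullback.snd f g ∣_ W₀) → W₀ ≤ W') →
          W' = g ⁻¹ᵁ W) := by
  obtain ⟨W, hPW, hW⟩ := K389.TargetOpen.exists_largest (P := P) f
  refine ⟨W, hPW, hW, fun Y' g _ _ h => K389.TargetOpen.range_le f hW g (IsPullback.of_hasPullback f g) h,
    fun Y' g _ _ W' hW' hmax => le_antisymm ?_ ?_⟩
  · have h1 : IsPullback ((pullback.snd f g ⁻¹ᵁ W').ι ≫ pullback.fst f g) (pullback.snd f g ∣_ W') f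
        (W'.ι ≫ g) :=
      (isPullback_morphismRestrict (pullback.snd f g) W').flip.paste_horiz (IsPullback.of_hasPullback f g)
    have h2 := K389.TargetOpen.range_le f hW (W'.ι ≫ g) h1 hW'
    intro y hy
    exact h2 ⟨⟨y, hy⟩, rfl⟩
  · refine hmax _ ?_
    have h1 : IsPullback ((pullback.snd f g ⁻¹ᵁ g ⁻¹ᵁ W).ι ≫ pullback.fst f g)
        (pullback.snd f g ∣_ g ⁻¹ᵁ W) f ((g ⁻¹ᵁ W).ι ≫ g) :=
      (isPullback_morphismRestrict (pullback.snd f g) (g ⁻¹ᵁ W)).flip.paste_horiz
        (IsPullback.of_hasPullback f g)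
    rw [← morphismRestrict_ι] at h1
    have hpb := (isPullback_morphismRestrict f W).flip
    have hcomm : ((pullback.snd f g ⁻¹ᵁ g ⁻¹ᵁ W).ι ≫ pullback.fst f g) ≫ f =
        (pullback.snd f g ∣_ g ⁻¹ᵁ W ≫ g ∣_ W) ≫ W.ι := by
      rw [h1.w, Category.assoc]
    have h2 := IsPullback.of_right (h₁₁ := hpb.lift _ _ hcomm) (h₁₂ := (f ⁻¹ᵁ W).ι)
      (h₂₁ := g ∣_ W) (h₂₂ := W.ι) (v₁₁ := pullback.snd f g ∣_ g ⁻¹ᵁ W) (v₁₂ := f ∣_ W) (v₁₃ := f)
      (by rw [hpb.lift_fst]; exact h1) (hpb.lift_snd _ _ _) hpb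
    have : Flat (g ∣_ W) := inferInstance
    have : LocallyOfFinitePresentation (g ∣_ W) := IsZariskiLocalAtTarget.restrict ‹_› W
    exact K389.TargetOpen.of_isPullback h2 hPW

end Groth.Agent.S9859
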