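import Groth.Statements.S9863
import Groth.Agent.Desc.K389.StalkLoc

set_option autoImplicit false
open CategoryTheory CategoryTheory.Limits AlgebraicGeometry Opposite
universe u
open Desc

namespace Groth.Agent.S9863

/-- The property 'locally Noetherian and (S_k)' is local in the syntomic topology: for a jointly
surjective family of syntomic morphisms f i : X i ⟶ S and k a natural number, S is locally
Noetherian with all local rings satisfying Serre's condition (S_k) if and only if every X i is. -/
theorem result {ι : Type u} {S : Scheme.{u}} {X : ι → Scheme.{u}} (f : ∀ i, X i ⟶ S)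
    (hsurj : ∀ s : S, ∃ i, s ∈ Set.range (f i).base) (hsyn : ∀ i, Synt.IsSyntomicMor (f i)) (k : ℕ) :
    (IsLocallyNoetherian S ∧ ∀ s : S, LocCoh.HasSk k (S.presheaf.stalk s) (S.presheaf.stalk s)) ↔
      ∀ i, IsLocallyNoetherian (X i) ∧ ∀ x : X i, LocCoh.HasSk k ((X i).presheaf.stalk x) ((X i).presheaf.stalk x) := by
  have h1 : ∀ i, Flat (f i) := fun i => (K563.SchDict.flat_and_lfp_of_isSyntomicMor _ (hsyn i)).1
  have h2 : ∀ i, LocallyOfFinitePresentation (f i) := fun i =>
    (K563.SchDict.flat_and_lfp_of_isSyntomicMor _ (hsyn i)).2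
  constructor
  · rintro ⟨hN, hS⟩ i
    exact ⟨LocallyOfFiniteType.isLocallyNoetherian (f i), K389.StalkLoc.hasSk_of_syntomic (f i) (hsyn i) k hS⟩
  · intro h
    have hN : IsLocallyNoetherian S :=
      K389.StalkLoc.isLocallyNoetherian_of_cover f hsurj h1 h2 fun i => (h i).1
    refine ⟨hN, fun s => ?_⟩
    obtain ⟨i, x, rfl⟩ := hsurj s
    have hX := (h i).1
    exact K389.StalkLoc.hasSk_stalk_of_flat (f i) k x ((h i).2 x)

end Groth.Agent.S9863
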