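import Groth.Statements.S9876
import Groth.Agent.AlgSp.K594.RepAlg
import Groth.Agent.AlgSp.K595.PshRep

set_option autoImplicit false
universe u
open CategoryTheory CategoryTheory.Limits AlgebraicGeometry
open AlgSp

namespace Groth.Agent.S9876

/-- Let `X` be an algebraic space over `S` and `G` a presheaf of sets on schemes over `S` with a map `a
: G ⟶ X` of presheaves which is representable by schemes. Then `G` is an fppf sheaf and an algebraic
space over `S`. -/
theorem result (S : Scheme.{u}) (X : AlgSp.Space S)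
    (G : AlgSp.PSp S) (a : G ⟶ X.obj.obj) (ha : (AlgSp.pyon S).relativelyRepresentable a) :
    AlgSp.IsAlgSpaceP G := by
  obtain ⟨h⟩ : Nonempty (Presheaf.IsSheaf (J S) G) :=
    ⟨K595.PshRep.isSheaf_of_relativelyRepresentable (J S) a ha X.obj.property⟩
  refine ⟨h, K594.RepAlg.isAlgSpace_of_representable (F := ⟨G, h⟩) X.property ⟨a⟩ ?_⟩
  intro U g
  obtain ⟨V, s, fst, sq⟩ := ha g.hom
  refine ⟨V, s, ⟨fst⟩, ?_⟩
  exact IsPullback.of_map (sheafToPresheaf (J S) (Type (u + 1)))
    (by apply ObjectProperty.hom_ext; exact sq.w) sq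

end Groth.Agent.S9876
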