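import Groth.Statements.S9931
import Groth.Agent.AlgSp.K596.ImmDesc

set_option autoImplicit false
universe u
open CategoryTheory CategoryTheory.Limits AlgebraicGeometry
open AlgSp

namespace Groth.Agent.S9931

/-- (3) ⇒ (1): for P = closed immersion, open immersion or immersion, a morphism of algebraic spaces
whose base change to every affine scheme over the target is representable with P is itself
representable with P. -/
theorem result {S : Scheme.{u}} (P : MorphismProperty Scheme.{u})
    (hP : P = @IsClosedImmersion ∨ P = @IsOpenImmersion ∨ P = @IsImmersion) {X Y : AlgSp.Space S} (f : X ⟶ Y)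
    (h : ∀ (Z : Over S), IsAffine Z.left → ∀ (g : (AlgSp.yon S).obj Z ⟶ Y.obj) (P₀ : AlgSp.Sp S)
      (fst : P₀ ⟶ X.obj) (snd : P₀ ⟶ (AlgSp.yon S).obj Z), IsPullback fst snd f.hom g → AlgSp.RepWith P snd) :
    AlgSp.RepWith P f.hom := by
  rcases hP with rfl | rfl | rfl
  · have := K596.ImmDesc.closed_descends.{u}
    exact K596.ImmDesc.repWith_of_affine K596.ImmDesc.closed_le f.hom fun Z hZ g =>
      ⟨_, _, _, IsPullback.of_hasPullback f.hom g, h Z hZ g _ _ _ (IsPullback.of_hasPullback f.hom g)⟩
  · exact K596.ImmDesc.repWith_of_affine K596.ImmDesc.open_le f.hom fun Z hZ g =>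
      ⟨_, _, _, IsPullback.of_hasPullback f.hom g, h Z hZ g _ _ _ (IsPullback.of_hasPullback f.hom g)⟩
  · have := K596.ImmDesc.immersion_descends.{u}
    exact K596.ImmDesc.repWith_of_affine le_rfl f.hom fun Z hZ g =>
      ⟨_, _, _, IsPullback.of_hasPullback f.hom g, h Z hZ g _ _ _ (IsPullback.of_hasPullback f.hom g)⟩

end Groth.Agent.S9931
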