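import Groth.Statements.S9937
import Groth.Agent.AlgSp.K595.DiagBasic
import Groth.Agent.AlgSp.K597.Chart

set_option autoImplicit false
universe u
open CategoryTheory CategoryTheory.Limits AlgebraicGeometry
open AlgSp

namespace Groth.Agent.S9937

set_option backward.isDefEq.respectTransparency false
set_option backward.isDefEq.respectTransparency.types false

/-- Closed immersions between algebraic spaces are separated morphisms. -/
theorem result {S : Scheme.{u}} {X Y : AlgSp.Space S} (f : X ⟶ Y)
    (hf : AlgSp.RepWith @IsClosedImmersion f.hom) : AlgSp.IsSeparatedMor f.hom := by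
  refine (K595.DiagBasic.isSeparatedMor_iff_repWith hf.1).2 ?_
  exact K597.repWith_mono (fun _ _ f (hf : IsClosedImmersion f) => (inferInstance : IsSeparated f)) hf

end Groth.Agent.S9937
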