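import Groth.Statements.S9945
import Groth.Agent.AlgSp.K597.Affine
import Groth.Agent.AlgSp.K597.EtLoc
import Groth.Agent.AlgSp.K596.QC2
import Mathlib.AlgebraicGeometry.Morphisms.QuasiFinite

set_option autoImplicit false
universe u
open CategoryTheory CategoryTheory.Limits AlgebraicGeometry
open AlgSp

namespace Groth.Agent.S9945

set_option backward.isDefEq.respectTransparency false
set_option backward.isDefEq.respectTransparency.types false

/-- Over a base scheme with quasi-separated underlying space, every morphism from the spectrum of an
Artinian ring to an algebraic space quasi-separated over S is affine. (The published statement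
assumes X quasi-separated in the absolute sense over any base; this row assumes the base
quasi-separated and X quasi-separated over it, which on such bases is the same condition.) -/
theorem result {S : Scheme.{u}} [QuasiSeparatedSpace ↥S] (X : AlgSp.Space S)
    (hX : AlgSp.IsQuasiSeparatedSp X.obj) (A : Type u) [CommRing A] [IsArtinianRing A]
    (str : Spec (CommRingCat.of A) ⟶ S) (a : (AlgSp.yon S).obj (Over.mk str) ⟶ X.obj) :
    AlgSp.IsAffineMor a := by
  refine K597.Affine.isAffineMor_of_affine_charts X.property.atlas ?_
  intro V hV b hb P fst snd sq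
  obtain ⟨W, w, c, sq'⟩ := hb.1 a
  have hc : IsQuasiCompactSp ((AlgSp.yon S).obj V) := K596.QC.isQuasiCompactSp_yon V
  have hbq : RepWith @QuasiCompact b := K596.QC.repWith_of_isQuasiCompactMor hb.1
    (K596.QC2.isQuasiCompactMor_of_qc_of_qs (IsAlgSpace.yon_obj _) X.property b hc hX)
  have h1 : QuasiCompact w.left := hbq.2 _ _ _ sq'
  have h2 : Etale w.left := hb.2 _ _ _ sq'
  have h3 : LocallyQuasiFinite w.left := K597.locallyQuasiFinite_of_etale w.left
  have hA : IsArtinianRing (CommRingCat.of A) := inferInstanceAs (IsArtinianRing A)
  have h4 : IsLocallyArtinian (Spec (CommRingCat.of A)) := Scheme.isLocallyArtinianScheme_Spec.2 hA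
  have h4' : IsLocallyArtinian (Over.mk str).left := h4
  have h5 : IsFinite w.left := IsFinite.of_locallyQuasiFinite w.left
  have h6 : IsAffine (Over.mk str).left := inferInstanceAs (IsAffine (Spec (CommRingCat.of A)))
  refine ⟨W, isAffine_of_isAffineHom w.left, ⟨sq'.flip.isoIsPullback _ _ sq⟩⟩

end Groth.Agent.S9945
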