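import Groth.Statements.S9954
import Groth.Agent.AlgSp.K597.EtLoc
import Groth.Agent.AlgSp.K597.LocP
import Groth.Agent.AlgSp.K596.Pts
import Mathlib.AlgebraicGeometry.AlgClosed.Basic

set_option autoImplicit false
universe u
open CategoryTheory CategoryTheory.Limits AlgebraicGeometry
open AlgSp

namespace Groth.Agent.S9954

set_option backward.isDefEq.respectTransparency false
set_option backward.isDefEq.respectTransparency.types false

open K596.Pts in
theorem exists_point {S : Scheme.{u}} {X Y : AlgSp.Space S} (f : X ⟶ Y)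
    (hf : AlgSp.LocP @LocallyOfFiniteType f.hom) (hs : AlgSp.IsSurjectiveMor f.hom)
    (k : Type u) [Field k] [IsAlgClosed k] (str : Spec (CommRingCat.of k) ⟶ S)
    (y : (AlgSp.yon S).obj (Over.mk str) ⟶ Y.obj) :
    ∃ x : (AlgSp.yon S).obj (Over.mk str) ⟶ X.obj, x ≫ f.hom = y := by
  obtain ⟨U, a, ha, has⟩ := X.property.atlas
  have h1 : RepWith @LocallyOfFiniteType (a ≫ f.hom) :=
    K597.repWith_of_locP K597.etLoc_lft Y.property.hasAtlas (Y.property.representable_from_yon _)
      (K597.locP_precomp ha hf)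
  have h2 : Function.Surjective (Points.map (a ≫ f.hom)) := by
    intro z
    obtain ⟨x, rfl⟩ := hs z
    obtain ⟨u, rfl⟩ := surjective_of_repWith has x
    exact ⟨u, Points.map_comp _ _ _⟩
  have h3 : RepWith @Surjective (a ≫ f.hom) := repWith_surjective_of_surjective h1.1 h2
  obtain ⟨W, w, b, sq⟩ := h1.1 y
  have hw1 : LocallyOfFiniteType w.left := h1.2 _ _ _ sq
  have hw2 : Surjective w.left := h3.2 _ _ _ sq
  obtain ⟨w₀, _⟩ := hw2.surj (IsLocalRing.closedPoint k)
  have hne : Nonempty W.left := ⟨w₀⟩
  have hJ : JacobsonSpace W.left := LocallyOfFiniteType.jacobsonSpace (Y := Spec (CommRingCat.of k)) w.left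
  obtain ⟨z, hz⟩ : ∃ z : W.left, IsClosed {z} := by
    by_contra hcon
    have hcon : closedPoints W.left = ∅ := by
      rw [← Set.not_nonempty_iff_eq_empty]
      exact hcon
    have := closure_closedPoints (X := W.left)
    rw [hcon, closure_empty] at this
    exact Set.empty_ne_univ this
  have hw1' : @LocallyOfFiniteType W.left (Spec (.of k)) w.left := hw1
  let s : Over.mk str ⟶ W := Over.homMk (pointOfClosedPoint (K := k) w.left z hz) (by
    change _ ≫ W.hom = str
    rw [← Over.w w, ← Category.assoc]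
    change (pointOfClosedPoint (K := k) w.left z hz ≫ w.left) ≫ str = str
    rw [pointOfClosedPoint_comp, Category.id_comp])
  have hsw : s ≫ w = 𝟙 _ := by
    ext1
    exact pointOfClosedPoint_comp w.left z hz
  refine ⟨(AlgSp.yon S).map s ≫ b ≫ a, ?_⟩
  rw [Category.assoc, Category.assoc, sq.w, ← Category.assoc, ← Functor.map_comp, hsw, CategoryTheory.Functor.map_id,
    Category.id_comp]

/-- A morphism locally of finite type is surjective if and only if it is surjective on k-valued points
for every algebraically closed field k over the base. -/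
theorem result {S : Scheme.{u}} {X Y : AlgSp.Space S} (f : X ⟶ Y)
    (hf : AlgSp.LocP @LocallyOfFiniteType f.hom) :
    AlgSp.IsSurjectiveMor f.hom ↔
      ∀ (k : Type u) [Field k] [IsAlgClosed k] (str : Spec (CommRingCat.of k) ⟶ S)
        (y : (AlgSp.yon S).obj (Over.mk str) ⟶ Y.obj),
        ∃ x : (AlgSp.yon S).obj (Over.mk str) ⟶ X.obj, x ≫ f.hom = y := by
  constructor
  · intro hs k _ _ str y
    exact exists_point f hf hs k str y
  · intro h z
    obtain ⟨K, _, str, g, rfl⟩ := K596.Pts.exists_fpt z
    let k : Type u := AlgebraicClosure K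
    let a : Spec (CommRingCat.of k) ⟶ Spec (CommRingCat.of K) :=
      Spec.map (CommRingCat.ofHom (algebraMap K k))
    let a' : Over.mk (a ≫ str) ⟶ Over.mk str := Over.homMk a rfl
    obtain ⟨x, hx⟩ := h k (a ≫ str) ((AlgSp.yon S).map a' ≫ g)
    refine ⟨K596.Pts.fpt x, ?_⟩
    rw [K596.Pts.map_fpt, hx, K596.Pts.fpt_eq_iff]
    refine ⟨k, inferInstance, a ≫ str, 𝟙 _, a', ?_⟩
    rw [(AlgSp.yon S).map_id, Category.id_comp]

end Groth.Agent.S9954
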