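import Groth.Statements.S9957
import Groth.Agent.AlgSp.K598.RepKit
import Groth.Agent.AlgSp.K597.LocP
import Groth.Agent.AlgSp.K597.EtLoc
import Groth.Agent.AlgSp.K613.Diag

set_option autoImplicit false
universe u
open CategoryTheory CategoryTheory.Limits AlgebraicGeometry
open AlgSp

namespace Groth.Agent.S9957

/-- The source of a morphism of finite presentation whose target is Noetherian is itself Noetherian,
Noetherian meaning quasi-compact, quasi-separated over S and locally Noetherian. (The published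
statement uses quasi-separatedness in the absolute sense; this row uses quasi-separatedness over S
in hypothesis and conclusion.) -/
theorem result {S : Scheme.{u}} {X Y : AlgSp.Space S} (f : X ⟶ Y)
    (hf : AlgSp.IsFinitePresentationMor f.hom)
    (hY : AlgSp.IsQuasiCompactSp Y.obj ∧ AlgSp.IsQuasiSeparatedSp Y.obj ∧ AlgSp.IsLocNoethSp Y.obj) :
    AlgSp.IsQuasiCompactSp X.obj ∧ AlgSp.IsQuasiSeparatedSp X.obj ∧ AlgSp.IsLocNoethSp X.obj := by
  obtain ⟨hlfp, hqc, hqs⟩ := hf
  obtain ⟨hYc, hYs, V, b, hb, hbs, hV⟩ := hY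
  refine ⟨?_, ?_, ?_⟩
  · exact hqc Y.property hYc (𝟙 _) (𝟙 _) f.hom (IsPullback.of_horiz_isIso ⟨by simp⟩)
  · have h1 : RepWith @QuasiCompact (pullback.diagonal f.hom) := hqs
    have h2 : RepWith @QuasiCompact (Limits.diag Y.obj) := hYs
    change RepWith @QuasiCompact (Limits.diag X.obj)
    rw [K613.Diag.repWith_diagonal_iff] at h1
    rw [K613.Chart.repWith_diag_iff] at h2 ⊢
    intro T a a'
    obtain ⟨E, e, he, hP⟩ := h2 T (a ≫ f.hom) (a' ≫ f.hom)
    obtain ⟨E', e', he', hP'⟩ := h1 E ((yon S).map e ≫ a) ((yon S).map e ≫ a') (by simpa using he.w)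
    refine ⟨E', e' ≫ e, ⟨?_, fun R r hr => ?_⟩, MorphismProperty.comp_mem _ _ _ hP' hP⟩
    · simpa using he'.w
    · obtain ⟨r₁, hr₁, hr₁'⟩ := he.lift R r (by rw [← Category.assoc, ← Category.assoc, hr])
      obtain ⟨r₂, hr₂, hr₂'⟩ := he'.lift R r₁ (by
        rw [← Category.assoc, ← Functor.map_comp, hr₁, ← Category.assoc, ← Functor.map_comp, hr₁, hr])
      refine ⟨r₂, ?_, fun z hz => ?_⟩
      · dsimp only
        rw [← Category.assoc, hr₂, hr₁]
      · dsimp only at hz
        rw [← Category.assoc] at hz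
        exact hr₂' z (hr₁' _ hz)
  · obtain ⟨U₀, a₀, ha₀, has₀⟩ := X.property.atlas
    obtain ⟨U, a, h, ha, has, comm⟩ := K597.exists_chart_over f.hom a₀ ha₀ has₀ b hb hbs
    have h1 : LocallyOfFinitePresentation h.left := hlfp a b h ha hb comm
    have := hV
    exact ⟨U, a, ha, has, LocallyOfFiniteType.isLocallyNoetherian h.left⟩

end Groth.Agent.S9957
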