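import Groth.Statements.S9958
import Groth.Agent.AlgSp.K597.LocP
import Groth.Agent.AlgSp.K597.EtLoc

set_option autoImplicit false
universe u
open CategoryTheory CategoryTheory.Limits AlgebraicGeometry
open AlgSp

namespace Groth.Agent.S9958

/-- Locally of finite type over a locally Noetherian scheme is locally of finite presentation. -/
theorem lfp_of_noetherian {X Y : Scheme.{u}} (f : X ⟶ Y)
    (_ : IsLocallyNoetherian Y) (_ : LocallyOfFiniteType f) : LocallyOfFinitePresentation f where
  finitePresentation_appLE {U} hU {V} hV e := by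
    have : IsNoetherianRing Γ(Y, U) := IsLocallyNoetherian.component_noetherian ⟨U, hU⟩
    exact RingHom.FinitePresentation.of_finiteType.1 (f.finiteType_appLE hU hV e)


/-- Over a locally Noetherian algebraic space, locally of finite type implies locally of finite
presentation. -/
theorem result {S : Scheme.{u}} {X Y : AlgSp.Space S} (f : X ⟶ Y)
    (hY : AlgSp.IsLocNoethSp Y.obj) (hf : AlgSp.LocP @LocallyOfFiniteType f.hom) :
    AlgSp.LocP @LocallyOfFinitePresentation f.hom := by
  obtain ⟨V, b, hb, hbs, hV⟩ := hY
  obtain ⟨U₀, a₀, ha₀, has₀⟩ := X.property.atlas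
  obtain ⟨U, a, h, ha, has, comm⟩ := K597.exists_chart_over f.hom a₀ ha₀ has₀ b hb hbs
  exact K597.locP_of_chart K597.etLoc_lfp f.hom a b h ha has hb comm
    (lfp_of_noetherian h.left hV (hf a b h ha hb comm))

end Groth.Agent.S9958
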