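import Groth.Statements.S9960
import Groth.Agent.AlgSp.K598.RepKit
import Groth.Agent.AlgSp.K597.LocP
import Groth.Agent.AlgSp.K597.EtLoc
import Groth.Agent.Flat2D.LfpComp
import Groth.Agent.AlgSp.K596.QC

set_option autoImplicit false
universe u
open CategoryTheory CategoryTheory.Limits AlgebraicGeometry
open AlgSp

namespace Groth.Agent.S9960

/-- The diagonal of a morphism locally of finite type is locally of finite presentation, and of finite
presentation when the morphism is also quasi-separated. -/
theorem result {S : Scheme.{u}} {X Y : AlgSp.Space S} (f : X ⟶ Y)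
    (hf : AlgSp.LocP @LocallyOfFiniteType f.hom) :
    AlgSp.LocP @LocallyOfFinitePresentation (pullback.diagonal f.hom) ∧
    (AlgSp.IsQuasiSeparatedMor f.hom → AlgSp.IsFinitePresentationMor (pullback.diagonal f.hom)) := by
  have hP : IsAlgSpace (pullback f.hom f.hom) := K613.Chart.isAlgSpace_pullback X.property X.property Y.property _ _
  have h1 : LocP @LocallyOfFiniteType (pullback.snd f.hom f.hom) :=
    K597.locP_bc K597.etLoc_lft (IsPullback.of_hasPullback f.hom f.hom) X.property.hasAtlas Y.property.hasAtlas
      X.property.hasAtlas hf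
  have h2 : LocP @LocallyOfFinitePresentation (pullback.diagonal f.hom ≫ pullback.snd f.hom f.hom) := by
    rw [pullback.diagonal_snd]
    have : MorphismProperty.IsMultiplicative @LocallyOfFinitePresentation :=
      { id_mem := fun X => (inferInstance : LocallyOfFinitePresentation (𝟙 X)) }
    exact K597.locP_of_repWith K597.etLoc_lfp.precomp (K598.RepKit.repWith_of_isIso _)
  have h3 : LocP @LocallyOfFinitePresentation (pullback.diagonal f.hom) :=
    K597.locP_of_comp K597.etLoc_lfp
      (fun A B C u v (h1 : LocallyOfFinitePresentation (u ≫ v)) (h2 : LocallyOfFiniteType v) =>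
        Flat2D.LfpComp.lfp_of_comp u v)
      X.property.hasAtlas hP.hasAtlas X.property.hasAtlas h2 h1
  refine ⟨h3, fun hq => ⟨h3, K596.QC.isQuasiCompactMor_of_repWith hq, ?_⟩⟩
  have : IsIso (pullback.diagonal (pullback.diagonal f.hom)) := inferInstance
  exact K598.RepKit.repWith_of_isIso _

end Groth.Agent.S9960
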