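import Groth.Statements.S9963
import Groth.Agent.AlgSp.K598.SchImg
import Groth.Agent.AlgSp.K597.LocP
import Groth.Agent.AlgSp.K597.EtLoc
import Groth.Agent.AlgSp.K596.Univ
import Groth.Agent.AlgSp.K613.Chart

set_option autoImplicit false
universe u
open CategoryTheory CategoryTheory.Limits AlgebraicGeometry
open AlgSp

namespace Groth.Agent.S9963

/-- A morphism of algebraic spaces that is flat, quasi-compact and surjective is submersive, and
universally submersive. -/
theorem result {S : Scheme.{u}} {X Y : AlgSp.Space S} (f : X ⟶ Y)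
    (hfl : AlgSp.LocP @Flat f.hom) (hqc : AlgSp.IsQuasiCompactMor f.hom) (hs : AlgSp.IsSurjectiveMor f.hom) :
    AlgSp.IsSubmersiveMor f.hom ∧ AlgSp.IsUnivSubmersiveMor f.hom := by
  have key : IsUnivSubmersiveMor f.hom := by
    refine K596.Univ.isUnivSubmersiveMor_of_affine fun Z hZ g => ?_
    obtain ⟨P, fst, snd, sq, U, u, q, hu, hus, hq, hqc⟩ := K598.SchImg.exists_qc_chart hqc g
    refine ⟨P, fst, snd, sq, ?_⟩
    have hP : IsAlgSpace P := K613.Chart.isAlgSpace_of_isPullback Y.property.diag X.property (IsAlgSpace.yon_obj _) sq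
    have hfl' : LocP @Flat snd := K597.locP_bc K597.etLoc_flat sq X.property.hasAtlas Y.property.hasAtlas
      (IsAlgSpace.yon_obj Z).hasAtlas hfl
    have h1 : Flat q.left := hfl' u (𝟙 _) q hu (repWith_id _ _) (by rw [hq, Category.comp_id])
    have hsnd : Function.Surjective (Points.map snd) := K609.Points.surjective_map_of_isPullback sq.flip hs
    have h2 : Surjective q.left := by
      constructor
      intro t
      obtain ⟨y, hy⟩ := hsnd (Points.ofScheme Z t)
      obtain ⟨x, rfl⟩ := K609.Points.surjective_ofPt_of_repWith_surjective hus y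
      rw [Points.map_ofPt, hq, K609.Points.ofPt_yon_map] at hy
      exact ⟨x, K609.Points.ofScheme_injective _ hy⟩
    have h3 : Topology.IsQuotientMap (Points.map ((yon S).map q)) :=
      (K596.Univ.isQuotientMap_yon_map_iff q).2 (Flat.isQuotientMap_of_surjective q.left)
    rw [← hq] at h3
    have h4 : Points.map (u ≫ snd) = Points.map snd ∘ Points.map u := by
      funext x
      exact Points.map_comp _ _ _
    rw [h4] at h3
    exact Topology.IsQuotientMap.of_comp (Points.continuous_map u) (Points.continuous_map snd) h3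
  exact ⟨key Y.property (𝟙 _) (𝟙 _) f.hom (IsPullback.of_horiz_isIso ⟨by simp⟩), key⟩

end Groth.Agent.S9963
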