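import Groth.Statements.S9967
import Groth.Agent.AlgSp.K598.SchImg
import Groth.Agent.AlgSp.K595.DiagRel
import Groth.Agent.AlgSp.K596.QC

set_option autoImplicit false
universe u
open CategoryTheory CategoryTheory.Limits AlgebraicGeometry
open AlgSp

namespace Groth.Agent.S9967

/-- For a separated f : X -> Y and a section s of f over a quasi-compact open V of Y, the scheme
theoretic image of s maps isomorphically to Y over V. -/
theorem result {S : Scheme.{u}} {X Y V Y' : AlgSp.Space S} (f : X ⟶ Y) (j : V ⟶ Y)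
    (hj : AlgSp.RepWith @IsOpenImmersion j.hom) (hjq : AlgSp.IsQuasiCompactMor j.hom) (hf : AlgSp.IsSeparatedMor f.hom)
    (s : V ⟶ X) (hs : s ≫ f = j) (c : Y' ⟶ X) (hc : AlgSp.IsSchImage s.hom c.hom)
    {P : AlgSp.Sp S} (fst : P ⟶ Y'.obj) (snd : P ⟶ V.obj) (sq : IsPullback fst snd (c ≫ f).hom j.hom) :
    IsIso snd := by
  have hs' : s.hom ≫ f.hom = j.hom := congrArg (fun k => k.hom) hs
  -- the base change of `X` to `V`
  obtain ⟨XV, a, b, sqX⟩ : ∃ (XV : AlgSp.Sp S) (a : XV ⟶ X.obj) (b : XV ⟶ V.obj),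
      IsPullback a b f.hom j.hom := ⟨_, _, _, IsPullback.of_hasPullback _ _⟩
  have ha : RepWith @IsOpenImmersion a := K598.RepKit.repWith_of_isPullback sqX.flip hj
  have hXV : IsAlgSpace XV := K598.RepKit.isAlgSpace_of_repWith_isOpenImmersion ha X.property
  have hma : Mono a := K598.RepKit.mono_of_repWith_isOpenImmersion ha
  let σ : V.obj ⟶ XV := sqX.lift s.hom (𝟙 _) (by rw [hs', Category.id_comp])
  have hσ1 : σ ≫ a = s.hom := sqX.lift_fst _ _ _
  have hσ2 : σ ≫ b = 𝟙 _ := sqX.lift_snd _ _ _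
  have hb : IsSeparatedMor b := MorphismProperty.of_isPullback (P := IsSeparatedMor) sqX hf
  have hσ : RepWith @IsClosedImmersion σ := K595.DiagRel.repWith_section b σ hσ2 hb
  have hσq : IsQuasiCompactMor σ := K596.QC.isQuasiCompactMor_of_repWith
    (K598.RepKit.repWith_mono (fun _ _ g h => by have : IsClosedImmersion g := h; infer_instance) hσ)
  have hsq : IsQuasiCompactMor s.hom := by
    rw [← hσ1]
    exact K596.QC.isQuasiCompactMor_comp hXV X.property hσq (K596.QC.isQuasiCompactMor_of_isPullback sqX.flip hjq)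
  have sq1 : IsPullback (𝟙 V.obj) σ s.hom a := by
    rw [← hσ1]
    have h1 : IsPullback (𝟙 V.obj) σ σ (𝟙 XV) := IsPullback.of_horiz_isIso ⟨by simp⟩
    have h2 := h1.paste_vert (IsKernelPair.id_of_mono a)
    rwa [Category.comp_id] at h2
  have hw : fst ≫ c.hom ≫ f.hom = snd ≫ j.hom := sq.w
  let t : P ⟶ XV := sqX.lift (fst ≫ c.hom) snd (by rw [Category.assoc, hw])
  have ht1 : t ≫ a = fst ≫ c.hom := sqX.lift_fst _ _ _
  have ht2 : t ≫ b = snd := sqX.lift_snd _ _ _
  have sq2 : IsPullback fst t c.hom a := by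
    refine IsPullback.of_bot (h₃₁ := j.hom) (v₂₁ := b) (v₂₂ := f.hom) ?_ ht1.symm sqX.flip.flip
    rw [ht2]
    exact sq
  have key : IsSchImage σ t := by
    refine K598.SchImg.isSchImage_of_isPullback X.property hXV hsq hc (b := a) (fun T g hg => ?_) sq1 sq2
    have h1 : RepWith @Etale a := K598.RepKit.repWith_mono
      (fun _ _ g h => by have : IsOpenImmersion g := h; exact (inferInstance : Etale g)) ha
    exact K598.Charts.repWith_flat_of_etale (MorphismProperty.comp_mem _ _ _ hg h1)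
  have hmt : Mono t := K598.RepKit.mono_of_repWith_isClosedImmersion key.1
  have hmσ : Mono σ := K598.RepKit.mono_of_repWith_isClosedImmersion hσ
  obtain ⟨k, hk⟩ := key.2.2 σ V.property hσ ⟨𝟙 _, Category.id_comp _⟩
  obtain ⟨k', hk'⟩ := key.2.1
  have h3 : snd = k := by rw [← ht2, ← hk, Category.assoc, hσ2, Category.comp_id]
  rw [h3]
  exact ⟨k', by rw [← cancel_mono t, Category.assoc, hk', hk, Category.id_comp],
    by rw [← cancel_mono σ, Category.assoc, hk, hk', Category.id_comp]⟩

end Groth.Agent.S9967
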