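import Groth.Statements.S9970
import Groth.Agent.AlgSp.K598.Dens

set_option autoImplicit false
universe u
open CategoryTheory CategoryTheory.Limits AlgebraicGeometry
open AlgSp

namespace Groth.Agent.S9970

/-- The intersection of two scheme theoretically dense open subspaces is scheme theoretically dense. -/
theorem result {S : Scheme.{u}} {U V X P : AlgSp.Space S} (jU : U ⟶ X) (jV : V ⟶ X)
    (hU : AlgSp.IsSchDense jU.hom) (hV : AlgSp.IsSchDense jV.hom) (fst : P ⟶ U) (snd : P ⟶ V)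
    (sq : IsPullback fst.hom snd.hom jU.hom jV.hom) : AlgSp.IsSchDense (fst ≫ jU).hom := by
  have hjU := hU.1
  have hjV := hV.1
  have hfst : RepWith @IsOpenImmersion fst.hom := K598.RepKit.repWith_of_isPullback sq.flip hjV
  have hcomp : RepWith @IsOpenImmersion (fst.hom ≫ jU.hom) := MorphismProperty.comp_mem _ _ _ hfst hjU
  obtain ⟨T, φ, h1, h2⟩ := X.property.atlas
  obtain ⟨W, hW⟩ := K598.Dens.exists_isPre hcomp φ
  obtain ⟨W₁, hW₁⟩ := K598.Dens.exists_isPre hjU φ
  obtain ⟨W₂, hW₂⟩ := K598.Dens.exists_isPre hjV φ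
  have hW' : W = W₁ ⊓ W₂ := by
    ext t
    change t ∈ W ↔ t ∈ W₁ ∧ t ∈ W₂
    rw [hW.mem_iff, hW₁.mem_iff, hW₂.mem_iff]
    constructor
    · rintro ⟨x, hx⟩
      rw [Points.map_comp] at hx
      refine ⟨⟨_, hx⟩, ⟨Points.map snd.hom x, ?_⟩⟩
      rw [← Points.map_comp, ← sq.w, Points.map_comp]
      exact hx
    · rintro ⟨⟨x, hx⟩, ⟨y, hy⟩⟩
      obtain ⟨z, hz1, hz2⟩ := K609.Points.exists_of_isPullback sq x y (by rw [hx, hy])
      refine ⟨z, ?_⟩
      rw [Points.map_comp, hz1, hx]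
  have hd : CInt.IsSchematicallyDense W := by
    rw [hW']
    exact K598.DensSch.isSchematicallyDense_inf
      (K598.Dens.dense_of_isSchDense hU (K598.Charts.repWith_flat_of_etale h1) (K598.Charts.repWith_lfp_of_etale h1)
        hW₁)
      (K598.Dens.dense_of_isSchDense hV (K598.Charts.repWith_flat_of_etale h1) (K598.Charts.repWith_lfp_of_etale h1)
        hW₂)
  obtain ⟨w, hw⟩ := hW
  exact ⟨hcomp, T, φ, W, w, h1, h2, hw, hd⟩

end Groth.Agent.S9970
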