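import Groth.Statements.S9975
import Groth.Agent.AlgSp.K598.Charts
import Groth.Agent.AlgSp.K597.LocP
import Groth.Agent.AlgSp.K597.EtLoc
import Groth.Agent.S9339
import Groth.Agent.S9341
import Groth.Agent.S9342

set_option autoImplicit false
universe u
open CategoryTheory CategoryTheory.Limits AlgebraicGeometry
open AlgSp

namespace Groth.Agent.S9975

/-- A point of an algebraic space is a finite type point (represented by a locally finite type morphism
from the spectrum of a field) exactly when it is the image of a closed point of some etale scheme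
chart. -/
theorem result {S : Scheme.{u}} (X : AlgSp.Space S) (x : AlgSp.Points X.obj) :
    (∃ (k : Type u) (_ : Field k) (str : Spec (CommRingCat.of k) ⟶ S) (ξ : (AlgSp.yon S).obj (Over.mk str) ⟶ X.obj),
        AlgSp.LocP @LocallyOfFiniteType ξ ∧ AlgSp.Points.ofPt ξ (IsLocalRing.closedPoint k) = x) ↔
      ∃ (U : Over S) (φ : (AlgSp.yon S).obj U ⟶ X.obj) (u : ↥U.left), AlgSp.RepWith @Etale φ ∧
        IsClosed ({u} : Set ↥U.left) ∧ AlgSp.Points.ofPt φ u = x := by
  constructor
  · rintro ⟨k, _, str, ξ, hξ, rfl⟩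
    obtain ⟨V, p, hp, hps⟩ := X.property.atlas
    obtain ⟨W, w1, w2, sq, hw2⟩ := K597.exists_sq2 hp ξ
    have hw2s : Surjective w2.left := K597.repWith_prop hps sq
    -- `W → V` is locally of finite type
    have hft : LocallyOfFiniteType w1.left :=
      hξ ((yon S).map w2) p w1 (K598.Charts.repWith_yon_map hw2) hp sq.w.symm
    obtain ⟨w₀, hw₀⟩ := hw2s.surj (IsLocalRing.closedPoint k)
    obtain ⟨w, -, hw⟩ := (Groth.Agent.S9341.result W.left).1 Set.univ isClosed_univ.isLocallyClosed ⟨w₀, trivial⟩
    have hu := Groth.Agent.S9339.result w1.left ⟨w, hw, rfl⟩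
    obtain ⟨A, hA, hmem, hcl⟩ := (Groth.Agent.S9342.result V.left (w1.left w)).1 hu
    refine ⟨K598.Charts.opn V A, (yon S).map (K598.Charts.opnι V A) ≫ p, ⟨w1.left w, hmem⟩,
      MorphismProperty.comp_mem _ _ _ (K598.Charts.repWith_etale_opnι V A) hp, hcl, ?_⟩
    rw [K609.Points.ofPt_yon_map_comp]
    change Points.ofPt p (w1.left w) = _
    rw [← K609.Points.ofPt_yon_map_comp, sq.w, K609.Points.ofPt_yon_map_comp]
    congr 1
    exact Subsingleton.elim (α := PrimeSpectrum k) _ _
  · rintro ⟨U, φ, u, hφ, hu, rfl⟩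
    have hft : LocallyOfFiniteType (U.left.fromSpecResidueField u) := by
      rw [Groth.Agent.S9342.result]
      obtain ⟨A, hA, huA, -⟩ := exists_isAffineOpen_mem_and_subset (x := u) (U := ⊤) trivial
      refine ⟨A, hA, huA, ?_⟩
      have : ({⟨u, huA⟩} : Set ↥A) = Subtype.val ⁻¹' {u} := by
        ext y
        simp [Subtype.ext_iff]
      rw [this]
      exact hu.preimage continuous_subtype_val
    let c : Over.mk (U.left.fromSpecResidueField u ≫ U.hom) ⟶ U := Over.homMk (U.left.fromSpecResidueField u) rfl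
    refine ⟨U.left.residueField u, inferInstance, U.left.fromSpecResidueField u ≫ U.hom, (yon S).map c ≫ φ, ?_, ?_⟩
    · have h1 : RepWith @LocallyOfFiniteType ((yon S).map c) := K598.Charts.repWith_yon_map hft
      exact K597.locP_postcomp K597.etLoc_lft (IsAlgSpace.yon_obj _).hasAtlas (IsAlgSpace.yon_obj _).hasAtlas
        X.property.hasAtlas (K597.locP_of_repWith K597.etLoc_lft.precomp h1)
        (K597.locP_of_repWith K597.etLoc_etale.precomp hφ)
    · refine (K609.Points.ofPt_yon_map_comp c φ _).trans ?_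
      congr 1
      exact Scheme.fromSpecResidueField_apply _ _

end Groth.Agent.S9975
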