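import Groth.Statements.S9980
import Groth.Agent.AlgSp.K599.FTMono

set_option autoImplicit false
universe u
open CategoryTheory CategoryTheory.Limits AlgebraicGeometry Opposite
open AlgSp

namespace Groth.Agent.S9980

/-- Characterizations of finite type points via one-point algebraic spaces locally of finite type over X
and via monomorphisms from quotients of spectra of fields. -/
theorem result {S : Scheme.{u}} (X : AlgSp.Space S) (x : AlgSp.Points X.obj) :
    ((∃ (k : Type u) (_ : Field k) (str : Spec (CommRingCat.of k) ⟶ S) (ξ : (AlgSp.yon S).obj (Over.mk str) ⟶ X.obj),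
        AlgSp.LocP @LocallyOfFiniteType ξ ∧ AlgSp.Points.ofPt ξ (IsLocalRing.closedPoint k) = x) ↔
      ∃ (Z : AlgSp.Space S) (f : Z ⟶ X), Nonempty (Unique (AlgSp.Points Z.obj)) ∧
        AlgSp.LocP @LocallyOfFiniteType f.hom ∧ Set.range (AlgSp.Points.map f.hom) = {x}) ∧
    ((∃ (k : Type u) (_ : Field k) (str : Spec (CommRingCat.of k) ⟶ S) (ξ : (AlgSp.yon S).obj (Over.mk str) ⟶ X.obj),
        AlgSp.LocP @LocallyOfFiniteType ξ ∧ AlgSp.Points.ofPt ξ (IsLocalRing.closedPoint k) = x) ↔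
      ∃ (Z : AlgSp.Space S) (f : Z ⟶ X) (k : Type u) (_ : Field k) (str : Spec (CommRingCat.of k) ⟶ S)
        (z : (AlgSp.yon S).obj (Over.mk str) ⟶ Z.obj), AlgSp.RepWith @Etale z ∧ AlgSp.RepWith @Surjective z ∧
        AlgSp.LocP @LocallyOfFiniteType f.hom ∧ Mono f.hom ∧
        AlgSp.Points.ofPt (z ≫ f.hom) (IsLocalRing.closedPoint k) = x) := by
  refine ⟨⟨?_, ?_⟩, ⟨?_, ?_⟩⟩
  · rintro ⟨k, _, str, ξ, hξ, rfl⟩
    refine ⟨⟨_, AlgSp.IsAlgSpace.yon_obj (Over.mk str)⟩, ObjectProperty.homMk ξ,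
      K599.FTMono.unique_points_yon str, hξ, ?_⟩
    obtain ⟨hu⟩ := K599.FTMono.unique_points_yon str
    ext y
    constructor
    · rintro ⟨z, rfl⟩
      rw [Subsingleton.elim z (AlgSp.Points.ofScheme _ (IsLocalRing.closedPoint k))]
      exact (AlgSp.Points.ofPt_eq_map_ofScheme ξ _).symm
    · rintro rfl
      exact ⟨AlgSp.Points.ofScheme _ (IsLocalRing.closedPoint k), (AlgSp.Points.ofPt_eq_map_ofScheme ξ _).symm⟩
  · rintro ⟨Z, f, ⟨hu⟩, hf, hr⟩
    obtain ⟨z, -, k, _, str, ξ, hξ, hξz⟩ := K599.FTPoint.exists_isFT_of_locallyClosed Z.property.atlas Set.univ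
      isOpen_univ.isLocallyClosed ⟨default, trivial⟩
    refine ⟨k, inferInstance, str, ξ ≫ f.hom, ?_, ?_⟩
    · exact K597.locP_comp K597.etLoc_lft (AlgSp.IsAlgSpace.yon_obj _).atlas Z.property.atlas X.property.atlas hξ hf
    · rw [← AlgSp.Points.map_ofPt, hξz]
      have : AlgSp.Points.map f.hom z ∈ Set.range (AlgSp.Points.map f.hom) := ⟨z, rfl⟩
      rw [hr] at this
      exact this
  · intro hx
    obtain ⟨Z, hZ, f, k, _, str, z, h1, h2, h3, h4, h5⟩ := K599.FTMono.exists_mono X.property hx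
    exact ⟨⟨Z, hZ⟩, ObjectProperty.homMk f, k, inferInstance, str, z, h1, h2, h3, h4, h5⟩
  · rintro ⟨Z, f, k, _, str, z, h1, h2, h3, h4, h5⟩
    exact ⟨k, inferInstance, str, z ≫ f.hom, K597.locP_precomp h1 h3, h5⟩

end Groth.Agent.S9980
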