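import Groth.Statements.S9987
import Groth.Agent.AlgSp.K599.BCClosed

set_option autoImplicit false
universe u
open CategoryTheory CategoryTheory.Limits AlgebraicGeometry Opposite
open AlgSp

namespace Groth.Agent.S9987

/-- For a closed immersion i : Z ⟶ X of algebraic spaces over S (representable, every base change to a
scheme a closed immersion), the comparison map O_X ⟶ i_* O_Z of sheaves of rings on the small etale
site of X is locally surjective. (The published statement also asserts that i_* O_Z is a
quasi-coherent O_X-module and that the kernel of O_X ⟶ i_* O_Z is a quasi-coherent sheaf of ideals;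
those two assertions are the closed-immersion cases of the general facts that direct images along
quasi-compact quasi-separated morphisms preserve quasi-coherence and that the kernel ideal of a
quasi-compact morphism is quasi-coherent, a closed immersion being quasi-compact and separated, and
only the surjectivity is stated here.) -/
theorem result {S : Scheme.{u}} {Z X : AlgSp.Space S} (i : Z ⟶ X)
    (hi : AlgSp.RepWith @IsClosedImmersion i.hom) :
    Presheaf.IsLocallySurjective (AlgSp.etTop X.obj) (AlgSp.bcRingHom hi.1).hom := by
  constructor
  intro E s
  refine (K599.EtSite.mem_etTop_iff _).2 fun x => ?_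
  obtain ⟨_, ⟨W, hW, rfl⟩, hxW, -⟩ := E.obj.left.left.isBasis_affineOpens.exists_subset_of_mem_open
    (Set.mem_univ x) isOpen_univ
  have hW : IsAffineOpen W := hW
  have hcl := K599.BCClosed.isClosedImmersion_bcπ hi (K599.EtSite.openSub E W)
  have haff : IsAffine (K599.EtSite.openSub E W).obj.left.left := hW
  have hsurj : Function.Surjective (EtOver.bcπ hi.1 (K599.EtSite.openSub E W)).left.appTop :=
    (EtOver.bcπ hi.1 (K599.EtSite.openSub E W)).left.app_surjective ⊤ (isAffineOpen_top _)
  refine ⟨K599.EtSite.openSub E W, K599.EtSite.openSubι E W, (⟨x, hxW⟩ : (W : Scheme.{u})), ?_, rfl⟩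
  obtain ⟨t, ht⟩ := hsurj ((EtOver.bcMap hi.1 (K599.EtSite.openSubι E W)).hom.left.left.appTop s.down)
  exact ⟨ULift.up t, congrArg ULift.up ht⟩

end Groth.Agent.S9987
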