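import Groth.Statements.S9995
import Groth.Agent.AlgSp.K616.Near
import Groth.Agent.AlgSp.K597.EtLoc
import Mathlib.AlgebraicGeometry.Morphisms.QuasiFinite
import Mathlib.AlgebraicGeometry.Noetherian

set_option autoImplicit false
universe u
open CategoryTheory CategoryTheory.Limits AlgebraicGeometry
open AlgSp

namespace Groth.Agent.S9995

open K616.Refine K616.Inv K616.Near

set_option backward.isDefEq.respectTransparency false

/-- In a noetherian space there are only finitely many open points. -/
theorem finite_setOf_isOpen_singleton {T : Type*} [TopologicalSpace T] [TopologicalSpace.NoetherianSpace T] :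
    {z : T | IsOpen ({z} : Set T)}.Finite := by
  have hc : IsCompact {z : T | IsOpen ({z} : Set T)} := TopologicalSpace.NoetherianSpace.isCompact _
  refine hc.finite ?_
  rw [isDiscrete_iff_forall_mem_exists_isOpen]
  intro z hz
  refine ⟨{z}, hz, ?_⟩
  ext w
  constructor
  · rintro ⟨rfl, -⟩; rfl
  · rintro rfl; exact ⟨rfl, hz⟩

/-- A morphism of finite type has finitely many quasi-finite points in each fibre. -/
theorem finite_quasiFiniteAt {U V : Scheme.{u}} (h : U ⟶ V) [LocallyOfFiniteType h] [QuasiCompact h] (v : V) :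
    {u : U | h u = v ∧ h.QuasiFiniteAt u}.Finite := by
  have h1 : LocallyOfFiniteType (h.fiberToSpecResidueField v) :=
    inferInstanceAs (LocallyOfFiniteType (pullback.snd h (V.fromSpecResidueField v)))
  have h2 : QuasiCompact (h.fiberToSpecResidueField v) :=
    inferInstanceAs (QuasiCompact (pullback.snd h (V.fromSpecResidueField v)))
  have h3 : IsLocallyNoetherian (h.fiber v) := LocallyOfFiniteType.isLocallyNoetherian
    (h.fiberToSpecResidueField v)
  have h4 : CompactSpace (h.fiber v) := QuasiCompact.compactSpace_of_compactSpace (h.fiberToSpecResidueField v)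
  have h5 : IsNoetherian (h.fiber v) := {}
  have h6 : TopologicalSpace.NoetherianSpace (h.fiber v) := inferInstance
  refine (finite_setOf_isOpen_singleton.image (h.fiberι v)).subset ?_
  rintro u ⟨rfl, hu⟩
  have h7 := Scheme.Hom.quasiFiniteAt_iff_isOpen_singleton_asFiber.1 hu
  refine ⟨h.asFiber u, ?_, h.fiberι_asFiber u⟩
  exact h7

theorem quasiFiniteAt_of_near {U V : Scheme.{u}} (h : U ⟶ V) (u : U)
    (H : Near (@LocallyQuasiFinite ⊓ @LocallyOfFiniteType) U V h u) : h.QuasiFiniteAt u := by
  obtain ⟨W, hW, h1, h2⟩ := H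
  have h3 := (W.ι ≫ h).quasiFiniteAt ⟨u, hW⟩
  exact (Scheme.Hom.quasiFiniteAt_comp_iff_of_isOpenImmersion).1 h3

variable {S : Scheme.{u}}

theorem main {X Y : Sp S} (hY : IsAlgSpace Y) (f : X ⟶ Y) (hf : IsFiniteTypeMor f) (y : Points Y) :
    {x : Points X | Points.map f x = y ∧
      HasAtMor (Near (@LocallyQuasiFinite ⊓ @LocallyOfFiniteType)) f x}.Finite := by
  obtain ⟨V₀, b₀, v₀, hb₀, hv₀⟩ := exists_chart hY y
  obtain ⟨W, hW, hvW, -⟩ := exists_isAffineOpen_mem_and_subset (x := v₀) (U := ⊤) trivial
  let V : Over S := Over.mk (W.ι ≫ V₀.hom)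
  let ι : V ⟶ V₀ := Over.homMk W.ι rfl
  let b : (yon S).obj V ⟶ Y := (yon S).map ι ≫ b₀
  have hb : RepWith @Etale b := MorphismProperty.comp_mem _ _ _
    ((repWith_yon_map_iff _ _).2 (inferInstanceAs (Etale W.ι))) hb₀
  let v : V.left := ⟨v₀, hvW⟩
  have hv : Points.ofPt b v = y := by
    rw [ofPt_comp]
    exact hv₀
  have hVa : IsAffine V.left := hW
  have hVq : IsQuasiCompactSp ((yon S).obj V) := ⟨V, 𝟙 _, repWith_id _ _, repWith_id _ _, inferInstance⟩
  have sq : IsPullback (pullback.fst f b) (pullback.snd f b) f b := IsPullback.of_hasPullback _ _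
  obtain ⟨U, p, hp, hps, hUc⟩ := hf.2 (IsAlgSpace.yon_obj V) hVq b _ _ sq
  let a : (yon S).obj U ⟶ X := p ≫ pullback.fst f b
  have ha : RepWith @Etale a := MorphismProperty.comp_mem _ _ _ hp
    (MorphismProperty.of_isPullback (P := RepWith @Etale) sq.flip hb)
  let h : U ⟶ V := (yon S).preimage (p ≫ pullback.snd f b)
  have hh : (yon S).map h = p ≫ pullback.snd f b := (yon S).map_preimage _
  have w : a ≫ f = (yon S).map h ≫ b := by
    rw [hh, Category.assoc, Category.assoc, sq.w]
  have hlft : LocallyOfFiniteType h.left := hf.1 a b h ha hb w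
  have hUc' : CompactSpace U.left := hUc
  have hqc : QuasiCompact h.left := inferInstance
  refine ((finite_quasiFiniteAt h.left v).image (Points.ofPt a)).subset ?_
  rintro x ⟨hx, H⟩
  obtain ⟨z, hz1, hz2⟩ := exists_point_of_isPullback sq x (Points.ofScheme V v) (by
    rw [hx, ← Points.ofPt_eq_map_ofScheme, hv])
  obtain ⟨u, rfl⟩ := ofPt_surjective p hps z
  have e1 : Points.ofPt a u = x := by rw [← hz1, Points.map_ofPt]
  have e2 : h.left u = v := by
    rw [Points.map_ofPt, ← hh] at hz2
    have := congrArg (Points.toScheme V) hz2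
    rw [Points.toScheme_ofPt, Points.toScheme_ofScheme] at this
    exact this
  refine ⟨u, ⟨e2, ?_⟩, e1⟩
  rw [← e1] at H
  exact quasiFiniteAt_of_near _ _ ((hasAtMor_iff (etInvOn_near K597.etLoc_lqf) (locP_top f) a b h ha hb w u).1 H)

/-- For a morphism f : X ⟶ Y of algebraic spaces of finite type and a point y of |Y|, the set of points
of |X| over y where f is quasi-finite is finite (in the neighbourhood sense, through some chart
diagram). -/
theorem result {S : Scheme.{u}} {X Y : AlgSp.Space S} (f : X ⟶ Y)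
    (hf : AlgSp.IsFiniteTypeMor f.hom) (y : AlgSp.Points Y.obj) :
    {x : AlgSp.Points X.obj | AlgSp.Points.map f.hom x = y ∧
      AlgSp.HasAtMor (fun U _ h u => ∃ W : U.Opens, u ∈ W ∧ LocallyQuasiFinite (W.ι ≫ h) ∧
        LocallyOfFiniteType (W.ι ≫ h)) f.hom x}.Finite := by
  exact main Y.property f.hom hf y

end Groth.Agent.S9995
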