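import Groth.Statements.S9996
import Groth.Agent.AlgSp.K600.Union

set_option autoImplicit false
universe u
open CategoryTheory CategoryTheory.Limits AlgebraicGeometry Opposite
open AlgSp

namespace Groth.Agent.S9996

theorem isPullback_of_mono {C : Type*} [Category C] {Y W X : C} (a : Y ⟶ W) (w : W ⟶ X) (i : Y ⟶ X) [Mono w]
    (h : a ≫ w = i) : IsPullback (𝟙 Y) a i w := by
  refine ⟨⟨by rw [Category.id_comp, h]⟩, ⟨PullbackCone.IsLimit.mk _ (fun s => s.fst) ?_ ?_ ?_⟩⟩
  · intro s; exact Category.comp_id _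
  · intro s
    rw [← cancel_mono w, Category.assoc, h]
    exact s.condition
  · intro s m h1 _
    rw [← h1, Category.comp_id]

theorem closed_of_factor {S : Scheme.{u}} {X Y W : Sp S} {i : Y ⟶ X} {w : W ⟶ X} {a : Y ⟶ W}
    (hi : RepWith @IsClosedImmersion i) (hw : RepWith @IsClosedImmersion w) (h : a ≫ w = i) :
    RepWith @IsClosedImmersion a := by
  have := K600.Ideal.mono_of_isClosedImmersion hw
  exact MorphismProperty.of_isPullback (P := RepWith @IsClosedImmersion) (isPullback_of_mono a w i h) hi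

/-- For closed subspaces Y, Z of an algebraic space X with scheme theoretic union W (cut out by the
intersection of the two ideal sheaves) and scheme theoretic intersection V (cut out by their sum),
the inclusions Y ⟶ W and Z ⟶ W are closed immersions and the square V ⟶ Y, V ⟶ Z, Y ⟶ W, Z ⟶ W is
cocartesian among algebraic spaces over S (W = Y ⨿_V Z). (The published statement also gives the
short exact sequence 0 → O_W → O_Y × O_Z → O_V → 0; that clause is not stated here.) -/
theorem result {S : Scheme.{u}} {X Y Z W V : AlgSp.Space S} (iY : Y ⟶ X) (iZ : Z ⟶ X)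
    (w : W ⟶ X) (v : V ⟶ X) (I J K : AlgSp.IdealEt X.obj) (hI : I.IsQCoh) (hJ : J.IsQCoh)
    (hK : ∀ (E : AlgSp.EtOver X.obj) (hE : IsAffine E.obj.left.left), K.ideal E hE = I.ideal E hE ⊓ J.ideal E hE)
    (hY : AlgSp.IsCutOutBy I iY.hom) (hZ : AlgSp.IsCutOutBy J iZ.hom) (hW : AlgSp.IsCutOutBy K w.hom)
    (hV : AlgSp.IsCutOutBy (I ⊔ J) v.hom) (a : Y ⟶ W) (b : Z ⟶ W) (c : V ⟶ Y) (d : V ⟶ Z)
    (ha : a ≫ w = iY) (hb : b ≫ w = iZ) (hc : c ≫ iY = v) (hd : d ≫ iZ = v) :
    AlgSp.RepWith @IsClosedImmersion a.hom ∧ AlgSp.RepWith @IsClosedImmersion b.hom ∧ IsPushout c d a b := by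
  obtain ⟨hY, rfl⟩ := hY
  obtain ⟨hZ, rfl⟩ := hZ
  obtain ⟨hW, rfl⟩ := hW
  obtain ⟨hV, hV'⟩ := hV
  have ha' : a.hom ≫ w.hom = iY.hom := congrArg (fun z => z.hom) ha
  have hb' : b.hom ≫ w.hom = iZ.hom := congrArg (fun z => z.hom) hb
  have hc' : c.hom ≫ iY.hom = v.hom := congrArg (fun z => z.hom) hc
  have hd' : d.hom ≫ iZ.hom = v.hom := congrArg (fun z => z.hom) hd
  have D : K600.Union.Dat iY.hom iZ.hom v.hom w.hom c.hom d.hom a.hom b.hom :=
    { hX := X.property, hY := hY, hZ := hZ, hV := hV, hW := hW, hc := hc', hd := hd', ha := ha', hb := hb'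
      idW := hK
      idV := fun E hE => by rw [hV']; rfl }
  refine ⟨closed_of_factor hY hW ha', closed_of_factor hZ hW hb', ?_⟩
  have hw : c ≫ a = d ≫ b := ObjectProperty.hom_ext _ D.w
  refine ⟨⟨hw⟩, ⟨PushoutCocone.IsColimit.mk _
    (fun s => ObjectProperty.homMk (D.existsUnique_hom s.inl.hom s.inr.hom s.pt.property
      (congrArg (fun z => z.hom) s.condition)).choose) ?_ ?_ ?_⟩⟩
  · intro s
    exact ObjectProperty.hom_ext _ (D.existsUnique_hom s.inl.hom s.inr.hom s.pt.property
      (congrArg (fun z => z.hom) s.condition)).choose_spec.1.1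
  · intro s
    exact ObjectProperty.hom_ext _ (D.existsUnique_hom s.inl.hom s.inr.hom s.pt.property
      (congrArg (fun z => z.hom) s.condition)).choose_spec.1.2
  · intro s m h1 h2
    exact ObjectProperty.hom_ext _ ((D.existsUnique_hom s.inl.hom s.inr.hom s.pt.property
      (congrArg (fun z => z.hom) s.condition)).choose_spec.2 m.hom
        ⟨congrArg (fun z => z.hom) h1, congrArg (fun z => z.hom) h2⟩)

end Groth.Agent.S9996
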