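import Groth.Statements.S9997
import Groth.Agent.AlgSp.K600.Basic
-- import your own Groth.Agent.* helpers here

set_option autoImplicit false
universe u
open CategoryTheory CategoryTheory.Limits AlgebraicGeometry Opposite
open AlgSp

namespace Groth.Agent.S9997

theorem fg_of_lfp {Z X : Scheme.{u}} (f : Z ⟶ X) (hf : LocallyOfFinitePresentation f) [IsAffine X]
    [IsClosedImmersion f] : (RingHom.ker f.appTop.hom).FG := by
  have : IsAffine Z := isAffine_of_isAffineHom f
  have h1 : f.appTop.hom.FinitePresentation :=
    (HasRingHomProperty.iff_of_isAffine (P := @LocallyOfFinitePresentation)).1 hf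
  have h2 : Function.Surjective f.appTop.hom := (IsClosedImmersion.isAffine_surjective_of_isAffine (f := f)).2
  algebraize [f.appTop.hom]
  exact Algebra.FinitePresentation.ker_fG_of_surjective (Algebra.ofId Γ(X, ⊤) Γ(Z, ⊤)) h2

theorem lfp_of_fg {Z X : Scheme.{u}} (f : Z ⟶ X) (hf : (RingHom.ker f.appTop.hom).FG) [IsAffine X]
    [IsClosedImmersion f] : LocallyOfFinitePresentation f := by
  have : IsAffine Z := isAffine_of_isAffineHom f
  have h2 : Function.Surjective f.appTop.hom := (IsClosedImmersion.isAffine_surjective_of_isAffine (f := f)).2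
  exact (HasRingHomProperty.iff_of_isAffine (P := @LocallyOfFinitePresentation)).2
    (RingHom.FinitePresentation.of_surjective _ h2 hf)

/-- A closed immersion i : Z ⟶ X of algebraic spaces is (locally) of finite presentation if and only if
its sheaf of ideals is of finite type; finite type is rendered chart by chart, as finite generation
of the kernel ideal Ker(Γ(U, O_U) → Γ(Z ×_X U, O)) for every affine etale chart U of X (for a
quasi-coherent sheaf of ideals the two readings agree by descent of finite generation along etale
coverings). -/
theorem result {S : Scheme.{u}} {Z X : AlgSp.Space S} (i : Z ⟶ X)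
    (hi : AlgSp.RepWith @IsClosedImmersion i.hom) :
    AlgSp.LocP @LocallyOfFinitePresentation i.hom ↔
      ∀ (E : AlgSp.EtOver X.obj) (hE : IsAffine E.obj.left.left), ((AlgSp.idealOfRep hi.1).ideal E hE).FG := by
  constructor
  · intro h E hE
    have hc : IsClosedImmersion (EtOver.bcπ hi.1 E).left := K600.Basic.bcπ_mem hi E
    have hf : LocallyOfFinitePresentation (EtOver.bcπ hi.1 E).left :=
      h (EtOver.bcObj hi.1 E).obj.hom E.obj.hom (EtOver.bcπ hi.1 E) (EtOver.bcObj hi.1 E).property E.property
        (EtOver.isPullback_bcObj hi.1 E).w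
    exact fg_of_lfp _ hf
  · intro h U V a b g ha hb w
    let E : EtOver X.obj := EtOver.mk b hb
    obtain ⟨l, hl1, hl2⟩ := K600.Basic.exists_lift (EtOver.isPullback_bcObj hi.1 E) a g w
    have hl : Etale l.left := K600.Basic.etale_of_repWith ha (EtOver.bcObj hi.1 E).property l hl1
    have hf : LocallyOfFinitePresentation (EtOver.bcπ hi.1 E).left := by
      refine K600.Basic.of_openCover (P := @LocallyOfFinitePresentation) V.left.affineCover ?_
      intro j
      let V' : Over S := Over.mk (V.left.affineCover.f j ≫ V.hom)
      let k : V' ⟶ V := Over.homMk (V.left.affineCover.f j) rfl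
      have hk : Etale k.left := by change Etale (V.left.affineCover.f j); infer_instance
      let E' : EtOver X.obj := EtOver.mk ((yon S).map k ≫ b) (K600.Basic.repWith_comp_etale hb k)
      have hE' : IsAffine E'.obj.left.left := by
        change IsAffine (V.left.affineCover.X j); infer_instance
      have hc : IsClosedImmersion (EtOver.bcπ hi.1 E').left := K600.Basic.bcπ_mem hi E'
      have hp : LocallyOfFinitePresentation (EtOver.bcπ hi.1 E').left := lfp_of_fg _ (h E' hE')
      obtain ⟨m, hm, -, hsq⟩ := K600.Basic.isPullback_left (EtOver.isPullback_bcObj hi.1 E)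
        (EtOver.isPullback_bcObj hi.1 E')
      exact ⟨_, _, _, hsq, hp⟩
    rw [← hl2, Over.comp_left]
    infer_instance

end Groth.Agent.S9997
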