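import Groth.Statements.S9998
import Groth.Agent.AlgSp.K599.BCClosed
import Groth.Agent.AlgSp.K611.GeomPt
import Mathlib.CategoryTheory.Filtered.Final

set_option autoImplicit false
universe u
open CategoryTheory CategoryTheory.Limits AlgebraicGeometry Opposite
open AlgSp

namespace Groth.Agent.S9998

open K599.BCClosed K611

set_option backward.isDefEq.respectTransparency false

section

variable {S : Scheme.{u}} {Z X : Sp S} {i : Z ⟶ X} (hi : RepWith @IsClosedImmersion i) (z : FieldPt Z)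

/-- Base change of etale neighbourhoods. -/
noncomputable def nb (N : EtNbhd (z.map i)) : EtNbhd z :=
  ⟨(EtOver.bc hi.1).obj N.1,
    ⟨hi.1.lift z.toHom N.2.1 ((N.2.2.trans (FieldPt.toHom_map i z)).symm), hi.1.lift_fst _ _ _⟩⟩

theorem nb_fst (N : EtNbhd (z.map i)) :
    (yon S).map (nb hi z N).2.1 ≫ hi.1.fst N.1.obj.hom = z.toHom := hi.1.lift_fst _ _ _

theorem nb_snd (N : EtNbhd (z.map i)) : (nb hi z N).2.1 ≫ hi.1.snd N.1.obj.hom = N.2.1 := hi.1.lift_snd _ _ _

theorem nb_map {N N' : EtNbhd (z.map i)} (g : N ⟶ N') :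
    (nb hi z N).2.1 ≫ (EtOver.bcMap hi.1 g.1).hom.left = (nb hi z N').2.1 := by
  refine hi.1.hom_ext ?_ ?_
  · rw [Functor.map_comp, Category.assoc, EtOver.map_bcMap_fst]
    exact (nb_fst hi z N).trans (nb_fst hi z N').symm
  · rw [Category.assoc, EtOver.bcMap_snd, ← Category.assoc, nb_snd]
    exact (nbhdHom_w _ g).trans (nb_snd hi z N').symm

/-- Base change of etale neighbourhoods as a functor. -/
noncomputable def G : EtNbhd (z.map i) ⥤ EtNbhd z where
  obj := nb hi z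
  map g := ⟨(EtOver.bc hi.1).map g.1, Subtype.ext (nb_map hi z g)⟩
  map_id N := by
    apply Subtype.ext
    exact (EtOver.bc hi.1).map_id N.1
  map_comp g h := by
    apply Subtype.ext
    exact (EtOver.bc hi.1).map_comp g.1 h.1

/-- A morphism from a base change to a neighbourhood, at the level of sites, which respects the lift. -/
theorem exists_hom {N : EtNbhd (z.map i)} {M : EtNbhd z} (h : EtOver.bcObj hi.1 N.1 ⟶ M.1)
    (hh : (nb hi z N).2.1 ≫ h.hom.left = M.2.1) : ∃ k : (G hi z).obj N ⟶ M, k.1 = h :=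
  ⟨⟨h, Subtype.ext hh⟩, rfl⟩

/-- A lift of `z` to the base change of `V` gives a neighbourhood of the image point. -/
theorem exists_nbhd (V : EtOver X) (u : z.pt ⟶ (EtOver.bcObj hi.1 V).obj.left)
    (hu : (yon S).map u ≫ (EtOver.bcObj hi.1 V).obj.hom = z.toHom) :
    ∃ (l : (z.map i).pt ⟶ V.obj.left) (hl : (yon S).map l ≫ V.obj.hom = (z.map i).toHom),
      (nb hi z (⟨V, ⟨l, hl⟩⟩ : EtNbhd (z.map i))).2.1 = u ∧ l = u ≫ EtOver.bcπ hi.1 V := by
  have hl : (yon S).map (u ≫ EtOver.bcπ hi.1 V) ≫ V.obj.hom = z.toHom ≫ i := by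
    have e2 := (EtOver.isPullback_bcObj hi.1 V).w
    rw [Functor.map_comp, Category.assoc, ← e2, ← Category.assoc, hu]
  refine ⟨u ≫ EtOver.bcπ hi.1 V, hl.trans (FieldPt.toHom_map i z).symm, ?_, rfl⟩
  refine hi.1.hom_ext ?_ ?_
  · exact (nb_fst hi z _).trans hu.symm
  · exact nb_snd hi z _

theorem exists_obj (hX : IsAlgSpace X) (hz : IsSepClosed z.K) (M : EtNbhd z) :
    ∃ N : EtNbhd (z.map i), Nonempty ((G hi z).obj N ⟶ M) := by
  obtain ⟨U, p, hp, hps⟩ := hX.atlas
  choose V h v hv using fun x : M.1.obj.left.left => exists_bc_lift hi hp hps M.1 x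
  obtain ⟨x, u, hu⟩ := exists_lift_of_cover z hz M (fun x => EtOver.bcObj hi.1 (V x)) h (fun x => ⟨x, v x, hv x⟩)
  -- the neighbourhood `V x` of the image point
  have hu1 : u.1 ≫ (h x).hom.left = M.2.1 := congrArg Subtype.val hu
  obtain ⟨l, hl, hN, -⟩ := exists_nbhd hi z (V x) u.1 u.2
  obtain ⟨k, -⟩ := exists_hom hi z (N := ⟨V x, ⟨l, hl⟩⟩) (M := M) (h x) (by rw [hN]; exact hu1)
  exact ⟨_, ⟨k⟩⟩

theorem exists_eq (hX : IsAlgSpace X) (hz : IsSepClosed z.K) {M : EtNbhd z}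
    {N : EtNbhd (z.map i)} (a b : (G hi z).obj N ⟶ M) :
    ∃ (N' : EtNbhd (z.map i)) (t : N' ⟶ N), (G hi z).map t ≫ a = (G hi z).map t ≫ b := by
  obtain ⟨M', c, hc⟩ := exists_nbhd_eq z a b
  obtain ⟨N₁, ⟨d⟩⟩ := exists_obj hi z hX hz M'
  obtain ⟨W, e, f, he, hef⟩ := exists_almost_full hi N₁.1 N.1 (d.1 ≫ c.1)
  -- the lift of the point to `W`
  have hs : (nb hi z N₁).2.1 ≫ (d.1 ≫ c.1).hom.left = (nb hi z N).2.1 :=
    nbhdHom_w z (d ≫ c)
  obtain ⟨l₀, hl₀⟩ : ∃ l₀ : z.pt ⟶ (EtOver.bcObj hi.1 W).obj.left,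
      l₀ ≫ (EtOver.bcMap hi.1 e).hom.left = (nb hi z N₁).2.1 := by
    refine ⟨(nb hi z N₁).2.1 ≫ (inv (EtOver.bcMap hi.1 e)).hom.left, ?_⟩
    have : (inv (EtOver.bcMap hi.1 e)).hom.left ≫ (EtOver.bcMap hi.1 e).hom.left = 𝟙 _ :=
      congrArg (fun k => k.hom.left) (IsIso.inv_hom_id (EtOver.bcMap hi.1 e))
    rw [Category.assoc, this]
    exact Category.comp_id _
  have hl₀' : (yon S).map l₀ ≫ (EtOver.bcObj hi.1 W).obj.hom = z.toHom := by
    rw [← EtOver.w (EtOver.bcMap hi.1 e), ← Category.assoc, ← Functor.map_comp, hl₀]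
    exact nb_fst hi z N₁
  obtain ⟨l, hl, -, hl2⟩ := exists_nbhd hi z W l₀ hl₀'
  have h1 : l ≫ f.hom.left = N.2.1 := by
    have e4 : l₀ ≫ (EtOver.bcMap hi.1 f).hom.left = (nb hi z N).2.1 := by
      rw [← hs, ← hl₀, ← hef, Category.assoc]; rfl
    have e5 : l ≫ f.hom.left = l₀ ≫ (EtOver.bcMap hi.1 f).hom.left ≫ hi.1.snd N.1.obj.hom := by
      rw [EtOver.bcMap_snd, ← Category.assoc]
      exact congrArg (· ≫ f.hom.left) hl2
    refine e5.trans ?_
    rw [← Category.assoc, e4]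
    exact nb_snd hi z N
  refine ⟨⟨W, ⟨l, hl⟩⟩, ⟨f, Subtype.ext h1⟩, ?_⟩
  apply Subtype.ext
  change EtOver.bcMap hi.1 f ≫ a.1 = EtOver.bcMap hi.1 f ≫ b.1
  have hc' : c.1 ≫ a.1 = c.1 ≫ b.1 := congrArg Subtype.val hc
  rw [← hef, Category.assoc, Category.assoc, Category.assoc, Category.assoc, hc']

theorem initial_G (hX : IsAlgSpace X) (hz : IsSepClosed z.K) : (G hi z).Initial := by
  have : IsCofiltered (EtNbhd (z.map i)) := isCofiltered_etNbhd (z.map i) hX hz
  exact Functor.initial_of_exists_of_isCofiltered _ (exists_obj hi z hX hz)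
    (fun a b => exists_eq hi z hX hz a b)

end

/-- For a closed immersion i : Z ⟶ X of algebraic spaces over S, a geometric point z of Z and a sheaf of
sets F on the small etale site of Z, the stalk of i_* F at the image point of z is the stalk of F at
z: the map sending the germ at an etale neighbourhood (U, u) of the image point of a section s ∈
(i_* F)(U) = F(U ×_X Z) to the germ of s at the neighbourhood (U ×_X Z, lift of u) of z is a well
defined bijection. (The published statement writes the two stalks with their subscripts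
interchanged; the stalk of i_* F is taken at the point of X and that of F at the point of Z, the
only meaningful reading.) -/
theorem result {S : Scheme.{u}} {Z X : AlgSp.Space S} (i : Z ⟶ X)
    (hi : AlgSp.RepWith @IsClosedImmersion i.hom) (z : AlgSp.FieldPt Z.obj) (hz : z.IsGeometric)
    (F : AlgSp.EtSh Z.obj (Type (u + 1))) :
    ∃ φ : AlgSp.stalkEt (z.map i.hom) ((AlgSp.pushEt hi.1 (Type (u + 1))).obj F) ≃ AlgSp.stalkEt z F,
      ∀ (N : AlgSp.EtNbhd (z.map i.hom)) (s : F.obj.obj (op ((AlgSp.EtOver.bc hi.1).obj N.1))),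
        φ (AlgSp.stalkEtι (z.map i.hom) ((AlgSp.pushEt hi.1 (Type (u + 1))).obj F) N s) =
          AlgSp.stalkEtι z F ⟨(AlgSp.EtOver.bc hi.1).obj N.1,
            ⟨hi.1.lift z.toHom N.2.1 ((N.2.2.trans (AlgSp.FieldPt.toHom_map i.hom z)).symm),
              hi.1.lift_fst _ _ _⟩⟩ s := by
  have hini : (G hi z).Initial := initial_G hi z X.property (by have : IsAlgClosed z.K := hz; infer_instance)
  let φ : AlgSp.stalkEt (z.map i.hom) ((AlgSp.pushEt hi.1 (Type (u + 1))).obj F) ≅ AlgSp.stalkEt z F :=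
    Functor.Final.colimitIso (G hi z).op (AlgSp.stalkEtDiagram z F)
  refine ⟨φ.toEquiv, fun N s => ?_⟩
  have h := Functor.Final.ι_colimitIso_hom (G hi z).op (AlgSp.stalkEtDiagram z F) (op N)
  exact ConcreteCategory.congr_hom h s

end Groth.Agent.S9998
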